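import Mathlib

set_option autoImplicit false

namespace Cfsg.Agent.Lead

/-- Conjugation by a normalizing element as an automorphism of the subgroup. -/
def conjAut {G : Type*} [Group G] (C : Subgroup G) (d : G) (hd : d ∈ Subgroup.normalizer (C : Set G)) :
    MulAut C where
  toFun c := ⟨d * c * d⁻¹, (Subgroup.mem_normalizer_iff.mp hd c).mp c.2⟩
  invFun c := ⟨d⁻¹ * c * d, by
    apply (Subgroup.mem_normalizer_iff.mp hd (d⁻¹ * c * d)).mpr
    have : d * (d⁻¹ * ↑c * d) * d⁻¹ = c := by group
    rw [this]; exact c.2⟩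
  left_inv c := by ext; simp [mul_assoc]
  right_inv c := by ext; simp [mul_assoc]
  map_mul' a b := by ext; simp [mul_assoc]

@[simp] theorem conjAut_apply {G : Type*} [Group G] (C : Subgroup G) (d : G)
    (hd : d ∈ Subgroup.normalizer (C : Set G)) (c : C) :
    ((conjAut C d hd c : C) : G) = d * c * d⁻¹ := rfl

theorem conjAut_pow_apply {G : Type*} [Group G] (C : Subgroup G) (d : G)
    (hd : d ∈ Subgroup.normalizer (C : Set G)) (n : ℕ) (c : C) :
    (((conjAut C d hd) ^ n) c : G) = d ^ n * c * (d ^ n)⁻¹ := by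
  induction n generalizing c with
  | zero => simp
  | succ n ih =>
    rw [pow_succ, MulAut.mul_apply, ih, conjAut_apply, pow_succ]
    group

theorem orderOf_conjAut_dvd {G : Type*} [Group G] (C : Subgroup G) (d : G)
    (hd : d ∈ Subgroup.normalizer (C : Set G)) : orderOf (conjAut C d hd) ∣ orderOf d := by
  apply orderOf_dvd_of_pow_eq_one
  ext c
  rw [conjAut_pow_apply, pow_orderOf_eq_one]
  simp

/-- Conjugation as a homomorphism from the normalizer of `Q` to `Aut(Q)`. -/
def conjAutHom {G : Type*} [Group G] (Q : Subgroup G) :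
    Subgroup.normalizer (Q : Set G) →* MulAut Q where
  toFun n := conjAut Q n.1 n.2
  map_one' := by
    ext x
    simp
  map_mul' a b := by
    ext x
    simp [mul_assoc]

@[simp] theorem conjAutHom_apply {G : Type*} [Group G] (Q : Subgroup G)
    (n : Subgroup.normalizer (Q : Set G)) (x : Q) :
    ((conjAutHom Q n x : Q) : G) = n.1 * x * n.1⁻¹ := rfl

theorem mem_ker_conjAutHom {G : Type*} [Group G] (Q : Subgroup G)
    (n : Subgroup.normalizer (Q : Set G)) :
    n ∈ (conjAutHom Q).ker ↔ n.1 ∈ Subgroup.centralizer (Q : Set G) := by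
  rw [MonoidHom.mem_ker, Subgroup.mem_centralizer_iff]
  constructor
  · intro h x hx
    have := congrArg (fun α : MulAut Q => ((α ⟨x, hx⟩ : Q) : G)) h
    simp only [conjAutHom_apply, MulAut.one_apply] at this
    calc x * n.1 = (n.1 * x * n.1⁻¹) * n.1 := by rw [this]
      _ = n.1 * x := by group
  · intro h
    ext x
    simp only [conjAutHom_apply, MulAut.one_apply]
    rw [← h x.1 x.2]; group

end Cfsg.Agent.Lead
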