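import Mathlib
import Cfsg.Prelude.Def_FusionSystem
import Cfsg.Agent.Lead.ConjAutDef

set_option autoImplicit false

namespace Cfsg.Agent.Lead

open Cfsg

variable {G : Type*} [Group G]

/-- If conjugation by `g` induces an automorphism `α` of `Q`, then `g` normalizes `Q`. -/
theorem mem_normalizer_of_conj_eq_aut (Q : Subgroup G) (α : MulAut Q) (g : G)
    (h : ∀ x : Q, ((α x : Q) : G) = g * x * g⁻¹) : g ∈ Subgroup.normalizer (Q : Set G) := by
  rw [Subgroup.mem_normalizer_iff]
  intro x
  constructor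
  · intro hx
    rw [← h ⟨x, hx⟩]
    exact (α ⟨x, hx⟩).2
  · intro hx
    obtain ⟨y, hy⟩ := α.surjective ⟨g * x * g⁻¹, hx⟩
    have h1 : ((α y : Q) : G) = g * x * g⁻¹ := congrArg Subtype.val hy
    rw [h y] at h1
    have h2 : (y : G) = x := by
      have := congrArg (fun z => g⁻¹ * z * g) h1
      simpa [mul_assoc] using this
    rw [← h2]; exact y.2

/-- `Aut_K(Q)` is the image of `N_K(Q)` under the conjugation homomorphism. -/
theorem autInducedBy_eq_map (K Q : Subgroup G) :
    autInducedBy K Q =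
      ((K ⊓ Subgroup.normalizer (Q : Set G)).subgroupOf (Subgroup.normalizer (Q : Set G))).map
        (conjAutHom Q) := by
  apply le_antisymm
  · rw [autInducedBy, Subgroup.closure_le]
    rintro α ⟨g, hgK, hg⟩
    have hgN := mem_normalizer_of_conj_eq_aut Q α g hg
    refine ⟨⟨g, hgN⟩, ?_, ?_⟩
    · rw [SetLike.mem_coe, Subgroup.mem_subgroupOf]
      exact ⟨hgK, hgN⟩
    · ext x
      rw [hg x]
      rfl
  · rintro _ ⟨n, hn, rfl⟩
    rw [SetLike.mem_coe, Subgroup.mem_subgroupOf] at hn
    apply Subgroup.subset_closure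
    exact ⟨n.1, hn.1, fun x => rfl⟩

end Cfsg.Agent.Lead
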