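import Mathlib
import Cfsg.Prelude.Def_FusionSystem

set_option autoImplicit false

namespace Cfsg.Agent.Lead

open Cfsg Cfsg.FusionSystem

variable {Ω : Type*} [Group Ω] {S : Subgroup Ω}

/-- The source of a map of the system lies in `S`. -/
theorem Fusion.src_le (F : FusionSystem S) {P : Subgroup Ω} {φ : P →* Ω} (h : φ ∈ F.Hom P) : P ≤ S :=
  (F.le_of_mem h).1

theorem Fusion.map_mem (F : FusionSystem S) {P : Subgroup Ω} {φ : P →* Ω} (h : φ ∈ F.Hom P) (x : P) :
    φ x ∈ S := (F.le_of_mem h).2 x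

theorem Fusion.range_le (F : FusionSystem S) {P : Subgroup Ω} {φ : P →* Ω} (h : φ ∈ F.Hom P) :
    φ.range ≤ S := by
  rintro _ ⟨x, rfl⟩
  exact Fusion.map_mem F h x

/-- The inclusion of a subgroup of `S` is a map of the system. -/
theorem Fusion.subtype_mem (F : FusionSystem S) {P : Subgroup Ω} (hP : P ≤ S) : P.subtype ∈ F.Hom P := by
  have h := F.conj_mem (P := P) (g := 1) hP S.one_mem
  have : conjHom P 1 = P.subtype := by
    ext x
    simp [conjHom]
  rwa [this] at h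

/-- Restriction of a map of the system to a smaller subgroup. -/
theorem Fusion.restrict_mem (F : FusionSystem S) {P R : Subgroup Ω} {φ : P →* Ω} (h : φ ∈ F.Hom P)
    (hRP : R ≤ P) : φ.comp (Subgroup.inclusion hRP) ∈ F.Hom R := by
  have hR : R ≤ S := hRP.trans (Fusion.src_le F h)
  have h1 := Fusion.subtype_mem F hR
  have h2 := F.comp_mem h1 h (fun x => hRP x.2)
  exact h2

/-- `C_S(Q)` lies in the extender `N_ψ` of any map `ψ` with source `Q`. -/
theorem Fusion.centralizerIn_le_extender (Q : Subgroup Ω) (ψ : Q →* Ω) :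
    centralizerIn S Q ≤ extender S Q ψ := by
  intro g hg
  apply Subgroup.subset_closure
  obtain ⟨hgS, hgC⟩ := hg
  refine ⟨hgS, ?_, 1, S.one_mem, ?_⟩
  · rw [Subgroup.mem_normalizer_iff]
    intro x
    have hcomm : ∀ y ∈ Q, g * y * g⁻¹ = y := by
      intro y hy
      have := hgC y hy
      rw [← this]; group
    constructor
    · intro hx
      rw [hcomm x hx]; exact hx
    · intro hx
      have := hcomm _ hx
      have h2 : x = g⁻¹ * (g * x * g⁻¹) * g := by group
      have h3 : g⁻¹ * (g * x * g⁻¹) * g = g * x * g⁻¹ := by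
        have h4 : g * (g * x * g⁻¹) * g⁻¹ = g * x * g⁻¹ := this
        calc g⁻¹ * (g * x * g⁻¹) * g = g⁻¹ * (g * (g * x * g⁻¹) * g⁻¹) * g := by rw [h4]
          _ = g * x * g⁻¹ := by group
      rw [h2, h3]; exact hx
  · intro x hx
    have hcomm : g * (x : Ω) * g⁻¹ = x := by
      have := hgC x x.2
      rw [← this]; group
    have : (⟨g * x * g⁻¹, hx⟩ : Q) = x := Subtype.ext hcomm
    rw [this]; simp

/-- The source `Q ≤ S` of a map `ψ` with values in `S` lies in its extender. -/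
theorem Fusion.le_extender (Q : Subgroup Ω) (hQ : Q ≤ S) (ψ : Q →* Ω) (hψ : ∀ x, ψ x ∈ S) :
    Q ≤ extender S Q ψ := by
  intro g hg
  apply Subgroup.subset_closure
  refine ⟨hQ hg, Subgroup.le_normalizer hg, ψ ⟨g, hg⟩, hψ _, ?_⟩
  intro x hx
  have : (⟨g * x * g⁻¹, hx⟩ : Q) = ⟨g, hg⟩ * x * ⟨g, hg⟩⁻¹ := rfl
  rw [this, map_mul, map_mul, map_inv]

/-- A homomorphism out of `P ⊔ Q` takes values in a subgroup `T` as soon as it does so on `P` and on `Q`. -/
theorem Fusion.sup_map_mem {P Q : Subgroup Ω} (ψ : ↥(P ⊔ Q) →* Ω) (T : Subgroup Ω)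
    (hP : ∀ x : P, ψ (Subgroup.inclusion le_sup_left x) ∈ T)
    (hQ : ∀ x : Q, ψ (Subgroup.inclusion le_sup_right x) ∈ T) (x : ↥(P ⊔ Q)) : ψ x ∈ T := by
  have h : (P ⊔ Q).subgroupOf (P ⊔ Q) ≤ T.comap ψ := by
    rw [Subgroup.subgroupOf_sup le_sup_left le_sup_right]
    apply sup_le
    · intro y hy
      rw [Subgroup.mem_subgroupOf] at hy
      rw [Subgroup.mem_comap]
      exact hP ⟨y.1, hy⟩
    · intro y hy
      rw [Subgroup.mem_subgroupOf] at hy
      rw [Subgroup.mem_comap]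
      exact hQ ⟨y.1, hy⟩
  have hx : x ∈ (P ⊔ Q).subgroupOf (P ⊔ Q) := by
    rw [Subgroup.mem_subgroupOf]; exact x.2
  exact h hx

/-- Two homomorphisms out of `P ⊔ Q` agreeing on `P` and on `Q` are equal. -/
theorem Fusion.sup_hom_ext {P Q : Subgroup Ω} {M : Type*} [Group M] (ψ ψ' : ↥(P ⊔ Q) →* M)
    (hP : ∀ x : P, ψ (Subgroup.inclusion le_sup_left x) = ψ' (Subgroup.inclusion le_sup_left x))
    (hQ : ∀ x : Q, ψ (Subgroup.inclusion le_sup_right x) = ψ' (Subgroup.inclusion le_sup_right x)) :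
    ψ = ψ' := by
  have h : (P ⊔ Q).subgroupOf (P ⊔ Q) ≤ ψ.eqLocus ψ' := by
    rw [Subgroup.subgroupOf_sup le_sup_left le_sup_right]
    apply sup_le
    · intro y hy
      rw [Subgroup.mem_subgroupOf] at hy
      exact hP ⟨y.1, hy⟩
    · intro y hy
      rw [Subgroup.mem_subgroupOf] at hy
      exact hQ ⟨y.1, hy⟩
  ext x
  have hx : x ∈ (P ⊔ Q).subgroupOf (P ⊔ Q) := by
    rw [Subgroup.mem_subgroupOf]; exact x.2
  exact h hx

end Cfsg.Agent.Lead
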