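import Mathlib
import Cfsg.Prelude.Def_FusionSystem
import Cfsg.Agent.Lead.Fusion

set_option autoImplicit false

namespace Cfsg.Agent.Lead

open Cfsg Cfsg.FusionSystem

variable {Ω : Type*} [Group Ω] {S : Subgroup Ω}

/-- For `P ≤ S`, the generating set of `Aut_F(P)` is already a subgroup. -/
theorem Fusion.mem_autGroup_iff (F : FusionSystem S) {P : Subgroup Ω} (hP : P ≤ S) (α : MulAut P) :
    α ∈ F.autGroup P ↔ P.subtype.comp α.toMonoidHom ∈ F.Hom P := by
  constructor
  · intro hα
    unfold FusionSystem.autGroup at hα
    induction hα using Subgroup.closure_induction with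
    | mem x hx => exact hx
    | one =>
      have : P.subtype.comp (1 : MulAut P).toMonoidHom = P.subtype := by
        ext x; rfl
      rw [this]
      exact Fusion.subtype_mem F hP
    | mul x y _ _ hx hy =>
      have h := F.comp_mem hy hx (fun z => (y z).2)
      have : P.subtype.comp (x * y).toMonoidHom =
          (P.subtype.comp x.toMonoidHom).comp
            ((P.subtype.comp y.toMonoidHom).codRestrict P (fun z => (y z).2)) := by
        ext z; rfl
      rw [this]; exact h
    | inv x _ hx =>
      obtain ⟨ψ, hψ, hinv⟩ := F.inv_mem hx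
      have hle : P ≤ (P.subtype.comp x.toMonoidHom).range := by
        intro y hy
        refine ⟨x⁻¹ ⟨y, hy⟩, ?_⟩
        show ((x (x⁻¹ ⟨y, hy⟩) : P) : Ω) = y
        simp
      have h := Fusion.restrict_mem F hψ hle
      have : P.subtype.comp (x⁻¹).toMonoidHom = ψ.comp (Subgroup.inclusion hle) := by
        ext y
        have h1 := hinv (x⁻¹ y)
        show ((x⁻¹ y : P) : Ω) = ψ ⟨y.1, hle y.2⟩
        rw [← h1]
        congr 1
        apply Subtype.ext
        show ((x (x⁻¹ y) : P) : Ω) = (y : Ω)
        simp
      rw [this]; exact h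
  · intro h
    exact Subgroup.subset_closure h

end Cfsg.Agent.Lead
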