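import Mathlib
import Cfsg.Prelude.Def_FusionSystem
import Cfsg.Agent.Lead.Fusion
import Cfsg.Agent.Lead.FusionAut
import Cfsg.Agent.Lead.AutInduced

set_option autoImplicit false

namespace Cfsg.Agent.Lead

open Cfsg Cfsg.FusionSystem

variable {Ω : Type*} [Group Ω] {S : Subgroup Ω}

/-- Composition of maps of the system, in a convenient form. -/
theorem Fusion.comp_mem' (F : FusionSystem S) {P Q : Subgroup Ω} {φ : P →* Ω} {ψ : Q →* Ω}
    (hφ : φ ∈ F.Hom P) (hψ : ψ ∈ F.Hom Q) (h : ∀ x : P, φ x ∈ Q) :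
    ∃ χ ∈ F.Hom P, ∀ x : P, χ x = ψ ⟨φ x, h x⟩ :=
  ⟨_, F.comp_mem hφ hψ h, fun _ => rfl⟩

theorem Fusion.isConj_refl (F : FusionSystem S) {P : Subgroup Ω} (hP : P ≤ S) : F.IsConj P P :=
  ⟨P.subtype, Fusion.subtype_mem F hP, Subgroup.range_subtype P⟩

/-- The inverse of a map of the system, as a map from a subgroup equal to the range. -/
theorem Fusion.exists_inv (F : FusionSystem S) {P Q : Subgroup Ω} {φ : P →* Ω}
    (hφ : φ ∈ F.Hom P) (hr : φ.range = Q) :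
    ∃ ψ ∈ F.Hom Q, (∀ x : P, ∀ h : φ x ∈ Q, ψ ⟨φ x, h⟩ = (x : Ω)) ∧ ψ.range = P := by
  subst hr
  obtain ⟨ψ, hψ, hinv⟩ := F.inv_mem hφ
  refine ⟨ψ, hψ, fun x h => hinv x, ?_⟩
  ext y
  constructor
  · rintro ⟨⟨_, x, rfl⟩, rfl⟩
    rw [hinv x]; exact x.2
  · intro hy
    exact ⟨⟨φ ⟨y, hy⟩, ⟨_, rfl⟩⟩, hinv ⟨y, hy⟩⟩

theorem Fusion.isConj_symm (F : FusionSystem S) {P Q : Subgroup Ω} (h : F.IsConj P Q) :
    F.IsConj Q P := by
  obtain ⟨φ, hφ, hr⟩ := h
  obtain ⟨ψ, hψ, -, hr'⟩ := Fusion.exists_inv F hφ hr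
  exact ⟨ψ, hψ, hr'⟩

theorem Fusion.isConj_trans (F : FusionSystem S) {P Q R : Subgroup Ω} (h₁ : F.IsConj P Q)
    (h₂ : F.IsConj Q R) : F.IsConj P R := by
  obtain ⟨φ, hφ, hr⟩ := h₁
  obtain ⟨ψ, hψ, hr'⟩ := h₂
  have h : ∀ x : P, φ x ∈ Q := fun x => hr ▸ ⟨x, rfl⟩
  refine ⟨_, F.comp_mem hφ hψ h, ?_⟩
  ext y
  constructor
  · rintro ⟨x, rfl⟩
    rw [← hr']
    exact ⟨_, rfl⟩
  · intro hy
    rw [← hr'] at hy
    obtain ⟨q, rfl⟩ := hy
    have hq : (q : Ω) ∈ φ.range := hr ▸ q.2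
    obtain ⟨x, hx⟩ := hq
    refine ⟨x, ?_⟩
    show ψ ⟨φ x, h x⟩ = ψ q
    congr 1
    exact Subtype.ext hx

theorem Fusion.isConj_src_le (F : FusionSystem S) {P Q : Subgroup Ω} (h : F.IsConj P Q) : P ≤ S := by
  obtain ⟨φ, hφ, -⟩ := h
  exact Fusion.src_le F hφ

theorem Fusion.isConj_tgt_le (F : FusionSystem S) {P Q : Subgroup Ω} (h : F.IsConj P Q) : Q ≤ S := by
  obtain ⟨φ, hφ, hr⟩ := h
  rw [← hr]
  exact Fusion.range_le F hφ

/-- An injective homomorphism with range `P` as an isomorphism onto `P`. -/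
noncomputable def Fusion.equivOfRange {Q P : Subgroup Ω} (φ : Q →* Ω) (hinj : Function.Injective φ)
    (hr : φ.range = P) : Q ≃* P :=
  (MonoidHom.ofInjective hinj).trans (MulEquiv.subgroupCongr hr)

@[simp] theorem Fusion.equivOfRange_coe {Q P : Subgroup Ω} (φ : Q →* Ω) (hinj : Function.Injective φ)
    (hr : φ.range = P) (x : Q) : ((Fusion.equivOfRange φ hinj hr x : P) : Ω) = φ x := rfl

theorem Fusion.map_equivOfRange_symm {Q P : Subgroup Ω} (φ : Q →* Ω) (hinj : Function.Injective φ)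
    (hr : φ.range = P) (y : P) : φ ((Fusion.equivOfRange φ hinj hr).symm y) = y := by
  have := Fusion.equivOfRange_coe φ hinj hr ((Fusion.equivOfRange φ hinj hr).symm y)
  rw [← this]
  simp

/-- The inverse isomorphism of a map of the system is a map of the system. -/
theorem Fusion.equivOfRange_symm_mem (F : FusionSystem S) {Q P : Subgroup Ω} {φ : Q →* Ω}
    (hφ : φ ∈ F.Hom Q) (hr : φ.range = P) :
    Q.subtype.comp (Fusion.equivOfRange φ (F.injective_of_mem hφ) hr).symm.toMonoidHom ∈ F.Hom P := by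
  obtain ⟨ψ, hψ, hinv, -⟩ := Fusion.exists_inv F hφ hr
  have : Q.subtype.comp (Fusion.equivOfRange φ (F.injective_of_mem hφ) hr).symm.toMonoidHom = ψ := by
    ext y
    set e := Fusion.equivOfRange φ (F.injective_of_mem hφ) hr
    have h1 := Fusion.map_equivOfRange_symm φ (F.injective_of_mem hφ) hr y
    have h2 := hinv (e.symm y) (h1 ▸ y.2)
    show ((e.symm y : Q) : Ω) = ψ y
    rw [← h2]
    congr 1
    exact Subtype.ext h1
  rw [this]; exact hψ

/-- Transport of an automorphism of the system along an isomorphism of the system. -/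
theorem Fusion.congr_mem_autGroup (F : FusionSystem S) {Q P : Subgroup Ω} {φ : Q →* Ω}
    (hφ : φ ∈ F.Hom Q) (hr : φ.range = P) (α : MulAut Q) (hα : α ∈ F.autGroup Q) :
    MulAut.congr (Fusion.equivOfRange φ (F.injective_of_mem hφ) hr) α ∈ F.autGroup P := by
  have hQ : Q ≤ S := Fusion.src_le F hφ
  have hP : P ≤ S := hr ▸ Fusion.range_le F hφ
  rw [Fusion.mem_autGroup_iff F hQ] at hα
  rw [Fusion.mem_autGroup_iff F hP]
  set e := Fusion.equivOfRange φ (F.injective_of_mem hφ) hr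
  have h1 := Fusion.equivOfRange_symm_mem F hφ hr
  have h2 := F.comp_mem h1 hα (fun y => (e.symm y).2)
  have h3 := F.comp_mem h2 hφ (fun y => (α (e.symm y)).2)
  convert h3 using 1
  ext y
  rfl

end Cfsg.Agent.Lead
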