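import Mathlib

set_option autoImplicit false

namespace Cfsg.Agent.Lead

theorem card_lt_of_lt {G : Type*} [Group G] {H K : Subgroup G} [Finite K] (h : H < K) :
    Nat.card H < Nat.card K := by
  have h1 : Nat.card H = (H : Set G).ncard := (Nat.card_coe_set_eq _)
  have h2 : Nat.card K = (K : Set G).ncard := (Nat.card_coe_set_eq _)
  rw [h1, h2]
  apply Set.ncard_lt_ncard
  · exact SetLike.coe_ssubset_coe.mpr h
  · exact Set.toFinite _

end Cfsg.Agent.Lead
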