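import Mathlib

set_option autoImplicit false

namespace Cfsg.Agent.Lead

variable {G : Type*} [Group G]

theorem card_subgroupOf_of_le {H T : Subgroup G} (h : T ≤ H) :
    Nat.card (T.subgroupOf H) = Nat.card T :=
  Nat.card_congr (Subgroup.subgroupOfEquivOfLe h).toEquiv

theorem card_map_conj (H : Subgroup G) (g : G) :
    Nat.card (H.map (MulAut.conj g).toMonoidHom) = Nat.card H :=
  Subgroup.card_map_of_injective (MulAut.conj g).injective

theorem normalizer_map_conj (H : Subgroup G) (g : G) :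
    Subgroup.normalizer ((H.map (MulAut.conj g).toMonoidHom : Subgroup G) : Set G) =
      (Subgroup.normalizer (H : Set G)).map (MulAut.conj g).toMonoidHom :=
  (Subgroup.map_equiv_normalizer_eq H (MulAut.conj g)).symm

theorem centralizer_map_conj (H : Subgroup G) (g : G) :
    Subgroup.centralizer ((H.map (MulAut.conj g).toMonoidHom : Subgroup G) : Set G) =
      (Subgroup.centralizer (H : Set G)).map (MulAut.conj g).toMonoidHom := by
  ext x
  simp only [Subgroup.mem_centralizer_iff, Subgroup.mem_map, SetLike.mem_coe]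
  constructor
  · intro hx
    refine ⟨g⁻¹ * x * g, ?_, by simp [mul_assoc]⟩
    intro h hh
    have := hx (g * h * g⁻¹) ⟨h, hh, by simp⟩
    have e1 : h * (g⁻¹ * x * g) = g⁻¹ * (g * h * g⁻¹ * x) * g := by group
    have e2 : g⁻¹ * x * g * h = g⁻¹ * (x * (g * h * g⁻¹)) * g := by group
    rw [e1, e2, this]
  · rintro ⟨y, hy, rfl⟩ _ ⟨h, hh, rfl⟩
    have := hy h hh
    simp only [MulEquiv.coe_toMonoidHom, MulAut.conj_apply]
    have e1 : g * h * g⁻¹ * (g * y * g⁻¹) = g * (h * y) * g⁻¹ := by group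
    have e2 : g * y * g⁻¹ * (g * h * g⁻¹) = g * (y * h) * g⁻¹ := by group
    rw [e1, e2, this]

variable [Finite G] {p : ℕ} [Fact p.Prime]

/-- `T.subgroupOf H` is a Sylow `p`-subgroup of `H` iff `|T|` is the `p`-part of `|H|`. -/
theorem exists_sylow_eq_subgroupOf_iff (H T : Subgroup G) (hTH : T ≤ H) :
    (∃ R : Sylow p H, (R : Subgroup H) = T.subgroupOf H) ↔
      Nat.card T = p ^ (Nat.card H).factorization p := by
  constructor
  · rintro ⟨R, hR⟩
    rw [← card_subgroupOf_of_le hTH, ← hR]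
    exact R.card_eq_multiplicity
  · intro h
    rw [← card_subgroupOf_of_le hTH] at h
    exact ⟨Sylow.ofCard (T.subgroupOf H) h, rfl⟩

/-- The order of a `p`-subgroup of `H` divides the `p`-part of `|H|`. -/
theorem card_dvd_ppart_of_isPGroup {H U : Subgroup G} (hU : IsPGroup p U) (hUH : U ≤ H) :
    Nat.card U ∣ p ^ (Nat.card H).factorization p := by
  obtain ⟨k, hk⟩ := IsPGroup.iff_card.mp hU
  rw [hk]
  apply pow_dvd_pow
  have h1 : p ^ k ∣ Nat.card H := hk ▸ Subgroup.card_dvd_of_le hUH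
  exact (Nat.Prime.pow_dvd_iff_le_factorization (Fact.out) Nat.card_pos.ne').mp h1

theorem card_le_ppart_of_isPGroup {H U : Subgroup G} (hU : IsPGroup p U) (hUH : U ≤ H) :
    Nat.card U ≤ p ^ (Nat.card H).factorization p :=
  Nat.le_of_dvd (pow_pos (Fact.out (p := p.Prime)).pos _) (card_dvd_ppart_of_isPGroup hU hUH)

/-- Every `p`-subgroup is conjugate into a given Sylow `p`-subgroup. -/
theorem exists_conj_le_sylow (S : Sylow p G) (T : Subgroup G) (hT : IsPGroup p T) :
    ∃ g : G, T.map (MulAut.conj g).toMonoidHom ≤ S := by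
  obtain ⟨S', hS'⟩ := hT.exists_le_sylow
  obtain ⟨g, hg⟩ := MulAction.exists_smul_eq G S' S
  refine ⟨g, ?_⟩
  have h1 : ((g • S' : Sylow p G) : Subgroup G) = (S'.1).map (MulAut.conj g).toMonoidHom := by
    rw [Sylow.coe_subgroup_smul]
    rfl
  rw [← hg, h1]
  exact Subgroup.map_mono hS'

/-- Every `p`-subgroup of `H` lies in a subgroup of `H` whose order is the `p`-part of `|H|`. -/
theorem exists_le_card_eq_ppart {H U : Subgroup G} (hU : IsPGroup p U) (hUH : U ≤ H) :
    ∃ T : Subgroup G, U ≤ T ∧ T ≤ H ∧ IsPGroup p T ∧ Nat.card T = p ^ (Nat.card H).factorization p := by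
  have hU' : IsPGroup p (U.subgroupOf H) := hU.comap_subtype
  obtain ⟨R, hR⟩ := hU'.exists_le_sylow
  refine ⟨(R : Subgroup H).map H.subtype, ?_, ?_, ?_, ?_⟩
  · intro x hx
    exact ⟨⟨x, hUH hx⟩, hR (by rw [Subgroup.mem_subgroupOf]; exact hx), rfl⟩
  · rintro _ ⟨x, _, rfl⟩
    exact x.2
  · exact R.isPGroup'.map _
  · rw [Subgroup.card_map_of_injective H.subtype_injective]
    exact R.card_eq_multiplicity

theorem ppart_dvd_of_le {M H : Subgroup G} (h : M ≤ H) :
    p ^ (Nat.card M).factorization p ∣ p ^ (Nat.card H).factorization p := by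
  apply pow_dvd_pow
  have h1 : Nat.card M ∣ Nat.card H := Subgroup.card_dvd_of_le h
  exact (Nat.factorization_le_iff_dvd Nat.card_pos.ne' Nat.card_pos.ne').mpr h1 p

theorem card_eq_ppart_of_le {A M H : Subgroup G} (hAM : A ≤ M) (hMH : M ≤ H) (hA : IsPGroup p A)
    (hcard : Nat.card A = p ^ (Nat.card H).factorization p) :
    Nat.card A = p ^ (Nat.card M).factorization p := by
  apply Nat.dvd_antisymm (card_dvd_ppart_of_isPGroup hA hAM)
  rw [hcard]
  exact ppart_dvd_of_le hMH

/-- Sylow conjugacy inside a subgroup `M`: a `p`-subgroup `T` of `M` is conjugate under `M` into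
any subgroup `A` of `M` whose order is the `p`-part of `|M|`. -/
theorem exists_conj_le_of_card_eq_ppart {M A T : Subgroup G} (hAM : A ≤ M)
    (hA : Nat.card A = p ^ (Nat.card M).factorization p) (hTM : T ≤ M) (hT : IsPGroup p T) :
    ∃ m ∈ M, T.map (MulAut.conj m).toMonoidHom ≤ A := by
  have hA' : Nat.card (A.subgroupOf M) = p ^ (Nat.card M).factorization p := by
    rw [card_subgroupOf_of_le hAM]; exact hA
  obtain ⟨m, hm⟩ := exists_conj_le_sylow (Sylow.ofCard (A.subgroupOf M) hA') (T.subgroupOf M)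
    hT.comap_subtype
  refine ⟨m.1, m.2, ?_⟩
  rintro _ ⟨x, hx, rfl⟩
  have h1 : (⟨x, hTM hx⟩ : M) ∈ T.subgroupOf M := by
    rw [Subgroup.mem_subgroupOf]; exact hx
  have h2 : (MulAut.conj m).toMonoidHom ⟨x, hTM hx⟩ ∈ (T.subgroupOf M).map (MulAut.conj m).toMonoidHom :=
    ⟨_, h1, rfl⟩
  have h3 := hm h2
  have h4 : (MulAut.conj m).toMonoidHom (⟨x, hTM hx⟩ : M) ∈ A.subgroupOf M := h3
  rw [Subgroup.mem_subgroupOf] at h4
  exact h4

/-- A "Sylow" subgroup `A` of `N` meets a subgroup `C` normalized by `N` in a "Sylow" subgroup of `C`. -/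
theorem card_inf_eq_ppart_of_normal {A C N : Subgroup G} (hAN : A ≤ N) (hCN : C ≤ N)
    (hnorm : N ≤ Subgroup.normalizer (C : Set G)) (hA : IsPGroup p A)
    (hcard : Nat.card A = p ^ (Nat.card N).factorization p) :
    Nat.card ↥(A ⊓ C) = p ^ (Nat.card C).factorization p := by
  have hUp : IsPGroup p ↥(A ⊓ C) := hA.to_le inf_le_left
  obtain ⟨T, hUT, hTC, hTp, hTcard⟩ := exists_le_card_eq_ppart hUp (inf_le_right : A ⊓ C ≤ C)
  obtain ⟨m, hmN, hm⟩ := exists_conj_le_of_card_eq_ppart hAN hcard (hTC.trans hCN) hTp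
  have h1 : T.map (MulAut.conj m).toMonoidHom ≤ A ⊓ C := by
    apply le_inf hm
    rintro _ ⟨x, hx, rfl⟩
    exact (Subgroup.mem_normalizer_iff.mp (hnorm hmN) x).mp (hTC hx)
  have h2 : Nat.card T ≤ Nat.card ↥(A ⊓ C) := by
    rw [← card_map_conj T m]
    exact Subgroup.card_le_of_le h1
  have h3 : Nat.card ↥(A ⊓ C) ≤ Nat.card T := Subgroup.card_le_of_le hUT
  omega

end Cfsg.Agent.Lead
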