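import Mathlib
import Cfsg.Prelude.Def_FusionSystem
import Cfsg.Agent.Lead.Fusion
import Cfsg.Agent.Lead.FusionAut
import Cfsg.Agent.Lead.FusionConj
import Cfsg.Agent.Lead.AutInduced
import Cfsg.Agent.Lead.SylowLemmas

set_option autoImplicit false

namespace Cfsg.Agent.Lead

open Cfsg Cfsg.FusionSystem

variable {Ω : Type*} [Group Ω] {S : Subgroup Ω}

theorem mem_autInducedBy_iff (K P : Subgroup Ω) (α : MulAut P) :
    α ∈ autInducedBy K P ↔ ∃ g ∈ K, ∀ x : P, ((α x : P) : Ω) = g * (x : Ω) * g⁻¹ := by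
  constructor
  · intro h
    rw [autInducedBy_eq_map] at h
    obtain ⟨n, hn, rfl⟩ := h
    rw [SetLike.mem_coe, Subgroup.mem_subgroupOf] at hn
    exact ⟨n.1, hn.1, fun x => rfl⟩
  · intro h
    exact Subgroup.subset_closure h

theorem Fusion.autInducedBy_le_autGroup (F : FusionSystem S) {P : Subgroup Ω} (hP : P ≤ S) :
    autInducedBy S P ≤ F.autGroup P := by
  rw [autInducedBy, Subgroup.closure_le]
  rintro α ⟨g, hg, h⟩
  apply Subgroup.subset_closure
  show P.subtype.comp α.toMonoidHom ∈ F.Hom P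
  have := F.conj_mem (P := P) (g := g) hP hg
  convert this using 1
  ext x
  exact h x

theorem Fusion.isPGroup_autInducedBy (p : ℕ) (hS : IsPGroup p S) (P : Subgroup Ω) :
    IsPGroup p (autInducedBy S P) := by
  rw [autInducedBy_eq_map]
  apply IsPGroup.map
  apply IsPGroup.comap_subtype
  exact hS.to_le inf_le_left

theorem Fusion.conjAutHom_mem_autInducedBy (P : Subgroup Ω) (n : Subgroup.normalizer (P : Set Ω))
    (hn : n.1 ∈ S) : conjAutHom P n ∈ autInducedBy S P :=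
  Subgroup.subset_closure ⟨n.1, hn, fun _ => rfl⟩

theorem Fusion.finite_of_le [Finite S] {P : Subgroup Ω} (hP : P ≤ S) : Finite P :=
  Finite.of_injective (Subgroup.inclusion hP) (Subgroup.inclusion_injective hP)

/-- If `P` is fully automized and `Q` is conjugate to `P`, some isomorphism `ψ : Q → P` of the system
has `N_ψ ⊇ N_S(Q)`. -/
theorem Fusion.exists_hom_normalizerIn_le_extender [Finite S] (p : ℕ) [Fact p.Prime]
    (hS : IsPGroup p S) (F : FusionSystem S) {P Q : Subgroup Ω} (h₁ : F.IsFullyAutomized p P)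
    (hQ : F.IsConj Q P) :
    ∃ ψ ∈ F.Hom Q, ψ.range = P ∧ normalizerIn S Q ≤ extender S Q ψ := by
  obtain ⟨φ, hφ, hr⟩ := hQ
  have hP : P ≤ S := h₁.1
  obtain ⟨R, hR⟩ := h₁.2
  have hQS : Q ≤ S := Fusion.src_le F hφ
  have : Finite P := Fusion.finite_of_le hP
  have : Finite (MulAut P) := inferInstance
  set e := Fusion.equivOfRange φ (F.injective_of_mem hφ) hr with he
  have hle : autInducedBy S P ≤ F.autGroup P := Fusion.autInducedBy_le_autGroup F hP
  have hcard : Nat.card (autInducedBy S P) = p ^ (Nat.card (F.autGroup P)).factorization p := by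
    rw [← R.card_eq_multiplicity, ← card_subgroupOf_of_le hle, ← hR]
  set T : Subgroup (MulAut P) :=
    ((normalizerIn S Q).subgroupOf (Subgroup.normalizer (Q : Set Ω))).map
      ((MulAut.congr e).toMonoidHom.comp (conjAutHom Q)) with hTdef
  have hT : IsPGroup p T := ((hS.to_le inf_le_left).comap_subtype).map _
  have hTA : T ≤ F.autGroup P := by
    rintro _ ⟨n, hn, rfl⟩
    rw [SetLike.mem_coe, Subgroup.mem_subgroupOf] at hn
    apply Fusion.congr_mem_autGroup F hφ hr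
    exact Fusion.autInducedBy_le_autGroup F hQS (Fusion.conjAutHom_mem_autInducedBy Q n hn.1)
  obtain ⟨χ, hχA, hχ⟩ := exists_conj_le_of_card_eq_ppart (p := p) hle hcard hTA hT
  have hφP : ∀ x : Q, φ x ∈ P := fun x => hr ▸ ⟨x, rfl⟩
  have hχ' := (Fusion.mem_autGroup_iff F hP χ).mp hχA
  have hψ := F.comp_mem hφ hχ' hφP
  set ψ : Q →* Ω := (P.subtype.comp χ.toMonoidHom).comp (φ.codRestrict P hφP) with hψdef
  have hψx : ∀ x : Q, ψ x = ((χ (e x) : P) : Ω) := fun x => rfl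
  refine ⟨ψ, hψ, ?_, ?_⟩
  · ext y
    constructor
    · rintro ⟨x, rfl⟩
      rw [hψx]; exact (χ (e x)).2
    · intro hy
      refine ⟨e.symm (χ.symm ⟨y, hy⟩), ?_⟩
      rw [hψx]
      simp
  · intro g hg
    apply Subgroup.subset_closure
    have hgS : g ∈ S := (Subgroup.mem_inf.mp hg).1
    have hgN : g ∈ Subgroup.normalizer (Q : Set Ω) := (Subgroup.mem_inf.mp hg).2
    refine ⟨hgS, hgN, ?_⟩
    set n : Subgroup.normalizer (Q : Set Ω) := ⟨g, hgN⟩ with hn
    set β : MulAut P := MulAut.congr e (conjAutHom Q n) with hβ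
    have hβT : β ∈ T := by
      refine ⟨n, ?_, rfl⟩
      rw [SetLike.mem_coe, Subgroup.mem_subgroupOf]
      exact hg
    have h1 : (MulAut.conj χ) β ∈ autInducedBy S P := hχ ⟨β, hβT, rfl⟩
    rw [mem_autInducedBy_iff] at h1
    obtain ⟨h, hhS, hh⟩ := h1
    refine ⟨h, hhS, ?_⟩
    intro x hx
    have h2 := hh (χ (e x))
    rw [hψx, hψx, ← h2]
    rw [MulAut.conj_apply]
    simp only [MulAut.mul_apply, MulAut.inv_apply_self]
    rw [hβ]
    simp only [MulAut.congr_apply, MulEquiv.trans_apply, MulEquiv.symm_apply_apply]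
    rfl

/-- An element conjugating `P` into itself, together with its inverse, normalizes `P`. -/
theorem mem_normalizer_of_conj_mem {G : Type*} [Group G] (P : Subgroup G) (g : G)
    (h₁ : ∀ y ∈ P, g * y * g⁻¹ ∈ P) (h₂ : ∀ y ∈ P, g⁻¹ * y * g ∈ P) :
    g ∈ Subgroup.normalizer (P : Set G) := by
  rw [Subgroup.mem_normalizer_iff]
  intro y
  constructor
  · exact h₁ y
  · intro hy
    have := h₂ _ hy
    have h3 : g⁻¹ * (g * y * g⁻¹) * g = y := by group
    rwa [h3] at this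

theorem Fusion.le_normalizerIn {P : Subgroup Ω} (hP : P ≤ S) : P ≤ normalizerIn S P :=
  le_inf hP Subgroup.le_normalizer

/-- AKO I.2.6(c): if `P` is fully automized and receptive and `Q` is conjugate to `P`, there is a map
`N_S(Q) → N_S(P)` of the system carrying `Q` onto `P`. -/
theorem Fusion.exists_hom_normalizerIn [Finite S] (p : ℕ) [Fact p.Prime]
    (hS : IsPGroup p S) (F : FusionSystem S) {P Q : Subgroup Ω} (h₁ : F.IsFullyAutomized p P)
    (h₂ : F.IsReceptive P) (hQ : F.IsConj Q P) :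
    ∃ ρ ∈ F.Hom (normalizerIn S Q), (∀ x, ρ x ∈ normalizerIn S P) ∧
      (Q.subgroupOf (normalizerIn S Q)).map ρ = P := by
  obtain ⟨ψ, hψ, hr, hle⟩ := Fusion.exists_hom_normalizerIn_le_extender p hS F h₁ hQ
  obtain ⟨ψ', hψ', hext⟩ := h₂.2 Q ψ hψ hr
  have hQS : Q ≤ S := Fusion.src_le F hψ
  have hQN : Q ≤ normalizerIn S Q := Fusion.le_normalizerIn hQS
  have hρ := Fusion.restrict_mem F hψ' hle
  set ρ : ↥(normalizerIn S Q) →* Ω := ψ'.comp (Subgroup.inclusion hle) with hρdef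
  have hρQ : ∀ (q : Ω) (hq : q ∈ Q), ρ ⟨q, hQN hq⟩ = ψ ⟨q, hq⟩ := fun q hq =>
    hext q hq (hle (hQN hq))
  have hconj : ∀ (x : ↥(normalizerIn S Q)), ∀ y ∈ P, ρ x * y * (ρ x)⁻¹ ∈ P := by
    intro x y hy
    rw [← hr] at hy
    obtain ⟨q, rfl⟩ := hy
    have hxN : (x : Ω) ∈ Subgroup.normalizer (Q : Set Ω) := (Subgroup.mem_inf.mp x.2).2
    have hq' : (x : Ω) * q * (x : Ω)⁻¹ ∈ Q := (Subgroup.mem_normalizer_iff.mp hxN q).mp q.2
    have h1 : ρ x * ψ q * (ρ x)⁻¹ = ψ ⟨(x : Ω) * q * (x : Ω)⁻¹, hq'⟩ := by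
      rw [← hρQ q.1 q.2, ← hρQ _ hq', ← map_inv, ← map_mul, ← map_mul]
      rfl
    rw [h1, ← hr]
    exact ⟨_, rfl⟩
  refine ⟨ρ, hρ, ?_, ?_⟩
  · intro x
    refine Subgroup.mem_inf.mpr ⟨Fusion.map_mem F hρ x, ?_⟩
    apply mem_normalizer_of_conj_mem
    · exact hconj x
    · intro y hy
      have := hconj x⁻¹ y hy
      rwa [map_inv, inv_inv] at this
  · ext y
    constructor
    · rintro ⟨x, hx, rfl⟩
      rw [SetLike.mem_coe, Subgroup.mem_subgroupOf] at hx
      have := hρQ x.1 hx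
      rw [← hr]
      exact ⟨⟨x.1, hx⟩, this.symm⟩
    · intro hy
      rw [← hr] at hy
      obtain ⟨q, rfl⟩ := hy
      refine ⟨⟨q.1, hQN q.2⟩, ?_, hρQ q.1 q.2⟩
      rw [SetLike.mem_coe, Subgroup.mem_subgroupOf]
      exact q.2

end Cfsg.Agent.Lead
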