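import Mathlib
import Cfsg.Prelude.Def_FusionSystem
import Cfsg.Agent.Lead.Fusion
import Cfsg.Agent.Lead.FusionAut
import Cfsg.Agent.Lead.FusionConj
import Cfsg.Agent.Lead.FusionSat
import Cfsg.Agent.Lead.AutInduced
import Cfsg.Agent.Lead.SylowLemmas

set_option autoImplicit false

namespace Cfsg.Agent.Lead

open Cfsg Cfsg.FusionSystem

variable {Ω : Type*} [Group Ω] {S : Subgroup Ω}

theorem Fusion.centralizerIn_le_normalizerIn (P : Subgroup Ω) :
    centralizerIn S P ≤ normalizerIn S P :=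
  inf_le_inf_left S (Subgroup.centralizer_le_normalizer _)

theorem exists_max_of_bddAbove {α : Type*} (s : Set α) (hne : s.Nonempty) (f : α → ℕ) (B : ℕ)
    (hB : ∀ a ∈ s, f a ≤ B) : ∃ a ∈ s, ∀ b ∈ s, f b ≤ f a := by
  let C : Set ℕ := f '' s
  have hCne : C.Nonempty := hne.image _
  have hCbdd : BddAbove C := by
    refine ⟨B, ?_⟩
    rintro _ ⟨a, ha, rfl⟩
    exact hB a ha
  obtain ⟨a, ha, hacard⟩ := Nat.sSup_mem hCne hCbdd
  refine ⟨a, ha, fun b hb => ?_⟩
  have h' : f a = sSup C := hacard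
  rw [h']
  exact le_csSup hCbdd ⟨b, hb, rfl⟩

/-- Every subgroup of `S` is conjugate in the system to a fully normalized subgroup. -/
theorem Fusion.exists_isConj_fullyNormalized [Finite S] (F : FusionSystem S) {P : Subgroup Ω}
    (hP : P ≤ S) : ∃ Q, F.IsConj P Q ∧ F.IsFullyNormalized Q := by
  obtain ⟨Q, hQ, hmax⟩ := exists_max_of_bddAbove {Q | F.IsConj P Q} ⟨P, Fusion.isConj_refl F hP⟩
    (fun Q => Nat.card (normalizerIn S Q)) (Nat.card S)
    (fun Q _ => Subgroup.card_le_of_le inf_le_left)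
  refine ⟨Q, hQ, Fusion.isConj_tgt_le F hQ, fun Q' hQ' => ?_⟩
  exact hmax Q' (Fusion.isConj_trans F hQ hQ')

/-- A fully automized receptive subgroup dominates its conjugates in normalizer and centralizer
order. -/
theorem Fusion.card_le_of_FAR [Finite S] (p : ℕ) [Fact p.Prime]
    (hS : IsPGroup p S) (F : FusionSystem S) {P Q : Subgroup Ω} (h₁ : F.IsFullyAutomized p P)
    (h₂ : F.IsReceptive P) (hQ : F.IsConj Q P) :
    Nat.card (normalizerIn S Q) ≤ Nat.card (normalizerIn S P) ∧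
      Nat.card (centralizerIn S Q) ≤ Nat.card (centralizerIn S P) := by
  obtain ⟨ρ, hρ, hρN, hρQ⟩ := Fusion.exists_hom_normalizerIn p hS F h₁ h₂ hQ
  have hinj := F.injective_of_mem hρ
  have : Finite (normalizerIn S P) := Fusion.finite_of_le (inf_le_left : normalizerIn S P ≤ S)
  have : Finite (centralizerIn S P) := Fusion.finite_of_le (inf_le_left : centralizerIn S P ≤ S)
  constructor
  · apply Nat.card_le_card_of_injective (fun x => (⟨ρ x, hρN x⟩ : normalizerIn S P))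
    intro x y hxy
    exact hinj (congrArg Subtype.val hxy)
  · have hCN : centralizerIn S Q ≤ normalizerIn S Q := Fusion.centralizerIn_le_normalizerIn Q
    have hmem : ∀ x : centralizerIn S Q, ρ ⟨x.1, hCN x.2⟩ ∈ centralizerIn S P := by
      intro x
      refine Subgroup.mem_inf.mpr ⟨Fusion.map_mem F hρ _, ?_⟩
      rw [Subgroup.mem_centralizer_iff]
      intro y hy
      rw [SetLike.mem_coe, ← hρQ] at hy
      obtain ⟨q, hq, rfl⟩ := hy
      rw [SetLike.mem_coe, Subgroup.mem_subgroupOf] at hq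
      rw [← map_mul, ← map_mul]
      congr 1
      apply Subtype.ext
      have hx := (Subgroup.mem_inf.mp x.2).2
      rw [Subgroup.mem_centralizer_iff] at hx
      exact hx q.1 hq
    apply Nat.card_le_card_of_injective (fun x => (⟨ρ ⟨x.1, hCN x.2⟩, hmem x⟩ : centralizerIn S P))
    intro x y hxy
    have h3 : (⟨x.1, hCN x.2⟩ : ↥(normalizerIn S Q)) = ⟨y.1, hCN y.2⟩ :=
      hinj (congrArg Subtype.val hxy)
    have h4 : (x : Ω) = (y : Ω) := congrArg (fun z : ↥(normalizerIn S Q) => (z : Ω)) h3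
    exact Subtype.ext h4

theorem Fusion.fullyNormalized_of_FAR [Finite S] (p : ℕ) [Fact p.Prime]
    (hS : IsPGroup p S) (F : FusionSystem S) {P : Subgroup Ω} (h₁ : F.IsFullyAutomized p P)
    (h₂ : F.IsReceptive P) : F.IsFullyNormalized P :=
  ⟨h₁.1, fun _ hQ => (Fusion.card_le_of_FAR p hS F h₁ h₂ (Fusion.isConj_symm F hQ)).1⟩

theorem Fusion.fullyCentralized_of_FAR [Finite S] (p : ℕ) [Fact p.Prime]
    (hS : IsPGroup p S) (F : FusionSystem S) {P : Subgroup Ω} (h₁ : F.IsFullyAutomized p P)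
    (h₂ : F.IsReceptive P) : F.IsFullyCentralized P :=
  ⟨h₁.1, fun _ hQ => (Fusion.card_le_of_FAR p hS F h₁ h₂ (Fusion.isConj_symm F hQ)).2⟩

/-- A map `ρ : N_S(Q) → Ω` of the system carrying `Q` onto `P` maps `C_S(Q)` into `C_S(P)`. -/
theorem Fusion.map_centralizerIn_mem (F : FusionSystem S) {P Q : Subgroup Ω}
    {ρ : ↥(normalizerIn S Q) →* Ω} (hρ : ρ ∈ F.Hom (normalizerIn S Q))
    (hρQ : (Q.subgroupOf (normalizerIn S Q)).map ρ = P) (x : Ω) (hx : x ∈ centralizerIn S Q) :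
    ρ ⟨x, Fusion.centralizerIn_le_normalizerIn Q hx⟩ ∈ centralizerIn S P := by
  refine Subgroup.mem_inf.mpr ⟨Fusion.map_mem F hρ _, ?_⟩
  rw [Subgroup.mem_centralizer_iff]
  intro y hy
  rw [SetLike.mem_coe, ← hρQ] at hy
  obtain ⟨q, hq, rfl⟩ := hy
  rw [SetLike.mem_coe, Subgroup.mem_subgroupOf] at hq
  rw [← map_mul, ← map_mul]
  congr 1
  apply Subtype.ext
  have hx' := (Subgroup.mem_inf.mp hx).2
  rw [Subgroup.mem_centralizer_iff] at hx'
  exact hx' q.1 hq

theorem Fusion.card_autGroup_le_of_isConj [Finite S] (F : FusionSystem S) {P Q : Subgroup Ω}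
    (h : F.IsConj P Q) : Nat.card (F.autGroup P) ≤ Nat.card (F.autGroup Q) := by
  obtain ⟨φ, hφ, hr⟩ := h
  have hQ : Q ≤ S := hr ▸ Fusion.range_le F hφ
  have : Finite Q := Fusion.finite_of_le hQ
  have : Finite (MulAut Q) := inferInstance
  set e := Fusion.equivOfRange φ (F.injective_of_mem hφ) hr
  apply Nat.card_le_card_of_injective
    (fun α : F.autGroup P => (⟨MulAut.congr e α.1, Fusion.congr_mem_autGroup F hφ hr α.1 α.2⟩ : F.autGroup Q))
  intro α β hαβ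
  have h1 : MulAut.congr e α.1 = MulAut.congr e β.1 := congrArg Subtype.val hαβ
  exact Subtype.ext ((MulAut.congr e).injective h1)

theorem Fusion.card_autGroup_eq_of_isConj [Finite S] (F : FusionSystem S) {P Q : Subgroup Ω}
    (h : F.IsConj P Q) : Nat.card (F.autGroup P) = Nat.card (F.autGroup Q) :=
  le_antisymm (Fusion.card_autGroup_le_of_isConj F h)
    (Fusion.card_autGroup_le_of_isConj F (Fusion.isConj_symm F h))

/-- In a saturated system, a fully normalized subgroup is fully centralized and fully automized. -/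
theorem Fusion.fullyCentralized_fullyAutomized_of_fullyNormalized [Finite S] (p : ℕ) [Fact p.Prime]
    (hS : IsPGroup p S) (F : FusionSystem S) (hsat : F.IsSaturated p) {P : Subgroup Ω}
    (hP : F.IsFullyNormalized P) : F.IsFullyCentralized P ∧ F.IsFullyAutomized p P := by
  obtain ⟨Q, hPQ, hQ₁, hQ₂⟩ := hsat P hP.1
  obtain ⟨ρ, hρ, hρN, hρP⟩ := Fusion.exists_hom_normalizerIn p hS F hQ₁ hQ₂ hPQ
  have hinj := F.injective_of_mem hρ
  have hcard : Nat.card (normalizerIn S Q) ≤ Nat.card (normalizerIn S P) := hP.2 Q hPQ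
  have hPS : P ≤ S := hP.1
  have hQS : Q ≤ S := hQ₁.1
  have hPN : P ≤ normalizerIn S P := Fusion.le_normalizerIn hPS
  have : Finite (normalizerIn S Q) := Fusion.finite_of_le (inf_le_left : normalizerIn S Q ≤ S)
  have : Finite (centralizerIn S P) := Fusion.finite_of_le (inf_le_left : centralizerIn S P ≤ S)
  have : Finite P := Fusion.finite_of_le hPS
  have : Finite Q := Fusion.finite_of_le hQS
  have : Finite (MulAut P) := inferInstance
  have : Finite (MulAut Q) := inferInstance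
  -- `ρ` is onto `N_S(Q)`
  have hsurj : ∀ y ∈ normalizerIn S Q, ∃ x, ρ x = y := by
    have hf : Function.Injective (fun x => (⟨ρ x, hρN x⟩ : normalizerIn S Q)) := by
      intro x y hxy
      exact hinj (congrArg Subtype.val hxy)
    have hbij := hf.bijective_of_nat_card_le hcard
    intro y hy
    obtain ⟨x, hx⟩ := hbij.2 ⟨y, hy⟩
    exact ⟨x, congrArg Subtype.val hx⟩
  have hρPmem : ∀ (y : Ω) (hy : y ∈ P), ρ ⟨y, hPN hy⟩ ∈ Q := by
    intro y hy
    rw [← hρP]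
    refine ⟨⟨y, hPN hy⟩, ?_, rfl⟩
    rw [SetLike.mem_coe, Subgroup.mem_subgroupOf]
    exact hy
  constructor
  · -- fully centralized
    refine ⟨hPS, fun Q' hPQ' => ?_⟩
    have h1 : Nat.card (centralizerIn S Q') ≤ Nat.card (centralizerIn S Q) :=
      (Fusion.card_le_of_FAR p hS F hQ₁ hQ₂
        (Fusion.isConj_trans F (Fusion.isConj_symm F hPQ') hPQ)).2
    refine h1.trans ?_
    have key : ∀ c : centralizerIn S Q, ∃ x : normalizerIn S P, ρ x = c.1 ∧
        x.1 ∈ centralizerIn S P := by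
      intro c
      obtain ⟨x, hx⟩ := hsurj c.1 (Fusion.centralizerIn_le_normalizerIn Q c.2)
      refine ⟨x, hx, Subgroup.mem_inf.mpr ⟨(Subgroup.mem_inf.mp x.2).1, ?_⟩⟩
      rw [Subgroup.mem_centralizer_iff]
      intro y hy
      have hc := (Subgroup.mem_inf.mp c.2).2
      rw [Subgroup.mem_centralizer_iff] at hc
      have h2 := hc _ (hρPmem y hy)
      rw [← hx, ← map_mul, ← map_mul] at h2
      have h3 := hinj h2
      exact congrArg Subtype.val h3
    choose g hg₁ hg₂ using key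
    apply Nat.card_le_card_of_injective (fun c => (⟨(g c).1, hg₂ c⟩ : centralizerIn S P))
    intro c c' hcc'
    have h2 : ((g c : ↥(normalizerIn S P)) : Ω) = (g c' : ↥(normalizerIn S P)) :=
      congrArg (fun z : ↥(centralizerIn S P) => (z : Ω)) hcc'
    have h3 : g c = g c' := Subtype.ext h2
    apply Subtype.ext
    rw [← hg₁ c, ← hg₁ c', h3]
  · -- fully automized
    refine ⟨hPS, ?_⟩
    have hleP : autInducedBy S P ≤ F.autGroup P := Fusion.autInducedBy_le_autGroup F hPS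
    have hleQ : autInducedBy S Q ≤ F.autGroup Q := Fusion.autInducedBy_le_autGroup F hQS
    rw [exists_sylow_eq_subgroupOf_iff _ _ hleP]
    have hQcard := (exists_sylow_eq_subgroupOf_iff (p := p) _ _ hleQ).mp hQ₁.2
    have hdvd : Nat.card (autInducedBy S P) ∣ p ^ (Nat.card (F.autGroup P)).factorization p :=
      card_dvd_ppart_of_isPGroup (Fusion.isPGroup_autInducedBy p hS P) hleP
    rw [Fusion.card_autGroup_eq_of_isConj F hPQ] at hdvd ⊢
    rw [← hQcard] at hdvd ⊢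
    apply Nat.le_antisymm (Nat.le_of_dvd Nat.card_pos hdvd)
    -- `|Aut_S(Q)| ≤ |Aut_S(P)|`
    have hφ' := Fusion.restrict_mem F hρ hPN
    set φ' : P →* Ω := ρ.comp (Subgroup.inclusion hPN) with hφ'def
    have hφ'x : ∀ x : P, φ' x = ρ ⟨x.1, hPN x.2⟩ := fun _ => rfl
    have hr' : φ'.range = Q := by
      ext y
      constructor
      · rintro ⟨x, rfl⟩
        exact hρPmem x.1 x.2
      · intro hy
        rw [← hρP] at hy
        obtain ⟨n, hn, rfl⟩ := hy
        rw [SetLike.mem_coe, Subgroup.mem_subgroupOf] at hn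
        exact ⟨⟨n.1, hn⟩, rfl⟩
    set e := Fusion.equivOfRange φ' (F.injective_of_mem hφ') hr' with he
    have hsub : autInducedBy S Q ≤ (autInducedBy S P).map (MulAut.congr e).toMonoidHom := by
      intro β hβ
      rw [mem_autInducedBy_iff] at hβ
      obtain ⟨h, hhS, hh⟩ := hβ
      have hhN : h ∈ Subgroup.normalizer (Q : Set Ω) := mem_normalizer_of_conj_eq_aut Q β h hh
      obtain ⟨x, hx⟩ := hsurj h (Subgroup.mem_inf.mpr ⟨hhS, hhN⟩)
      have hxN : x.1 ∈ Subgroup.normalizer (P : Set Ω) := (Subgroup.mem_inf.mp x.2).2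
      refine ⟨conjAutHom P ⟨x.1, hxN⟩, Fusion.conjAutHom_mem_autInducedBy P _
        (Subgroup.mem_inf.mp x.2).1, ?_⟩
      ext y
      rw [hh y, ← hx]
      show φ' (conjAutHom P ⟨x.1, hxN⟩ (e.symm y)) = _
      rw [hφ'x]
      have h5 : (⟨((conjAutHom P ⟨x.1, hxN⟩ (e.symm y) : P) : Ω), hPN (conjAutHom P ⟨x.1, hxN⟩ (e.symm y)).2⟩ :
          ↥(normalizerIn S P)) = x * ⟨(e.symm y).1, hPN (e.symm y).2⟩ * x⁻¹ := by
        apply Subtype.ext
        rfl
      rw [h5, map_mul, map_mul, map_inv]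
      congr 2
      have := Fusion.map_equivOfRange_symm φ' (F.injective_of_mem hφ') hr' y
      rw [hφ'x] at this
      exact this
    calc Nat.card (autInducedBy S Q)
        ≤ Nat.card ((autInducedBy S P).map (MulAut.congr e).toMonoidHom) :=
          Subgroup.card_le_of_le hsub
      _ = Nat.card (autInducedBy S P) :=
          Subgroup.card_map_of_injective (MulAut.congr e).injective

/-- In a saturated system, a fully centralized subgroup is receptive. -/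
theorem Fusion.receptive_of_fullyCentralized [Finite S] (p : ℕ) [Fact p.Prime]
    (hS : IsPGroup p S) (F : FusionSystem S) (hsat : F.IsSaturated p) {P : Subgroup Ω}
    (hP : F.IsFullyCentralized P) : F.IsReceptive P := by
  obtain ⟨Q, hPQ, hQ₁, hQ₂⟩ := hsat P hP.1
  obtain ⟨ρ, hρ, hρN, hρP⟩ := Fusion.exists_hom_normalizerIn p hS F hQ₁ hQ₂ hPQ
  have hinj := F.injective_of_mem hρ
  have hPS : P ≤ S := hP.1
  have hQS : Q ≤ S := hQ₁.1
  have hPN : P ≤ normalizerIn S P := Fusion.le_normalizerIn hPS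
  have hCN : centralizerIn S P ≤ normalizerIn S P := Fusion.centralizerIn_le_normalizerIn P
  have : Finite (centralizerIn S Q) := Fusion.finite_of_le (inf_le_left : centralizerIn S Q ≤ S)
  have hcard : Nat.card (centralizerIn S Q) ≤ Nat.card (centralizerIn S P) := hP.2 Q hPQ
  -- `ρ` maps `C_S(P)` onto `C_S(Q)`
  have hsurjC : ∀ c ∈ centralizerIn S Q, ∃ x : centralizerIn S P, ρ ⟨x.1, hCN x.2⟩ = c := by
    have hf : Function.Injective (fun x : centralizerIn S P =>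
        (⟨ρ ⟨x.1, hCN x.2⟩, Fusion.map_centralizerIn_mem F hρ hρP x.1 x.2⟩ : centralizerIn S Q)) := by
      intro x y hxy
      have h3 : (⟨x.1, hCN x.2⟩ : ↥(normalizerIn S P)) = ⟨y.1, hCN y.2⟩ :=
        hinj (congrArg (fun z : ↥(centralizerIn S Q) => (z : Ω)) hxy)
      have h4 : (x : Ω) = (y : Ω) := congrArg (fun z : ↥(normalizerIn S P) => (z : Ω)) h3
      exact Subtype.ext h4
    have hbij := hf.bijective_of_nat_card_le hcard
    intro c hc
    obtain ⟨x, hx⟩ := hbij.2 ⟨c, hc⟩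
    exact ⟨x, congrArg (fun z : ↥(centralizerIn S Q) => (z : Ω)) hx⟩
  refine ⟨hPS, fun R ψ hψ hr => ?_⟩
  have hRS : R ≤ S := Fusion.src_le F hψ
  have hψP : ∀ x : R, ψ x ∈ P := fun x => hr ▸ ⟨x, rfl⟩
  have hψN : ∀ x : R, ψ x ∈ normalizerIn S P := fun x => hPN (hψP x)
  have hφ₁ := F.comp_mem hψ hρ hψN
  set φ₁ : R →* Ω := ρ.comp (ψ.codRestrict _ hψN) with hφ₁def
  have hφ₁x : ∀ x, φ₁ x = ρ ⟨ψ x, hψN x⟩ := fun _ => rfl
  have hr₁ : φ₁.range = Q := by
    ext y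
    constructor
    · rintro ⟨x, rfl⟩
      rw [hφ₁x, ← hρP]
      refine ⟨⟨ψ x, hψN x⟩, ?_, rfl⟩
      rw [SetLike.mem_coe, Subgroup.mem_subgroupOf]
      exact hψP x
    · intro hy
      rw [← hρP] at hy
      obtain ⟨n, hn, rfl⟩ := hy
      rw [SetLike.mem_coe, Subgroup.mem_subgroupOf] at hn
      have hn' : (n : Ω) ∈ ψ.range := by rw [hr]; exact hn
      obtain ⟨x, hx⟩ := hn'
      refine ⟨x, ?_⟩
      rw [hφ₁x]
      congr 1
      exact Subtype.ext hx
  -- the elements of the generating set of `N_ψ`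
  have hgen : ∀ g : Ω, g ∈ S → g ∈ Subgroup.normalizer (R : Set Ω) → ∀ h ∈ S,
      (∀ (x : R) (hx : g * (x : Ω) * g⁻¹ ∈ R), ψ ⟨g * x * g⁻¹, hx⟩ = h * ψ x * h⁻¹) →
      ∃ hhN : h ∈ normalizerIn S P, ∀ (x : R) (hx : g * (x : Ω) * g⁻¹ ∈ R),
        φ₁ ⟨g * x * g⁻¹, hx⟩ = ρ ⟨h, hhN⟩ * φ₁ x * (ρ ⟨h, hhN⟩)⁻¹ := by
    intro g hgS hgN h hhS hh
    have hhN : h ∈ normalizerIn S P := by
      refine Subgroup.mem_inf.mpr ⟨hhS, ?_⟩
      apply mem_normalizer_of_conj_mem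
      · intro y hy
        rw [← hr] at hy
        obtain ⟨x, rfl⟩ := hy
        have hx : g * (x : Ω) * g⁻¹ ∈ R := (Subgroup.mem_normalizer_iff.mp hgN x).mp x.2
        rw [← hh x hx]
        exact hψP _
      · intro y hy
        rw [← hr] at hy
        obtain ⟨x, rfl⟩ := hy
        have hgN' : g⁻¹ ∈ Subgroup.normalizer (R : Set Ω) := Subgroup.inv_mem _ hgN
        have hx' : g⁻¹ * (x : Ω) * g⁻¹⁻¹ ∈ R := (Subgroup.mem_normalizer_iff.mp hgN' x).mp x.2
        have hx'' : g * ((⟨g⁻¹ * (x : Ω) * g⁻¹⁻¹, hx'⟩ : R) : Ω) * g⁻¹ ∈ R := by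
          have : g * (g⁻¹ * (x : Ω) * g⁻¹⁻¹) * g⁻¹ = x := by group
          rw [this]; exact x.2
        have h1 := hh ⟨g⁻¹ * (x : Ω) * g⁻¹⁻¹, hx'⟩ hx''
        have h2 : (⟨g * ((⟨g⁻¹ * (x : Ω) * g⁻¹⁻¹, hx'⟩ : R) : Ω) * g⁻¹, hx''⟩ : R) = x := by
          apply Subtype.ext
          show g * (g⁻¹ * (x : Ω) * g⁻¹⁻¹) * g⁻¹ = x
          group
        rw [h2] at h1
        have h3 : h⁻¹ * ψ x * h = ψ ⟨g⁻¹ * (x : Ω) * g⁻¹⁻¹, hx'⟩ := by
          rw [h1]; group
        rw [h3]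
        exact hψP _
    refine ⟨hhN, fun x hx => ?_⟩
    rw [hφ₁x, hφ₁x, ← map_inv, ← map_mul, ← map_mul]
    congr 1
    apply Subtype.ext
    exact hh x hx
  have hext : extender S R ψ ≤ extender S R φ₁ := by
    apply Subgroup.closure_mono
    rintro g ⟨hgS, hgN, h, hhS, hh⟩
    obtain ⟨hhN, hh'⟩ := hgen g hgS hgN h hhS hh
    exact ⟨hgS, hgN, ρ ⟨h, hhN⟩, Fusion.map_mem F hρ _, hh'⟩
  obtain ⟨χ, hχ, hχR⟩ := hQ₂.2 R φ₁ hφ₁ hr₁
  have hχ' := Fusion.restrict_mem F hχ hext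
  set χ' : ↥(extender S R ψ) →* Ω := χ.comp (Subgroup.inclusion hext) with hχ'def
  have hRN : R ≤ extender S R ψ := Fusion.le_extender R hRS ψ (Fusion.map_mem F hψ)
  have hχ'R : ∀ (x : Ω) (hx : x ∈ R), χ' ⟨x, hRN hx⟩ = φ₁ ⟨x, hx⟩ := fun x hx =>
    hχR x hx (hext (hRN hx))
  -- values of `χ'` lie in the range of `ρ`
  have hK : extender S R ψ ≤ ((ρ.range).comap χ').map (extender S R ψ).subtype := by
    refine (Subgroup.closure_le _).mpr ?_
    rintro g ⟨hgS, hgN, h, hhS, hh⟩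
    have hg : g ∈ extender S R ψ := Subgroup.subset_closure ⟨hgS, hgN, h, hhS, hh⟩
    refine ⟨⟨g, hg⟩, ?_, rfl⟩
    show χ' ⟨g, hg⟩ ∈ ρ.range
    obtain ⟨hhN, hh'⟩ := hgen g hgS hgN h hhS hh
    set a := ρ ⟨h, hhN⟩ with ha
    set b := χ' ⟨g, hg⟩ with hb
    have hc : a⁻¹ * b ∈ centralizerIn S Q := by
      refine Subgroup.mem_inf.mpr ⟨S.mul_mem (S.inv_mem (Fusion.map_mem F hρ _))
        (Fusion.map_mem F hχ' _), ?_⟩
      rw [Subgroup.mem_centralizer_iff]
      intro y hy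
      rw [SetLike.mem_coe, ← hr₁] at hy
      obtain ⟨x, rfl⟩ := hy
      have hx : g * (x : Ω) * g⁻¹ ∈ R := (Subgroup.mem_normalizer_iff.mp hgN x).mp x.2
      have h1 : b * φ₁ x * b⁻¹ = a * φ₁ x * a⁻¹ := by
        rw [← hh' x hx, ← hχ'R _ hx, ← hχ'R x.1 x.2, hb, ← map_inv, ← map_mul, ← map_mul]
        rfl
      calc φ₁ x * (a⁻¹ * b) = a⁻¹ * (a * φ₁ x * a⁻¹) * b := by group
        _ = a⁻¹ * (b * φ₁ x * b⁻¹) * b := by rw [h1]
        _ = a⁻¹ * b * φ₁ x := by group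
    obtain ⟨x₀, hx₀⟩ := hsurjC _ hc
    refine ⟨⟨h, hhN⟩ * ⟨x₀.1, hCN x₀.2⟩, ?_⟩
    rw [map_mul, hx₀, ← ha]
    group
  have hval : ∀ g : ↥(extender S R ψ), χ' g ∈ ρ.range := by
    intro g
    obtain ⟨g', hg', hgg'⟩ := hK g.2
    have : g' = g := Subtype.ext hgg'
    rw [← this]
    exact hg'
  obtain ⟨σ, hσ, hσinv, -⟩ := Fusion.exists_inv F hρ rfl
  have hψ' := F.comp_mem hχ' hσ hval
  refine ⟨_, hψ', ?_⟩
  intro x hxR hxN
  show σ ⟨χ' ⟨x, hxN⟩, hval _⟩ = ψ ⟨x, hxR⟩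
  have h1 : χ' ⟨x, hxN⟩ = ρ ⟨ψ ⟨x, hxR⟩, hψN _⟩ := hχ'R x hxR
  have h2 : (⟨χ' ⟨x, hxN⟩, hval _⟩ : ρ.range) = ⟨ρ ⟨ψ ⟨x, hxR⟩, hψN _⟩, ⟨_, rfl⟩⟩ :=
    Subtype.ext h1
  rw [h2]
  exact hσinv _ _

/-- Roberts–Shpectorov: equivalence of the two definitions of saturation. -/
theorem Fusion.isSaturated_iff [Finite S] (p : ℕ) [Fact p.Prime]
    (hS : IsPGroup p S) (F : FusionSystem S) :
    F.IsSaturated p ↔ ((∀ P : Subgroup Ω, F.IsFullyNormalized P →
      F.IsFullyCentralized P ∧ F.IsFullyAutomized p P) ∧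
      (∀ P : Subgroup Ω, F.IsFullyCentralized P → F.IsReceptive P)) := by
  constructor
  · intro hsat
    exact ⟨fun P hP => Fusion.fullyCentralized_fullyAutomized_of_fullyNormalized p hS F hsat hP,
      fun P hP => Fusion.receptive_of_fullyCentralized p hS F hsat hP⟩
  · rintro ⟨h1, h2⟩ P hP
    obtain ⟨Q, hPQ, hQ⟩ := Fusion.exists_isConj_fullyNormalized F hP
    obtain ⟨hQc, hQa⟩ := h1 Q hQ
    exact ⟨Q, hPQ, hQa, h2 Q hQc⟩

end Cfsg.Agent.Lead
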