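import Mathlib
import Cfsg.Prelude.Def_FusionSystem
import Cfsg.Agent.Lead.Basic
import Cfsg.Agent.Lead.Fusion
import Cfsg.Agent.Lead.FusionAut
import Cfsg.Agent.Lead.FusionConj
import Cfsg.Agent.Lead.FusionSat
import Cfsg.Agent.Lead.FusionSat2
import Cfsg.Agent.Lead.AutInduced
import Cfsg.Agent.Lead.SylowLemmas

set_option autoImplicit false

namespace Cfsg.Agent.Lead

open Cfsg Cfsg.FusionSystem

variable {Ω : Type*} [Group Ω] {S : Subgroup Ω}

/-- Two fusion systems with the same maps are equal. -/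
theorem Fusion.ext_hom {F E : FusionSystem S} (h : ∀ P, F.Hom P = E.Hom P) : F = E := by
  cases F
  cases E
  congr
  funext P
  exact h P

/-- Normalizers grow in a finite `p`-group. -/
theorem Fusion.exists_mem_normalizerIn_not_mem [Finite S] {p : ℕ} [Fact p.Prime] (hS : IsPGroup p S)
    {P : Subgroup Ω} (hPS : P ≤ S) (hne : P ≠ S) : ∃ n ∈ normalizerIn S P, n ∉ P := by
  have : Group.IsNilpotent S := hS.isNilpotent
  have hnc : NormalizerCondition S := Group.normalizerCondition_of_isNilpotent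
  have hlt : P.subgroupOf S < ⊤ := by
    rw [lt_top_iff_ne_top]
    intro h
    apply hne
    apply le_antisymm hPS
    intro x hx
    have : (⟨x, hx⟩ : S) ∈ P.subgroupOf S := by rw [h]; trivial
    rw [Subgroup.mem_subgroupOf] at this
    exact this
  obtain ⟨n, hnN, hnD⟩ := SetLike.exists_of_lt (hnc _ hlt)
  refine ⟨n.1, Subgroup.mem_inf.mpr ⟨n.2, ?_⟩, ?_⟩
  · rw [Subgroup.mem_normalizer_iff]
    intro h
    constructor
    · intro hh
      have h1 : (⟨h, hPS hh⟩ : S) ∈ P.subgroupOf S := by rw [Subgroup.mem_subgroupOf]; exact hh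
      have h2 := (Subgroup.mem_normalizer_iff.mp hnN ⟨h, hPS hh⟩).mp h1
      rw [Subgroup.mem_subgroupOf] at h2
      exact h2
    · intro hh
      have hhS : h ∈ S := by
        have h3 : n.1 * h * n.1⁻¹ ∈ S := hPS hh
        have h4 : h = n.1⁻¹ * (n.1 * h * n.1⁻¹) * n.1 := by group
        rw [h4]
        exact S.mul_mem (S.mul_mem (S.inv_mem n.2) h3) n.2
      have h2 := (Subgroup.mem_normalizer_iff.mp hnN ⟨h, hhS⟩).mpr
        (by rw [Subgroup.mem_subgroupOf]; exact hh)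
      rw [Subgroup.mem_subgroupOf] at h2
      exact h2
  · intro hn
    apply hnD
    rw [Subgroup.mem_subgroupOf]
    exact hn

theorem Fusion.card_lt_card_normalizerIn [Finite S] {p : ℕ} [Fact p.Prime] (hS : IsPGroup p S)
    {P : Subgroup Ω} (hPS : P ≤ S) (hne : P ≠ S) : Nat.card P < Nat.card (normalizerIn S P) := by
  obtain ⟨n, hn, hnP⟩ := Fusion.exists_mem_normalizerIn_not_mem hS hPS hne
  have : Finite (normalizerIn S P) := Fusion.finite_of_le (inf_le_left : normalizerIn S P ≤ S)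
  apply card_lt_of_lt
  refine lt_of_le_of_ne (Fusion.le_normalizerIn hPS) ?_
  intro h
  apply hnP
  rw [h]; exact hn

/-- If `Aut_F(Q)` is a `p`-group and `Q` is fully automized then `Aut_F(Q) = Aut_S(Q)`. -/
theorem Fusion.autGroup_le_autInducedBy (p : ℕ) [Fact p.Prime] (F : FusionSystem S) {Q : Subgroup Ω}
    (h₁ : F.IsFullyAutomized p Q) (h : IsPGroup p (F.autGroup Q)) :
    F.autGroup Q ≤ autInducedBy S Q := by
  obtain ⟨R, hR⟩ := h₁.2
  have h1 : IsPGroup p (⊤ : Subgroup (F.autGroup Q)) := h.to_subgroup ⊤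
  have h2 := R.is_maximal' h1 le_top
  rw [hR] at h2
  exact Subgroup.subgroupOf_eq_top.mp h2.symm

/-- Two isomorphisms of the system onto a fully automized `Q` with `Aut_F(Q)` a `p`-group differ by
conjugation in `S`. -/
theorem Fusion.exists_conj_of_range_eq (p : ℕ) [Fact p.Prime] (F : FusionSystem S) {P Q : Subgroup Ω}
    (h₁ : F.IsFullyAutomized p Q) (h : IsPGroup p (F.autGroup Q)) {ψ₁ ψ₂ : P →* Ω}
    (hψ₁ : ψ₁ ∈ F.Hom P) (hψ₂ : ψ₂ ∈ F.Hom P) (hr₁ : ψ₁.range = Q) (hr₂ : ψ₂.range = Q) :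
    ∃ u ∈ S, ∀ x : P, ψ₂ x = u * ψ₁ x * u⁻¹ := by
  set e₁ := Fusion.equivOfRange ψ₁ (F.injective_of_mem hψ₁) hr₁ with he₁
  set e₂ := Fusion.equivOfRange ψ₂ (F.injective_of_mem hψ₂) hr₂ with he₂
  set α : MulAut Q := e₁.symm.trans e₂ with hα
  have hαmem : α ∈ F.autGroup Q := by
    rw [Fusion.mem_autGroup_iff F h₁.1]
    have h1 := Fusion.equivOfRange_symm_mem F hψ₁ hr₁
    have h2 := F.comp_mem h1 hψ₂ (fun y => (e₁.symm y).2)
    convert h2 using 1
    ext y
    rfl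
  have h3 := Fusion.autGroup_le_autInducedBy p F h₁ h hαmem
  rw [mem_autInducedBy_iff] at h3
  obtain ⟨u, hu, huα⟩ := h3
  refine ⟨u, hu, fun x => ?_⟩
  have h4 := huα (e₁ x)
  rw [Fusion.equivOfRange_coe] at h4
  rw [← h4]
  show ψ₂ x = ((e₂ (e₁.symm (e₁ x)) : Q) : Ω)
  rw [MulEquiv.symm_apply_apply]
  rfl

theorem Fusion.card_eq_of_isConj (F : FusionSystem S) {P Q : Subgroup Ω} (h : F.IsConj P Q) :
    Nat.card P = Nat.card Q := by
  obtain ⟨φ, hφ, hr⟩ := h
  exact Nat.card_congr (Fusion.equivOfRange φ (F.injective_of_mem hφ) hr).toEquiv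

theorem Fusion.isConj_top_eq [Finite S] (F : FusionSystem S) {Q : Subgroup Ω} (h : F.IsConj S Q) :
    Q = S := by
  apply Subgroup.eq_of_le_of_card_ge (Fusion.isConj_tgt_le F h)
  rw [Fusion.card_eq_of_isConj F h]

theorem Fusion.top_fullyAutomized [Finite S] (p : ℕ) (F : FusionSystem S) (hF : F.IsSaturated p) :
    F.IsFullyAutomized p S := by
  obtain ⟨Q, hSQ, hQ₁, -⟩ := hF S le_rfl
  have : Q = S := Fusion.isConj_top_eq F hSQ
  rwa [this] at hQ₁

/-- The range of the restriction to `Q` of a map on `N_S(Q)` carrying `Q` onto `P`. -/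
theorem Fusion.range_restrict_eq {P Q : Subgroup Ω} (hQS : Q ≤ S) (ρ : ↥(normalizerIn S Q) →* Ω)
    (hρQ : (Q.subgroupOf (normalizerIn S Q)).map ρ = P) :
    (ρ.comp (Subgroup.inclusion (Fusion.le_normalizerIn hQS))).range = P := by
  ext y
  constructor
  · rintro ⟨x, rfl⟩
    rw [← hρQ]
    refine ⟨⟨x.1, Fusion.le_normalizerIn hQS x.2⟩, ?_, rfl⟩
    rw [SetLike.mem_coe, Subgroup.mem_subgroupOf]
    exact x.2
  · intro hy
    rw [← hρQ] at hy
    obtain ⟨n, hn, rfl⟩ := hy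
    rw [SetLike.mem_coe, Subgroup.mem_subgroupOf] at hn
    exact ⟨⟨n.1, hn⟩, rfl⟩

theorem Fusion.exists_conj_of_autGroup_isPGroup [Finite S] (p : ℕ) [Fact p.Prime]
    (hS : IsPGroup p S) (F : FusionSystem S) (hF : F.IsSaturated p)
    (h : ∀ P : Subgroup Ω, P ≤ S → IsPGroup p (F.autGroup P)) :
    ∀ (n : ℕ) (P : Subgroup Ω) (φ : P →* Ω), φ ∈ F.Hom P → Nat.card S - Nat.card P = n →
      ∃ g ∈ S, ∀ x : P, φ x = g * (x : Ω) * g⁻¹ := by
  intro n
  induction n using Nat.strong_induction_on with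
  | _ n ih =>
  intro P φ hφ hn
  have hPS := Fusion.src_le F hφ
  by_cases hPeq : P = S
  · subst hPeq
    have hfa := Fusion.top_fullyAutomized p F hF
    have hr : φ.range = P := Fusion.isConj_top_eq F ⟨φ, hφ, rfl⟩
    obtain ⟨u, hu, hux⟩ := Fusion.exists_conj_of_range_eq p F hfa (h P le_rfl)
      (Fusion.subtype_mem F le_rfl) hφ (Subgroup.range_subtype P) hr
    exact ⟨u, hu, fun x => by rw [hux x]; rfl⟩
  · obtain ⟨Q, hPQ, hQ₁, hQ₂⟩ := hF P hPS
    have hRQ : F.IsConj φ.range Q :=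
      Fusion.isConj_trans F (Fusion.isConj_symm F ⟨φ, hφ, rfl⟩) hPQ
    have hcardR : Nat.card P = Nat.card φ.range := Fusion.card_eq_of_isConj F ⟨φ, hφ, rfl⟩
    have hRS : φ.range ≤ S := Fusion.range_le F hφ
    have hRne : φ.range ≠ S := by
      intro hRS'
      apply hPeq
      apply Subgroup.eq_of_le_of_card_ge hPS
      rw [hcardR, hRS']
    obtain ⟨ρ₁, hρ₁, hρ₁N, hρ₁P⟩ := Fusion.exists_hom_normalizerIn p hS F hQ₁ hQ₂ hPQ
    obtain ⟨ρ₂, hρ₂, hρ₂N, hρ₂R⟩ := Fusion.exists_hom_normalizerIn p hS F hQ₁ hQ₂ hRQ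
    have hlt₁ : Nat.card S - Nat.card (normalizerIn S P) < n := by
      have := Fusion.card_lt_card_normalizerIn hS hPS hPeq
      have hle : Nat.card (normalizerIn S P) ≤ Nat.card S := Subgroup.card_le_of_le inf_le_left
      omega
    have hlt₂ : Nat.card S - Nat.card (normalizerIn S φ.range) < n := by
      have := Fusion.card_lt_card_normalizerIn hS hRS hRne
      have hle : Nat.card (normalizerIn S φ.range) ≤ Nat.card S :=
        Subgroup.card_le_of_le inf_le_left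
      omega
    obtain ⟨s, hs, hsx⟩ := ih _ hlt₁ _ ρ₁ hρ₁ rfl
    obtain ⟨t, ht, htx⟩ := ih _ hlt₂ _ ρ₂ hρ₂ rfl
    have hPN := Fusion.le_normalizerIn hPS
    have hRN := Fusion.le_normalizerIn hRS
    have hψ₁ := Fusion.restrict_mem F hρ₁ hPN
    have hr₁ := Fusion.range_restrict_eq hPS ρ₁ hρ₁P
    have hφR : ∀ x : P, φ x ∈ normalizerIn S φ.range := fun x => hRN ⟨x, rfl⟩
    have hψ₂ := F.comp_mem hφ hρ₂ hφR
    have hr₂ : (ρ₂.comp (φ.codRestrict _ hφR)).range = Q := by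
      ext y
      constructor
      · rintro ⟨x, rfl⟩
        rw [← hρ₂R]
        refine ⟨⟨φ x, hφR x⟩, ?_, rfl⟩
        rw [SetLike.mem_coe, Subgroup.mem_subgroupOf]
        exact ⟨x, rfl⟩
      · intro hy
        rw [← hρ₂R] at hy
        obtain ⟨m, hm, rfl⟩ := hy
        rw [SetLike.mem_coe, Subgroup.mem_subgroupOf] at hm
        obtain ⟨x, hx⟩ := hm
        refine ⟨x, ?_⟩
        show ρ₂ ⟨φ x, hφR x⟩ = ρ₂ m
        congr 1
        exact Subtype.ext hx
    obtain ⟨u, hu, hux⟩ := Fusion.exists_conj_of_range_eq p F hQ₁ (h Q hQ₁.1) hψ₁ hψ₂ hr₁ hr₂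
    refine ⟨t⁻¹ * u * s, S.mul_mem (S.mul_mem (S.inv_mem ht) hu) hs, fun x => ?_⟩
    have h5 : ρ₂ ⟨φ x, hφR x⟩ = u * ρ₁ ⟨x.1, hPN x.2⟩ * u⁻¹ := hux x
    rw [hsx, htx] at h5
    have h6 : t * φ x * t⁻¹ = u * (s * (x : Ω) * s⁻¹) * u⁻¹ := h5
    calc φ x = t⁻¹ * (t * φ x * t⁻¹) * t := by group
      _ = t⁻¹ * (u * (s * (x : Ω) * s⁻¹) * u⁻¹) * t := by rw [h6]
      _ = t⁻¹ * u * s * (x : Ω) * (t⁻¹ * u * s)⁻¹ := by group

/-- A saturated system all of whose automizers are `p`-groups is the inner system. -/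
theorem Fusion.eq_inner_of_autGroup_isPGroup [Finite S] (p : ℕ) [Fact p.Prime]
    (hS : IsPGroup p S) (F : FusionSystem S) (hF : F.IsSaturated p)
    (h : ∀ P : Subgroup Ω, P ≤ S → IsPGroup p (F.autGroup P)) : F = innerFusionSystem S := by
  apply Fusion.ext_hom
  intro P
  ext φ
  constructor
  · intro hφ
    obtain ⟨g, hg, hgx⟩ := Fusion.exists_conj_of_autGroup_isPGroup p hS F hF h _ P φ hφ rfl
    exact ⟨Fusion.src_le F hφ, g, hg, hgx⟩
  · rintro ⟨hP, g, hg, hgx⟩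
    have := F.conj_mem (P := P) (g := g) hP hg
    convert this using 1
    ext x
    exact hgx x

end Cfsg.Agent.Lead
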