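import Mathlib
import Cfsg.Prelude.Def_FusionSystem
import Cfsg.Agent.Lead.Basic
import Cfsg.Agent.Lead.Fusion
import Cfsg.Agent.Lead.FusionAut
import Cfsg.Agent.Lead.FusionConj
import Cfsg.Agent.Lead.FusionSat
import Cfsg.Agent.Lead.FusionSat2
import Cfsg.Agent.Lead.FusionInner
import Cfsg.Agent.Lead.AutInduced
import Cfsg.Agent.Lead.SylowLemmas

set_option autoImplicit false

namespace Cfsg.Agent.Lead

open Cfsg Cfsg.FusionSystem

variable {Ω : Type*} [Group Ω] {S : Subgroup Ω}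

/-- An element conjugating a finite subgroup into itself normalizes it. -/
theorem mem_normalizer_of_conj_mem_of_finite {G : Type*} [Group G] (P : Subgroup G) [Finite P] (g : G)
    (h : ∀ y ∈ P, g * y * g⁻¹ ∈ P) : g ∈ Subgroup.normalizer (P : Set G) := by
  apply mem_normalizer_of_conj_mem P g h
  intro y hy
  have hinj : Function.Injective (fun z : P => (⟨g * z * g⁻¹, h z z.2⟩ : P)) := by
    intro a b hab
    have h1 : g * (a : G) * g⁻¹ = g * (b : G) * g⁻¹ := congrArg Subtype.val hab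
    exact Subtype.ext (mul_left_cancel (mul_right_cancel h1))
  obtain ⟨z, hz⟩ := (Finite.injective_iff_surjective.mp hinj) ⟨y, hy⟩
  have h2 : g * (z : G) * g⁻¹ = y := congrArg Subtype.val hz
  rw [← h2]
  have : g⁻¹ * (g * (z : G) * g⁻¹) * g = z := by group
  rw [this]
  exact z.2

/-- If `P` is receptive and `ψ : Q → P` is an isomorphism of the system with `N_S(Q) ≤ N_ψ`, then `ψ`
extends to a map `N_S(Q) → N_S(P)` of the system. -/
theorem Fusion.exists_hom_normalizerIn_of_le_extender (F : FusionSystem S) {P Q : Subgroup Ω}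
    (h₂ : F.IsReceptive P) {ψ : Q →* Ω} (hψ : ψ ∈ F.Hom Q) (hr : ψ.range = P)
    (hle : normalizerIn S Q ≤ extender S Q ψ) :
    ∃ ρ ∈ F.Hom (normalizerIn S Q), (∀ x, ρ x ∈ normalizerIn S P) ∧
      ∀ (q : Ω) (hq : q ∈ Q), ρ ⟨q, Fusion.le_normalizerIn (Fusion.src_le F hψ) hq⟩ = ψ ⟨q, hq⟩ := by
  obtain ⟨ψ', hψ', hext⟩ := h₂.2 Q ψ hψ hr
  have hQS : Q ≤ S := Fusion.src_le F hψ
  have hQN : Q ≤ normalizerIn S Q := Fusion.le_normalizerIn hQS
  have hρ := Fusion.restrict_mem F hψ' hle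
  set ρ : ↥(normalizerIn S Q) →* Ω := ψ'.comp (Subgroup.inclusion hle) with hρdef
  have hρQ : ∀ (q : Ω) (hq : q ∈ Q), ρ ⟨q, hQN hq⟩ = ψ ⟨q, hq⟩ := fun q hq =>
    hext q hq (hle (hQN hq))
  have hconj : ∀ (x : ↥(normalizerIn S Q)), ∀ y ∈ P, ρ x * y * (ρ x)⁻¹ ∈ P := by
    intro x y hy
    rw [← hr] at hy
    obtain ⟨q, rfl⟩ := hy
    have hxN : (x : Ω) ∈ Subgroup.normalizer (Q : Set Ω) := (Subgroup.mem_inf.mp x.2).2
    have hq' : (x : Ω) * q * (x : Ω)⁻¹ ∈ Q := (Subgroup.mem_normalizer_iff.mp hxN q).mp q.2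
    have h1 : ρ x * ψ q * (ρ x)⁻¹ = ψ ⟨(x : Ω) * q * (x : Ω)⁻¹, hq'⟩ := by
      rw [← hρQ q.1 q.2, ← hρQ _ hq', ← map_inv, ← map_mul, ← map_mul]
      rfl
    rw [h1, ← hr]
    exact ⟨_, rfl⟩
  refine ⟨ρ, hρ, ?_, hρQ⟩
  intro x
  refine Subgroup.mem_inf.mpr ⟨Fusion.map_mem F hρ x, ?_⟩
  apply mem_normalizer_of_conj_mem
  · exact hconj x
  · intro y hy
    have := hconj x⁻¹ y hy
    rwa [map_inv, inv_inv] at this

/-- An automorphism `α ∈ Aut_F(Q)` of a receptive subgroup that normalizes `Aut_S(Q)` extends to an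
element of `Aut_F(N_S(Q))`. -/
theorem Fusion.exists_aut_normalizerIn_extension [Finite S] (F : FusionSystem S) {Q : Subgroup Ω}
    (h₂ : F.IsReceptive Q) (α : MulAut Q) (hα : α ∈ F.autGroup Q)
    (hnorm : ∀ u ∈ autInducedBy S Q, α * u * α⁻¹ ∈ autInducedBy S Q) :
    ∃ γ ∈ F.autGroup (normalizerIn S Q), ∀ x : Q,
      ((γ ⟨x.1, Fusion.le_normalizerIn h₂.1 x.2⟩ : ↥(normalizerIn S Q)) : Ω) = α x := by
  have hQS := h₂.1
  have hφ := (Fusion.mem_autGroup_iff F hQS α).mp hα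
  set φ : Q →* Ω := Q.subtype.comp α.toMonoidHom with hφdef
  have hφx : ∀ x : Q, φ x = ((α x : Q) : Ω) := fun _ => rfl
  have hr : φ.range = Q := by
    ext y
    constructor
    · rintro ⟨x, rfl⟩
      exact (α x).2
    · intro hy
      refine ⟨α.symm ⟨y, hy⟩, ?_⟩
      rw [hφx]
      simp
  have hle : normalizerIn S Q ≤ extender S Q φ := by
    intro g hg
    apply Subgroup.subset_closure
    have hgS : g ∈ S := (Subgroup.mem_inf.mp hg).1
    have hgN : g ∈ Subgroup.normalizer (Q : Set Ω) := (Subgroup.mem_inf.mp hg).2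
    refine ⟨hgS, hgN, ?_⟩
    have h1 := hnorm _ (Fusion.conjAutHom_mem_autInducedBy Q ⟨g, hgN⟩ hgS)
    rw [mem_autInducedBy_iff] at h1
    obtain ⟨h, hhS, hh⟩ := h1
    refine ⟨h, hhS, fun x hx => ?_⟩
    have h2 := hh (α x)
    rw [hφx, hφx, ← h2]
    simp only [MulAut.mul_apply, MulAut.inv_apply_self]
    rfl
  obtain ⟨ρ, hρ, hρN, hρQ⟩ := Fusion.exists_hom_normalizerIn_of_le_extender F h₂ hφ hr hle
  have hinj := F.injective_of_mem hρ
  have : Finite (normalizerIn S Q) := Fusion.finite_of_le (inf_le_left : normalizerIn S Q ≤ S)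
  have hr' : ρ.range = normalizerIn S Q := by
    apply Subgroup.eq_of_le_of_card_ge
    · rintro _ ⟨x, rfl⟩
      exact hρN x
    · rw [← Fusion.card_eq_of_isConj F ⟨ρ, hρ, rfl⟩]
  refine ⟨Fusion.equivOfRange ρ hinj hr', ?_, fun x => ?_⟩
  · apply (Fusion.mem_autGroup_iff F (P := normalizerIn S Q) inf_le_left _).mpr
    convert hρ using 1
    ext y
    rfl
  · rw [Fusion.equivOfRange_coe]
    exact hρQ x.1 x.2

/-- The `p`-part of an element, in the form: a power that is a `p`-element with prescribed exponent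
congruent to `1` modulo `p ^ b`. -/
theorem exists_pow_pElement {Γ : Type*} [Group Γ] [Finite Γ] (p : ℕ) [Fact p.Prime] (γ : Γ) (b : ℕ) :
    ∃ k a : ℕ, (γ ^ k) ^ p ^ a = 1 ∧ k ≡ 1 [MOD p ^ b] := by
  have hp : p.Prime := Fact.out
  have hpos : 0 < orderOf γ := orderOf_pos γ
  obtain ⟨a, m', hm', hm⟩ := Nat.exists_eq_pow_mul_and_not_dvd hpos.ne' p hp.ne_one
  have hcop : m'.Coprime (p ^ b) := Nat.Coprime.pow_right b ((hp.coprime_iff_not_dvd.mpr hm').symm)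
  obtain ⟨k, hk0, hk1⟩ := Nat.chineseRemainder hcop 0 1
  refine ⟨k, a, ?_, hk1⟩
  rw [← pow_mul]
  apply orderOf_dvd_iff_pow_eq_one.mp
  rw [hm, mul_comm k]
  exact Nat.mul_dvd_mul_left _ ((Nat.modEq_zero_iff_dvd).mp hk0)

theorem Fusion.fullyAutomized_of_fullyNormalized_aux [Finite S] (p : ℕ) [Fact p.Prime]
    (hS : IsPGroup p S) (F : FusionSystem S) (h₁ : F.IsFullyAutomized p S)
    (h₂ : ∀ P : Subgroup Ω, F.IsFullyNormalized P → F.IsReceptive P) :
    ∀ (n : ℕ) (Q : Subgroup Ω), F.IsFullyNormalized Q → Nat.card S - Nat.card Q = n →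
      F.IsFullyAutomized p Q := by
  intro n
  induction n using Nat.strong_induction_on with
  | _ n ih =>
  intro Q hQ hn
  have hQS := hQ.1
  by_cases hQeq : Q = S
  · rw [hQeq]; exact h₁
  have hrec := h₂ Q hQ
  have : Finite Q := Fusion.finite_of_le hQS
  have : Finite (MulAut Q) := inferInstance
  have hUA : autInducedBy S Q ≤ F.autGroup Q := Fusion.autInducedBy_le_autGroup F hQS
  have hUp : IsPGroup p (autInducedBy S Q) := Fusion.isPGroup_autInducedBy p hS Q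
  obtain ⟨T₀, hUT, hTA, hTp, hTcard⟩ := exists_le_card_eq_ppart (p := p) hUp hUA
  by_cases hUT' : autInducedBy S Q = T₀
  · refine ⟨hQS, ?_⟩
    rw [exists_sylow_eq_subgroupOf_iff _ _ hUA, hUT']
    exact hTcard
  exfalso
  obtain ⟨α, hαN, hαU⟩ := Fusion.exists_mem_normalizerIn_not_mem (S := T₀) hTp hUT hUT'
  have hαT : α ∈ T₀ := (Subgroup.mem_inf.mp hαN).1
  have hαnorm := (Subgroup.mem_inf.mp hαN).2
  have hαA : α ∈ F.autGroup Q := hTA hαT
  have hnorm : ∀ u ∈ autInducedBy S Q, α * u * α⁻¹ ∈ autInducedBy S Q := fun u hu =>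
    (Subgroup.mem_normalizer_iff.mp hαnorm u).mp hu
  obtain ⟨b, hb⟩ : ∃ b, α ^ p ^ b = 1 := by
    obtain ⟨b, hb⟩ := hTp ⟨α, hαT⟩
    refine ⟨b, ?_⟩
    have := congrArg Subtype.val hb
    simpa using this
  obtain ⟨γ, hγ, hγQ⟩ := Fusion.exists_aut_normalizerIn_extension F hrec α hαA hnorm
  have hNS : normalizerIn S Q ≤ S := inf_le_left
  have : Finite (normalizerIn S Q) := Fusion.finite_of_le hNS
  have : Finite (MulAut (normalizerIn S Q)) := inferInstance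
  have hQN : Q ≤ normalizerIn S Q := Fusion.le_normalizerIn hQS
  obtain ⟨k, a, hka, hk1⟩ := exists_pow_pElement p γ b
  have hγ₁ : γ ^ k ∈ F.autGroup (normalizerIn S Q) := Subgroup.pow_mem _ hγ k
  have hγpow : ∀ j : ℕ, ∀ x : Q,
      (((γ ^ j) ⟨x.1, hQN x.2⟩ : ↥(normalizerIn S Q)) : Ω) = ((α ^ j) x : Q) := by
    intro j
    induction j with
    | zero => intro x; simp
    | succ j ihj =>
      intro x
      rw [pow_succ, pow_succ, MulAut.mul_apply, MulAut.mul_apply]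
      have h1 : γ ⟨x.1, hQN x.2⟩ = ⟨(α x).1, hQN (α x).2⟩ := Subtype.ext (hγQ x)
      rw [h1]
      exact ihj (α x)
  have hαk : α ^ k = α := by
    have h1 : orderOf α ∣ p ^ b := orderOf_dvd_of_pow_eq_one hb
    have h2 : k ≡ 1 [MOD orderOf α] := Nat.ModEq.of_dvd h1 hk1
    have := pow_eq_pow_iff_modEq.mpr h2
    rwa [pow_one] at this
  have hγ₁Q : ∀ x : Q, (((γ ^ k) ⟨x.1, hQN x.2⟩ : ↥(normalizerIn S Q)) : Ω) = α x := by
    intro x
    rw [hγpow k x, hαk]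
  obtain ⟨N', hNN', hN'fn⟩ := Fusion.exists_isConj_fullyNormalized F hNS
  obtain ⟨χ, hχ, hrχ⟩ := hNN'
  have hcardN : Nat.card Q < Nat.card (normalizerIn S Q) :=
    Fusion.card_lt_card_normalizerIn hS hQS hQeq
  have hcardN' : Nat.card (normalizerIn S Q) = Nat.card N' :=
    Fusion.card_eq_of_isConj F ⟨χ, hχ, hrχ⟩
  have hN'S : N' ≤ S := hN'fn.1
  have hlt : Nat.card S - Nat.card N' < n := by
    have := Subgroup.card_le_of_le hN'S
    omega
  have hN'fa := ih _ hlt N' hN'fn rfl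
  set e := Fusion.equivOfRange χ (F.injective_of_mem hχ) hrχ with he
  have : Finite N' := Fusion.finite_of_le hN'S
  have : Finite (MulAut N') := inferInstance
  have hγ' : MulAut.congr e (γ ^ k) ∈ F.autGroup N' := Fusion.congr_mem_autGroup F hχ hrχ _ hγ₁
  have hγ'p : (MulAut.congr e (γ ^ k)) ^ p ^ a = 1 := by rw [← map_pow, hka, map_one]
  have hU'A := Fusion.autInducedBy_le_autGroup F hN'S
  have hU'card := (exists_sylow_eq_subgroupOf_iff (p := p) _ _ hU'A).mp hN'fa.2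
  have hzp : IsPGroup p (Subgroup.zpowers (MulAut.congr e (γ ^ k))) := by
    have h1 : orderOf (MulAut.congr e (γ ^ k)) ∣ p ^ a := orderOf_dvd_of_pow_eq_one hγ'p
    obtain ⟨j, -, hj⟩ := (Nat.dvd_prime_pow Fact.out).mp h1
    apply IsPGroup.of_card (n := j)
    rw [Nat.card_zpowers, hj]
  obtain ⟨β, hβA, hβ⟩ := exists_conj_le_of_card_eq_ppart (p := p) hU'A hU'card
    ((Subgroup.zpowers_le).mpr hγ') hzp
  have hδ : (MulAut.conj β) (MulAut.congr e (γ ^ k)) ∈ autInducedBy S N' :=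
    hβ ⟨_, Subgroup.mem_zpowers _, rfl⟩
  rw [mem_autInducedBy_iff] at hδ
  obtain ⟨g, hgS, hg⟩ := hδ
  set e' : ↥(normalizerIn S Q) ≃* N' := e.trans β with he'
  have hkey : ∀ x : ↥(normalizerIn S Q),
      (MulAut.conj β (MulAut.congr e (γ ^ k))) (e' x) = e' ((γ ^ k) x) := by
    intro x
    rw [MulAut.conj_apply]
    simp [he', MulAut.mul_apply]
  have hconj : ∀ x : ↥(normalizerIn S Q),
      ((e' ((γ ^ k) x) : N') : Ω) = g * (e' x : N') * g⁻¹ := fun x => by rw [← hkey, hg]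
  have hβF := (Fusion.mem_autGroup_iff F hN'S β).mp hβA
  have hχ' := F.comp_mem hχ hβF (fun x => (e x).2)
  set χ' : ↥(normalizerIn S Q) →* Ω :=
    (N'.subtype.comp β.toMonoidHom).comp (χ.codRestrict N' (fun x => (e x).2)) with hχ'def
  have hχ'x : ∀ x : ↥(normalizerIn S Q), χ' x = ((e' x : N') : Ω) := fun _ => rfl
  have hχ'Q := Fusion.restrict_mem F hχ' hQN
  set Q' := (χ'.comp (Subgroup.inclusion hQN)).range with hQ'def
  have hQQ' : F.IsConj Q Q' := ⟨_, hχ'Q, rfl⟩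
  have hQ'N' : Q' ≤ N' := by
    rintro _ ⟨x, rfl⟩
    exact (e' _).2
  have hQ'S := hQ'N'.trans hN'S
  have : Finite Q' := Fusion.finite_of_le hQ'S
  have hmemQ' : ∀ x : Q, ((e' ⟨x.1, hQN x.2⟩ : N') : Ω) ∈ Q' := fun x => ⟨x, rfl⟩
  have hgN : g ∈ Subgroup.normalizer (Q' : Set Ω) := by
    apply mem_normalizer_of_conj_mem_of_finite
    rintro _ ⟨x, rfl⟩
    show g * ((e' ⟨x.1, hQN x.2⟩ : N') : Ω) * g⁻¹ ∈ Q'
    rw [← hconj]
    have h1 : (γ ^ k) ⟨x.1, hQN x.2⟩ = ⟨(α x).1, hQN (α x).2⟩ := Subtype.ext (hγ₁Q x)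
    rw [h1]
    exact hmemQ' (α x)
  have hN'le : N' ≤ normalizerIn S Q' := by
    intro y hy
    refine Subgroup.mem_inf.mpr ⟨hN'S hy, ?_⟩
    apply mem_normalizer_of_conj_mem_of_finite
    rintro _ ⟨x, rfl⟩
    have hy' : y = ((e' (e'.symm ⟨y, hy⟩) : N') : Ω) := by simp
    have hxN : (e'.symm ⟨y, hy⟩).1 ∈ Subgroup.normalizer (Q : Set Ω) :=
      (Subgroup.mem_inf.mp (e'.symm ⟨y, hy⟩).2).2
    have hq' : (e'.symm ⟨y, hy⟩).1 * x.1 * (e'.symm ⟨y, hy⟩).1⁻¹ ∈ Q :=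
      (Subgroup.mem_normalizer_iff.mp hxN x).mp x.2
    show y * ((e' ⟨x.1, hQN x.2⟩ : N') : Ω) * y⁻¹ ∈ Q'
    have h3 : y * ((e' ⟨x.1, hQN x.2⟩ : N') : Ω) * y⁻¹ =
        ((e' (e'.symm ⟨y, hy⟩ * ⟨x.1, hQN x.2⟩ * (e'.symm ⟨y, hy⟩)⁻¹) : N') : Ω) := by
      rw [map_mul, map_mul, map_inv]
      simp
    rw [h3]
    exact hmemQ' ⟨(e'.symm ⟨y, hy⟩).1 * x.1 * (e'.symm ⟨y, hy⟩).1⁻¹, hq'⟩
  have hcard' : Nat.card (normalizerIn S Q') ≤ Nat.card (normalizerIn S Q) := hQ.2 Q' hQQ'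
  have : Finite (normalizerIn S Q') := Fusion.finite_of_le (inf_le_left : normalizerIn S Q' ≤ S)
  have hN'eq : N' = normalizerIn S Q' :=
    Subgroup.eq_of_le_of_card_ge hN'le (by rw [← hcardN']; exact hcard')
  have hgN' : g ∈ N' := by
    rw [hN'eq]
    exact Subgroup.mem_inf.mpr ⟨hgS, hgN⟩
  have hh : ∀ x : ↥(normalizerIn S Q),
      (γ ^ k) x = e'.symm ⟨g, hgN'⟩ * x * (e'.symm ⟨g, hgN'⟩)⁻¹ := by
    intro x
    apply e'.injective
    apply Subtype.ext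
    rw [hconj, map_mul, map_mul, map_inv]
    simp
  apply hαU
  rw [mem_autInducedBy_iff]
  refine ⟨(e'.symm ⟨g, hgN'⟩).1, hNS (e'.symm ⟨g, hgN'⟩).2, fun x => ?_⟩
  rw [← hγ₁Q x, hh]
  rfl

/-- A fusion system over a finite `p`-group is saturated iff `S` is fully automized and every fully
normalized subgroup is receptive. -/
theorem Fusion.isSaturated_iff' [Finite S] (p : ℕ) [Fact p.Prime]
    (hS : IsPGroup p S) (F : FusionSystem S) :
    F.IsSaturated p ↔ (F.IsFullyAutomized p S ∧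
      ∀ P : Subgroup Ω, F.IsFullyNormalized P → F.IsReceptive P) := by
  constructor
  · intro hF
    refine ⟨Fusion.top_fullyAutomized p F hF, fun P hP => ?_⟩
    exact Fusion.receptive_of_fullyCentralized p hS F hF
      (Fusion.fullyCentralized_fullyAutomized_of_fullyNormalized p hS F hF hP).1
  · rintro ⟨h₁, h₂⟩ P hP
    obtain ⟨Q, hPQ, hQ⟩ := Fusion.exists_isConj_fullyNormalized F hP
    exact ⟨Q, hPQ, Fusion.fullyAutomized_of_fullyNormalized_aux p hS F h₁ h₂ _ Q hQ rfl, h₂ Q hQ⟩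

end Cfsg.Agent.Lead
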