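import Mathlib
import Cfsg.Prelude.Def_EvenType

set_option autoImplicit false

namespace Cfsg.Agent.Lead

open Cfsg

theorem isPGroup_pCore' {G : Type*} [Group G] (p : ℕ) : IsPGroup p (Cfsg.pCore p G) := by
  unfold Cfsg.pCore
  exact Sylow.sSup_of_normal _ (fun H hH => hH.2) (fun H hH => hH.1)

/-- A nontrivial finite `p`-group does not have `p`-rank `≤ 0`. -/
theorem not_pRankLE_zero_of_ne_bot {X : Type*} [Group X] [Finite X] (p : ℕ) [Fact p.Prime]
    (O : Subgroup X) (hOp : IsPGroup p O) (hO : O ≠ ⊥) : ¬ PRankLE p 0 O := by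
  intro hrank
  have hdvd : p ∣ Nat.card O := by
    obtain ⟨n, hn⟩ := IsPGroup.iff_card.mp hOp
    have hn0 : n ≠ 0 := by
      rintro rfl
      apply hO
      rw [pow_zero] at hn
      exact Subgroup.card_eq_one.mp hn
    rw [hn]
    exact dvd_pow_self p hn0
  obtain ⟨t, ht⟩ := exists_prime_orderOf_dvd_card' p hdvd
  have h1 := hrank (Subgroup.zpowers t) inferInstance (by
    intro a ha
    obtain ⟨k, rfl⟩ := Subgroup.mem_zpowers_iff.mp ha
    rw [← zpow_natCast, ← zpow_mul, mul_comm, zpow_mul, zpow_natCast, ← ht, pow_orderOf_eq_one, one_zpow])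
  rw [Nat.card_zpowers, ht, pow_zero] at h1
  exact absurd h1 (by have := (Fact.out (p := p.Prime)).two_le; omega)

/-- A finite group with a strongly `p`-embedded subgroup has trivial `p`-core. -/
theorem pCore_eq_bot_of_stronglyPEmbedded {X : Type*} [Group X] [Finite X] (p : ℕ) [Fact p.Prime]
    (Y : Subgroup X) (hY : IsStronglyPEmbedded p Y) : Cfsg.pCore p X = ⊥ := by
  by_contra hne
  obtain ⟨_, hYtop, P, hΓ⟩ := hY
  have hOp : IsPGroup p (Cfsg.pCore p X) := isPGroup_pCore' p
  have hOP : Cfsg.pCore p X ≤ (P : Subgroup X) := hOp.le_sylow_of_normal P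
  have hrank := not_pRankLE_zero_of_ne_bot p _ hOp hne
  have h1 : Subgroup.normalizer ((Cfsg.pCore p X : Subgroup X) : Set X) ≤
      kGeneratedCore p 1 (P : Subgroup X) := by
    unfold kGeneratedCore
    exact le_iSup (fun Q : {Q : Subgroup X // Q ≤ (P : Subgroup X) ∧ ¬ PRankLE p (1 - 1) Q} =>
      Subgroup.normalizer ((Q : Subgroup X) : Set X)) ⟨Cfsg.pCore p X, hOP, by simpa using hrank⟩
  rw [Subgroup.normalizer_eq_top] at h1
  exact hYtop (top_le_iff.mp (h1.trans hΓ))

end Cfsg.Agent.Lead
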