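import Mathlib
import Cfsg.Prelude.Def_FusionSystem
import Cfsg.Agent.Lead.Basic
import Cfsg.Agent.Lead.Fusion
import Cfsg.Agent.Lead.FusionAut
import Cfsg.Agent.Lead.FusionConj
import Cfsg.Agent.Lead.FusionSat
import Cfsg.Agent.Lead.FusionSat2
import Cfsg.Agent.Lead.FusionSat3
import Cfsg.Agent.Lead.FusionInner
import Cfsg.Agent.Lead.AutInduced
import Cfsg.Agent.Lead.SylowLemmas
import Cfsg.Agent.S5104
import Cfsg.Agent.Lead.StronglyEmbedded

set_option autoImplicit false

namespace Cfsg.Agent.Lead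

open Cfsg Cfsg.FusionSystem

variable {Ω : Type*} [Group Ω] {S : Subgroup Ω}

/-- The automorphisms of `P` that extend to maps of the system on strictly larger subgroups. -/
def Fusion.extSet (F : FusionSystem S) (P : Subgroup Ω) : Set (MulAut P) :=
  {α | ∃ (Q : Subgroup Ω) (hPQ : P < Q) (φ : Q →* Ω), φ ∈ F.Hom Q ∧
    ∀ x : P, φ (Subgroup.inclusion hPQ.le x) = α x}

theorem Fusion.extSet_subset_autGroup (F : FusionSystem S) (P : Subgroup Ω) :
    Fusion.extSet F P ⊆ F.autGroup P := by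
  rintro α ⟨Q, hPQ, φ, hφ, h⟩
  apply Subgroup.subset_closure
  show P.subtype.comp α.toMonoidHom ∈ F.Hom P
  have := Fusion.restrict_mem F hφ hPQ.le
  convert this using 1
  ext x
  exact (h x).symm

theorem Fusion.closure_extSet_le_autGroup (F : FusionSystem S) (P : Subgroup Ω) :
    Subgroup.closure (Fusion.extSet F P) ≤ F.autGroup P :=
  (Subgroup.closure_le _).mpr (Fusion.extSet_subset_autGroup F P)

/-- An automorphism of a receptive subgroup extends to any subgroup of its extender. -/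
theorem Fusion.mem_extSet_of_le_extender (F : FusionSystem S) {P T : Subgroup Ω}
    (hrec : F.IsReceptive P) (α : MulAut P) (hα : α ∈ F.autGroup P)
    (hT : T ≤ extender S P (P.subtype.comp α.toMonoidHom)) (hPT : P < T) :
    α ∈ Fusion.extSet F P := by
  have hPS := hrec.1
  have hφ := (Fusion.mem_autGroup_iff F hPS α).mp hα
  have hr : (P.subtype.comp α.toMonoidHom).range = P := by
    ext y
    constructor
    · rintro ⟨x, rfl⟩
      exact (α x).2
    · intro hy
      refine ⟨α.symm ⟨y, hy⟩, ?_⟩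
      show ((α (α.symm ⟨y, hy⟩) : P) : Ω) = y
      simp
  obtain ⟨ψ', hψ', hext⟩ := hrec.2 P _ hφ hr
  refine ⟨T, hPT, _, Fusion.restrict_mem F hψ' hT, fun x => ?_⟩
  exact hext x.1 x.2 (hT (hPT.le x.2))

theorem Fusion.conjAutHom_eq_conj (P : Subgroup Ω) (x : P) :
    conjAutHom P ⟨x.1, Subgroup.le_normalizer x.2⟩ = MulAut.conj x := by
  ext y
  rfl

theorem Fusion.inn_le_autInducedBy {P : Subgroup Ω} (hPS : P ≤ S) : Inn P ≤ autInducedBy S P := by
  rintro _ ⟨x, rfl⟩
  rw [← Fusion.conjAutHom_eq_conj]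
  exact Fusion.conjAutHom_mem_autInducedBy P _ (hPS x.2)

/-- If `α ∈ Aut_F(P)` normalizes a subgroup `V` with `Inn(P) < V ≤ Aut_S(P)` and `P` is receptive, then
`α` extends to a strictly larger subgroup. -/
theorem Fusion.mem_extSet_of_normalizes (F : FusionSystem S) {P : Subgroup Ω}
    (hrec : F.IsReceptive P) (α : MulAut P) (hα : α ∈ F.autGroup P) (V : Subgroup (MulAut P))
    (hIV : Inn P ≤ V) (hVU : V ≤ autInducedBy S P) (hV : ∃ β ∈ V, β ∉ Inn P)
    (hnorm : ∀ v ∈ V, α * v * α⁻¹ ∈ V) : α ∈ Fusion.extSet F P := by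
  have hPS := hrec.1
  set T : Subgroup Ω :=
    ((V.comap (conjAutHom P)).map (Subgroup.normalizer (P : Set Ω)).subtype) ⊓ S with hTdef
  have hmemT : ∀ g : Ω, g ∈ T ↔ g ∈ S ∧ ∃ hg : g ∈ Subgroup.normalizer (P : Set Ω),
      conjAutHom P ⟨g, hg⟩ ∈ V := by
    intro g
    constructor
    · intro hg
      obtain ⟨⟨n, hn, rfl⟩, hgS⟩ := Subgroup.mem_inf.mp hg
      exact ⟨hgS, n.2, hn⟩
    · rintro ⟨hgS, hgN, hgV⟩
      exact Subgroup.mem_inf.mpr ⟨⟨⟨g, hgN⟩, hgV, rfl⟩, hgS⟩
  apply Fusion.mem_extSet_of_le_extender F hrec α hα (T := T)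
  · intro g hg
    obtain ⟨hgS, hgN, hgV⟩ := (hmemT g).mp hg
    apply Subgroup.subset_closure
    refine ⟨hgS, hgN, ?_⟩
    have h1 := hVU (hnorm _ hgV)
    rw [mem_autInducedBy_iff] at h1
    obtain ⟨h, hhS, hh⟩ := h1
    refine ⟨h, hhS, fun x hx => ?_⟩
    have h2 := hh (α x)
    show ((α ⟨g * x * g⁻¹, hx⟩ : P) : Ω) = h * ((α x : P) : Ω) * h⁻¹
    rw [← h2]
    simp only [MulAut.mul_apply, MulAut.inv_apply_self]
    rfl
  · refine lt_of_le_of_ne ?_ ?_
    · intro x hx
      rw [hmemT]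
      refine ⟨hPS hx, Subgroup.le_normalizer hx, ?_⟩
      apply hIV
      rw [Fusion.conjAutHom_eq_conj P ⟨x, hx⟩]
      exact ⟨_, rfl⟩
    · intro hPT
      obtain ⟨β, hβV, hβI⟩ := hV
      have hβU := hVU hβV
      rw [mem_autInducedBy_iff] at hβU
      obtain ⟨g, hgS, hg⟩ := hβU
      have hgN := mem_normalizer_of_conj_eq_aut P β g hg
      have hβeq : β = conjAutHom P ⟨g, hgN⟩ := by
        ext y
        rw [hg y]
        rfl
      have hgT : g ∈ T := by
        rw [hmemT]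
        exact ⟨hgS, hgN, hβeq ▸ hβV⟩
      rw [← hPT] at hgT
      apply hβI
      rw [hβeq, Fusion.conjAutHom_eq_conj P ⟨g, hgT⟩]
      exact ⟨_, rfl⟩

/-- Non-centric case: every automorphism of a fully centralized, receptive, non-centric subgroup
extends to a strictly larger subgroup. -/
theorem Fusion.mem_extSet_of_not_centric [Finite S] (p : ℕ) [Fact p.Prime] (hS : IsPGroup p S)
    (F : FusionSystem S) (hF : F.IsSaturated p) {P : Subgroup Ω} (hfc : F.IsFullyCentralized P)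
    (hrec : F.IsReceptive P) (hnc : ¬ F.IsCentric P) (α : MulAut P) (hα : α ∈ F.autGroup P) :
    α ∈ Fusion.extSet F P := by
  have hPS := hrec.1
  have hφ := (Fusion.mem_autGroup_iff F hPS α).mp hα
  have hC : ¬ centralizerIn S P ≤ P := fun h =>
    hnc (Cfsg.Agent.S5104.result p hS F hF P hfc h)
  obtain ⟨c, hcC, hcP⟩ := SetLike.not_le_iff_exists.mp hC
  apply Fusion.mem_extSet_of_le_extender F hrec α hα (T := extender S P (P.subtype.comp α.toMonoidHom))
    le_rfl
  refine lt_of_le_of_ne (Fusion.le_extender P hPS _ (Fusion.map_mem F hφ)) ?_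
  intro h
  apply hcP
  rw [h]
  exact Fusion.centralizerIn_le_extender P _ hcC

theorem ne_bot_of_not_pRankLE_zero {X : Type*} [Group X] (p : ℕ) (Q : Subgroup X)
    (h : ¬ PRankLE p 0 Q) : Q ≠ ⊥ := by
  rintro rfl
  apply h
  intro A _ _
  have : Subsingleton (⊥ : Subgroup X) := inferInstance
  have h1 : Nat.card A = 1 := Nat.card_unique
  simp

theorem Fusion.inn_le_closure_extSet (F : FusionSystem S) {P : Subgroup Ω} (hPS : P < S) :
    Inn P ≤ Subgroup.closure (Fusion.extSet F P) := by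
  rintro _ ⟨x, rfl⟩
  apply Subgroup.subset_closure
  refine ⟨S, hPS, conjHom S x.1, F.conj_mem le_rfl (hPS.le x.2), fun y => rfl⟩

/-- Key lemma for Alperin's theorem: for a fully normalized proper subgroup `P` of `S` that is not
essential, `Aut_F(P)` is generated by the automorphisms extending to strictly larger subgroups. -/
theorem Fusion.autGroup_le_closure_extSet [Finite S] (p : ℕ) [Fact p.Prime] (hS : IsPGroup p S)
    (F : FusionSystem S) (hF : F.IsSaturated p) {P : Subgroup Ω} (hPS : P < S)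
    (hPn : F.IsFullyNormalized P) (hess : ¬ F.IsEssential p P) :
    F.autGroup P ≤ Subgroup.closure (Fusion.extSet F P) := by
  obtain ⟨hfc, hfa⟩ := Fusion.fullyCentralized_fullyAutomized_of_fullyNormalized p hS F hF hPn
  have hrec := Fusion.receptive_of_fullyCentralized p hS F hF hfc
  by_cases hc : F.IsCentric P
  swap
  · intro α hα
    exact Subgroup.subset_closure (Fusion.mem_extSet_of_not_centric p hS F hF hfc hrec hc α hα)
  by_contra hne
  apply hess
  have hPS' : P ≤ S := hPS.le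
  have : Finite P := Fusion.finite_of_le hPS'
  have : Finite (MulAut P) := inferInstance
  have hInnU : Inn P ≤ autInducedBy S P := Fusion.inn_le_autInducedBy hPS'
  have hUA : autInducedBy S P ≤ F.autGroup P := Fusion.autInducedBy_le_autGroup F hPS'
  have hInnA : Inn P ≤ F.autGroup P := hInnU.trans hUA
  have hInnH := Fusion.inn_le_closure_extSet F hPS
  have hHA := Fusion.closure_extSet_le_autGroup F P
  have hnormal : ((Inn P).subgroupOf (F.autGroup P)).Normal := inferInstance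
  refine ⟨hc, hPn, hnormal, ((Subgroup.closure (Fusion.extSet F P)).subgroupOf (F.autGroup P)).map
    (QuotientGroup.mk' ((Inn P).subgroupOf (F.autGroup P))), ?_⟩
  set A := F.autGroup P with hA
  set I := (Inn P).subgroupOf A with hI
  set π := QuotientGroup.mk' I with hπ
  set H := Subgroup.closure (Fusion.extSet F P) with hH
  have hπsurj : Function.Surjective π := QuotientGroup.mk'_surjective I
  have hπeq : ∀ a b : A, π a = π b → ((a⁻¹ * b : A) : MulAut P) ∈ Inn P := by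
    intro a b hab
    have := (QuotientGroup.eq (s := I)).mp hab
    exact Subgroup.mem_subgroupOf.mp this
  have hπ1 : ∀ a : A, π a = 1 → (a : MulAut P) ∈ Inn P := by
    intro a ha
    have := (QuotientGroup.eq_one_iff (N := I) a).mp ha
    exact Subgroup.mem_subgroupOf.mp this
  obtain ⟨R, hR⟩ := hfa.2
  set P₀ : Sylow p (A ⧸ I) := R.mapSurjective hπsurj with hP₀
  have hP₀coe : (P₀ : Subgroup (A ⧸ I)) = ((autInducedBy S P).subgroupOf A).map π := by
    rw [hP₀, Sylow.coe_mapSurjective, hR]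
  refine ⟨?_, ?_, P₀, ?_⟩
  · -- `p` divides the order of the quotient
    obtain ⟨g, hgN, hgP⟩ := Fusion.exists_mem_normalizerIn_not_mem hS hPS' hPS.ne
    have hgS : g ∈ S := (Subgroup.mem_inf.mp hgN).1
    have hgN' : g ∈ Subgroup.normalizer (P : Set Ω) := (Subgroup.mem_inf.mp hgN).2
    have huU : conjAutHom P ⟨g, hgN'⟩ ∈ autInducedBy S P :=
      Fusion.conjAutHom_mem_autInducedBy P _ hgS
    have hmem : π ⟨conjAutHom P ⟨g, hgN'⟩, hUA huU⟩ ∈ (P₀ : Subgroup (A ⧸ I)) := by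
      rw [hP₀coe]
      exact ⟨_, Subgroup.mem_subgroupOf.mpr huU, rfl⟩
    have hne1 : π ⟨conjAutHom P ⟨g, hgN'⟩, hUA huU⟩ ≠ 1 := by
      intro h1
      obtain ⟨x, hx⟩ := hπ1 _ h1
      apply hgP
      have hcomm : (x : Ω)⁻¹ * g ∈ centralizerIn S P := by
        refine Subgroup.mem_inf.mpr ⟨S.mul_mem (S.inv_mem (hPS' x.2)) hgS, ?_⟩
        rw [Subgroup.mem_centralizer_iff]
        intro y hy
        have h2 := congrArg (fun β : MulAut P => ((β ⟨y, hy⟩ : P) : Ω)) hx
        have h3 : (x : Ω) * y * (x : Ω)⁻¹ = g * y * g⁻¹ := h2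
        calc y * ((x : Ω)⁻¹ * g) = (x : Ω)⁻¹ * ((x : Ω) * y * (x : Ω)⁻¹) * g := by group
          _ = (x : Ω)⁻¹ * (g * y * g⁻¹) * g := by rw [h3]
          _ = (x : Ω)⁻¹ * g * y := by group
      have h4 := hc.2 P (Fusion.isConj_refl F hPS') hcomm
      have h5 : g = (x : Ω) * ((x : Ω)⁻¹ * g) := by group
      rw [h5]
      exact P.mul_mem x.2 h4
    have hcard := P₀.card_eq_multiplicity
    have hpos : (Nat.card (A ⧸ I)).factorization p ≠ 0 := by
      intro h0
      rw [h0, pow_zero] at hcard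
      have hbot : (P₀ : Subgroup (A ⧸ I)) = ⊥ := Subgroup.card_eq_one.mp hcard
      rw [hbot, Subgroup.mem_bot] at hmem
      exact hne1 hmem
    exact Nat.dvd_of_factorization_pos hpos
  · -- the image of `H` is proper
    intro htop
    apply hne
    intro α hα
    have h1 : π ⟨α, hα⟩ ∈ (H.subgroupOf A).map π := by rw [htop]; trivial
    obtain ⟨b, hb, hbα⟩ := h1
    have h2 := hπeq b ⟨α, hα⟩ hbα
    have h3 : α = (b : MulAut P) * ((b⁻¹ * ⟨α, hα⟩ : A) : MulAut P) := by
      show α = (b : MulAut P) * ((b : MulAut P)⁻¹ * α)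
      group
    rw [h3]
    exact H.mul_mem (Subgroup.mem_subgroupOf.mp hb) (hInnH h2)
  · -- the 1-generated core lies in the image of `H`
    unfold kGeneratedCore
    apply iSup_le
    rintro ⟨Q, hQP₀, hQrank⟩
    have hQne : Q ≠ ⊥ := ne_bot_of_not_pRankLE_zero p Q (by simpa using hQrank)
    intro x hx
    obtain ⟨a, rfl⟩ := hπsurj x
    refine ⟨a, ?_, rfl⟩
    rw [SetLike.mem_coe, Subgroup.mem_subgroupOf]
    apply Subgroup.subset_closure
    set V : Subgroup (MulAut P) := (Q.comap π).map A.subtype with hVdef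
    have hmemV : ∀ β : MulAut P, β ∈ V ↔ ∃ hβ : β ∈ A, π ⟨β, hβ⟩ ∈ Q := by
      intro β
      constructor
      · rintro ⟨b, hb, rfl⟩
        exact ⟨b.2, hb⟩
      · rintro ⟨hβ, hβQ⟩
        exact ⟨⟨β, hβ⟩, hβQ, rfl⟩
    apply Fusion.mem_extSet_of_normalizes F hrec a.1 a.2 V
    · intro β hβ
      rw [hmemV]
      refine ⟨hInnA hβ, ?_⟩
      have : π ⟨β, hInnA hβ⟩ = 1 := by
        rw [hπ, QuotientGroup.mk'_apply, QuotientGroup.eq_one_iff]
        exact Subgroup.mem_subgroupOf.mpr hβ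
      rw [this]
      exact Q.one_mem
    · intro β hβ
      obtain ⟨hβA, hβQ⟩ := (hmemV β).mp hβ
      have h1 := hQP₀ hβQ
      rw [hP₀coe] at h1
      obtain ⟨u, hu, huβ⟩ := h1
      have h2 := hπeq u ⟨β, hβA⟩ huβ
      have h3 : β = (u : MulAut P) * ((u⁻¹ * ⟨β, hβA⟩ : A) : MulAut P) := by
        show β = (u : MulAut P) * ((u : MulAut P)⁻¹ * β)
        group
      rw [h3]
      exact Subgroup.mul_mem _ (Subgroup.mem_subgroupOf.mp hu) (hInnU h2)
    · obtain ⟨q, hq1⟩ := (Subgroup.ne_bot_iff_exists_ne_one).mp hQne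
      obtain ⟨b, hb⟩ := hπsurj q.1
      refine ⟨b.1, (hmemV _).mpr ⟨b.2, by rw [hb]; exact q.2⟩, ?_⟩
      intro hbI
      apply hq1
      have : π b = 1 := by
        rw [hπ, QuotientGroup.mk'_apply, QuotientGroup.eq_one_iff]
        exact Subgroup.mem_subgroupOf.mpr hbI
      apply Subtype.ext
      rw [← hb, this]
      rfl
    · intro v hv
      obtain ⟨hvA, hvQ⟩ := (hmemV v).mp hv
      rw [hmemV]
      refine ⟨A.mul_mem (A.mul_mem a.2 hvA) (A.inv_mem a.2), ?_⟩
      have h1 : (⟨(a : MulAut P) * v * (a : MulAut P)⁻¹, A.mul_mem (A.mul_mem a.2 hvA) (A.inv_mem a.2)⟩ : A)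
          = a * ⟨v, hvA⟩ * a⁻¹ := rfl
      rw [h1, map_mul, map_mul, map_inv]
      exact (Subgroup.mem_normalizer_iff.mp hx _).mp hvQ

/-- Alperin–Goldschmidt fusion theorem. -/
theorem Fusion.alperin_aux [Finite S] (p : ℕ) [Fact p.Prime] (hS : IsPGroup p S)
    (F : FusionSystem S) (hF : F.IsSaturated p) (E : FusionSystem S)
    (hE : ∀ P : Subgroup Ω, (P = S ∨ F.IsEssential p P) → F.autGroup P ≤ E.autGroup P) :
    ∀ (n : ℕ) (P : Subgroup Ω) (φ : P →* Ω), φ ∈ F.Hom P → Nat.card S - Nat.card P = n →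
      φ ∈ E.Hom P := by
  intro n
  induction n using Nat.strong_induction_on with
  | _ n ih =>
  intro P φ hφ hn
  have hPS := Fusion.src_le F hφ
  by_cases hPeq : P = S
  · subst hPeq
    have hr : φ.range = P := Fusion.isConj_top_eq F ⟨φ, hφ, rfl⟩
    set α : MulAut P := Fusion.equivOfRange φ (F.injective_of_mem hφ) hr with hα
    have hαF : α ∈ F.autGroup P := by
      rw [Fusion.mem_autGroup_iff F le_rfl]
      convert hφ using 1
      ext y
      rfl
    have hαE := hE P (Or.inl rfl) hαF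
    rw [Fusion.mem_autGroup_iff E le_rfl] at hαE
    convert hαE using 1
    ext y
    rfl
  have hPlt : P < S := lt_of_le_of_ne hPS hPeq
  obtain ⟨Q, hPQ, hQn⟩ := Fusion.exists_isConj_fullyNormalized F hPS
  obtain ⟨hQc, hQa⟩ := Fusion.fullyCentralized_fullyAutomized_of_fullyNormalized p hS F hF hQn
  have hQr := Fusion.receptive_of_fullyCentralized p hS F hF hQc
  have hQS : Q ≤ S := hQn.1
  have hcardPQ : Nat.card P = Nat.card Q := Fusion.card_eq_of_isConj F hPQ
  have hQlt : Q < S := by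
    refine lt_of_le_of_ne hQS ?_
    intro hQeq
    apply hPeq
    apply Subgroup.eq_of_le_of_card_ge hPS
    rw [hcardPQ, hQeq]
  have hRQ : F.IsConj φ.range Q :=
    Fusion.isConj_trans F (Fusion.isConj_symm F ⟨φ, hφ, rfl⟩) hPQ
  have hcardR : Nat.card P = Nat.card φ.range := Fusion.card_eq_of_isConj F ⟨φ, hφ, rfl⟩
  have hRS : φ.range ≤ S := Fusion.range_le F hφ
  have hRne : φ.range ≠ S := by
    intro hRS'
    apply hPeq
    apply Subgroup.eq_of_le_of_card_ge hPS
    rw [hcardR, hRS']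
  obtain ⟨ρ₁, hρ₁, hρ₁N, hρ₁P⟩ := Fusion.exists_hom_normalizerIn p hS F hQa hQr hPQ
  obtain ⟨ρ₂, hρ₂, hρ₂N, hρ₂R⟩ := Fusion.exists_hom_normalizerIn p hS F hQa hQr hRQ
  have hlt₁ : Nat.card S - Nat.card (normalizerIn S P) < n := by
    have := Fusion.card_lt_card_normalizerIn hS hPS hPeq
    have hle : Nat.card (normalizerIn S P) ≤ Nat.card S := Subgroup.card_le_of_le inf_le_left
    omega
  have hlt₂ : Nat.card S - Nat.card (normalizerIn S φ.range) < n := by
    have := Fusion.card_lt_card_normalizerIn hS hRS hRne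
    have hle : Nat.card (normalizerIn S φ.range) ≤ Nat.card S :=
      Subgroup.card_le_of_le inf_le_left
    omega
  have hρ₁E := ih _ hlt₁ _ ρ₁ hρ₁ rfl
  have hρ₂E := ih _ hlt₂ _ ρ₂ hρ₂ rfl
  have hPN := Fusion.le_normalizerIn hPS
  have hRN := Fusion.le_normalizerIn hRS
  have hψ₁ := Fusion.restrict_mem F hρ₁ hPN
  have hψ₁E := Fusion.restrict_mem E hρ₁E hPN
  have hr₁ := Fusion.range_restrict_eq hPS ρ₁ hρ₁P
  have hφR : ∀ x : P, φ x ∈ normalizerIn S φ.range := fun x => hRN ⟨x, rfl⟩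
  have hψ₂ := F.comp_mem hφ hρ₂ hφR
  have hr₂ : (ρ₂.comp (φ.codRestrict _ hφR)).range = Q := by
    ext y
    constructor
    · rintro ⟨x, rfl⟩
      rw [← hρ₂R]
      refine ⟨⟨φ x, hφR x⟩, ?_, rfl⟩
      rw [SetLike.mem_coe, Subgroup.mem_subgroupOf]
      exact ⟨x, rfl⟩
    · intro hy
      rw [← hρ₂R] at hy
      obtain ⟨m, hm, rfl⟩ := hy
      rw [SetLike.mem_coe, Subgroup.mem_subgroupOf] at hm
      obtain ⟨x, hx⟩ := hm
      refine ⟨x, ?_⟩
      show ρ₂ ⟨φ x, hφR x⟩ = ρ₂ m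
      congr 1
      exact Subtype.ext hx
  set ψ₁ : P →* Ω := ρ₁.comp (Subgroup.inclusion hPN) with hψ₁def
  set ψ₂ : P →* Ω := ρ₂.comp (φ.codRestrict _ hφR) with hψ₂def
  set e₁ := Fusion.equivOfRange ψ₁ (F.injective_of_mem hψ₁) hr₁ with he₁
  set e₂ := Fusion.equivOfRange ψ₂ (F.injective_of_mem hψ₂) hr₂ with he₂
  set α : MulAut Q := e₁.symm.trans e₂ with hα
  have hαF : α ∈ F.autGroup Q := by
    rw [Fusion.mem_autGroup_iff F hQS]
    have h1 := Fusion.equivOfRange_symm_mem F hψ₁ hr₁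
    have h2 := F.comp_mem h1 hψ₂ (fun y => (e₁.symm y).2)
    convert h2 using 1
    ext y
    rfl
  -- `α ∈ Aut_E(Q)`
  have hαE : α ∈ E.autGroup Q := by
    by_cases hess : F.IsEssential p Q
    · exact hE Q (Or.inr hess) hαF
    · have h1 := Fusion.autGroup_le_closure_extSet p hS F hF hQlt hQn hess hαF
      have h2 : Subgroup.closure (Fusion.extSet F Q) ≤ E.autGroup Q := by
        rw [Subgroup.closure_le]
        rintro β ⟨Q', hQQ', φ', hφ', hβ⟩
        have hQ'S := Fusion.src_le F hφ'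
        have hlt' : Nat.card S - Nat.card Q' < n := by
          have : Finite Q' := Fusion.finite_of_le hQ'S
          have h3 := card_lt_of_lt hQQ'
          have h4 : Nat.card Q' ≤ Nat.card S := Subgroup.card_le_of_le hQ'S
          omega
        have hφ'E := ih _ hlt' _ φ' hφ' rfl
        apply Subgroup.subset_closure
        show Q.subtype.comp β.toMonoidHom ∈ E.Hom Q
        have := Fusion.restrict_mem E hφ'E hQQ'.le
        convert this using 1
        ext x
        exact (hβ x).symm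
      exact h2 h1
  -- `ψ₂ ∈ E`
  have hαE' := (Fusion.mem_autGroup_iff E hQS α).mp hαE
  have hψ₂E : ψ₂ ∈ E.Hom P := by
    have h1 := E.comp_mem hψ₁E hαE' (fun x => (e₁ x).2)
    convert h1 using 1
    ext x
    show ψ₂ x = ((e₂ (e₁.symm (e₁ x)) : Q) : Ω)
    rw [MulEquiv.symm_apply_apply]
    rfl
  -- `φ = (ρ₂|_R)⁻¹ ∘ ψ₂`
  have hρ₂RE := Fusion.restrict_mem E hρ₂E hRN
  have hr₃ := Fusion.range_restrict_eq hRS ρ₂ hρ₂R
  obtain ⟨σ, hσ, hσinv, -⟩ := Fusion.exists_inv E hρ₂RE hr₃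
  have hψ₂Q : ∀ x : P, ψ₂ x ∈ Q := fun x => hr₂ ▸ ⟨x, rfl⟩
  have h5 := E.comp_mem hψ₂E hσ hψ₂Q
  convert h5 using 1
  ext x
  show φ x = σ ⟨ψ₂ x, hψ₂Q x⟩
  have h6 := hσinv ⟨φ x, ⟨x, rfl⟩⟩ (hψ₂Q x)
  exact h6.symm

theorem Fusion.alperin [Finite S] (p : ℕ) [Fact p.Prime] (hS : IsPGroup p S)
    (F : FusionSystem S) (hF : F.IsSaturated p) (E : FusionSystem S)
    (hE : ∀ P : Subgroup Ω, (P = S ∨ F.IsEssential p P) → F.autGroup P ≤ E.autGroup P) :
    F ≤ E :=
  fun P _ hφ => Fusion.alperin_aux p hS F hF E hE _ P _ hφ rfl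

end Cfsg.Agent.Lead
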