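import Mathlib
import Cfsg.Prelude.Def_FusionSystem
import Cfsg.Agent.Lead.FusionAlperin

set_option autoImplicit false

namespace Cfsg.Agent.Lead

open Cfsg Cfsg.FusionSystem

variable {Ω : Type*} [Group Ω] {S : Subgroup Ω}

/-- Alperin–Goldschmidt fusion theorem. -/
theorem Fusion.alperin_ind_aux [Finite S] (p : ℕ) [Fact p.Prime] (hS : IsPGroup p S)
    (F : FusionSystem S) (hF : F.IsSaturated p) (E : FusionSystem S)
    (hE : ∀ P : Subgroup Ω, (P = S ∨ F.IsEssential p P) →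
      (∀ (R : Subgroup Ω) (ψ : R →* Ω), ψ ∈ F.Hom R → Nat.card P < Nat.card R → ψ ∈ E.Hom R) →
      F.autGroup P ≤ E.autGroup P) :
    ∀ (n : ℕ) (P : Subgroup Ω) (φ : P →* Ω), φ ∈ F.Hom P → Nat.card S - Nat.card P = n →
      φ ∈ E.Hom P := by
  intro n
  induction n using Nat.strong_induction_on with
  | _ n ih =>
  intro P φ hφ hn
  have hPS := Fusion.src_le F hφ
  by_cases hPeq : P = S
  · subst hPeq
    have hr : φ.range = P := Fusion.isConj_top_eq F ⟨φ, hφ, rfl⟩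
    set α : MulAut P := Fusion.equivOfRange φ (F.injective_of_mem hφ) hr with hα
    have hαF : α ∈ F.autGroup P := by
      rw [Fusion.mem_autGroup_iff F le_rfl]
      convert hφ using 1
      ext y
      rfl
    have hαE := hE P (Or.inl rfl) (fun R ψ hψ hlt => by
      exfalso
      have h1 : Nat.card R ≤ Nat.card P := Subgroup.card_le_of_le (Fusion.src_le F hψ)
      omega) hαF
    rw [Fusion.mem_autGroup_iff E le_rfl] at hαE
    convert hαE using 1
    ext y
    rfl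
  have hPlt : P < S := lt_of_le_of_ne hPS hPeq
  obtain ⟨Q, hPQ, hQn⟩ := Fusion.exists_isConj_fullyNormalized F hPS
  obtain ⟨hQc, hQa⟩ := Fusion.fullyCentralized_fullyAutomized_of_fullyNormalized p hS F hF hQn
  have hQr := Fusion.receptive_of_fullyCentralized p hS F hF hQc
  have hQS : Q ≤ S := hQn.1
  have hcardPQ : Nat.card P = Nat.card Q := Fusion.card_eq_of_isConj F hPQ
  have hQlt : Q < S := by
    refine lt_of_le_of_ne hQS ?_
    intro hQeq
    apply hPeq
    apply Subgroup.eq_of_le_of_card_ge hPS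
    rw [hcardPQ, hQeq]
  have hRQ : F.IsConj φ.range Q :=
    Fusion.isConj_trans F (Fusion.isConj_symm F ⟨φ, hφ, rfl⟩) hPQ
  have hcardR : Nat.card P = Nat.card φ.range := Fusion.card_eq_of_isConj F ⟨φ, hφ, rfl⟩
  have hRS : φ.range ≤ S := Fusion.range_le F hφ
  have hRne : φ.range ≠ S := by
    intro hRS'
    apply hPeq
    apply Subgroup.eq_of_le_of_card_ge hPS
    rw [hcardR, hRS']
  obtain ⟨ρ₁, hρ₁, hρ₁N, hρ₁P⟩ := Fusion.exists_hom_normalizerIn p hS F hQa hQr hPQ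
  obtain ⟨ρ₂, hρ₂, hρ₂N, hρ₂R⟩ := Fusion.exists_hom_normalizerIn p hS F hQa hQr hRQ
  have hlt₁ : Nat.card S - Nat.card (normalizerIn S P) < n := by
    have := Fusion.card_lt_card_normalizerIn hS hPS hPeq
    have hle : Nat.card (normalizerIn S P) ≤ Nat.card S := Subgroup.card_le_of_le inf_le_left
    omega
  have hlt₂ : Nat.card S - Nat.card (normalizerIn S φ.range) < n := by
    have := Fusion.card_lt_card_normalizerIn hS hRS hRne
    have hle : Nat.card (normalizerIn S φ.range) ≤ Nat.card S :=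
      Subgroup.card_le_of_le inf_le_left
    omega
  have hρ₁E := ih _ hlt₁ _ ρ₁ hρ₁ rfl
  have hρ₂E := ih _ hlt₂ _ ρ₂ hρ₂ rfl
  have hPN := Fusion.le_normalizerIn hPS
  have hRN := Fusion.le_normalizerIn hRS
  have hψ₁ := Fusion.restrict_mem F hρ₁ hPN
  have hψ₁E := Fusion.restrict_mem E hρ₁E hPN
  have hr₁ := Fusion.range_restrict_eq hPS ρ₁ hρ₁P
  have hφR : ∀ x : P, φ x ∈ normalizerIn S φ.range := fun x => hRN ⟨x, rfl⟩
  have hψ₂ := F.comp_mem hφ hρ₂ hφR
  have hr₂ : (ρ₂.comp (φ.codRestrict _ hφR)).range = Q := by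
    ext y
    constructor
    · rintro ⟨x, rfl⟩
      rw [← hρ₂R]
      refine ⟨⟨φ x, hφR x⟩, ?_, rfl⟩
      rw [SetLike.mem_coe, Subgroup.mem_subgroupOf]
      exact ⟨x, rfl⟩
    · intro hy
      rw [← hρ₂R] at hy
      obtain ⟨m, hm, rfl⟩ := hy
      rw [SetLike.mem_coe, Subgroup.mem_subgroupOf] at hm
      obtain ⟨x, hx⟩ := hm
      refine ⟨x, ?_⟩
      show ρ₂ ⟨φ x, hφR x⟩ = ρ₂ m
      congr 1
      exact Subtype.ext hx
  set ψ₁ : P →* Ω := ρ₁.comp (Subgroup.inclusion hPN) with hψ₁def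
  set ψ₂ : P →* Ω := ρ₂.comp (φ.codRestrict _ hφR) with hψ₂def
  set e₁ := Fusion.equivOfRange ψ₁ (F.injective_of_mem hψ₁) hr₁ with he₁
  set e₂ := Fusion.equivOfRange ψ₂ (F.injective_of_mem hψ₂) hr₂ with he₂
  set α : MulAut Q := e₁.symm.trans e₂ with hα
  have hαF : α ∈ F.autGroup Q := by
    rw [Fusion.mem_autGroup_iff F hQS]
    have h1 := Fusion.equivOfRange_symm_mem F hψ₁ hr₁
    have h2 := F.comp_mem h1 hψ₂ (fun y => (e₁.symm y).2)
    convert h2 using 1
    ext y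
    rfl
  -- `α ∈ Aut_E(Q)`
  have hαE : α ∈ E.autGroup Q := by
    by_cases hess : F.IsEssential p Q
    · refine hE Q (Or.inr hess) (fun R ψ hψ hlt => ?_) hαF
      have hR'S := Fusion.src_le F hψ
      have h4 : Nat.card R ≤ Nat.card S := Subgroup.card_le_of_le hR'S
      have hlt' : Nat.card S - Nat.card R < n := by omega
      exact ih _ hlt' R ψ hψ rfl
    · have h1 := Fusion.autGroup_le_closure_extSet p hS F hF hQlt hQn hess hαF
      have h2 : Subgroup.closure (Fusion.extSet F Q) ≤ E.autGroup Q := by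
        rw [Subgroup.closure_le]
        rintro β ⟨Q', hQQ', φ', hφ', hβ⟩
        have hQ'S := Fusion.src_le F hφ'
        have hlt' : Nat.card S - Nat.card Q' < n := by
          have : Finite Q' := Fusion.finite_of_le hQ'S
          have h3 := card_lt_of_lt hQQ'
          have h4 : Nat.card Q' ≤ Nat.card S := Subgroup.card_le_of_le hQ'S
          omega
        have hφ'E := ih _ hlt' _ φ' hφ' rfl
        apply Subgroup.subset_closure
        show Q.subtype.comp β.toMonoidHom ∈ E.Hom Q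
        have := Fusion.restrict_mem E hφ'E hQQ'.le
        convert this using 1
        ext x
        exact (hβ x).symm
      exact h2 h1
  -- `ψ₂ ∈ E`
  have hαE' := (Fusion.mem_autGroup_iff E hQS α).mp hαE
  have hψ₂E : ψ₂ ∈ E.Hom P := by
    have h1 := E.comp_mem hψ₁E hαE' (fun x => (e₁ x).2)
    convert h1 using 1
    ext x
    show ψ₂ x = ((e₂ (e₁.symm (e₁ x)) : Q) : Ω)
    rw [MulEquiv.symm_apply_apply]
    rfl
  -- `φ = (ρ₂|_R)⁻¹ ∘ ψ₂`
  have hρ₂RE := Fusion.restrict_mem E hρ₂E hRN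
  have hr₃ := Fusion.range_restrict_eq hRS ρ₂ hρ₂R
  obtain ⟨σ, hσ, hσinv, -⟩ := Fusion.exists_inv E hρ₂RE hr₃
  have hψ₂Q : ∀ x : P, ψ₂ x ∈ Q := fun x => hr₂ ▸ ⟨x, rfl⟩
  have h5 := E.comp_mem hψ₂E hσ hψ₂Q
  convert h5 using 1
  ext x
  show φ x = σ ⟨ψ₂ x, hψ₂Q x⟩
  have h6 := hσinv ⟨φ x, ⟨x, rfl⟩⟩ (hψ₂Q x)
  exact h6.symm

/-- Alperin–Goldschmidt with an induction hypothesis on larger subgroups. -/
theorem Fusion.alperin_ind [Finite S] (p : ℕ) [Fact p.Prime] (hS : IsPGroup p S)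
    (F : FusionSystem S) (hF : F.IsSaturated p) (E : FusionSystem S)
    (hE : ∀ P : Subgroup Ω, (P = S ∨ F.IsEssential p P) →
      (∀ (R : Subgroup Ω) (ψ : R →* Ω), ψ ∈ F.Hom R → Nat.card P < Nat.card R → ψ ∈ E.Hom R) →
      F.autGroup P ≤ E.autGroup P) :
    F ≤ E :=
  fun P _ hφ => Fusion.alperin_ind_aux p hS F hF E hE _ P _ hφ rfl

end Cfsg.Agent.Lead
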