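import Mathlib
import Cfsg.Prelude.Def_FusionSystem
import Cfsg.Agent.Lead.FusionAlperin

set_option autoImplicit false

namespace Cfsg.Agent.Lead

open Cfsg Cfsg.FusionSystem
open scoped commutatorElement

section PRes

variable {G : Type*} [Group G]

theorem mem_pResidual_of_coprime' {p : ℕ} {g : G} (hg : (orderOf g).Coprime p) :
    g ∈ Cfsg.pResidual p G :=
  Subgroup.subset_closure hg

theorem pResidual_map_le {G' : Type*} [Group G'] (p : ℕ) (f : G →* G') :
    (Cfsg.pResidual p G).map f ≤ Cfsg.pResidual p G' := by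
  unfold Cfsg.pResidual
  rw [MonoidHom.map_closure, Subgroup.closure_le]
  rintro _ ⟨g, hg, rfl⟩
  apply Subgroup.subset_closure
  exact Nat.Coprime.coprime_dvd_left (orderOf_map_dvd f g) hg

theorem pResidual_normal' (p : ℕ) : (Cfsg.pResidual p G).Normal := by
  constructor
  intro n hn g
  have h := pResidual_map_le p (MulAut.conj g).toMonoidHom
  exact h ⟨n, hn, rfl⟩

/-- `G = O^p(G) · P` for a Sylow `p`-subgroup `P`. -/
theorem pResidual_sup_sylow' [Finite G] {p : ℕ} [Fact p.Prime] (P : Sylow p G) :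
    Cfsg.pResidual p G ⊔ (P : Subgroup G) = ⊤ := by
  have hp : p.Prime := Fact.out
  have := pResidual_normal' (G := G) p
  have hquot : IsPGroup p (G ⧸ Cfsg.pResidual p G) := by
    intro x
    obtain ⟨g, rfl⟩ := QuotientGroup.mk_surjective x
    have hpos : orderOf g ≠ 0 := (orderOf_pos g).ne'
    obtain ⟨e, m, hm, hgm⟩ := Nat.exists_eq_pow_mul_and_not_dvd hpos p hp.one_lt.ne'
    refine ⟨e, ?_⟩
    rw [← QuotientGroup.mk_pow, QuotientGroup.eq_one_iff]
    apply mem_pResidual_of_coprime'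
    rw [orderOf_pow, hgm]
    have hpe : 0 < p ^ e := pow_pos hp.pos e
    have : Nat.gcd (p ^ e * m) (p ^ e) = p ^ e := Nat.gcd_eq_right (dvd_mul_right _ _)
    rw [this, Nat.mul_div_cancel_left m hpe]
    exact (hp.coprime_iff_not_dvd.mpr hm).symm
  obtain ⟨n, hn⟩ := IsPGroup.iff_card.mp hquot
  have hidx : (Cfsg.pResidual p G).index = p ^ n := by rw [Subgroup.index_eq_card]; exact hn
  rw [← Subgroup.index_eq_one]
  have h1 : (Cfsg.pResidual p G ⊔ (P : Subgroup G)).index ∣ p ^ n :=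
    hidx ▸ Subgroup.index_dvd_of_le le_sup_left
  have h2 : (Cfsg.pResidual p G ⊔ (P : Subgroup G)).index ∣ (P : Subgroup G).index :=
    Subgroup.index_dvd_of_le le_sup_right
  obtain ⟨k, -, hk⟩ := (Nat.dvd_prime_pow hp).mp h1
  rcases Nat.eq_zero_or_pos k with hk0 | hk0
  · rw [hk, hk0, pow_zero]
  · exfalso
    apply P.not_dvd_index
    refine dvd_trans ?_ h2
    rw [hk]
    exact dvd_pow_self p hk0.ne'

end PRes

variable {Ω : Type*} [Group Ω] {S : Subgroup Ω}

/-- The subsystem of `F` cut out by a predicate on maps closed under the fusion system operations. -/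
def Fusion.subOfPred (F : FusionSystem S) (Pr : ∀ P : Subgroup Ω, (P →* Ω) → Prop)
    (hconj : ∀ (P : Subgroup Ω) (g : Ω), P ≤ S → g ∈ S → Pr P (conjHom P g))
    (hcomp : ∀ (P Q : Subgroup Ω) (φ : P →* Ω) (ψ : Q →* Ω) (h : ∀ x : P, φ x ∈ Q),
      φ ∈ F.Hom P → ψ ∈ F.Hom Q → Pr P φ → Pr Q ψ → Pr P (ψ.comp (φ.codRestrict Q h)))
    (hinv : ∀ (P : Subgroup Ω) (φ : P →* Ω) (ψ : φ.range →* Ω), φ ∈ F.Hom P → Pr P φ →
      ψ ∈ F.Hom φ.range → (∀ x : P, ψ ⟨φ x, ⟨x, rfl⟩⟩ = (x : Ω)) → Pr φ.range ψ) :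
    FusionSystem S where
  Hom P := {φ | φ ∈ F.Hom P ∧ Pr P φ}
  le_of_mem h := F.le_of_mem h.1
  injective_of_mem h := F.injective_of_mem h.1
  conj_mem hP hg := ⟨F.conj_mem hP hg, hconj _ _ hP hg⟩
  comp_mem hφ hψ h := ⟨F.comp_mem hφ.1 hψ.1 h, hcomp _ _ _ _ h hφ.1 hψ.1 hφ.2 hψ.2⟩
  inv_mem := by
    intro P φ hφ
    obtain ⟨ψ, hψ, hinvψ⟩ := F.inv_mem hφ.1
    exact ⟨ψ, ⟨hψ, hinv P φ ψ hφ.1 hφ.2 hψ hinvψ⟩, hinvψ⟩

/-- Alperin-type generation for predicates: a predicate closed under the operations that holds for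
`Aut_S(P)` and `O^p(Aut_F(P))` for all `P ≤ S` holds for all maps. -/
theorem Fusion.pred_of_alperin [Finite S] (p : ℕ) [Fact p.Prime] (hS : IsPGroup p S)
    (F : FusionSystem S) (hF : F.IsSaturated p) (Pr : ∀ P : Subgroup Ω, (P →* Ω) → Prop)
    (hconj : ∀ (P : Subgroup Ω) (g : Ω), P ≤ S → g ∈ S → Pr P (conjHom P g))
    (hcomp : ∀ (P Q : Subgroup Ω) (φ : P →* Ω) (ψ : Q →* Ω) (h : ∀ x : P, φ x ∈ Q),
      φ ∈ F.Hom P → ψ ∈ F.Hom Q → Pr P φ → Pr Q ψ → Pr P (ψ.comp (φ.codRestrict Q h)))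
    (hinv : ∀ (P : Subgroup Ω) (φ : P →* Ω) (ψ : φ.range →* Ω), φ ∈ F.Hom P → Pr P φ →
      ψ ∈ F.Hom φ.range → (∀ x : P, ψ ⟨φ x, ⟨x, rfl⟩⟩ = (x : Ω)) → Pr φ.range ψ)
    (hres : ∀ (P : Subgroup Ω), P ≤ S → ∀ β : F.autGroup P, β ∈ pResidual p (F.autGroup P) →
      Pr P (P.subtype.comp (β : MulAut P).toMonoidHom))
    {P : Subgroup Ω} {φ : P →* Ω} (hφ : φ ∈ F.Hom P) : Pr P φ := by
  set E := Fusion.subOfPred F Pr hconj hcomp hinv with hE
  have hFE : F ≤ E := by
    apply Fusion.alperin p hS F hF E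
    intro P hP
    have hfa : F.IsFullyAutomized p P := by
      rcases hP with rfl | hess
      · exact Fusion.top_fullyAutomized p F hF
      · exact (Fusion.fullyCentralized_fullyAutomized_of_fullyNormalized p hS F hF hess.2.1).2
    obtain ⟨hPS, R, hR⟩ := hfa
    have : Finite P := Fusion.finite_of_le hPS
    have : Finite (F.autGroup P) := inferInstance
    have hsup := pResidual_sup_sylow' R
    have h1 : pResidual p (F.autGroup P) ≤ (E.autGroup P).subgroupOf (F.autGroup P) := by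
      intro β hβ
      rw [Subgroup.mem_subgroupOf, Fusion.mem_autGroup_iff E hPS]
      exact ⟨(Fusion.mem_autGroup_iff F hPS _).mp β.2, hres P hPS β hβ⟩
    have h2 : (R : Subgroup (F.autGroup P)) ≤ (E.autGroup P).subgroupOf (F.autGroup P) := by
      rw [hR]
      intro β hβ
      rw [Subgroup.mem_subgroupOf] at hβ ⊢
      exact Fusion.autInducedBy_le_autGroup E hPS hβ
    have h3 : (⊤ : Subgroup (F.autGroup P)) ≤ (E.autGroup P).subgroupOf (F.autGroup P) := by
      rw [← hsup]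
      exact sup_le h1 h2
    intro α hα
    have := h3 (Subgroup.mem_top (⟨α, hα⟩ : F.autGroup P))
    rwa [Subgroup.mem_subgroupOf] at this
  exact (hFE P hφ).2

end Cfsg.Agent.Lead

namespace Cfsg.Agent.Lead

open Cfsg Cfsg.FusionSystem
open scoped commutatorElement

variable {Ω : Type*} [Group Ω] {S : Subgroup Ω}

theorem Fusion.hyperfocal_le (F : FusionSystem S) (p : ℕ) : F.hyperfocalSubgroup p ≤ S := by
  unfold FusionSystem.hyperfocalSubgroup
  rw [Subgroup.closure_le]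
  rintro y ⟨P, α, x, hPS, -, rfl⟩
  exact S.mul_mem (S.inv_mem (hPS x.2)) (hPS ((α : MulAut P) x).2)

theorem Fusion.mem_hyperfocal (F : FusionSystem S) (p : ℕ) {P : Subgroup Ω} (hPS : P ≤ S)
    (α : F.autGroup P) (hα : α ∈ pResidual p (F.autGroup P)) (x : P) :
    (x : Ω)⁻¹ * (((α : MulAut P) x : P) : Ω) ∈ F.hyperfocalSubgroup p :=
  Subgroup.subset_closure ⟨P, α, x, hPS, hα, rfl⟩

/-- Transport of automorphism groups along a map of the system. -/
noncomputable def Fusion.autGroupMap (F : FusionSystem S) {Q P : Subgroup Ω} {φ : Q →* Ω}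
    (hφ : φ ∈ F.Hom Q) (hr : φ.range = P) : F.autGroup Q →* F.autGroup P :=
  ((MulAut.congr (Fusion.equivOfRange φ (F.injective_of_mem hφ) hr)).toMonoidHom.comp
    (F.autGroup Q).subtype).codRestrict (F.autGroup P)
    (fun α => Fusion.congr_mem_autGroup F hφ hr α.1 α.2)

theorem Fusion.conj_mem_hyperfocal (F : FusionSystem S) (p : ℕ) {g : Ω} (hg : g ∈ S) {y : Ω}
    (hy : y ∈ F.hyperfocalSubgroup p) : g * y * g⁻¹ ∈ F.hyperfocalSubgroup p := by
  have hle : (F.hyperfocalSubgroup p).map (MulAut.conj g).toMonoidHom ≤ F.hyperfocalSubgroup p := by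
    unfold FusionSystem.hyperfocalSubgroup
    rw [MonoidHom.map_closure, Subgroup.closure_le]
    rintro _ ⟨_, ⟨P, α, x, hPS, hα, rfl⟩, rfl⟩
    have hφ := F.conj_mem (P := P) (g := g) hPS hg
    set f := Fusion.autGroupMap F hφ rfl with hf
    set e := Fusion.equivOfRange (conjHom P g) (F.injective_of_mem hφ) rfl with he
    have hα' : f α ∈ pResidual p (F.autGroup (conjHom P g).range) :=
      pResidual_map_le p f ⟨α, hα, rfl⟩
    have hP'S : (conjHom P g).range ≤ S := Fusion.range_le F hφ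
    have := Fusion.mem_hyperfocal F p hP'S (f α) hα' (e x)
    have h1 : ((f α : MulAut _) (e x)) = e ((α : MulAut P) (e.symm (e x))) := rfl
    rw [h1, MulEquiv.symm_apply_apply] at this
    have h2 : (MulAut.conj g).toMonoidHom ((x : Ω)⁻¹ * (((α : MulAut P) x : P) : Ω)) =
        ((e x : _) : Ω)⁻¹ * ((e ((α : MulAut P) x) : _) : Ω) := by
      show g * ((x : Ω)⁻¹ * (((α : MulAut P) x : P) : Ω)) * g⁻¹ =
        (g * (x : Ω) * g⁻¹)⁻¹ * (g * (((α : MulAut P) x : P) : Ω) * g⁻¹)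
      group
    rw [SetLike.mem_coe, h2]
    exact this
  exact hle ⟨y, hy, rfl⟩

theorem Fusion.hyperfocal_conj_iff (F : FusionSystem S) (p : ℕ) {g : Ω} (hg : g ∈ S) (y : Ω) :
    y ∈ F.hyperfocalSubgroup p ↔ g * y * g⁻¹ ∈ F.hyperfocalSubgroup p := by
  constructor
  · exact Fusion.conj_mem_hyperfocal F p hg
  · intro h
    have := Fusion.conj_mem_hyperfocal F p (S.inv_mem hg) h
    have h2 : g⁻¹ * (g * y * g⁻¹) * g⁻¹⁻¹ = y := by group
    rwa [h2] at this

/-- The hyperfocal subgroup is strongly closed. -/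
theorem Fusion.hyperfocal_stronglyClosed [Finite S] (p : ℕ) [Fact p.Prime] (hS : IsPGroup p S)
    (F : FusionSystem S) (hF : F.IsSaturated p) : F.StronglyClosed (F.hyperfocalSubgroup p) := by
  refine ⟨Fusion.hyperfocal_le F p, fun R hR φ hφ x => ?_⟩
  have key := Fusion.pred_of_alperin p hS F hF
    (fun P φ => ∀ x : P, (x : Ω) ∈ F.hyperfocalSubgroup p ↔ φ x ∈ F.hyperfocalSubgroup p)
    ?_ ?_ ?_ ?_ hφ
  · exact (key x).mp (hR x.2)
  · intro P g _ hg x
    exact Fusion.hyperfocal_conj_iff F p hg _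
  · intro P Q φ ψ h _ _ hPφ hPψ x
    rw [hPφ x]
    exact hPψ ⟨φ x, h x⟩
  · intro P φ ψ _ hPφ _ hinv
    rintro ⟨_, x, rfl⟩
    rw [hinv x]
    exact (hPφ x).symm
  · intro P hPS β hβ x
    have h1 := Fusion.mem_hyperfocal F p hPS β hβ x
    show (x : Ω) ∈ _ ↔ (((β : MulAut P) x : P) : Ω) ∈ _
    constructor
    · intro hx
      have := Subgroup.mul_mem _ hx h1
      rwa [mul_inv_cancel_left] at this
    · intro hx
      have := Subgroup.mul_mem _ hx (Subgroup.inv_mem _ h1)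
      rw [mul_inv_rev, inv_inv, ← mul_assoc, mul_inv_cancel, one_mul] at this
      exact this

/-- The focal subgroup is the product of the hyperfocal subgroup and `[S, S]`. -/
theorem Fusion.focal_eq [Finite S] (p : ℕ) [Fact p.Prime] (hS : IsPGroup p S)
    (F : FusionSystem S) (hF : F.IsSaturated p) :
    F.focalSubgroup = F.hyperfocalSubgroup p ⊔ ⁅(S : Subgroup Ω), (S : Subgroup Ω)⁆ := by
  apply le_antisymm
  · unfold FusionSystem.focalSubgroup
    rw [Subgroup.closure_le]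
    rintro y ⟨P, φ, x, hφ, rfl⟩
    have key := Fusion.pred_of_alperin p hS F hF
      (fun P φ => ∀ x : P, (x : Ω)⁻¹ * φ x ∈
        F.hyperfocalSubgroup p ⊔ ⁅(S : Subgroup Ω), (S : Subgroup Ω)⁆)
      ?_ ?_ ?_ ?_ hφ
    · exact key x
    · intro P g hPS hg x
      apply (le_sup_right : ⁅(S : Subgroup Ω), (S : Subgroup Ω)⁆ ≤ _)
      have h1 : (x : Ω)⁻¹ * conjHom P g x = ⁅(x : Ω)⁻¹, g⁆ := by
        show (x : Ω)⁻¹ * (g * x * g⁻¹) = _
        rw [commutatorElement_def]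
        group
      rw [h1]
      exact Subgroup.commutator_mem_commutator (S.inv_mem (hPS x.2)) hg
    · intro P Q φ ψ h _ _ hPφ hPψ x
      have h1 : (x : Ω)⁻¹ * (ψ.comp (φ.codRestrict Q h)) x =
          ((x : Ω)⁻¹ * φ x) * ((φ x)⁻¹ * ψ ⟨φ x, h x⟩) := by
        show (x : Ω)⁻¹ * ψ ⟨φ x, h x⟩ = _
        group
      rw [h1]
      exact Subgroup.mul_mem _ (hPφ x) (hPψ ⟨φ x, h x⟩)
    · intro P φ ψ _ hPφ _ hinv
      rintro ⟨_, x, rfl⟩
      rw [hinv x]
      have := Subgroup.inv_mem _ (hPφ x)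
      rwa [mul_inv_rev, inv_inv] at this
    · intro P hPS β hβ x
      exact (le_sup_left : F.hyperfocalSubgroup p ≤ _) (Fusion.mem_hyperfocal F p hPS β hβ x)
  · apply sup_le
    · unfold FusionSystem.hyperfocalSubgroup FusionSystem.focalSubgroup
      apply Subgroup.closure_mono
      rintro y ⟨P, α, x, hPS, -, rfl⟩
      exact ⟨P, P.subtype.comp (α : MulAut P).toMonoidHom, x,
        (Fusion.mem_autGroup_iff F hPS _).mp α.2, rfl⟩
    · rw [Subgroup.commutator_le]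
      intro a ha b hb
      apply Subgroup.subset_closure
      refine ⟨S, conjHom S b, ⟨a⁻¹, S.inv_mem ha⟩, F.conj_mem le_rfl hb, ?_⟩
      show ⁅a, b⁆ = (a⁻¹)⁻¹ * (b * a⁻¹ * b⁻¹)
      rw [commutatorElement_def]
      group

end Cfsg.Agent.Lead
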