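import Mathlib
import Cfsg.Prelude.Def_FusionSystem
import Cfsg.Agent.Lead.FusionAlperin2
import Cfsg.Agent.Lead.SylowLemmas

set_option autoImplicit false

namespace Cfsg.Agent.Lead

open Cfsg Cfsg.FusionSystem

variable {Ω : Type*} [Group Ω] {S : Subgroup Ω}

theorem Fusion.autGroup_mono {F F' : FusionSystem S} (hle : F' ≤ F) (P : Subgroup Ω) :
    F'.autGroup P ≤ F.autGroup P := by
  unfold FusionSystem.autGroup
  apply Subgroup.closure_mono
  intro α hα
  exact hle P hα

/-- Transport of a map along an equality of sources. -/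
theorem Fusion.exists_hom_of_eq (F : FusionSystem S) {P' P : Subgroup Ω} (h : P' = P)
    {χ : P' →* Ω} (hχ : χ ∈ F.Hom P') :
    ∃ χ' ∈ F.Hom P, ∀ (x : Ω) (hx : x ∈ P') (hx' : x ∈ P), χ' ⟨x, hx'⟩ = χ ⟨x, hx⟩ := by
  subst h
  exact ⟨χ, hχ, fun _ _ _ => rfl⟩

/-- A saturated subsystem `F'` over `S`, invariant under conjugation by maps of `F` and with the
same automorphisms of `S`, equals `F`. -/
theorem Fusion.eq_of_invariant_of_top [Finite S] (p : ℕ) [Fact p.Prime] (hS : IsPGroup p S)
    (F : FusionSystem S) (hF : F.IsSaturated p) (F' : FusionSystem S)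
    (hle : F' ≤ F)
    (hinv : ∀ (Q : Subgroup Ω) (φ : ↥Q →* Ω), φ ∈ F.Hom Q → ∀ (R : Subgroup Ω) (hRQ : R ≤ Q)
      (ψ : ↥R →* Ω), ψ ∈ F'.Hom R → ∀ (hψQ : ∀ x : R, ψ x ∈ Q),
      ∃ χ ∈ F'.Hom ((R.subgroupOf Q).map φ),
        ∀ (x : R) (hx : φ ⟨(x : Ω), hRQ x.2⟩ ∈ (R.subgroupOf Q).map φ),
          χ ⟨φ ⟨(x : Ω), hRQ x.2⟩, hx⟩ = φ ⟨ψ x, hψQ x⟩)
    (htop : F'.autGroup S = F.autGroup S) (P : Subgroup Ω) : F'.Hom P = F.Hom P := by
  apply Set.Subset.antisymm (hle P)
  have hFF' : F ≤ F' := by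
    apply Fusion.alperin_ind p hS F hF F'
    intro P hP ih
    by_cases hPeq : P = S
    · subst hPeq
      rw [htop]
    have hess : F.IsEssential p P := by
      rcases hP with h | h
      · exact absurd h hPeq
      · exact h
    have hPS : P ≤ S := hess.1.1
    have : Finite P := Fusion.finite_of_le hPS
    have : Finite (MulAut P) := inferInstance
    obtain ⟨hfc, hfa⟩ := Fusion.fullyCentralized_fullyAutomized_of_fullyNormalized p hS F hF hess.2.1
    have hrec := Fusion.receptive_of_fullyCentralized p hS F hF hfc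
    have hUA : autInducedBy S P ≤ F.autGroup P := Fusion.autInducedBy_le_autGroup F hPS
    have hUA' : autInducedBy S P ≤ F'.autGroup P := Fusion.autInducedBy_le_autGroup F' hPS
    have hA'A : F'.autGroup P ≤ F.autGroup P := Fusion.autGroup_mono hle P
    have hUp : IsPGroup p (autInducedBy S P) := Fusion.isPGroup_autInducedBy p hS P
    have hcardU : Nat.card (autInducedBy S P) = p ^ (Nat.card (F.autGroup P)).factorization p :=
      (exists_sylow_eq_subgroupOf_iff (F.autGroup P) (autInducedBy S P) hUA).mp hfa.2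
    have hcardU' : Nat.card (autInducedBy S P) = p ^ (Nat.card (F'.autGroup P)).factorization p :=
      card_eq_ppart_of_le hUA' hA'A hUp hcardU
    intro α hα
    -- Step 1: conjugates of `Aut_S(P)` lie in `Aut_{F'}(P)`
    have hstep1 : (autInducedBy S P).map (MulAut.conj α).toMonoidHom ≤ F'.autGroup P := by
      rintro _ ⟨u, hu, rfl⟩
      have hφ := (Fusion.mem_autGroup_iff F hPS α).mp hα
      have hψ := (Fusion.mem_autGroup_iff F' hPS u).mp (hUA' hu)
      obtain ⟨χ, hχ, hχx⟩ := hinv P _ hφ P le_rfl _ hψ (fun x => (u x).2)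
      have hPeq' : (P.subgroupOf P).map (P.subtype.comp α.toMonoidHom) = P := by
        ext y
        constructor
        · rintro ⟨x, -, rfl⟩
          exact (α x).2
        · intro hy
          refine ⟨α.symm ⟨y, hy⟩, ?_, ?_⟩
          · rw [SetLike.mem_coe, Subgroup.mem_subgroupOf]
            exact (α.symm ⟨y, hy⟩).2
          · show ((α (α.symm ⟨y, hy⟩) : P) : Ω) = y
            rw [MulEquiv.apply_symm_apply]
      obtain ⟨χ', hχ', hχχ'⟩ := Fusion.exists_hom_of_eq F' hPeq' hχ
      rw [Fusion.mem_autGroup_iff F' hPS]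
      convert hχ' using 1
      ext y
      have hy' : (y : Ω) ∈ (P.subgroupOf P).map (P.subtype.comp α.toMonoidHom) := by
        rw [hPeq']; exact y.2
      rw [hχχ' y.1 hy' y.2]
      have hxy : (P.subtype.comp α.toMonoidHom) ⟨((α.symm y : P) : Ω), (α.symm y).2⟩ = (y : Ω) := by
        show ((α (α.symm y) : P) : Ω) = y
        rw [MulEquiv.apply_symm_apply]
      have h3 := hχx (α.symm y) (by rw [hxy]; exact hy')
      have h4 : (⟨(P.subtype.comp α.toMonoidHom) ⟨((α.symm y : P) : Ω), (α.symm y).2⟩,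
          (by rw [hxy]; exact hy')⟩ : ↥((P.subgroupOf P).map (P.subtype.comp α.toMonoidHom))) =
          ⟨(y : Ω), hy'⟩ := Subtype.ext hxy
      rw [h4] at h3
      rw [h3]
      rfl
    -- Step 2: Sylow's theorem inside `Aut_{F'}(P)`
    obtain ⟨β, hβ, hβU⟩ := exists_conj_le_of_card_eq_ppart hUA' hcardU' hstep1
      (hUp.map (MulAut.conj α).toMonoidHom)
    set γ := β * α with hγ
    have hγA : γ ∈ F.autGroup P := Subgroup.mul_mem _ (hA'A hβ) hα
    have hnorm : ∀ u ∈ autInducedBy S P, γ * u * γ⁻¹ ∈ autInducedBy S P := by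
      intro u hu
      have : γ * u * γ⁻¹ = (MulAut.conj β).toMonoidHom ((MulAut.conj α).toMonoidHom u) := by
        show γ * u * γ⁻¹ = β * (α * u * α⁻¹) * β⁻¹
        rw [hγ]
        group
      rw [this]
      exact hβU ⟨_, ⟨u, hu, rfl⟩, rfl⟩
    obtain ⟨δ, hδ, hδx⟩ := Fusion.exists_aut_normalizerIn_extension F hrec γ hγA hnorm
    have hNS : normalizerIn S P ≤ S := inf_le_left
    have hδF := (Fusion.mem_autGroup_iff F hNS δ).mp hδ
    have hlt := Fusion.card_lt_card_normalizerIn hS hPS hPeq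
    have hδF' := ih _ _ hδF hlt
    have hPN : P ≤ normalizerIn S P := Fusion.le_normalizerIn hPS
    have hγF' : γ ∈ F'.autGroup P := by
      rw [Fusion.mem_autGroup_iff F' hPS]
      have := Fusion.restrict_mem F' hδF' hPN
      convert this using 1
      ext x
      exact (hδx x).symm
    have : α = β⁻¹ * γ := by rw [hγ]; group
    rw [this]
    exact Subgroup.mul_mem _ (Subgroup.inv_mem _ hβ) hγF'
  exact hFF' P

end Cfsg.Agent.Lead
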