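import Mathlib
import Cfsg.Prelude.Def_FusionSystem
import Cfsg.Agent.Lead.Fusion

set_option autoImplicit false

namespace Cfsg.Agent.Lead

open Cfsg Cfsg.FusionSystem

variable {Ω : Type*} [Group Ω] {S : Subgroup Ω}

theorem Fusion.bot_isNormal (F : FusionSystem S) : F.IsNormal ⊥ := by
  refine ⟨bot_le, ?_⟩
  intro P φ hφ
  have hle : P ⊔ ⊥ ≤ P := by simp
  refine ⟨φ.comp (Subgroup.inclusion hle), Fusion.restrict_mem F hφ hle, ?_, ?_⟩
  · intro x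
    rfl
  · ext y
    constructor
    · rintro ⟨x, hx, rfl⟩
      rw [SetLike.mem_coe, Subgroup.mem_subgroupOf, Subgroup.mem_bot] at hx
      have : x = 1 := Subtype.ext hx
      rw [this, map_one]
      exact Subgroup.one_mem _
    · intro hy
      rw [Subgroup.mem_bot] at hy
      rw [hy]
      exact Subgroup.one_mem _

theorem Fusion.bot_isCentral (F : FusionSystem S) : F.IsCentral ⊥ := by
  refine ⟨bot_le, ?_⟩
  intro P φ hφ
  have hle : P ⊔ ⊥ ≤ P := by simp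
  refine ⟨φ.comp (Subgroup.inclusion hle), Fusion.restrict_mem F hφ hle, ?_, ?_⟩
  · intro x
    rfl
  · intro x
    have hx : (x : Ω) = 1 := Subgroup.mem_bot.mp x.2
    have : Subgroup.inclusion (le_sup_right : (⊥ : Subgroup Ω) ≤ P ⊔ ⊥) x = 1 := Subtype.ext hx
    rw [this, map_one, hx]

theorem Fusion.sup_isNormal (F : FusionSystem S) {Q₁ Q₂ : Subgroup Ω} (h₁ : F.IsNormal Q₁)
    (h₂ : F.IsNormal Q₂) : F.IsNormal (Q₁ ⊔ Q₂) := by
  refine ⟨sup_le h₁.1 h₂.1, ?_⟩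
  intro P φ hφ
  obtain ⟨ψ₁, hψ₁, hext₁, hmap₁⟩ := h₁.2 P φ hφ
  obtain ⟨ψ₂, hψ₂, hext₂, hmap₂⟩ := h₂.2 (P ⊔ Q₁) ψ₁ hψ₁
  have hle : P ⊔ (Q₁ ⊔ Q₂) ≤ (P ⊔ Q₁) ⊔ Q₂ := by rw [sup_assoc]
  have hQ₁le : Q₁ ≤ P ⊔ (Q₁ ⊔ Q₂) := le_sup_left.trans le_sup_right
  have hQ₂le : Q₂ ≤ P ⊔ (Q₁ ⊔ Q₂) := le_sup_right.trans le_sup_right
  refine ⟨ψ₂.comp (Subgroup.inclusion hle), Fusion.restrict_mem F hψ₂ hle, ?_, ?_⟩
  · intro x
    rw [← hext₁ x, ← hext₂]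
    rfl
  · rw [Subgroup.subgroupOf_sup hQ₁le hQ₂le, Subgroup.map_sup]
    congr 1
    · ext y
      constructor
      · rintro ⟨x, hx, rfl⟩
        rw [SetLike.mem_coe, Subgroup.mem_subgroupOf] at hx
        have h1 : ψ₂ (Subgroup.inclusion le_sup_left (⟨x.1, (le_sup_right : Q₁ ≤ P ⊔ Q₁) hx⟩ : ↥(P ⊔ Q₁))) =
            ψ₁ ⟨x.1, (le_sup_right : Q₁ ≤ P ⊔ Q₁) hx⟩ := hext₂ _
        have h2 : ψ₁ ⟨x.1, (le_sup_right : Q₁ ≤ P ⊔ Q₁) hx⟩ ∈ (Q₁.subgroupOf (P ⊔ Q₁)).map ψ₁ := by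
          refine ⟨_, ?_, rfl⟩
          rw [SetLike.mem_coe, Subgroup.mem_subgroupOf]; exact hx
        rw [hmap₁] at h2
        rw [← h1] at h2
        exact h2
      · intro hy
        have hy' : y ∈ (Q₁.subgroupOf (P ⊔ Q₁)).map ψ₁ := by rw [hmap₁]; exact hy
        obtain ⟨x, hx, rfl⟩ := hy'
        rw [SetLike.mem_coe, Subgroup.mem_subgroupOf] at hx
        refine ⟨⟨x.1, hQ₁le hx⟩, ?_, ?_⟩
        · rw [SetLike.mem_coe, Subgroup.mem_subgroupOf]; exact hx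
        · have := hext₂ x
          rw [← this]
          rfl
    · ext y
      constructor
      · rintro ⟨x, hx, rfl⟩
        rw [SetLike.mem_coe, Subgroup.mem_subgroupOf] at hx
        have h2 : ψ₂ ⟨x.1, (le_sup_right : Q₂ ≤ (P ⊔ Q₁) ⊔ Q₂) hx⟩ ∈ (Q₂.subgroupOf ((P ⊔ Q₁) ⊔ Q₂)).map ψ₂ := by
          refine ⟨_, ?_, rfl⟩
          rw [SetLike.mem_coe, Subgroup.mem_subgroupOf]; exact hx
        rw [hmap₂] at h2
        exact h2
      · intro hy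
        have hy' : y ∈ (Q₂.subgroupOf ((P ⊔ Q₁) ⊔ Q₂)).map ψ₂ := by rw [hmap₂]; exact hy
        obtain ⟨x, hx, rfl⟩ := hy'
        rw [SetLike.mem_coe, Subgroup.mem_subgroupOf] at hx
        refine ⟨⟨x.1, hQ₂le hx⟩, ?_, ?_⟩
        · rw [SetLike.mem_coe, Subgroup.mem_subgroupOf]; exact hx
        · rfl

theorem Fusion.sup_isCentral (F : FusionSystem S) {Q₁ Q₂ : Subgroup Ω} (h₁ : F.IsCentral Q₁)
    (h₂ : F.IsCentral Q₂) : F.IsCentral (Q₁ ⊔ Q₂) := by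
  refine ⟨sup_le h₁.1 h₂.1, ?_⟩
  intro P φ hφ
  obtain ⟨ψ₁, hψ₁, hext₁, hfix₁⟩ := h₁.2 P φ hφ
  obtain ⟨ψ₂, hψ₂, hext₂, hfix₂⟩ := h₂.2 (P ⊔ Q₁) ψ₁ hψ₁
  have hle : P ⊔ (Q₁ ⊔ Q₂) ≤ (P ⊔ Q₁) ⊔ Q₂ := by rw [sup_assoc]
  have hQ₁le : Q₁ ≤ P ⊔ (Q₁ ⊔ Q₂) := le_sup_left.trans le_sup_right
  have hQ₂le : Q₂ ≤ P ⊔ (Q₁ ⊔ Q₂) := le_sup_right.trans le_sup_right
  refine ⟨ψ₂.comp (Subgroup.inclusion hle), Fusion.restrict_mem F hψ₂ hle, ?_, ?_⟩
  · intro x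
    rw [← hext₁ x, ← hext₂]
    rfl
  · -- the fixed points of ψ form a subgroup containing Q₁ and Q₂
    have key : (Q₁ ⊔ Q₂).subgroupOf (P ⊔ (Q₁ ⊔ Q₂)) ≤
        (ψ₂.comp (Subgroup.inclusion hle)).eqLocus (P ⊔ (Q₁ ⊔ Q₂)).subtype := by
      rw [Subgroup.subgroupOf_sup hQ₁le hQ₂le]
      apply sup_le
      · intro x hx
        rw [Subgroup.mem_subgroupOf] at hx
        show ψ₂ _ = x.1
        have h1 := hext₂ ⟨x.1, (le_sup_right : Q₁ ≤ P ⊔ Q₁) hx⟩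
        have h2 := hfix₁ ⟨x.1, hx⟩
        have h3 : ψ₂ ((Subgroup.inclusion hle) x) =
            ψ₂ ((Subgroup.inclusion le_sup_left) (⟨x.1, (le_sup_right : Q₁ ≤ P ⊔ Q₁) hx⟩ : ↥(P ⊔ Q₁))) := rfl
        rw [h3, h1]
        exact h2
      · intro x hx
        rw [Subgroup.mem_subgroupOf] at hx
        show ψ₂ _ = x.1
        have h2 := hfix₂ ⟨x.1, hx⟩
        rw [← h2]
        rfl
    intro x
    have hx : Subgroup.inclusion (le_sup_right : Q₁ ⊔ Q₂ ≤ P ⊔ (Q₁ ⊔ Q₂)) x ∈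
        (Q₁ ⊔ Q₂).subgroupOf (P ⊔ (Q₁ ⊔ Q₂)) := by
      rw [Subgroup.mem_subgroupOf]; exact x.2
    exact key hx

/-- Existence of a member of maximal order in a nonempty family of subgroups of a finite subgroup. -/
theorem exists_max_card_subgroup {S : Subgroup Ω} [Finite S] (𝒩 : Set (Subgroup Ω)) (hne : 𝒩.Nonempty)
    (hle : ∀ Q ∈ 𝒩, Q ≤ S) : ∃ N ∈ 𝒩, ∀ Q ∈ 𝒩, Nat.card Q ≤ Nat.card N := by
  let C : Set ℕ := (fun Q : Subgroup Ω => Nat.card Q) '' 𝒩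
  have hCne : C.Nonempty := hne.image _
  have hCbdd : BddAbove C := by
    refine ⟨Nat.card S, ?_⟩
    rintro _ ⟨Q, hQ, rfl⟩
    exact Subgroup.card_le_of_le (hle Q hQ)
  obtain ⟨N, hN, hNcard⟩ := Nat.sSup_mem hCne hCbdd
  refine ⟨N, hN, fun Q hQ => ?_⟩
  have hNcard' : Nat.card N = sSup C := hNcard
  rw [hNcard']
  exact le_csSup hCbdd ⟨Q, hQ, rfl⟩

theorem Fusion.core_isNormal [Finite S] (F : FusionSystem S) : F.IsNormal F.core := by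
  obtain ⟨N, hN, hmax⟩ := exists_max_card_subgroup (S := S) {Q | F.IsNormal Q}
    ⟨⊥, Fusion.bot_isNormal F⟩ (fun Q hQ => hQ.1)
  have hfin : ∀ H : Subgroup Ω, H ≤ S → Finite H := fun H hH =>
    Finite.of_injective (Subgroup.inclusion hH) (Subgroup.inclusion_injective hH)
  have : F.core = N := by
    apply le_antisymm
    · apply sSup_le
      intro Q hQ
      have h1 : F.IsNormal (N ⊔ Q) := Fusion.sup_isNormal F hN hQ
      have h2 := hmax _ h1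
      have := hfin _ h1.1
      have h3 : N = N ⊔ Q := Subgroup.eq_of_le_of_card_ge le_sup_left h2
      rw [h3]; exact le_sup_right
    · exact le_sSup hN
  rw [this]; exact hN

theorem Fusion.center_isCentral [Finite S] (F : FusionSystem S) : F.IsCentral F.center := by
  obtain ⟨N, hN, hmax⟩ := exists_max_card_subgroup (S := S) {Q | F.IsCentral Q}
    ⟨⊥, Fusion.bot_isCentral F⟩ (fun Q hQ => hQ.1)
  have hfin : ∀ H : Subgroup Ω, H ≤ S → Finite H := fun H hH =>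
    Finite.of_injective (Subgroup.inclusion hH) (Subgroup.inclusion_injective hH)
  have : F.center = N := by
    apply le_antisymm
    · apply sSup_le
      intro Q hQ
      have h1 : F.IsCentral (N ⊔ Q) := Fusion.sup_isCentral F hN hQ
      have h2 := hmax _ h1
      have := hfin _ h1.1
      have h3 : N = N ⊔ Q := Subgroup.eq_of_le_of_card_ge le_sup_left h2
      rw [h3]; exact le_sup_right
    · exact le_sSup hN
  rw [this]; exact hN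

end Cfsg.Agent.Lead
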