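import Mathlib
import Cfsg.Prelude.Def_FusionSystem
import Cfsg.Agent.Lead.Basic
import Cfsg.Agent.Lead.Fusion
import Cfsg.Agent.Lead.FusionAut
import Cfsg.Agent.Lead.FusionConj
import Cfsg.Agent.Lead.FusionSat
import Cfsg.Agent.Lead.FusionSat2
import Cfsg.Agent.Lead.FusionSat3
import Cfsg.Agent.Lead.FusionInner
import Cfsg.Agent.Lead.FusionAlperin
import Cfsg.Agent.Lead.AutInduced
import Cfsg.Agent.Lead.SylowLemmas
import Cfsg.Agent.Lead.StronglyEmbedded
import Cfsg.Agent.S5096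
import Cfsg.Prelude.Def_CaseTheorems

set_option autoImplicit false

namespace Cfsg.Agent.Lead

open Cfsg Cfsg.FusionSystem

variable {Ω : Type*} [Group Ω] {S : Subgroup Ω}

/-- For a centric `P`, an element of `N_S(P)` inducing an inner automorphism of `P` lies in `P`. -/
theorem Fusion.mem_of_conjAutHom_mem_inn (F : FusionSystem S) {P : Subgroup Ω} (hc : F.IsCentric P)
    (g : Ω) (hgS : g ∈ S) (hgN : g ∈ Subgroup.normalizer (P : Set Ω))
    (h : conjAutHom P ⟨g, hgN⟩ ∈ Inn P) : g ∈ P := by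
  have hPS := hc.1
  obtain ⟨x, hx⟩ := h
  have hcomm : (x : Ω)⁻¹ * g ∈ centralizerIn S P := by
    refine Subgroup.mem_inf.mpr ⟨S.mul_mem (S.inv_mem (hPS x.2)) hgS, ?_⟩
    rw [Subgroup.mem_centralizer_iff]
    intro y hy
    have h2 := congrArg (fun β : MulAut P => ((β ⟨y, hy⟩ : P) : Ω)) hx
    have h3 : (x : Ω) * y * (x : Ω)⁻¹ = g * y * g⁻¹ := h2
    calc y * ((x : Ω)⁻¹ * g) = (x : Ω)⁻¹ * ((x : Ω) * y * (x : Ω)⁻¹) * g := by group
      _ = (x : Ω)⁻¹ * (g * y * g⁻¹) * g := by rw [h3]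
      _ = (x : Ω)⁻¹ * g * y := by group
  have h4 := hc.2 P (Fusion.isConj_refl F hPS) hcomm
  have h5 : g = (x : Ω) * ((x : Ω)⁻¹ * g) := by group
  rw [h5]
  exact P.mul_mem x.2 h4

theorem autInducedBy_mono {K₁ K₂ : Subgroup Ω} (h : K₁ ≤ K₂) (P : Subgroup Ω) :
    autInducedBy K₁ P ≤ autInducedBy K₂ P := by
  apply Subgroup.closure_mono
  rintro α ⟨g, hg, hα⟩
  exact ⟨g, h hg, hα⟩

/-- A subgroup normal in the system lies in every centric radical subgroup. -/
theorem Fusion.le_of_isNormal_of_centric_radical [Finite S] (p : ℕ) [Fact p.Prime] (hS : IsPGroup p S)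
    (F : FusionSystem S) {Q P : Subgroup Ω} (hQ : F.IsNormal Q) (hc : F.IsCentric P)
    (hr : F.IsRadical p P) : Q ≤ P := by
  have hPS := hc.1
  have hQS := hQ.1
  have hPQS : P ⊔ Q ≤ S := sup_le hPS hQS
  by_contra hQP
  have hne : P ≠ P ⊔ Q := by
    intro h
    apply hQP
    rw [h]
    exact le_sup_right
  have : Finite ↥(P ⊔ Q) := Fusion.finite_of_le hPQS
  obtain ⟨g, hgT, hgP⟩ := Fusion.exists_mem_normalizerIn_not_mem (S := P ⊔ Q) (hS.to_le hPQS)
    le_sup_left hne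
  have hTS : normalizerIn (P ⊔ Q) P ≤ S := inf_le_left.trans hPQS
  have hVA : autInducedBy (normalizerIn (P ⊔ Q) P) P ≤ F.autGroup P :=
    (autInducedBy_mono hTS P).trans (Fusion.autInducedBy_le_autGroup F hPS)
  have hVp : IsPGroup p (autInducedBy (normalizerIn (P ⊔ Q) P) P) :=
    Fusion.isPGroup_autInducedBy p (hS.to_le hTS) P
  have hVnorm : ∀ α ∈ F.autGroup P, ∀ v ∈ autInducedBy (normalizerIn (P ⊔ Q) P) P,
      α * v * α⁻¹ ∈ autInducedBy (normalizerIn (P ⊔ Q) P) P := by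
    intro α hα v hv
    have hφ := (Fusion.mem_autGroup_iff F hPS α).mp hα
    obtain ⟨ψ, hψ, hψP, hψQ⟩ := hQ.2 P _ hφ
    rw [mem_autInducedBy_iff] at hv
    obtain ⟨g, hg, hgv⟩ := hv
    have hgPQ : g ∈ P ⊔ Q := (Subgroup.mem_inf.mp hg).1
    have hψval : ∀ z : ↥(P ⊔ Q), ψ z ∈ P ⊔ Q := by
      apply Fusion.sup_map_mem
      · intro x
        rw [hψP]
        exact (le_sup_left : P ≤ P ⊔ Q) (α x).2
      · intro x
        apply (le_sup_right : Q ≤ P ⊔ Q)
        have h0 : ψ (Subgroup.inclusion le_sup_right x) ∈ Subgroup.map ψ (Q.subgroupOf (P ⊔ Q)) := by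
          refine ⟨_, ?_, rfl⟩
          rw [SetLike.mem_coe, Subgroup.mem_subgroupOf]
          exact x.2
        rw [hψQ] at h0
        exact h0
    have hconj : ∀ y : P, (((α * v * α⁻¹) y : P) : Ω) = ψ ⟨g, hgPQ⟩ * y * (ψ ⟨g, hgPQ⟩)⁻¹ := by
      intro y
      have h1 : ((α * v * α⁻¹) y : P) = α (v (α⁻¹ y)) := rfl
      rw [h1]
      have h2 := hψP (v (α⁻¹ y))
      have h3 : ((α (v (α⁻¹ y)) : P) : Ω) = ψ (Subgroup.inclusion le_sup_left (v (α⁻¹ y))) := h2.symm
      rw [h3]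
      have h4 : Subgroup.inclusion (le_sup_left : P ≤ P ⊔ Q) (v (α⁻¹ y)) =
          ⟨g, hgPQ⟩ * Subgroup.inclusion le_sup_left (α⁻¹ y) * ⟨g, hgPQ⟩⁻¹ := by
        apply Subtype.ext
        exact hgv (α⁻¹ y)
      rw [h4, map_mul, map_mul, map_inv, hψP]
      show ψ ⟨g, hgPQ⟩ * ((α (α⁻¹ y) : P) : Ω) * (ψ ⟨g, hgPQ⟩)⁻¹ = _
      rw [MulAut.apply_inv_self]
    rw [mem_autInducedBy_iff]
    refine ⟨ψ ⟨g, hgPQ⟩, Subgroup.mem_inf.mpr ⟨hψval _, ?_⟩, hconj⟩
    exact mem_normalizer_of_conj_eq_aut P _ _ hconj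
  -- `V` is a normal `p`-subgroup of `Aut_F(P)`
  have hVnormal : ((autInducedBy (normalizerIn (P ⊔ Q) P) P).subgroupOf (F.autGroup P)).Normal := by
    constructor
    intro n hn a
    rw [Subgroup.mem_subgroupOf] at hn ⊢
    exact hVnorm a.1 a.2 n.1 hn
  have hVle : (autInducedBy (normalizerIn (P ⊔ Q) P) P).subgroupOf (F.autGroup P) ≤
      pCore p (F.autGroup P) := le_sSup ⟨hVnormal, hVp.comap_subtype⟩
  have hgN : g ∈ Subgroup.normalizer (P : Set Ω) := (Subgroup.mem_inf.mp hgT).2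
  have hcg : conjAutHom P ⟨g, hgN⟩ ∈ autInducedBy (normalizerIn (P ⊔ Q) P) P :=
    Subgroup.subset_closure ⟨g, hgT, fun _ => rfl⟩
  have hcgInn : conjAutHom P ⟨g, hgN⟩ ∈ Inn P := by
    rw [← hr.2]
    exact ⟨⟨_, hVA hcg⟩, hVle (Subgroup.mem_subgroupOf.mpr hcg), rfl⟩
  exact hgP (Fusion.mem_of_conjAutHom_mem_inn F hc g (hTS hgT) hgN hcgInn)

/-- An essential subgroup is radical. -/
theorem Fusion.isRadical_of_isEssential [Finite S] (p : ℕ) [Fact p.Prime] (hS : IsPGroup p S)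
    (F : FusionSystem S) {P : Subgroup Ω} (hess : F.IsEssential p P) : F.IsRadical p P := by
  obtain ⟨hc, -, hnormal, Y, hY⟩ := hess
  have hPS := hc.1
  refine ⟨hPS, ?_⟩
  have : Finite P := Fusion.finite_of_le hPS
  have : Finite (MulAut P) := inferInstance
  have hInnU : Inn P ≤ autInducedBy S P := Fusion.inn_le_autInducedBy hPS
  have hUA : autInducedBy S P ≤ F.autGroup P := Fusion.autInducedBy_le_autGroup F hPS
  have hInnA : Inn P ≤ F.autGroup P := hInnU.trans hUA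
  have hInnp : IsPGroup p (Inn P) := (Fusion.isPGroup_autInducedBy p hS P).to_le hInnU
  have hbot := pCore_eq_bot_of_stronglyPEmbedded p Y hY
  apply le_antisymm
  · -- `O_p(A) ≤ Inn P`
    have hpc : IsPGroup p (pCore p (F.autGroup P)) := isPGroup_pCore' p
    have hmapN : ((pCore p (F.autGroup P)).map
        (QuotientGroup.mk' ((Inn P).subgroupOf (F.autGroup P)))).Normal :=
      Subgroup.Normal.map inferInstance _ (QuotientGroup.mk'_surjective _)
    have hle : (pCore p (F.autGroup P)).map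
        (QuotientGroup.mk' ((Inn P).subgroupOf (F.autGroup P))) ≤
        pCore p (F.autGroup P ⧸ (Inn P).subgroupOf (F.autGroup P)) :=
      le_sSup ⟨hmapN, hpc.map _⟩
    rw [hbot, le_bot_iff] at hle
    rintro _ ⟨a, ha, rfl⟩
    have h1 : QuotientGroup.mk' ((Inn P).subgroupOf (F.autGroup P)) a ∈
        (pCore p (F.autGroup P)).map (QuotientGroup.mk' ((Inn P).subgroupOf (F.autGroup P))) :=
      ⟨a, ha, rfl⟩
    rw [hle, Subgroup.mem_bot, QuotientGroup.mk'_apply, QuotientGroup.eq_one_iff] at h1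
    exact Subgroup.mem_subgroupOf.mp h1
  · rintro β hβ
    refine ⟨⟨β, hInnA hβ⟩, ?_, rfl⟩
    have hIle : (Inn P).subgroupOf (F.autGroup P) ≤ pCore p (F.autGroup P) :=
      le_sSup ⟨inferInstance, hInnp.comap_subtype⟩
    exact hIle (Subgroup.mem_subgroupOf.mpr hβ)

theorem Fusion.exists_system_of_eq {T : Subgroup Ω} (hT : T = S) (E : FusionSystem T) :
    ∃ E' : FusionSystem S, ∀ P, E'.Hom P = E.Hom P := by
  subst hT
  exact ⟨E, fun _ => rfl⟩

/-- An injective endomorphism image of a finite subgroup contained in it is equal to it. -/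
theorem Fusion.map_aut_eq_of_le {P : Subgroup Ω} [Finite P] (α : MulAut P) (H : Subgroup P)
    (h : H.map α.toMonoidHom ≤ H) : H.map α.toMonoidHom = H := by
  apply Subgroup.eq_of_le_of_card_ge h
  rw [Subgroup.card_map_of_injective α.injective]

/-- Alperin-type criterion for normality. -/
theorem Fusion.isNormal_of_forall_essential [Finite S] (p : ℕ) [Fact p.Prime] (hS : IsPGroup p S)
    (F : FusionSystem S) (hF : F.IsSaturated p) (Q : Subgroup Ω)
    (h : ∀ P : Subgroup Ω, (P = S ∨ F.IsEssential p P) → (Q ≤ P ∧ ∀ α ∈ F.autGroup P,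
      (Q.subgroupOf P).map α.toMonoidHom = Q.subgroupOf P)) : F.IsNormal Q := by
  have hQS : Q ≤ S := (h S (Or.inl rfl)).1
  have : Finite Q := Fusion.finite_of_le hQS
  have hSN : S ≤ Subgroup.normalizer (Q : Set Ω) := by
    intro g hg
    have hgN : g ∈ Subgroup.normalizer (S : Set Ω) := Subgroup.le_normalizer hg
    have hα : conjAutHom S ⟨g, hgN⟩ ∈ F.autGroup S :=
      Fusion.autInducedBy_le_autGroup F le_rfl (Fusion.conjAutHom_mem_autInducedBy S _ hg)
    have h1 := (h S (Or.inl rfl)).2 _ hα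
    apply mem_normalizer_of_conj_mem_of_finite
    intro y hy
    have h2 : conjAutHom S ⟨g, hgN⟩ ⟨y, hQS hy⟩ ∈
        (Q.subgroupOf S).map (conjAutHom S ⟨g, hgN⟩).toMonoidHom :=
      ⟨_, Subgroup.mem_subgroupOf.mpr hy, rfl⟩
    rw [h1] at h2
    exact Subgroup.mem_subgroupOf.mp h2
  have hNeq : normalizerIn S Q = S := inf_eq_left.mpr hSN
  obtain ⟨E, hE⟩ : ∃ E : FusionSystem S, ∀ P, E.Hom P = F.normalizerHom Q P :=
    Fusion.exists_system_of_eq hNeq (Cfsg.Agent.S5096.normSys F Q hQS)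
  have hFE : F ≤ E := by
    apply Fusion.alperin p hS F hF E
    intro P hP α hα
    obtain ⟨hQP, hinv⟩ := h P hP
    have hPS : P ≤ S := by
      rcases hP with rfl | hess
      · exact le_rfl
      · exact hess.1.1
    have hφ := (Fusion.mem_autGroup_iff F hPS α).mp hα
    apply Subgroup.subset_closure
    show P.subtype.comp α.toMonoidHom ∈ E.Hom P
    rw [hE]
    have hle : P ⊔ Q ≤ P := sup_le le_rfl hQP
    refine ⟨hφ, ?_, ?_, _, Fusion.restrict_mem F hφ hle, fun x => rfl, ?_⟩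
    · rw [hNeq]; exact hPS
    · intro x
      rw [hNeq]
      exact hPS (α x).2
    · ext y
      constructor
      · rintro ⟨z, hz, rfl⟩
        rw [SetLike.mem_coe, Subgroup.mem_subgroupOf] at hz
        have h2 : α ⟨z.1, hle z.2⟩ ∈ (Q.subgroupOf P).map α.toMonoidHom :=
          ⟨_, Subgroup.mem_subgroupOf.mpr hz, rfl⟩
        rw [hinv α hα] at h2
        exact Subgroup.mem_subgroupOf.mp h2
      · intro hy
        have h2 : (⟨y, hQP hy⟩ : P) ∈ (Q.subgroupOf P).map α.toMonoidHom := by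
          rw [hinv α hα]
          exact Subgroup.mem_subgroupOf.mpr hy
        obtain ⟨x, hx, hxy⟩ := h2
        rw [SetLike.mem_coe, Subgroup.mem_subgroupOf] at hx
        refine ⟨⟨x.1, (le_sup_left : P ≤ P ⊔ Q) x.2⟩, ?_, ?_⟩
        · rw [SetLike.mem_coe, Subgroup.mem_subgroupOf]
          exact hx
        · exact congrArg Subtype.val hxy
  refine ⟨hQS, fun P φ hφ => ?_⟩
  have h3 := hFE P hφ
  rw [hE] at h3
  exact h3.2.2.2

/-- A subgroup normal in the system is invariant under `Aut_F(P)` for every `P` containing it. -/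
theorem Fusion.map_aut_eq_of_isNormal [Finite S] (F : FusionSystem S) {Q P : Subgroup Ω}
    (hQ : F.IsNormal Q) (hQP : Q ≤ P) (hPS : P ≤ S) (α : MulAut P) (hα : α ∈ F.autGroup P) :
    (Q.subgroupOf P).map α.toMonoidHom = Q.subgroupOf P := by
  have : Finite P := Fusion.finite_of_le hPS
  apply Fusion.map_aut_eq_of_le
  have hφ := (Fusion.mem_autGroup_iff F hPS α).mp hα
  obtain ⟨ψ, -, hψP, hψQ⟩ := hQ.2 P _ hφ
  rintro _ ⟨x, hx, rfl⟩
  rw [SetLike.mem_coe, Subgroup.mem_subgroupOf] at hx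
  rw [Subgroup.mem_subgroupOf]
  have h1 : ψ (Subgroup.inclusion le_sup_left x) ∈ Subgroup.map ψ (Q.subgroupOf (P ⊔ Q)) := by
    refine ⟨_, ?_, rfl⟩
    rw [SetLike.mem_coe, Subgroup.mem_subgroupOf]
    exact hx
  rw [hψQ, hψP] at h1
  exact h1

theorem Fusion.stronglyClosed_of_isNormal (F : FusionSystem S) {Q : Subgroup Ω} (hQ : F.IsNormal Q) :
    F.StronglyClosed Q := by
  refine ⟨hQ.1, fun R hRQ φ hφ x => ?_⟩
  obtain ⟨ψ, -, hψP, hψQ⟩ := hQ.2 R φ hφ
  have h1 : ψ (Subgroup.inclusion le_sup_left x) ∈ Subgroup.map ψ (Q.subgroupOf (R ⊔ Q)) := by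
    refine ⟨_, ?_, rfl⟩
    rw [SetLike.mem_coe, Subgroup.mem_subgroupOf]
    exact hRQ x.2
  rw [hψQ, hψP] at h1
  exact h1

theorem Fusion.isNormal_iff_essential [Finite S] (p : ℕ) [Fact p.Prime] (hS : IsPGroup p S)
    (F : FusionSystem S) (hF : F.IsSaturated p) (Q : Subgroup Ω) :
    F.IsNormal Q ↔ ∀ P : Subgroup Ω, (P = S ∨ F.IsEssential p P) → (Q ≤ P ∧ ∀ α ∈ F.autGroup P,
      (Q.subgroupOf P).map α.toMonoidHom = Q.subgroupOf P) := by
  constructor
  · intro hQ P hP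
    have hPS : P ≤ S := by
      rcases hP with rfl | hess
      · exact le_rfl
      · exact hess.1.1
    have hQP : Q ≤ P := by
      rcases hP with rfl | hess
      · exact hQ.1
      · exact Fusion.le_of_isNormal_of_centric_radical p hS F hQ hess.1
          (Fusion.isRadical_of_isEssential p hS F hess)
    exact ⟨hQP, fun α hα => Fusion.map_aut_eq_of_isNormal F hQ hQP hPS α hα⟩
  · exact Fusion.isNormal_of_forall_essential p hS F hF Q

theorem Fusion.isNormal_iff_stronglyClosed [Finite S] (p : ℕ) [Fact p.Prime] (hS : IsPGroup p S)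
    (F : FusionSystem S) (hF : F.IsSaturated p) (Q : Subgroup Ω) :
    F.IsNormal Q ↔ (F.StronglyClosed Q ∧
      ∀ P : Subgroup Ω, F.IsCentric P → F.IsRadical p P → Q ≤ P) := by
  constructor
  · intro hQ
    exact ⟨Fusion.stronglyClosed_of_isNormal F hQ, fun P hc hr =>
      Fusion.le_of_isNormal_of_centric_radical p hS F hQ hc hr⟩
  · rintro ⟨hsc, hcr⟩
    apply Fusion.isNormal_of_forall_essential p hS F hF Q
    intro P hP
    have hPS : P ≤ S := by
      rcases hP with rfl | hess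
      · exact le_rfl
      · exact hess.1.1
    have hQP : Q ≤ P := by
      rcases hP with rfl | hess
      · exact hsc.1
      · exact hcr P hess.1 (Fusion.isRadical_of_isEssential p hS F hess)
    refine ⟨hQP, fun α hα => ?_⟩
    have : Finite P := Fusion.finite_of_le hPS
    apply Fusion.map_aut_eq_of_le
    have hφ := (Fusion.mem_autGroup_iff F hPS α).mp hα
    have hφQ := Fusion.restrict_mem F hφ hQP
    rintro _ ⟨x, hx, rfl⟩
    rw [SetLike.mem_coe, Subgroup.mem_subgroupOf] at hx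
    rw [Subgroup.mem_subgroupOf]
    exact hsc.2 Q le_rfl _ hφQ ⟨x.1, hx⟩

end Cfsg.Agent.Lead
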