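import Mathlib
import Cfsg.Prelude.Def_FusionSystem
import Cfsg.Agent.Lead.FusionNormalCrit
import Cfsg.Agent.Lead.FusionNormal

set_option autoImplicit false

namespace Cfsg.Agent.Lead

open Cfsg Cfsg.FusionSystem
open scoped Pointwise commutatorElement

variable {Ω : Type*} [Group Ω] {S : Subgroup Ω}

/-- The automorphisms in `Aut_F(P)` stabilizing the chain `Qs` (acting trivially on the factors). -/
def Fusion.stabSet (F : FusionSystem S) (P : Subgroup Ω) (Qs : ℕ → Subgroup Ω) : Set (MulAut P) :=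
  {β | β ∈ F.autGroup P ∧ ∀ i, ∀ x : P, (x : Ω) ∈ Qs (i + 1) → ((x⁻¹ * β x : P) : Ω) ∈ Qs i}

section

variable (F : FusionSystem S) (P : Subgroup Ω) (Qs : ℕ → Subgroup Ω)
  (hinv : ∀ i, ∀ α ∈ F.autGroup P, ∀ x : P, (x : Ω) ∈ Qs i → ((α x : P) : Ω) ∈ Qs i)

include hinv

theorem Fusion.stabSet_one : (1 : MulAut P) ∈ Fusion.stabSet F P Qs := by
  refine ⟨Subgroup.one_mem _, fun i x _ => ?_⟩
  simp

theorem Fusion.stabSet_mul {β β' : MulAut P} (hβ : β ∈ Fusion.stabSet F P Qs)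
    (hβ' : β' ∈ Fusion.stabSet F P Qs) : β * β' ∈ Fusion.stabSet F P Qs := by
  refine ⟨Subgroup.mul_mem _ hβ.1 hβ'.1, fun i x hx => ?_⟩
  have h1 := hβ.2 i x hx
  have h2 := hβ'.2 i x hx
  have h3 := hinv i β hβ.1 _ h2
  have h4 : (x⁻¹ * (β * β') x : P) = (x⁻¹ * β x) * β (x⁻¹ * β' x) := by
    rw [MulAut.mul_apply, map_mul, map_inv]
    group
  rw [h4]
  exact (Qs i).mul_mem h1 h3

theorem Fusion.stabSet_pow {β : MulAut P} (hβ : β ∈ Fusion.stabSet F P Qs) (k : ℕ) :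
    β ^ k ∈ Fusion.stabSet F P Qs := by
  induction k with
  | zero => rw [pow_zero]; exact Fusion.stabSet_one F P Qs hinv
  | succ k ih => rw [pow_succ]; exact Fusion.stabSet_mul F P Qs hinv ih hβ

theorem Fusion.stabSet_inv [Finite P] {β : MulAut P} (hβ : β ∈ Fusion.stabSet F P Qs) :
    β⁻¹ ∈ Fusion.stabSet F P Qs := by
  have : Finite (MulAut P) := inferInstance
  have h1 : β⁻¹ = β ^ (orderOf β - 1) := by
    have hpos : 0 < orderOf β := orderOf_pos β
    apply inv_eq_of_mul_eq_one_right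
    rw [← pow_succ', Nat.sub_add_cancel hpos, pow_orderOf_eq_one]
  rw [h1]
  exact Fusion.stabSet_pow F P Qs hinv hβ _

theorem Fusion.stabSet_conj {α β : MulAut P} (hα : α ∈ F.autGroup P)
    (hβ : β ∈ Fusion.stabSet F P Qs) : α * β * α⁻¹ ∈ Fusion.stabSet F P Qs := by
  refine ⟨Subgroup.mul_mem _ (Subgroup.mul_mem _ hα hβ.1) (Subgroup.inv_mem _ hα), fun i x hx => ?_⟩
  have hα' : α⁻¹ ∈ F.autGroup P := Subgroup.inv_mem _ hα
  have h1 := hinv (i + 1) α⁻¹ hα' x hx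
  have h2 := hβ.2 i _ h1
  have h3 := hinv i α hα _ h2
  have h4 : (x⁻¹ * (α * β * α⁻¹) x : P) = α ((α⁻¹ x)⁻¹ * β (α⁻¹ x)) := by
    rw [map_mul, map_inv, MulAut.mul_apply, MulAut.mul_apply, MulAut.apply_inv_self]
  rw [h4]
  exact h3

/-- The stabilizer of the chain as a subgroup. -/
def Fusion.stabSubgroup [Finite P] : Subgroup (MulAut P) where
  carrier := Fusion.stabSet F P Qs
  mul_mem' := fun ha hb => Fusion.stabSet_mul F P Qs hinv ha hb
  one_mem' := Fusion.stabSet_one F P Qs hinv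
  inv_mem' := fun ha => Fusion.stabSet_inv F P Qs hinv ha

theorem Fusion.mem_stabSubgroup [Finite P] (β : MulAut P) :
    β ∈ Fusion.stabSubgroup F P Qs hinv ↔ β ∈ Fusion.stabSet F P Qs := Iff.rfl

/-- Elements of the stabilizer of a chain reaching `P` have `p`-power order, provided a `p`-power of
each fixes the bottom term. -/
theorem Fusion.stabSet_pow_eq_one [Finite P] (p : ℕ) [Fact p.Prime] (hP : IsPGroup p P)
    (N : ℕ) (htop : ∀ x : P, (x : Ω) ∈ Qs N)
    (hbase : ∀ β ∈ Fusion.stabSet F P Qs, ∃ a : ℕ, ∀ x : P, (x : Ω) ∈ Qs 0 → (β ^ p ^ a) x = x)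
    {β : MulAut P} (hβ : β ∈ Fusion.stabSet F P Qs) : ∃ k : ℕ, β ^ p ^ k = 1 := by
  obtain ⟨m, hm⟩ := IsPGroup.iff_card.mp hP
  obtain ⟨a, ha⟩ := hbase β hβ
  have key : ∀ j : ℕ, ∀ x : P, (x : Ω) ∈ Qs j → (β ^ (p ^ a * (p ^ m) ^ j)) x = x := by
    intro j
    induction j with
    | zero =>
      intro x hx
      rw [pow_zero, mul_one]
      exact ha x hx
    | succ j ih =>
      intro x hx
      set γ := β ^ (p ^ a * (p ^ m) ^ j) with hγ
      have hγs : γ ∈ Fusion.stabSet F P Qs := Fusion.stabSet_pow F P Qs hinv hβ _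
      have hz : ((x⁻¹ * γ x : P) : Ω) ∈ Qs j := hγs.2 j x hx
      have hγz : γ (x⁻¹ * γ x) = x⁻¹ * γ x := ih _ hz
      have hpow : ∀ k : ℕ, (γ ^ k) x = x * (x⁻¹ * γ x) ^ k := by
        intro k
        induction k with
        | zero => simp
        | succ k ihk =>
          rw [pow_succ' γ, MulAut.mul_apply, ihk, map_mul, map_pow, hγz,
            pow_succ' (x⁻¹ * γ x), ← mul_assoc]
          congr 1
          group
      have h5 : β ^ (p ^ a * (p ^ m) ^ (j + 1)) = γ ^ (p ^ m) := by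
        rw [hγ, ← pow_mul β]
        congr 1
        rw [pow_succ, mul_assoc]
      rw [h5, hpow, ← hm, pow_card_eq_one', mul_one]
  refine ⟨a + m * N, ?_⟩
  have hexp : p ^ (a + m * N) = p ^ a * (p ^ m) ^ N := by rw [pow_add, pow_mul]
  rw [hexp]
  ext x
  have := key N x (htop x)
  rw [this]
  rfl

end

/-- A strongly closed subgroup is normal in `S`. -/
theorem Fusion.le_normalizer_of_stronglyClosed [Finite S] (F : FusionSystem S) {Q : Subgroup Ω}
    (hQ : F.StronglyClosed Q) : S ≤ Subgroup.normalizer (Q : Set Ω) := by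
  have : Finite Q := Fusion.finite_of_le hQ.1
  intro g hg
  apply mem_normalizer_of_conj_mem_of_finite
  intro y hy
  exact hQ.2 Q le_rfl _ (F.conj_mem hQ.1 hg) ⟨y, hy⟩

/-- Elements of `Aut_F(P)` preserve the intersection of `P` with a strongly closed subgroup. -/
theorem Fusion.aut_mem_of_stronglyClosed (F : FusionSystem S) {P Q : Subgroup Ω} (hPS : P ≤ S)
    (hQ : F.StronglyClosed Q) (α : MulAut P) (hα : α ∈ F.autGroup P) (x : P) (hx : (x : Ω) ∈ Q) :
    ((α x : P) : Ω) ∈ Q := by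
  have hφ := (Fusion.mem_autGroup_iff F hPS α).mp hα
  have hle : Subgroup.zpowers (x : Ω) ≤ P := by
    rw [Subgroup.zpowers_le]; exact x.2
  have hle' : Subgroup.zpowers (x : Ω) ≤ Q := by
    rw [Subgroup.zpowers_le]; exact hx
  exact hQ.2 _ hle' _ (Fusion.restrict_mem F hφ hle) ⟨x, Subgroup.mem_zpowers _⟩

/-- If the elements of `N_Q(P)` induce automorphisms of `P` lying in a normal `p`-subgroup of
`Aut_F(P)`, with `P` centric radical and `Q` normal in `S`, then `Q ≤ P`. -/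
theorem Fusion.le_of_normal_pSubgroup [Finite S] (p : ℕ) [Fact p.Prime] (hS : IsPGroup p S)
    (F : FusionSystem S) {P Q : Subgroup Ω} (hc : F.IsCentric P) (hr : F.IsRadical p P)
    (hQS : Q ≤ S) (hQn : S ≤ Subgroup.normalizer (Q : Set Ω)) (B : Subgroup (MulAut P))
    (hBA : B ≤ F.autGroup P) (hBp : IsPGroup p B)
    (hBn : ∀ α ∈ F.autGroup P, ∀ b ∈ B, α * b * α⁻¹ ∈ B)
    (hcB : ∀ (g : Ω) (_ : g ∈ Q) (hgN : g ∈ Subgroup.normalizer (P : Set Ω)),
      conjAutHom P ⟨g, hgN⟩ ∈ B) : Q ≤ P := by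
  have hPS := hc.1
  have hPQS : P ⊔ Q ≤ S := sup_le hPS hQS
  by_contra hQP
  have hne : P ≠ P ⊔ Q := by
    intro h
    apply hQP
    rw [h]
    exact le_sup_right
  have : Finite ↥(P ⊔ Q) := Fusion.finite_of_le hPQS
  obtain ⟨g, hgT, hgP⟩ := Fusion.exists_mem_normalizerIn_not_mem (S := P ⊔ Q) (hS.to_le hPQS)
    le_sup_left hne
  have hgPQ : g ∈ P ⊔ Q := (Subgroup.mem_inf.mp hgT).1
  have hgN : g ∈ Subgroup.normalizer (P : Set Ω) := (Subgroup.mem_inf.mp hgT).2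
  have hmul : g ∈ (P : Set Ω) * (Q : Set Ω) := by
    rw [← Subgroup.coe_mul_of_left_le_normalizer_right P Q (hPS.trans hQn)]
    exact hgPQ
  obtain ⟨x, hx, q, hq, hxq⟩ := Set.mem_mul.mp hmul
  have hqN : q ∈ Subgroup.normalizer (P : Set Ω) := by
    have : q = x⁻¹ * g := by rw [← hxq]; group
    rw [this]
    exact Subgroup.mul_mem _ (Subgroup.inv_mem _ (Subgroup.le_normalizer hx)) hgN
  have hqP : q ∉ P := by
    intro h
    apply hgP
    rw [← hxq]
    exact P.mul_mem hx h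
  have hBnormal : (B.subgroupOf (F.autGroup P)).Normal := by
    constructor
    intro n hn a
    rw [Subgroup.mem_subgroupOf] at hn ⊢
    exact hBn a.1 a.2 n.1 hn
  have hBle : B.subgroupOf (F.autGroup P) ≤ pCore p (F.autGroup P) :=
    le_sSup ⟨hBnormal, hBp.comap_subtype⟩
  have hcq := hcB q hq hqN
  have hcqInn : conjAutHom P ⟨q, hqN⟩ ∈ Inn P := by
    rw [← hr.2]
    exact ⟨⟨_, hBA hcq⟩, hBle (Subgroup.mem_subgroupOf.mpr hcq), rfl⟩
  exact hqP (Fusion.mem_of_conjAutHom_mem_inn F hc q (hQS hq) hqN hcqInn)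

/-- Series criterion for normality (AKO I.4.6). -/
theorem Fusion.isNormal_of_fin_chain [Finite S] (p : ℕ) [Fact p.Prime] (hS : IsPGroup p S)
    (F : FusionSystem S) (hF : F.IsSaturated p) (Q : Subgroup Ω) (n : ℕ)
    (Qs : Fin (n + 1) → Subgroup Ω) (h0 : Qs 0 = ⊥) (hn : Qs (Fin.last n) = Q)
    (h : ∀ i : Fin n, F.StronglyClosed (Qs i.succ) ∧ ⁅Q, Qs i.succ⁆ ≤ Qs i.castSucc) :
    F.IsNormal Q := by
  by_cases hn0 : n = 0
  · subst hn0
    have : Q = ⊥ := by rw [← hn, ← h0]; rfl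
    rw [this]
    exact Fusion.bot_isNormal F
  have hQsc : F.StronglyClosed Q := by
    obtain ⟨k, rfl⟩ := Nat.exists_eq_succ_of_ne_zero hn0
    have := (h (Fin.last k)).1
    rwa [Fin.succ_last, hn] at this
  have hQS := hQsc.1
  have hQn := Fusion.le_normalizer_of_stronglyClosed F hQsc
  rw [Fusion.isNormal_iff_stronglyClosed p hS F hF]
  refine ⟨hQsc, fun P hc hr => ?_⟩
  have hPS := hc.1
  have : Finite P := Fusion.finite_of_le hPS
  -- the chain indexed by `ℕ`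
  set QsN : ℕ → Subgroup Ω := fun i => if hi : i < n + 1 then Qs ⟨i, hi⟩ else ⊤ with hQsN
  have hQsN0 : QsN 0 = ⊥ := by
    simp only [hQsN]
    rw [dif_pos (Nat.succ_pos n)]
    exact h0
  have hQsNlt : ∀ i (hi : i < n), QsN (i + 1) = Qs (⟨i, hi⟩ : Fin n).succ ∧
      QsN i = Qs (⟨i, hi⟩ : Fin n).castSucc := by
    intro i hi
    simp only [hQsN]
    rw [dif_pos (Nat.succ_lt_succ hi), dif_pos (Nat.lt_succ_of_lt hi)]
    exact ⟨rfl, rfl⟩
  have hQsNn : QsN n = Q := by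
    simp only [hQsN]
    rw [dif_pos (Nat.lt_succ_self n)]
    exact hn
  have hQsNtop : ∀ i, n < i → QsN i = ⊤ := by
    intro i hi
    simp only [hQsN]
    rw [dif_neg (by omega)]
  have hinv : ∀ i, ∀ α ∈ F.autGroup P, ∀ x : P, (x : Ω) ∈ QsN i → ((α x : P) : Ω) ∈ QsN i := by
    intro i α hα x hx
    rcases Nat.eq_zero_or_pos i with hi0 | hipos
    · subst hi0
      rw [hQsN0, Subgroup.mem_bot] at hx ⊢
      have : x = 1 := Subtype.ext hx
      rw [this, map_one]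
      rfl
    · by_cases hin : i ≤ n
      · obtain ⟨k, rfl⟩ := Nat.exists_eq_succ_of_ne_zero hipos.ne'
        have hk : k < n := hin
        rw [(hQsNlt k hk).1] at hx ⊢
        exact Fusion.aut_mem_of_stronglyClosed F hPS (h ⟨k, hk⟩).1 α hα x hx
      · rw [hQsNtop i (by omega)]
        trivial
  apply Fusion.le_of_normal_pSubgroup p hS F hc hr hQS hQn (Fusion.stabSubgroup F P QsN hinv)
  · intro β hβ
    exact hβ.1
  · intro b
    obtain ⟨k, hk⟩ := Fusion.stabSet_pow_eq_one F P QsN hinv p (hS.to_le hPS) (n + 1)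
      (fun x => by rw [hQsNtop (n + 1) (Nat.lt_succ_self n)]; trivial)
      (fun β _ => ⟨0, fun x hx => by
        rw [hQsN0, Subgroup.mem_bot] at hx
        have : x = 1 := Subtype.ext hx
        rw [this, map_one]⟩) b.2
    exact ⟨k, Subtype.ext hk⟩
  · intro α hα b hb
    exact Fusion.stabSet_conj F P QsN hinv hα hb
  · intro g hgQ hgN
    refine ⟨Fusion.autInducedBy_le_autGroup F hPS
      (Fusion.conjAutHom_mem_autInducedBy P _ (hQS hgQ)), fun i x hx => ?_⟩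
    show (x : Ω)⁻¹ * (g * (x : Ω) * g⁻¹) ∈ QsN i
    rcases lt_trichotomy i n with hi | hi | hi
    · rw [(hQsNlt i hi).1] at hx
      rw [(hQsNlt i hi).2]
      apply (h ⟨i, hi⟩).2
      have h1 : (x : Ω)⁻¹ * (g * (x : Ω) * g⁻¹) = (⁅g, (x : Ω)⁻¹⁆)⁻¹ := by
        rw [commutatorElement_def]
        group
      rw [h1]
      exact Subgroup.inv_mem _ (Subgroup.commutator_mem_commutator hgQ (Subgroup.inv_mem _ hx))
    · subst hi
      rw [hQsNn]
      have hxN : (x : Ω)⁻¹ ∈ Subgroup.normalizer (Q : Set Ω) :=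
        Subgroup.inv_mem _ (hQn (hPS x.2))
      have h1 := (Subgroup.mem_normalizer_iff.mp hxN g).mp hgQ
      rw [inv_inv] at h1
      have h2 : (x : Ω)⁻¹ * (g * (x : Ω) * g⁻¹) = (x : Ω)⁻¹ * g * (x : Ω) * g⁻¹ := by group
      rw [h2]
      exact Q.mul_mem h1 (Q.inv_mem hgQ)
    · rw [hQsNtop i hi]
      trivial

end Cfsg.Agent.Lead
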