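import Mathlib
import Cfsg.Prelude.Def_FusionSystem
import Cfsg.Agent.Lead.FusionNormalCrit
import Cfsg.Agent.Lead.FusionNormal
import Cfsg.Agent.Lead.FusionStab
import Cfsg.Agent.S5085

set_option autoImplicit false

namespace Cfsg.Agent.Lead

open Cfsg Cfsg.FusionSystem
open scoped commutatorElement

variable {Ω : Type*} [Group Ω] {S : Subgroup Ω}

theorem subgroupOf_map_subtype_eq (Q : Subgroup Ω) (H : Subgroup Q) :
    (H.map Q.subtype).subgroupOf Q = H :=
  Subgroup.comap_map_eq_self_of_injective Subtype.val_injective H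

/-- A characteristic subgroup of a subgroup normal in the system (given inside it) is normal. -/
theorem Fusion.isNormal_map_of_characteristic (F : FusionSystem S) {Q : Subgroup Ω}
    (hQ : F.IsNormal Q) (H : Subgroup Q) [hH : H.Characteristic] : F.IsNormal (H.map Q.subtype) := by
  apply Cfsg.Agent.S5085.result F Q (H.map Q.subtype) hQ
  · rintro _ ⟨x, -, rfl⟩
    exact x.2
  · rw [subgroupOf_map_subtype_eq]
    exact hH

theorem Fusion.isNormal_iff_chain [Finite S] (p : ℕ) [Fact p.Prime] (hS : IsPGroup p S)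
    (F : FusionSystem S) (hF : F.IsSaturated p) (Q : Subgroup Ω) :
    F.IsNormal Q ↔ ∃ (n : ℕ) (Qs : Fin (n + 1) → Subgroup Ω), Qs 0 = ⊥ ∧ Qs (Fin.last n) = Q ∧
      Monotone Qs ∧ ∀ i : Fin n, F.StronglyClosed (Qs i.succ) ∧
        ⁅Q, Qs i.succ⁆ ≤ Qs (Fin.castSucc i) := by
  constructor
  · intro hQ
    have hQS := hQ.1
    have : Finite Q := Fusion.finite_of_le hQS
    have : Group.IsNilpotent Q := (hS.to_le hQS).isNilpotent
    refine ⟨Group.nilpotencyClass Q, fun i => (Subgroup.upperCentralSeries Q i).map Q.subtype, ?_, ?_, ?_, ?_⟩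
    · show (Subgroup.upperCentralSeries Q 0).map Q.subtype = ⊥
      rw [Subgroup.upperCentralSeries_zero, Subgroup.map_bot]
    · show (Subgroup.upperCentralSeries Q (Group.nilpotencyClass Q)).map Q.subtype = Q
      rw [Subgroup.upperCentralSeries_nilpotencyClass, ← MonoidHom.range_eq_map, Subgroup.range_subtype]
    · intro i j hij
      exact Subgroup.map_mono (Subgroup.upperCentralSeries_mono Q hij)
    · intro i
      constructor
      · exact Fusion.stronglyClosed_of_isNormal F
          (Fusion.isNormal_map_of_characteristic F hQ (Subgroup.upperCentralSeries Q (i.succ : ℕ)))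
      · rw [Subgroup.commutator_le]
        rintro g hg _ ⟨z, hz, rfl⟩
        have hz' : z ∈ Subgroup.upperCentralSeries Q ((i : ℕ) + 1) := by
          have : ((i.succ : Fin (Group.nilpotencyClass Q + 1)) : ℕ) = (i : ℕ) + 1 := Fin.val_succ i
          rw [← this]
          exact hz
        have h1 := (Subgroup.mem_upperCentralSeries_succ_iff.mp hz') ⟨g, hg⟩
        refine ⟨(⁅z, ⟨g, hg⟩⁆)⁻¹, Subgroup.inv_mem _ h1, ?_⟩
        rw [commutatorElement_inv]
        rfl
  · rintro ⟨n, Qs, h0, hn, -, h⟩
    exact Fusion.isNormal_of_fin_chain p hS F hF Q n Qs h0 hn h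

theorem Fusion.core_ne_bot_iff [Finite S] (p : ℕ) [Fact p.Prime] (hS : IsPGroup p S)
    (F : FusionSystem S) (hF : F.IsSaturated p) :
    F.core ≠ ⊥ ↔ ∃ Q : Subgroup Ω, Q ≠ ⊥ ∧ IsMulCommutative Q ∧ F.StronglyClosed Q := by
  constructor
  · intro hne
    have hcore := Fusion.core_isNormal F
    have hcS := hcore.1
    have : Finite F.core := Fusion.finite_of_le hcS
    have : Nontrivial F.core := (Subgroup.nontrivial_iff_ne_bot _).mpr hne
    have hZ : Nontrivial (Subgroup.center F.core) := (hS.to_le hcS).center_nontrivial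
    refine ⟨(Subgroup.center F.core).map F.core.subtype, ?_, ?_, ?_⟩
    · intro h
      rw [Subgroup.map_eq_bot_iff_of_injective _ Subtype.val_injective] at h
      rw [h] at hZ
      exact not_nontrivial _ hZ
    · refine ⟨⟨?_⟩⟩
      rintro ⟨_, a, ha, rfl⟩ ⟨_, b, hb, rfl⟩
      apply Subtype.ext
      show (a : Ω) * (b : Ω) = (b : Ω) * (a : Ω)
      have := Subgroup.mem_center_iff.mp ha b
      exact (congrArg Subtype.val this).symm
    · exact Fusion.stronglyClosed_of_isNormal F
        (Fusion.isNormal_map_of_characteristic F hcore (Subgroup.center F.core))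
  · rintro ⟨Q, hQne, hQab, hQsc⟩
    have hQn : F.IsNormal Q := by
      apply Fusion.isNormal_of_fin_chain p hS F hF Q 1 ![⊥, Q] rfl rfl
      intro i
      have hi : i = 0 := Subsingleton.elim _ _
      subst hi
      refine ⟨hQsc, ?_⟩
      show ⁅Q, Q⁆ ≤ ⊥
      rw [Subgroup.commutator_le]
      intro a ha b hb
      rw [Subgroup.mem_bot, commutatorElement_eq_one_iff_mul_comm]
      have := hQab.is_comm.comm ⟨a, ha⟩ ⟨b, hb⟩
      exact congrArg Subtype.val this
    intro hbot
    apply hQne
    have : Q ≤ F.core := le_sSup hQn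
    rw [hbot] at this
    exact le_bot_iff.mp this

end Cfsg.Agent.Lead
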