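import Mathlib
import Cfsg.Prelude.Def_FusionSystem
import Cfsg.Agent.Lead.FusionSeries

set_option autoImplicit false

namespace Cfsg.Agent.Lead

open Cfsg Cfsg.FusionSystem
open scoped commutatorElement

variable {Ω : Type*} [Group Ω] {S : Subgroup Ω}

/-- A map defined on a subgroup containing a weakly closed `W` maps `W` onto `W`. -/
theorem Fusion.map_weaklyClosed (F : FusionSystem S) {W M : Subgroup Ω} (hW : F.WeaklyClosed W)
    (hWM : W ≤ M) {ρ : M →* Ω} (hρ : ρ ∈ F.Hom M) :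
    (∀ (w : Ω) (hw : w ∈ W), ρ ⟨w, hWM hw⟩ ∈ W) ∧
      ∀ w ∈ W, ∃ (v : Ω) (hv : v ∈ W), ρ ⟨v, hWM hv⟩ = w := by
  have h1 := Fusion.restrict_mem F hρ hWM
  have h2 := hW.2 _ h1
  constructor
  · intro w hw
    have : (ρ.comp (Subgroup.inclusion hWM)) ⟨w, hw⟩ ∈ (ρ.comp (Subgroup.inclusion hWM)).range :=
      ⟨_, rfl⟩
    rw [h2] at this
    exact this
  · intro w hw
    have : w ∈ (ρ.comp (Subgroup.inclusion hWM)).range := by rw [h2]; exact hw
    obtain ⟨v, hv⟩ := this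
    exact ⟨v.1, v.2, hv⟩

theorem Fusion.weaklyClosed_of_stronglyClosed [Finite S] (F : FusionSystem S) {W : Subgroup Ω}
    (hW : F.StronglyClosed W) : F.WeaklyClosed W := by
  refine ⟨hW.1, fun φ hφ => ?_⟩
  have : Finite W := Fusion.finite_of_le hW.1
  apply Subgroup.eq_of_le_of_card_ge
  · rintro _ ⟨x, rfl⟩
    exact hW.2 W le_rfl φ hφ x
  · rw [Nat.card_congr (Equiv.ofInjective φ (F.injective_of_mem hφ))]
    rfl

/-- The inductive step: a weakly closed subgroup `W` between a normal subgroup `N` and a strongly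
closed `Q` with `[W, Q] ≤ N` is strongly closed. -/
theorem Fusion.stronglyClosed_of_weaklyClosed_step [Finite S] (p : ℕ) [Fact p.Prime]
    (hS : IsPGroup p S) (F : FusionSystem S) (hF : F.IsSaturated p) {N W Q : Subgroup Ω}
    (hN : F.IsNormal N) (hW : F.WeaklyClosed W) (hQ : F.StronglyClosed Q) (hNW : N ≤ W)
    (hWQ : W ≤ Q) (hcomm : ⁅W, Q⁆ ≤ N) : F.StronglyClosed W := by
  have hWS := hW.1
  have hQS := hQ.1
  refine ⟨hWS, fun R hRW φ hφ x => ?_⟩
  obtain ⟨φh, hφh, hφhR, hφhN⟩ := hN.2 R φ hφ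
  have hRhW : R ⊔ N ≤ W := sup_le hRW hNW
  have hRhS : R ⊔ N ≤ S := hRhW.trans hWS
  have : Finite ↥(R ⊔ N) := Fusion.finite_of_le hRhS
  -- the image
  set R₁ := φh.range with hR₁
  have hR₁Q : R₁ ≤ Q := by
    rintro _ ⟨y, rfl⟩
    exact hQ.2 (R ⊔ N) (hRhW.trans hWQ) φh hφh y
  have hR₁S : R₁ ≤ S := hR₁Q.trans hQS
  have : Finite R₁ := Fusion.finite_of_le hR₁S
  have hNR₁ : N ≤ R₁ := by
    intro n hn
    have : n ∈ (N.subgroupOf (R ⊔ N)).map φh := by rw [hφhN]; exact hn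
    obtain ⟨y, -, rfl⟩ := this
    exact ⟨y, rfl⟩
  -- normalizers
  have hQN : Q ≤ normalizerIn S (R ⊔ N) := by
    intro g hg
    refine Subgroup.mem_inf.mpr ⟨hQS hg, ?_⟩
    apply mem_normalizer_of_conj_mem_of_finite
    intro y hy
    have h1 : g * y * g⁻¹ = (⁅y, g⁆)⁻¹ * y := by
      rw [commutatorElement_def]; group
    rw [h1]
    apply Subgroup.mul_mem _ _ hy
    apply Subgroup.inv_mem
    exact (le_sup_right : N ≤ R ⊔ N) (hcomm (Subgroup.commutator_mem_commutator (hRhW hy) hg))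
  have hWN₁ : W ≤ normalizerIn S R₁ := by
    intro g hg
    refine Subgroup.mem_inf.mpr ⟨hWS hg, ?_⟩
    apply mem_normalizer_of_conj_mem_of_finite
    intro y hy
    have h1 : g * y * g⁻¹ = ⁅g, y⁆ * y := by
      rw [commutatorElement_def]; group
    rw [h1]
    apply Subgroup.mul_mem _ _ hy
    exact hNR₁ (hcomm (Subgroup.commutator_mem_commutator hg (hR₁Q hy)))
  -- a fully automized receptive conjugate
  obtain ⟨R', hconj, hfa, hrec⟩ := hF (R ⊔ N) hRhS
  have hconj₁ : F.IsConj R₁ R' :=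
    Fusion.isConj_trans F (Fusion.isConj_symm F ⟨φh, hφh, rfl⟩) hconj
  obtain ⟨ρ₁, hρ₁, -, hρ₁R⟩ := Fusion.exists_hom_normalizerIn p hS F hfa hrec hconj
  obtain ⟨ρ₂, hρ₂, -, hρ₂R⟩ := Fusion.exists_hom_normalizerIn p hS F hfa hrec hconj₁
  have hW₁ := Fusion.map_weaklyClosed F hW (hWQ.trans hQN) hρ₁
  have hW₂ := Fusion.map_weaklyClosed F hW hWN₁ hρ₂
  -- `R' ≤ W`
  have hR'W : R' ≤ W := by
    intro y hy
    rw [← hρ₁R] at hy
    obtain ⟨m, hm, rfl⟩ := hy
    rw [SetLike.mem_coe, Subgroup.mem_subgroupOf] at hm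
    exact hW₁.1 m.1 (hRhW hm)
  -- `R₁ ≤ W`
  have hR₁W : R₁ ≤ W := by
    intro y hy
    have hyN : y ∈ normalizerIn S R₁ := Fusion.le_normalizerIn hR₁S hy
    have h1 : ρ₂ ⟨y, hyN⟩ ∈ R' := by
      rw [← hρ₂R]
      refine ⟨⟨y, hyN⟩, ?_, rfl⟩
      rw [SetLike.mem_coe, Subgroup.mem_subgroupOf]
      exact hy
    obtain ⟨v, hv, hvy⟩ := hW₂.2 _ (hR'W h1)
    have := F.injective_of_mem hρ₂ hvy
    have h2 : v = y := congrArg (fun z : ↥(normalizerIn S R₁) => (z : Ω)) this
    rw [← h2]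
    exact hv
  rw [← hφhR x]
  exact hR₁W ⟨_, rfl⟩

end Cfsg.Agent.Lead

namespace Cfsg.Agent.Lead

open Cfsg Cfsg.FusionSystem
open scoped commutatorElement

variable {Ω : Type*} [Group Ω] {S : Subgroup Ω}

theorem Fusion.bot_stronglyClosed (F : FusionSystem S) : F.StronglyClosed ⊥ :=
  Fusion.stronglyClosed_of_isNormal F (Fusion.bot_isNormal F)

/-- All terms of a central series of weakly closed subgroups of a strongly closed subgroup are
strongly closed. -/
theorem Fusion.stronglyClosed_of_weaklyClosed_series [Finite S] (p : ℕ) [Fact p.Prime]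
    (hS : IsPGroup p S) (F : FusionSystem S) (hF : F.IsSaturated p) (Q : Subgroup Ω)
    (hQ : F.StronglyClosed Q) (n : ℕ) (C : Fin (n + 1) → Subgroup Ω) (h0 : C 0 = ⊥)
    (hn : C (Fin.last n) = Q) (hmono : Monotone C)
    (hcomm : ∀ i : Fin n, ⁅C i.succ, Q⁆ ≤ C i.castSucc)
    (hwc : ∀ i : Fin n, F.WeaklyClosed (C i.castSucc)) :
    ∀ (k : ℕ) (j : Fin (n + 1)), (j : ℕ) ≤ k → F.StronglyClosed (C j) := by
  have hleQ : ∀ j : Fin (n + 1), C j ≤ Q := fun j => hn ▸ hmono (Fin.le_last j)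
  intro k
  induction k with
  | zero =>
    intro j hj
    have : j = 0 := Fin.ext (Nat.le_zero.mp hj)
    rw [this, h0]
    exact Fusion.bot_stronglyClosed F
  | succ k ih =>
    intro j hj
    rcases Nat.lt_or_ge (j : ℕ) (k + 1) with hlt | hge
    · exact ih j (Nat.lt_succ_iff.mp hlt)
    have hjk : (j : ℕ) = k + 1 := le_antisymm hj hge
    have hkn : k < n := by
      have := j.2
      omega
    set i : Fin n := ⟨k, hkn⟩ with hi
    have hji : j = i.succ := Fin.ext (by rw [hjk]; rfl)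
    -- `N = C_k` is normal
    have hN : F.IsNormal (C i.castSucc) := by
      apply Fusion.isNormal_of_fin_chain p hS F hF (C i.castSucc) k
        (fun m : Fin (k + 1) => C ⟨m.val, by have := m.2; omega⟩)
      · exact h0
      · rfl
      · intro m
        have hmk : (m : ℕ) < k := m.2
        have hmn : (m : ℕ) < n := by omega
        refine ⟨ih ⟨(m : ℕ) + 1, by omega⟩ (by show (m : ℕ) + 1 ≤ k; omega), ?_⟩
        have h1 := hcomm ⟨m, hmn⟩
        rw [Subgroup.commutator_comm]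
        refine le_trans (Subgroup.commutator_mono le_rfl (hleQ _)) ?_
        exact h1
    rw [hji]
    by_cases hlast : k + 1 = n
    · have : i.succ = Fin.last n := Fin.ext (by show k + 1 = n; exact hlast)
      rw [this, hn]
      exact hQ
    · have hk1 : k + 1 < n := by omega
      have hW : F.WeaklyClosed (C i.succ) := by
        have := hwc ⟨k + 1, hk1⟩
        have h2 : (⟨k + 1, hk1⟩ : Fin n).castSucc = i.succ := Fin.ext rfl
        rwa [h2] at this
      exact Fusion.stronglyClosed_of_weaklyClosed_step p hS F hF hN hW hQ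
        (hmono (Fin.castSucc_lt_succ).le) (hleQ _) (hcomm i)

theorem Fusion.isNormal_iff_weaklyClosed_series [Finite S] (p : ℕ) [Fact p.Prime]
    (hS : IsPGroup p S) (F : FusionSystem S) (hF : F.IsSaturated p) (Q : Subgroup Ω) :
    F.IsNormal Q ↔ F.StronglyClosed Q ∧ ∃ (n : ℕ) (C : Fin (n + 1) → Subgroup Ω), C 0 = ⊥ ∧
      C (Fin.last n) = Q ∧ Monotone C ∧ (∀ i : Fin n, ⁅C i.succ, Q⁆ ≤ C i.castSucc) ∧
      ∀ i : Fin n, F.WeaklyClosed (C i.castSucc) := by
  constructor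
  · intro hQ
    refine ⟨Fusion.stronglyClosed_of_isNormal F hQ, ?_⟩
    obtain ⟨n, Qs, h0, hn, hmono, h⟩ := (Fusion.isNormal_iff_chain p hS F hF Q).mp hQ
    refine ⟨n, Qs, h0, hn, hmono, fun i => ?_, fun i => ?_⟩
    · rw [Subgroup.commutator_comm]
      exact (h i).2
    · rcases Nat.eq_zero_or_pos (i : ℕ) with hi | hi
      · have : i.castSucc = 0 := Fin.ext hi
        rw [this, h0]
        exact Fusion.weaklyClosed_of_stronglyClosed F (Fusion.bot_stronglyClosed F)
      · obtain ⟨k, hk⟩ := Nat.exists_eq_succ_of_ne_zero hi.ne'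
        have hkn : k < n := by
          have := i.2
          omega
        have : i.castSucc = (⟨k, hkn⟩ : Fin n).succ := Fin.ext hk
        rw [this]
        exact Fusion.weaklyClosed_of_stronglyClosed F (h ⟨k, hkn⟩).1
  · rintro ⟨hQ, n, C, h0, hn, hmono, hcomm, hwc⟩
    have hsc := Fusion.stronglyClosed_of_weaklyClosed_series p hS F hF Q hQ n C h0 hn hmono hcomm hwc
    apply Fusion.isNormal_of_fin_chain p hS F hF Q n C h0 hn
    intro i
    refine ⟨hsc n i.succ (Nat.succ_le_of_lt i.2), ?_⟩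
    rw [Subgroup.commutator_comm]
    exact hcomm i

end Cfsg.Agent.Lead
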