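import Mathlib
import Cfsg.Prelude.Def_FusionSystem
import Cfsg.Agent.Lead.FusionAlperin2
import Cfsg.Agent.Lead.FusionFocal
import Cfsg.Agent.Lead.FusionInvariant
import Cfsg.Agent.Lead.FusionStab
import Cfsg.Agent.Lead.SylowLemmas
import Cfsg.Agent.Lead.FusionWeak

set_option autoImplicit false

namespace Cfsg.Agent.Lead

open Cfsg Cfsg.FusionSystem
open scoped Pointwise

variable {Ω : Type*} [Group Ω] {S : Subgroup Ω}

/-- Inductive Alperin-type generation for predicates on maps. -/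
theorem Fusion.pred_of_alperin_ind [Finite S] (p : ℕ) [Fact p.Prime] (hS : IsPGroup p S)
    (F : FusionSystem S) (hF : F.IsSaturated p) (Pr : ∀ P : Subgroup Ω, (P →* Ω) → Prop)
    (hconj : ∀ (P : Subgroup Ω) (g : Ω), P ≤ S → g ∈ S → Pr P (conjHom P g))
    (hcomp : ∀ (P Q : Subgroup Ω) (φ : P →* Ω) (ψ : Q →* Ω) (h : ∀ x : P, φ x ∈ Q),
      φ ∈ F.Hom P → ψ ∈ F.Hom Q → Pr P φ → Pr Q ψ → Pr P (ψ.comp (φ.codRestrict Q h)))
    (hinv : ∀ (P : Subgroup Ω) (φ : P →* Ω) (ψ : φ.range →* Ω), φ ∈ F.Hom P → Pr P φ →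
      ψ ∈ F.Hom φ.range → (∀ x : P, ψ ⟨φ x, ⟨x, rfl⟩⟩ = (x : Ω)) → Pr φ.range ψ)
    (hbase : ∀ (P : Subgroup Ω), (P = S ∨ F.IsEssential p P) →
      (∀ (R : Subgroup Ω) (ψ : R →* Ω), ψ ∈ F.Hom R → Nat.card P < Nat.card R → Pr R ψ) →
      ∀ α ∈ F.autGroup P, Pr P (P.subtype.comp α.toMonoidHom))
    {P : Subgroup Ω} {φ : P →* Ω} (hφ : φ ∈ F.Hom P) : Pr P φ := by
  set E := Fusion.subOfPred F Pr hconj hcomp hinv with hE
  have hFE : F ≤ E := by
    apply Fusion.alperin_ind p hS F hF E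
    intro P hP ih α hα
    have hPS : P ≤ S := by
      rcases hP with rfl | hess
      · exact le_rfl
      · exact hess.1.1
    rw [Fusion.mem_autGroup_iff E hPS]
    exact ⟨(Fusion.mem_autGroup_iff F hPS α).mp hα,
      hbase P hP (fun R ψ hψ hlt => (ih R ψ hψ hlt).2) α hα⟩
  exact (hFE P hφ).2

/-- Maps of the system send elements of a strongly closed subgroup into it. -/
theorem Fusion.map_mem_of_stronglyClosed (F : FusionSystem S) {T M : Subgroup Ω}
    (hT : F.StronglyClosed T) {ψ : M →* Ω} (hψ : ψ ∈ F.Hom M) (x : M) (hx : (x : Ω) ∈ T) :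
    ψ x ∈ T := by
  have hle : M ⊓ T ≤ M := inf_le_left
  have h1 := Fusion.restrict_mem F hψ hle
  exact hT.2 (M ⊓ T) inf_le_right _ h1 ⟨x.1, Subgroup.mem_inf.mpr ⟨x.2, hx⟩⟩

/-- A map defined on a subgroup containing the finite strongly closed `T` maps `T` onto `T`. -/
theorem Fusion.exists_preimage_of_stronglyClosed [Finite S] (F : FusionSystem S) {T M : Subgroup Ω}
    (hT : F.StronglyClosed T) (hTM : T ≤ M) {ψ : M →* Ω} (hψ : ψ ∈ F.Hom M) (t : Ω) (ht : t ∈ T) :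
    ∃ (t' : Ω) (ht' : t' ∈ T), ψ ⟨t', hTM ht'⟩ = t := by
  have hW := Fusion.weaklyClosed_of_stronglyClosed F hT
  exact (Fusion.map_weaklyClosed F hW hTM hψ).2 t ht

/-- `φ` extends modulo `T` to `P ⊔ T`. -/
def Fusion.ExtT (F : FusionSystem S) (T P : Subgroup Ω) (φ : P →* Ω) : Prop :=
  ∃ φh ∈ F.Hom (P ⊔ T), ∀ x : P, (φ x)⁻¹ * φh (Subgroup.inclusion le_sup_left x) ∈ T

theorem Fusion.extT_conj (F : FusionSystem S) {T : Subgroup Ω} (hTS : T ≤ S) (P : Subgroup Ω) (g : Ω)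
    (hP : P ≤ S) (hg : g ∈ S) : Fusion.ExtT F T P (conjHom P g) := by
  refine ⟨conjHom (P ⊔ T) g, F.conj_mem (sup_le hP hTS) hg, fun x => ?_⟩
  have : (conjHom P g x)⁻¹ * conjHom (P ⊔ T) g (Subgroup.inclusion le_sup_left x) = 1 := by
    show (g * (x : Ω) * g⁻¹)⁻¹ * (g * (x : Ω) * g⁻¹) = 1
    group
  rw [this]
  exact T.one_mem

theorem Fusion.extT_comp (F : FusionSystem S) {T : Subgroup Ω} (hT : F.StronglyClosed T)
    (P Q : Subgroup Ω) (φ : P →* Ω) (ψ : Q →* Ω) (h : ∀ x : P, φ x ∈ Q)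
    (hφ : Fusion.ExtT F T P φ) (hψ : Fusion.ExtT F T Q ψ) :
    Fusion.ExtT F T P (ψ.comp (φ.codRestrict Q h)) := by
  obtain ⟨φh, hφh, hφx⟩ := hφ
  obtain ⟨ψh, hψh, hψx⟩ := hψ
  have hQle : Q ≤ Q ⊔ T := le_sup_left
  have hTle : T ≤ Q ⊔ T := le_sup_right
  have hval : ∀ y : ↥(P ⊔ T), φh y ∈ Q ⊔ T := by
    apply Fusion.sup_map_mem
    · intro x
      have h1 := hφx x
      have h2 : φh (Subgroup.inclusion le_sup_left x) = φ x * ((φ x)⁻¹ *
          φh (Subgroup.inclusion le_sup_left x)) := by group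
      rw [h2]
      exact Subgroup.mul_mem _ (hQle (h x)) (hTle h1)
    · intro x
      exact hTle (Fusion.map_mem_of_stronglyClosed F hT hφh _ x.2)
  refine ⟨_, F.comp_mem hφh hψh hval, fun x => ?_⟩
  set t : Ω := (φ x)⁻¹ * φh (Subgroup.inclusion le_sup_left x) with ht
  have htT : t ∈ T := hφx x
  have h3 : (φh.codRestrict (Q ⊔ T) hval) (Subgroup.inclusion le_sup_left x) =
      (⟨φ x, hQle (h x)⟩ : ↥(Q ⊔ T)) * ⟨t, hTle htT⟩ := by
    apply Subtype.ext
    show φh (Subgroup.inclusion le_sup_left x) = φ x * t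
    rw [ht]; group
  show (ψ ⟨φ x, h x⟩)⁻¹ * ψh ((φh.codRestrict (Q ⊔ T) hval) (Subgroup.inclusion le_sup_left x)) ∈ T
  rw [h3, map_mul, ← mul_assoc]
  apply T.mul_mem
  · exact hψx ⟨φ x, h x⟩
  · exact Fusion.map_mem_of_stronglyClosed F hT hψh _ htT

theorem Fusion.extT_inv [Finite S] (F : FusionSystem S) {T : Subgroup Ω} (hT : F.StronglyClosed T)
    (P : Subgroup Ω) (φ : P →* Ω) (ψ : φ.range →* Ω) (hφ : Fusion.ExtT F T P φ)
    (hinv : ∀ x : P, ψ ⟨φ x, ⟨x, rfl⟩⟩ = (x : Ω)) : Fusion.ExtT F T φ.range ψ := by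
  obtain ⟨φh, hφh, hφx⟩ := hφ
  have hTle : T ≤ P ⊔ T := le_sup_right
  -- the range of the extension
  have hrange : φh.range = φ.range ⊔ T := by
    apply le_antisymm
    · rintro _ ⟨y, rfl⟩
      revert y
      apply Fusion.sup_map_mem
      · intro x
        have h2 : φh (Subgroup.inclusion le_sup_left x) = φ x * ((φ x)⁻¹ *
            φh (Subgroup.inclusion le_sup_left x)) := by group
        rw [h2]
        exact Subgroup.mul_mem _ ((le_sup_left : φ.range ≤ _) ⟨x, rfl⟩)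
          ((le_sup_right : T ≤ φ.range ⊔ T) (hφx x))
      · intro x
        exact (le_sup_right : T ≤ φ.range ⊔ T) (Fusion.map_mem_of_stronglyClosed F hT hφh _ x.2)
    · have hTr : T ≤ φh.range := by
        intro t ht
        obtain ⟨t', ht', htt'⟩ := Fusion.exists_preimage_of_stronglyClosed F hT hTle hφh t ht
        exact ⟨_, htt'⟩
      apply sup_le _ hTr
      rintro _ ⟨x, rfl⟩
      have h2 : φ x = φh (Subgroup.inclusion le_sup_left x) *
          ((φ x)⁻¹ * φh (Subgroup.inclusion le_sup_left x))⁻¹ := by group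
      rw [h2]
      exact Subgroup.mul_mem _ ⟨_, rfl⟩ (Subgroup.inv_mem _ (hTr (hφx x)))
  obtain ⟨θ, hθ, hθinv⟩ := F.inv_mem hφh
  obtain ⟨θ', hθ', hθθ'⟩ := Fusion.exists_hom_of_eq F hrange hθ
  refine ⟨θ', hθ', ?_⟩
  rintro ⟨_, x, rfl⟩
  rw [hinv x]
  set t : Ω := (φ x)⁻¹ * φh (Subgroup.inclusion le_sup_left x) with ht
  have htT : t ∈ T := hφx x
  obtain ⟨t', ht', htt'⟩ := Fusion.exists_preimage_of_stronglyClosed F hT hTle hφh t htT
  -- `φ x = φh (x * t'⁻¹)`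
  have h1 : φ x = φh (Subgroup.inclusion le_sup_left x * (⟨t', hTle ht'⟩ : ↥(P ⊔ T))⁻¹) := by
    rw [map_mul, map_inv, htt', ht]; group
  have hmem : φ x ∈ φh.range := ⟨_, h1.symm⟩
  have h2 : θ' (Subgroup.inclusion le_sup_left (⟨φ x, ⟨x, rfl⟩⟩ : φ.range)) = θ ⟨φ x, hmem⟩ :=
    hθθ' (φ x) hmem _
  rw [h2]
  have h3 : (⟨φ x, hmem⟩ : φh.range) = ⟨φh (Subgroup.inclusion le_sup_left x *
      (⟨t', hTle ht'⟩ : ↥(P ⊔ T))⁻¹), ⟨_, rfl⟩⟩ := Subtype.ext h1
  rw [h3, hθinv]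
  show (x : Ω)⁻¹ * ((x : Ω) * t'⁻¹) ∈ T
  rw [inv_mul_cancel_left]
  exact T.inv_mem ht'

theorem Fusion.extT_of_le (F : FusionSystem S) {T P : Subgroup Ω} (hTP : T ≤ P) {φ : P →* Ω}
    (hφ : φ ∈ F.Hom P) : Fusion.ExtT F T P φ := by
  have h : P = P ⊔ T := (sup_of_le_left hTP).symm
  obtain ⟨χ, hχ, hχx⟩ := Fusion.exists_hom_of_eq F h hφ
  refine ⟨χ, hχ, fun x => ?_⟩
  have : χ (Subgroup.inclusion le_sup_left x) = φ x := hχx x.1 x.2 _
  rw [this, inv_mul_cancel]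
  exact T.one_mem

/-- Extension modulo a strongly closed subgroup: every map `φ : P → S` of a saturated system extends
to a map `P ⊔ T → S` agreeing with `φ` modulo `T`. -/
theorem Fusion.extT_all [Finite S] (p : ℕ) [Fact p.Prime] (hS : IsPGroup p S)
    (F : FusionSystem S) (hF : F.IsSaturated p) {T : Subgroup Ω} (hT : F.StronglyClosed T)
    {P : Subgroup Ω} {φ : P →* Ω} (hφ : φ ∈ F.Hom P) : Fusion.ExtT F T P φ := by
  have hTS := hT.1
  have hTn := Fusion.le_normalizer_of_stronglyClosed F hT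
  refine Fusion.pred_of_alperin_ind p hS F hF (Fusion.ExtT F T) ?_ ?_ ?_ ?_ hφ
  · intro P g hP hg
    exact Fusion.extT_conj F hTS P g hP hg
  · intro P Q φ ψ h _ _ h1 h2
    exact Fusion.extT_comp F hT P Q φ ψ h h1 h2
  · intro P φ ψ _ h1 _ hinv
    exact Fusion.extT_inv F hT P φ ψ h1 hinv
  intro P hP ih α hα
  have hPS : P ≤ S := by
    rcases hP with rfl | hess
    · exact le_rfl
    · exact hess.1.1
  have hαF := (Fusion.mem_autGroup_iff F hPS α).mp hα
  by_cases hTP : T ≤ P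
  · exact Fusion.extT_of_le F hTP hαF
  have hPne : P ≠ S := by
    rintro rfl
    exact hTP hTS
  have hess : F.IsEssential p P := by
    rcases hP with h | h
    · exact absurd h hPne
    · exact h
  have : Finite P := Fusion.finite_of_le hPS
  have : Finite (MulAut P) := inferInstance
  obtain ⟨hfc, hfa⟩ := Fusion.fullyCentralized_fullyAutomized_of_fullyNormalized p hS F hF hess.2.1
  have hrec := Fusion.receptive_of_fullyCentralized p hS F hF hfc
  -- the kernel `K` of the action on `P / (P ∩ T)`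
  set QsN : ℕ → Subgroup Ω := fun i => if i = 0 then T else ⊤ with hQsN
  have hQsN0 : QsN 0 = T := by simp [hQsN]
  have hQsNtop : ∀ i, 1 ≤ i → QsN i = ⊤ := by
    intro i hi
    have h0 : i ≠ 0 := by omega
    simp [hQsN, h0]
  have hinvQ : ∀ i, ∀ α ∈ F.autGroup P, ∀ x : P, (x : Ω) ∈ QsN i → ((α x : P) : Ω) ∈ QsN i := by
    intro i α hα x hx
    rcases Nat.eq_zero_or_pos i with hi | hi
    · subst hi
      rw [hQsN0] at hx ⊢
      exact Fusion.aut_mem_of_stronglyClosed F hPS hT α hα x hx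
    · rw [hQsNtop i hi]; trivial
  set K := Fusion.stabSubgroup F P QsN hinvQ with hK
  have hKmem : ∀ κ : MulAut P, κ ∈ K ↔ κ ∈ F.autGroup P ∧ ∀ x : P, (x : Ω)⁻¹ * ((κ x : P) : Ω) ∈ T := by
    intro κ
    constructor
    · rintro ⟨h1, h2⟩
      refine ⟨h1, fun x => ?_⟩
      have := h2 0 x (by rw [hQsNtop 1 le_rfl]; trivial)
      rwa [hQsN0] at this
    · rintro ⟨h1, h2⟩
      refine ⟨h1, fun i x _ => ?_⟩
      rcases Nat.eq_zero_or_pos i with hi | hi
      · subst hi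
        rw [hQsN0]
        exact h2 x
      · rw [hQsNtop i hi]; trivial
  have hKA : K ≤ F.autGroup P := fun κ hκ => hκ.1
  have hAK : F.autGroup P ≤ Subgroup.normalizer (K : Set (MulAut P)) := by
    intro β hβ
    apply mem_normalizer_of_conj_mem_of_finite
    intro κ hκ
    exact Fusion.stabSet_conj F P QsN hinvQ hβ hκ
  have hUA : autInducedBy S P ≤ F.autGroup P := Fusion.autInducedBy_le_autGroup F hPS
  have hUp : IsPGroup p (autInducedBy S P) := Fusion.isPGroup_autInducedBy p hS P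
  have hcardU : Nat.card (autInducedBy S P) = p ^ (Nat.card (F.autGroup P)).factorization p :=
    (exists_sylow_eq_subgroupOf_iff (F.autGroup P) (autInducedBy S P) hUA).mp hfa.2
  have hcardUK : Nat.card ↥(autInducedBy S P ⊓ K) = p ^ (Nat.card K).factorization p :=
    card_inf_eq_ppart_of_normal hUA hKA hAK hUp hcardU
  -- Frattini argument
  have hconjK : (autInducedBy S P ⊓ K).map (MulAut.conj α).toMonoidHom ≤ K := by
    rintro _ ⟨u, hu, rfl⟩
    exact Fusion.stabSet_conj F P QsN hinvQ hα hu.2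
  obtain ⟨κ, hκ, hκU⟩ := exists_conj_le_of_card_eq_ppart (inf_le_right : autInducedBy S P ⊓ K ≤ K)
    hcardUK hconjK ((hUp.to_le inf_le_left).map (MulAut.conj α).toMonoidHom)
  set γ := κ * α with hγ
  have hγA : γ ∈ F.autGroup P := Subgroup.mul_mem _ (hKA hκ) hα
  have hnorm : ∀ u ∈ autInducedBy S P ⊓ K, γ * u * γ⁻¹ ∈ autInducedBy S P ⊓ K := by
    intro u hu
    have : γ * u * γ⁻¹ = (MulAut.conj κ).toMonoidHom ((MulAut.conj α).toMonoidHom u) := by
      show γ * u * γ⁻¹ = κ * (α * u * α⁻¹) * κ⁻¹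
      rw [hγ]
      group
    rw [this]
    exact hκU ⟨_, ⟨u, hu, rfl⟩, rfl⟩
  -- `ExtT` for `κ⁻¹`
  have hκinv : κ⁻¹ ∈ K := Subgroup.inv_mem _ hκ
  have hExtκ : Fusion.ExtT F T P (P.subtype.comp (κ⁻¹ : MulAut P).toMonoidHom) := by
    refine ⟨(P ⊔ T).subtype, Fusion.subtype_mem F (sup_le hPS hTS), fun x => ?_⟩
    have := T.inv_mem (((hKmem _).mp hκinv).2 x)
    rw [mul_inv_rev, inv_inv] at this
    exact this
  -- `ExtT` for `γ`
  have hExtγ : Fusion.ExtT F T P (P.subtype.comp γ.toMonoidHom) := by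
    have hγF := (Fusion.mem_autGroup_iff F hPS γ).mp hγA
    have hr : (P.subtype.comp γ.toMonoidHom).range = P := by
      ext y
      constructor
      · rintro ⟨x, rfl⟩
        exact (γ x).2
      · intro hy
        refine ⟨γ.symm ⟨y, hy⟩, ?_⟩
        show ((γ (γ.symm ⟨y, hy⟩) : P) : Ω) = y
        rw [MulEquiv.apply_symm_apply]
    obtain ⟨ψ, hψ, hψext⟩ := hrec.2 P _ hγF hr
    set P₁ := P ⊔ (T ⊓ Subgroup.normalizer (P : Set Ω)) with hP₁
    have hP₁ext : P₁ ≤ extender S P (P.subtype.comp γ.toMonoidHom) := by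
      apply sup_le
      · exact Fusion.le_extender P hPS _ (fun x => hPS (γ x).2)
      · intro g hg
        obtain ⟨hgT, hgN⟩ := Subgroup.mem_inf.mp hg
        apply Subgroup.subset_closure
        have hcU : conjAutHom P ⟨g, hgN⟩ ∈ autInducedBy S P :=
          Fusion.conjAutHom_mem_autInducedBy P _ (hTS hgT)
        have hcK : conjAutHom P ⟨g, hgN⟩ ∈ K := by
          rw [hKmem]
          refine ⟨hUA hcU, fun x => ?_⟩
          show (x : Ω)⁻¹ * (g * (x : Ω) * g⁻¹) ∈ T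
          have hxN : (x : Ω)⁻¹ ∈ Subgroup.normalizer (T : Set Ω) :=
            Subgroup.inv_mem _ (hTn (hPS x.2))
          have h1 := (Subgroup.mem_normalizer_iff.mp hxN g).mp hgT
          rw [inv_inv] at h1
          have h2 : (x : Ω)⁻¹ * (g * (x : Ω) * g⁻¹) = (x : Ω)⁻¹ * g * (x : Ω) * g⁻¹ := by group
          rw [h2]
          exact T.mul_mem h1 (T.inv_mem hgT)
        have h3 : γ * conjAutHom P ⟨g, hgN⟩ * γ⁻¹ ∈ autInducedBy S P :=
          (Subgroup.mem_inf.mp (hnorm _ (Subgroup.mem_inf.mpr ⟨hcU, hcK⟩))).1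
        rw [mem_autInducedBy_iff] at h3
        obtain ⟨h, hhS, hh⟩ := h3
        refine ⟨hTS hgT, hgN, h, hhS, fun x hx => ?_⟩
        have h4 := hh (γ x)
        show ((γ ⟨g * (x : Ω) * g⁻¹, hx⟩ : P) : Ω) = h * ((γ x : P) : Ω) * h⁻¹
        rw [← h4, MulAut.mul_apply, MulAut.mul_apply, MulAut.inv_apply_self]
        rfl
    have hPP₁ : P ≤ P₁ := le_sup_left
    have hχ₁ := Fusion.restrict_mem F hψ hP₁ext
    -- `P < P₁`
    have hlt : Nat.card P < Nat.card P₁ := by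
      have hPTS : P ⊔ T ≤ S := sup_le hPS hTS
      have : Finite ↥(P ⊔ T) := Fusion.finite_of_le hPTS
      have hne : P ≠ P ⊔ T := by
        intro h
        apply hTP
        rw [h]
        exact le_sup_right
      obtain ⟨n, hn, hnP⟩ := Fusion.exists_mem_normalizerIn_not_mem (S := P ⊔ T) (hS.to_le hPTS)
        (le_sup_left : P ≤ P ⊔ T) hne
      obtain ⟨hnPT, hnN⟩ := Subgroup.mem_inf.mp hn
      have hmul := Subgroup.coe_mul_of_left_le_normalizer_right P T (hPS.trans hTn)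
      have hn' : n ∈ ((P ⊔ T : Subgroup Ω) : Set Ω) := hnPT
      rw [hmul] at hn'
      obtain ⟨x, hx, t, ht, rfl⟩ := hn'
      have htN : t ∈ Subgroup.normalizer (P : Set Ω) := by
        have : t = x⁻¹ * (x * t) := by group
        rw [this]
        exact Subgroup.mul_mem _ (Subgroup.inv_mem _ (Subgroup.le_normalizer hx)) hnN
      have htP : t ∉ P := by
        intro htP
        exact hnP (P.mul_mem hx htP)
      have hP₁S : P₁ ≤ S := sup_le hPS (inf_le_left.trans hTS)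
      have : Finite P₁ := Fusion.finite_of_le hP₁S
      apply card_lt_of_lt
      refine lt_of_le_of_ne hPP₁ ?_
      intro h
      apply htP
      rw [h]
      exact (le_sup_right : T ⊓ Subgroup.normalizer (P : Set Ω) ≤ P₁) (Subgroup.mem_inf.mpr ⟨ht, htN⟩)
    obtain ⟨χh, hχh, hχx⟩ := ih P₁ _ hχ₁ hlt
    have hsup : P₁ ⊔ T = P ⊔ T := by
      rw [hP₁, sup_assoc]
      congr 1
      exact sup_of_le_right inf_le_left
    obtain ⟨χh', hχh', hχχ'⟩ := Fusion.exists_hom_of_eq F hsup hχh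
    refine ⟨χh', hχh', fun x => ?_⟩
    have h5 := hχx ⟨x.1, hPP₁ x.2⟩
    have h6 : χh' (Subgroup.inclusion le_sup_left x) =
        χh (Subgroup.inclusion le_sup_left (⟨x.1, hPP₁ x.2⟩ : P₁)) :=
      hχχ' x.1 ((le_sup_left : P₁ ≤ P₁ ⊔ T) (hPP₁ x.2)) _
    rw [h6]
    have h7 : (ψ.comp (Subgroup.inclusion hP₁ext)) ⟨x.1, hPP₁ x.2⟩ =
        (P.subtype.comp γ.toMonoidHom) x := hψext x.1 x.2 _
    rw [← h7]
    exact h5
  -- compose
  have hcomp := Fusion.extT_comp F hT P P (P.subtype.comp γ.toMonoidHom)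
    (P.subtype.comp (κ⁻¹ : MulAut P).toMonoidHom) (fun x => (γ x).2) hExtγ hExtκ
  have heq : (P.subtype.comp (κ⁻¹ : MulAut P).toMonoidHom).comp
      ((P.subtype.comp γ.toMonoidHom).codRestrict P (fun x => (γ x).2)) =
      P.subtype.comp α.toMonoidHom := by
    ext x
    show (((κ⁻¹ : MulAut P) (γ x) : P) : Ω) = ((α x : P) : Ω)
    rw [hγ, MulAut.mul_apply, MulAut.inv_apply_self]
  rw [heq] at hcomp
  exact hcomp

end Cfsg.Agent.Lead
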