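import Mathlib
import Cfsg.Prelude.Def_FusionComponents
import Cfsg.Agent.Lead.FusionExtT

set_option autoImplicit false

namespace Cfsg.Agent.Lead

open Cfsg Cfsg.FusionSystem

variable {Ω : Type*} [Group Ω] {S : Subgroup Ω}

theorem Fusion.mem_preimageAlong {Ω' : Type*} [Group Ω'] (θ : S →* Ω') (P' : Subgroup Ω') (s : Ω) :
    s ∈ preimageAlong θ P' ↔ ∃ hs : s ∈ S, θ ⟨s, hs⟩ ∈ P' := by
  unfold preimageAlong
  constructor
  · rintro ⟨m, hm, rfl⟩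
    exact ⟨m.2, hm⟩
  · rintro ⟨hs, h⟩
    exact ⟨⟨s, hs⟩, h, rfl⟩

theorem Fusion.preimageAlong_le {Ω' : Type*} [Group Ω'] (θ : S →* Ω') (P' : Subgroup Ω') :
    preimageAlong θ P' ≤ S := by
  intro s hs
  obtain ⟨h, -⟩ := (Fusion.mem_preimageAlong θ P' s).mp hs
  exact h

theorem Fusion.mem_imageAlong {Ω' : Type*} [Group Ω'] (θ : S →* Ω') (P : Subgroup Ω) (y : Ω') :
    y ∈ imageAlong θ P ↔ ∃ (x : Ω) (hx : x ∈ P) (hxS : x ∈ S), θ ⟨x, hxS⟩ = y := by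
  unfold imageAlong
  constructor
  · rintro ⟨m, hm, rfl⟩
    rw [SetLike.mem_coe, Subgroup.mem_subgroupOf] at hm
    exact ⟨m.1, hm, m.2, rfl⟩
  · rintro ⟨x, hx, hxS, rfl⟩
    refine ⟨⟨x, hxS⟩, ?_, rfl⟩
    rw [SetLike.mem_coe, Subgroup.mem_subgroupOf]
    exact hx

/-- The preimage of the image of `P` is `P ⊔ S₀` when `S₀` is the kernel. -/
theorem Fusion.preimageAlong_imageAlong {Ω' : Type*} [Group Ω'] (θ : S →* Ω') {S₀ P : Subgroup Ω}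
    (hS₀ : S₀ ≤ S) (hker : ∀ s : S, θ s = 1 ↔ (s : Ω) ∈ S₀) (hP : P ≤ S) :
    preimageAlong θ (imageAlong θ P) = P ⊔ S₀ := by
  apply le_antisymm
  · intro s hs
    obtain ⟨hsS, h⟩ := (Fusion.mem_preimageAlong θ _ s).mp hs
    obtain ⟨x, hx, hxS, hxs⟩ := (Fusion.mem_imageAlong θ P _).mp h
    have h1 : θ (⟨x, hxS⟩⁻¹ * ⟨s, hsS⟩) = 1 := by
      rw [map_mul, map_inv, hxs, inv_mul_cancel]
    have h2 : x⁻¹ * s ∈ S₀ := (hker _).mp h1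
    have h3 : s = x * (x⁻¹ * s) := by group
    rw [h3]
    exact Subgroup.mul_mem _ ((le_sup_left : P ≤ P ⊔ S₀) hx) ((le_sup_right : S₀ ≤ P ⊔ S₀) h2)
  · apply sup_le
    · intro x hx
      rw [Fusion.mem_preimageAlong]
      exact ⟨hP hx, (Fusion.mem_imageAlong θ P _).mpr ⟨x, hx, hP hx, rfl⟩⟩
    · intro s hs
      rw [Fusion.mem_preimageAlong]
      refine ⟨hS₀ hs, ?_⟩
      have : θ ⟨s, hS₀ hs⟩ = 1 := (hker _).mpr hs
      rw [this]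
      exact Subgroup.one_mem _

/-- The quotient map onto a factor system is a surjective morphism. -/
theorem Fusion.isSurjectiveMorphism_of_isFactorSystem [Finite S] (p : ℕ) [Fact p.Prime]
    (hS : IsPGroup p S) (F : FusionSystem S) (hF : F.IsSaturated p) (S₀ : Subgroup Ω)
    (hS₀ : F.StronglyClosed S₀) {Ω' : Type*} [Group Ω'] {S' : Subgroup Ω'} (θ : S →* Ω')
    (E : FusionSystem S') (hE : F.IsFactorSystem S₀ θ E) : F.IsSurjectiveMorphism E θ := by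
  obtain ⟨hS₀S, hker, hrange, hHom⟩ := hE
  have hθS' : ∀ s : S, θ s ∈ S' := fun s => hrange ▸ ⟨s, rfl⟩
  refine ⟨⟨hθS', fun P φ hφ => ?_⟩, hrange, fun P' hP' φ' hφ' => ((hHom P' φ').mp hφ').2⟩
  have hPS := Fusion.src_le F hφ
  obtain ⟨φh, hφh, hφx⟩ := Fusion.extT_all p hS F hF hS₀ hφ
  set P' := imageAlong θ P with hP'def
  set M := preimageAlong θ P' with hM
  have hpre : P ⊔ S₀ = M :=
    (Fusion.preimageAlong_imageAlong θ hS₀S hker hPS).symm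
  obtain ⟨ψ, hψ, hψφh⟩ := Fusion.exists_hom_of_eq F hpre hφh
  have hMS : M ≤ S := Fusion.preimageAlong_le θ P'
  have hψS : ∀ m : M, ψ m ∈ S := fun m => Fusion.map_mem F hψ m
  have hMP' : ∀ m : M, θ ⟨m.1, hMS m.2⟩ ∈ P' := fun m =>
    ((Fusion.mem_preimageAlong θ P' m.1).mp m.2).2
  -- the two homomorphisms out of `M`
  let f : M →* Ω' :=
    { toFun := fun m => θ ⟨ψ m, hψS m⟩
      map_one' := by
        have : (⟨ψ 1, hψS 1⟩ : S) = 1 := Subtype.ext (map_one ψ)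
        rw [this, map_one]
      map_mul' := by
        intro a b
        have : (⟨ψ (a * b), hψS (a * b)⟩ : S) = ⟨ψ a, hψS a⟩ * ⟨ψ b, hψS b⟩ :=
          Subtype.ext (map_mul ψ a b)
        rw [this, map_mul] }
  let g : M →* P' :=
    { toFun := fun m => ⟨θ ⟨m.1, hMS m.2⟩, hMP' m⟩
      map_one' := by
        apply Subtype.ext
        have : (⟨((1 : M) : Ω), hMS (1 : M).2⟩ : S) = 1 := rfl
        show θ ⟨((1 : M) : Ω), hMS (1 : M).2⟩ = 1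
        rw [this, map_one]
      map_mul' := by
        intro a b
        apply Subtype.ext
        have : (⟨((a * b : M) : Ω), hMS (a * b).2⟩ : S) = ⟨a.1, hMS a.2⟩ * ⟨b.1, hMS b.2⟩ := rfl
        show θ ⟨((a * b : M) : Ω), hMS (a * b).2⟩ = θ ⟨a.1, hMS a.2⟩ * θ ⟨b.1, hMS b.2⟩
        rw [this, map_mul] }
  have hg : Function.Surjective g := by
    rintro ⟨y, hy⟩
    obtain ⟨x, hx, hxS, hxy⟩ := (Fusion.mem_imageAlong θ P y).mp hy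
    have hxM : x ∈ M := (Fusion.mem_preimageAlong θ P' x).mpr ⟨hxS, hxy ▸ hy⟩
    exact ⟨⟨x, hxM⟩, Subtype.ext hxy⟩
  have hkerfg : g.ker ≤ f.ker := by
    intro m hm
    rw [MonoidHom.mem_ker] at hm ⊢
    have h1 : θ ⟨m.1, hMS m.2⟩ = 1 := congrArg Subtype.val hm
    have h2 : (m : Ω) ∈ S₀ := (hker _).mp h1
    have h3 : ψ m ∈ S₀ := Fusion.map_mem_of_stronglyClosed F hS₀ hψ m h2
    exact (hker ⟨ψ m, hψS m⟩).mpr h3
  set φ' : P' →* Ω' := g.liftOfSurjective hg ⟨f, hkerfg⟩ with hφ'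
  have hφ'g : ∀ m : M, φ' (g m) = f m := fun m =>
    MonoidHom.liftOfRightInverse_comp_apply g _ (Function.rightInverse_surjInv hg) ⟨f, hkerfg⟩ m
  have hP'S' : P' ≤ S' := by
    intro y hy
    obtain ⟨x, -, hxS, rfl⟩ := (Fusion.mem_imageAlong θ P y).mp hy
    exact hθS' _
  refine ⟨φ', (hHom P' φ').mpr ⟨hP'S', ψ, hψ, hMS, hψS, hMP', fun m => hφ'g m⟩, ?_⟩
  have hPM : P ≤ M := hpre ▸ (le_sup_left : P ≤ P ⊔ S₀)
  refine ⟨hPS, fun x => Fusion.map_mem F hφ x, fun x => hMP' ⟨x.1, hPM x.2⟩, fun x => ?_⟩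
  have h1 := hφ'g ⟨x.1, hPM x.2⟩
  have h2 : φ' ⟨θ ⟨x.1, hPS x.2⟩, hMP' ⟨x.1, hPM x.2⟩⟩ = θ ⟨ψ ⟨x.1, hPM x.2⟩, hψS _⟩ := h1
  rw [h2]
  have h3 : ψ ⟨x.1, hPM x.2⟩ = φh (Subgroup.inclusion le_sup_left x) :=
    hψφh x.1 ((le_sup_left : P ≤ P ⊔ S₀) x.2) _
  set s₀ : Ω := (φ x)⁻¹ * φh (Subgroup.inclusion le_sup_left x) with hs₀
  have hs₀S₀ : s₀ ∈ S₀ := hφx x
  have h4 : (⟨ψ ⟨x.1, hPM x.2⟩, hψS _⟩ : S) =
      ⟨φ x, Fusion.map_mem F hφ x⟩ * ⟨s₀, hS₀S hs₀S₀⟩ := by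
    apply Subtype.ext
    show ψ ⟨x.1, hPM x.2⟩ = φ x * s₀
    rw [h3, hs₀]
    group
  rw [h4, map_mul, (hker ⟨s₀, hS₀S hs₀S₀⟩).mpr hs₀S₀, mul_one]

end Cfsg.Agent.Lead
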