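import Mathlib
import Cfsg.Prelude.Def_FusionComponents
import Cfsg.Agent.Lead.FusionFactor
import Cfsg.Agent.Lead.FusionSat3
import Cfsg.Agent.Lead.SylowLemmas

set_option autoImplicit false

namespace Cfsg.Agent.Lead

open Cfsg Cfsg.FusionSystem

variable {Ω : Type*} [Group Ω] {S : Subgroup Ω} {Ω' : Type*} [Group Ω'] {S' : Subgroup Ω'}

/-- The kernel of a homomorphism on `S`, as a subgroup of the ambient group. -/
def Fusion.kerAlong (α : S →* Ω') : Subgroup Ω := preimageAlong α ⊥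

theorem Fusion.mem_kerAlong (α : S →* Ω') (s : Ω) :
    s ∈ Fusion.kerAlong α ↔ ∃ hs : s ∈ S, α ⟨s, hs⟩ = 1 := by
  unfold Fusion.kerAlong
  rw [Fusion.mem_preimageAlong]
  simp only [Subgroup.mem_bot]

theorem Fusion.kerAlong_le (α : S →* Ω') : Fusion.kerAlong α ≤ S :=
  Fusion.preimageAlong_le α ⊥

theorem Fusion.kerAlong_iff (α : S →* Ω') (s : S) : α s = 1 ↔ (s : Ω) ∈ Fusion.kerAlong α := by
  rw [Fusion.mem_kerAlong]
  constructor
  · intro h; exact ⟨s.2, h⟩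
  · rintro ⟨_, h⟩; exact h

theorem Fusion.kerAlong_le_preimageAlong (α : S →* Ω') (P' : Subgroup Ω') :
    Fusion.kerAlong α ≤ preimageAlong α P' := by
  intro s hs
  obtain ⟨hsS, h⟩ := (Fusion.mem_kerAlong α s).mp hs
  rw [Fusion.mem_preimageAlong]
  exact ⟨hsS, h ▸ Subgroup.one_mem _⟩

/-- Two elements of `S` with the same image differ by an element of the kernel. -/
theorem Fusion.inv_mul_mem_kerAlong (α : S →* Ω') {x y : Ω} (hx : x ∈ S) (hy : y ∈ S)
    (h : α ⟨x, hx⟩ = α ⟨y, hy⟩) : x⁻¹ * y ∈ Fusion.kerAlong α := by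
  rw [Fusion.mem_kerAlong]
  refine ⟨S.mul_mem (S.inv_mem hx) hy, ?_⟩
  have : (⟨x⁻¹ * y, S.mul_mem (S.inv_mem hx) hy⟩ : S) = ⟨x, hx⟩⁻¹ * ⟨y, hy⟩ := rfl
  rw [this, map_mul, map_inv, h, inv_mul_cancel]

/-- The kernel of a morphism of fusion systems is strongly closed. -/
theorem Fusion.kerAlong_stronglyClosed (F : FusionSystem S) (F' : FusionSystem S') (α : S →* Ω')
    (hα : F.IsMorphism F' α) : F.StronglyClosed (Fusion.kerAlong α) := by
  refine ⟨Fusion.kerAlong_le α, fun R hR φ hφ x => ?_⟩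
  obtain ⟨φ', -, hRS, hφS, hRR', hind⟩ := hα.2 R φ hφ
  have h1 := hind x
  obtain ⟨hxS, hx1⟩ := (Fusion.mem_kerAlong α x.1).mp (hR x.2)
  have h2 : (⟨α ⟨x.1, hRS x.2⟩, hRR' x⟩ : imageAlong α R) = 1 := Subtype.ext hx1
  rw [h2, map_one] at h1
  rw [Fusion.mem_kerAlong]
  exact ⟨hφS x, h1.symm⟩

theorem Fusion.imageAlong_preimageAlong (α : S →* Ω') (hr : α.range = S') {P' : Subgroup Ω'}
    (hP' : P' ≤ S') : imageAlong α (preimageAlong α P') = P' := by
  ext y
  rw [Fusion.mem_imageAlong]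
  constructor
  · rintro ⟨x, hx, hxS, rfl⟩
    obtain ⟨_, h⟩ := (Fusion.mem_preimageAlong α P' x).mp hx
    exact h
  · intro hy
    have : y ∈ α.range := hr ▸ hP' hy
    obtain ⟨s, rfl⟩ := this
    exact ⟨s.1, (Fusion.mem_preimageAlong α P' s.1).mpr ⟨s.2, hy⟩, s.2, rfl⟩

theorem Fusion.preimageAlong_mono (α : S →* Ω') {P' Q' : Subgroup Ω'} (h : P' ≤ Q') :
    preimageAlong α P' ≤ preimageAlong α Q' := by
  intro s hs
  obtain ⟨hsS, h1⟩ := (Fusion.mem_preimageAlong α P' s).mp hs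
  exact (Fusion.mem_preimageAlong α Q' s).mpr ⟨hsS, h h1⟩

theorem Fusion.preimageAlong_top (α : S →* Ω') (hαS' : ∀ s : S, α s ∈ S') :
    preimageAlong α S' = S := by
  apply le_antisymm (Fusion.preimageAlong_le α S')
  intro s hs
  exact (Fusion.mem_preimageAlong α S' s).mpr ⟨hs, hαS' _⟩

/-- A subgroup containing the kernel is the preimage of its image. -/
theorem Fusion.preimageAlong_imageAlong_of_le (α : S →* Ω') {P : Subgroup Ω} (hP : P ≤ S)
    (hT : Fusion.kerAlong α ≤ P) : preimageAlong α (imageAlong α P) = P := by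
  rw [Fusion.preimageAlong_imageAlong α (Fusion.kerAlong_le α) (Fusion.kerAlong_iff α) hP]
  exact sup_eq_left.mpr hT

/-- The range of a lift of a map of the image system. -/
theorem Fusion.range_lift [Finite S] (F : FusionSystem S) (F' : FusionSystem S') (α : S →* Ω')
    (hα : F.IsSurjectiveMorphism F' α) {P' Q' : Subgroup Ω'} {φ' : P' →* Ω'}
    (hφ' : φ' ∈ F'.Hom P') (hr' : φ'.range = Q')
    {φ : ↥(preimageAlong α P') →* Ω} (hφ : φ ∈ F.Hom (preimageAlong α P'))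
    (hind : InducedAlong α φ φ') : φ.range = preimageAlong α Q' := by
  obtain ⟨hPS, hφS, hPP', hind⟩ := hind
  have hT := Fusion.kerAlong_stronglyClosed F F' α hα.1
  have hP'S' : P' ≤ S' := Fusion.src_le F' hφ'
  ext y
  constructor
  · rintro ⟨x, rfl⟩
    rw [Fusion.mem_preimageAlong]
    refine ⟨hφS x, ?_⟩
    rw [← hind x, ← hr']
    exact ⟨_, rfl⟩
  · intro hy
    obtain ⟨hyS, hyQ⟩ := (Fusion.mem_preimageAlong α Q' y).mp hy
    rw [← hr'] at hyQ
    obtain ⟨z, hz⟩ := hyQ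
    have hzr : (z : Ω') ∈ α.range := hα.2.1 ▸ hP'S' z.2
    obtain ⟨s, hs⟩ := hzr
    have hsP : (s : Ω) ∈ preimageAlong α P' :=
      (Fusion.mem_preimageAlong α P' s.1).mpr ⟨s.2, hs ▸ z.2⟩
    set x : ↥(preimageAlong α P') := ⟨s.1, hsP⟩ with hx
    have hzx : z = ⟨α ⟨x.1, hPS x.2⟩, hPP' x⟩ := Subtype.ext hs.symm
    have h1 : α ⟨φ x, hφS x⟩ = α ⟨y, hyS⟩ := by
      rw [← hind x, ← hzx, hz]
    have h2 := Fusion.inv_mul_mem_kerAlong α (hφS x) hyS h1
    obtain ⟨t', ht', ht⟩ := Fusion.exists_preimage_of_stronglyClosed F hT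
      (Fusion.kerAlong_le_preimageAlong α P') hφ _ h2
    refine ⟨x * ⟨t', Fusion.kerAlong_le_preimageAlong α P' ht'⟩, ?_⟩
    rw [map_mul, ht]
    group

/-- Conjugacy in the image system lifts to preimages. -/
theorem Fusion.isConj_preimage [Finite S] (F : FusionSystem S) (F' : FusionSystem S') (α : S →* Ω')
    (hα : F.IsSurjectiveMorphism F' α) {P' Q' : Subgroup Ω'} (h : F'.IsConj P' Q') :
    F.IsConj (preimageAlong α P') (preimageAlong α Q') := by
  obtain ⟨φ', hφ', hr'⟩ := h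
  obtain ⟨φ, hφ, hind⟩ := hα.2.2 P' (Fusion.src_le F' hφ') φ' hφ'
  exact ⟨φ, hφ, Fusion.range_lift F F' α hα hφ' hr' hφ hind⟩

/-- Conjugacy pushes forward along a morphism. -/
theorem Fusion.isConj_image (F : FusionSystem S) (F' : FusionSystem S') (α : S →* Ω')
    (hα : F.IsMorphism F' α) {P Q : Subgroup Ω} (h : F.IsConj P Q) :
    F'.IsConj (imageAlong α P) (imageAlong α Q) := by
  obtain ⟨φ, hφ, hr⟩ := h
  obtain ⟨φ', hφ', hPS, hφS, hPP', hind⟩ := hα.2 P φ hφ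
  refine ⟨φ', hφ', ?_⟩
  ext y
  constructor
  · rintro ⟨z, rfl⟩
    obtain ⟨x, hx, hxS, hxz⟩ := (Fusion.mem_imageAlong α P z.1).mp z.2
    have hz : z = ⟨α ⟨x, hPS hx⟩, hPP' ⟨x, hx⟩⟩ := Subtype.ext hxz.symm
    rw [hz, hind ⟨x, hx⟩, Fusion.mem_imageAlong]
    exact ⟨φ ⟨x, hx⟩, hr ▸ ⟨_, rfl⟩, hφS _, rfl⟩
  · intro hy
    obtain ⟨q, hq, hqS, rfl⟩ := (Fusion.mem_imageAlong α Q y).mp hy
    rw [← hr] at hq
    obtain ⟨x, rfl⟩ := hq
    exact ⟨⟨α ⟨x.1, hPS x.2⟩, hPP' x⟩, hind x⟩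

/-- A conjugate of a subgroup containing a strongly closed subgroup contains it. -/
theorem Fusion.le_of_isConj_of_stronglyClosed [Finite S] (F : FusionSystem S) {T P Q : Subgroup Ω}
    (hT : F.StronglyClosed T) (hTP : T ≤ P) (h : F.IsConj P Q) : T ≤ Q := by
  obtain ⟨φ, hφ, hr⟩ := h
  intro t ht
  obtain ⟨t', ht', h1⟩ := Fusion.exists_preimage_of_stronglyClosed F hT hTP hφ t ht
  rw [← hr]
  exact ⟨_, h1⟩

theorem Fusion.finite_of_range [Finite S] (α : S →* Ω') (hr : α.range = S') : Finite S' := by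
  subst hr
  exact Finite.of_surjective α.rangeRestrict α.rangeRestrict_surjective

/-- The normalizer of a preimage is the preimage of the normalizer. -/
theorem Fusion.normalizerIn_preimageAlong [Finite S] (α : S →* Ω') (hαS' : ∀ s : S, α s ∈ S')
    (hr : α.range = S') {X' : Subgroup Ω'} (hX' : X' ≤ S') :
    normalizerIn S (preimageAlong α X') = preimageAlong α (normalizerIn S' X') := by
  have hfin' : Finite S' := Fusion.finite_of_range α hr
  have : Finite X' := Fusion.finite_of_le hX'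
  have : Finite ↥(preimageAlong α X') := Fusion.finite_of_le (Fusion.preimageAlong_le α X')
  ext g
  constructor
  · intro hg
    obtain ⟨hgS, hgN⟩ := Subgroup.mem_inf.mp hg
    rw [Fusion.mem_preimageAlong]
    refine ⟨hgS, Subgroup.mem_inf.mpr ⟨hαS' _, ?_⟩⟩
    apply mem_normalizer_of_conj_mem_of_finite
    intro y hy
    have hyr : y ∈ α.range := hr ▸ hX' hy
    obtain ⟨s, rfl⟩ := hyr
    have hsX : (s : Ω) ∈ preimageAlong α X' := (Fusion.mem_preimageAlong α X' s.1).mpr ⟨s.2, hy⟩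
    have h1 : g * s * g⁻¹ ∈ preimageAlong α X' := (Subgroup.mem_normalizer_iff.mp hgN s).mp hsX
    obtain ⟨h2, h3⟩ := (Fusion.mem_preimageAlong α X' _).mp h1
    have h4 : (⟨g * s * g⁻¹, h2⟩ : S) = ⟨g, hgS⟩ * s * ⟨g, hgS⟩⁻¹ := rfl
    rw [h4, map_mul, map_mul, map_inv] at h3
    exact h3
  · intro hg
    obtain ⟨hgS, hgN⟩ := (Fusion.mem_preimageAlong α _ g).mp hg
    obtain ⟨-, hgN⟩ := Subgroup.mem_inf.mp hgN
    refine Subgroup.mem_inf.mpr ⟨hgS, ?_⟩
    apply mem_normalizer_of_conj_mem_of_finite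
    intro x hx
    obtain ⟨hxS, hxX⟩ := (Fusion.mem_preimageAlong α X' x).mp hx
    rw [Fusion.mem_preimageAlong]
    refine ⟨S.mul_mem (S.mul_mem hgS hxS) (S.inv_mem hgS), ?_⟩
    have h4 : (⟨g * x * g⁻¹, S.mul_mem (S.mul_mem hgS hxS) (S.inv_mem hgS)⟩ : S) =
        ⟨g, hgS⟩ * ⟨x, hxS⟩ * ⟨g, hgS⟩⁻¹ := rfl
    rw [h4, map_mul, map_mul, map_inv]
    exact (Subgroup.mem_normalizer_iff.mp hgN _).mp hxX

/-- The order of a preimage. -/
theorem Fusion.card_preimageAlong [Finite S] (α : S →* Ω') (hr : α.range = S') {Y' : Subgroup Ω'}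
    (hY' : Y' ≤ S') :
    Nat.card ↥(preimageAlong α Y') = Nat.card ↥(Fusion.kerAlong α) * Nat.card Y' := by
  have hle : preimageAlong α Y' ≤ S := Fusion.preimageAlong_le α Y'
  set f : ↥(preimageAlong α Y') →* Ω' := α.comp (Subgroup.inclusion hle) with hf
  have hrange : f.range = Y' := by
    ext y
    constructor
    · rintro ⟨x, rfl⟩
      exact ((Fusion.mem_preimageAlong α Y' x.1).mp x.2).2
    · intro hy
      have hyr : y ∈ α.range := hr ▸ hY' hy
      obtain ⟨s, rfl⟩ := hyr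
      exact ⟨⟨s.1, (Fusion.mem_preimageAlong α Y' s.1).mpr ⟨s.2, hy⟩⟩, rfl⟩
  have hker : f.ker = (Fusion.kerAlong α).subgroupOf (preimageAlong α Y') := by
    ext x
    rw [MonoidHom.mem_ker, Subgroup.mem_subgroupOf, Fusion.mem_kerAlong]
    constructor
    · intro h; exact ⟨hle x.2, h⟩
    · rintro ⟨_, h⟩; exact h
  have h1 := Subgroup.card_mul_index f.ker
  rw [Subgroup.index_ker, hrange, hker,
    card_subgroupOf_of_le (Fusion.kerAlong_le_preimageAlong α Y')] at h1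
  exact h1.symm

/-- A fully normalized subgroup of the image system has fully normalized preimage. -/
theorem Fusion.fullyNormalized_preimage [Finite S] (F : FusionSystem S) (F' : FusionSystem S')
    (α : S →* Ω') (hα : F.IsSurjectiveMorphism F' α) {P' : Subgroup Ω'}
    (hP' : F'.IsFullyNormalized P') : F.IsFullyNormalized (preimageAlong α P') := by
  obtain ⟨⟨hαS', hM⟩, hr, hL⟩ := hα
  have hT := Fusion.kerAlong_stronglyClosed F F' α ⟨hαS', hM⟩
  refine ⟨Fusion.preimageAlong_le α P', fun Q hQ => ?_⟩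
  have hTQ : Fusion.kerAlong α ≤ Q :=
    Fusion.le_of_isConj_of_stronglyClosed F hT (Fusion.kerAlong_le_preimageAlong α P') hQ
  have hQS : Q ≤ S := by
    obtain ⟨φ, hφ, hrφ⟩ := hQ
    exact hrφ ▸ Fusion.range_le F hφ
  have hQ' := Fusion.isConj_image F F' α ⟨hαS', hM⟩ hQ
  rw [Fusion.imageAlong_preimageAlong α hr hP'.1] at hQ'
  have hle := hP'.2 _ hQ'
  have hQ'S' : imageAlong α Q ≤ S' := by
    intro y hy
    obtain ⟨x, -, hxS, rfl⟩ := (Fusion.mem_imageAlong α Q y).mp hy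
    exact hαS' _
  have h1 : normalizerIn S Q = preimageAlong α (normalizerIn S' (imageAlong α Q)) := by
    rw [← Fusion.normalizerIn_preimageAlong α hαS' hr hQ'S',
      Fusion.preimageAlong_imageAlong_of_le α hQS hTQ]
  have hN1 : normalizerIn S' (imageAlong α Q) ≤ S' := inf_le_left
  have hN2 : normalizerIn S' P' ≤ S' := inf_le_left
  rw [h1, Fusion.normalizerIn_preimageAlong α hαS' hr hP'.1,
    Fusion.card_preimageAlong α hr hN1, Fusion.card_preimageAlong α hr hN2]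
  exact Nat.mul_le_mul_left _ hle

end Cfsg.Agent.Lead
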