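import Mathlib
import Cfsg.Prelude.Def_FusionComponents
import Cfsg.Agent.Lead.FusionMorph
import Cfsg.Agent.Lead.FusionConj
import Cfsg.Agent.Lead.FusionInner

set_option autoImplicit false

namespace Cfsg.Agent.Lead

open Cfsg Cfsg.FusionSystem

variable {Ω : Type*} [Group Ω] {S : Subgroup Ω} {Ω' : Type*} [Group Ω'] {S' : Subgroup Ω'}

/-- The map from the preimage of `P'` to `P'`. -/
def Fusion.toImage (α : S →* Ω') (P' : Subgroup Ω') : ↥(preimageAlong α P') →* P' :=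
  (α.comp (Subgroup.inclusion (Fusion.preimageAlong_le α P'))).codRestrict P'
    (fun x => ((Fusion.mem_preimageAlong α P' x.1).mp x.2).2)

theorem Fusion.toImage_coe (α : S →* Ω') (P' : Subgroup Ω') (x : ↥(preimageAlong α P')) :
    ((Fusion.toImage α P' x : P') : Ω') = α ⟨x.1, Fusion.preimageAlong_le α P' x.2⟩ := rfl

theorem Fusion.toImage_surjective (α : S →* Ω') (hr : α.range = S') {P' : Subgroup Ω'}
    (hP' : P' ≤ S') : Function.Surjective (Fusion.toImage α P') := by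
  intro y
  have hyr : (y : Ω') ∈ α.range := hr ▸ hP' y.2
  obtain ⟨s, hs⟩ := hyr
  exact ⟨⟨s.1, (Fusion.mem_preimageAlong α P' s.1).mpr ⟨s.2, hs ▸ y.2⟩⟩, Subtype.ext hs⟩

/-- `γ` lifts `γ'`. -/
def Fusion.LiftsAut (α : S →* Ω') (P' : Subgroup Ω') (γ : MulAut ↥(preimageAlong α P'))
    (γ' : MulAut P') : Prop :=
  ∀ x, Fusion.toImage α P' (γ x) = γ' (Fusion.toImage α P' x)

theorem Fusion.liftsAut_one (α : S →* Ω') (P' : Subgroup Ω') : Fusion.LiftsAut α P' 1 1 :=
  fun _ => rfl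

theorem Fusion.liftsAut_mul (α : S →* Ω') (P' : Subgroup Ω') {γ₁ γ₂ : MulAut ↥(preimageAlong α P')}
    {γ₁' γ₂' : MulAut P'} (h₁ : Fusion.LiftsAut α P' γ₁ γ₁') (h₂ : Fusion.LiftsAut α P' γ₂ γ₂') :
    Fusion.LiftsAut α P' (γ₁ * γ₂) (γ₁' * γ₂') := by
  intro x
  rw [MulAut.mul_apply, MulAut.mul_apply, h₁, h₂]

theorem Fusion.liftsAut_inv (α : S →* Ω') (P' : Subgroup Ω') {γ : MulAut ↥(preimageAlong α P')}
    {γ' : MulAut P'} (h : Fusion.LiftsAut α P' γ γ') : Fusion.LiftsAut α P' γ⁻¹ γ'⁻¹ := by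
  intro x
  apply γ'.injective
  rw [← h, MulAut.apply_inv_self, MulAut.apply_inv_self]

theorem Fusion.liftsAut_pow (α : S →* Ω') (P' : Subgroup Ω') {γ : MulAut ↥(preimageAlong α P')}
    {γ' : MulAut P'} (h : Fusion.LiftsAut α P' γ γ') (k : ℕ) :
    Fusion.LiftsAut α P' (γ ^ k) (γ' ^ k) := by
  induction k with
  | zero => simpa using Fusion.liftsAut_one α P'
  | succ k ih => rw [pow_succ, pow_succ]; exact Fusion.liftsAut_mul α P' ih h

/-- Every automorphism of the image system lifts. -/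
theorem Fusion.exists_liftsAut [Finite S] (F : FusionSystem S) (F' : FusionSystem S') (α : S →* Ω')
    (hα : F.IsSurjectiveMorphism F' α) {P' : Subgroup Ω'} (hP' : P' ≤ S') (γ' : MulAut P')
    (hγ' : γ' ∈ F'.autGroup P') :
    ∃ γ ∈ F.autGroup (preimageAlong α P'), Fusion.LiftsAut α P' γ γ' := by
  have hφ' := (Fusion.mem_autGroup_iff F' hP' γ').mp hγ'
  obtain ⟨φ, hφ, hind⟩ := hα.2.2 P' hP' _ hφ'
  have hr' : (P'.subtype.comp γ'.toMonoidHom).range = P' := by
    ext y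
    constructor
    · rintro ⟨x, rfl⟩; exact (γ' x).2
    · intro hy; exact ⟨γ'.symm ⟨y, hy⟩, by simp⟩
  have hr := Fusion.range_lift F F' α hα hφ' hr' hφ hind
  have hPS := Fusion.preimageAlong_le α P'
  refine ⟨Fusion.equivOfRange φ (F.injective_of_mem hφ) hr, ?_, ?_⟩
  · rw [Fusion.mem_autGroup_iff F hPS]
    convert hφ using 1
    ext y
    rfl
  · obtain ⟨h1, h2, h3, h4⟩ := hind
    intro x
    apply Subtype.ext
    rw [Fusion.toImage_coe]
    exact (h4 x).symm

/-- When `P = S` as sets, `Aut_S(P)` is normal in `Aut(P)`. -/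
theorem Fusion.conj_mem_autInducedBy_of_eq {P : Subgroup Ω} (hPS : P ≤ S) (hSP : S ≤ P)
    (a c : MulAut P) (hc : c ∈ autInducedBy S P) : a * c * a⁻¹ ∈ autInducedBy S P := by
  rw [mem_autInducedBy_iff] at hc ⊢
  obtain ⟨s, hs, h⟩ := hc
  refine ⟨(a ⟨s, hSP hs⟩ : P), hPS (a ⟨s, hSP hs⟩).2, fun x => ?_⟩
  have h1 : c (a⁻¹ x) = ⟨s, hSP hs⟩ * (a⁻¹ x) * ⟨s, hSP hs⟩⁻¹ := Subtype.ext (h _)
  rw [MulAut.mul_apply, MulAut.mul_apply, h1, map_mul, map_mul, map_inv, MulAut.apply_inv_self]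
  rfl

/-- The image system has `S'` fully automized. -/
theorem Fusion.top_fullyAutomized_image [Finite S] (p : ℕ) [Fact p.Prime] (hS : IsPGroup p S)
    (F : FusionSystem S) (hF : F.IsSaturated p) (F' : FusionSystem S') (α : S →* Ω')
    (hα : F.IsSurjectiveMorphism F' α) : F'.IsFullyAutomized p S' := by
  have hα' := hα
  obtain ⟨⟨hαS', hM⟩, hr, hL⟩ := hα
  have hfin' : Finite S' := Fusion.finite_of_range α hr
  have hS' : IsPGroup p S' := by
    subst hr
    exact hS.of_surjective α.rangeRestrict α.rangeRestrict_surjective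
  refine ⟨le_rfl, ?_⟩
  have : Finite (MulAut S') := inferInstance
  have hI'A' : autInducedBy S' S' ≤ F'.autGroup S' := Fusion.autInducedBy_le_autGroup F' le_rfl
  have hI'p : IsPGroup p (autInducedBy S' S') := Fusion.isPGroup_autInducedBy p hS' S'
  obtain ⟨R, hR⟩ := (hI'p.comap_subtype (K := F'.autGroup S')).exists_le_sylow
  refine ⟨R, le_antisymm ?_ hR⟩
  intro γ hγ
  rw [Subgroup.mem_subgroupOf]
  obtain ⟨b, hb⟩ := R.isPGroup' ⟨γ, hγ⟩
  have hb' : (γ : MulAut S') ^ p ^ b = 1 := by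
    have := congrArg (fun z : R => ((z : F'.autGroup S') : MulAut S')) hb
    simpa using this
  have hPeq : preimageAlong α S' = S := Fusion.preimageAlong_top α hαS'
  obtain ⟨g, hgA, hlift⟩ := Fusion.exists_liftsAut F F' α hα' le_rfl (γ : MulAut S') γ.2
  have hPS : preimageAlong α S' ≤ S := hPeq.le
  have hSP : S ≤ preimageAlong α S' := hPeq.ge
  have : Finite ↥(preimageAlong α S') := Fusion.finite_of_le hPS
  have : Finite (MulAut ↥(preimageAlong α S')) := inferInstance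
  obtain ⟨n, a, hna, hn1⟩ := exists_pow_pElement p g b
  have hfa : F.IsFullyAutomized p (preimageAlong α S') := by
    rw [hPeq]; exact Fusion.top_fullyAutomized p F hF
  obtain ⟨R₀, hR₀⟩ := hfa.2
  have hle : autInducedBy S (preimageAlong α S') ≤ F.autGroup (preimageAlong α S') :=
    Fusion.autInducedBy_le_autGroup F hPS
  have hcard : Nat.card (autInducedBy S (preimageAlong α S')) =
      p ^ (Nat.card (F.autGroup (preimageAlong α S'))).factorization p := by
    rw [← R₀.card_eq_multiplicity, ← card_subgroupOf_of_le hle, ← hR₀]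
  have hZ : IsPGroup p (Subgroup.zpowers (g ^ n)) := by
    rintro ⟨z, hz⟩
    obtain ⟨j, rfl⟩ := Subgroup.mem_zpowers_iff.mp hz
    refine ⟨a, Subtype.ext ?_⟩
    simp only [Subgroup.coe_pow, Subgroup.coe_one]
    rw [← zpow_natCast, ← zpow_mul, mul_comm, zpow_mul, zpow_natCast, hna, one_zpow]
  have hZA : Subgroup.zpowers (g ^ n) ≤ F.autGroup (preimageAlong α S') := by
    rw [Subgroup.zpowers_le]; exact Subgroup.pow_mem _ hgA n
  obtain ⟨m, hmA, hm⟩ := exists_conj_le_of_card_eq_ppart (p := p) hle hcard hZA hZ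
  have h1 : m * g ^ n * m⁻¹ ∈ autInducedBy S (preimageAlong α S') :=
    hm ⟨g ^ n, Subgroup.mem_zpowers _, rfl⟩
  have h2 : g ^ n ∈ autInducedBy S (preimageAlong α S') := by
    have := Fusion.conj_mem_autInducedBy_of_eq hPS hSP m⁻¹ _ h1
    simpa [mul_assoc] using this
  rw [mem_autInducedBy_iff] at h2
  obtain ⟨s, hs, hsx⟩ := h2
  have hγn : (γ : MulAut S') ^ n = γ := by
    have h3 : n ≡ 1 [MOD orderOf (γ : MulAut S')] :=
      hn1.of_dvd (orderOf_dvd_of_pow_eq_one hb')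
    have := pow_eq_pow_iff_modEq.mpr h3
    simpa using this
  have hlift_n := Fusion.liftsAut_pow α S' hlift n
  rw [hγn] at hlift_n
  rw [mem_autInducedBy_iff]
  refine ⟨α ⟨s, hs⟩, hαS' _, fun y => ?_⟩
  obtain ⟨x, rfl⟩ := Fusion.toImage_surjective α hr le_rfl y
  rw [← hlift_n x, Fusion.toImage_coe, Fusion.toImage_coe]
  rw [← map_inv, ← map_mul, ← map_mul]
  congr 1
  exact Subtype.ext (hsx x)

end Cfsg.Agent.Lead
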