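import Mathlib
import Cfsg.Prelude.Def_FusionComponents
import Cfsg.Agent.Lead.FusionMorph2

set_option autoImplicit false

namespace Cfsg.Agent.Lead

open Cfsg Cfsg.FusionSystem

/-- Sylow conjugation inside `R K`, by an element of `K`. -/
theorem exists_conj_le_of_le_sup {G : Type*} [Group G] [Finite G] {p : ℕ} [Fact p.Prime]
    {A R K B : Subgroup G}
    (hRA : R ≤ A) (hR : Nat.card R = p ^ (Nat.card A).factorization p) (hKA : K ≤ A)
    (hRK : R ≤ Subgroup.normalizer (K : Set G)) (hRp : IsPGroup p R) (hB : IsPGroup p B)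
    (hBRK : B ≤ R ⊔ K) :
    ∃ k ∈ K, B.map (MulAut.conj k).toMonoidHom ≤ R := by
  have hR' : Nat.card R = p ^ (Nat.card (R ⊔ K : Subgroup G)).factorization p :=
    card_eq_ppart_of_le le_sup_left (sup_le hRA hKA) hRp hR
  obtain ⟨m, hm, hmB⟩ :=
    exists_conj_le_of_card_eq_ppart (p := p) (le_sup_left : R ≤ R ⊔ K) hR' hBRK hB
  have hm' : m ∈ ((R ⊔ K : Subgroup G) : Set G) := hm
  rw [Subgroup.coe_mul_of_left_le_normalizer_right R K hRK] at hm'
  obtain ⟨r, hr, k, hk, rfl⟩ := Set.mem_mul.mp hm'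
  refine ⟨k, hk, ?_⟩
  rintro _ ⟨b, hb, rfl⟩
  have h1 : (MulAut.conj (r * k)).toMonoidHom b ∈ R := hmB ⟨b, hb, rfl⟩
  simp only [MulEquiv.coe_toMonoidHom, MulAut.conj_apply] at h1 ⊢
  have h2 : k * b * k⁻¹ = r⁻¹ * (r * k * b * (r * k)⁻¹) * r := by group
  rw [h2]
  exact R.mul_mem (R.mul_mem (R.inv_mem hr) h1) hr

variable {Ω : Type*} [Group Ω] {S : Subgroup Ω} {Ω' : Type*} [Group Ω'] {S' : Subgroup Ω'}

/-- Conjugation by an element of `N_S(P)` for a preimage `P` lifts conjugation by its image. -/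
theorem Fusion.liftsAut_conj (α : S →* Ω') (P' : Subgroup Ω') (h : S)
    (hN : (h : Ω) ∈ Subgroup.normalizer ((preimageAlong α P' : Subgroup Ω) : Set Ω))
    (hN' : α h ∈ Subgroup.normalizer (P' : Set Ω')) :
    Fusion.LiftsAut α P' (conjAutHom (preimageAlong α P') ⟨h, hN⟩) (conjAutHom P' ⟨α h, hN'⟩) := by
  intro y
  apply Subtype.ext
  rw [Fusion.toImage_coe]
  show α ⟨(h : Ω) * y * (h : Ω)⁻¹, _⟩ = α h * (Fusion.toImage α P' y : Ω') * (α h)⁻¹
  rw [Fusion.toImage_coe, ← map_inv, ← map_mul, ← map_mul]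
  rfl

/-- The image of a fully automized receptive preimage is receptive. -/
theorem Fusion.receptive_image [Finite S] (p : ℕ) [Fact p.Prime] (hS : IsPGroup p S)
    (F : FusionSystem S) (F' : FusionSystem S') (α : S →* Ω') (hα : F.IsSurjectiveMorphism F' α)
    {P' : Subgroup Ω'} (hP' : P' ≤ S')
    (h₁ : F.IsFullyAutomized p (preimageAlong α P')) (h₂ : F.IsReceptive (preimageAlong α P')) :
    F'.IsReceptive P' := by
  have hα' := hα
  obtain ⟨⟨hαS', hM⟩, hrange, hL⟩ := hα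
  refine ⟨hP', fun Q' φ' hφ' hr' => ?_⟩
  have hQ'S' : Q' ≤ S' := Fusion.src_le F' hφ'
  have hPS : preimageAlong α P' ≤ S := Fusion.preimageAlong_le α P'
  have hQS : preimageAlong α Q' ≤ S := Fusion.preimageAlong_le α Q'
  obtain ⟨φ, hφ, hind⟩ := hL Q' hQ'S' φ' hφ'
  have hr : φ.range = preimageAlong α P' := Fusion.range_lift F F' α hα' hφ' hr' hφ hind
  obtain ⟨hQS₂, hφS, hQQ', hind⟩ := hind
  have : Finite ↥(preimageAlong α P') := Fusion.finite_of_le hPS
  have : Finite (MulAut ↥(preimageAlong α P')) := inferInstance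
  have hfin' : Finite S' := Fusion.finite_of_range α hrange
  have : Finite Q' := Fusion.finite_of_le hQ'S'
  have : Finite P' := Fusion.finite_of_le hP'
  have : Finite ↥(preimageAlong α Q') := Fusion.finite_of_le hQS
  set e := Fusion.equivOfRange φ (F.injective_of_mem hφ) hr with he
  -- the kernel of the action on the image
  let K : Subgroup (MulAut ↥(preimageAlong α P')) :=
    { carrier := {χ | χ ∈ F.autGroup (preimageAlong α P') ∧ Fusion.LiftsAut α P' χ 1}
      mul_mem' := fun {a b} ha hb =>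
        ⟨Subgroup.mul_mem _ ha.1 hb.1, by simpa using Fusion.liftsAut_mul α P' ha.2 hb.2⟩
      one_mem' := ⟨Subgroup.one_mem _, Fusion.liftsAut_one α P'⟩
      inv_mem' := fun {a} ha =>
        ⟨Subgroup.inv_mem _ ha.1, by simpa using Fusion.liftsAut_inv α P' ha.2⟩ }
  have hle : autInducedBy S (preimageAlong α P') ≤ F.autGroup (preimageAlong α P') :=
    Fusion.autInducedBy_le_autGroup F hPS
  obtain ⟨R₀, hR₀⟩ := h₁.2
  have hcard : Nat.card (autInducedBy S (preimageAlong α P')) =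
      p ^ (Nat.card (F.autGroup (preimageAlong α P'))).factorization p := by
    rw [← R₀.card_eq_multiplicity, ← card_subgroupOf_of_le hle, ← hR₀]
  have hKA : K ≤ F.autGroup (preimageAlong α P') := fun χ h => h.1
  have hRK : autInducedBy S (preimageAlong α P') ≤ Subgroup.normalizer (K : Set _) := by
    intro r hr
    apply mem_normalizer_of_conj_mem_of_finite
    intro χ hχ
    refine ⟨Subgroup.mul_mem _ (Subgroup.mul_mem _ (hle hr) hχ.1) (Subgroup.inv_mem _ (hle hr)), ?_⟩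
    obtain ⟨s, hs, hsx⟩ := (mem_autInducedBy_iff _ _ r).mp hr
    have hrπ : ∀ y, (Fusion.toImage α P' (r y) : Ω') =
        α ⟨s, hs⟩ * (Fusion.toImage α P' y : Ω') * (α ⟨s, hs⟩)⁻¹ := by
      intro y
      rw [Fusion.toImage_coe, Fusion.toImage_coe, ← map_inv, ← map_mul, ← map_mul]
      congr 1
      exact Subtype.ext (hsx y)
    intro x
    apply Subtype.ext
    rw [MulAut.mul_apply, MulAut.mul_apply, hrπ, hχ.2 (r⁻¹ x), MulAut.one_apply, ← hrπ,
      MulAut.apply_inv_self, MulAut.one_apply]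
  -- the subgroup of the normalizer acting inside `R K`
  set Θ : ↥(Subgroup.normalizer ((preimageAlong α Q' : Subgroup Ω) : Set Ω)) →*
      MulAut ↥(preimageAlong α P') :=
    (MulAut.congr e).toMonoidHom.comp (conjAutHom (preimageAlong α Q')) with hΘ
  set N₀ : Subgroup ↥(Subgroup.normalizer ((preimageAlong α Q' : Subgroup Ω) : Set Ω)) :=
    (autInducedBy S (preimageAlong α P') ⊔ K).comap Θ ⊓
      S.subgroupOf (Subgroup.normalizer ((preimageAlong α Q' : Subgroup Ω) : Set Ω)) with hN₀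
  have hB : IsPGroup p (N₀.map Θ) :=
    ((hS.comap_subtype (K := Subgroup.normalizer
      ((preimageAlong α Q' : Subgroup Ω) : Set Ω))).to_le inf_le_right).map Θ
  have hBRK : N₀.map Θ ≤ autInducedBy S (preimageAlong α P') ⊔ K := by
    rintro _ ⟨n, hn, rfl⟩
    exact (Subgroup.mem_inf.mp hn).1
  obtain ⟨χ, hχK, hχ⟩ := exists_conj_le_of_le_sup (p := p) hle hcard hKA hRK
    (Fusion.isPGroup_autInducedBy p hS _) hB hBRK
  -- the twisted map
  have hφP : ∀ x : ↥(preimageAlong α Q'), φ x ∈ preimageAlong α P' := fun x => hr ▸ ⟨x, rfl⟩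
  have hχ' := (Fusion.mem_autGroup_iff F hPS χ).mp hχK.1
  have hψ := F.comp_mem hφ hχ' hφP
  set ψ : ↥(preimageAlong α Q') →* Ω :=
    ((preimageAlong α P').subtype.comp χ.toMonoidHom).comp
      (φ.codRestrict (preimageAlong α P') hφP) with hψdef
  have hψx : ∀ x : ↥(preimageAlong α Q'), ψ x = ((χ (e x) : ↥(preimageAlong α P')) : Ω) :=
    fun x => rfl
  have hψr : ψ.range = preimageAlong α P' := by
    ext y
    constructor
    · rintro ⟨x, rfl⟩
      rw [hψx]; exact (χ (e x)).2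
    · intro hy
      refine ⟨e.symm (χ.symm ⟨y, hy⟩), ?_⟩
      rw [hψx]
      simp
  obtain ⟨ψ₁, hψ₁, hext⟩ := h₂.2 _ ψ hψ hψr
  obtain ⟨ψ', hψ', hN₁S, hψ₁S, hN₁N', hind'⟩ := hM _ ψ₁ hψ₁
  -- the extender of `φ'` lies in the image of the extender of `ψ`
  have hN'le : extender S' Q' φ' ≤ imageAlong α (extender S (preimageAlong α Q') ψ) := by
    have hdef : extender S' Q' φ' = Subgroup.closure {g : Ω' | g ∈ S' ∧
      g ∈ Subgroup.normalizer (Q' : Set Ω') ∧ ∃ h ∈ S', ∀ (x : Q')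
      (hx : g * (x : Ω') * g⁻¹ ∈ Q'), φ' ⟨g * x * g⁻¹, hx⟩ = h * φ' x * h⁻¹} := rfl
    rw [hdef, Subgroup.closure_le]
    rintro g' ⟨hg'S', hg'N, h', hh'S', hh'⟩
    have hg'r : g' ∈ α.range := hrange ▸ hg'S'
    obtain ⟨g, rfl⟩ := hg'r
    have hh'r : h' ∈ α.range := hrange ▸ hh'S'
    obtain ⟨h, rfl⟩ := hh'r
    rw [SetLike.mem_coe, Fusion.mem_imageAlong]
    refine ⟨g.1, ?_, g.2, rfl⟩
    apply Subgroup.subset_closure
    have hgN : (g : Ω) ∈ Subgroup.normalizer ((preimageAlong α Q' : Subgroup Ω) : Set Ω) := by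
      have : (g : Ω) ∈ normalizerIn S (preimageAlong α Q') := by
        rw [Fusion.normalizerIn_preimageAlong α hαS' hrange hQ'S', Fusion.mem_preimageAlong]
        exact ⟨g.2, Subgroup.mem_inf.mpr ⟨hg'S', hg'N⟩⟩
      exact (Subgroup.mem_inf.mp this).2
    refine ⟨g.2, hgN, ?_⟩
    -- `α h` normalizes `P'`
    have hh'N : α h ∈ Subgroup.normalizer (P' : Set Ω') := by
      apply mem_normalizer_of_conj_mem_of_finite
      intro y hy
      rw [← hr'] at hy
      obtain ⟨x, rfl⟩ := hy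
      have hx : α g * (x : Ω') * (α g)⁻¹ ∈ Q' := (Subgroup.mem_normalizer_iff.mp hg'N _).mp x.2
      rw [← hh' x hx, ← hr']
      exact ⟨_, rfl⟩
    have hhN : (h : Ω) ∈ Subgroup.normalizer ((preimageAlong α P' : Subgroup Ω) : Set Ω) := by
      have : (h : Ω) ∈ normalizerIn S (preimageAlong α P') := by
        rw [Fusion.normalizerIn_preimageAlong α hαS' hrange hP', Fusion.mem_preimageAlong]
        exact ⟨h.2, Subgroup.mem_inf.mpr ⟨hh'S', hh'N⟩⟩
      exact (Subgroup.mem_inf.mp this).2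
    set n : ↥(Subgroup.normalizer ((preimageAlong α Q' : Subgroup Ω) : Set Ω)) := ⟨g, hgN⟩ with hn
    set β : MulAut ↥(preimageAlong α P') := Θ n with hβ
    set ρ : MulAut ↥(preimageAlong α P') := conjAutHom (preimageAlong α P') ⟨h, hhN⟩ with hρ
    set ρ' : MulAut P' := conjAutHom P' ⟨α h, hh'N⟩ with hρ'
    have hρR : ρ ∈ autInducedBy S (preimageAlong α P') :=
      Fusion.conjAutHom_mem_autInducedBy (preimageAlong α P') ⟨(h : Ω), hhN⟩ h.2
    have hβA : β ∈ F.autGroup (preimageAlong α P') := by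
      apply Fusion.congr_mem_autGroup F hφ hr
      exact Fusion.autInducedBy_le_autGroup F hQS (Fusion.conjAutHom_mem_autInducedBy _ n g.2)
    have hρlift : Fusion.LiftsAut α P' ρ ρ' := Fusion.liftsAut_conj α P' h hhN hh'N
    have hβlift : Fusion.LiftsAut α P' β ρ' := by
      intro y
      set x : ↥(preimageAlong α Q') := e.symm y with hx
      have hy : φ x = (y : Ω) := Fusion.map_equivOfRange_symm φ (F.injective_of_mem hφ) hr y
      set x₂ : ↥(preimageAlong α Q') := conjAutHom (preimageAlong α Q') n x with hx₂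
      have hβy : ((β y : ↥(preimageAlong α P')) : Ω) = φ x₂ := rfl
      apply Subtype.ext
      rw [Fusion.toImage_coe]
      have h1 : α ⟨((β y : ↥(preimageAlong α P')) : Ω), hPS (β y).2⟩ = α ⟨φ x₂, hφS x₂⟩ := by
        congr 1
      rw [h1, ← hind x₂]
      have hxc : α g * α ⟨x.1, hQS x.2⟩ * (α g)⁻¹ ∈ Q' :=
        (Subgroup.mem_normalizer_iff.mp hg'N _).mp (hQQ' x)
      have h2 : (⟨α ⟨x₂.1, hQS x₂.2⟩, hQQ' x₂⟩ : Q') =
          ⟨α g * α ⟨x.1, hQS x.2⟩ * (α g)⁻¹, hxc⟩ := by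
        apply Subtype.ext
        show α ⟨x₂.1, hQS x₂.2⟩ = α g * α ⟨x.1, hQS x.2⟩ * (α g)⁻¹
        rw [← map_inv, ← map_mul, ← map_mul]
        rfl
      rw [h2]
      have h3 := hh' ⟨α ⟨x.1, hQS x.2⟩, hQQ' x⟩ hxc
      rw [h3, hind x]
      show α h * α ⟨φ x, hφS x⟩ * (α h)⁻¹ = α h * (Fusion.toImage α P' y : Ω') * (α h)⁻¹
      rw [Fusion.toImage_coe]
      congr 3
      exact Subtype.ext hy
    have hκ : ρ⁻¹ * β ∈ K := by
      refine ⟨Subgroup.mul_mem _ (Subgroup.inv_mem _ (hle hρR)) hβA, ?_⟩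
      have := Fusion.liftsAut_mul α P' (Fusion.liftsAut_inv α P' hρlift) hβlift
      rwa [inv_mul_cancel] at this
    have hβRK : β ∈ autInducedBy S (preimageAlong α P') ⊔ K := by
      have : β = ρ * (ρ⁻¹ * β) := by group
      rw [this]
      exact Subgroup.mul_mem_sup hρR hκ
    have hβB : β ∈ N₀.map Θ := by
      refine ⟨n, Subgroup.mem_inf.mpr ⟨hβRK, ?_⟩, rfl⟩
      rw [Subgroup.mem_subgroupOf]
      exact g.2
    have h1 : (MulAut.conj χ) β ∈ autInducedBy S (preimageAlong α P') := hχ ⟨β, hβB, rfl⟩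
    rw [mem_autInducedBy_iff] at h1
    obtain ⟨h₀, hh₀S, hh₀⟩ := h1
    refine ⟨h₀, hh₀S, ?_⟩
    intro x hx
    have h2 := hh₀ (χ (e x))
    rw [hψx, hψx, ← h2]
    rw [MulAut.conj_apply]
    simp only [MulAut.mul_apply, MulAut.inv_apply_self]
    rw [hβ, hΘ]
    simp only [MonoidHom.comp_apply, MulEquiv.coe_toMonoidHom, MulAut.congr_apply,
      MulEquiv.trans_apply, MulEquiv.symm_apply_apply]
    rfl
  have hρ'mem := Fusion.restrict_mem F' hψ' hN'le
  refine ⟨ψ'.comp (Subgroup.inclusion hN'le), hρ'mem, ?_⟩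
  intro y hyQ' hyN'
  have hyr : y ∈ α.range := hrange ▸ hQ'S' hyQ'
  obtain ⟨s, rfl⟩ := hyr
  have hsQ : (s : Ω) ∈ preimageAlong α Q' :=
    (Fusion.mem_preimageAlong α Q' s.1).mpr ⟨s.2, hyQ'⟩
  have hsN₁ : (s : Ω) ∈ extender S (preimageAlong α Q') ψ :=
    Fusion.le_extender _ hQS ψ (fun x => Fusion.map_mem F hψ x) hsQ
  have h1 := hind' ⟨s.1, hsN₁⟩
  have h2 := hext s.1 hsQ hsN₁
  have h3 := hind ⟨s.1, hsQ⟩
  have h4 : (ψ'.comp (Subgroup.inclusion hN'le)) ⟨α s, hyN'⟩ =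
      ψ' ⟨α ⟨s.1, hN₁S hsN₁⟩, hN₁N' ⟨s.1, hsN₁⟩⟩ := rfl
  have h5 : φ' ⟨α s, hyQ'⟩ = φ' ⟨α ⟨s.1, hQS hsQ⟩, hQQ' ⟨s.1, hsQ⟩⟩ := rfl
  rw [h4, h5, h1, h3]
  have h6 := congrArg (fun z : P' => (z : Ω')) (hχK.2 (e ⟨s.1, hsQ⟩))
  simp only [MulAut.one_apply, Fusion.toImage_coe] at h6
  have h7 : α ⟨ψ₁ ⟨s.1, hsN₁⟩, hψ₁S ⟨s.1, hsN₁⟩⟩ =
      α ⟨((χ (e ⟨s.1, hsQ⟩) : ↥(preimageAlong α P')) : Ω), hPS (χ (e ⟨s.1, hsQ⟩)).2⟩ := by
    congr 1
    apply Subtype.ext
    show ψ₁ ⟨s.1, hsN₁⟩ = _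
    rw [h2, hψx]
  rw [h7, h6]
  congr 1

/-- The image of a saturated fusion system under a surjective morphism is saturated. -/
theorem Fusion.isSaturated_image [Finite S] (p : ℕ) [Fact p.Prime] (hS : IsPGroup p S)
    (F : FusionSystem S) (hF : F.IsSaturated p) (F' : FusionSystem S') (α : S →* Ω')
    (hα : F.IsSurjectiveMorphism F' α) : F'.IsSaturated p := by
  have hfin' : Finite S' := Fusion.finite_of_range α hα.2.1
  have hS' : IsPGroup p S' := by
    have hr := hα.2.1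
    subst hr
    exact hS.of_surjective α.rangeRestrict α.rangeRestrict_surjective
  rw [Fusion.isSaturated_iff' p hS' F']
  refine ⟨Fusion.top_fullyAutomized_image p hS F hF F' α hα, fun P' hP' => ?_⟩
  have hP := Fusion.fullyNormalized_preimage F F' α hα hP'
  have h12 := Fusion.fullyCentralized_fullyAutomized_of_fullyNormalized p hS F hF hP
  exact Fusion.receptive_image p hS F F' α hα hP'.1 h12.2
    (Fusion.receptive_of_fullyCentralized p hS F hF h12.1)

end Cfsg.Agent.Lead
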