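import Mathlib
import Cfsg.Prelude.Def_FusionSystem
import Cfsg.Agent.Lead.Fusion
import Cfsg.Agent.Lead.SylowLemmas

set_option autoImplicit false

namespace Cfsg.Agent.Lead

open Cfsg Cfsg.FusionSystem

variable {G : Type*} [Group G]

theorem range_conjHom (P : Subgroup G) (g : G) :
    (conjHom P g).range = P.map (MulAut.conj g).toMonoidHom := by
  ext y
  constructor
  · rintro ⟨x, rfl⟩
    exact ⟨x.1, x.2, rfl⟩
  · rintro ⟨x, hx, rfl⟩
    exact ⟨⟨x, hx⟩, rfl⟩

/-- Conjugacy in the fusion system of a group. -/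
theorem groupFusionSystem_isConj_iff (S P Q : Subgroup G) :
    (groupFusionSystem S).IsConj P Q ↔ P ≤ S ∧ Q ≤ S ∧ ∃ g : G, P.map (MulAut.conj g).toMonoidHom = Q := by
  constructor
  · rintro ⟨φ, ⟨hPS, hφS, g, hg⟩, rfl⟩
    refine ⟨hPS, ?_, g, ?_⟩
    · rintro _ ⟨x, rfl⟩
      exact hφS x
    · have : φ = conjHom P g := by
        ext x
        exact hg x
      rw [this, range_conjHom]
  · rintro ⟨hPS, hQS, g, rfl⟩
    refine ⟨conjHom P g, ⟨hPS, ?_, g, fun x => rfl⟩, range_conjHom P g⟩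
    intro x
    exact hQS ⟨x.1, x.2, rfl⟩

end Cfsg.Agent.Lead
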