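import Mathlib

set_option autoImplicit false

namespace Cfsg.Agent.Lead

theorem mem_map_conj_iff {G : Type*} [Group G] (A : Subgroup G) (g z : G) :
    z ∈ A.map (MulAut.conj g).toMonoidHom ↔ g⁻¹ * z * g ∈ A := by
  constructor
  · rintro ⟨y, hy, rfl⟩
    have : g⁻¹ * ((MulAut.conj g).toMonoidHom y) * g = y := by
      simp [mul_assoc]
    rw [this]; exact hy
  · intro h
    refine ⟨g⁻¹ * z * g, h, ?_⟩
    simp [mul_assoc]

theorem map_conj_eq_iff_mem_normalizer {G : Type*} [Group G] (A : Subgroup G) (h : G) :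
    A.map (MulAut.conj h).toMonoidHom = A ↔ h ∈ Subgroup.normalizer (A : Set G) := by
  rw [Subgroup.mem_normalizer_iff]
  constructor
  · intro hh y
    constructor
    · intro hy
      rw [← hh]
      exact ⟨y, hy, rfl⟩
    · intro hy
      rw [← hh, mem_map_conj_iff] at hy
      have : h⁻¹ * (h * y * h⁻¹) * h = y := by group
      rwa [this] at hy
  · intro hh
    ext z
    rw [mem_map_conj_iff]
    rw [hh (h⁻¹ * z * h)]
    have : h * (h⁻¹ * z * h) * h⁻¹ = z := by group
    rw [this]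

/-- Variant of `map_conj_eq_iff_mem_normalizer` with the normalizer of a coerced subgroup. -/
theorem map_conj_eq_iff_mem_normalizer' {G : Type*} [Group G] (A : Subgroup G) (h : G) :
    A.map (MulAut.conj h).toMonoidHom = A ↔ h ∈ Subgroup.normalizer (A : Set G) :=
  map_conj_eq_iff_mem_normalizer A h

/-- In a TI subgroup, an element conjugating a nontrivial element of `A` into `A` normalizes `A`. -/
theorem mem_normalizer_of_TI {G : Type*} [Group G] (A : Subgroup G)
    (hti : ∀ h : G, A.map (MulAut.conj h).toMonoidHom = A ∨ A.map (MulAut.conj h).toMonoidHom ⊓ A = ⊥)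
    (x : G) (hx : x ∈ A) (hx1 : x ≠ 1) (h : G) (hh : h * x * h⁻¹ ∈ A) :
    h ∈ Subgroup.normalizer (A : Set G) := by
  rw [← map_conj_eq_iff_mem_normalizer]
  rcases hti h with h1 | h1
  · exact h1
  · exfalso
    have : h * x * h⁻¹ ∈ A.map (MulAut.conj h).toMonoidHom ⊓ A := ⟨⟨x, hx, rfl⟩, hh⟩
    rw [h1, Subgroup.mem_bot] at this
    apply hx1
    have h2 : x = h⁻¹ * (h * x * h⁻¹) * h := by group
    rw [h2, this]; group

/-- Normalizer of a conjugate. -/
theorem mem_normalizer_map_conj_iff {G : Type*} [Group G] (A : Subgroup G) (g h : G) :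
    h ∈ Subgroup.normalizer ((A.map (MulAut.conj g).toMonoidHom : Subgroup G) : Set G) ↔
      g⁻¹ * h * g ∈ Subgroup.normalizer (A : Set G) := by
  rw [Subgroup.mem_normalizer_iff, Subgroup.mem_normalizer_iff]
  constructor
  · intro hh y
    have := hh (g * y * g⁻¹)
    rw [mem_map_conj_iff, mem_map_conj_iff] at this
    have e1 : g⁻¹ * (g * y * g⁻¹) * g = y := by group
    have e2 : g⁻¹ * (h * (g * y * g⁻¹) * h⁻¹) * g = g⁻¹ * h * g * y * (g⁻¹ * h * g)⁻¹ := by group
    rw [e1, e2] at this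
    exact this
  · intro hh z
    rw [mem_map_conj_iff, mem_map_conj_iff]
    have := hh (g⁻¹ * z * g)
    have e2 : g⁻¹ * h * g * (g⁻¹ * z * g) * (g⁻¹ * h * g)⁻¹ = g⁻¹ * (h * z * h⁻¹) * g := by group
    rw [e2] at this
    exact this

/-- A conjugate of a TI subgroup is TI, in the "centralizer" form. -/
theorem mem_normalizer_of_TI_conj {G : Type*} [Group G] (A : Subgroup G)
    (hti : ∀ h : G, A.map (MulAut.conj h).toMonoidHom = A ∨ A.map (MulAut.conj h).toMonoidHom ⊓ A = ⊥)
    (g : G) (y : G) (hy : y ∈ A.map (MulAut.conj g).toMonoidHom) (hy1 : y ≠ 1) (h : G)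
    (hh : h * y * h⁻¹ ∈ A.map (MulAut.conj g).toMonoidHom) :
    h ∈ Subgroup.normalizer ((A.map (MulAut.conj g).toMonoidHom : Subgroup G) : Set G) := by
  rw [mem_normalizer_map_conj_iff]
  rw [mem_map_conj_iff] at hy hh
  apply mem_normalizer_of_TI A hti (g⁻¹ * y * g) hy
  · intro h1
    apply hy1
    have : y = g * (g⁻¹ * y * g) * g⁻¹ := by group
    rw [this, h1]; group
  · have : g⁻¹ * h * g * (g⁻¹ * y * g) * (g⁻¹ * h * g)⁻¹ = g⁻¹ * (h * y * h⁻¹) * g := by group
    rw [this]; exact hh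

end Cfsg.Agent.Lead
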