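import Mathlib
import Cfsg.Prelude.Def_FusionComponents
import Cfsg.Agent.Lead.FusionMorph3
import Cfsg.Agent.S5076

set_option autoImplicit false

namespace Cfsg.Agent.Lead

open Cfsg Cfsg.FusionSystem

variable {Ω : Type*} [Group Ω] {S : Subgroup Ω}

/-- The inverse of an injective homomorphism on a subgroup equal to its range. -/
noncomputable def Fusion.invOfRange {G : Type*} [Group G] (ι : S →* G) (hinj : Function.Injective ι)
    {T : Subgroup G} (hT : T = ι.range) : T ≃* S :=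
  (MulEquiv.subgroupCongr hT).trans (MonoidHom.ofInjective hinj).symm

theorem Fusion.map_invOfRange {G : Type*} [Group G] (ι : S →* G) (hinj : Function.Injective ι)
    {T : Subgroup G} (hT : T = ι.range) (t : T) :
    ι (Fusion.invOfRange ι hinj hT t) = t := by
  unfold Fusion.invOfRange
  have h := (MonoidHom.ofInjective hinj).apply_symm_apply (MulEquiv.subgroupCongr hT t)
  have h2 := congrArg (fun z : ι.range => (z : G)) h
  simpa using h2

theorem Fusion.invOfRange_map {G : Type*} [Group G] (ι : S →* G) (hinj : Function.Injective ι)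
    {T : Subgroup G} (hT : T = ι.range) (s : S) (h : ι s ∈ T) :
    Fusion.invOfRange ι hinj hT ⟨ι s, h⟩ = s := by
  apply hinj
  rw [Fusion.map_invOfRange]

/-- A fusion system realized by a finite group on a Sylow subgroup is saturated. -/
theorem Fusion.isSaturated_of_isRealizedBy (p : ℕ) [Fact p.Prime] (F : FusionSystem S)
    {G : Type*} [Group G] [Finite G] (ι : S →* G) (hι : F.IsRealizedBy ι) (T : Sylow p G)
    (hT : (T : Subgroup G) = ι.range) : F.IsSaturated p := by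
  obtain ⟨hinj, hreal⟩ := hι
  set β := Fusion.invOfRange ι hinj hT with hβ
  have hιβ : ∀ t : (T : Subgroup G), ι (β t) = t := Fusion.map_invOfRange ι hinj hT
  have hβι : ∀ (s : S) (h : ι s ∈ (T : Subgroup G)), β ⟨ι s, h⟩ = s :=
    Fusion.invOfRange_map ι hinj hT
  have hιT : ∀ s : S, ι s ∈ (T : Subgroup G) := fun s => hT ▸ ⟨s, rfl⟩
  set α : ↥(T : Subgroup G) →* Ω := S.subtype.comp β.toMonoidHom with hα
  have hαS : ∀ t, α t ∈ S := fun t => (β t).2
  have hαβ : ∀ t, (⟨α t, hαS t⟩ : S) = β t := fun t => rfl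
  have hSfin : Finite (T : Subgroup G) := inferInstance
  apply Fusion.isSaturated_image p T.isPGroup' (groupFusionSystem (T : Subgroup G))
    (Cfsg.Agent.S5076.result p T) F α
  refine ⟨⟨hαS, ?_⟩, ?_, ?_⟩
  · -- morphism
    rintro P φ ⟨hPT, hφT, g, hg⟩
    have himgS : imageAlong α P ≤ S := by
      intro y hy
      obtain ⟨x, -, hxT, rfl⟩ := (Fusion.mem_imageAlong α P y).mp hy
      exact hαS _
    have hιP : ∀ y : ↥(imageAlong α P), ι ⟨y.1, himgS y.2⟩ ∈ P := by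
      intro y
      obtain ⟨x, hx, hxT, hxy⟩ := (Fusion.mem_imageAlong α P y.1).mp y.2
      have : (⟨y.1, himgS y.2⟩ : S) = β ⟨x, hxT⟩ := Subtype.ext hxy.symm
      rw [this, hιβ]
      exact hx
    set φ' : ↥(imageAlong α P) →* Ω :=
      α.comp ((φ.codRestrict (T : Subgroup G) hφT).comp
        ((ι.comp (Subgroup.inclusion himgS)).codRestrict P hιP)) with hφ'
    have hφ'x : ∀ y : ↥(imageAlong α P),
        φ' y = α ⟨φ ⟨ι ⟨y.1, himgS y.2⟩, hιP y⟩, hφT _⟩ := fun y => rfl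
    have hφ'S : ∀ y, φ' y ∈ S := fun y => hαS _
    refine ⟨φ', (hreal _ himgS φ' hφ'S).mpr ⟨g, fun y => ?_⟩, hPT, hφT, ?_, ?_⟩
    · have : (⟨φ' y, hφ'S y⟩ : S) = β ⟨φ ⟨ι ⟨y.1, himgS y.2⟩, hιP y⟩, hφT _⟩ := rfl
      rw [this, hιβ]
      exact hg _
    · intro x
      exact (Fusion.mem_imageAlong α P _).mpr ⟨x.1, x.2, hPT x.2, rfl⟩
    · intro x
      rw [hφ'x]
      have hx' : α ⟨x.1, hPT x.2⟩ ∈ imageAlong α P :=
        (Fusion.mem_imageAlong α P _).mpr ⟨x.1, x.2, hPT x.2, rfl⟩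
      have h1 : (⟨ι ⟨α ⟨x.1, hPT x.2⟩, himgS hx'⟩, hιP ⟨_, hx'⟩⟩ : P) = x := by
        apply Subtype.ext
        show ι ⟨α ⟨x.1, hPT x.2⟩, _⟩ = x.1
        rw [hαβ, hιβ]
      have h2 : (⟨φ ⟨ι ⟨α ⟨x.1, hPT x.2⟩, himgS hx'⟩, hιP ⟨_, hx'⟩⟩, hφT _⟩ : (T : Subgroup G)) =
          ⟨φ x, hφT x⟩ := by
        apply Subtype.ext
        show φ _ = φ x
        rw [h1]
      exact congrArg α h2
  · -- range
    ext s
    constructor
    · rintro ⟨t, rfl⟩; exact hαS t
    · intro hs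
      refine ⟨⟨ι ⟨s, hs⟩, hιT _⟩, ?_⟩
      show ((β ⟨ι ⟨s, hs⟩, hιT _⟩ : S) : Ω) = s
      rw [hβι]
  · -- lifting
    intro P' hP' φ' hφ'
    have hφ'S : ∀ x : P', φ' x ∈ S := fun x => Fusion.map_mem F hφ' x
    obtain ⟨g, hg⟩ := (hreal P' hP' φ' hφ'S).mp hφ'
    have hpreT : preimageAlong α P' ≤ (T : Subgroup G) := Fusion.preimageAlong_le α P'
    have hpreP' : ∀ x : ↥(preimageAlong α P'), α ⟨x.1, hpreT x.2⟩ ∈ P' := fun x =>
      ((Fusion.mem_preimageAlong α P' x.1).mp x.2).2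
    have hx_eq : ∀ x : ↥(preimageAlong α P'),
        ι ⟨α ⟨x.1, hpreT x.2⟩, hαS _⟩ = x.1 := by
      intro x
      rw [hαβ, hιβ]
    have hconj : ∀ x : ↥(preimageAlong α P'),
        g * (x : G) * g⁻¹ = ι ⟨φ' ⟨α ⟨x.1, hpreT x.2⟩, hpreP' x⟩, hφ'S _⟩ := by
      intro x
      rw [hg]
      congr 2
      exact (hx_eq x).symm
    have hconjT : ∀ x : ↥(preimageAlong α P'), conjHom (preimageAlong α P') g x ∈ (T : Subgroup G) := by
      intro x
      show g * (x : G) * g⁻¹ ∈ (T : Subgroup G)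
      rw [hconj]
      exact hιT _
    refine ⟨conjHom (preimageAlong α P') g, ⟨hpreT, hconjT, g, fun x => rfl⟩, hpreT, hconjT,
      hpreP', fun x => ?_⟩
    have h1 : (⟨α ⟨conjHom (preimageAlong α P') g x, hconjT x⟩, hαS _⟩ : S) =
        ⟨φ' ⟨α ⟨x.1, hpreT x.2⟩, hpreP' x⟩, hφ'S _⟩ := by
      apply hinj
      rw [hαβ, hιβ, ← hconj]
      rfl
    exact (congrArg Subtype.val h1).symm

end Cfsg.Agent.Lead
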