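import Mathlib
import Cfsg.Prelude.Def_FusionComponents
import Cfsg.Agent.Lead.FusionRealized
import Cfsg.Agent.Lead.SylowLemmas
import Cfsg.Agent.Lead.FusionMorph3
import Cfsg.Agent.Lead.FusionSat3

set_option autoImplicit false

namespace Cfsg.Agent.Lead

open Cfsg Cfsg.FusionSystem

/-- The fusion system of a finite subgroup `H` on a "Sylow" subgroup `T` is saturated. -/
theorem Fusion.fusionSystemOfSubgroup_isSaturated {Ω : Type*} [Group Ω] (p : ℕ) [Fact p.Prime]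
    (H T : Subgroup Ω) [Finite H] (hTH : T ≤ H)
    (hcard : Nat.card T = p ^ (Nat.card H).factorization p) :
    (fusionSystemOfSubgroup H T hTH).IsSaturated p := by
  have hcard' : Nat.card (T.subgroupOf H) = p ^ (Nat.card H).factorization p := by
    rw [card_subgroupOf_of_le hTH]; exact hcard
  apply Fusion.isSaturated_of_isRealizedBy p _ (Subgroup.inclusion hTH) ?_
    (Sylow.ofCard (T.subgroupOf H) hcard')
  · show T.subgroupOf H = (Subgroup.inclusion hTH).range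
    rw [Subgroup.inclusion_range]
  · refine ⟨Subgroup.inclusion_injective hTH, fun P hP φ hφ => ?_⟩
    constructor
    · rintro ⟨-, -, g, hg, h⟩
      exact ⟨⟨g, hg⟩, fun x => Subtype.ext (h x)⟩
    · rintro ⟨g, h⟩
      exact ⟨hP, hφ, g.1, g.2, fun x => congrArg Subtype.val (h x)⟩

section NormalSub

variable {G : Type*} [Group G] [Finite G] (p : ℕ) [Fact p.Prime] (S : Sylow p G) (H : Subgroup G)
  [hHn : H.Normal]

include hHn in
theorem Fusion.card_sylow_inf_normal :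
    Nat.card ↥((S : Subgroup G) ⊓ H) = p ^ (Nat.card H).factorization p := by
  apply card_inf_eq_ppart_of_normal (N := ⊤) le_top le_top ?_ S.isPGroup'
  · rw [Subgroup.card_top]; exact S.card_eq_multiplicity
  · intro g _
    rw [Subgroup.mem_normalizer_iff]
    intro x
    exact ⟨fun hx => hHn.conj_mem x hx g, fun hx => by
      have := hHn.conj_mem _ hx g⁻¹
      simpa [mul_assoc] using this⟩

include hHn in
/-- Frattini's argument. -/
theorem Fusion.frattini_decomp (g : G) :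
    ∃ n ∈ Subgroup.normalizer (((S : Subgroup G) ⊓ H : Subgroup G) : Set G), ∃ h ∈ H, g = n * h := by
  have hcard' : Nat.card (((S : Subgroup G) ⊓ H).subgroupOf H) =
      p ^ (Nat.card H).factorization p := by
    rw [card_subgroupOf_of_le inf_le_right]; exact Fusion.card_sylow_inf_normal p S H
  have h1 := Sylow.normalizer_sup_eq_top (Sylow.ofCard (((S : Subgroup G) ⊓ H).subgroupOf H) hcard')
  have h2 : ((Sylow.ofCard (((S : Subgroup G) ⊓ H).subgroupOf H) hcard' : Sylow p H) :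
      Subgroup H).map H.subtype = (S : Subgroup G) ⊓ H := by
    show (((S : Subgroup G) ⊓ H).subgroupOf H).map H.subtype = _
    rw [Subgroup.subgroupOf_map_subtype, inf_assoc, inf_idem]
  rw [h2] at h1
  have h3 : g ∈ Subgroup.normalizer (((S : Subgroup G) ⊓ H : Subgroup G) : Set G) ⊔ H := by
    rw [h1]; exact Subgroup.mem_top g
  obtain ⟨n, hn, h, hh, rfl⟩ := Subgroup.mem_sup_of_normal_right.mp h3
  exact ⟨n, hn, h, hh, rfl⟩

include hHn in
theorem Fusion.normalSub_isSubsystemOf :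
    (fusionSystemOfSubgroup H ((S : Subgroup G) ⊓ H) inf_le_right).IsSubsystemOf
      (groupFusionSystem (S : Subgroup G)) := by
  rintro P φ ⟨hP, hφ, g, -, hg⟩
  exact ⟨hP.trans inf_le_left, fun x => (Subgroup.mem_inf.mp (hφ x)).1, g, hg⟩

include hHn in
theorem Fusion.normalSub_stronglyClosed :
    (groupFusionSystem (S : Subgroup G)).StronglyClosed ((S : Subgroup G) ⊓ H) := by
  refine ⟨inf_le_left, ?_⟩
  rintro R hR φ ⟨-, hφS, g, hg⟩ x
  refine Subgroup.mem_inf.mpr ⟨hφS x, ?_⟩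
  rw [hg]
  exact hHn.conj_mem _ (Subgroup.mem_inf.mp (hR x.2)).2 g

include hHn in
theorem Fusion.normalSub_isInvariantIn :
    (fusionSystemOfSubgroup H ((S : Subgroup G) ⊓ H) inf_le_right).IsInvariantIn
      (groupFusionSystem (S : Subgroup G)) := by
  refine ⟨Fusion.normalSub_isSubsystemOf p S H, Fusion.normalSub_stronglyClosed p S H, ?_, ?_⟩
  · -- invariance
    rintro P hPT φ ⟨-, hφT, h, hhH, hh⟩ α hα
    have hα' := (Fusion.mem_autGroup_iff (groupFusionSystem (S : Subgroup G))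
      (inf_le_left : (S : Subgroup G) ⊓ H ≤ S) α).mp hα
    obtain ⟨-, -, g, hg⟩ := hα'
    have hg' : ∀ t : ↥((S : Subgroup G) ⊓ H), ((α t : ↥((S : Subgroup G) ⊓ H)) : G) =
        g * (t : G) * g⁻¹ := hg
    have hkey : ∀ (x : P),
        (g * h * g⁻¹) * ((α ⟨x, hPT x.2⟩ : ↥((S : Subgroup G) ⊓ H)) : G) * (g * h * g⁻¹)⁻¹ =
          ((α ⟨φ x, hφT x⟩ : ↥((S : Subgroup G) ⊓ H)) : G) := by
      intro x
      rw [hg', hg']
      show g * h * g⁻¹ * (g * (x : G) * g⁻¹) * (g * h * g⁻¹)⁻¹ = g * φ x * g⁻¹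
      rw [hh]
      group
    refine ⟨conjHom _ (g * h * g⁻¹), ⟨?_, ?_, g * h * g⁻¹, ?_, fun y => rfl⟩, ?_⟩
    · rintro _ ⟨x, -, rfl⟩
      exact (α x).2
    · rintro ⟨_, x, hx, rfl⟩
      rw [SetLike.mem_coe, Subgroup.mem_subgroupOf] at hx
      show (g * h * g⁻¹) * ((α x : ↥((S : Subgroup G) ⊓ H)) : G) * (g * h * g⁻¹)⁻¹ ∈ _
      have := hkey ⟨x.1, hx⟩
      rw [this]
      exact (α _).2
    · exact hHn.conj_mem h hhH g
    · intro x hφx hαx
      exact hkey x
  · -- Frattini condition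
    rintro P hPT φ ⟨-, hφS, g, hg⟩
    obtain ⟨n, hn, h, hhH, rfl⟩ := Fusion.frattini_decomp p S H g
    have hSC := Fusion.normalSub_stronglyClosed p S H
    have hφmem : φ ∈ (groupFusionSystem (S : Subgroup G)).Hom P :=
      ⟨hPT.trans inf_le_left, hφS, n * h, hg⟩
    have hφT : ∀ x : P, φ x ∈ (S : Subgroup G) ⊓ H := fun x => hSC.2 P hPT φ hφmem x
    have hhT : ∀ x : P, h * (x : G) * h⁻¹ ∈ (S : Subgroup G) ⊓ H := by
      intro x
      have h1 := hφT x
      rw [hg] at h1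
      have h2 : n⁻¹ ∈ Subgroup.normalizer (((S : Subgroup G) ⊓ H : Subgroup G) : Set G) :=
        Subgroup.inv_mem _ hn
      have h3 := (Subgroup.mem_normalizer_iff.mp h2 _).mp h1
      have h4 : n⁻¹ * (n * h * (x : G) * (n * h)⁻¹) * n⁻¹⁻¹ = h * (x : G) * h⁻¹ := by group
      rwa [h4] at h3
    set α : MulAut ↥((S : Subgroup G) ⊓ H) := conjAutHom ((S : Subgroup G) ⊓ H) ⟨n, hn⟩ with hα
    have hαA : α ∈ (groupFusionSystem (S : Subgroup G)).autGroup ((S : Subgroup G) ⊓ H) := by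
      rw [Fusion.mem_autGroup_iff _ (inf_le_left : (S : Subgroup G) ⊓ H ≤ S)]
      exact ⟨inf_le_left, fun x => (Subgroup.mem_inf.mp (α x).2).1, n, fun x => rfl⟩
    refine ⟨α, hαA, conjHom P h, ⟨hPT, hhT, h, hhH, fun x => rfl⟩, ?_⟩
    intro x hx
    rw [hg]
    show n * h * (x : G) * (n * h)⁻¹ = n * (h * (x : G) * h⁻¹) * n⁻¹
    group

include hHn in
theorem Fusion.normalSub_extension (T : Subgroup G) (hTeq : T = (S : Subgroup G) ⊓ H) (hTH : T ≤ H)
    (α : MulAut T) (hα : α ∈ (fusionSystemOfSubgroup H T hTH).autGroup T) :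
    ∃ β ∈ (groupFusionSystem (S : Subgroup G)).autGroup (T ⊔ centralizerIn (S : Subgroup G) T),
      (∀ x : T, ((β (Subgroup.inclusion le_sup_left x) :
        ↥(T ⊔ centralizerIn (S : Subgroup G) T)) : G) = ((α x : T) : G)) ∧
      ∀ c : ↥(T ⊔ centralizerIn (S : Subgroup G) T),
        (c : G) ∈ centralizerIn (S : Subgroup G) T →
        (c : G)⁻¹ * ((β c : ↥(T ⊔ centralizerIn (S : Subgroup G) T)) : G) ∈
          T ⊓ Subgroup.centralizer (T : Set G) := by
  unfold centralizerIn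
  have hα' := (Fusion.mem_autGroup_iff (fusionSystemOfSubgroup H T hTH) le_rfl α).mp hα
  obtain ⟨-, -, h, hhH, hh⟩ := hα'
  have hh' : ∀ t : T, ((α t : T) : G) = h * (t : G) * h⁻¹ := hh
  have hTS : T ≤ (S : Subgroup G) := hTeq ▸ inf_le_left
  have hmemT : ∀ x : G, x ∈ T ↔ x ∈ (S : Subgroup G) ∧ x ∈ H := by
    intro x; rw [hTeq]; exact Subgroup.mem_inf
  set CG : Subgroup G := Subgroup.centralizer (T : Set G) with hCG
  set NG : Subgroup G := Subgroup.normalizer (T : Set G) with hNG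
  have hhN : h ∈ NG := by
    apply mem_normalizer_of_conj_mem_of_finite
    intro t ht
    rw [← hh' ⟨t, ht⟩]
    exact (α _).2
  have hSNG : (S : Subgroup G) ≤ NG := by
    intro s hs
    apply mem_normalizer_of_conj_mem_of_finite
    intro t ht
    obtain ⟨htS, htH⟩ := (hmemT t).mp ht
    exact (hmemT _).mpr ⟨Subgroup.mul_mem _ (Subgroup.mul_mem _ hs htS) (Subgroup.inv_mem _ hs),
      hHn.conj_mem t htH s⟩
  have hcardS : Nat.card (S : Subgroup G) = p ^ (Nat.card NG).factorization p := by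
    apply card_eq_ppart_of_le hSNG (le_top : NG ≤ ⊤) S.isPGroup'
    rw [Subgroup.card_top]; exact S.card_eq_multiplicity
  have hCGNG : CG ≤ NG := Subgroup.centralizer_le_normalizer _
  have hconjCG : ∀ n ∈ NG, ∀ c ∈ CG, n * c * n⁻¹ ∈ CG := by
    intro n hn c hc
    rw [hCG, Subgroup.mem_centralizer_iff]
    intro t ht
    have hn' : n⁻¹ ∈ NG := Subgroup.inv_mem _ hn
    have ht' : n⁻¹ * t * n⁻¹⁻¹ ∈ T := (Subgroup.mem_normalizer_iff.mp hn' t).mp ht
    have hc' := (Subgroup.mem_centralizer_iff.mp hc) _ ht'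
    calc t * (n * c * n⁻¹) = n * ((n⁻¹ * t * n⁻¹⁻¹) * c) * n⁻¹ := by group
      _ = n * (c * (n⁻¹ * t * n⁻¹⁻¹)) * n⁻¹ := by rw [hc']
      _ = n * c * n⁻¹ * t := by group
  have hNGCG : NG ≤ Subgroup.normalizer (CG : Set G) := by
    intro n hn
    apply mem_normalizer_of_conj_mem_of_finite
    exact hconjCG n hn
  have hcardCS : Nat.card ↥((S : Subgroup G) ⊓ CG) = p ^ (Nat.card CG).factorization p :=
    card_inf_eq_ppart_of_normal hSNG hCGNG hNGCG S.isPGroup' hcardS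
  set CS : Subgroup G := (S : Subgroup G) ⊓ CG with hCS
  set CH : Subgroup G := H ⊓ CG with hCH
  have hCSp : IsPGroup p CS := S.isPGroup'.to_le inf_le_left
  have hRK : CS ≤ Subgroup.normalizer (CH : Set G) := by
    intro c hc
    apply mem_normalizer_of_conj_mem_of_finite
    intro a ha
    obtain ⟨haH, haC⟩ := Subgroup.mem_inf.mp ha
    obtain ⟨hcS, hcC⟩ := Subgroup.mem_inf.mp hc
    exact Subgroup.mem_inf.mpr ⟨hHn.conj_mem a haH c,
      Subgroup.mul_mem _ (Subgroup.mul_mem _ hcC haC) (Subgroup.inv_mem _ hcC)⟩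
  have hB : IsPGroup p (CS.map (MulAut.conj h).toMonoidHom) := hCSp.map _
  have hBRK : CS.map (MulAut.conj h).toMonoidHom ≤ CS ⊔ CH := by
    rintro _ ⟨c, hc, rfl⟩
    obtain ⟨hcS, hcC⟩ := Subgroup.mem_inf.mp hc
    simp only [MulEquiv.coe_toMonoidHom, MulAut.conj_apply]
    have h1 : h * c * h⁻¹ * c⁻¹ ∈ CH := by
      refine Subgroup.mem_inf.mpr ⟨?_, ?_⟩
      · have : h * c * h⁻¹ * c⁻¹ = h * (c * h⁻¹ * c⁻¹) := by group
        rw [this]
        exact H.mul_mem hhH (hHn.conj_mem _ (H.inv_mem hhH) c)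
      · exact Subgroup.mul_mem _ (hconjCG h hhN c hcC) (Subgroup.inv_mem _ hcC)
    have h2 : h * c * h⁻¹ = (h * c * h⁻¹ * c⁻¹) * c := by group
    rw [h2]
    exact Subgroup.mul_mem _ ((le_sup_right : CH ≤ CS ⊔ CH) h1) ((le_sup_left : CS ≤ CS ⊔ CH) hc)
  obtain ⟨k, hkCH, hk⟩ := exists_conj_le_of_le_sup (p := p) (inf_le_right : CS ≤ CG) hcardCS
    (inf_le_right : CH ≤ CG) hRK hCSp hB hBRK
  obtain ⟨hkH, hkC⟩ := Subgroup.mem_inf.mp hkCH
  have hnCS : ∀ c ∈ CS, (k * h) * c * (k * h)⁻¹ ∈ CS := by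
    intro c hc
    have : (k * h) * c * (k * h)⁻¹ = k * (h * c * h⁻¹) * k⁻¹ := by group
    rw [this]
    exact hk ⟨h * c * h⁻¹, ⟨c, hc, rfl⟩, rfl⟩
  have hnT : ∀ t ∈ T, (k * h) * t * (k * h)⁻¹ = h * t * h⁻¹ := by
    intro t ht
    have h1 : h * t * h⁻¹ ∈ T := (Subgroup.mem_normalizer_iff.mp hhN t).mp ht
    have h2 := (Subgroup.mem_centralizer_iff.mp hkC) _ h1
    calc (k * h) * t * (k * h)⁻¹ = k * (h * t * h⁻¹) * k⁻¹ := by group
      _ = (h * t * h⁻¹) * k * k⁻¹ := by rw [← h2]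
      _ = h * t * h⁻¹ := by group
  have hTCS_S : T ⊔ CS ≤ (S : Subgroup G) := sup_le hTS inf_le_left
  have hnN : k * h ∈ Subgroup.normalizer ((T ⊔ CS : Subgroup G) : Set G) := by
    apply mem_normalizer_of_conj_mem_of_finite
    have hle : (T ⊔ CS).map (MulAut.conj (k * h)).toMonoidHom ≤ T ⊔ CS := by
      rw [Subgroup.map_sup]
      apply sup_le_sup
      · rintro _ ⟨t, ht, rfl⟩
        simp only [MulEquiv.coe_toMonoidHom, MulAut.conj_apply]
        rw [hnT t ht]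
        exact (Subgroup.mem_normalizer_iff.mp hhN t).mp ht
      · rintro _ ⟨c, hc, rfl⟩
        simp only [MulEquiv.coe_toMonoidHom, MulAut.conj_apply]
        exact hnCS c hc
    intro y hy
    exact hle ⟨y, hy, rfl⟩
  refine ⟨conjAutHom (T ⊔ CS) ⟨k * h, hnN⟩, ?_, ?_, ?_⟩
  · rw [Fusion.mem_autGroup_iff _ hTCS_S]
    exact ⟨hTCS_S, fun x => hTCS_S (conjAutHom (T ⊔ CS) ⟨k * h, hnN⟩ x).2, k * h, fun x => rfl⟩
  · intro x
    show (k * h) * (x : G) * (k * h)⁻¹ = _
    rw [hnT x.1 x.2, hh']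
  · intro c hc
    show (c : G)⁻¹ * ((k * h) * (c : G) * (k * h)⁻¹) ∈ _
    have hc2 := hnCS c.1 hc
    obtain ⟨hcS, hcC⟩ := Subgroup.mem_inf.mp hc
    obtain ⟨hc2S, hc2C⟩ := Subgroup.mem_inf.mp hc2
    refine Subgroup.mem_inf.mpr ⟨(hmemT _).mpr ⟨?_, ?_⟩, ?_⟩
    · exact Subgroup.mul_mem _ (Subgroup.inv_mem _ hcS) hc2S
    · have hkh : k * h ∈ H := H.mul_mem hkH hhH
      have : (c : G)⁻¹ * ((k * h) * (c : G) * (k * h)⁻¹) =
          ((c : G)⁻¹ * (k * h) * (c : G)⁻¹⁻¹) * (k * h)⁻¹ := by group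
      rw [this]
      exact H.mul_mem (hHn.conj_mem _ hkh _) (H.inv_mem hkh)
    · exact Subgroup.mul_mem _ (Subgroup.inv_mem _ hcC) hc2C

/-- For a normal subgroup `H` of a finite group `G` with Sylow `p`-subgroup `S`, the fusion system
of `H` on `S ∩ H` is normal in the fusion system of `G` on `S`. -/
theorem Fusion.normalSub_isNormalIn :
    (fusionSystemOfSubgroup H ((S : Subgroup G) ⊓ H) inf_le_right).IsNormalIn
      (groupFusionSystem (S : Subgroup G)) p := by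
  refine ⟨⟨?_, Cfsg.Agent.S5076.result p S, Fusion.normalSub_isInvariantIn p S H⟩, ?_⟩
  · have : Finite H := inferInstance
    exact Fusion.fusionSystemOfSubgroup_isSaturated p H _ inf_le_right
      (Fusion.card_sylow_inf_normal p S H)
  · exact Fusion.normalSub_extension p S H _ rfl inf_le_right

end NormalSub

end Cfsg.Agent.Lead
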