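import Mathlib
import Cfsg.Agent.Lead.SylowLemmas
import Cfsg.Agent.Lead.FusionSat3
import Cfsg.Prelude.Def_ConjugacyFunctors

set_option autoImplicit false

namespace Cfsg.Agent.Lead

variable {G : Type*} [Group G]

/-- Right conjugation of a set: `A ↦ g⁻¹ A g`. -/
def conjR (g : G) (A : Set G) : Set G := (fun a => g⁻¹ * a * g) '' A

theorem mem_conjR {g : G} {A : Set G} {y : G} : y ∈ conjR g A ↔ g * y * g⁻¹ ∈ A := by
  unfold conjR
  constructor
  · rintro ⟨a, ha, rfl⟩
    have : g * (g⁻¹ * a * g) * g⁻¹ = a := by group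
    rw [this]; exact ha
  · intro h
    exact ⟨g * y * g⁻¹, h, by group⟩

theorem conjR_one (A : Set G) : conjR 1 A = A := by
  ext y; rw [mem_conjR]; simp

theorem conjR_mul (g h : G) (A : Set G) : conjR (g * h) A = conjR h (conjR g A) := by
  ext y
  rw [mem_conjR, mem_conjR, mem_conjR]
  have : g * h * y * (g * h)⁻¹ = g * (h * y * h⁻¹) * g⁻¹ := by group
  rw [this]

theorem conjR_mono {g : G} {A B : Set G} (h : A ⊆ B) : conjR g A ⊆ conjR g B := Set.image_mono h

theorem conjR_inv_conjR (g : G) (A : Set G) : conjR g⁻¹ (conjR g A) = A := by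
  rw [← conjR_mul, mul_inv_cancel, conjR_one]

theorem conjR_conjR_inv (g : G) (A : Set G) : conjR g (conjR g⁻¹ A) = A := by
  rw [← conjR_mul, inv_mul_cancel, conjR_one]

theorem conjR_subset_of_mem_normalizer {T : Subgroup G} {x : G}
    (hx : x ∈ Subgroup.normalizer (T : Set G)) {A : Set G} (hA : A ⊆ T) : conjR x A ⊆ T := by
  intro y hy
  rw [mem_conjR] at hy
  exact (Subgroup.mem_normalizer_iff.mp hx y).mpr (hA hy)

theorem conjR_coe (g : G) (P : Subgroup G) :
    conjR g (P : Set G) = ((P.map (MulAut.conj g⁻¹).toMonoidHom : Subgroup G) : Set G) := by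
  ext y
  rw [mem_conjR, SetLike.mem_coe, SetLike.mem_coe, Subgroup.mem_map]
  constructor
  · intro h
    refine ⟨g * y * g⁻¹, h, ?_⟩
    simp [mul_assoc]
  · rintro ⟨a, ha, rfl⟩
    simpa [mul_assoc] using ha

theorem mem_normalizer_of_conjR_subset {T : Subgroup G} [Finite T] {x : G}
    (h : conjR x (T : Set G) ⊆ T) : x ∈ Subgroup.normalizer (T : Set G) := by
  have h1 : x⁻¹ ∈ Subgroup.normalizer (T : Set G) := by
    apply mem_normalizer_of_conj_mem_of_finite
    intro y hy
    apply h
    rw [mem_conjR]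
    have : x * (x⁻¹ * y * x⁻¹⁻¹) * x⁻¹ = y := by group
    rw [this]; exact hy
  have := Subgroup.inv_mem _ h1
  rwa [inv_inv] at this

/-- A chain of conjugations inside normalizers of members of the family `𝓕`. -/
inductive ConjChain (𝓕 : Set (Subgroup G)) : Set G → G → Prop
  | nil (A : Set G) : ConjChain 𝓕 A 1
  | cons (A : Set G) (T : Subgroup G) (x g : G) : T ∈ 𝓕 → x ∈ Subgroup.normalizer (T : Set G) →
      A ⊆ T → ConjChain 𝓕 (conjR x A) g → ConjChain 𝓕 A (x * g)

variable {𝓕 : Set (Subgroup G)}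

theorem ConjChain.mono {A B : Set G} {g : G} (h : ConjChain 𝓕 B g) (hAB : A ⊆ B) :
    ConjChain 𝓕 A g := by
  induction h generalizing A with
  | nil B => exact ConjChain.nil A
  | cons B T x g hT hx hBT _ ih =>
    exact ConjChain.cons A T x g hT hx (hAB.trans hBT) (ih (conjR_mono hAB))

theorem ConjChain.append {A : Set G} {g h : G} (h1 : ConjChain 𝓕 A g)
    (h2 : ConjChain 𝓕 (conjR g A) h) : ConjChain 𝓕 A (g * h) := by
  induction h1 with
  | nil A =>
    rw [conjR_one] at h2
    rwa [one_mul]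
  | cons A T x g hT hx hAT _ ih =>
    rw [conjR_mul] at h2
    rw [mul_assoc]
    exact ConjChain.cons A T x (g * h) hT hx hAT (ih h2)

theorem ConjChain.single {A : Set G} {T : Subgroup G} {x : G} (hT : T ∈ 𝓕)
    (hx : x ∈ Subgroup.normalizer (T : Set G)) (hA : A ⊆ T) : ConjChain 𝓕 A x := by
  have := ConjChain.cons A T x 1 hT hx hA (ConjChain.nil _)
  rwa [mul_one] at this

theorem ConjChain.reverse {A : Set G} {g : G} (h : ConjChain 𝓕 A g) :
    ConjChain 𝓕 (conjR g A) g⁻¹ := by
  induction h with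
  | nil A =>
    rw [inv_one]
    exact ConjChain.nil _
  | cons A T x g hT hx hAT _ ih =>
    rw [conjR_mul, mul_inv_rev]
    apply ConjChain.append ih
    rw [conjR_inv_conjR]
    exact ConjChain.single hT (Subgroup.inv_mem _ hx) (conjR_subset_of_mem_normalizer hx hAT)

/-- Unfolding a chain into the indexed form used by `Cfsg.IsConjugationFamily`. -/
theorem ConjChain.exists_fin {A : Set G} {g : G} (h : ConjChain 𝓕 A g) :
    ∃ (n : ℕ) (T : Fin n → Subgroup G) (x : Fin n → G), (List.ofFn x).prod = g ∧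
      (∀ i, T i ∈ 𝓕) ∧ (∀ i, x i ∈ Subgroup.normalizer ((T i : Subgroup G) : Set G)) ∧
      (∀ h : 0 < n, A ⊆ T ⟨0, h⟩) ∧
      ∀ (i : Fin n) (h : i.val + 1 < n),
        (fun a => (((List.ofFn x).take (i.val + 1)).prod)⁻¹ * a *
          ((List.ofFn x).take (i.val + 1)).prod) '' A ⊆ T ⟨i.val + 1, h⟩ := by
  induction h with
  | nil A =>
    refine ⟨0, Fin.elim0, Fin.elim0, by simp, fun i => i.elim0, fun i => i.elim0,
      fun h => absurd h (lt_irrefl 0), fun i => i.elim0⟩
  | cons A T x g hT hx hAT _ ih =>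
    obtain ⟨n, T', x', hprod, hT', hx', h0, hstep⟩ := ih
    refine ⟨n + 1, Fin.cons T T', Fin.cons x x', ?_, ?_, ?_, ?_, ?_⟩
    · rw [List.ofFn_succ]
      simp only [Fin.cons_zero, Fin.cons_succ, List.prod_cons]
      rw [hprod]
    · intro i
      refine Fin.cases ?_ (fun j => ?_) i
      · rw [Fin.cons_zero]; exact hT
      · rw [Fin.cons_succ]; exact hT' j
    · intro i
      refine Fin.cases ?_ (fun j => ?_) i
      · rw [Fin.cons_zero, Fin.cons_zero]; exact hx
      · rw [Fin.cons_succ, Fin.cons_succ]; exact hx' j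
    · intro _
      show A ⊆ (Fin.cons T T' : Fin (n + 1) → Subgroup G) 0
      rw [Fin.cons_zero]; exact hAT
    · intro i hi
      have hin : i.val < n := by omega
      have hT1 : (Fin.cons T T' : Fin (n + 1) → Subgroup G) ⟨i.val + 1, hi⟩ = T' ⟨i.val, hin⟩ := by
        have : (⟨i.val + 1, hi⟩ : Fin (n + 1)) = Fin.succ ⟨i.val, hin⟩ := rfl
        rw [this, Fin.cons_succ]
      rw [hT1]
      have hL : List.ofFn (Fin.cons x x' : Fin (n + 1) → G) = x :: List.ofFn x' := by
        rw [List.ofFn_succ]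
        simp only [Fin.cons_zero, Fin.cons_succ]
      rw [hL, List.take_succ_cons, List.prod_cons]
      show conjR (x * ((List.ofFn x').take i.val).prod) A ⊆ _
      rw [conjR_mul]
      rcases Nat.eq_zero_or_pos i.val with hi0 | hipos
      · have : ((List.ofFn x').take i.val).prod = 1 := by rw [hi0]; simp
        rw [this, conjR_one]
        have := h0 (by omega)
        have e : (⟨i.val, hin⟩ : Fin n) = ⟨0, by omega⟩ := by
          apply Fin.ext
          exact hi0
        rw [e]
        exact this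
      · obtain ⟨j, hj⟩ : ∃ j, i.val = j + 1 := ⟨i.val - 1, by omega⟩
        have hjn : j + 1 < n := by omega
        have := hstep ⟨j, by omega⟩ hjn
        have e : (⟨i.val, hin⟩ : Fin n) = ⟨j + 1, hjn⟩ := Fin.ext hj
        rw [e, hj]
        exact this

end Cfsg.Agent.Lead
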