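import Mathlib
import Cfsg.Agent.Lead.ConjChain
import Cfsg.Agent.Lead.FusionInner

set_option autoImplicit false

namespace Cfsg.Agent.Lead

open Cfsg

variable {G : Type*} [Group G]

theorem conjR_eq_map_conj_inv (g : G) (P : Subgroup G) :
    conjR g⁻¹ (P : Set G) = ((P.map (MulAut.conj g).toMonoidHom : Subgroup G) : Set G) := by
  rw [conjR_coe, inv_inv]

variable [Finite G] {p : ℕ} [Fact p.Prime]

/-- A `p`-subgroup of `M` of index prime to `p` has order the `p`-part of `|M|`. -/
theorem card_eq_ppart_of_relIndex {A M : Subgroup G} (hAM : A ≤ M) (hA : IsPGroup p A)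
    (h : ¬ p ∣ A.relIndex M) : Nat.card A = p ^ (Nat.card M).factorization p := by
  have hpp : p.Prime := Fact.out
  obtain ⟨k, hk⟩ := IsPGroup.iff_card.mp hA
  have h1 : Nat.card (A.subgroupOf M) * (A.subgroupOf M).index = Nat.card M :=
    (A.subgroupOf M).card_mul_index
  rw [card_subgroupOf_of_le hAM] at h1
  have hri : (A.subgroupOf M).index = A.relIndex M := rfl
  rw [hri] at h1
  have hA0 : Nat.card A ≠ 0 := Nat.card_pos.ne'
  have hr0 : A.relIndex M ≠ 0 := by
    intro h0
    rw [h0, mul_zero] at h1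
    exact Nat.card_pos.ne' h1.symm
  rw [← h1, Nat.factorization_mul hA0 hr0, hk]
  have h2 : (A.relIndex M).factorization p = 0 := Nat.factorization_eq_zero_of_not_dvd h
  simp [h2, hpp.factorization_self]

/-- Given `U` with `N_S(U)` Sylow in `N_G(U)` and `Q ≤ S` conjugate to `U`, there is `h` with
`Q^h = U` and `N_S(Q)^h ≤ S`. -/
theorem exists_conjR_normalizer_le (S : Sylow p G) {U Q : Subgroup G}
    (hsyl : ¬ p ∣ ((S : Subgroup G) ⊓ Subgroup.normalizer (U : Set G)).relIndex
      (Subgroup.normalizer (U : Set G)))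
    (e : G) (he : Q.map (MulAut.conj e).toMonoidHom = U) :
    ∃ h : G, conjR h (Q : Set G) = U ∧
      conjR h (((S : Subgroup G) ⊓ Subgroup.normalizer (Q : Set G) : Subgroup G) : Set G) ⊆
        (S : Subgroup G) := by
  set R : Subgroup G :=
    ((S : Subgroup G) ⊓ Subgroup.normalizer (Q : Set G)).map (MulAut.conj e).toMonoidHom with hR
  have hRN : R ≤ Subgroup.normalizer (U : Set G) := by
    rw [← he, normalizer_map_conj]
    exact Subgroup.map_mono inf_le_right
  have hRp : IsPGroup p R := (S.2.to_le inf_le_left).map _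
  have hTp : IsPGroup p ((S : Subgroup G) ⊓ Subgroup.normalizer (U : Set G) : Subgroup G) :=
    S.2.to_le inf_le_left
  have hcard := card_eq_ppart_of_relIndex (inf_le_right) hTp hsyl
  obtain ⟨n, hn, hnR⟩ := exists_conj_le_of_card_eq_ppart (p := p)
    (M := Subgroup.normalizer (U : Set G))
    (A := (S : Subgroup G) ⊓ Subgroup.normalizer (U : Set G)) inf_le_right hcard hRN hRp
  refine ⟨(n * e)⁻¹, ?_, ?_⟩
  · rw [conjR_eq_map_conj_inv]
    have : (MulAut.conj (n * e)).toMonoidHom =
        (MulAut.conj n).toMonoidHom.comp (MulAut.conj e).toMonoidHom := by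
      ext y; simp [mul_assoc]
    rw [this, ← Subgroup.map_map, he]
    congr 1
    ext y
    rw [Subgroup.mem_map]
    constructor
    · rintro ⟨u, hu, rfl⟩
      exact (Subgroup.mem_normalizer_iff.mp hn u).mp hu
    · intro hy
      refine ⟨n⁻¹ * y * n, ?_, by simp [mul_assoc]⟩
      have := (Subgroup.mem_normalizer_iff.mp (Subgroup.inv_mem _ hn) y).mp hy
      simpa using this
  · rw [conjR_eq_map_conj_inv]
    have : (MulAut.conj (n * e)).toMonoidHom =
        (MulAut.conj n).toMonoidHom.comp (MulAut.conj e).toMonoidHom := by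
      ext y; simp [mul_assoc]
    rw [this, ← Subgroup.map_map]
    exact fun y hy => (hnR hy).1

/-- Alperin's theorem for a family containing a "fully normalized" conjugate of every subgroup. -/
theorem conjChain_of_family (S : Sylow p G) (𝓕 : Set (Subgroup G))
    (h𝓕 : ∀ U ∈ 𝓕, U ≤ (S : Subgroup G))
    (h : ∀ T : Subgroup G, T ≤ (S : Subgroup G) → ∃ U ∈ 𝓕,
      (∃ g : G, T.map (MulAut.conj g).toMonoidHom = U) ∧
      ¬ p ∣ ((S : Subgroup G) ⊓ Subgroup.normalizer ((U : Subgroup G) : Set G)).relIndex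
        (Subgroup.normalizer ((U : Subgroup G) : Set G))) :
    ∀ (P : Subgroup G) (g : G), P ≤ (S : Subgroup G) → conjR g (P : Set G) ⊆ (S : Subgroup G) →
      ConjChain 𝓕 (P : Set G) g := by
  intro P
  induction' hk : Nat.card (S : Subgroup G) - Nat.card P using Nat.strong_induction_on with k ih
    generalizing P
  intro g hPS hPg
  by_cases hPeq : P = (S : Subgroup G)
  · -- `P = S`
    obtain ⟨U, hU, ⟨c, hc⟩, -⟩ := h (S : Subgroup G) le_rfl
    have hUS : U = (S : Subgroup G) := by
      apply Subgroup.eq_of_le_of_card_ge (h𝓕 U hU)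
      rw [← hc, card_map_conj]
    rw [hUS] at hU
    rw [hPeq] at hPg ⊢
    exact ConjChain.single hU (mem_normalizer_of_conjR_subset hPg) (le_refl _)
  · obtain ⟨U, hU, ⟨c, hc⟩, hsyl⟩ := h P hPS
    have hSp : IsPGroup p (S : Subgroup G) := S.2
    -- `N_S(P) > P`
    have hlt : ∀ Q : Subgroup G, Q ≤ (S : Subgroup G) → Nat.card Q = Nat.card P →
        Nat.card P < Nat.card ((S : Subgroup G) ⊓ Subgroup.normalizer (Q : Set G) : Subgroup G) := by
      intro Q hQS hQc
      have hQne : Q ≠ (S : Subgroup G) := by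
        intro hQ
        apply hPeq
        apply Subgroup.eq_of_le_of_card_ge hPS
        rw [← hQc, hQ]
      obtain ⟨n, hn, hnQ⟩ := Fusion.exists_mem_normalizerIn_not_mem (S := (S : Subgroup G)) hSp
        hQS hQne
      have hle : Q ≤ (S : Subgroup G) ⊓ Subgroup.normalizer (Q : Set G) :=
        le_inf hQS Subgroup.le_normalizer
      have hlt : Q < (S : Subgroup G) ⊓ Subgroup.normalizer (Q : Set G) :=
        lt_of_le_of_ne hle (fun heq => hnQ (heq ▸ hn))
      rw [← hQc]
      exact Set.ncard_lt_ncard (s := (Q : Set G)) (t := ((S : Subgroup G) ⊓ Subgroup.normalizer (Q : Set G) : Subgroup G))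
        (SetLike.coe_ssubset_coe.mpr hlt) (Set.toFinite _)
    -- first leg
    obtain ⟨h1, h1P, h1N⟩ := exists_conjR_normalizer_le S hsyl c hc
    have hk1 : Nat.card (S : Subgroup G) -
        Nat.card ((S : Subgroup G) ⊓ Subgroup.normalizer (P : Set G) : Subgroup G) < k := by
      have := hlt P hPS rfl
      have hle : Nat.card ((S : Subgroup G) ⊓ Subgroup.normalizer (P : Set G) : Subgroup G) ≤
          Nat.card (S : Subgroup G) := Subgroup.card_le_of_le inf_le_left
      omega
    have c1 : ConjChain 𝓕 (P : Set G) h1 :=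
      (ih _ hk1 _ rfl h1 inf_le_left h1N).mono (le_inf hPS Subgroup.le_normalizer)
    -- second leg, for `P^g`
    set Pg : Subgroup G := P.map (MulAut.conj g⁻¹).toMonoidHom with hPgdef
    have hPgS : Pg ≤ (S : Subgroup G) := by
      intro y hy
      apply hPg
      rw [conjR_coe]
      exact hy
    have hPgc : Nat.card Pg = Nat.card P := card_map_conj P g⁻¹
    have hcg : Pg.map (MulAut.conj (c * g)).toMonoidHom = U := by
      rw [hPgdef, Subgroup.map_map, ← hc]
      congr 1
      ext y
      simp [mul_assoc]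
    obtain ⟨k1, k1P, k1N⟩ := exists_conjR_normalizer_le S hsyl (c * g) hcg
    have hk2 : Nat.card (S : Subgroup G) -
        Nat.card ((S : Subgroup G) ⊓ Subgroup.normalizer (Pg : Set G) : Subgroup G) < k := by
      have := hlt Pg hPgS hPgc
      have hle : Nat.card ((S : Subgroup G) ⊓ Subgroup.normalizer (Pg : Set G) : Subgroup G) ≤
          Nat.card (S : Subgroup G) := Subgroup.card_le_of_le inf_le_left
      omega
    have c2 : ConjChain 𝓕 (Pg : Set G) k1 :=
      (ih _ hk2 _ rfl k1 inf_le_left k1N).mono (le_inf hPgS Subgroup.le_normalizer)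
    have c2' : ConjChain 𝓕 (U : Set G) k1⁻¹ := by
      have := c2.reverse
      rwa [k1P] at this
    -- middle step
    have hUfin : Finite U := inferInstance
    have hPgR : conjR g (P : Set G) = (Pg : Set G) := conjR_coe g P
    have hm : conjR (h1⁻¹ * g * k1) (U : Set G) = U := by
      rw [conjR_mul, conjR_mul, ← h1P, conjR_inv_conjR, hPgR, k1P, h1P]
    have hmN : h1⁻¹ * g * k1 ∈ Subgroup.normalizer (U : Set G) :=
      mem_normalizer_of_conjR_subset hm.le
    have cm : ConjChain 𝓕 (U : Set G) (h1⁻¹ * g * k1) := ConjChain.single hU hmN (le_refl _)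
    have hg : g = h1 * ((h1⁻¹ * g * k1) * k1⁻¹) := by group
    rw [hg]
    apply c1.append
    rw [h1P]
    apply cm.append
    rw [hm]
    exact c2'

/-- `S1965`. -/
theorem isConjugationFamily_of_family (S : Sylow p G) (𝓕 : Set (Subgroup G))
    (h𝓕 : ∀ U ∈ 𝓕, U ≤ (S : Subgroup G))
    (h : ∀ T : Subgroup G, T ≤ (S : Subgroup G) → ∃ U ∈ 𝓕,
      (∃ g : G, T.map (MulAut.conj g).toMonoidHom = U) ∧
      ¬ p ∣ ((S : Subgroup G) ⊓ Subgroup.normalizer ((U : Subgroup G) : Set G)).relIndex
        (Subgroup.normalizer ((U : Subgroup G) : Set G))) :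
    Cfsg.IsConjugationFamily 𝓕 (S : Subgroup G) := by
  refine ⟨h𝓕, ?_⟩
  intro A g _ hAS hAg
  have hPS : Subgroup.closure A ≤ (S : Subgroup G) := (Subgroup.closure_le _).mpr hAS
  have hPg : conjR g ((Subgroup.closure A : Subgroup G) : Set G) ⊆ (S : Subgroup G) := by
    intro y hy
    rw [mem_conjR] at hy
    have hle : Subgroup.closure A ≤ (S : Subgroup G).map (MulAut.conj g).toMonoidHom := by
      rw [Subgroup.closure_le]
      intro a ha
      refine ⟨g⁻¹ * a * g, hAg ⟨a, ha, rfl⟩, ?_⟩
      simp [mul_assoc]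
    obtain ⟨s, hs, hsy⟩ := hle hy
    have : y = s := by
      have h1 : g * s * g⁻¹ = g * y * g⁻¹ := hsy
      exact (mul_left_cancel (mul_right_cancel h1)).symm
    rw [this]; exact hs
  have hc := (conjChain_of_family S 𝓕 h𝓕 h _ g hPS hPg).mono (Subgroup.subset_closure (k := A))
  exact hc.exists_fin

end Cfsg.Agent.Lead
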