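import Mathlib
import Cfsg.Agent.Lead.ConjFamily

set_option autoImplicit false

namespace Cfsg.Agent.Lead.Alp

open Cfsg Cfsg.Agent.Lead

variable {G : Type*} [Group G]

/-- A chain of conjugations, each step `(T, x)` satisfying a relation `R`. -/
inductive RChain (R : Subgroup G → G → Prop) : Set G → G → Prop
  | nil (A : Set G) : RChain R A 1
  | cons (A : Set G) (T : Subgroup G) (x g : G) : R T x → A ⊆ T →
      RChain R (conjR x A) g → RChain R A (x * g)

variable {R : Subgroup G → G → Prop}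

theorem RChain.mono {A B : Set G} {g : G} (h : RChain R B g) (hAB : A ⊆ B) : RChain R A g := by
  induction h generalizing A with
  | nil B => exact RChain.nil A
  | cons B T x g hR hBT _ ih =>
    exact RChain.cons A T x g hR (hAB.trans hBT) (ih (conjR_mono hAB))

theorem RChain.append {A : Set G} {g h : G} (h1 : RChain R A g)
    (h2 : RChain R (conjR g A) h) : RChain R A (g * h) := by
  induction h1 with
  | nil A =>
    rw [conjR_one] at h2
    rwa [one_mul]
  | cons A T x g hR hAT _ ih =>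
    rw [conjR_mul] at h2
    rw [mul_assoc]
    exact RChain.cons A T x (g * h) hR hAT (ih h2)

theorem RChain.single {A : Set G} {T : Subgroup G} {x : G} (hR : R T x) (hA : A ⊆ T) :
    RChain R A x := by
  have := RChain.cons A T x 1 hR hA (RChain.nil _)
  rwa [mul_one] at this

theorem RChain.reverse (hRinv : ∀ T x, R T x → R T x⁻¹)
    (hRn : ∀ T x, R T x → x ∈ Subgroup.normalizer (T : Set G)) {A : Set G} {g : G}
    (h : RChain R A g) : RChain R (conjR g A) g⁻¹ := by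
  induction h with
  | nil A =>
    rw [inv_one]
    exact RChain.nil _
  | cons A T x g hR hAT _ ih =>
    rw [conjR_mul, mul_inv_rev]
    apply RChain.append ih
    rw [conjR_inv_conjR]
    exact RChain.single (hRinv T x hR) (conjR_subset_of_mem_normalizer (hRn T x hR) hAT)

theorem RChain.conjR_subset {P : Subgroup G}
    (hRn : ∀ T x, R T x → x ∈ Subgroup.normalizer (T : Set G))
    (hRP : ∀ T x, R T x → T ≤ P) {A : Set G} {g : G} (h : RChain R A g) (hA : A ⊆ P) :
    conjR g A ⊆ P := by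
  induction h with
  | nil A => rwa [conjR_one]
  | cons A T x g hR hAT _ ih =>
    rw [conjR_mul]
    apply ih
    exact (conjR_subset_of_mem_normalizer (hRn T x hR) hAT).trans (hRP T x hR)

/-- Unfolding a chain into indexed form. -/
theorem RChain.exists_fin {A : Set G} {g : G} (h : RChain R A g) :
    ∃ (n : ℕ) (T : Fin n → Subgroup G) (x : Fin n → G), (List.ofFn x).prod = g ∧
      (∀ i, R (T i) (x i)) ∧
      (∀ h : 0 < n, A ⊆ T ⟨0, h⟩) ∧
      ∀ (i : Fin n) (h : i.val + 1 < n),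
        (fun a => (((List.ofFn x).take (i.val + 1)).prod)⁻¹ * a *
          ((List.ofFn x).take (i.val + 1)).prod) '' A ⊆ T ⟨i.val + 1, h⟩ := by
  induction h with
  | nil A =>
    refine ⟨0, Fin.elim0, Fin.elim0, by simp, fun i => i.elim0,
      fun h => absurd h (lt_irrefl 0), fun i => i.elim0⟩
  | cons A T x g hR hAT _ ih =>
    obtain ⟨n, T', x', hprod, hR', h0, hstep⟩ := ih
    refine ⟨n + 1, Fin.cons T T', Fin.cons x x', ?_, ?_, ?_, ?_⟩
    · rw [List.ofFn_succ]
      simp only [Fin.cons_zero, Fin.cons_succ, List.prod_cons]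
      rw [hprod]
    · intro i
      refine Fin.cases ?_ (fun j => ?_) i
      · rw [Fin.cons_zero, Fin.cons_zero]; exact hR
      · rw [Fin.cons_succ, Fin.cons_succ]; exact hR' j
    · intro _
      show A ⊆ (Fin.cons T T' : Fin (n + 1) → Subgroup G) 0
      rw [Fin.cons_zero]; exact hAT
    · intro i hi
      have hin : i.val < n := by omega
      have hT1 : (Fin.cons T T' : Fin (n + 1) → Subgroup G) ⟨i.val + 1, hi⟩ = T' ⟨i.val, hin⟩ := by
        have : (⟨i.val + 1, hi⟩ : Fin (n + 1)) = Fin.succ ⟨i.val, hin⟩ := rfl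
        rw [this, Fin.cons_succ]
      rw [hT1]
      have hL : List.ofFn (Fin.cons x x' : Fin (n + 1) → G) = x :: List.ofFn x' := by
        rw [List.ofFn_succ]
        simp only [Fin.cons_zero, Fin.cons_succ]
      rw [hL, List.take_succ_cons, List.prod_cons]
      show conjR (x * ((List.ofFn x').take i.val).prod) A ⊆ _
      rw [conjR_mul]
      rcases Nat.eq_zero_or_pos i.val with hi0 | hipos
      · have : ((List.ofFn x').take i.val).prod = 1 := by rw [hi0]; simp
        rw [this, conjR_one]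
        have := h0 (by omega)
        have e : (⟨i.val, hin⟩ : Fin n) = ⟨0, by omega⟩ := by
          apply Fin.ext
          exact hi0
        rw [e]
        exact this
      · obtain ⟨j, hj⟩ : ∃ j, i.val = j + 1 := ⟨i.val - 1, by omega⟩
        have hjn : j + 1 < n := by omega
        have := hstep ⟨j, by omega⟩ hjn
        have e : (⟨i.val, hin⟩ : Fin n) = ⟨j + 1, hjn⟩ := Fin.ext hj
        rw [e, hj]
        exact this


section cj

/-- Right conjugate of a subgroup: `x⁻¹ Q x`. -/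
def cj (x : G) (Q : Subgroup G) : Subgroup G := Q.map (MulAut.conj x⁻¹).toMonoidHom

theorem coe_cj (x : G) (Q : Subgroup G) : ((cj x Q : Subgroup G) : Set G) = conjR x (Q : Set G) :=
  (conjR_coe x Q).symm

theorem mem_cj {x y : G} {Q : Subgroup G} : y ∈ cj x Q ↔ x * y * x⁻¹ ∈ Q := by
  rw [← SetLike.mem_coe, coe_cj, mem_conjR]
  rfl

theorem cj_one (Q : Subgroup G) : cj 1 Q = Q := by
  ext y; rw [mem_cj]; simp

theorem cj_mul (x y : G) (Q : Subgroup G) : cj (x * y) Q = cj y (cj x Q) := by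
  ext z
  rw [mem_cj, mem_cj, mem_cj]
  have : x * y * z * (x * y)⁻¹ = x * (y * z * y⁻¹) * x⁻¹ := by group
  rw [this]

theorem cj_mono {x : G} {A B : Subgroup G} (h : A ≤ B) : cj x A ≤ cj x B := Subgroup.map_mono h

theorem cj_inf (x : G) (A B : Subgroup G) : cj x (A ⊓ B) = cj x A ⊓ cj x B := by
  ext y
  simp only [mem_cj, Subgroup.mem_inf]

theorem card_cj (x : G) (Q : Subgroup G) : Nat.card (cj x Q) = Nat.card Q := card_map_conj Q x⁻¹

theorem isPGroup_cj {p : ℕ} (x : G) {Q : Subgroup G} (h : IsPGroup p Q) : IsPGroup p (cj x Q) :=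
  h.map _

theorem normalizer_cj (x : G) (Q : Subgroup G) :
    Subgroup.normalizer ((cj x Q : Subgroup G) : Set G) = cj x (Subgroup.normalizer (Q : Set G)) :=
  normalizer_map_conj Q x⁻¹

theorem cj_inv_cj (x : G) (Q : Subgroup G) : cj x⁻¹ (cj x Q) = Q := by
  rw [← cj_mul, mul_inv_cancel, cj_one]

theorem cj_cj_inv (x : G) (Q : Subgroup G) : cj x (cj x⁻¹ Q) = Q := by
  rw [← cj_mul, inv_mul_cancel, cj_one]

theorem cj_eq_self_of_mem_normalizer {x : G} {Q : Subgroup G}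
    (hx : x ∈ Subgroup.normalizer (Q : Set G)) : cj x Q = Q := by
  ext y
  rw [mem_cj]
  exact (Subgroup.mem_normalizer_iff.mp hx y).symm

theorem mem_normalizer_of_cj_eq_self [Finite G] {x : G} {Q : Subgroup G} (h : cj x Q = Q) :
    x ∈ Subgroup.normalizer (Q : Set G) := by
  apply mem_normalizer_of_conjR_subset
  rw [← coe_cj, h]

end cj

section ppart

variable [Finite G] {p : ℕ} [Fact p.Prime]

theorem not_dvd_relIndex_of_card_eq_ppart {A M : Subgroup G} (hAM : A ≤ M)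
    (h : Nat.card A = p ^ (Nat.card M).factorization p) : ¬ p ∣ A.relIndex M := by
  have hpp : p.Prime := Fact.out
  have h1 : Nat.card (A.subgroupOf M) * (A.subgroupOf M).index = Nat.card M :=
    (A.subgroupOf M).card_mul_index
  rw [card_subgroupOf_of_le hAM] at h1
  have hri : (A.subgroupOf M).index = A.relIndex M := rfl
  rw [hri] at h1
  rintro ⟨c, hc⟩
  obtain ⟨f, hf⟩ : ∃ f, f = (Nat.card M).factorization p := ⟨_, rfl⟩
  rw [← hf] at h
  have : p ^ (f + 1) ∣ Nat.card M := by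
    rw [← h1, h, hc, pow_succ]
    exact ⟨c, by ring⟩
  rw [hf] at this
  exact Nat.pow_succ_factorization_not_dvd Nat.card_pos.ne' hpp this

theorem card_eq_ppart_of_ge {A B N : Subgroup G} (hAB : A ≤ B) (hBN : B ≤ N) (hB : IsPGroup p B)
    (hA : Nat.card A = p ^ (Nat.card N).factorization p) :
    Nat.card B = p ^ (Nat.card N).factorization p :=
  le_antisymm (card_le_ppart_of_isPGroup hB hBN) (hA ▸ Subgroup.card_le_of_le hAB)

theorem exists_orderOf_eq_pow {Q : Subgroup G} (hQ : IsPGroup p Q) {u : G} (hu : u ∈ Q) :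
    ∃ k : ℕ, orderOf u = p ^ k := by
  obtain ⟨k, hk⟩ := (IsPGroup.iff_orderOf.1 hQ) ⟨u, hu⟩
  exact ⟨k, by rw [← hk, Subgroup.orderOf_mk]⟩

end ppart


section main

variable [Finite G] {p : ℕ} [Fact p.Prime]

/-- The relation for steps in Alperin's theorem (tame intersections, `p`-elements). -/
def StepRel (p : ℕ) (P : Subgroup G) (T : Subgroup G) (x : G) : Prop :=
  ∃ Q : Subgroup G, IsPGroup p Q ∧ Nat.card Q = Nat.card P ∧ T = P ⊓ Q ∧
    Nat.card (P ⊓ Subgroup.normalizer (T : Set G) : Subgroup G) =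
      p ^ (Nat.card (Subgroup.normalizer (T : Set G))).factorization p ∧
    Nat.card (Q ⊓ Subgroup.normalizer (T : Set G) : Subgroup G) =
      p ^ (Nat.card (Subgroup.normalizer (T : Set G))).factorization p ∧
    x ∈ Subgroup.normalizer (T : Set G) ∧ (Q = P ∨ ∃ k : ℕ, orderOf x = p ^ k)

omit [Finite G] [Fact p.Prime] in
theorem StepRel.inv {P T : Subgroup G} {x : G} (h : StepRel p P T x) : StepRel p P T x⁻¹ := by
  obtain ⟨Q, h1, h2, h3, h4, h5, h6, h7⟩ := h
  refine ⟨Q, h1, h2, h3, h4, h5, Subgroup.inv_mem _ h6, ?_⟩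
  rw [orderOf_inv]
  exact h7

omit [Finite G] [Fact p.Prime] in
theorem StepRel.mem_normalizer {P T : Subgroup G} {x : G} (h : StepRel p P T x) :
    x ∈ Subgroup.normalizer (T : Set G) := by
  obtain ⟨Q, h1, h2, h3, h4, h5, h6, h7⟩ := h
  exact h6

omit [Finite G] [Fact p.Prime] in
theorem StepRel.le {P T : Subgroup G} {x : G} (h : StepRel p P T x) : T ≤ P := by
  obtain ⟨Q, h1, h2, h3, h4, h5, h6, h7⟩ := h
  rw [h3]
  exact inf_le_left

/-- `Q ~ P via x`. -/
def Rel (p : ℕ) (P Q : Subgroup G) (x : G) : Prop :=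
  RChain (StepRel p P) ((P ⊓ Q : Subgroup G) : Set G) x ∧ cj x Q = P

omit [Finite G] [Fact p.Prime] in
theorem Rel.conjR_subset {P R' : Subgroup G} {x : G} (hR : Rel p P R' x) :
    conjR x ((P ⊓ R' : Subgroup G) : Set G) ⊆ P :=
  RChain.conjR_subset (fun _ _ h => h.mem_normalizer) (fun _ _ h => h.le) hR.1
    (fun _ ha => (Subgroup.mem_inf.1 ha).1)

omit [Finite G] [Fact p.Prime] in
theorem Rel.trans_of_le {P R' Q : Subgroup G} {x y : G} (hR : Rel p P R' x) (hle : P ⊓ Q ≤ R')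
    (hQ : Rel p P (cj x Q) y) : Rel p P Q (x * y) := by
  refine ⟨?_, by rw [cj_mul]; exact hQ.2⟩
  have hle' : ((P ⊓ Q : Subgroup G) : Set G) ⊆ ((P ⊓ R' : Subgroup G) : Set G) :=
    fun a ha => Subgroup.mem_inf.2 ⟨(Subgroup.mem_inf.1 ha).1, hle ha⟩
  apply (hR.1.mono hle').append
  apply hQ.1.mono
  intro a ha
  rw [SetLike.mem_coe, Subgroup.mem_inf]
  refine ⟨hR.conjR_subset (conjR_mono hle' ha), ?_⟩
  rw [← SetLike.mem_coe, coe_cj]
  exact conjR_mono (fun b hb => (Subgroup.mem_inf.1 hb).2) ha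

theorem exists_syl_ge {U : Subgroup G} (hU : IsPGroup p U) :
    ∃ T : Subgroup G, U ≤ T ∧ IsPGroup p T ∧ Nat.card T = p ^ (Nat.card G).factorization p := by
  obtain ⟨S, hS⟩ := hU.exists_le_sylow
  exact ⟨S, hS, S.2, S.card_eq_multiplicity⟩

theorem card_lt_inf_normalizer {P D : Subgroup G} (hP : IsPGroup p P) (hDP : D ≤ P) (hne : D ≠ P) :
    Nat.card D < Nat.card (P ⊓ Subgroup.normalizer (D : Set G) : Subgroup G) :=
  Fusion.card_lt_card_normalizerIn hP hDP hne

/-- The tame case. -/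
theorem rel_of_tame {P : Subgroup G} (hP : IsPGroup p P) (Q : Subgroup G) (hQ : IsPGroup p Q)
    (hQc : Nat.card Q = Nat.card P) (hne : P ⊓ Q ≠ P)
    (hPD : Nat.card (P ⊓ Subgroup.normalizer ((P ⊓ Q : Subgroup G) : Set G) : Subgroup G) =
      p ^ (Nat.card (Subgroup.normalizer ((P ⊓ Q : Subgroup G) : Set G))).factorization p)
    (hQD : Nat.card (Q ⊓ Subgroup.normalizer ((P ⊓ Q : Subgroup G) : Set G) : Subgroup G) =
      p ^ (Nat.card (Subgroup.normalizer ((P ⊓ Q : Subgroup G) : Set G))).factorization p)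
    (ih : ∀ Q' : Subgroup G, IsPGroup p Q' → Nat.card Q' = Nat.card P →
      Nat.card (P ⊓ Q : Subgroup G) < Nat.card (P ⊓ Q' : Subgroup G) → ∃ x, Rel p P Q' x) :
    ∃ x, Rel p P Q x := by
  obtain ⟨D, hD⟩ : ∃ D : Subgroup G, D = P ⊓ Q := ⟨_, rfl⟩
  rw [← hD] at hne hPD hQD ih
  obtain ⟨N, hN⟩ : ∃ N : Subgroup G, N = Subgroup.normalizer (D : Set G) := ⟨_, rfl⟩
  rw [← hN] at hPD hQD
  have hDP : D ≤ P := hD ▸ inf_le_left
  have hDQ : D ≤ Q := hD ▸ inf_le_right
  have hDN : D ≤ N := hN ▸ Subgroup.le_normalizer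
  obtain ⟨K, hK⟩ : ∃ K : Subgroup G, K = (P ⊓ N) ⊔ (Q ⊓ N) := ⟨_, rfl⟩
  have hKN : K ≤ N := hK ▸ sup_le inf_le_right inf_le_right
  have hPK : P ⊓ N ≤ K := hK ▸ le_sup_left
  have hQK : Q ⊓ N ≤ K := hK ▸ le_sup_right
  have hPKc : Nat.card (P ⊓ N : Subgroup G) = p ^ (Nat.card K).factorization p :=
    card_eq_ppart_of_le hPK hKN (hP.to_le inf_le_left) hPD
  obtain ⟨m, hmK, hm⟩ := exists_conj_le_of_card_eq_ppart (p := p) hPK hPKc hQK
    (hQ.to_le inf_le_left)
  -- elements of K give chains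
  have key : ∀ z ∈ K, z ∈ N ∧ ∀ A : Set G, A ⊆ D → RChain (StepRel p P) A z := by
    intro z hz
    rw [hK, Subgroup.sup_eq_closure] at hz
    induction hz using Subgroup.closure_induction with
    | mem z hz =>
      have hzN : z ∈ N := by
        rcases hz with hz | hz
        · exact (Subgroup.mem_inf.1 hz).2
        · exact (Subgroup.mem_inf.1 hz).2
      have hzp : ∃ k : ℕ, orderOf z = p ^ k := by
        rcases hz with hz | hz
        · exact exists_orderOf_eq_pow hP (Subgroup.mem_inf.1 hz).1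
        · exact exists_orderOf_eq_pow hQ (Subgroup.mem_inf.1 hz).1
      refine ⟨hzN, fun A hA => RChain.single (T := D) ?_ hA⟩
      exact ⟨Q, hQ, hQc, hD, hN ▸ hPD, hN ▸ hQD, hN ▸ hzN, Or.inr hzp⟩
    | one => exact ⟨N.one_mem, fun A _ => RChain.nil A⟩
    | mul a b _ _ ha hb =>
      refine ⟨N.mul_mem ha.1 hb.1, fun A hA => (ha.2 A hA).append (hb.2 _ ?_)⟩
      exact conjR_subset_of_mem_normalizer (hN ▸ ha.1) hA
    | inv a _ ha =>
      refine ⟨N.inv_mem ha.1, fun A hA => ?_⟩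
      have h1 := ha.2 (conjR a⁻¹ A) (conjR_subset_of_mem_normalizer (hN ▸ N.inv_mem ha.1) hA)
      have h2 := h1.reverse (fun _ _ h => h.inv) (fun _ _ h => h.mem_normalizer)
      rwa [conjR_conjR_inv] at h2
  -- the conjugating element
  have hyK : m⁻¹ ∈ K := K.inv_mem hmK
  have hcj : cj m⁻¹ (Q ⊓ N) ≤ P ⊓ N := by
    unfold cj
    rw [inv_inv]
    exact hm
  have hcjeq : cj m⁻¹ (Q ⊓ N) = P ⊓ N := by
    apply Subgroup.eq_of_le_of_card_ge hcj
    rw [card_cj, hPD, hQD]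
  have hPNle : P ⊓ N ≤ cj m⁻¹ Q := by
    rw [← hcjeq]
    exact cj_mono inf_le_left
  have hlt : Nat.card D < Nat.card (P ⊓ cj m⁻¹ Q : Subgroup G) := by
    have h1 : Nat.card D < Nat.card (P ⊓ N : Subgroup G) := by
      rw [hN]; exact card_lt_inf_normalizer hP hDP hne
    have h2 : Nat.card (P ⊓ N : Subgroup G) ≤ Nat.card (P ⊓ cj m⁻¹ Q : Subgroup G) :=
      Subgroup.card_le_of_le (le_inf inf_le_left hPNle)
    omega
  obtain ⟨z, hz⟩ := ih (cj m⁻¹ Q) (isPGroup_cj _ hQ) (by rw [card_cj]; exact hQc) hlt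
  refine ⟨m⁻¹ * z, ?_, by rw [cj_mul]; exact hz.2⟩
  rw [← hD]
  apply ((key m⁻¹ hyK).2 D le_rfl).append
  apply hz.1.mono
  intro a ha
  have haD : a ∈ D := conjR_subset_of_mem_normalizer (hN ▸ (key m⁻¹ hyK).1) le_rfl ha
  rw [SetLike.mem_coe, Subgroup.mem_inf]
  exact ⟨hDP haD, hPNle (Subgroup.mem_inf.2 ⟨hDP haD, hDN haD⟩)⟩

/-- Alperin's theorem: every Sylow `p`-subgroup is related to `P` via tame intersections. -/
theorem main {P : Subgroup G} (hP : IsPGroup p P)
    (hPc : Nat.card P = p ^ (Nat.card G).factorization p) :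
    ∀ Q : Subgroup G, IsPGroup p Q → Nat.card Q = Nat.card P → ∃ x, Rel p P Q x := by
  intro Q
  induction' hk : Nat.card P - Nat.card (P ⊓ Q : Subgroup G) using Nat.strong_induction_on
    with k ih generalizing Q
  intro hQ hQc
  by_cases hne : P ⊓ Q = P
  · have hPQ : P = Q := Subgroup.eq_of_le_of_card_ge (inf_eq_left.1 hne) hQc.le
    refine ⟨1, ?_, ?_⟩
    · exact RChain.nil _
    · rw [cj_one, hPQ]
  · have ih' : ∀ Q' : Subgroup G, IsPGroup p Q' → Nat.card Q' = Nat.card P →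
        Nat.card (P ⊓ Q : Subgroup G) < Nat.card (P ⊓ Q' : Subgroup G) → ∃ x, Rel p P Q' x := by
      intro Q' hQ' hQ'c hlt
      have hle : Nat.card (P ⊓ Q' : Subgroup G) ≤ Nat.card P := Subgroup.card_le_of_le inf_le_left
      exact ih (Nat.card P - Nat.card (P ⊓ Q' : Subgroup G)) (by omega) Q' rfl hQ' hQ'c
    -- the case where `N_P(D)` is Sylow in `N(D)`
    have step1 : ∀ Q₁ : Subgroup G, IsPGroup p Q₁ → Nat.card Q₁ = Nat.card P →
        Nat.card (P ⊓ Q₁ : Subgroup G) = Nat.card (P ⊓ Q : Subgroup G) →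
        Nat.card (P ⊓ Subgroup.normalizer ((P ⊓ Q₁ : Subgroup G) : Set G) : Subgroup G) =
          p ^ (Nat.card (Subgroup.normalizer ((P ⊓ Q₁ : Subgroup G) : Set G))).factorization p →
        ∃ x, Rel p P Q₁ x := by
      intro Q₁ hQ₁ hQ₁c hcard hPD₁
      have hD₁ne : P ⊓ Q₁ ≠ P := by
        intro h
        apply hne
        apply Subgroup.eq_of_le_of_card_ge inf_le_left
        rw [← hcard, h]
      have ih'₁ : ∀ Q' : Subgroup G, IsPGroup p Q' → Nat.card Q' = Nat.card P →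
          Nat.card (P ⊓ Q₁ : Subgroup G) < Nat.card (P ⊓ Q' : Subgroup G) → ∃ x, Rel p P Q' x := by
        intro Q' hQ' hQ'c hlt
        rw [hcard] at hlt
        exact ih' Q' hQ' hQ'c hlt
      by_cases hQD : Nat.card (Q₁ ⊓ Subgroup.normalizer ((P ⊓ Q₁ : Subgroup G) : Set G) : Subgroup G) =
          p ^ (Nat.card (Subgroup.normalizer ((P ⊓ Q₁ : Subgroup G) : Set G))).factorization p
      · exact rel_of_tame hP Q₁ hQ₁ hQ₁c hD₁ne hPD₁ hQD ih'₁
      · obtain ⟨D₁, hD₁⟩ : ∃ D₁ : Subgroup G, D₁ = P ⊓ Q₁ := ⟨_, rfl⟩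
        rw [← hD₁] at hD₁ne hPD₁ hQD ih'₁
        obtain ⟨N₁, hN₁⟩ : ∃ N₁ : Subgroup G, N₁ = Subgroup.normalizer (D₁ : Set G) := ⟨_, rfl⟩
        rw [← hN₁] at hPD₁ hQD
        have hD₁P : D₁ ≤ P := hD₁ ▸ inf_le_left
        have hD₁Q : D₁ ≤ Q₁ := hD₁ ▸ inf_le_right
        have hD₁N : D₁ ≤ N₁ := hN₁ ▸ Subgroup.le_normalizer
        obtain ⟨T₀, hUT₀, hT₀N, hT₀p, hT₀c⟩ := exists_le_card_eq_ppart (hQ₁.to_le inf_le_left)
          (inf_le_right : Q₁ ⊓ N₁ ≤ N₁)
        obtain ⟨T, hT₀T, hTp, hTc⟩ := exists_syl_ge hT₀p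
        have hTN : Nat.card (T ⊓ N₁ : Subgroup G) = p ^ (Nat.card N₁).factorization p :=
          card_eq_ppart_of_ge (le_inf hT₀T hT₀N) inf_le_right (hTp.to_le inf_le_left) hT₀c
        have hQNT : Q₁ ⊓ N₁ ≤ T := hUT₀.trans hT₀T
        have hD₁T : D₁ ≤ T := (le_inf hD₁Q hD₁N).trans hQNT
        have hD₁PT : D₁ ≤ P ⊓ T := le_inf hD₁P hD₁T
        have hrelT : ∃ z, Rel p P T z := by
          by_cases hPT : P ⊓ T = D₁
          · apply rel_of_tame hP T hTp (hTc.trans hPc.symm) (by rw [hPT]; exact hD₁ne)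
              (by rw [hPT, ← hN₁]; exact hPD₁) (by rw [hPT, ← hN₁]; exact hTN)
            intro Q' hQ' hQ'c hlt
            rw [hPT] at hlt
            exact ih'₁ Q' hQ' hQ'c hlt
          · apply ih'₁ T hTp (hTc.trans hPc.symm)
            by_contra hcon
            push Not at hcon
            exact hPT (Subgroup.eq_of_le_of_card_ge hD₁PT hcon).symm
        obtain ⟨z, hz⟩ := hrelT
        have hlt : Nat.card D₁ < Nat.card (P ⊓ cj z Q₁ : Subgroup G) := by
          have hD₁neQ : D₁ ≠ Q₁ := by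
            intro h
            apply hD₁ne
            have hQP : Q₁ ≤ P := h ▸ hD₁P
            have : Q₁ = P := Subgroup.eq_of_le_of_card_ge hQP hQ₁c.symm.le
            rw [h, this]
          have h1 : Nat.card D₁ < Nat.card (Q₁ ⊓ N₁ : Subgroup G) := by
            rw [hN₁]; exact card_lt_inf_normalizer hQ₁ hD₁Q hD₁neQ
          have h2 : Nat.card (Q₁ ⊓ N₁ : Subgroup G) ≤ Nat.card (T ⊓ Q₁ : Subgroup G) :=
            Subgroup.card_le_of_le (le_inf hQNT inf_le_left)
          have h3 : cj z (T ⊓ Q₁) ≤ P ⊓ cj z Q₁ := by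
            rw [cj_inf, hz.2]
          have h4 := Subgroup.card_le_of_le h3
          rw [card_cj] at h4
          omega
        obtain ⟨w, hw⟩ := ih'₁ (cj z Q₁) (isPGroup_cj _ hQ₁) (by rw [card_cj]; exact hQ₁c) hlt
        exact ⟨z * w, Rel.trans_of_le hz (hD₁ ▸ hD₁T) hw⟩
    by_cases hPD : Nat.card (P ⊓ Subgroup.normalizer ((P ⊓ Q : Subgroup G) : Set G) : Subgroup G) =
        p ^ (Nat.card (Subgroup.normalizer ((P ⊓ Q : Subgroup G) : Set G))).factorization p
    · exact step1 Q hQ hQc rfl hPD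
    · obtain ⟨D, hD⟩ : ∃ D : Subgroup G, D = P ⊓ Q := ⟨_, rfl⟩
      rw [← hD] at hne hPD ih' step1
      obtain ⟨N, hN⟩ : ∃ N : Subgroup G, N = Subgroup.normalizer (D : Set G) := ⟨_, rfl⟩
      rw [← hN] at hPD
      have hDP : D ≤ P := hD ▸ inf_le_left
      have hDQ : D ≤ Q := hD ▸ inf_le_right
      have hDN : D ≤ N := hN ▸ Subgroup.le_normalizer
      obtain ⟨S₁, hUS₁, hS₁N, hS₁p, hS₁c⟩ := exists_le_card_eq_ppart (hP.to_le inf_le_left)
        (inf_le_right : P ⊓ N ≤ N)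
      obtain ⟨R', hS₁R', hR'p, hR'c⟩ := exists_syl_ge hS₁p
      have hPNR : P ⊓ N ≤ R' := hUS₁.trans hS₁R'
      have hDR : D ≤ R' := (le_inf hDP hDN).trans hPNR
      have hlt : Nat.card D < Nat.card (P ⊓ R' : Subgroup G) := by
        have h1 : Nat.card D < Nat.card (P ⊓ N : Subgroup G) := by
          rw [hN]; exact card_lt_inf_normalizer hP hDP hne
        have h2 : Nat.card (P ⊓ N : Subgroup G) ≤ Nat.card (P ⊓ R' : Subgroup G) :=
          Subgroup.card_le_of_le (le_inf inf_le_left hPNR)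
        omega
      obtain ⟨x, hx⟩ := ih' R' hR'p (hR'c.trans hPc.symm) hlt
      have hD'le : cj x D ≤ P ⊓ cj x Q := by
        apply le_inf _ (cj_mono hDQ)
        intro a ha
        rw [← SetLike.mem_coe, coe_cj] at ha
        exact hx.conjR_subset (conjR_mono (fun b hb => Subgroup.mem_inf.2 ⟨hDP hb, hDR hb⟩) ha)
      by_cases hlt2 : Nat.card D < Nat.card (P ⊓ cj x Q : Subgroup G)
      · obtain ⟨y, hy⟩ := ih' (cj x Q) (isPGroup_cj _ hQ) (by rw [card_cj]; exact hQc) hlt2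
        exact ⟨x * y, Rel.trans_of_le hx (hD ▸ hDR) hy⟩
      · have hD'eq : cj x D = P ⊓ cj x Q := by
          apply Subgroup.eq_of_le_of_card_ge hD'le
          rw [card_cj]; omega
        have h1 : cj x S₁ ≤ P ⊓ Subgroup.normalizer ((P ⊓ cj x Q : Subgroup G) : Set G) := by
          rw [← hD'eq, normalizer_cj, ← hN]
          refine le_inf ?_ (cj_mono hS₁N)
          rw [← hx.2]
          exact cj_mono hS₁R'
        have h2 : Nat.card (P ⊓ Subgroup.normalizer ((P ⊓ cj x Q : Subgroup G) : Set G) : Subgroup G) =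
            p ^ (Nat.card (Subgroup.normalizer ((P ⊓ cj x Q : Subgroup G) : Set G))).factorization p := by
          apply card_eq_ppart_of_ge h1 inf_le_right (hP.to_le inf_le_left)
          rw [card_cj, hS₁c, ← hD'eq, normalizer_cj, card_cj, ← hN]
        obtain ⟨y, hy⟩ := step1 (cj x Q) (isPGroup_cj _ hQ) (by rw [card_cj]; exact hQc)
          (by rw [← hD'eq, card_cj]) h2
        exact ⟨x * y, Rel.trans_of_le hx (hD ▸ hDR) hy⟩

/-- Alperin's fusion theorem with tame intersections and `p`-elements (`S2012`). -/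
theorem alperin_p_elements (P : Sylow p G) (A : Set G) (g : G) (hA : A ⊆ (P : Set G))
    (hAg : (fun a => g⁻¹ * a * g) '' A ⊆ (P : Set G)) :
    ∃ (n : ℕ) (Q : Fin n → Sylow p G) (x : Fin n → G), (List.ofFn x).prod = g ∧
      (∀ i : Fin n,
        x i ∈ Subgroup.normalizer ((((P : Subgroup G) ⊓ (Q i : Subgroup G)) : Subgroup G) : Set G) ∧
        ¬ p ∣ ((P : Subgroup G) ⊓ Subgroup.normalizer
          ((((P : Subgroup G) ⊓ (Q i : Subgroup G)) : Subgroup G) : Set G)).relIndex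
            (Subgroup.normalizer ((((P : Subgroup G) ⊓ (Q i : Subgroup G)) : Subgroup G) : Set G)) ∧
        ¬ p ∣ ((Q i : Subgroup G) ⊓ Subgroup.normalizer
          ((((P : Subgroup G) ⊓ (Q i : Subgroup G)) : Subgroup G) : Set G)).relIndex
            (Subgroup.normalizer ((((P : Subgroup G) ⊓ (Q i : Subgroup G)) : Subgroup G) : Set G)) ∧
        ((Q i : Subgroup G) = (P : Subgroup G) ∨ ∃ k : ℕ, orderOf (x i) = p ^ k)) ∧
      (∀ h : 0 < n, A ⊆ (((P : Subgroup G) ⊓ (Q ⟨0, h⟩ : Subgroup G) : Subgroup G) : Set G)) ∧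
      ∀ i : Fin n, ∀ h : i.val + 1 < n,
        (fun a => (((List.ofFn x).take (i.val + 1)).prod)⁻¹ * a *
          ((List.ofFn x).take (i.val + 1)).prod) '' A ⊆
          (((P : Subgroup G) ⊓ (Q ⟨i.val + 1, h⟩ : Subgroup G) : Subgroup G) : Set G) := by
  obtain ⟨P₀, hP₀⟩ : ∃ P₀ : Subgroup G, P₀ = (P : Subgroup G) := ⟨_, rfl⟩
  have hP : IsPGroup p P₀ := hP₀ ▸ P.2
  have hPc : Nat.card P₀ = p ^ (Nat.card G).factorization p := hP₀ ▸ P.card_eq_multiplicity
  rw [← hP₀]
  have hA₀ : A ⊆ (P₀ : Set G) := hP₀ ▸ hA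
  have hAg₀ : (fun a => g⁻¹ * a * g) '' A ⊆ (P₀ : Set G) := hP₀ ▸ hAg
  have hA' : A ⊆ ((P₀ ⊓ cj g⁻¹ P₀ : Subgroup G) : Set G) := by
    intro a ha
    rw [SetLike.mem_coe, Subgroup.mem_inf, mem_cj, inv_inv]
    exact ⟨hA₀ ha, hAg₀ ⟨a, ha, rfl⟩⟩
  obtain ⟨x, hx⟩ := main hP hPc (cj g⁻¹ P₀) (isPGroup_cj _ hP) (card_cj _ _)
  have hm : x⁻¹ * g ∈ Subgroup.normalizer (P₀ : Set G) := by
    apply mem_normalizer_of_cj_eq_self
    rw [cj_mul]
    have : cj x⁻¹ P₀ = cj g⁻¹ P₀ := by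
      conv_lhs => rw [← hx.2]
      rw [cj_inv_cj]
    rw [this, cj_cj_inv]
  have hPc' : Nat.card P₀ = p ^ (Nat.card (⊤ : Subgroup G)).factorization p := by
    rw [Subgroup.card_top]; exact hPc
  have hstepP : StepRel p P₀ P₀ (x⁻¹ * g) := by
    have hPN : P₀ ⊓ Subgroup.normalizer (P₀ : Set G) = P₀ := inf_eq_left.2 Subgroup.le_normalizer
    have hc : Nat.card (P₀ ⊓ Subgroup.normalizer (P₀ : Set G) : Subgroup G) =
        p ^ (Nat.card (Subgroup.normalizer (P₀ : Set G))).factorization p := by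
      rw [hPN]
      exact card_eq_ppart_of_le Subgroup.le_normalizer le_top hP hPc'
    exact ⟨P₀, hP, rfl, (inf_idem P₀).symm, hc, hc, hm, Or.inl rfl⟩
  have hchain : RChain (StepRel p P₀) A g := by
    have h1 : RChain (StepRel p P₀) A (x * (x⁻¹ * g)) := by
      apply (hx.1.mono hA').append
      exact RChain.single hstepP (hx.conjR_subset.trans' (conjR_mono hA'))
    have : x * (x⁻¹ * g) = g := by group
    rwa [this] at h1
  obtain ⟨n, T, xs, hprod, hR, h0, hstep⟩ := hchain.exists_fin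
  choose Q hQ using hR
  have hQc : ∀ i, Nat.card (Q i) = p ^ (Nat.card G).factorization p := fun i =>
    (hQ i).2.1.trans hPc
  refine ⟨n, fun i => Sylow.ofCard (Q i) (hQc i), xs, hprod, ?_, ?_, ?_⟩
  · intro i
    obtain ⟨h1, h2, h3, h4, h5, h6, h7⟩ := hQ i
    simp only [Sylow.coe_ofCard]
    rw [← h3]
    exact ⟨h6, not_dvd_relIndex_of_card_eq_ppart inf_le_right h4,
      not_dvd_relIndex_of_card_eq_ppart inf_le_right h5, h7⟩
  · intro h
    simp only [Sylow.coe_ofCard]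
    rw [← (hQ ⟨0, h⟩).2.2.1]
    exact h0 h
  · intro i h
    simp only [Sylow.coe_ofCard]
    rw [← (hQ ⟨i.val + 1, h⟩).2.2.1]
    exact hstep i h

/-- Alperin's fusion theorem with tame intersections (`S0116`). -/
theorem alperin_tame (P : Sylow p G) (A : Set G) (g : G) (hA : A ⊆ (P : Set G))
    (hAg : (fun a => g⁻¹ * a * g) '' A ⊆ (P : Set G)) :
    ∃ (n : ℕ) (Q : Fin n → Sylow p G) (x : Fin n → G), (List.ofFn x).prod = g ∧
      (∀ i : Fin n,
        x i ∈ Subgroup.normalizer ((((P : Subgroup G) ⊓ (Q i : Subgroup G)) : Subgroup G) : Set G) ∧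
        ¬ p ∣ ((P : Subgroup G) ⊓ Subgroup.normalizer
          ((((P : Subgroup G) ⊓ (Q i : Subgroup G)) : Subgroup G) : Set G)).relIndex
            (Subgroup.normalizer ((((P : Subgroup G) ⊓ (Q i : Subgroup G)) : Subgroup G) : Set G)) ∧
        ¬ p ∣ ((Q i : Subgroup G) ⊓ Subgroup.normalizer
          ((((P : Subgroup G) ⊓ (Q i : Subgroup G)) : Subgroup G) : Set G)).relIndex
            (Subgroup.normalizer ((((P : Subgroup G) ⊓ (Q i : Subgroup G)) : Subgroup G) : Set G))) ∧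
      (∀ h : 0 < n, A ⊆ (((P : Subgroup G) ⊓ (Q ⟨0, h⟩ : Subgroup G) : Subgroup G) : Set G)) ∧
      ∀ i : Fin n, ∀ h : i.val + 1 < n,
        (fun a => (((List.ofFn x).take (i.val + 1)).prod)⁻¹ * a *
          ((List.ofFn x).take (i.val + 1)).prod) '' A ⊆
          (((P : Subgroup G) ⊓ (Q ⟨i.val + 1, h⟩ : Subgroup G) : Subgroup G) : Set G) := by
  obtain ⟨n, Q, x, h1, h2, h3, h4⟩ := alperin_p_elements P A g hA hAg
  exact ⟨n, Q, x, h1, fun i => ⟨(h2 i).1, (h2 i).2.1, (h2 i).2.2.1⟩, h3, h4⟩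

end main

end Cfsg.Agent.Lead.Alp
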