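import Mathlib
import Cfsg.Agent.Lead.AlperinTame
import Cfsg.Agent.Helper1.Card

set_option autoImplicit false

namespace Cfsg.Agent.Lead.GR

open Cfsg.Agent.Lead.Alp

variable {S : Type*} [Group S]

/-- `c(a) = [a, b⁻¹]`. -/
def cc (b a : S) : S := a * b⁻¹ * a⁻¹ * b

/-- `z(a,a') = [v, a']` with `v = (a⁻¹)^b`. -/
def zz (b a a' : S) : S := (b⁻¹ * a⁻¹ * b) * a' * (b⁻¹ * a⁻¹ * b)⁻¹ * a'⁻¹

theorem cc_one (b : S) : cc b 1 = 1 := by unfold cc; group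

theorem cc_eq (b a : S) : cc b a = a * (b⁻¹ * a⁻¹ * b) := by unfold cc; group

/-- The standing hypotheses of the replacement theorem. -/
structure Hyp (A B : Subgroup S) (b : S) : Prop where
  comm : ∀ x ∈ A, ∀ y ∈ A, x * y = y * x
  normal : A ≤ Subgroup.normalizer (B : Set S)
  le : ⁅B, B⁆ ≤ A
  mem : b ∈ B
  norm1 : cj b A ≤ Subgroup.normalizer (A : Set S)
  norm2 : A ≤ Subgroup.normalizer ((cj b A : Subgroup S) : Set S)

namespace Hyp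

variable {A B : Subgroup S} {b : S} (h : Hyp A B b)
include h

theorem conj_mem_cj {a : S} (ha : a ∈ A) : b⁻¹ * a * b ∈ cj b A := by
  rw [mem_cj]
  have : b * (b⁻¹ * a * b) * b⁻¹ = a := by group
  rw [this]; exact ha

theorem cj_le_normalizer : cj b A ≤ Subgroup.normalizer (A : Set S) := h.norm1

theorem le_normalizer_cj : A ≤ Subgroup.normalizer ((cj b A : Subgroup S) : Set S) := h.norm2

theorem conj_mem_B {a x : S} (ha : a ∈ A) (hx : x ∈ B) : a * x * a⁻¹ ∈ B :=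
  (Subgroup.mem_normalizer_iff.mp (h.normal ha) x).mp hx

omit h in
theorem BB_le_B (B : Subgroup S) : ⁅B, B⁆ ≤ B :=
  Subgroup.commutator_le.mpr
    (fun g₁ h₁ g₂ h₂ => B.mul_mem (B.mul_mem (B.mul_mem h₁ h₂) (B.inv_mem h₁)) (B.inv_mem h₂))

theorem cj_comm {x y : S} (hx : x ∈ cj b A) (hy : y ∈ cj b A) : x * y = y * x := by
  rw [mem_cj] at hx hy
  have := h.comm _ hx _ hy
  have e1 : b * x * b⁻¹ * (b * y * b⁻¹) = b * (x * y) * b⁻¹ := by group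
  have e2 : b * y * b⁻¹ * (b * x * b⁻¹) = b * (y * x) * b⁻¹ := by group
  rw [e1, e2] at this
  exact mul_left_cancel (mul_right_cancel this)

/-- `[a, y] ∈ A ∩ A^b`. -/
theorem comm_mem_K {a y : S} (ha : a ∈ A) (hy : y ∈ cj b A) :
    a * y * a⁻¹ * y⁻¹ ∈ A ⊓ cj b A := by
  refine Subgroup.mem_inf.mpr ⟨?_, ?_⟩
  · have h1 : y * a⁻¹ * y⁻¹ ∈ A :=
      (Subgroup.mem_normalizer_iff.mp (h.cj_le_normalizer hy) a⁻¹).mp (A.inv_mem ha)
    have : a * y * a⁻¹ * y⁻¹ = a * (y * a⁻¹ * y⁻¹) := by group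
    rw [this]; exact A.mul_mem ha h1
  · have h1 : a * y * a⁻¹ ∈ cj b A :=
      (Subgroup.mem_normalizer_iff.mp (h.le_normalizer_cj ha) y).mp hy
    exact (cj b A).mul_mem h1 ((cj b A).inv_mem hy)

theorem comm_mem_K' {a y : S} (ha : a ∈ A) (hy : y ∈ cj b A) :
    y * a * y⁻¹ * a⁻¹ ∈ A ⊓ cj b A := by
  have := (A ⊓ cj b A).inv_mem (h.comm_mem_K ha hy)
  have e : (a * y * a⁻¹ * y⁻¹)⁻¹ = y * a * y⁻¹ * a⁻¹ := by group
  rwa [e] at this

theorem K_comm_A {k a : S} (hk : k ∈ A ⊓ cj b A) (ha : a ∈ A) : k * a = a * k :=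
  h.comm _ (Subgroup.mem_inf.mp hk).1 _ ha

theorem K_comm_cj {k y : S} (hk : k ∈ A ⊓ cj b A) (hy : y ∈ cj b A) : k * y = y * k :=
  h.cj_comm (Subgroup.mem_inf.mp hk).2 hy

theorem BB_le_K : ⁅B, B⁆ ≤ A ⊓ cj b A := by
  refine le_inf h.le ?_
  intro x hx
  rw [mem_cj]
  apply h.le
  have h1 : b * x * b⁻¹ * x⁻¹ ∈ ⁅B, B⁆ := by
    have := Subgroup.commutator_mem_commutator h.mem (BB_le_B B hx)
    rwa [commutatorElement_def] at this
  have e : b * x * b⁻¹ = (b * x * b⁻¹ * x⁻¹) * x := by group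
  rw [e]
  exact mul_mem h1 hx

/-- `A ∩ B` is normalized by `B`. -/
theorem conj_mem_of_mem_inf {x b' : S} (hx : x ∈ A) (hxB : x ∈ B) (hb' : b' ∈ B) :
    b' * x * b'⁻¹ ∈ A := by
  have h1 : b' * x * b'⁻¹ * x⁻¹ ∈ ⁅B, B⁆ := by
    have := Subgroup.commutator_mem_commutator hb' hxB
    rwa [commutatorElement_def] at this
  have e : b' * x * b'⁻¹ = (b' * x * b'⁻¹ * x⁻¹) * x := by group
  rw [e]
  exact A.mul_mem (h.le h1) hx

/-- For `a ∈ A`, `b' ∈ B`: `a^{b'} ∈ A` implies `a^{b'⁻¹} ∈ A`. -/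
theorem conj_mem_symm {a b' : S} (ha : a ∈ A) (hb' : b' ∈ B) (h1 : b'⁻¹ * a * b' ∈ A) :
    b' * a * b'⁻¹ ∈ A := by
  -- w = a⁻¹ a^{b'} ∈ A ∩ B
  have hwA : a⁻¹ * (b'⁻¹ * a * b') ∈ A := A.mul_mem (A.inv_mem ha) h1
  have hwB : a⁻¹ * (b'⁻¹ * a * b') ∈ B := by
    have h2 : a⁻¹ * b'⁻¹ * a⁻¹⁻¹ ∈ B := h.conj_mem_B (A.inv_mem ha) (B.inv_mem hb')
    have e : a⁻¹ * (b'⁻¹ * a * b') = a⁻¹ * b'⁻¹ * a⁻¹⁻¹ * b' := by group
    rw [e]; exact B.mul_mem h2 hb'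
  have h3 := h.conj_mem_of_mem_inf hwA hwB hb'
  -- b' w b'⁻¹ = b' a⁻¹ b'⁻¹ a
  have e : b' * (a⁻¹ * (b'⁻¹ * a * b')) * b'⁻¹ = (b' * a * b'⁻¹)⁻¹ * a := by group
  rw [e] at h3
  have h4 := A.mul_mem h3 (A.inv_mem ha)
  have e2 : (b' * a * b'⁻¹)⁻¹ * a * a⁻¹ = (b' * a * b'⁻¹)⁻¹ := by group
  rw [e2] at h4
  exact (Subgroup.inv_mem_iff A).mp h4

theorem K_conj {k : S} (hk : k ∈ A ⊓ cj b A) : b⁻¹ * k * b ∈ A ⊓ cj b A := by
  obtain ⟨hkA, hkc⟩ := Subgroup.mem_inf.mp hk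
  refine Subgroup.mem_inf.mpr ⟨?_, h.conj_mem_cj hkA⟩
  rw [mem_cj] at hkc
  have := h.conj_mem_symm (b' := b⁻¹) hkA (B.inv_mem h.mem) (by simpa using hkc)
  simpa using this

theorem cc_mem_B {a : S} (ha : a ∈ A) : cc b a ∈ B := by
  have h2 : a * b⁻¹ * a⁻¹ ∈ B := h.conj_mem_B ha (B.inv_mem h.mem)
  exact B.mul_mem h2 h.mem

theorem zz_mem_K {a a' : S} (ha : a ∈ A) (ha' : a' ∈ A) : zz b a a' ∈ A ⊓ cj b A :=
  h.comm_mem_K' ha' (h.conj_mem_cj (A.inv_mem ha))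

theorem cc_mul {a a' : S} (ha : a ∈ A) (ha' : a' ∈ A) :
    cc b a * cc b a' = zz b a a' * cc b (a * a') := by
  have hv : b⁻¹ * a⁻¹ * b ∈ cj b A := h.conj_mem_cj (A.inv_mem ha)
  have hv' : b⁻¹ * a'⁻¹ * b ∈ cj b A := h.conj_mem_cj (A.inv_mem ha')
  have hz := h.zz_mem_K ha ha'
  have hvv := h.cj_comm hv hv'
  have hza := h.K_comm_A hz ha
  obtain ⟨v, hvdef⟩ : ∃ v, v = b⁻¹ * a⁻¹ * b := ⟨_, rfl⟩
  obtain ⟨v', hv'def⟩ : ∃ v', v' = b⁻¹ * a'⁻¹ * b := ⟨_, rfl⟩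
  obtain ⟨z, hzdef⟩ : ∃ z, z = zz b a a' := ⟨_, rfl⟩
  have hz2 : z = v * a' * v⁻¹ * a'⁻¹ := by rw [hzdef, hvdef]; rfl
  rw [cc_eq, cc_eq, cc_eq, ← hvdef, ← hv'def, ← hzdef]
  have e3 : b⁻¹ * (a * a')⁻¹ * b = v' * v := by rw [hvdef, hv'def]; group
  rw [e3]
  rw [← hvdef, ← hv'def] at hvv
  rw [← hzdef] at hza
  calc a * v * (a' * v') = a * (v * a' * v⁻¹ * a'⁻¹) * a' * v * v' := by group
    _ = a * z * a' * v * v' := by rw [← hz2]
    _ = z * a * a' * (v * v') := by rw [← hza]; group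
    _ = z * a * a' * (v' * v) := by rw [hvv]
    _ = z * (a * a' * (v' * v)) := by group


/-- The key symmetry: conjugating `z(a,a')` by `b` gives `z(a',a)`. -/
theorem conj_zz {a a' : S} (ha : a ∈ A) (ha' : a' ∈ A) :
    b⁻¹ * zz b a a' * b = zz b a' a := by
  have hv : b⁻¹ * a⁻¹ * b ∈ cj b A := h.conj_mem_cj (A.inv_mem ha)
  have hu' : b⁻¹ * a' * b ∈ cj b A := h.conj_mem_cj ha'
  -- ζ₀ = [(a v)⁻¹, b⁻¹] ∈ [B,B] ≤ K
  have hζ : (cc b a)⁻¹ * b⁻¹ * (cc b a) * b ∈ A ⊓ cj b A := by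
    apply h.BB_le_K
    have := Subgroup.commutator_mem_commutator (B.inv_mem (h.cc_mem_B ha)) (B.inv_mem h.mem)
    rw [commutatorElement_def] at this
    simpa using this
  have ht : a * (b⁻¹ * a' * b) * a⁻¹ * (b⁻¹ * a' * b)⁻¹ ∈ A ⊓ cj b A := h.comm_mem_K ha hu'
  have hζu := h.K_comm_cj hζ hu'
  have hvu := h.cj_comm hv hu'
  have htv := h.K_comm_cj ht hv
  have htu := h.K_comm_cj ht hu'
  obtain ⟨v, hvdef⟩ : ∃ v, v = b⁻¹ * a⁻¹ * b := ⟨_, rfl⟩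
  obtain ⟨u', hu'def⟩ : ∃ u', u' = b⁻¹ * a' * b := ⟨_, rfl⟩
  obtain ⟨ζ, hζdef⟩ : ∃ ζ, ζ = (cc b a)⁻¹ * b⁻¹ * (cc b a) * b := ⟨_, rfl⟩
  obtain ⟨t, htdef⟩ : ∃ t, t = a * u' * a⁻¹ * u'⁻¹ := ⟨_, rfl⟩
  obtain ⟨V, hVdef⟩ : ∃ V, V = b⁻¹ * v * b := ⟨_, rfl⟩
  rw [← hu'def, ← htdef] at ht htv htu
  rw [← hvdef] at hvu htv
  rw [← hu'def] at hvu hζu
  rw [← hζdef] at hζu
  have eV : V = v * a * v * ζ := by
    rw [hVdef, hζdef, cc_eq, hvdef]; group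
  have e1 : b⁻¹ * zz b a a' * b = V * u' * V⁻¹ * u'⁻¹ := by
    rw [hVdef, hu'def, hvdef]; unfold zz; group
  have e2 : zz b a' a = u'⁻¹ * a * u' * a⁻¹ := by
    rw [hu'def]; unfold zz; group
  rw [e1, e2]
  have e3 : V * u' * V⁻¹ * u'⁻¹ = t := by
    calc V * u' * V⁻¹ * u'⁻¹ = v * a * v * (ζ * u') * ζ⁻¹ * v⁻¹ * a⁻¹ * v⁻¹ * u'⁻¹ := by
          rw [eV]; group
      _ = v * a * v * (u' * ζ) * ζ⁻¹ * v⁻¹ * a⁻¹ * v⁻¹ * u'⁻¹ := by rw [hζu]
      _ = v * a * (v * u') * v⁻¹ * a⁻¹ * v⁻¹ * u'⁻¹ := by group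
      _ = v * a * (u' * v) * v⁻¹ * a⁻¹ * v⁻¹ * u'⁻¹ := by rw [hvu]
      _ = v * (a * u' * a⁻¹ * u'⁻¹) * u' * v⁻¹ * u'⁻¹ := by group
      _ = v * t * u' * v⁻¹ * u'⁻¹ := by rw [← htdef]
      _ = t * v * u' * v⁻¹ * u'⁻¹ := by rw [htv]
      _ = t * (v * u') * v⁻¹ * u'⁻¹ := by group
      _ = t * (u' * v) * v⁻¹ * u'⁻¹ := by rw [hvu]
      _ = t := by group
  rw [e3]
  calc t = u'⁻¹ * (u' * t) := by group
    _ = u'⁻¹ * (t * u') := by rw [htu]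
    _ = u'⁻¹ * a * u' * a⁻¹ := by rw [htdef]; group

theorem zz_mem_B {a a' : S} (ha : a ∈ A) (ha' : a' ∈ A) : zz b a a' ∈ B := by
  have hβ := h.cc_mem_B ha
  have hc := h.comm a ha a'⁻¹ (A.inv_mem ha')
  have h1 : a' * (cc b a)⁻¹ * a'⁻¹ ∈ B := h.conj_mem_B ha' (B.inv_mem hβ)
  have h2 : a⁻¹ * (cc b a * (a' * (cc b a)⁻¹ * a'⁻¹)) * a⁻¹⁻¹ ∈ B :=
    h.conj_mem_B (A.inv_mem ha) (B.mul_mem hβ h1)
  have e : zz b a a' = a⁻¹ * (cc b a * (a' * (cc b a)⁻¹ * a'⁻¹)) * a⁻¹⁻¹ := by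
    have e1 : zz b a a' = a⁻¹ * cc b a * a' * (cc b a)⁻¹ * (a * a'⁻¹) := by
      unfold zz cc; group
    rw [e1, hc]; group
  rw [e]; exact h2

theorem comm_zz_of_comm (hB : ∀ x ∈ B, ∀ y ∈ B, x * y = y * x) {a a' : S} (ha : a ∈ A)
    (ha' : a' ∈ A) : b * zz b a a' = zz b a a' * b :=
  hB _ h.mem _ (h.zz_mem_B ha ha')

theorem comm_zz_of_odd (hodd : Odd (orderOf b)) {a a' : S} (ha : a ∈ A)
    (ha' : a' ∈ A) : b * zz b a a' = zz b a a' * b := by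
  have h1 := h.conj_zz ha ha'
  have h2 := h.conj_zz ha' ha
  have h3 : Commute (b ^ 2) (zz b a a') := by
    show b ^ 2 * zz b a a' = zz b a a' * b ^ 2
    have : b⁻¹ * (b⁻¹ * zz b a a' * b) * b = zz b a a' := by rw [h1, h2]
    rw [pow_two]
    calc b * b * zz b a a' = b * b * (b⁻¹ * (b⁻¹ * zz b a a' * b) * b) := by rw [this]
      _ = zz b a a' * (b * b) := by group
  obtain ⟨m, hm⟩ := hodd
  have h4 : (b ^ 2) ^ (m + 1) = b := by
    rw [← pow_mul]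
    have : 2 * (m + 1) = orderOf b + 1 := by omega
    rw [this, pow_succ, pow_orderOf_eq_one, one_mul]
  have := h3.pow_left (m + 1)
  rw [h4] at this
  exact this

theorem cc_comm (hc : ∀ a ∈ A, ∀ a' ∈ A, b * zz b a a' = zz b a a' * b) {a a' : S}
    (ha : a ∈ A) (ha' : a' ∈ A) : cc b a * cc b a' = cc b a' * cc b a := by
  rw [h.cc_mul ha ha', h.cc_mul ha' ha, h.comm a ha a' ha', ← h.conj_zz ha ha']
  congr 1
  have := hc a ha a' ha'
  calc zz b a a' = b⁻¹ * (b * zz b a a') := by group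
    _ = b⁻¹ * zz b a a' * b := by rw [this]; group

theorem K_comm_cc {k a : S} (hk : k ∈ A ⊓ cj b A) (ha : a ∈ A) : k * cc b a = cc b a * k := by
  have hv : b⁻¹ * a⁻¹ * b ∈ cj b A := h.conj_mem_cj (A.inv_mem ha)
  have h1 := h.K_comm_A hk ha
  have h2 := h.K_comm_cj hk hv
  rw [cc_eq]
  calc k * (a * (b⁻¹ * a⁻¹ * b)) = k * a * (b⁻¹ * a⁻¹ * b) := by group
    _ = a * (k * (b⁻¹ * a⁻¹ * b)) := by rw [h1]; group
    _ = a * (b⁻¹ * a⁻¹ * b) * k := by rw [h2]; group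

/-- The set `{k * c(a)}` as a subgroup. -/
def T : Subgroup S where
  carrier := {x | ∃ k ∈ A ⊓ cj b A, ∃ a ∈ A, x = k * cc b a}
  one_mem' := ⟨1, one_mem _, 1, one_mem _, by rw [cc_one, one_mul]⟩
  mul_mem' := by
    rintro x y ⟨k, hk, a, ha, rfl⟩ ⟨k', hk', a', ha', rfl⟩
    refine ⟨k * k' * zz b a a', mul_mem (mul_mem hk hk') (h.zz_mem_K ha ha'), a * a',
      mul_mem ha ha', ?_⟩
    have h1 := h.K_comm_cc hk' ha
    calc k * cc b a * (k' * cc b a') = k * (cc b a * k') * cc b a' := by group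
      _ = k * (k' * cc b a) * cc b a' := by rw [h1]
      _ = k * k' * (cc b a * cc b a') := by group
      _ = k * k' * (zz b a a' * cc b (a * a')) := by rw [h.cc_mul ha ha']
      _ = k * k' * zz b a a' * cc b (a * a') := by group
  inv_mem' := by
    rintro x ⟨k, hk, a, ha, rfl⟩
    have hz := h.zz_mem_K ha (A.inv_mem ha)
    have hK : (zz b a a⁻¹)⁻¹ * k⁻¹ ∈ A ⊓ cj b A := mul_mem (inv_mem hz) (inv_mem hk)
    refine ⟨(zz b a a⁻¹)⁻¹ * k⁻¹, hK, a⁻¹, A.inv_mem ha, ?_⟩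
    apply inv_eq_of_mul_eq_one_right
    have h1 := h.K_comm_cc hK ha
    have h2 := h.cc_mul ha (A.inv_mem ha)
    rw [mul_inv_cancel, cc_one, mul_one] at h2
    have h3 : k * zz b a a⁻¹ = zz b a a⁻¹ * k :=
      h.comm _ (Subgroup.mem_inf.mp hk).1 _ (Subgroup.mem_inf.mp hz).1
    calc k * cc b a * ((zz b a a⁻¹)⁻¹ * k⁻¹ * cc b a⁻¹)
        = k * (cc b a * ((zz b a a⁻¹)⁻¹ * k⁻¹)) * cc b a⁻¹ := by group
      _ = k * ((zz b a a⁻¹)⁻¹ * k⁻¹ * cc b a) * cc b a⁻¹ := by rw [h1]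
      _ = k * (zz b a a⁻¹)⁻¹ * k⁻¹ * (cc b a * cc b a⁻¹) := by group
      _ = k * (zz b a a⁻¹)⁻¹ * k⁻¹ * zz b a a⁻¹ := by rw [h2]
      _ = (zz b a a⁻¹)⁻¹ * (zz b a a⁻¹ * k) * (zz b a a⁻¹)⁻¹ * k⁻¹ * zz b a a⁻¹ := by group
      _ = (zz b a a⁻¹)⁻¹ * (k * zz b a a⁻¹) * (zz b a a⁻¹)⁻¹ * k⁻¹ * zz b a a⁻¹ := by rw [h3]
      _ = 1 := by group

theorem mem_T {x : S} : x ∈ h.T ↔ ∃ k ∈ A ⊓ cj b A, ∃ a ∈ A, x = k * cc b a := Iff.rfl

end Hyp

/-- The replacement subgroup `A* = (A ∩ A^b)[A, b⁻¹]`. -/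
def repl (A : Subgroup S) (b : S) : Subgroup S :=
  (A ⊓ cj b A) ⊔ Subgroup.closure {g : S | ∃ a ∈ A, g = a * b⁻¹ * a⁻¹ * b}

namespace Hyp

variable {A B : Subgroup S} {b : S} (h : Hyp A B b)
include h

theorem repl_eq_T : repl A b = h.T := by
  apply le_antisymm
  · refine sup_le ?_ ((Subgroup.closure_le _).mpr ?_)
    · intro k hk; exact ⟨k, hk, 1, one_mem _, by rw [cc_one, mul_one]⟩
    · rintro g ⟨a, ha, rfl⟩; exact ⟨1, one_mem _, a, ha, by rw [one_mul]; rfl⟩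
  · rintro x ⟨k, hk, a, ha, rfl⟩
    exact mul_mem (show k ∈ repl A b from Subgroup.mem_sup_left hk)
      (show cc b a ∈ repl A b from Subgroup.mem_sup_right (Subgroup.subset_closure ⟨a, ha, rfl⟩))

theorem mem_repl {x : S} : x ∈ repl A b ↔ ∃ k ∈ A ⊓ cj b A, ∃ a ∈ A, x = k * cc b a := by
  rw [h.repl_eq_T]; rfl

omit h in
theorem K_le_repl : A ⊓ cj b A ≤ repl A b := le_sup_left

omit h in
theorem cc_mem_repl {a : S} (ha : a ∈ A) : cc b a ∈ repl A b :=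
  Subgroup.mem_sup_right (Subgroup.subset_closure ⟨a, ha, rfl⟩)


/-- (7) `A* ≤ N(A)`. -/
theorem repl_le_normalizer : repl A b ≤ Subgroup.normalizer (A : Set S) := by
  refine sup_le (inf_le_left.trans Subgroup.le_normalizer) ((Subgroup.closure_le _).mpr ?_)
  rintro g ⟨a, ha, rfl⟩
  have : a * b⁻¹ * a⁻¹ * b = a * (b⁻¹ * a⁻¹ * b) := by group
  rw [SetLike.mem_coe, this]
  exact mul_mem (Subgroup.le_normalizer ha) (h.cj_le_normalizer (h.conj_mem_cj (A.inv_mem ha)))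

theorem sup_repl : A ⊔ repl A b = A ⊔ cj b A := by
  apply le_antisymm
  · refine sup_le le_sup_left
      (sup_le (inf_le_left.trans le_sup_left) ((Subgroup.closure_le _).mpr ?_))
    rintro g ⟨a, ha, rfl⟩
    have : a * b⁻¹ * a⁻¹ * b = a * (b⁻¹ * a⁻¹ * b) := by group
    rw [SetLike.mem_coe, this]
    exact mul_mem (Subgroup.mem_sup_left ha)
      (Subgroup.mem_sup_right (h.conj_mem_cj (A.inv_mem ha)))
  · refine sup_le le_sup_left ?_
    intro y hy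
    rw [mem_cj] at hy
    have e : y = (cc b (b * y * b⁻¹))⁻¹ * (b * y * b⁻¹) := by unfold cc; group
    rw [e]
    exact mul_mem (inv_mem (Subgroup.mem_sup_right (cc_mem_repl hy))) (Subgroup.mem_sup_left hy)

theorem inf_repl : A ⊓ repl A b = A ⊓ cj b A := by
  apply le_antisymm
  · intro x hx
    obtain ⟨hxA, hxR⟩ := Subgroup.mem_inf.mp hx
    obtain ⟨k, hk, a, ha, rfl⟩ := h.mem_repl.mp hxR
    have hkA := (Subgroup.mem_inf.mp hk).1
    have h1 : cc b a ∈ A := by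
      have := A.mul_mem (A.inv_mem hkA) hxA
      rwa [inv_mul_cancel_left] at this
    have h2 : b⁻¹ * a⁻¹ * b ∈ A := by
      have := A.mul_mem (A.inv_mem ha) h1
      rwa [cc_eq, inv_mul_cancel_left] at this
    have h3 : b * a⁻¹ * b⁻¹ ∈ A := h.conj_mem_symm (A.inv_mem ha) h.mem h2
    have h4 : a⁻¹ ∈ cj b A := mem_cj.mpr h3
    have h5 : a ∈ cj b A := by simpa using (cj b A).inv_mem h4
    have h6 : cc b a ∈ cj b A := by
      rw [cc_eq]; exact mul_mem h5 (h.conj_mem_cj (A.inv_mem ha))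
    exact mul_mem hk (Subgroup.mem_inf.mpr ⟨h1, h6⟩)
  · exact le_inf inf_le_left K_le_repl

/-- (1) `|A*| = |A|`. -/
theorem card_repl [Finite S] : Nat.card (repl A b) = Nat.card A := by
  have h1 := Helper1.card_sup_mul_card_inf (N := A) (A := cj b A) h.cj_le_normalizer
  have h2 := Helper1.card_sup_mul_card_inf (N := A) (A := repl A b) h.repl_le_normalizer
  rw [h.sup_repl, h.inf_repl] at h2
  rw [card_cj] at h1
  have h3 : Nat.card A * Nat.card (repl A b) = Nat.card A * Nat.card A := by rw [← h2, ← h1]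
  exact Nat.eq_of_mul_eq_mul_left Nat.card_pos h3

/-- (2) `A*` is abelian. -/
theorem repl_comm (hc : ∀ a ∈ A, ∀ a' ∈ A, b * zz b a a' = zz b a a' * b) {x y : S}
    (hx : x ∈ repl A b) (hy : y ∈ repl A b) : x * y = y * x := by
  obtain ⟨k, hk, a, ha, rfl⟩ := h.mem_repl.mp hx
  obtain ⟨k', hk', a', ha', rfl⟩ := h.mem_repl.mp hy
  have h1 := h.K_comm_cc hk' ha
  have h2 := h.K_comm_cc hk ha'
  have h3 := h.cc_comm hc ha ha'
  have h4 : k * k' = k' * k :=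
    h.comm _ (Subgroup.mem_inf.mp hk).1 _ (Subgroup.mem_inf.mp hk').1
  calc k * cc b a * (k' * cc b a') = k * (cc b a * k') * cc b a' := by group
    _ = k * (k' * cc b a) * cc b a' := by rw [h1]
    _ = (k * k') * (cc b a * cc b a') := by group
    _ = (k' * k) * (cc b a' * cc b a) := by rw [h3, h4]
    _ = k' * (k * cc b a') * cc b a := by group
    _ = k' * (cc b a' * k) * cc b a := by rw [h2]
    _ = k' * cc b a' * (k * cc b a) := by group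

/-- (3) `[B,B] ≤ A*`. -/
theorem BB_le_repl : ⁅B, B⁆ ≤ repl A b := h.BB_le_K.trans K_le_repl

theorem inf_B_le_K : A ⊓ B ≤ A ⊓ cj b A := by
  intro x hx
  obtain ⟨hxA, hxB⟩ := Subgroup.mem_inf.mp hx
  exact Subgroup.mem_inf.mpr ⟨hxA, mem_cj.mpr (h.conj_mem_of_mem_inf hxA hxB h.mem)⟩

/-- (4) `A ∩ B < A* ∩ B`. -/
theorem inf_B_lt [Finite S] (hbA : b ∉ Subgroup.normalizer (A : Set S)) :
    A ⊓ B < repl A b ⊓ B := by
  have hle : A ⊓ B ≤ repl A b ⊓ B := le_inf (h.inf_B_le_K.trans K_le_repl) inf_le_right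
  refine lt_of_le_of_ne hle ?_
  intro heq
  apply hbA
  apply mem_normalizer_of_cj_eq_self
  apply Subgroup.eq_of_le_of_card_ge
  · intro y hy
    have hyc := hy
    rw [mem_cj] at hy
    -- a = b y b⁻¹ ∈ A; c(a⁻¹) = a⁻¹ y ∈ A* ∩ B = A ∩ B
    have h1 : cc b (b * y * b⁻¹)⁻¹ ∈ repl A b ⊓ B :=
      Subgroup.mem_inf.mpr ⟨cc_mem_repl (A.inv_mem hy), h.cc_mem_B (A.inv_mem hy)⟩
    rw [← heq] at h1
    have h2 := A.mul_mem hy (Subgroup.mem_inf.mp h1).1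
    have e : b * y * b⁻¹ * cc b (b * y * b⁻¹)⁻¹ = y := by unfold cc; group
    rwa [e] at h2
  · rw [card_cj]

/-- (5) `A* ∩ B < B`. -/
theorem repl_inf_B_lt (hnot : ¬ B ≤ Subgroup.normalizer (A : Set S)) : repl A b ⊓ B < B := by
  refine lt_of_le_of_ne inf_le_right ?_
  intro heq
  apply hnot
  rw [← heq]
  exact inf_le_left.trans h.repl_le_normalizer

omit h in
theorem le_normalizer_of_conj_mem {H T : Subgroup S}
    (hc : ∀ g ∈ H, ∀ x ∈ T, g * x * g⁻¹ ∈ T) : H ≤ Subgroup.normalizer (T : Set S) := by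
  intro g hg
  rw [Subgroup.mem_normalizer_iff]
  intro x
  refine ⟨hc g hg x, fun hx => ?_⟩
  have := hc g⁻¹ (H.inv_mem hg) _ hx
  have e : g⁻¹ * (g * x * g⁻¹) * g⁻¹⁻¹ = x := by group
  rwa [e] at this

/-- (6) `A ≤ N(A*)`. -/
theorem le_normalizer_repl : A ≤ Subgroup.normalizer ((repl A b : Subgroup S) : Set S) := by
  apply le_normalizer_of_conj_mem
  intro a' ha' x hx
  obtain ⟨k, hk, a, ha, rfl⟩ := h.mem_repl.mp hx
  have hv : b⁻¹ * a⁻¹ * b ∈ cj b A := h.conj_mem_cj (A.inv_mem ha)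
  have ht := h.comm_mem_K ha' hv
  rw [h.mem_repl]
  refine ⟨k * (a' * (b⁻¹ * a⁻¹ * b) * a'⁻¹ * (b⁻¹ * a⁻¹ * b)⁻¹), mul_mem hk ht, a, ha, ?_⟩
  have h1 := h.K_comm_A hk ha'
  have h2 := h.comm a' ha' a ha
  have h3 := h.K_comm_A ht ha
  obtain ⟨v, hvdef⟩ : ∃ v, v = b⁻¹ * a⁻¹ * b := ⟨_, rfl⟩
  rw [cc_eq, ← hvdef]
  rw [← hvdef] at h3
  calc a' * (k * (a * v)) * a'⁻¹ = a' * k * a * v * a'⁻¹ := by group
    _ = k * (a' * a) * v * a'⁻¹ := by rw [← h1]; group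
    _ = k * (a * a') * v * a'⁻¹ := by rw [h2]
    _ = k * (a * (a' * v * a'⁻¹ * v⁻¹)) * v := by group
    _ = k * ((a' * v * a'⁻¹ * v⁻¹) * a) * v := by rw [h3]
    _ = k * (a' * v * a'⁻¹ * v⁻¹) * (a * v) := by group

theorem conj_cc {a : S} (ha : a ∈ A) :
    ∃ ζ ∈ A ⊓ cj b A, b⁻¹ * cc b a * b = ζ * cc b a := by
  have hζ : (cc b a)⁻¹ * b⁻¹ * (cc b a) * b ∈ A ⊓ cj b A := by
    apply h.BB_le_K
    have := Subgroup.commutator_mem_commutator (B.inv_mem (h.cc_mem_B ha)) (B.inv_mem h.mem)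
    rw [commutatorElement_def] at this
    simpa using this
  refine ⟨_, hζ, ?_⟩
  rw [h.K_comm_cc hζ ha]
  group

/-- (8) `b ∈ N(A*)`. -/
theorem mem_normalizer_repl [Finite S] :
    b ∈ Subgroup.normalizer ((repl A b : Subgroup S) : Set S) := by
  apply mem_normalizer_of_cj_eq_self
  apply Subgroup.eq_of_le_of_card_ge
  · intro y hy
    rw [mem_cj] at hy
    obtain ⟨k, hk, a, ha, hya⟩ := h.mem_repl.mp hy
    obtain ⟨ζ, hζ, hζe⟩ := h.conj_cc ha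
    have e : y = (b⁻¹ * k * b) * (b⁻¹ * cc b a * b) := by
      calc y = b⁻¹ * (b * y * b⁻¹) * b := by group
        _ = b⁻¹ * (k * cc b a) * b := by rw [hya]
        _ = (b⁻¹ * k * b) * (b⁻¹ * cc b a * b) := by group
    rw [e, hζe]
    exact mul_mem (K_le_repl (h.K_conj hk)) (mul_mem (K_le_repl hζ) (cc_mem_repl ha))
  · rw [card_cj]

/-- (9a) `N(A) ∩ N(A^b) ∩ N(B) ≤ N(A*)`. -/
theorem normalizer_le_normalizer_repl :
    Subgroup.normalizer (A : Set S) ⊓ Subgroup.normalizer ((cj b A : Subgroup S) : Set S) ⊓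
      Subgroup.normalizer (B : Set S) ≤
      Subgroup.normalizer ((repl A b : Subgroup S) : Set S) := by
  apply le_normalizer_of_conj_mem
  intro g hg' x hx
  obtain ⟨hg'', hgB⟩ := Subgroup.mem_inf.mp hg'
  obtain ⟨hg, hgc⟩ := Subgroup.mem_inf.mp hg''
  have hKg : ∀ k ∈ A ⊓ cj b A, g * k * g⁻¹ ∈ A ⊓ cj b A := by
    intro k hk
    obtain ⟨hkA, hkc⟩ := Subgroup.mem_inf.mp hk
    exact Subgroup.mem_inf.mpr ⟨(Subgroup.mem_normalizer_iff.mp hg k).mp hkA,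
      (Subgroup.mem_normalizer_iff.mp hgc k).mp hkc⟩
  obtain ⟨k, hk, a, ha, rfl⟩ := h.mem_repl.mp hx
  have hv : b⁻¹ * a⁻¹ * b ∈ cj b A := h.conj_mem_cj (A.inv_mem ha)
  have ha1 : g * a * g⁻¹ ∈ A := (Subgroup.mem_normalizer_iff.mp hg a).mp ha
  have hy1 : g * (b⁻¹ * a⁻¹ * b) * g⁻¹ ∈ cj b A :=
    (Subgroup.mem_normalizer_iff.mp hgc _).mp hv
  have ha2 : b * (g * (b⁻¹ * a⁻¹ * b) * g⁻¹)⁻¹ * b⁻¹ ∈ A := by
    have := (cj b A).inv_mem hy1
    rwa [mem_cj] at this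
  have hgcB : g * cc b a * g⁻¹ ∈ B := (Subgroup.mem_normalizer_iff.mp hgB _).mp (h.cc_mem_B ha)
  have hc2B := h.cc_mem_B ha2
  obtain ⟨a₁, ha₁def⟩ : ∃ a₁, a₁ = g * a * g⁻¹ := ⟨_, rfl⟩
  obtain ⟨y₁, hy₁def⟩ : ∃ y₁, y₁ = g * (b⁻¹ * a⁻¹ * b) * g⁻¹ := ⟨_, rfl⟩
  obtain ⟨a₂, ha₂def⟩ : ∃ a₂, a₂ = b * y₁⁻¹ * b⁻¹ := ⟨_, rfl⟩
  rw [← hy₁def, ← ha₂def] at ha2 hc2B
  rw [← ha₁def] at ha1
  have e1 : g * cc b a * g⁻¹ = a₁ * y₁ := by rw [ha₁def, hy₁def, cc_eq]; group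
  have e2 : cc b a₂ = a₂ * y₁ := by rw [cc_eq, ha₂def]; group
  have e3 : a₁ * y₁ = (a₁ * a₂⁻¹) * cc b a₂ := by rw [e2]; group
  have h5 : a₁ * a₂⁻¹ ∈ A ⊓ B := by
    refine Subgroup.mem_inf.mpr ⟨mul_mem ha1 (inv_mem ha2), ?_⟩
    have : a₁ * a₂⁻¹ = (g * cc b a * g⁻¹) * (cc b a₂)⁻¹ := by rw [e1, e3]; group
    rw [this]
    exact mul_mem hgcB (inv_mem hc2B)
  have e4 : g * (k * cc b a) * g⁻¹ = (g * k * g⁻¹) * (g * cc b a * g⁻¹) := by group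
  rw [e4, e1, e3]
  exact mul_mem (K_le_repl (hKg k hk))
    (mul_mem (K_le_repl (h.inf_B_le_K h5)) (cc_mem_repl ha2))

/-- (9) `N(A) < N(A*)`. -/
theorem normalizer_lt_normalizer_repl [Finite S] (hbA : b ∉ Subgroup.normalizer (A : Set S))
    (hB : B.Normal)
    (hN : Subgroup.normalizer (A : Set S) ≤ Subgroup.normalizer ((cj b A : Subgroup S) : Set S)) :
    Subgroup.normalizer (A : Set S) < Subgroup.normalizer ((repl A b : Subgroup S) : Set S) := by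
  have hle : Subgroup.normalizer (A : Set S) ≤
      Subgroup.normalizer ((repl A b : Subgroup S) : Set S) := by
    refine le_trans ?_ h.normalizer_le_normalizer_repl
    refine le_inf (le_inf le_rfl hN) ?_
    haveI := hB
    rw [Subgroup.normalizer_eq_top (H := B)]
    exact le_top
  refine lt_of_le_of_ne hle ?_
  intro heq
  apply hbA
  rw [heq]
  exact h.mem_normalizer_repl

end Hyp

section classtwo

theorem pow_mul_comm_of_central {x y z : S} (hz : y * x = z * x * y)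
    (hzy : Commute z y) (n : ℕ) : y ^ n * x = z ^ n * x * y ^ n := by
  induction n with
  | zero => simp
  | succ n ih =>
    have h1 : Commute (z ^ n) y := hzy.pow_left n
    calc y ^ (n + 1) * x = y * (y ^ n * x) := by rw [pow_succ']; simp only [mul_assoc]
      _ = y * (z ^ n * x * y ^ n) := by rw [ih]
      _ = (y * z ^ n) * x * y ^ n := by simp only [mul_assoc]
      _ = (z ^ n * y) * x * y ^ n := by rw [h1.eq]
      _ = z ^ n * (y * x) * y ^ n := by simp only [mul_assoc]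
      _ = z ^ n * (z * x * y) * y ^ n := by rw [hz]
      _ = (z ^ n * z) * x * (y * y ^ n) := by simp only [mul_assoc]
      _ = z ^ (n + 1) * x * y ^ (n + 1) := by rw [← pow_succ, ← pow_succ']

theorem mul_pow_of_class_two {x y z : S} (hz : y * x = z * x * y) (hzx : Commute z x)
    (hzy : Commute z y) (n : ℕ) : (x * y) ^ n = z ^ (n.choose 2) * x ^ n * y ^ n := by
  induction n with
  | zero => simp
  | succ n ih =>
    have h1 := pow_mul_comm_of_central hz hzy n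
    have h2 : Commute (z ^ n) (x ^ n) := hzx.pow_pow n n
    have hc : (n + 1).choose 2 = n.choose 2 + n := by
      rw [Nat.choose_succ_succ' n 1, Nat.choose_one_right, add_comm]
    rw [pow_succ (x * y), ih, hc, pow_add]
    calc z ^ n.choose 2 * x ^ n * y ^ n * (x * y)
        = z ^ n.choose 2 * x ^ n * (y ^ n * x) * y := by simp only [mul_assoc]
      _ = z ^ n.choose 2 * x ^ n * (z ^ n * x * y ^ n) * y := by rw [h1]
      _ = z ^ n.choose 2 * (x ^ n * z ^ n) * x * y ^ n * y := by simp only [mul_assoc]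
      _ = z ^ n.choose 2 * (z ^ n * x ^ n) * x * y ^ n * y := by rw [h2.eq]
      _ = z ^ n.choose 2 * z ^ n * (x ^ n * x) * (y ^ n * y) := by simp only [mul_assoc]
      _ = z ^ n.choose 2 * z ^ n * x ^ (n + 1) * y ^ (n + 1) := by rw [← pow_succ, ← pow_succ]

theorem pow_eq_one_of_class_two {x y : S} {e : ℕ} (he : Odd e) (hx : x ^ e = 1) (hy : y ^ e = 1)
    (hzx : Commute (y * x * y⁻¹ * x⁻¹) x) (hzy : Commute (y * x * y⁻¹ * x⁻¹) y) :
    (x * y) ^ e = 1 := by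
  obtain ⟨z, hzdef⟩ : ∃ z, z = y * x * y⁻¹ * x⁻¹ := ⟨_, rfl⟩
  rw [← hzdef] at hzx hzy
  have hz : y * x = z * x * y := by rw [hzdef]; group
  have hze : z ^ e = 1 := by
    have h1 : z * x = y * x * y⁻¹ := by rw [hzdef]; group
    have h2 : (z * x) ^ e = 1 := by rw [h1, conj_pow, hx]; group
    rw [hzx.mul_pow, hx, mul_one] at h2
    exact h2
  rw [mul_pow_of_class_two hz hzx hzy, hx, hy, mul_one, mul_one]
  obtain ⟨m, hm⟩ := he
  have : e.choose 2 = e * m := by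
    subst hm
    rw [Nat.choose_two_right]
    have : (2 * m + 1) * (2 * m + 1 - 1) = 2 * ((2 * m + 1) * m) := by
      simp only [Nat.add_sub_cancel]; ring
    rw [this, Nat.mul_div_cancel_left _ (by norm_num)]
  rw [this, pow_mul, hze, one_pow]

end classtwo

namespace Hyp

variable {A B : Subgroup S} {b : S} (h : Hyp A B b)
include h

/-- (10) exponent. -/
theorem pow_eq_one_of_mem_repl {e : ℕ} (he : Odd e) (hA : ∀ a ∈ A, a ^ e = 1) {x : S}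
    (hx : x ∈ repl A b) : x ^ e = 1 := by
  obtain ⟨k, hk, a, ha, rfl⟩ := h.mem_repl.mp hx
  have hv : b⁻¹ * a⁻¹ * b ∈ cj b A := h.conj_mem_cj (A.inv_mem ha)
  have hka : k * a ∈ A := mul_mem (Subgroup.mem_inf.mp hk).1 ha
  have hz := h.comm_mem_K' hka hv
  have e1 : k * cc b a = (k * a) * (b⁻¹ * a⁻¹ * b) := by rw [cc_eq]; group
  rw [e1]
  apply pow_eq_one_of_class_two he (hA _ hka)
  · have e2 : b⁻¹ * a⁻¹ * b = b⁻¹ * a⁻¹ * b⁻¹⁻¹ := by rw [inv_inv]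
    rw [e2, conj_pow, inv_pow, hA a ha]
    group
  · exact h.K_comm_A hz hka
  · exact h.K_comm_cj hz hv

end Hyp


theorem odd_of_dvd_prime_pow {p n k : ℕ} (hp : p.Prime) (hp2 : p ≠ 2) (h : n ∣ p ^ k) : Odd n := by
  obtain ⟨j, _, rfl⟩ := (Nat.dvd_prime_pow hp).mp h
  exact (hp.eq_two_or_odd'.resolve_left hp2).pow

theorem glauberman_replacement [Finite S] {p : ℕ} [Fact p.Prime] (hS : IsPGroup p S)
    (B : Subgroup S) [hBn : B.Normal] (hB2 : p = 2 → IsMulCommutative B) (A : Subgroup S)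
    (hA : IsMulCommutative A) (hBA : ⁅B, B⁆ ≤ A)
    (hnot : ¬ B ≤ Subgroup.normalizer (A : Set S)) (b : S) (hb : b ∈ B)
    (hbN : b ∈ Subgroup.normalizer ((Subgroup.normalizer (A : Set S)) : Set S))
    (hbA : b ∉ Subgroup.normalizer (A : Set S)) :
    Nat.card ↥(repl A b) = Nat.card A ∧ IsMulCommutative ↥(repl A b) ∧ ⁅B, B⁆ ≤ repl A b ∧
    A ⊓ B < repl A b ⊓ B ∧ repl A b ⊓ B < B ∧
    A ≤ Subgroup.normalizer ((repl A b : Subgroup S) : Set S) ∧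
    repl A b ≤ Subgroup.normalizer (A : Set S) ∧
    b ∈ Subgroup.normalizer ((repl A b : Subgroup S) : Set S) ∧
    Subgroup.normalizer (A : Set S) < Subgroup.normalizer ((repl A b : Subgroup S) : Set S) ∧
    (p ≠ 2 → Monoid.exponent ↥(repl A b) ∣ Monoid.exponent A) := by
  have hp : p.Prime := Fact.out
  have hN : Subgroup.normalizer (A : Set S) ≤
      Subgroup.normalizer ((cj b A : Subgroup S) : Set S) := by
    intro g hg
    rw [normalizer_cj, mem_cj]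
    exact ((Subgroup.mem_normalizer_iff.mp hbN) g).mp hg
  have h : Hyp A B b :=
    { comm := fun x hx y hy => congrArg Subtype.val (hA.is_comm.comm ⟨x, hx⟩ ⟨y, hy⟩)
      normal := by rw [Subgroup.normalizer_eq_top (H := B)]; exact le_top
      le := hBA
      mem := hb
      norm1 := by
        intro y hy
        rw [mem_cj] at hy
        exact ((Subgroup.mem_normalizer_iff.mp hbN) y).mpr (Subgroup.le_normalizer hy)
      norm2 := Subgroup.le_normalizer.trans hN }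
  have hc : ∀ a ∈ A, ∀ a' ∈ A, b * zz b a a' = zz b a a' * b := by
    intro a ha a' ha'
    by_cases hp2 : p = 2
    · have hBc := hB2 hp2
      exact h.comm_zz_of_comm
        (fun x hx y hy => congrArg Subtype.val (hBc.is_comm.comm ⟨x, hx⟩ ⟨y, hy⟩)) ha ha'
    · obtain ⟨k, hk⟩ := hS b
      exact h.comm_zz_of_odd (odd_of_dvd_prime_pow hp hp2 (orderOf_dvd_of_pow_eq_one hk)) ha ha'
  refine ⟨h.card_repl, ⟨⟨fun x y => Subtype.ext (h.repl_comm hc x.2 y.2)⟩⟩, h.BB_le_repl,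
    h.inf_B_lt hbA, h.repl_inf_B_lt hnot, h.le_normalizer_repl, h.repl_le_normalizer,
    h.mem_normalizer_repl, h.normalizer_lt_normalizer_repl hbA hBn hN, ?_⟩
  intro hp2
  have hodd : Odd (Monoid.exponent A) := by
    obtain ⟨n, hn⟩ := (IsPGroup.iff_card.mp (hS.to_subgroup A))
    apply odd_of_dvd_prime_pow hp hp2 (k := n)
    rw [← hn]
    exact Group.exponent_dvd_nat_card
  apply Monoid.exponent_dvd_of_forall_pow_eq_one
  intro g
  apply Subtype.ext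
  rw [Subgroup.coe_pow, Subgroup.coe_one]
  apply h.pow_eq_one_of_mem_repl hodd _ g.2
  intro a ha
  have := Monoid.pow_exponent_eq_one (⟨a, ha⟩ : A)
  exact congrArg Subtype.val this

end Cfsg.Agent.Lead.GR
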