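import Mathlib
import Cfsg.Agent.Lead.GlaubRepl
import Cfsg.Agent.Helper1.Coprime
import Cfsg.Agent.Lead.Basic

set_option autoImplicit false

namespace Cfsg.Agent.Lead.GR

open Cfsg.Agent.Lead.Alp

variable {G : Type*} [Group G] [Finite G] {p : ℕ} [Fact p.Prime]

/-- One replacement step, in an ambient group: `P` is a `p`-subgroup normalizing `B ≤ P`,
`A ≤ P` abelian containing `[B,B]`, not normalized by `B`. -/
theorem exists_repl {P B A : Subgroup G} (hP : IsPGroup p P) (hBP : B ≤ P)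
    (hPB : P ≤ Subgroup.normalizer (B : Set G))
    (hB2 : p = 2 → ∀ x ∈ B, ∀ y ∈ B, x * y = y * x)
    (hAP : A ≤ P) (hA : ∀ x ∈ A, ∀ y ∈ A, x * y = y * x) (hBA : ⁅B, B⁆ ≤ A)
    (hnot : ¬ B ≤ Subgroup.normalizer (A : Set G)) :
    ∃ b ∈ B, ∃ A' : Subgroup G, A' ≤ A ⊔ cj b A ∧ (∀ x ∈ A', ∀ y ∈ A', x * y = y * x) ∧
      Nat.card A' = Nat.card A ∧ ⁅B, B⁆ ≤ A' ∧ A ⊓ B < A' ⊓ B ∧ A' ⊓ B < B ∧
      A' ≤ Subgroup.normalizer (A : Set G) ∧
      A ≤ Subgroup.normalizer (A' : Set G) ∧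
      (p ≠ 2 → ∀ e : ℕ, Odd e → (∀ a ∈ A, a ^ e = 1) → ∀ x ∈ A', x ^ e = 1) := by
  have hp : p.Prime := Fact.out
  -- N₁ = N_P(A)
  obtain ⟨N₁, hN₁⟩ : ∃ N₁ : Subgroup G, N₁ = P ⊓ Subgroup.normalizer (A : Set G) := ⟨_, rfl⟩
  have hN₁P : N₁ ≤ P := hN₁ ▸ inf_le_left
  have hN₁A : N₁ ≤ Subgroup.normalizer (A : Set G) := hN₁ ▸ inf_le_right
  have hAN₁ : A ≤ N₁ := hN₁ ▸ le_inf hAP Subgroup.le_normalizer
  have hN₁B : N₁ ≤ Subgroup.normalizer (B : Set G) := hN₁P.trans hPB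
  have hMP : B ⊔ N₁ ≤ P := sup_le hBP hN₁P
  have hM : IsPGroup p (B ⊔ N₁ : Subgroup G) := hP.to_le hMP
  have hne : N₁ ≠ B ⊔ N₁ := by
    intro heq
    apply hnot
    have : B ≤ N₁ := by rw [heq]; exact le_sup_left
    exact this.trans hN₁A
  have hlt := card_lt_inf_normalizer hM (le_sup_right : N₁ ≤ B ⊔ N₁) hne
  -- an element of `(B ⊔ N₁) ⊓ N(N₁)` outside `N₁`
  obtain ⟨x, hx, hxN⟩ : ∃ x ∈ (B ⊔ N₁) ⊓ Subgroup.normalizer (N₁ : Set G), x ∉ N₁ := by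
    by_contra hcon
    push Not at hcon
    have hle : (B ⊔ N₁) ⊓ Subgroup.normalizer (N₁ : Set G) ≤ N₁ := hcon
    exact absurd (Subgroup.card_le_of_le hle) (not_le.mpr hlt)
  obtain ⟨hxM, hxN'⟩ := Subgroup.mem_inf.mp hx
  obtain ⟨b, hb, n, hn, rfl⟩ := Helper1.mem_sup_of_le_normalizer hN₁B hxM
  have hbN : b ∈ Subgroup.normalizer (N₁ : Set G) := by
    have := mul_mem hxN' (inv_mem (Subgroup.le_normalizer hn))
    rwa [mul_inv_cancel_right] at this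
  have hbN₁ : b ∉ N₁ := fun hcon => hxN (mul_mem hcon hn)
  have hbP : b ∈ P := hBP hb
  have hbA : b ∉ Subgroup.normalizer (A : Set G) := by
    intro hcon
    apply hbN₁
    rw [hN₁]
    exact Subgroup.mem_inf.mpr ⟨hbP, hcon⟩
  have h : Hyp A B b :=
    { comm := hA
      normal := hAP.trans hPB
      le := hBA
      mem := hb
      norm1 := by
        intro y hy
        rw [mem_cj] at hy
        exact hN₁A (((Subgroup.mem_normalizer_iff.mp hbN) y).mpr (hAN₁ hy))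
      norm2 := by
        intro a ha
        rw [normalizer_cj, mem_cj]
        exact hN₁A (((Subgroup.mem_normalizer_iff.mp hbN) a).mp (hAN₁ ha)) }
  have hc : ∀ a ∈ A, ∀ a' ∈ A, b * zz b a a' = zz b a a' * b := by
    intro a ha a' ha'
    by_cases hp2 : p = 2
    · exact h.comm_zz_of_comm (hB2 hp2) ha ha'
    · obtain ⟨k, hk⟩ := hP ⟨b, hbP⟩
      have hk' : b ^ p ^ k = 1 := by
        have := congrArg Subtype.val hk
        simpa using this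
      exact h.comm_zz_of_odd (odd_of_dvd_prime_pow hp hp2 (orderOf_dvd_of_pow_eq_one hk')) ha ha'
  refine ⟨b, hb, repl A b, ?_, fun x hx y hy => h.repl_comm hc hx hy, h.card_repl,
    h.BB_le_repl, h.inf_B_lt hbA, h.repl_inf_B_lt hnot, h.repl_le_normalizer,
    h.le_normalizer_repl, ?_⟩
  · rw [← h.sup_repl]; exact le_sup_right
  · intro _ e he hAe x hx
    exact h.pow_eq_one_of_mem_repl he hAe hx


/-- A class of subgroups closed under replacement (relative to `P`, `B`). -/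
structure ReplClass (p : ℕ) (P B : Subgroup G) (C : Set (Subgroup G)) : Prop where
  le : ∀ A ∈ C, A ≤ P
  comm : ∀ A ∈ C, ∀ x ∈ A, ∀ y ∈ A, x * y = y * x
  closed : ∀ A ∈ C, ∀ b ∈ B, ∀ A' : Subgroup G, A' ≤ A ⊔ cj b A →
    (∀ x ∈ A', ∀ y ∈ A', x * y = y * x) → Nat.card A' = Nat.card A →
    (p ≠ 2 → ∀ e : ℕ, Odd e → (∀ a ∈ A, a ^ e = 1) → ∀ x ∈ A', x ^ e = 1) → A' ∈ C

section cls

variable {P B : Subgroup G} {C : Set (Subgroup G)}

theorem ReplClass.step (hC : ReplClass p P B C) (hP : IsPGroup p P) (hBP : B ≤ P)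
    (hPB : P ≤ Subgroup.normalizer (B : Set G))
    (hB2 : p = 2 → ∀ x ∈ B, ∀ y ∈ B, x * y = y * x)
    {A : Subgroup G} (hA : A ∈ C) (hBA : ⁅B, B⁆ ≤ A)
    (hnot : ¬ B ≤ Subgroup.normalizer (A : Set G)) :
    ∃ A' ∈ C, ⁅B, B⁆ ≤ A' ∧ A ⊓ B < A' ⊓ B ∧ A' ⊓ B < B ∧
      A' ≤ Subgroup.normalizer (A : Set G) := by
  obtain ⟨b, hb, A', h1, h2, h3, h4, h5, h6, h7, _, h9⟩ :=
    exists_repl hP hBP hPB hB2 (hC.le A hA) (hC.comm A hA) hBA hnot
  exact ⟨A', hC.closed A hA b hb A' h1 h2 h3 h9, h4, h5, h6, h7⟩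

/-- If every member of the class normalized by `B` contains `B`, then every member contains `B`. -/
theorem ReplClass.le_of_forall_normalized (hC : ReplClass p P B C) (hP : IsPGroup p P)
    (hBP : B ≤ P) (hPB : P ≤ Subgroup.normalizer (B : Set G))
    (hB2 : p = 2 → ∀ x ∈ B, ∀ y ∈ B, x * y = y * x)
    (hall : ∀ A ∈ C, ⁅B, B⁆ ≤ A → B ≤ Subgroup.normalizer (A : Set G) → B ≤ A) :
    ∀ A ∈ C, ⁅B, B⁆ ≤ A → B ≤ A := by
  suffices H : ∀ n : ℕ, ∀ A ∈ C, ⁅B, B⁆ ≤ A → Nat.card B - Nat.card (A ⊓ B : Subgroup G) = n →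
      B ≤ A from fun A hA hBA => H _ A hA hBA rfl
  intro n
  induction n using Nat.strong_induction_on with
  | _ n ih =>
    intro A hA hBA hn
    by_cases hN : B ≤ Subgroup.normalizer (A : Set G)
    · exact hall A hA hBA hN
    · obtain ⟨A', hA', hBA', hlt, hlt2, _⟩ := hC.step hP hBP hPB hB2 hA hBA hN
      have hc1 : Nat.card (A ⊓ B : Subgroup G) < Nat.card (A' ⊓ B : Subgroup G) :=
        Cfsg.Agent.Lead.card_lt_of_lt hlt
      have hc2 : Nat.card (A' ⊓ B : Subgroup G) < Nat.card B := Cfsg.Agent.Lead.card_lt_of_lt hlt2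
      have := ih (Nat.card B - Nat.card (A' ⊓ B : Subgroup G)) (by omega) A' hA' hBA' rfl
      exact absurd (le_inf this le_rfl) (not_le_of_gt hlt2)

/-- Existence of a member normalized by `B`. -/
theorem ReplClass.exists_normalized (hC : ReplClass p P B C) (hP : IsPGroup p P)
    (hBP : B ≤ P) (hPB : P ≤ Subgroup.normalizer (B : Set G))
    (hB2 : p = 2 → ∀ x ∈ B, ∀ y ∈ B, x * y = y * x) :
    ∀ A ∈ C, ⁅B, B⁆ ≤ A → ∃ A' ∈ C, ⁅B, B⁆ ≤ A' ∧ B ≤ Subgroup.normalizer (A' : Set G) ∧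
      A ⊓ B ≤ A' ⊓ B ∧ (¬ B ≤ A → ¬ B ≤ A') := by
  suffices H : ∀ n : ℕ, ∀ A ∈ C, ⁅B, B⁆ ≤ A → Nat.card B - Nat.card (A ⊓ B : Subgroup G) = n →
      ∃ A' ∈ C, ⁅B, B⁆ ≤ A' ∧ B ≤ Subgroup.normalizer (A' : Set G) ∧
      A ⊓ B ≤ A' ⊓ B ∧ (¬ B ≤ A → ¬ B ≤ A') from fun A hA hBA => H _ A hA hBA rfl
  intro n
  induction n using Nat.strong_induction_on with
  | _ n ih =>
    intro A hA hBA hn
    by_cases hN : B ≤ Subgroup.normalizer (A : Set G)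
    · exact ⟨A, hA, hBA, hN, le_rfl, id⟩
    · obtain ⟨A', hA', hBA', hlt, hlt2, _⟩ := hC.step hP hBP hPB hB2 hA hBA hN
      have hc1 : Nat.card (A ⊓ B : Subgroup G) < Nat.card (A' ⊓ B : Subgroup G) :=
        Cfsg.Agent.Lead.card_lt_of_lt hlt
      have hc2 : Nat.card (A' ⊓ B : Subgroup G) < Nat.card B := Cfsg.Agent.Lead.card_lt_of_lt hlt2
      obtain ⟨A'', hA'', h1, h2, h3, h4⟩ :=
        ih (Nat.card B - Nat.card (A' ⊓ B : Subgroup G)) (by omega) A' hA' hBA' rfl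
      refine ⟨A'', hA'', h1, h2, hlt.le.trans h3, fun _ => h4 ?_⟩
      intro hcon
      exact absurd (le_inf hcon le_rfl) (not_le_of_gt hlt2)

end cls

end Cfsg.Agent.Lead.GR
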