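import Mathlib
import Cfsg.Prelude.Def_PLocal
import Cfsg.Agent.Lead.GlaubRepl2
import Cfsg.Agent.Lead.FusionNormalSub
import Cfsg.Agent.Helper1.Cores
import Cfsg.Agent.Helper1.Fitting
import Cfsg.Agent.Helper1.PQLemma

set_option autoImplicit false

namespace Cfsg.Agent.Lead.ZJ

open Cfsg.Agent.Lead.Alp Cfsg.Agent.Lead.GR

variable {G : Type*} [Group G]

/-- An abstract class of "good" abelian subgroups (abelian, or elementary abelian). -/
structure Good (G : Type*) [Group G] where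
  good : Subgroup G → Prop
  map : ∀ (φ : G ≃* G) (A : Subgroup G), good A → good (A.map φ.toMonoidHom)
  comm : ∀ A, good A → ∀ x ∈ A, ∀ y ∈ A, x * y = y * x
  bot : good ⊥
  repl : ∀ A A' : Subgroup G, good A → (∀ x ∈ A', ∀ y ∈ A', x * y = y * x) →
    Nat.card A' = Nat.card A →
    (∀ e : ℕ, Odd e → (∀ a ∈ A, a ^ e = 1) → ∀ x ∈ A', x ^ e = 1) → good A'

theorem map_symm_map (φ : G ≃* G) (P : Subgroup G) :
    (P.map φ.toMonoidHom).map φ.symm.toMonoidHom = P := by
  ext x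
  simp only [Subgroup.mem_map, MulEquiv.coe_toMonoidHom, exists_exists_and_eq_and,
    MulEquiv.symm_apply_apply, exists_eq_right]

theorem map_map_symm (φ : G ≃* G) (P : Subgroup G) :
    (P.map φ.symm.toMonoidHom).map φ.toMonoidHom = P := by
  have := map_symm_map φ.symm P
  rwa [MulEquiv.symm_symm] at this

namespace Good

variable (𝔤 : Good G)

/-- The good subgroups of `P` of largest order. -/
def fam (P : Subgroup G) : Set (Subgroup G) :=
  {A | A ≤ P ∧ 𝔤.good A ∧ ∀ A' : Subgroup G, A' ≤ P → 𝔤.good A' → Nat.card A' ≤ Nat.card A}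

/-- The intersection of the family. -/
def inter (P : Subgroup G) : Subgroup G := sInf (𝔤.fam P)

theorem fam_nonempty [Finite G] (P : Subgroup G) : (𝔤.fam P).Nonempty := by
  obtain ⟨A, hA, hmax⟩ := Set.exists_max_image {A : Subgroup G | A ≤ P ∧ 𝔤.good A}
    (fun A => Nat.card A) (Set.toFinite _) ⟨⊥, bot_le, 𝔤.bot⟩
  exact ⟨A, hA.1, hA.2, fun A' h1 h2 => hmax A' ⟨h1, h2⟩⟩

variable {𝔤}

theorem inter_le_of_mem {P A : Subgroup G} (hA : A ∈ 𝔤.fam P) : 𝔤.inter P ≤ A := sInf_le hA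

variable (𝔤)

theorem inter_le [Finite G] (P : Subgroup G) : 𝔤.inter P ≤ P := by
  obtain ⟨A, hA⟩ := 𝔤.fam_nonempty P
  exact (inter_le_of_mem hA).trans hA.1

theorem inter_comm [Finite G] (P : Subgroup G) :
    ∀ x ∈ 𝔤.inter P, ∀ y ∈ 𝔤.inter P, x * y = y * x := by
  obtain ⟨A, hA⟩ := 𝔤.fam_nonempty P
  intro x hx y hy
  exact 𝔤.comm A hA.2.1 x (inter_le_of_mem hA hx) y (inter_le_of_mem hA hy)

variable {𝔤}

theorem map_mem_fam (φ : G ≃* G) {P A : Subgroup G} (hA : A ∈ 𝔤.fam P) :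
    A.map φ.toMonoidHom ∈ 𝔤.fam (P.map φ.toMonoidHom) := by
  refine ⟨Subgroup.map_mono hA.1, 𝔤.map φ A hA.2.1, ?_⟩
  intro A' hA'P hA'
  have h1 : A'.map φ.symm.toMonoidHom ≤ P := by
    have := Subgroup.map_mono (f := φ.symm.toMonoidHom) hA'P
    rwa [map_symm_map] at this
  have h2 := 𝔤.map φ.symm A' hA'
  have h3 := hA.2.2 _ h1 h2
  rw [Subgroup.card_map_of_injective (f := φ.symm.toMonoidHom) φ.symm.injective] at h3
  rw [Subgroup.card_map_of_injective (f := φ.toMonoidHom) φ.injective]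
  exact h3

theorem inter_map (φ : G ≃* G) (P : Subgroup G) :
    𝔤.inter (P.map φ.toMonoidHom) = (𝔤.inter P).map φ.toMonoidHom := by
  ext x
  constructor
  · intro hx
    refine ⟨φ.symm x, ?_, by simp⟩
    rw [SetLike.mem_coe]
    apply Subgroup.mem_sInf.mpr
    intro A hA
    have h1 := Subgroup.mem_sInf.mp hx _ (map_mem_fam φ hA)
    obtain ⟨a, ha, hax⟩ := h1
    have : φ.symm x = a := by rw [← hax]; simp
    rw [this]; exact ha
  · rintro ⟨y, hy, rfl⟩
    apply Subgroup.mem_sInf.mpr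
    intro A' hA'
    have h1 := map_mem_fam φ.symm hA'
    rw [map_symm_map] at h1
    have h2 := Subgroup.mem_sInf.mp hy _ h1
    obtain ⟨a', ha', hay⟩ := h2
    have : (φ.toMonoidHom y) = a' := by
      rw [← hay]; simp
    rw [this]; exact ha'

theorem cj_inter [Finite G] (g : G) (P : Subgroup G) : 𝔤.inter (cj g P) = cj g (𝔤.inter P) :=
  inter_map (MulAut.conj g⁻¹) P

theorem normalizer_le_normalizer_inter [Finite G] (P : Subgroup G) :
    Subgroup.normalizer (P : Set G) ≤ Subgroup.normalizer ((𝔤.inter P : Subgroup G) : Set G) := by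
  intro g hg
  apply mem_normalizer_of_cj_eq_self
  rw [← cj_inter, cj_eq_self_of_mem_normalizer hg]

theorem mem_fam_of_le {P P₁ A' : Subgroup G} (hP₁ : P₁ ≤ P) (hA' : A' ∈ 𝔤.fam P)
    (hle : A' ≤ P₁) : A' ∈ 𝔤.fam P₁ :=
  ⟨hle, hA'.2.1, fun A'' h1 h2 => hA'.2.2 A'' (h1.trans hP₁) h2⟩

theorem fam_subset_of_mem {P P₁ A : Subgroup G} (hP₁ : P₁ ≤ P) (hA : A ∈ 𝔤.fam P)
    (hle : A ≤ P₁) : 𝔤.fam P₁ ⊆ 𝔤.fam P := by
  intro A'' hA''
  refine ⟨hA''.1.trans hP₁, hA''.2.1, fun A' h1 h2 => ?_⟩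
  exact (hA.2.2 A' h1 h2).trans (hA''.2.2 A hle hA.2.1)

theorem inter_le_inter {P P₁ A : Subgroup G} (hP₁ : P₁ ≤ P) (hA : A ∈ 𝔤.fam P)
    (hle : A ≤ P₁) : 𝔤.inter P ≤ 𝔤.inter P₁ :=
  sInf_le_sInf (fam_subset_of_mem hP₁ hA hle)

theorem cj_le_of_mem {A P : Subgroup G} (hA : A ≤ P) {b : G} (hb : b ∈ P) : cj b A ≤ P := by
  intro y hy
  rw [mem_cj] at hy
  have := P.mul_mem (P.mul_mem (P.inv_mem hb) (hA hy)) hb
  have e : b⁻¹ * (b * y * b⁻¹) * b = y := by group
  rwa [e] at this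

theorem replClass [Finite G] {p : ℕ} (hp2 : p ≠ 2) {P B : Subgroup G} (hBP : B ≤ P) :
    ReplClass p P B (𝔤.fam P) where
  le := fun A hA => hA.1
  comm := fun A hA => 𝔤.comm A hA.2.1
  closed := fun A hA b hb A' hle hcomm hcard hexp =>
    ⟨hle.trans (sup_le hA.1 (cj_le_of_mem hA.1 (hBP hb))),
      𝔤.repl A A' hA.2.1 hcomm hcard (hexp hp2), fun A'' h1 h2 => hcard ▸ hA.2.2 A'' h1 h2⟩

end Good

section stab

variable [Finite G] {p : ℕ} [Fact p.Prime]

/-- The preimage of `O_p(G / C_G(V))`. -/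
def stab (p : ℕ) (V : Subgroup G) [V.Normal] : Subgroup G :=
  (Cfsg.pCore p (G ⧸ Subgroup.centralizer (V : Set G))).comap
    (QuotientGroup.mk' (Subgroup.centralizer (V : Set G)))

variable (V : Subgroup G) [V.Normal]

instance stab_normal : (stab p V).Normal :=
  (Helper1.pCore_normal p).comap _

omit [Finite G] [Fact p.Prime] in
theorem centralizer_le_stab : Subgroup.centralizer (V : Set G) ≤ stab p V := by
  intro c hc
  show (QuotientGroup.mk' _ c) ∈ Cfsg.pCore p _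
  have : QuotientGroup.mk' (Subgroup.centralizer (V : Set G)) c = 1 := by
    rw [QuotientGroup.mk'_apply, QuotientGroup.eq_one_iff]; exact hc
  rw [this]; exact one_mem _

theorem relIndex_centralizer_stab :
    ∃ k : ℕ, (Subgroup.centralizer (V : Set G)).relIndex (stab p V) = p ^ k := by
  have h1 : Subgroup.centralizer (V : Set G) =
      (⊥ : Subgroup (G ⧸ Subgroup.centralizer (V : Set G))).comap
        (QuotientGroup.mk' (Subgroup.centralizer (V : Set G))) := by
    rw [MonoidHom.comap_bot, QuotientGroup.ker_mk']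
  have h2 : (stab p V).map (QuotientGroup.mk' (Subgroup.centralizer (V : Set G))) =
      Cfsg.pCore p (G ⧸ Subgroup.centralizer (V : Set G)) :=
    Subgroup.map_comap_eq_self_of_surjective (QuotientGroup.mk'_surjective _) _
  have h3 : (Subgroup.centralizer (V : Set G)).relIndex (stab p V) =
      Nat.card (Cfsg.pCore p (G ⧸ Subgroup.centralizer (V : Set G))) := by
    conv_lhs => rw [h1]
    rw [Subgroup.relIndex_comap, h2, Subgroup.relIndex_bot_left]
  rw [h3]
  exact IsPGroup.iff_card.mp (Helper1.pCore_isPGroup p)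

theorem stab_le_sup (P : Sylow p G) :
    stab p V ≤ Subgroup.centralizer (V : Set G) ⊔ ((P : Subgroup G) ⊓ stab p V) := by
  have hp : p.Prime := Fact.out
  rw [← Subgroup.relIndex_eq_one]
  obtain ⟨k, hk⟩ := relIndex_centralizer_stab (p := p) V
  have h1 : (Subgroup.centralizer (V : Set G) ⊔ ((P : Subgroup G) ⊓ stab p V)).relIndex (stab p V) ∣
      p ^ k := hk ▸ Subgroup.relIndex_dvd_of_le_left _ le_sup_left
  have h2 : (Subgroup.centralizer (V : Set G) ⊔ ((P : Subgroup G) ⊓ stab p V)).relIndex (stab p V) ∣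
      ((P : Subgroup G) ⊓ stab p V).relIndex (stab p V) :=
    Subgroup.relIndex_dvd_of_le_left _ le_sup_right
  have h3 : ¬ p ∣ ((P : Subgroup G) ⊓ stab p V).relIndex (stab p V) :=
    not_dvd_relIndex_of_card_eq_ppart inf_le_right (Fusion.card_sylow_inf_normal p P (stab p V))
  obtain ⟨j, _, hj⟩ := (Nat.dvd_prime_pow hp).mp h1
  rcases Nat.eq_zero_or_pos j with rfl | hjpos
  · rw [hj, pow_zero]
  · exfalso
    apply h3
    refine dvd_trans ?_ h2
    rw [hj]
    exact dvd_pow_self p hjpos.ne'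

omit [Finite G] [Fact p.Prime] in
/-- An abelian subgroup normalized by `V` acts quadratically, hence lies in `stab`. -/
theorem le_stab_of_normalized (hst : Cfsg.IsPStableOn p V) {A : Subgroup G}
    (hA : ∀ x ∈ A, ∀ y ∈ A, x * y = y * x) (hVA : V ≤ Subgroup.normalizer (A : Set G)) :
    A ≤ stab p V := by
  intro a ha
  apply hst a
  have h1 : ⁅V, Subgroup.zpowers a⁆ ≤ A := by
    rw [Subgroup.commutator_le]
    intro x hx w hw
    have hwA : w ∈ A := (Subgroup.zpowers_le.mpr ha) hw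
    rw [commutatorElement_def]
    have := (Subgroup.mem_normalizer_iff.mp (hVA hx) w).mp hwA
    exact A.mul_mem this (A.inv_mem hwA)
  have h2 : ⁅A, Subgroup.zpowers a⁆ = ⊥ := by
    rw [eq_bot_iff, Subgroup.commutator_le]
    intro x hx w hw
    have hwA : w ∈ A := (Subgroup.zpowers_le.mpr ha) hw
    rw [Subgroup.mem_bot, commutatorElement_def, hA x hx w hwA]
    group
  rw [eq_bot_iff, ← h2]
  exact Subgroup.commutator_mono h1 le_rfl

end stab


section main

/-- If `[z, y] ∈ Y` for `z ∈ Z₁`, `y ∈ B` (with `B`, `Y` normal), the same holds for `z` in the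
normal closure of `Z₁`. -/
theorem commutator_normalClosure_mem {Z₁ B Y : Subgroup G} [hB : B.Normal] [hY : Y.Normal]
    (h : ∀ z ∈ Z₁, ∀ y ∈ B, z * y * z⁻¹ * y⁻¹ ∈ Y) :
    ∀ x ∈ Subgroup.normalClosure (Z₁ : Set G), ∀ y ∈ B, x * y * x⁻¹ * y⁻¹ ∈ Y := by
  intro x hx
  unfold Subgroup.normalClosure at hx
  induction hx using Subgroup.closure_induction with
  | mem x hx =>
    intro y hy
    obtain ⟨z, hz, hzx⟩ := Group.mem_conjugatesOfSet_iff.mp hx
    obtain ⟨g, hg⟩ := isConj_iff.mp hzx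
    subst hg
    have hy' : g⁻¹ * y * g⁻¹⁻¹ ∈ B := hB.conj_mem y hy g⁻¹
    have h1 := h z hz _ hy'
    have h2 := hY.conj_mem _ h1 g
    have e : g * (z * (g⁻¹ * y * g⁻¹⁻¹) * z⁻¹ * (g⁻¹ * y * g⁻¹⁻¹)⁻¹) * g⁻¹ =
        g * z * g⁻¹ * y * (g * z * g⁻¹)⁻¹ * y⁻¹ := by group
    rwa [e] at h2
  | one =>
    intro y _
    have : (1 : G) * y * 1⁻¹ * y⁻¹ = 1 := by group
    rw [this]; exact one_mem _
  | mul x₁ x₂ _ _ ih₁ ih₂ =>
    intro y hy
    have h1 := hY.conj_mem _ (ih₂ y hy) x₁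
    have h2 := ih₁ y hy
    have e : x₁ * x₂ * y * (x₁ * x₂)⁻¹ * y⁻¹ =
        (x₁ * (x₂ * y * x₂⁻¹ * y⁻¹) * x₁⁻¹) * (x₁ * y * x₁⁻¹ * y⁻¹) := by group
    rw [e]; exact mul_mem h1 h2
  | inv x _ ih =>
    intro y hy
    have h1 := hY.conj_mem _ (inv_mem (ih y hy)) x⁻¹
    have e : x⁻¹ * y * x⁻¹⁻¹ * y⁻¹ = x⁻¹ * (x * y * x⁻¹ * y⁻¹)⁻¹ * x⁻¹⁻¹ := by group
    rw [e]; exact h1

theorem conj_mem_inf_of_mem_normalizer {X B : Subgroup G} [hB : B.Normal] {g : G}
    (hg : g ∈ Subgroup.normalizer (X : Set G)) {x : G} (hx : x ∈ X ⊓ B) :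
    g * x * g⁻¹ ∈ X ⊓ B :=
  Subgroup.mem_inf.mpr ⟨(Subgroup.mem_normalizer_iff.mp hg x).mp (Subgroup.mem_inf.mp hx).1,
    hB.conj_mem x (Subgroup.mem_inf.mp hx).2 g⟩

variable [Finite G] {p : ℕ} [Fact p.Prime]

theorem le_sylow_of_normal (P : Sylow p G) {B : Subgroup G} (hBn : B.Normal) (hBp : IsPGroup p B) :
    B ≤ P :=
  (Helper1.le_pCore hBn hBp).trans (Helper1.pCore_le_sylow P)

/-- The core of the ZJ-theorem: `I(P) ∩ B` is normal in `G` for every normal `p`-subgroup `B`. -/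
theorem inter_inf_normal (𝔤 : Good G) (hp2 : p ≠ 2) (P : Sylow p G)
    (hst : ∀ (V : Subgroup G) [V.Normal], IsPGroup p V → Cfsg.IsPStableOn p V) :
    ∀ B : Subgroup G, B.Normal → IsPGroup p B → (𝔤.inter (P : Subgroup G) ⊓ B).Normal := by
  suffices H : ∀ n : ℕ, ∀ B : Subgroup G, B.Normal → IsPGroup p B → Nat.card B = n →
      (𝔤.inter (P : Subgroup G) ⊓ B).Normal from fun B hBn hBp => H _ B hBn hBp rfl
  intro n
  induction n using Nat.strong_induction_on with
  | _ n ih =>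
  intro B hBn hBp hcard
  haveI := hBn
  obtain ⟨Z, hZ⟩ : ∃ Z, Z = 𝔤.inter (P : Subgroup G) := ⟨_, rfl⟩
  rw [← hZ]
  have hBP : B ≤ P := le_sylow_of_normal P hBn hBp
  by_cases hB1 : Subgroup.normalClosure ((Z ⊓ B : Subgroup G) : Set G) = B
  swap
  · have hB₁le : Subgroup.normalClosure ((Z ⊓ B : Subgroup G) : Set G) ≤ B :=
      Subgroup.normalClosure_le_normal inf_le_right
    have hlt : Subgroup.normalClosure ((Z ⊓ B : Subgroup G) : Set G) < B := lt_of_le_of_ne hB₁le hB1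
    have := ih _ (hcard ▸ card_lt_of_lt hlt) _ Subgroup.normalClosure_normal
      (hBp.to_le hB₁le) rfl
    have heq : Z ⊓ Subgroup.normalClosure ((Z ⊓ B : Subgroup G) : Set G) = Z ⊓ B :=
      le_antisymm (inf_le_inf_left _ hB₁le) (le_inf inf_le_left Subgroup.le_normalClosure)
    rw [← hZ, heq] at this
    exact this
  · by_cases hBbot : B = ⊥
    · subst hBbot
      rw [inf_bot_eq]
      infer_instance
    · have hBB_lt : ⁅B, B⁆ < B :=
        Helper1.commutator_lt_of_isPGroup hBp hBp Subgroup.le_normalizer hBbot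
      have hYn : (Z ⊓ ⁅B, B⁆).Normal := by
        rw [hZ]
        exact ih _ (hcard ▸ card_lt_of_lt hBB_lt) ⁅B, B⁆ inferInstance (hBp.to_le hBB_lt.le) rfl
      have hPZ : (P : Subgroup G) ≤ Subgroup.normalizer (Z : Set G) := by
        rw [hZ]
        exact Subgroup.le_normalizer.trans (Good.normalizer_le_normalizer_inter _)
      have h1 : ∀ z ∈ Z ⊓ B, ∀ y ∈ B, z * y * z⁻¹ * y⁻¹ ∈ Z ⊓ ⁅B, B⁆ := by
        intro z hz y hy
        obtain ⟨hzZ, hzB⟩ := Subgroup.mem_inf.mp hz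
        refine Subgroup.mem_inf.mpr ⟨?_, ?_⟩
        · have h2 : y * z⁻¹ * y⁻¹ ∈ Z :=
            (Subgroup.mem_normalizer_iff.mp (hPZ (hBP hy)) z⁻¹).mp (inv_mem hzZ)
          have e : z * y * z⁻¹ * y⁻¹ = z * (y * z⁻¹ * y⁻¹) := by group
          rw [e]; exact mul_mem hzZ h2
        · have := Subgroup.commutator_mem_commutator hzB hy
          rwa [commutatorElement_def] at this
      have h2 := commutator_normalClosure_mem h1
      rw [hB1] at h2
      have hBBZ : ⁅B, B⁆ ≤ Z := by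
        refine le_trans ?_ (inf_le_left : Z ⊓ ⁅B, B⁆ ≤ Z)
        rw [Subgroup.commutator_le]
        intro x hx y hy
        rw [commutatorElement_def]
        exact h2 x hx y hy
      have hC : ReplClass p (P : Subgroup G) B (𝔤.fam (P : Subgroup G)) := Good.replClass hp2 hBP
      have hPB : (P : Subgroup G) ≤ Subgroup.normalizer (B : Set G) := by
        rw [Subgroup.normalizer_eq_top (H := B)]; exact le_top
      have hB2 : p = 2 → ∀ x ∈ B, ∀ y ∈ B, x * y = y * x := fun h => absurd h hp2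
      obtain ⟨A₀, hA₀⟩ := 𝔤.fam_nonempty (P : Subgroup G)
      have hZA₀ : Z ≤ A₀ := hZ ▸ Good.inter_le_of_mem hA₀
      obtain ⟨A, hA, _, hBNA, _, _⟩ :=
        hC.exists_normalized P.2 hBP hPB hB2 A₀ hA₀ (hBBZ.trans hZA₀)
      have hAL : A ≤ stab p B := le_stab_of_normalized B (hst B hBp) (𝔤.comm A hA.2.1) hBNA
      have hAP₁ : A ≤ (P : Subgroup G) ⊓ stab p B := le_inf hA.1 hAL
      have hZX : Z ≤ 𝔤.inter ((P : Subgroup G) ⊓ stab p B) :=
        hZ ▸ Good.inter_le_inter inf_le_left hA hAP₁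
      have hP₁X : (P : Subgroup G) ⊓ stab p B ≤
          Subgroup.normalizer ((𝔤.inter ((P : Subgroup G) ⊓ stab p B) : Subgroup G) : Set G) :=
        Subgroup.le_normalizer.trans (Good.normalizer_le_normalizer_inter _)
      have hXBn : (𝔤.inter ((P : Subgroup G) ⊓ stab p B) ⊓ B).Normal := by
        refine ⟨fun x hx g => ?_⟩
        obtain ⟨n, hn, l, hl, rfl⟩ := Fusion.frattini_decomp p P (stab p B) g
        have hl' := stab_le_sup B P hl
        rw [Subgroup.mem_sup_of_normal_left] at hl'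
        obtain ⟨c, hc, y, hy, rfl⟩ := hl'
        have h3 := conj_mem_inf_of_mem_normalizer (B := B) (hP₁X hy) hx
        have h4 : c * (y * x * y⁻¹) * c⁻¹ = y * x * y⁻¹ := by
          have := (Subgroup.mem_centralizer_iff.mp hc) _ (Subgroup.mem_inf.mp h3).2
          rw [← this]; group
        have h5 := conj_mem_inf_of_mem_normalizer (B := B)
          (Good.normalizer_le_normalizer_inter (𝔤 := 𝔤) _ hn) h3
        have e : n * (c * y) * x * (n * (c * y))⁻¹ = n * (c * (y * x * y⁻¹) * c⁻¹) * n⁻¹ := by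
          group
        rw [e, h4]
        exact h5
      have hBX : B ≤ 𝔤.inter ((P : Subgroup G) ⊓ stab p B) := by
        have : Subgroup.normalClosure ((Z ⊓ B : Subgroup G) : Set G) ≤
            𝔤.inter ((P : Subgroup G) ⊓ stab p B) ⊓ B :=
          Subgroup.normalClosure_le_normal (le_inf (inf_le_left.trans hZX) inf_le_right)
        rw [hB1] at this
        exact this.trans inf_le_left
      have hall : ∀ A' ∈ 𝔤.fam (P : Subgroup G), ⁅B, B⁆ ≤ A' →
          B ≤ Subgroup.normalizer (A' : Set G) → B ≤ A' := by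
        intro A' hA' _ hN
        have h3 : A' ≤ stab p B := le_stab_of_normalized B (hst B hBp) (𝔤.comm A' hA'.2.1) hN
        have h4 : A' ∈ 𝔤.fam ((P : Subgroup G) ⊓ stab p B) :=
          Good.mem_fam_of_le inf_le_left hA' (le_inf hA'.1 h3)
        exact hBX.trans (Good.inter_le_of_mem h4)
      have hBall := hC.le_of_forall_normalized P.2 hBP hPB hB2 hall
      have hBZ : B ≤ Z := by
        rw [hZ]
        apply le_sInf
        intro A' hA'
        exact hBall A' hA' (hBBZ.trans (hZ ▸ Good.inter_le_of_mem hA'))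
      rw [inf_eq_right.mpr hBZ]
      exact hBn


theorem inter_le_pCore (𝔤 : Good G) (P : Sylow p G)
    (hc : Subgroup.centralizer (Cfsg.pCore p G : Set G) ≤ Cfsg.pCore p G)
    (hstQ : Cfsg.IsPStableOn p (Cfsg.pCore p G)) :
    𝔤.inter (P : Subgroup G) ≤ Cfsg.pCore p G := by
  have hQp : IsPGroup p (Cfsg.pCore p G) := Helper1.pCore_isPGroup p
  have hQP : Cfsg.pCore p G ≤ P := Helper1.pCore_le_sylow P
  have hQN : Cfsg.pCore p G ≤
      Subgroup.normalizer ((𝔤.inter (P : Subgroup G) : Subgroup G) : Set G) :=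
    hQP.trans (Subgroup.le_normalizer.trans (Good.normalizer_le_normalizer_inter _))
  have h1 : 𝔤.inter (P : Subgroup G) ≤ stab p (Cfsg.pCore p G) :=
    le_stab_of_normalized _ hstQ (𝔤.inter_comm _) hQN
  refine h1.trans (Helper1.le_pCore inferInstance ?_)
  obtain ⟨k, hk⟩ := relIndex_centralizer_stab (p := p) (Cfsg.pCore p G)
  obtain ⟨j, hj⟩ := IsPGroup.iff_card.mp (hQp.to_le hc)
  have := Helper1.relIndex_mul_card_of_le (centralizer_le_stab (p := p) (Cfsg.pCore p G))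
  rw [hk, hj, ← pow_add] at this
  exact IsPGroup.of_card this.symm

theorem inter_normal (𝔤 : Good G) (hp2 : p ≠ 2) (P : Sylow p G)
    (hc : Subgroup.centralizer (Cfsg.pCore p G : Set G) ≤ Cfsg.pCore p G)
    (hst : ∀ (V : Subgroup G) [V.Normal], IsPGroup p V → Cfsg.IsPStableOn p V) :
    (𝔤.inter (P : Subgroup G)).Normal := by
  have hQp : IsPGroup p (Cfsg.pCore p G) := Helper1.pCore_isPGroup p
  have h1 := inter_inf_normal 𝔤 hp2 P hst (Cfsg.pCore p G) inferInstance hQp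
  have h2 : 𝔤.inter (P : Subgroup G) ≤ Cfsg.pCore p G :=
    inter_le_pCore 𝔤 P hc (hst _ hQp)
  rwa [inf_eq_left.mpr h2] at h1

theorem inter_characteristic (𝔤 : Good G) (hp2 : p ≠ 2) (P : Sylow p G)
    (hc : Subgroup.centralizer (Cfsg.pCore p G : Set G) ≤ Cfsg.pCore p G)
    (hst : ∀ (V : Subgroup G) [V.Normal], IsPGroup p V → Cfsg.IsPStableOn p V) :
    (𝔤.inter (P : Subgroup G)).Characteristic := by
  have hn : (𝔤.inter (P : Subgroup G)).Normal := inter_normal 𝔤 hp2 P hc hst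
  rw [Subgroup.characteristic_iff_map_eq]
  intro ϕ
  obtain ⟨g, hg⟩ := MulAction.exists_smul_eq G P ((ϕ : MulAut G) • P)
  have h1 : (P : Subgroup G).map ϕ.toMonoidHom =
      (P : Subgroup G).map (MulAut.conj g).toMonoidHom := by
    have h2 := congrArg (fun Q : Sylow p G => (Q : Subgroup G)) hg
    have h3 : ((g • P : Sylow p G) : Subgroup G) =
        (P : Subgroup G).map (MulAut.conj g).toMonoidHom := rfl
    have h4 : (((ϕ : MulAut G) • P : Sylow p G) : Subgroup G) =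
        (P : Subgroup G).map ϕ.toMonoidHom := rfl
    rw [← h3, ← h4]
    exact h2.symm
  rw [← Good.inter_map, h1, Good.inter_map]
  have h5 : (MulAut.conj g) = MulAut.conj (g⁻¹)⁻¹ := by rw [inv_inv]
  rw [h5]
  exact cj_eq_self_of_mem_normalizer (x := g⁻¹)
    (by rw [Subgroup.normalizer_eq_top]; exact Subgroup.mem_top _)

end main

end Cfsg.Agent.Lead.ZJ
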