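import Mathlib
import Cfsg.Prelude.Def_PLocal
import Cfsg.Agent.Lead.GlaubRepl2
import Cfsg.Agent.Helper1.Basic

set_option autoImplicit false

namespace Cfsg.Agent.Lead.GR

open Cfsg.Agent.Lead.Alp

theorem mem_maxAb {P : Type*} [Group P] {A : Subgroup P} :
    A ∈ Cfsg.maxAbelianSubgroups P ↔ IsMulCommutative A ∧
      ∀ B : Subgroup P, IsMulCommutative B → Nat.card B ≤ Nat.card A := Iff.rfl

theorem mem_maxEA' {P : Type*} [Group P] {p : ℕ} {A : Subgroup P} :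
    A ∈ Cfsg.maxElementaryAbelianSubgroups p P ↔ (IsMulCommutative A ∧ ∀ a ∈ A, a ^ p = 1) ∧
      ∀ B : Subgroup P, (IsMulCommutative B ∧ ∀ a ∈ B, a ^ p = 1) → Nat.card B ≤ Nat.card A :=
  Iff.rfl

variable {S : Type*} [Group S] [Finite S] {p : ℕ} [Fact p.Prime]

theorem comm_of_map_subtype {D : Subgroup S} {A₀ : Subgroup D} (h : IsMulCommutative A₀) :
    ∀ x ∈ A₀.map D.subtype, ∀ y ∈ A₀.map D.subtype, x * y = y * x := by
  rintro _ ⟨x, hx, rfl⟩ _ ⟨y, hy, rfl⟩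
  have := congrArg Subtype.val (h.is_comm.comm ⟨x, hx⟩ ⟨y, hy⟩)
  exact congrArg Subtype.val this

theorem isMulCommutative_subgroupOf {D A : Subgroup S} (h : ∀ x ∈ A, ∀ y ∈ A, x * y = y * x) :
    IsMulCommutative (A.subgroupOf D) :=
  ⟨⟨fun x y => Subtype.ext (Subtype.ext (h _ x.2 _ y.2))⟩⟩

theorem cj_le_of_normal {D : Subgroup S} [D.Normal] {A : Subgroup S} (hA : A ≤ D) (b : S) :
    cj b A ≤ D := by
  intro y hy
  rw [mem_cj] at hy
  have := (inferInstance : D.Normal).conj_mem _ (hA hy) b⁻¹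
  have e : b⁻¹ * (b * y * b⁻¹) * b⁻¹⁻¹ = y := by group
  rwa [e] at this

theorem replClass_maxAb (D : Subgroup S) [D.Normal] (B : Subgroup S) :
    ReplClass p ⊤ B (Set.image (fun A : Subgroup ↥D => A.map D.subtype)
      (Cfsg.maxAbelianSubgroups ↥D)) := by
  refine ⟨fun A _ => le_top, ?_, ?_⟩
  · rintro _ ⟨A₀, hA₀, rfl⟩
    exact comm_of_map_subtype (mem_maxAb.mp hA₀).1
  · rintro _ ⟨A₀, hA₀, rfl⟩ b _ A' hle hcomm hcard _
    obtain ⟨_, hmax⟩ := mem_maxAb.mp hA₀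
    have hA'D : A' ≤ D :=
      hle.trans (sup_le (Subgroup.map_subtype_le _) (cj_le_of_normal (Subgroup.map_subtype_le _) b))
    refine ⟨A'.subgroupOf D, mem_maxAb.mpr ⟨isMulCommutative_subgroupOf hcomm, ?_⟩,
      Subgroup.map_subgroupOf_eq_of_le hA'D⟩
    intro B₀ hB₀
    rw [Helper1.card_subgroupOf_of_le hA'D, hcard, Subgroup.card_subtype]
    exact hmax B₀ hB₀

theorem replClass_maxEA (hp2 : p ≠ 2) (D : Subgroup S) [D.Normal] (B : Subgroup S) :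
    ReplClass p ⊤ B (Set.image (fun A : Subgroup ↥D => A.map D.subtype)
      (Cfsg.maxElementaryAbelianSubgroups p ↥D)) := by
  have hp : p.Prime := Fact.out
  refine ⟨fun A _ => le_top, ?_, ?_⟩
  · rintro _ ⟨A₀, hA₀, rfl⟩
    exact comm_of_map_subtype (mem_maxEA'.mp hA₀).1.1
  · rintro _ ⟨A₀, hA₀, rfl⟩ b _ A' hle hcomm hcard hexp
    obtain ⟨⟨_, hpow⟩, hmax⟩ := mem_maxEA'.mp hA₀
    have hA'D : A' ≤ D :=
      hle.trans (sup_le (Subgroup.map_subtype_le _) (cj_le_of_normal (Subgroup.map_subtype_le _) b))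
    have hpow' : ∀ x ∈ A', x ^ p = 1 := by
      apply hexp hp2 p (hp.eq_two_or_odd'.resolve_left hp2)
      rintro _ ⟨a, ha, rfl⟩
      have := congrArg Subtype.val (hpow a ha)
      simpa using this
    refine ⟨A'.subgroupOf D, mem_maxEA'.mpr ⟨⟨isMulCommutative_subgroupOf hcomm, ?_⟩, ?_⟩,
      Subgroup.map_subgroupOf_eq_of_le hA'D⟩
    · intro a ha
      apply Subtype.ext
      rw [Subgroup.coe_pow, Subgroup.coe_one]
      exact hpow' _ ha
    · intro B₀ hB₀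
      rw [Helper1.card_subgroupOf_of_le hA'D, hcard, Subgroup.card_subtype]
      exact hmax B₀ hB₀

theorem replacement_property_of_class (hS : IsPGroup p S) (B : Subgroup S) [B.Normal]
    (hB2 : p = 2 → ∀ x ∈ B, ∀ y ∈ B, x * y = y * x) {C : Set (Subgroup S)}
    (hC : ReplClass p ⊤ B C)
    (hU : ∃ U ∈ C, ⁅B, B⁆ ≤ U ∧ ¬ B ≤ U) :
    ∃ A ∈ C, ⁅B, B⁆ ≤ A ∧ ¬ B ≤ A ∧ B ≤ Subgroup.normalizer (A : Set S) := by
  obtain ⟨U, hU, hBU, hnBU⟩ := hU
  have hP : IsPGroup p (⊤ : Subgroup S) := hS.to_subgroup _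
  have hPB : (⊤ : Subgroup S) ≤ Subgroup.normalizer (B : Set S) := by
    rw [Subgroup.normalizer_eq_top (H := B)]
  obtain ⟨A', hA', h1, h2, _, h4⟩ := hC.exists_normalized hP le_top hPB hB2 U hU hBU
  exact ⟨A', hA', h1, h4 hnBU, h2⟩

end Cfsg.Agent.Lead.GR
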