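import Mathlib
import Cfsg.Prelude.Def_PLocal
import Cfsg.Agent.Lead.ZJ
import Cfsg.Agent.Lead.GlaubRepl3
import Cfsg.Agent.Helper1.MaxAbFamily
import Cfsg.Agent.Helper1.ThompsonSub4

set_option autoImplicit false

namespace Cfsg.Agent.Lead.ZJ

open Cfsg.Agent.Lead.Alp Cfsg.Agent.Lead.GR

variable {G : Type*} [Group G]

/-- Abelian subgroups. -/
def goodAb (G : Type*) [Group G] : Good G where
  good A := ∀ x ∈ A, ∀ y ∈ A, x * y = y * x
  map φ A h := by
    rintro _ ⟨x, hx, rfl⟩ _ ⟨y, hy, rfl⟩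
    rw [← map_mul, ← map_mul, h x hx y hy]
  comm A h := h
  bot := by
    intro x hx y hy
    rw [Subgroup.mem_bot] at hx hy
    rw [hx, hy]
  repl A A' _ h _ _ := h

/-- Elementary abelian subgroups (odd `p`). -/
def goodEA (p : ℕ) (hp : Odd p) (G : Type*) [Group G] : Good G where
  good A := (∀ x ∈ A, ∀ y ∈ A, x * y = y * x) ∧ ∀ a ∈ A, a ^ p = 1
  map φ A h := by
    refine ⟨?_, ?_⟩
    · rintro _ ⟨x, hx, rfl⟩ _ ⟨y, hy, rfl⟩
      rw [← map_mul, ← map_mul, h.1 x hx y hy]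
    · rintro _ ⟨x, hx, rfl⟩
      rw [← map_pow, h.2 x hx, map_one]
  comm A h := h.1
  bot := by
    refine ⟨?_, ?_⟩
    · intro x hx y hy
      rw [Subgroup.mem_bot] at hx hy
      rw [hx, hy]
    · intro a ha
      rw [Subgroup.mem_bot] at ha
      rw [ha, one_pow]
  repl A A' hA h _ hexp := ⟨h, hexp p hp hA.2⟩

theorem fam_eq_image [Finite G] (𝔤 : Good G) (P : Subgroup G) (good₀ : Subgroup ↥P → Prop)
    (hcompat : ∀ A₀ : Subgroup ↥P, good₀ A₀ ↔ 𝔤.good (A₀.map P.subtype)) :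
    𝔤.fam P = Set.image (fun A₀ : Subgroup ↥P => A₀.map P.subtype)
      {A₀ | good₀ A₀ ∧ ∀ B₀, good₀ B₀ → Nat.card B₀ ≤ Nat.card A₀} := by
  ext A
  constructor
  · intro hA
    have hmap : (A.subgroupOf P).map P.subtype = A := Subgroup.map_subgroupOf_eq_of_le hA.1
    refine ⟨A.subgroupOf P, ⟨?_, ?_⟩, hmap⟩
    · rw [hcompat, hmap]; exact hA.2.1
    · intro B₀ hB₀
      have h1 := hA.2.2 (B₀.map P.subtype) (Subgroup.map_subtype_le _) ((hcompat B₀).mp hB₀)
      rwa [Subgroup.card_subtype, ← Helper1.card_subgroupOf_of_le hA.1] at h1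
  · rintro ⟨A₀, ⟨hA₀, hmax⟩, rfl⟩
    refine ⟨Subgroup.map_subtype_le _, (hcompat A₀).mp hA₀, ?_⟩
    intro A' hA'P hA'
    have hmap : (A'.subgroupOf P).map P.subtype = A' := Subgroup.map_subgroupOf_eq_of_le hA'P
    have h1 : good₀ (A'.subgroupOf P) := by rw [hcompat, hmap]; exact hA'
    have h2 := hmax _ h1
    rwa [Helper1.card_subgroupOf_of_le hA'P, ← Subgroup.card_subtype P A₀] at h2

theorem sInf_image_map_subtype (P : Subgroup G) (𝒜₀ : Set (Subgroup ↥P)) (hne : 𝒜₀.Nonempty) :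
    sInf (Set.image (fun A₀ : Subgroup ↥P => A₀.map P.subtype) 𝒜₀) =
      (sInf 𝒜₀).map P.subtype := by
  ext x
  constructor
  · intro hx
    rw [Subgroup.mem_sInf] at hx
    obtain ⟨A₁, hA₁⟩ := hne
    obtain ⟨y, _, rfl⟩ := hx _ ⟨A₁, hA₁, rfl⟩
    refine ⟨y, ?_, rfl⟩
    rw [SetLike.mem_coe, Subgroup.mem_sInf]
    intro A₀ hA₀
    obtain ⟨y', hy', hyy⟩ := hx _ ⟨A₀, hA₀, rfl⟩
    have : y' = y := Subtype.ext hyy
    rw [← this]; exact hy'
  · rintro ⟨y, hy, rfl⟩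
    rw [Subgroup.mem_sInf]
    rintro _ ⟨A₀, hA₀, rfl⟩
    rw [SetLike.mem_coe, Subgroup.mem_sInf] at hy
    exact ⟨y, hy A₀ hA₀, rfl⟩

theorem map_inf_centralizer (P : Subgroup G) (J₀ : Subgroup ↥P) :
    (J₀ ⊓ Subgroup.centralizer (J₀ : Set ↥P)).map P.subtype =
      J₀.map P.subtype ⊓ Subgroup.centralizer ((J₀.map P.subtype : Subgroup G) : Set G) := by
  ext x
  constructor
  · rintro ⟨y, hy, rfl⟩
    obtain ⟨hyJ, hyC⟩ := Subgroup.mem_inf.mp hy
    refine Subgroup.mem_inf.mpr ⟨⟨y, hyJ, rfl⟩, ?_⟩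
    rw [Subgroup.mem_centralizer_iff]
    rintro _ ⟨h₀, hh₀, rfl⟩
    have := (Subgroup.mem_centralizer_iff.mp hyC) h₀ hh₀
    exact congrArg Subtype.val this
  · intro hx
    obtain ⟨⟨y, hyJ, rfl⟩, hxC⟩ := Subgroup.mem_inf.mp hx
    refine ⟨y, Subgroup.mem_inf.mpr ⟨hyJ, ?_⟩, rfl⟩
    rw [Subgroup.mem_centralizer_iff]
    intro h₀ hh₀
    have := (Subgroup.mem_centralizer_iff.mp hxC) (P.subtype h₀) ⟨h₀, hh₀, rfl⟩
    exact Subtype.ext this

theorem isMulCommutative_iff_map (P : Subgroup G) (A₀ : Subgroup ↥P) :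
    IsMulCommutative A₀ ↔ ∀ x ∈ A₀.map P.subtype, ∀ y ∈ A₀.map P.subtype, x * y = y * x := by
  constructor
  · intro h
    rintro _ ⟨x, hx, rfl⟩ _ ⟨y, hy, rfl⟩
    have := congrArg Subtype.val (h.is_comm.comm ⟨x, hx⟩ ⟨y, hy⟩)
    exact congrArg Subtype.val this
  · intro h
    refine ⟨⟨fun x y => Subtype.ext (Subtype.ext ?_)⟩⟩
    exact h _ ⟨x.1, x.2, rfl⟩ _ ⟨y.1, y.2, rfl⟩

theorem maxAb_nonempty (S : Type*) [Group S] [Finite S] : (Cfsg.maxAbelianSubgroups S).Nonempty := by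
  obtain ⟨A, hA, hmax⟩ := Set.exists_max_image {A : Subgroup S | IsMulCommutative A}
    (fun A => Nat.card A) (Set.toFinite _) ⟨⊥, by
      show IsMulCommutative (⊥ : Subgroup S)
      exact ⟨⟨fun x y => by
        have hx := Subgroup.mem_bot.mp x.2
        have hy := Subgroup.mem_bot.mp y.2
        apply Subtype.ext
        show (x : S) * y = y * x
        rw [hx, hy]⟩⟩⟩
  exact ⟨A, hA, fun B hB => hmax B hB⟩

/-- `I(P)` for the abelian class is `Z(J(P))`. -/
theorem inter_goodAb [Finite G] (P : Subgroup G) :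
    (goodAb G).inter P = Cfsg.centerThompsonAOf P := by
  have h1 : (goodAb G).fam P = Set.image (fun A₀ : Subgroup ↥P => A₀.map P.subtype)
      (Cfsg.maxAbelianSubgroups ↥P) :=
    fam_eq_image (goodAb G) P (fun A₀ => IsMulCommutative A₀) (isMulCommutative_iff_map P)
  have hne := maxAb_nonempty ↥P
  have h2 := Helper1.sInf_max_abelian_family (Cfsg.maxAbelianSubgroups ↥P) hne
    (fun A hA => hA.1) (fun A hA B hB hAB => (Subgroup.eq_of_le_of_card_ge hAB (hA.2 B hB)).symm)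
  unfold Good.inter
  rw [h1, sInf_image_map_subtype P _ hne, h2.1, map_inf_centralizer]
  rfl

/-- `I(P)` for the elementary abelian class is `Ω₁(Z(J_e(P)))`. -/
theorem inter_goodEA [Finite G] (p : ℕ) (hp : Odd p) (P : Subgroup G) :
    (goodEA p hp G).inter P = (Cfsg.omegaCenterThompson p ↥P).map P.subtype := by
  have h1 : (goodEA p hp G).fam P = Set.image (fun A₀ : Subgroup ↥P => A₀.map P.subtype)
      (Cfsg.maxElementaryAbelianSubgroups p ↥P) := by
    refine fam_eq_image (goodEA p hp G) P (fun A₀ => Cfsg.IsElementaryAbelian p A₀) ?_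
    intro A₀
    constructor
    · rintro ⟨h1, h2⟩
      refine ⟨(isMulCommutative_iff_map P A₀).mp h1, ?_⟩
      rintro _ ⟨a, ha, rfl⟩
      have := congrArg Subtype.val (h2 a ha)
      simpa using this
    · rintro ⟨h1, h2⟩
      refine ⟨(isMulCommutative_iff_map P A₀).mpr h1, ?_⟩
      intro a ha
      apply Subtype.ext
      have := h2 _ ⟨a, ha, rfl⟩
      simpa using this
  have hne := Helper1.maxElementaryAbelianSubgroups_nonempty (G := ↥P) p
  unfold Good.inter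
  rw [h1, sInf_image_map_subtype P _ hne, (Helper1.sInf_maxEA p).1]

variable [Finite G] {p : ℕ} [Fact p.Prime]

theorem zj_abelian (hp : p ≠ 2)
    (hc : Subgroup.centralizer (Cfsg.pCore p G : Set G) ≤ Cfsg.pCore p G)
    (hst : ∀ (P : Subgroup G) [P.Normal], IsPGroup p P → Cfsg.IsPStableOn p P) (S : Sylow p G) :
    (Cfsg.centerThompsonAOf ((S : Subgroup G))).Characteristic := by
  rw [← inter_goodAb]
  exact inter_characteristic (goodAb G) hp S hc hst

theorem zj_elementary (hp : p ≠ 2)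
    (hc : Subgroup.centralizer (Cfsg.pCore p G : Set G) ≤ Cfsg.pCore p G)
    (hst : ∀ (P : Subgroup G) [P.Normal], IsPGroup p P → Cfsg.IsPStableOn p P) (S : Sylow p G) :
    ((Cfsg.omegaCenterThompson p ↥(S : Subgroup G)).map (S : Subgroup G).subtype).Characteristic := by
  have hodd : Odd p := (Fact.out : p.Prime).eq_two_or_odd'.resolve_left hp
  rw [← inter_goodEA p hodd]
  exact inter_characteristic (goodEA p hodd G) hp S hc hst

end Cfsg.Agent.Lead.ZJ
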