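import Mathlib
import Cfsg.Agent.Helper1.OddGL2B
import Cfsg.Agent.Helper2.CyclicSylow2

set_option autoImplicit false

/-!
Subgroups of `GL(2, E)` generated by two opposite transvections have non-abelian Sylow
`2`-subgroups (odd characteristic).
-/

namespace Cfsg.Agent.Lead
namespace Ab2GL2

open scoped Pointwise

/-- every `2`-subgroup is abelian -/
def Ab2 (D : Type*) [Group D] : Prop :=
  ∀ Q : Subgroup D, IsPGroup 2 Q → ∀ a ∈ Q, ∀ b ∈ Q, a * b = b * a

theorem Ab2.of_injective {D D' : Type*} [Group D] [Group D'] (f : D' →* D)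
    (hf : Function.Injective f) (h : Ab2 D) : Ab2 D' := by
  intro Q hQ a ha b hb
  apply hf
  rw [map_mul, map_mul]
  exact h (Q.map f) (hQ.map f) (f a) (Subgroup.mem_map_of_mem f ha) (f b)
    (Subgroup.mem_map_of_mem f hb)

theorem Ab2.of_surjective {D D' : Type*} [Group D] [Finite D] [Group D'] (f : D →* D')
    (hf : Function.Surjective f) (h : Ab2 D) : Ab2 D' := by
  haveI : Finite D' := Finite.of_surjective f hf
  intro Q hQ a ha b hb
  obtain ⟨T', hT'⟩ := hQ.exists_le_sylow
  obtain ⟨T, rfl⟩ := Sylow.mapSurjective_surjective hf 2 T'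
  rw [Sylow.coe_mapSurjective] at hT'
  obtain ⟨a', ha', rfl⟩ := hT' ha
  obtain ⟨b', hb', rfl⟩ := hT' hb
  rw [← map_mul, ← map_mul, h (T : Subgroup D) T.2 a' ha' b' hb']

theorem Ab2.subgroup {D : Type*} [Group D] (h : Ab2 D) (K : Subgroup D) : Ab2 K :=
  h.of_injective K.subtype K.subtype_injective

theorem Ab2.of_le {D : Type*} [Group D] {K L : Subgroup D} (hKL : K ≤ L) (h : Ab2 L) : Ab2 K :=
  h.of_injective (Subgroup.inclusion hKL) (Subgroup.inclusion_injective hKL)

theorem ab2_of_sylow {D : Type*} [Group D] [Finite D] (T : Sylow 2 D)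
    (hT : IsMulCommutative (T : Subgroup D)) : Ab2 D := by
  intro Q hQ a ha b hb
  obtain ⟨T', hT'⟩ := hQ.exists_le_sylow
  obtain ⟨g, rfl⟩ := MulAction.exists_smul_eq D T T'
  have ha' := hT' ha
  have hb' := hT' hb
  rw [Sylow.coe_subgroup_smul, Subgroup.mem_pointwise_smul_iff_inv_smul_mem] at ha' hb'
  have h1 := hT.is_comm.comm ⟨_, ha'⟩ ⟨_, hb'⟩
  have h2 : ((MulAut.conj g)⁻¹ • a) * ((MulAut.conj g)⁻¹ • b) =
      ((MulAut.conj g)⁻¹ • b) * ((MulAut.conj g)⁻¹ • a) := congrArg Subtype.val h1
  rw [← map_inv] at h2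
  simp only [MulAut.smul_def, MulAut.conj_apply, inv_inv] at h2
  have h3 : a * b = g * ((g⁻¹ * a * g) * (g⁻¹ * b * g)) * g⁻¹ := by group
  rw [h3, h2]; group

/-- a finite abelian `2`-group with at most one involution is cyclic -/
theorem isCyclic_of_unique_involution {A : Type*} [Group A] [Finite A] (hA : IsPGroup 2 A)
    (hc : ∀ a b : A, a * b = b * a)
    (hinv : ∀ s t : A, orderOf s = 2 → orderOf t = 2 → s = t) : IsCyclic A := by
  obtain ⟨a, ha⟩ := Finite.exists_max (fun b : A => orderOf b)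
  rw [isCyclic_iff_exists_zpowers_eq_top]
  refine ⟨a, ?_⟩
  rw [eq_top_iff]
  obtain ⟨k, hk⟩ := (IsPGroup.iff_orderOf.1 hA) a
  have key : ∀ j : ℕ, ∀ b : A, b ^ (2 ^ j) = 1 → b ∈ Subgroup.zpowers a := by
    intro j
    induction j with
    | zero =>
      intro b hb
      rw [pow_zero, pow_one] at hb
      rw [hb]; exact Subgroup.one_mem _
    | succ j ih =>
      intro b hb
      have hb2 : (b ^ 2) ^ (2 ^ j) = 1 := by rw [← pow_mul, ← pow_succ']; exact hb
      obtain ⟨m, hm⟩ := Subgroup.mem_zpowers_iff.1 (ih _ hb2)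
      rcases Nat.eq_zero_or_pos k with hk0 | hkpos
      · -- `a = 1`
        rw [hk0, pow_zero] at hk
        have h1 : orderOf b ≤ 1 := hk ▸ ha b
        have h2 : orderOf b = 1 := le_antisymm h1 (orderOf_pos b)
        rw [orderOf_eq_one_iff.1 h2]; exact Subgroup.one_mem _
      · obtain ⟨k', rfl⟩ : ∃ k', k = k' + 1 := ⟨k - 1, by omega⟩
        obtain ⟨t, ht⟩ : ∃ t, t = a ^ (2 ^ k') := ⟨_, rfl⟩
        have htord : orderOf t = 2 := by
          rw [ht, orderOf_pow' a (pow_ne_zero _ two_ne_zero), hk, pow_succ,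
            Nat.gcd_eq_right (Dvd.intro _ rfl), Nat.mul_div_cancel_left _ (pow_pos two_pos _)]
        have htmem : t ∈ Subgroup.zpowers a := ht ▸ Subgroup.pow_mem _ (Subgroup.mem_zpowers a) _
        rcases Int.even_or_odd' m with ⟨n, hn | hn⟩
        · -- `m` even
          obtain ⟨c, hcdef⟩ : ∃ c, c = b * a ^ (-n) := ⟨_, rfl⟩
          have hcomm : Commute b (a ^ (-n)) := hc _ _
          have hc2 : c ^ 2 = 1 := by
            rw [hcdef, hcomm.mul_pow, ← hm, hn, ← zpow_natCast (a ^ (-n)) 2, ← zpow_mul,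
              ← zpow_add]
            have e : 2 * n + -n * ((2 : ℕ) : ℤ) = 0 := by push_cast; ring
            rw [e, zpow_zero]
          have hcmem : c ∈ Subgroup.zpowers a := by
            by_cases hc1 : c = 1
            · rw [hc1]; exact Subgroup.one_mem _
            · have : orderOf c = 2 := orderOf_eq_prime hc2 hc1
              rw [hinv c t this htord]; exact htmem
          have hb' : b = c * a ^ n := by rw [hcdef, mul_assoc, ← zpow_add]; simp
          rw [hb']
          exact Subgroup.mul_mem _ hcmem (Subgroup.zpow_mem _ (Subgroup.mem_zpowers a) _)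
        · -- `m` odd: contradiction with maximality
          exfalso
          have h1 : b ^ (2 ^ (k' + 1)) = t := by
            rw [pow_succ', pow_mul, ← hm, hn, ← zpow_natCast, ← zpow_mul, ht,
              ← zpow_natCast a (2 ^ k')]
            have e : (2 * n + 1) * ((2 ^ k' : ℕ) : ℤ) = n * ((2 ^ (k' + 1) : ℕ) : ℤ) + ((2 ^ k' : ℕ) : ℤ) := by
              push_cast; ring
            rw [e, zpow_add, zpow_mul', zpow_natCast a (2 ^ (k' + 1)), ← hk, pow_orderOf_eq_one,
              one_zpow, one_mul]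
          obtain ⟨i, hi⟩ := (IsPGroup.iff_orderOf.1 hA) b
          have h2 : orderOf b ≤ 2 ^ (k' + 1) := hk ▸ ha b
          have h3 : orderOf b ∣ 2 ^ (k' + 1) := by
            rw [hi] at h2 ⊢
            exact pow_dvd_pow 2 ((Nat.pow_le_pow_iff_right (by norm_num)).1 h2)
          have h4 : b ^ (2 ^ (k' + 1)) = 1 := orderOf_dvd_iff_pow_eq_one.1 h3
          rw [h1] at h4
          rw [h4, orderOf_one] at htord
          exact absurd htord (by norm_num)
  intro b _
  obtain ⟨j, hj⟩ := hA b
  exact key j b hj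

/-- a finite group generated by elements of odd order with a cyclic Sylow `2`-subgroup has odd
order -/
theorem odd_card_of_closure_odd {D : Type*} [Group D] [Finite D] (S : Set D)
    (hS : Subgroup.closure S = ⊤) (hodd : ∀ s ∈ S, Odd (orderOf s)) (T : Sylow 2 D)
    (hT : IsCyclic (T : Subgroup D)) : Odd (Nat.card D) := by
  by_contra hne
  rw [Nat.not_odd_iff_even] at hne
  obtain ⟨H, hH⟩ := Cfsg.Agent.Helper2.exists_index_two_of_cyclic_sylow_two hne T hT
  have hle : Subgroup.closure S ≤ H := by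
    rw [Subgroup.closure_le]
    intro s hs
    obtain ⟨k, hk⟩ := hodd s hs
    have h1 : s ^ 2 ∈ H := Subgroup.sq_mem_of_index_two hH s
    have h2 : (s ^ 2) ^ (k + 1) = s := by
      rw [← pow_mul]
      have : 2 * (k + 1) = orderOf s + 1 := by omega
      rw [this, pow_succ, pow_orderOf_eq_one, one_mul]
    rw [← h2]
    exact Subgroup.pow_mem _ h1 _
  rw [hS, top_le_iff] at hle
  rw [hle, Subgroup.index_top] at hH
  exact absurd hH (by norm_num)

section GL2

open Matrix
open Cfsg.Agent.Helper1.OddGL2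

variable {E : Type*} [Field E]

theorem det_eq_one_of_mem_closure (X Y : GL (Fin 2) E) (c : E)
    (hX : (X : Matrix (Fin 2) (Fin 2) E) = !![1, c; 0, 1])
    (hY : (Y : Matrix (Fin 2) (Fin 2) E) = !![1, 0; 1, 1]) :
    ∀ g ∈ Subgroup.closure {X, Y}, (g : Matrix (Fin 2) (Fin 2) E).det = 1 := by
  intro g hg
  induction hg using Subgroup.closure_induction with
  | mem g hg =>
    rcases hg with rfl | hg
    · rw [hX, Matrix.det_fin_two_of]; ring
    · rw [Set.mem_singleton_iff] at hg; rw [hg, hY, Matrix.det_fin_two_of]; ring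
  | one => simp
  | mul x y _ _ hx hy => rw [Units.val_mul, Matrix.det_mul, hx, hy, one_mul]
  | inv x _ hx =>
    have h1 : ((x⁻¹ : GL (Fin 2) E) : Matrix (Fin 2) (Fin 2) E).det *
        (x : Matrix (Fin 2) (Fin 2) E).det = 1 := by
      rw [← Matrix.det_mul, ← Units.val_mul, inv_mul_cancel, Units.val_one, Matrix.det_one]
    rw [hx, mul_one] at h1
    exact h1

theorem involution_eq_neg_one (h2 : (2 : E) ≠ 0) (t : Matrix (Fin 2) (Fin 2) E) (ht : t * t = 1)
    (ht1 : t ≠ 1) (hdet : t.det = 1) : t = (-1 : E) • (1 : Matrix (Fin 2) (Fin 2) E) := by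
  have hch := cayley_hamilton_two t
  rw [ht, hdet, one_smul] at hch
  have h3 : t.trace • t = (2 : E) • (1 : Matrix (Fin 2) (Fin 2) E) := by
    rw [two_smul]
    rw [eq_sub_iff_add_eq] at hch
    exact hch.symm
  have htr : t.trace ≠ 0 := by
    intro h0
    rw [h0, zero_smul] at h3
    have := congrFun (congrFun h3 0) 0
    simp at this
    exact h2 this.symm
  obtain ⟨s, hs⟩ : ∃ s, s = t.trace⁻¹ * 2 := ⟨_, rfl⟩
  have h4 : t = s • (1 : Matrix (Fin 2) (Fin 2) E) := by
    have : t = t.trace⁻¹ • (t.trace • t) := by rw [smul_smul, inv_mul_cancel₀ htr, one_smul]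
    rw [this, h3, smul_smul, hs]
  have hs2 : s * s = 1 := by
    rw [h4] at ht
    have := congrFun (congrFun ht 0) 0
    simpa [Matrix.mul_apply, Fin.sum_univ_two] using this
  have h5 : (s - 1) * (s + 1) = 0 := by linear_combination hs2
  rcases mul_eq_zero.1 h5 with h | h
  · exfalso; apply ht1; rw [h4, sub_eq_zero.1 h, one_smul]
  · rw [h4, eq_neg_of_add_eq_zero_left h]

theorem upper_pow_char {p : ℕ} [hp : Fact p.Prime] [CharP E p] (X : GL (Fin 2) E) (c : E)
    (hX : (X : Matrix (Fin 2) (Fin 2) E) = !![1, c; 0, 1]) : X ^ p = 1 := by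
  apply Units.ext
  rw [Units.val_pow_eq_pow_val, Units.val_one]
  obtain ⟨m, hm⟩ := Nat.exists_eq_succ_of_ne_zero hp.out.ne_zero
  have hN : (!![0, c; 0, 0] : Matrix (Fin 2) (Fin 2) E) * !![0, c; 0, 0] = 0 := by
    ext i j; fin_cases i <;> fin_cases j <;> simp
  have hXN : (X : Matrix (Fin 2) (Fin 2) E) = (1 : E) • 1 + !![0, c; 0, 0] := by
    rw [hX]; ext i j; fin_cases i <;> fin_cases j <;> simp
  have h1 := pow_succ_smul_one_add_nilp (1 : E) _ hN m
  rw [← hXN] at h1
  rw [hm, Nat.succ_eq_add_one, h1, ← Nat.succ_eq_add_one, ← hm, CharP.cast_eq_zero E p]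
  simp

theorem lower_pow_char {p : ℕ} [hp : Fact p.Prime] [CharP E p] (Y : GL (Fin 2) E)
    (hY : (Y : Matrix (Fin 2) (Fin 2) E) = !![1, 0; 1, 1]) : Y ^ p = 1 := by
  apply Units.ext
  rw [Units.val_pow_eq_pow_val, Units.val_one]
  obtain ⟨m, hm⟩ := Nat.exists_eq_succ_of_ne_zero hp.out.ne_zero
  have hN : (!![0, 0; 1, 0] : Matrix (Fin 2) (Fin 2) E) * !![0, 0; 1, 0] = 0 := by
    ext i j; fin_cases i <;> fin_cases j <;> simp
  have hXN : (Y : Matrix (Fin 2) (Fin 2) E) = (1 : E) • 1 + !![0, 0; 1, 0] := by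
    rw [hY]; ext i j; fin_cases i <;> fin_cases j <;> simp
  have h1 := pow_succ_smul_one_add_nilp (1 : E) _ hN m
  rw [← hXN] at h1
  rw [hm, Nat.succ_eq_add_one, h1, ← Nat.succ_eq_add_one, ← hm, CharP.cast_eq_zero E p]
  simp

/-- two "opposite" transvections do not generate a group of odd order -/
theorem two_transvections_of_odd {p : ℕ} [hp : Fact p.Prime] [CharP E p] (hp2 : p ≠ 2)
    (X Y : GL (Fin 2) E) (c : E) (hc : c ≠ 0)
    (hX : (X : Matrix (Fin 2) (Fin 2) E) = !![1, c; 0, 1])
    (hY : (Y : Matrix (Fin 2) (Fin 2) E) = !![1, 0; 1, 1])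
    [Finite (Subgroup.closure {X, Y})]
    (hodd : Odd (Nat.card (Subgroup.closure {X, Y}))) : False := by
  have hXL : X ∈ Subgroup.closure {X, Y} := Subgroup.subset_closure (by simp)
  have hYL : Y ∈ Subgroup.closure {X, Y} := Subgroup.subset_closure (by simp)
  have hXp : X ^ p = 1 := upper_pow_char X c hX
  have hX1 : X ≠ 1 := by
    intro h
    have h1 := congrArg (fun u : GL (Fin 2) E => (u : Matrix (Fin 2) (Fin 2) E) 0 1) h
    simp only [hX] at h1
    simp at h1
    exact hc h1
  have hord : orderOf X = p := orderOf_eq_prime hXp hX1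
  have hpL : p ∣ Nat.card (Subgroup.closure {X, Y}) := by
    rw [← hord]
    exact Subgroup.orderOf_dvd_natCard _ hXL
  obtain ⟨v, hv0, hv⟩ := exists_invariant_line_of_odd hp2 (Subgroup.closure {X, Y}) hodd hpL
  obtain ⟨c₁, h1⟩ := hv X hXL
  obtain ⟨c₂, h2⟩ := hv Y hYL
  rw [hX] at h1
  rw [hY] at h2
  have e1 := congrFun h1 0
  have e2 := congrFun h1 1
  have e3 := congrFun h2 0
  have e4 := congrFun h2 1
  simp [Matrix.mulVec, dotProduct, Fin.sum_univ_two] at e1 e2 e3 e4
  have hv1 : v 1 = 0 := by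
    by_contra hne
    have hc1 : c₁ = 1 := by
      have : (c₁ - 1) * v 1 = 0 := by linear_combination -e2
      rcases mul_eq_zero.1 this with h | h
      · exact sub_eq_zero.1 h
      · exact absurd h hne
    rw [hc1, one_mul] at e1
    have : c * v 1 = 0 := by linear_combination e1
    rcases mul_eq_zero.1 this with h | h
    · exact hc h
    · exact hne h
  have hv0' : v 0 = 0 := by
    rw [hv1] at e4
    simpa using e4
  apply hv0
  ext i; fin_cases i
  · exact hv0'
  · exact hv1

/-- two "opposite" transvections do not generate a finite group with abelian Sylow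
`2`-subgroups -/
theorem two_transvections_ab2 {p : ℕ} [hp : Fact p.Prime] [CharP E p] (hp2 : p ≠ 2)
    (X Y : GL (Fin 2) E) (c : E) (hc : c ≠ 0)
    (hX : (X : Matrix (Fin 2) (Fin 2) E) = !![1, c; 0, 1])
    (hY : (Y : Matrix (Fin 2) (Fin 2) E) = !![1, 0; 1, 1])
    [Finite (Subgroup.closure {X, Y})]
    (hab : Ab2 (Subgroup.closure {X, Y})) : False := by
  have h2 : (2 : E) ≠ 0 := two_ne_zero_of_charP (p := p) hp2
  have hpodd : Odd p := hp.out.odd_of_ne_two hp2
  have hdet := det_eq_one_of_mem_closure X Y c hX hY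
  have hXp : X ^ p = 1 := upper_pow_char X c hX
  have hYp : Y ^ p = 1 := lower_pow_char Y hY
  let T : Sylow 2 (Subgroup.closure {X, Y}) := default
  have hTc : IsCyclic (T : Subgroup (Subgroup.closure {X, Y})) := by
    apply isCyclic_of_unique_involution T.2
    · intro a b
      apply Subtype.ext
      exact hab T T.2 a a.2 b b.2
    · have key : ∀ s : (T : Subgroup (Subgroup.closure {X, Y})), orderOf s = 2 →
          (((s : Subgroup.closure {X, Y}) : GL (Fin 2) E) : Matrix (Fin 2) (Fin 2) E) =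
            (-1 : E) • (1 : Matrix (Fin 2) (Fin 2) E) := by
        intro s hs
        have hs2 : s ^ 2 = 1 := by
          have := pow_orderOf_eq_one s
          rwa [hs] at this
        have hs1 : s ≠ 1 := by
          intro h; rw [h, orderOf_one] at hs; exact absurd hs (by norm_num)
        apply involution_eq_neg_one h2
        · have := congrArg (fun w : (T : Subgroup (Subgroup.closure {X, Y})) =>
            (((w : Subgroup.closure {X, Y}) : GL (Fin 2) E) : Matrix (Fin 2) (Fin 2) E)) hs2
          simpa [pow_two] using this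
        · intro h
          apply hs1
          apply Subtype.ext; apply Subtype.ext; apply Units.ext
          rw [h]; rfl
        · exact hdet _ (s : Subgroup.closure {X, Y}).2
      intro s t hs ht
      apply Subtype.ext; apply Subtype.ext; apply Units.ext
      rw [key s hs, key t ht]
  have hodd : Odd (Nat.card (Subgroup.closure {X, Y})) := by
    apply odd_card_of_closure_odd (((↑) : Subgroup.closure {X, Y} → GL (Fin 2) E) ⁻¹' {X, Y})
      (Subgroup.closure_closure_coe_preimage) _ T hTc
    intro s hs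
    have h1 : (s : GL (Fin 2) E) ^ p = 1 := by
      rcases hs with h | h
      · rw [h]; exact hXp
      · rw [Set.mem_singleton_iff] at h; rw [h]; exact hYp
    have h3 : orderOf s ∣ p := by
      rw [← Subgroup.orderOf_coe]
      exact orderOf_dvd_of_pow_eq_one h1
    exact Odd.of_dvd_nat hpodd h3
  exact two_transvections_of_odd hp2 X Y c hc hX hY hodd

end GL2

end Ab2GL2
end Cfsg.Agent.Lead
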