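import Mathlib

set_option autoImplicit false

/-! # Dickson's theorem for `SL₂`, part A: elementary matrices and the projective line -/

namespace Cfsg.Agent.Lead.DicksonA

open Matrix
open scoped LinearAlgebra.Projectivization MatrixGroups

variable {E : Type*} [Field E]

/-- the projective line over `E` -/
abbrev PL (E : Type*) [Field E] := ℙ E (Fin 2 → E)

/-- upper unitriangular matrix -/
def uu (t : E) : SL(2, E) := ⟨!![1, t; 0, 1], by simp [Matrix.det_fin_two_of]⟩

/-- lower unitriangular matrix -/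
def ll (t : E) : SL(2, E) := ⟨!![1, 0; t, 1], by simp [Matrix.det_fin_two_of]⟩

/-- the Weyl element -/
def ww : SL(2, E) := ⟨!![0, -1; 1, 0], by simp [Matrix.det_fin_two_of]⟩

/-- diagonal matrix -/
def hh (a : E) (ha : a ≠ 0) : SL(2, E) :=
  ⟨!![a, 0; 0, a⁻¹], by simp [Matrix.det_fin_two_of, ha]⟩

@[simp] theorem uu_00 (t : E) : (uu t).1 0 0 = 1 := rfl
@[simp] theorem uu_01 (t : E) : (uu t).1 0 1 = t := rfl
@[simp] theorem uu_10 (t : E) : (uu t).1 1 0 = 0 := rfl
@[simp] theorem uu_11 (t : E) : (uu t).1 1 1 = 1 := rfl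
@[simp] theorem ll_00 (t : E) : (ll t).1 0 0 = 1 := rfl
@[simp] theorem ll_01 (t : E) : (ll t).1 0 1 = 0 := rfl
@[simp] theorem ll_10 (t : E) : (ll t).1 1 0 = t := rfl
@[simp] theorem ll_11 (t : E) : (ll t).1 1 1 = 1 := rfl
@[simp] theorem ww_00 : (ww : SL(2, E)).1 0 0 = 0 := rfl
@[simp] theorem ww_01 : (ww : SL(2, E)).1 0 1 = -1 := rfl
@[simp] theorem ww_10 : (ww : SL(2, E)).1 1 0 = 1 := rfl
@[simp] theorem ww_11 : (ww : SL(2, E)).1 1 1 = 0 := rfl
@[simp] theorem hh_00 (a : E) (ha : a ≠ 0) : (hh a ha).1 0 0 = a := rfl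
@[simp] theorem hh_01 (a : E) (ha : a ≠ 0) : (hh a ha).1 0 1 = 0 := rfl
@[simp] theorem hh_10 (a : E) (ha : a ≠ 0) : (hh a ha).1 1 0 = 0 := rfl
@[simp] theorem hh_11 (a : E) (ha : a ≠ 0) : (hh a ha).1 1 1 = a⁻¹ := rfl

/-- extensionality through the four entries -/
theorem ext4 {g h : SL(2, E)} (h00 : g.1 0 0 = h.1 0 0) (h01 : g.1 0 1 = h.1 0 1)
    (h10 : g.1 1 0 = h.1 1 0) (h11 : g.1 1 1 = h.1 1 1) : g = h := by
  apply Subtype.ext
  ext i j
  fin_cases i <;> fin_cases j <;> assumption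

theorem mul_00 (g h : SL(2, E)) : (g * h).1 0 0 = g.1 0 0 * h.1 0 0 + g.1 0 1 * h.1 1 0 := by
  simp [Matrix.mul_apply, Fin.sum_univ_two]
theorem mul_01 (g h : SL(2, E)) : (g * h).1 0 1 = g.1 0 0 * h.1 0 1 + g.1 0 1 * h.1 1 1 := by
  simp [Matrix.mul_apply, Fin.sum_univ_two]
theorem mul_10 (g h : SL(2, E)) : (g * h).1 1 0 = g.1 1 0 * h.1 0 0 + g.1 1 1 * h.1 1 0 := by
  simp [Matrix.mul_apply, Fin.sum_univ_two]
theorem mul_11 (g h : SL(2, E)) : (g * h).1 1 1 = g.1 1 0 * h.1 0 1 + g.1 1 1 * h.1 1 1 := by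
  simp [Matrix.mul_apply, Fin.sum_univ_two]

theorem inv_00 (g : SL(2, E)) : (g⁻¹).1 0 0 = g.1 1 1 := by
  rw [Matrix.SpecialLinearGroup.SL2_inv_expl]; rfl
theorem inv_01 (g : SL(2, E)) : (g⁻¹).1 0 1 = -g.1 0 1 := by
  rw [Matrix.SpecialLinearGroup.SL2_inv_expl]; rfl
theorem inv_10 (g : SL(2, E)) : (g⁻¹).1 1 0 = -g.1 1 0 := by
  rw [Matrix.SpecialLinearGroup.SL2_inv_expl]; rfl
theorem inv_11 (g : SL(2, E)) : (g⁻¹).1 1 1 = g.1 0 0 := by
  rw [Matrix.SpecialLinearGroup.SL2_inv_expl]; rfl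

@[simp] theorem one_00 : (1 : SL(2, E)).1 0 0 = 1 := by simp
@[simp] theorem one_01 : (1 : SL(2, E)).1 0 1 = 0 := by simp
@[simp] theorem one_10 : (1 : SL(2, E)).1 1 0 = 0 := by simp
@[simp] theorem one_11 : (1 : SL(2, E)).1 1 1 = 1 := by simp

theorem neg_00 (g : SL(2, E)) : (-g).1 0 0 = -g.1 0 0 := by simp
theorem neg_01 (g : SL(2, E)) : (-g).1 0 1 = -g.1 0 1 := by simp
theorem neg_10 (g : SL(2, E)) : (-g).1 1 0 = -g.1 1 0 := by simp
theorem neg_11 (g : SL(2, E)) : (-g).1 1 1 = -g.1 1 1 := by simp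

/-- determinant relation -/
theorem det_eq (g : SL(2, E)) : g.1 0 0 * g.1 1 1 - g.1 0 1 * g.1 1 0 = 1 := by
  have := g.2
  rw [Matrix.det_fin_two] at this
  exact this

theorem uu_mul (s t : E) : uu s * uu t = uu (s + t) := by
  apply ext4 <;> simp [mul_00, mul_01, mul_10, mul_11, add_comm]

theorem uu_zero : uu (0 : E) = 1 := by
  apply ext4 <;> simp

theorem uu_inv (t : E) : (uu t)⁻¹ = uu (-t) := by
  apply ext4 <;> simp [inv_00, inv_01, inv_10, inv_11]

theorem uu_injective : Function.Injective (uu : E → SL(2, E)) := by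
  intro s t h
  have := congrArg (fun g : SL(2, E) => g.1 0 1) h
  simpa using this

theorem uu_pow (t : E) (n : ℕ) : uu t ^ n = uu (n * t) := by
  induction n with
  | zero => simp [uu_zero]
  | succ n ih => rw [pow_succ, ih, uu_mul]; congr 1; push_cast; ring

theorem ll_mul (s t : E) : ll s * ll t = ll (s + t) := by
  apply ext4 <;> simp [mul_00, mul_01, mul_10, mul_11, add_comm]

theorem ll_zero : ll (0 : E) = 1 := by
  apply ext4 <;> simp

theorem ll_inv (t : E) : (ll t)⁻¹ = ll (-t) := by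
  apply ext4 <;> simp [inv_00, inv_01, inv_10, inv_11]

theorem ll_injective : Function.Injective (ll : E → SL(2, E)) := by
  intro s t h
  have := congrArg (fun g : SL(2, E) => g.1 1 0) h
  simpa using this

theorem ll_pow (t : E) (n : ℕ) : ll t ^ n = ll (n * t) := by
  induction n with
  | zero => simp [ll_zero]
  | succ n ih => rw [pow_succ, ih, ll_mul]; congr 1; push_cast; ring

/-- conjugating `uu` by the Weyl element gives `ll` -/
theorem ww_uu_ww (t : E) : ww * uu t * ww⁻¹ = ll (-t) := by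
  apply ext4 <;> simp [mul_00, mul_01, mul_10, mul_11, inv_00, inv_01, inv_10, inv_11]

/-- conjugation of `uu t` by an upper triangular matrix -/
theorem borel_conj_uu (g : SL(2, E)) (hg : g.1 1 0 = 0) (t : E) :
    g * uu t * g⁻¹ = uu (g.1 0 0 ^ 2 * t) := by
  have hd := det_eq g
  rw [hg, mul_zero, sub_zero] at hd
  apply ext4
  · simp [mul_00, mul_01, mul_10, mul_11, inv_00, inv_01, inv_10, inv_11, hg, hd]
  · simp [mul_00, mul_01, mul_10, mul_11, inv_00, inv_01, inv_10, inv_11, hg]; ring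
  · simp [mul_00, mul_01, mul_10, mul_11, inv_00, inv_01, inv_10, inv_11, hg]
  · simp [mul_00, mul_01, mul_10, mul_11, inv_00, inv_01, inv_10, inv_11, hg]
    rw [mul_comm]; exact hd

/-- the trace -/
def tr (g : SL(2, E)) : E := g.1 0 0 + g.1 1 1

theorem tr_eq_trace (g : SL(2, E)) : tr g = Matrix.trace g.1 := by
  rw [Matrix.trace_fin_two]; rfl

theorem tr_conj (h g : SL(2, E)) : tr (h * g * h⁻¹) = tr g := by
  rw [tr_eq_trace, tr_eq_trace]
  have : (h * g * h⁻¹).1 = h.1 * g.1 * (h⁻¹).1 := by simp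
  rw [this, Matrix.trace_mul_cycle]
  have h2 : (h⁻¹).1 * h.1 = 1 := by
    rw [← Matrix.SpecialLinearGroup.coe_mul, inv_mul_cancel]
    simp
  rw [h2, one_mul]

/-! ## The projective line -/

/-- the point at infinity -/
noncomputable def inf : PL E := Projectivization.mk E ![1, 0] (by
  intro h; have := congrFun h 0; simp at this)

/-- the affine point `t` -/
noncomputable def pt (t : E) : PL E := Projectivization.mk E ![t, 1] (by
  intro h; have := congrFun h 1; simp at this)

theorem mk_eq_mk_iff_cross (v w : Fin 2 → E) (hv : v ≠ 0) (hw : w ≠ 0) :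
    Projectivization.mk E v hv = Projectivization.mk E w hw ↔ v 0 * w 1 = v 1 * w 0 := by
  rw [Projectivization.mk_eq_mk_iff']
  constructor
  · rintro ⟨a, rfl⟩
    simp only [Pi.smul_apply, smul_eq_mul]; ring
  · intro h
    by_cases hw1 : w 1 = 0
    · have hw0 : w 0 ≠ 0 := by
        intro h0; apply hw; ext i; fin_cases i <;> simp [h0, hw1]
      have hv1 : v 1 = 0 := by
        rw [hw1, mul_zero] at h
        rcases mul_eq_zero.1 h.symm with h | h
        · exact h
        · exact absurd h hw0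
      refine ⟨v 0 / w 0, ?_⟩
      ext i; fin_cases i
      · simp [hw0]
      · simp [hw1, hv1]
    · refine ⟨v 1 / w 1, ?_⟩
      ext i; fin_cases i
      · simp only [Fin.zero_eta, Pi.smul_apply, smul_eq_mul]
        field_simp
        linear_combination -h
      · simp [hw1]

theorem pt_ne_inf (t : E) : pt t ≠ (inf : PL E) := by
  intro h
  rw [pt, inf, mk_eq_mk_iff_cross] at h
  simp at h

theorem pt_injective : Function.Injective (pt : E → PL E) := by
  intro s t h
  rw [pt, pt, mk_eq_mk_iff_cross] at h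
  simpa using h

theorem eq_inf_or_pt (x : PL E) : x = inf ∨ ∃ t, x = pt t := by
  induction x using Projectivization.ind with
  | h v hv =>
    by_cases h1 : v 1 = 0
    · left
      rw [inf, mk_eq_mk_iff_cross]
      simp [h1]
    · right
      refine ⟨v 0 / v 1, ?_⟩
      rw [pt, mk_eq_mk_iff_cross]
      simp only [Matrix.cons_val_zero, Matrix.cons_val_one]
      field_simp

theorem smul_vec (g : SL(2, E)) (v : Fin 2 → E) :
    g • v = ![g.1 0 0 * v 0 + g.1 0 1 * v 1, g.1 1 0 * v 0 + g.1 1 1 * v 1] := by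
  ext i
  fin_cases i <;>
    simp [Matrix.SpecialLinearGroup.smul_def, Matrix.mulVec, dotProduct, Fin.sum_univ_two]

theorem smul_inf (g : SL(2, E)) :
    g • (inf : PL E) = Projectivization.mk E ![g.1 0 0, g.1 1 0] (by
      intro h
      have h0 := congrFun h 0
      have h1 := congrFun h 1
      simp only [Matrix.cons_val_zero, Matrix.cons_val_one, Pi.zero_apply] at h0 h1
      have := det_eq g
      rw [h0, h1] at this
      simp at this) := by
  rw [inf, Projectivization.smul_mk]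
  congr 1
  rw [smul_vec]; simp

theorem smul_pt (g : SL(2, E)) (t : E) :
    g • (pt t : PL E) = Projectivization.mk E
      ![g.1 0 0 * t + g.1 0 1, g.1 1 0 * t + g.1 1 1] (by
      intro h
      have h0 := congrFun h 0
      have h1 := congrFun h 1
      simp only [Matrix.cons_val_zero, Matrix.cons_val_one, Pi.zero_apply] at h0 h1
      have := det_eq g
      have e1 : g.1 0 1 = -(g.1 0 0 * t) := by linear_combination h0
      have e2 : g.1 1 1 = -(g.1 1 0 * t) := by linear_combination h1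
      rw [e1, e2] at this
      apply one_ne_zero (α := E)
      rw [← this]; ring) := by
  rw [pt, Projectivization.smul_mk]
  congr 1
  rw [smul_vec]; simp

theorem smul_inf_eq_inf_iff (g : SL(2, E)) : g • (inf : PL E) = inf ↔ g.1 1 0 = 0 := by
  rw [smul_inf, inf, mk_eq_mk_iff_cross]
  simp only [Matrix.cons_val_zero, Matrix.cons_val_one, mul_zero, mul_one]
  exact eq_comm

theorem smul_inf_eq_pt_iff (g : SL(2, E)) (t : E) :
    g • (inf : PL E) = pt t ↔ g.1 0 0 = g.1 1 0 * t := by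
  rw [smul_inf, pt, mk_eq_mk_iff_cross]
  simp

theorem smul_pt_eq_inf_iff (g : SL(2, E)) (t : E) :
    g • (pt t : PL E) = inf ↔ g.1 1 0 * t + g.1 1 1 = 0 := by
  rw [smul_pt, inf, mk_eq_mk_iff_cross]
  simp only [Matrix.cons_val_zero, Matrix.cons_val_one, mul_zero, mul_one]
  exact eq_comm

theorem smul_pt_eq_pt_iff (g : SL(2, E)) (t t' : E) :
    g • (pt t : PL E) = pt t' ↔
      g.1 0 0 * t + g.1 0 1 = (g.1 1 0 * t + g.1 1 1) * t' := by
  rw [smul_pt, pt, mk_eq_mk_iff_cross]
  simp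

theorem uu_smul_inf (s : E) : uu s • (inf : PL E) = inf := by
  rw [smul_inf_eq_inf_iff]; simp

theorem uu_smul_pt (s t : E) : uu s • (pt t : PL E) = pt (t + s) := by
  rw [smul_pt_eq_pt_iff]; simp

theorem ll_smul_pt_zero (s : E) : ll s • (pt 0 : PL E) = pt 0 := by
  rw [smul_pt_eq_pt_iff]; simp

theorem ww_smul_inf : (ww : SL(2, E)) • (inf : PL E) = pt 0 := by
  rw [smul_inf_eq_pt_iff]; simp

theorem neg_one_smul (x : PL E) : (-1 : SL(2, E)) • x = x := by
  rcases eq_inf_or_pt x with rfl | ⟨t, rfl⟩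
  · rw [smul_inf_eq_inf_iff]; simp
  · rw [smul_pt_eq_pt_iff]; simp

theorem neg_smul' (g : SL(2, E)) (x : PL E) : (-g) • x = g • x := by
  have : -g = g * (-1) := by simp
  rw [this, mul_smul, neg_one_smul]

/-- `SL₂` is transitive on the projective line -/
theorem exists_smul_inf_eq (x : PL E) : ∃ h : SL(2, E), h • (inf : PL E) = x := by
  rcases eq_inf_or_pt x with rfl | ⟨t, rfl⟩
  · exact ⟨1, one_smul _ _⟩
  · refine ⟨uu t * ww, ?_⟩
    rw [mul_smul, ww_smul_inf, uu_smul_pt, zero_add]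

end Cfsg.Agent.Lead.DicksonA
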