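import Mathlib
import Cfsg.Agent.Lead.DicksonA

set_option autoImplicit false

/-! # Dickson's theorem for `SL₂`, part B: fixed points on the projective line -/

namespace Cfsg.Agent.Lead.DicksonB

open Matrix Cfsg.Agent.Lead.DicksonA
open scoped LinearAlgebra.Projectivization MatrixGroups

variable {E : Type*} [Field E]

theorem borel_mul_11 (g : SL(2, E)) (hg : g.1 1 0 = 0) : g.1 0 0 * g.1 1 1 = 1 := by
  have hd := det_eq g
  rw [hg, mul_zero, sub_zero] at hd
  exact hd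

theorem borel_00_ne_zero (g : SL(2, E)) (hg : g.1 1 0 = 0) : g.1 0 0 ≠ 0 := by
  intro h
  have := borel_mul_11 g hg
  rw [h, zero_mul] at this
  exact zero_ne_one this

theorem borel_tr_sq (g : SL(2, E)) (hg : g.1 1 0 = 0) :
    tr g ^ 2 = 4 ↔ g.1 0 0 = g.1 1 1 := by
  have hd := borel_mul_11 g hg
  unfold tr
  constructor
  · intro h
    have : (g.1 0 0 - g.1 1 1) ^ 2 = 0 := by linear_combination h - 4 * hd
    have := pow_eq_zero_iff (n := 2) (by norm_num) |>.1 this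
    exact sub_eq_zero.1 this
  · intro h
    rw [← h] at hd ⊢
    linear_combination 4 * hd

/-- an upper triangular matrix with equal diagonal entries is `± uu t` -/
theorem borel_diag_eq (g : SL(2, E)) (hg : g.1 1 0 = 0) (h : g.1 0 0 = g.1 1 1) :
    (g.1 0 0 = 1 ∧ g = uu (g.1 0 1)) ∨ (g.1 0 0 = -1 ∧ g = -uu (-g.1 0 1)) := by
  have hd := borel_mul_11 g hg
  rw [← h] at hd
  have : (g.1 0 0 - 1) * (g.1 0 0 + 1) = 0 := by linear_combination hd
  rcases mul_eq_zero.1 this with h1 | h1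
  · left
    have ha : g.1 0 0 = 1 := sub_eq_zero.1 h1
    refine ⟨ha, ?_⟩
    apply ext4 <;> simp [ha, hg, ← h]
  · right
    have ha : g.1 0 0 = -1 := eq_neg_of_add_eq_zero_left h1
    refine ⟨ha, ?_⟩
    apply ext4 <;> simp [ha, hg, ← h]

/-- fixed points of an upper triangular matrix, equal diagonal -/
theorem borel_fix_unip (g : SL(2, E)) (hg : g.1 1 0 = 0) (h : g.1 0 0 = g.1 1 1)
    (hb : g.1 0 1 ≠ 0) (y : PL E) : g • y = y ↔ y = inf := by
  constructor
  · intro hy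
    rcases eq_inf_or_pt y with rfl | ⟨t, rfl⟩
    · rfl
    · exfalso
      rw [smul_pt_eq_pt_iff, hg, ← h] at hy
      apply hb
      linear_combination hy
  · rintro rfl
    exact (smul_inf_eq_inf_iff g).2 hg

/-- fixed points of an upper triangular matrix, distinct diagonal -/
theorem borel_fix_ss (g : SL(2, E)) (hg : g.1 1 0 = 0) (h : g.1 0 0 ≠ g.1 1 1)
    (y : PL E) : g • y = y ↔ y = inf ∨ y = pt (g.1 0 1 / (g.1 1 1 - g.1 0 0)) := by
  have hne : g.1 1 1 - g.1 0 0 ≠ 0 := sub_ne_zero.2 (Ne.symm h)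
  constructor
  · intro hy
    rcases eq_inf_or_pt y with rfl | ⟨t, rfl⟩
    · left; rfl
    · right
      rw [smul_pt_eq_pt_iff, hg] at hy
      congr 1
      rw [eq_div_iff hne]
      linear_combination -hy
  · rintro (rfl | rfl)
    · exact (smul_inf_eq_inf_iff g).2 hg
    · rw [smul_pt_eq_pt_iff, hg]
      field_simp
      ring

theorem ne_one_of_borel (g : SL(2, E)) (hg : g.1 1 0 = 0) (h : g.1 0 0 = g.1 1 1)
    (hg1 : g ≠ 1) (hg2 : g ≠ -1) : g.1 0 1 ≠ 0 := by
  intro hb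
  rcases borel_diag_eq g hg h with ⟨_, h1⟩ | ⟨_, h1⟩
  · rw [hb, uu_zero] at h1
    exact hg1 h1
  · rw [hb, neg_zero, uu_zero] at h1
    exact hg2 h1

section AlgClosed

variable [IsAlgClosed E]

/-- over an algebraically closed field of characteristic not two every element of `SL₂` has a
fixed point on the projective line -/
theorem exists_fixed (h2 : (2 : E) ≠ 0) (g : SL(2, E)) : ∃ x : PL E, g • x = x := by
  by_cases hc : g.1 1 0 = 0
  · exact ⟨inf, (smul_inf_eq_inf_iff g).2 hc⟩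
  · obtain ⟨σ, hσ⟩ := IsAlgClosed.exists_eq_mul_self ((g.1 0 0 + g.1 1 1) ^ 2 - 4)
    refine ⟨pt ((g.1 0 0 - g.1 1 1 + σ) / (2 * g.1 1 0)), ?_⟩
    rw [smul_pt_eq_pt_iff]
    have hdet := det_eq g
    field_simp
    linear_combination hσ - 4 * hdet

end AlgClosed

/-- conjugation and fixed points -/
theorem conj_smul_eq_iff (h g : SL(2, E)) (y : PL E) :
    g • y = y ↔ (h⁻¹ * g * h) • (h⁻¹ • y) = h⁻¹ • y := by
  rw [mul_smul, mul_smul, smul_inv_smul]
  constructor
  · intro hy; rw [hy]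
  · intro hy
    have := congrArg (fun z => h • z) hy
    simpa using this

theorem tr_conj' (h g : SL(2, E)) : tr (h⁻¹ * g * h) = tr g := by
  have := tr_conj h⁻¹ g
  rwa [inv_inv] at this

theorem conj_ne_one (h g : SL(2, E)) (hg : g ≠ 1) : h⁻¹ * g * h ≠ 1 := by
  intro h1
  apply hg
  have : g = h * (h⁻¹ * g * h) * h⁻¹ := by group
  rw [this, h1]; group

theorem conj_ne_neg_one (h g : SL(2, E)) (hg : g ≠ -1) : h⁻¹ * g * h ≠ -1 := by
  intro h1
  apply hg
  have : g = h * (h⁻¹ * g * h) * h⁻¹ := by group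
  rw [this, h1]
  simp

section AlgClosed2

variable [IsAlgClosed E]

/-- a non-central element with `tr² = 4` has exactly one fixed point -/
theorem fix_unip (h2 : (2 : E) ≠ 0) (g : SL(2, E)) (hg1 : g ≠ 1) (hg2 : g ≠ -1)
    (htr : tr g ^ 2 = 4) : ∃ x : PL E, ∀ y, g • y = y ↔ y = x := by
  obtain ⟨x₀, hx₀⟩ := exists_fixed h2 g
  obtain ⟨h, rfl⟩ := exists_smul_inf_eq x₀
  have hfix : (h⁻¹ * g * h) • (inf : PL E) = inf := by
    rw [mul_smul, mul_smul, hx₀, inv_smul_smul]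
  have hc := (smul_inf_eq_inf_iff _).1 hfix
  have hdiag := (borel_tr_sq _ hc).1 (by rw [tr_conj']; exact htr)
  have hb := ne_one_of_borel _ hc hdiag (conj_ne_one h g hg1) (conj_ne_neg_one h g hg2)
  refine ⟨h • inf, fun y => ?_⟩
  rw [conj_smul_eq_iff h g y, borel_fix_unip _ hc hdiag hb]
  constructor
  · intro hy; rw [← hy, smul_inv_smul]
  · intro hy; rw [hy, inv_smul_smul]

/-- a non-central element with `tr² ≠ 4` has exactly two fixed points -/
theorem fix_ss (h2 : (2 : E) ≠ 0) (g : SL(2, E)) (htr : tr g ^ 2 ≠ 4) :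
    ∃ x₁ x₂ : PL E, x₁ ≠ x₂ ∧ ∀ y, g • y = y ↔ y = x₁ ∨ y = x₂ := by
  obtain ⟨x₀, hx₀⟩ := exists_fixed h2 g
  obtain ⟨h, rfl⟩ := exists_smul_inf_eq x₀
  have hfix : (h⁻¹ * g * h) • (inf : PL E) = inf := by
    rw [mul_smul, mul_smul, hx₀, inv_smul_smul]
  have hc := (smul_inf_eq_inf_iff _).1 hfix
  have hdiag : (h⁻¹ * g * h).1 0 0 ≠ (h⁻¹ * g * h).1 1 1 := by
    intro hd
    apply htr
    rw [← tr_conj' h g]
    exact (borel_tr_sq _ hc).2 hd
  refine ⟨h • inf, h • pt ((h⁻¹ * g * h).1 0 1 / ((h⁻¹ * g * h).1 1 1 - (h⁻¹ * g * h).1 0 0)),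
    ?_, fun y => ?_⟩
  · intro he
    have := smul_left_cancel h he
    exact pt_ne_inf _ this.symm
  · rw [conj_smul_eq_iff h g y, borel_fix_ss _ hc hdiag]
    constructor
    · rintro (hy | hy)
      · left; rw [← hy, smul_inv_smul]
      · right; rw [← hy, smul_inv_smul]
    · rintro (hy | hy)
      · left; rw [hy, inv_smul_smul]
      · right; rw [hy, inv_smul_smul]

end AlgClosed2

/-- powers of an upper triangular matrix -/
theorem borel_pow (g : SL(2, E)) (hg : g.1 1 0 = 0) (n : ℕ) :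
    (g ^ n).1 1 0 = 0 ∧ (g ^ n).1 0 0 = g.1 0 0 ^ n := by
  induction n with
  | zero => simp
  | succ n ih =>
    rw [pow_succ]
    refine ⟨?_, ?_⟩
    · rw [mul_10, ih.1, hg]; simp
    · rw [mul_00, ih.2, hg]; simp [pow_succ]

section CharP

variable [IsAlgClosed E] (p : ℕ) [Fact p.Prime] [CharP E p]

/-- in characteristic `p`, an element of `p`-power order is conjugate to some `uu t` -/
theorem unip_of_pow (h2 : (2 : E) ≠ 0) (g : SL(2, E)) (k : ℕ) (hg : g ^ (p ^ k) = 1) :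
    ∃ (h : SL(2, E)) (t : E), g = h * uu t * h⁻¹ := by
  obtain ⟨x₀, hx₀⟩ := exists_fixed h2 g
  obtain ⟨h, rfl⟩ := exists_smul_inf_eq x₀
  have hfix : (h⁻¹ * g * h) • (inf : PL E) = inf := by
    rw [mul_smul, mul_smul, hx₀, inv_smul_smul]
  have hc := (smul_inf_eq_inf_iff _).1 hfix
  have hpow : (h⁻¹ * g * h) ^ (p ^ k) = 1 := by
    have : (h⁻¹ * g * h) ^ (p ^ k) = h⁻¹ * g ^ (p ^ k) * h := by
      have := conj_pow (a := h⁻¹) (b := g) (i := p ^ k)
      rwa [inv_inv] at this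
    rw [this, hg]; group
  have h00 := (borel_pow _ hc (p ^ k)).2
  rw [hpow] at h00
  simp only [one_00] at h00
  have ha : (h⁻¹ * g * h).1 0 0 = 1 := by
    have h3 : ((h⁻¹ * g * h).1 0 0 - 1) ^ (p ^ k) = 0 := by
      rw [sub_pow_char_pow, ← h00]; simp
    have := pow_eq_zero_iff (Nat.pos_iff_ne_zero.1 (pow_pos (Fact.out : p.Prime).pos k)) |>.1 h3
    exact sub_eq_zero.1 this
  have hd : (h⁻¹ * g * h).1 1 1 = 1 := by
    have := borel_mul_11 _ hc
    rw [ha, one_mul] at this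
    exact this
  refine ⟨h, (h⁻¹ * g * h).1 0 1, ?_⟩
  have hu : h⁻¹ * g * h = uu ((h⁻¹ * g * h).1 0 1) := by
    apply ext4 <;> simp [ha, hd, hc]
  rw [← hu]; group

end CharP

/-- `uu t` fixes only the point at infinity -/
theorem uu_fix_iff (t : E) (ht : t ≠ 0) (y : PL E) : uu t • y = y ↔ y = inf :=
  borel_fix_unip (uu t) (by simp) (by simp) (by simpa using ht) y

/-- `ll t` fixes only the point zero -/
theorem ll_fix_iff (t : E) (ht : t ≠ 0) (y : PL E) : ll t • y = y ↔ y = pt 0 := by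
  have h1 : ll t = ww * uu (-t) * ww⁻¹ := by rw [ww_uu_ww, neg_neg]
  constructor
  · intro hy
    have h3 : uu (-t) • ((ww : SL(2, E))⁻¹ • y) = (ww : SL(2, E))⁻¹ • y := by
      have : uu (-t) = (ww : SL(2, E))⁻¹ * ll t * ww := by rw [h1]; group
      rw [this, mul_smul, mul_smul, smul_inv_smul, hy]
    have := (uu_fix_iff (-t) (neg_ne_zero.2 ht) _).1 h3
    rw [← ww_smul_inf (E := E), ← this, smul_inv_smul]
  · rintro rfl
    exact ll_smul_pt_zero t

end Cfsg.Agent.Lead.DicksonB
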