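import Mathlib

set_option autoImplicit false

/-! # Dickson's theorem for `SL₂`, part C: counting lemmas for finite subgroups acting on a set -/

namespace Cfsg.Agent.Lead.DicksonC

variable {G X : Type*} [Group G] [MulAction G X]

/-- the finite set of elements of a finite subgroup -/
noncomputable def subFin (H : Subgroup G) [Finite H] : Finset G :=
  (Set.toFinite (H : Set G)).toFinset

theorem mem_subFin (H : Subgroup G) [Finite H] (g : G) : g ∈ subFin H ↔ g ∈ H := by
  simp [subFin]

theorem card_subFin (H : Subgroup G) [Finite H] : (subFin H).card = Nat.card H := by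
  have := Set.ncard_eq_toFinset_card (H : Set G) (Set.toFinite _)
  rw [subFin, ← this, ← Nat.card_coe_set_eq]
  rfl

/-- stabilizer of a point in a subgroup -/
def stab (L : Subgroup G) (x : X) : Subgroup G := L ⊓ MulAction.stabilizer G x

theorem mem_stab (L : Subgroup G) (x : X) (g : G) : g ∈ stab L x ↔ g ∈ L ∧ g • x = x := by
  simp [stab, Subgroup.mem_inf, MulAction.mem_stabilizer_iff]

theorem stab_le (L : Subgroup G) (x : X) : stab L x ≤ L := inf_le_left

instance stab_finite (L : Subgroup G) [Finite L] (x : X) : Finite (stab L x) :=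
  Finite.of_injective (fun g : stab L x => (⟨g.1, stab_le L x g.2⟩ : L))
    (fun a b h => Subtype.ext (by simpa using congrArg Subtype.val h))

/-- orbit of a point under a subgroup -/
def orb (L : Subgroup G) (x : X) : Set X := (fun g : G => g • x) '' (L : Set G)

theorem mem_orb (L : Subgroup G) (x y : X) : y ∈ orb L x ↔ ∃ g ∈ L, g • x = y := by
  simp [orb]

theorem self_mem_orb (L : Subgroup G) (x : X) : x ∈ orb L x :=
  (mem_orb L x x).2 ⟨1, L.one_mem, one_smul _ _⟩

theorem orb_finite (L : Subgroup G) [Finite L] (x : X) : (orb L x).Finite :=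
  (Set.toFinite (L : Set G)).image _

theorem smul_mem_orb (L : Subgroup G) (x y : X) (hy : y ∈ orb L x) (g : G) (hg : g ∈ L) :
    g • y ∈ orb L x := by
  obtain ⟨h, hh, rfl⟩ := (mem_orb L x y).1 hy
  exact (mem_orb L x _).2 ⟨g * h, L.mul_mem hg hh, mul_smul _ _ _⟩

theorem orb_eq_of_mem (L : Subgroup G) (x y : X) (hy : y ∈ orb L x) : orb L y = orb L x := by
  obtain ⟨h, hh, rfl⟩ := (mem_orb L x y).1 hy
  ext z
  rw [mem_orb, mem_orb]
  constructor
  · rintro ⟨g, hg, rfl⟩
    exact ⟨g * h, L.mul_mem hg hh, mul_smul _ _ _⟩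
  · rintro ⟨g, hg, rfl⟩
    refine ⟨g * h⁻¹, L.mul_mem hg (L.inv_mem hh), ?_⟩
    rw [mul_smul, inv_smul_smul]

theorem orb_disjoint (L : Subgroup G) (x y : X) (hy : y ∉ orb L x) :
    Disjoint (orb L x) (orb L y) := by
  rw [Set.disjoint_left]
  intro z hzx hzy
  apply hy
  rw [← orb_eq_of_mem L x z hzx, orb_eq_of_mem L y z hzy]
  exact self_mem_orb L y

/-- orbit–stabilizer for a finite subgroup -/
theorem card_orb_mul_card_stab (L : Subgroup G) [Finite L] (x : X) :
    (orb L x).ncard * Nat.card (stab L x) = Nat.card L := by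
  have h1 : MulAction.orbit L x = orb L x := by
    ext y
    rw [mem_orb]
    constructor
    · rintro ⟨g, rfl⟩
      exact ⟨g.1, g.2, rfl⟩
    · rintro ⟨g, hg, rfl⟩
      exact ⟨⟨g, hg⟩, rfl⟩
  have h2 : MulAction.stabilizer L x = (stab L x).subgroupOf L := by
    ext g
    rw [MulAction.mem_stabilizer_iff, Subgroup.mem_subgroupOf, mem_stab]
    constructor
    · intro h; exact ⟨g.2, h⟩
    · intro h; exact h.2
  have h3 : Nat.card ((stab L x).subgroupOf L) = Nat.card (stab L x) :=
    Nat.card_congr (Subgroup.subgroupOfEquivOfLe (stab_le L x)).toEquiv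
  rw [← h1, ← MulAction.index_stabilizer, h2, h3.symm]
  exact Subgroup.index_mul_card _

/-- stabilizers along an orbit are conjugate -/
theorem stab_smul (L : Subgroup G) (x : X) (h : G) (hh : h ∈ L) :
    stab L (h • x) = (stab L x).map (MulAut.conj h).toMonoidHom := by
  ext g
  rw [mem_stab, Subgroup.mem_map]
  constructor
  · rintro ⟨hg, hgx⟩
    refine ⟨h⁻¹ * g * h, (mem_stab L x _).2 ⟨L.mul_mem (L.mul_mem (L.inv_mem hh) hg) hh, ?_⟩, ?_⟩
    · rw [mul_smul, mul_smul, hgx, inv_smul_smul]
    · simp [MulAut.conj_apply]; group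
  · rintro ⟨k, hk, rfl⟩
    obtain ⟨hkL, hkx⟩ := (mem_stab L x k).1 hk
    refine ⟨?_, ?_⟩
    · simp only [MulEquiv.coe_toMonoidHom, MulAut.conj_apply]
      exact L.mul_mem (L.mul_mem hh hkL) (L.inv_mem hh)
    · simp only [MulEquiv.coe_toMonoidHom, MulAut.conj_apply]
      rw [mul_smul, mul_smul, inv_smul_smul, hkx]

theorem card_stab_smul (L : Subgroup G) (x : X) (h : G) (hh : h ∈ L) :
    Nat.card (stab L (h • x)) = Nat.card (stab L x) := by
  rw [stab_smul L x h hh]
  exact Nat.card_congr
    ((stab L x).equivMapOfInjective _ (MulAut.conj h).injective).symm.toEquiv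

theorem card_stab_of_mem_orb (L : Subgroup G) (x y : X) (hy : y ∈ orb L x) :
    Nat.card (stab L y) = Nat.card (stab L x) := by
  obtain ⟨h, hh, rfl⟩ := (mem_orb L x y).1 hy
  exact card_stab_smul L x h hh

open Classical in
/-- a finite subgroup acting freely on an invariant finite set: its order divides the size -/
theorem card_dvd_of_free (D : Subgroup G) [Finite D] :
    ∀ (n : ℕ) (S : Finset X), S.card = n → (∀ d ∈ D, ∀ a ∈ S, d • a ∈ S) →
      (∀ d ∈ D, ∀ a ∈ S, d • a = a → d = 1) → Nat.card D ∣ S.card := by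
  intro n
  induction n using Nat.strong_induction_on with
  | _ n ih =>
    intro S hS hinv hfree
    rcases S.eq_empty_or_nonempty with rfl | ⟨a, ha⟩
    · simp
    · -- the orbit of `a`
      let O : Finset X := (subFin D).image (fun d => d • a)
      have hOS : O ⊆ S := by
        intro y hy
        obtain ⟨d, hd, rfl⟩ := Finset.mem_image.1 hy
        exact hinv d ((mem_subFin D d).1 hd) a ha
      have hOcard : O.card = Nat.card D := by
        rw [Finset.card_image_of_injOn, card_subFin]
        intro d hd d' hd' hdd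
        have hd := (mem_subFin D d).1 hd
        have hd' := (mem_subFin D d').1 hd'
        have h1 : (d'⁻¹ * d) • a = a := by
          rw [mul_smul]
          show d'⁻¹ • (d • a) = a
          have : d • a = d' • a := hdd
          rw [this, inv_smul_smul]
        have := hfree _ (D.mul_mem (D.inv_mem hd') hd) a ha h1
        exact (inv_mul_eq_one.1 this).symm
      have hcard : S.card = O.card + (S \ O).card := by
        rw [← Finset.card_union_of_disjoint Finset.disjoint_sdiff, Finset.union_sdiff_of_subset hOS]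
      have hlt : (S \ O).card < n := by
        have : 0 < O.card := by
          rw [hOcard]; exact Nat.card_pos
        omega
      have hinv' : ∀ d ∈ D, ∀ b ∈ S \ O, d • b ∈ S \ O := by
        intro d hd b hb
        rw [Finset.mem_sdiff] at hb ⊢
        refine ⟨hinv d hd b hb.1, fun hO => hb.2 ?_⟩
        obtain ⟨e, he, hee⟩ := Finset.mem_image.1 hO
        have he := (mem_subFin D e).1 he
        refine Finset.mem_image.2 ⟨d⁻¹ * e, (mem_subFin D _).2 (D.mul_mem (D.inv_mem hd) he), ?_⟩
        show (d⁻¹ * e) • a = b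
        rw [mul_smul]
        have : e • a = d • b := hee
        rw [this, inv_smul_smul]
      have hfree' : ∀ d ∈ D, ∀ b ∈ S \ O, d • b = b → d = 1 := by
        intro d hd b hb
        exact hfree d hd b (Finset.mem_sdiff.1 hb).1
      have := ih (S \ O).card hlt (S \ O) rfl hinv' hfree'
      rw [hcard, hOcard]
      exact Dvd.dvd.add (dvd_refl _) this

end Cfsg.Agent.Lead.DicksonC
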