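import Mathlib
import Cfsg.Agent.Lead.DicksonA
import Cfsg.Agent.Lead.DicksonB
import Cfsg.Agent.Lead.DicksonC

set_option autoImplicit false

/-! # Dickson's theorem for `SL₂`, part D: the stabilizer of the point at infinity -/

namespace Cfsg.Agent.Lead.DicksonD

open Matrix Cfsg.Agent.Lead.DicksonA Cfsg.Agent.Lead.DicksonB Cfsg.Agent.Lead.DicksonC
open scoped LinearAlgebra.Projectivization MatrixGroups

variable {E : Type*} [Field E]

/-- the additive group of `t` with `uu t ∈ L` -/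
def TT (L : Subgroup SL(2, E)) : AddSubgroup E where
  carrier := {t | uu t ∈ L}
  zero_mem' := by simp [uu_zero, L.one_mem]
  add_mem' := by
    intro a b ha hb
    simp only [Set.mem_setOf_eq] at *
    rw [← uu_mul]; exact L.mul_mem ha hb
  neg_mem' := by
    intro a ha
    simp only [Set.mem_setOf_eq] at *
    rw [← uu_inv]; exact L.inv_mem ha

theorem mem_TT (L : Subgroup SL(2, E)) (t : E) : t ∈ TT L ↔ uu t ∈ L := Iff.rfl

instance TT_finite (L : Subgroup SL(2, E)) [Finite L] : Finite (TT L) :=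
  Finite.of_injective (fun t : TT L => (⟨uu t.1, t.2⟩ : L))
    (fun a b h => Subtype.ext (uu_injective (congrArg Subtype.val h)))

/-- the finite set `T` -/
noncomputable def Tfin (L : Subgroup SL(2, E)) [Finite L] : Finset E :=
  (@Set.toFinite _ (TT L : Set E) (TT_finite L)).toFinset

theorem mem_Tfin (L : Subgroup SL(2, E)) [Finite L] (t : E) : t ∈ Tfin L ↔ uu t ∈ L := by
  simp [Tfin, mem_TT]

theorem card_Tfin (L : Subgroup SL(2, E)) [Finite L] : (Tfin L).card = Nat.card (TT L) := by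
  have := Set.ncard_eq_toFinset_card (TT L : Set E) (@Set.toFinite _ (TT L : Set E) (TT_finite L))
  rw [Tfin, ← this, ← Nat.card_coe_set_eq]
  rfl

/-- the unipotent subgroup `L ∩ U` -/
def PP (L : Subgroup SL(2, E)) : Subgroup SL(2, E) where
  carrier := {g | g ∈ L ∧ ∃ t, g = uu t}
  one_mem' := ⟨L.one_mem, 0, uu_zero.symm⟩
  mul_mem' := by
    rintro a b ⟨ha, s, rfl⟩ ⟨hb, t, rfl⟩
    exact ⟨L.mul_mem ha hb, s + t, uu_mul s t⟩
  inv_mem' := by
    rintro a ⟨ha, s, rfl⟩
    exact ⟨L.inv_mem ha, -s, uu_inv s⟩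

theorem mem_PP (L : Subgroup SL(2, E)) (g : SL(2, E)) : g ∈ PP L ↔ g ∈ L ∧ ∃ t, g = uu t :=
  Iff.rfl

theorem PP_le (L : Subgroup SL(2, E)) : PP L ≤ L := fun _ h => h.1

instance PP_finite (L : Subgroup SL(2, E)) [Finite L] : Finite (PP L) :=
  Finite.of_injective (fun g : PP L => (⟨g.1, PP_le L g.2⟩ : L))
    (fun a b h => Subtype.ext (by simpa using congrArg Subtype.val h))

theorem card_PP (L : Subgroup SL(2, E)) [Finite L] : Nat.card (PP L) = Nat.card (TT L) := by
  apply Nat.card_congr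
  refine Equiv.ofBijective (fun g : PP L => (⟨g.1.1 0 1, ?_⟩ : TT L)) ⟨?_, ?_⟩
  · obtain ⟨hg, t, ht⟩ := g.2
    rw [mem_TT]
    have : g.1.1 0 1 = t := by rw [ht]; simp
    rw [this, ← ht]; exact hg
  · intro a b h
    obtain ⟨_, s, hs⟩ := a.2
    obtain ⟨_, t, ht⟩ := b.2
    have h1 : a.1.1 0 1 = b.1.1 0 1 := congrArg Subtype.val h
    rw [hs, ht] at h1
    simp only [uu_01] at h1
    apply Subtype.ext
    rw [hs, ht, h1]
  · intro t
    refine ⟨⟨uu t.1, t.2, t.1, rfl⟩, ?_⟩
    apply Subtype.ext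
    simp

/-- the kernel of the square of the diagonal character: elements `± uu t` of `L` -/
def KK (L : Subgroup SL(2, E)) : Subgroup SL(2, E) where
  carrier := {g | g ∈ L ∧ g.1 1 0 = 0 ∧ g.1 0 0 = g.1 1 1}
  one_mem' := ⟨L.one_mem, by simp, by simp⟩
  mul_mem' := by
    rintro a b ⟨ha, ha1, ha2⟩ ⟨hb, hb1, hb2⟩
    refine ⟨L.mul_mem ha hb, ?_, ?_⟩
    · rw [mul_10, ha1, hb1]; simp
    · rw [mul_00, mul_11, ha1, hb1, ha2, hb2]; simp
  inv_mem' := by
    rintro a ⟨ha, ha1, ha2⟩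
    refine ⟨L.inv_mem ha, ?_, ?_⟩
    · rw [inv_10, ha1]; simp
    · rw [inv_00, inv_11, ha2]

theorem mem_KK (L : Subgroup SL(2, E)) (g : SL(2, E)) :
    g ∈ KK L ↔ g ∈ L ∧ g.1 1 0 = 0 ∧ g.1 0 0 = g.1 1 1 := Iff.rfl

theorem KK_le (L : Subgroup SL(2, E)) : KK L ≤ L := fun _ h => h.1

instance KK_finite (L : Subgroup SL(2, E)) [Finite L] : Finite (KK L) :=
  Finite.of_injective (fun g : KK L => (⟨g.1, KK_le L g.2⟩ : L))
    (fun a b h => Subtype.ext (by simpa using congrArg Subtype.val h))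

theorem neg_uu_mem (L : Subgroup SL(2, E)) (hneg : (-1 : SL(2, E)) ∈ L) (t : E) :
    -uu t ∈ L ↔ uu t ∈ L := by
  have h1 : -uu t = (-1) * uu t := by simp
  have h2 : uu t = (-1) * (-uu t) := by simp
  constructor
  · intro h; rw [h2]; exact L.mul_mem hneg h
  · intro h; rw [h1]; exact L.mul_mem hneg h

open Classical in
theorem card_KK (h2 : (2 : E) ≠ 0) (L : Subgroup SL(2, E)) [Finite L]
    (hneg : (-1 : SL(2, E)) ∈ L) : Nat.card (KK L) = 2 * Nat.card (TT L) := by
  obtain ⟨Tf, hTf⟩ : ∃ Tf : Finset E, Tf = Tfin L := ⟨_, rfl⟩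
  have hTfmem : ∀ t, t ∈ Tf ↔ uu t ∈ L := by
    intro t; rw [hTf]; exact mem_Tfin L t
  have hTfcard : Tf.card = Nat.card (TT L) := by
    rw [hTf]; exact card_Tfin L
  have hA : (Tf.image uu).card = Tf.card :=
    Finset.card_image_of_injective _ uu_injective
  have hB : (Tf.image (fun t => -uu t)).card = Tf.card := by
    apply Finset.card_image_of_injective
    intro s t h
    exact uu_injective (neg_injective h)
  have hdisj : Disjoint (Tf.image uu) (Tf.image (fun t => -uu t)) := by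
    rw [Finset.disjoint_left]
    intro g hg1 hg2
    obtain ⟨s, _, rfl⟩ := Finset.mem_image.1 hg1
    obtain ⟨t, _, ht⟩ := Finset.mem_image.1 hg2
    have := congrArg (fun g : SL(2, E) => g.1 0 0) ht
    simp only [neg_00, uu_00] at this
    apply h2
    linear_combination -this
  have hunion : subFin (KK L) = Tf.image uu ∪ Tf.image (fun t => -uu t) := by
    ext g
    rw [mem_subFin, mem_KK, Finset.mem_union, Finset.mem_image, Finset.mem_image]
    constructor
    · rintro ⟨hg, h10, hd⟩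
      rcases borel_diag_eq g h10 hd with ⟨_, h1⟩ | ⟨_, h1⟩
      · left
        refine ⟨g.1 0 1, ?_, h1.symm⟩
        rw [hTfmem, ← h1]; exact hg
      · right
        refine ⟨-g.1 0 1, ?_, h1.symm⟩
        rw [hTfmem, ← neg_uu_mem L hneg, ← h1]; exact hg
    · rintro (⟨t, ht, rfl⟩ | ⟨t, ht, rfl⟩)
      · exact ⟨(hTfmem t).1 ht, by simp, by simp⟩
      · refine ⟨(neg_uu_mem L hneg t).2 ((hTfmem t).1 ht), ?_, ?_⟩
        · rw [neg_10]; simp
        · rw [neg_00, neg_11]; simp
  rw [← card_subFin, hunion, Finset.card_union_of_disjoint hdisj, hA, hB, hTfcard]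
  ring

/-- the stabilizer of infinity in `L` -/
noncomputable abbrev NN (L : Subgroup SL(2, E)) : Subgroup SL(2, E) := stab L (inf : PL E)

theorem mem_NN (L : Subgroup SL(2, E)) (g : SL(2, E)) : g ∈ NN L ↔ g ∈ L ∧ g.1 1 0 = 0 := by
  rw [mem_stab, smul_inf_eq_inf_iff]

/-- the diagonal character on the stabilizer of infinity -/
noncomputable def delta (L : Subgroup SL(2, E)) : NN L →* Eˣ where
  toFun g := Units.mk0 (g.1.1 0 0) (borel_00_ne_zero g.1 ((mem_NN L g.1).1 g.2).2)
  map_one' := by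
    apply Units.ext; simp
  map_mul' := by
    intro a b
    apply Units.ext
    have hb := ((mem_NN L b.1).1 b.2).2
    simp only [Units.val_mk0, Units.val_mul]
    show (a.1 * b.1).1 0 0 = _
    rw [mul_00, hb]; simp

/-- the square of the diagonal character -/
noncomputable def chi (L : Subgroup SL(2, E)) : NN L →* Eˣ :=
  (powMonoidHom 2).comp (delta L)

theorem chi_apply (L : Subgroup SL(2, E)) (g : NN L) : ((chi L g : Eˣ) : E) = g.1.1 0 0 ^ 2 := by
  simp [chi, delta]

theorem chi_ker_map (L : Subgroup SL(2, E)) : (chi L).ker.map (NN L).subtype = KK L := by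
  ext g
  rw [Subgroup.mem_map, mem_KK]
  constructor
  · rintro ⟨k, hk, rfl⟩
    have hk2 := (mem_NN L k.1).1 k.2
    refine ⟨hk2.1, hk2.2, ?_⟩
    rw [MonoidHom.mem_ker] at hk
    have h1 : k.1.1 0 0 ^ 2 = 1 := by
      rw [← chi_apply, hk]; simp
    have h3 := borel_mul_11 k.1 hk2.2
    have h4 : k.1.1 0 0 ≠ 0 := borel_00_ne_zero k.1 hk2.2
    simp only [Subgroup.coe_subtype]
    apply mul_left_cancel₀ h4
    rw [h3, ← pow_two, h1]
  · rintro ⟨hg, h10, hd⟩
    refine ⟨⟨g, (mem_NN L g).2 ⟨hg, h10⟩⟩, ?_, rfl⟩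
    rw [MonoidHom.mem_ker]
    apply Units.ext
    rw [chi_apply]
    have h3 := borel_mul_11 g h10
    simp only [Units.val_one]
    rw [pow_two]
    nth_rewrite 2 [hd]
    exact h3

/-- `|N| = 2 r n̄` -/
theorem card_NN (h2 : (2 : E) ≠ 0) (L : Subgroup SL(2, E)) [Finite L]
    (hneg : (-1 : SL(2, E)) ∈ L) :
    Nat.card (NN L) = 2 * Nat.card (TT L) * Nat.card (chi L).range := by
  have h1 : Nat.card (chi L).ker = Nat.card (KK L) := by
    rw [← chi_ker_map]
    exact (Subgroup.card_map_of_injective (NN L).subtype_injective).symm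
  rw [← card_KK h2 L hneg, ← h1, ← Subgroup.index_ker]
  exact (Subgroup.card_mul_index _).symm

instance chi_range_finite (L : Subgroup SL(2, E)) [Finite L] : Finite (chi L).range := by
  have : Finite (NN L) := inferInstance
  exact Finite.of_surjective (chi L).rangeRestrict (chi L).rangeRestrict_surjective

open Classical in
/-- `n̄` divides `r - 1` -/
theorem nbar_dvd (L : Subgroup SL(2, E)) [Finite L] :
    Nat.card (chi L).range ∣ Nat.card (TT L) - 1 := by
  obtain ⟨Tf, hTf⟩ : ∃ Tf : Finset E, Tf = Tfin L := ⟨_, rfl⟩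
  have hTfmem : ∀ t, t ∈ Tf ↔ uu t ∈ L := by
    intro t; rw [hTf]; exact mem_Tfin L t
  have hTfcard : Tf.card = Nat.card (TT L) := by
    rw [hTf]; exact card_Tfin L
  have h0 : (0 : E) ∈ Tf := by rw [hTfmem, uu_zero]; exact L.one_mem
  have hcard : (Tf.erase 0).card = Nat.card (TT L) - 1 := by
    rw [Finset.card_erase_of_mem h0, hTfcard]
  rw [← hcard]
  apply card_dvd_of_free (G := Eˣ) (X := E) (chi L).range _ _ rfl
  · rintro d ⟨g, rfl⟩ t ht
    rw [Finset.mem_erase] at ht ⊢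
    have hg := (mem_NN L g.1).1 g.2
    have hval : (chi L g) • t = g.1.1 0 0 ^ 2 * t := by
      rw [Units.smul_def, chi_apply, smul_eq_mul]
    rw [hval]
    refine ⟨mul_ne_zero (pow_ne_zero _ (borel_00_ne_zero g.1 hg.2)) ht.1, ?_⟩
    rw [hTfmem, ← borel_conj_uu g.1 hg.2]
    exact L.mul_mem (L.mul_mem hg.1 ((hTfmem t).1 ht.2)) (L.inv_mem hg.1)
  · rintro d _ t ht hdt
    rw [Finset.mem_erase] at ht
    apply Units.ext
    rw [Units.smul_def, smul_eq_mul] at hdt
    have : ((d : E) - 1) * t = 0 := by linear_combination hdt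
    rcases mul_eq_zero.1 this with h | h
    · simpa using sub_eq_zero.1 h
    · exact absurd h ht.1

open Classical in
/-- `r` divides `s - 1` -/
theorem r_dvd (L : Subgroup SL(2, E)) [Finite L] :
    Nat.card (TT L) ∣ (orb L (inf : PL E)).ncard - 1 := by
  set Of : Finset (PL E) := (orb_finite L (inf : PL E)).toFinset with hOf
  have hOfmem : ∀ y, y ∈ Of ↔ y ∈ orb L (inf : PL E) := by
    intro y; simp [hOf]
  have hOfcard : Of.card = (orb L (inf : PL E)).ncard :=
    (Set.ncard_eq_toFinset_card _ _).symm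
  have h0 : (inf : PL E) ∈ Of := (hOfmem _).2 (self_mem_orb L _)
  have hcard : (Of.erase inf).card = (orb L (inf : PL E)).ncard - 1 := by
    rw [Finset.card_erase_of_mem h0, hOfcard]
  rw [← hcard, ← card_PP]
  apply card_dvd_of_free (PP L) _ _ rfl
  · rintro d ⟨hd, t, rfl⟩ y hy
    rw [Finset.mem_erase] at hy ⊢
    refine ⟨?_, ?_⟩
    · intro h
      apply hy.1
      have : uu t • y = uu t • (inf : PL E) := by rw [h, uu_smul_inf]
      exact smul_left_cancel _ this
    · rw [hOfmem] at hy ⊢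
      exact smul_mem_orb L _ _ hy.2 _ hd
  · rintro d ⟨hd, t, rfl⟩ y hy hfix
    rw [Finset.mem_erase] at hy
    by_cases ht : t = 0
    · rw [ht, uu_zero]
    · exact absurd ((uu_fix_iff t ht y).1 hfix) hy.1

/-- `3 ≤ r` -/
theorem three_le_r (h2 : (2 : E) ≠ 0) (L : Subgroup SL(2, E)) [Finite L] (hu : uu 1 ∈ L) :
    3 ≤ Nat.card (TT L) := by
  classical
  have h1 : (1 : E) ∈ TT L := hu
  have hm1 : (-1 : E) ∈ TT L := (TT L).neg_mem h1
  have h0 : (0 : E) ∈ TT L := (TT L).zero_mem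
  have hn1 : (⟨1, h1⟩ : TT L) ∉ ({⟨-1, hm1⟩} : Finset (TT L)) := by
    simp only [Finset.mem_singleton, Subtype.mk.injEq]
    intro h; apply h2; linear_combination h
  have hn2 : (⟨0, h0⟩ : TT L) ∉ ({⟨1, h1⟩, ⟨-1, hm1⟩} : Finset (TT L)) := by
    simp only [Finset.mem_insert, Finset.mem_singleton, Subtype.mk.injEq]
    rintro (h | h)
    · exact zero_ne_one h
    · exact one_ne_zero (α := E) (by linear_combination h)
  have hsub : ({⟨0, h0⟩, ⟨1, h1⟩, ⟨-1, hm1⟩} : Finset (TT L)).card = 3 := by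
    rw [Finset.card_insert_of_notMem hn2, Finset.card_insert_of_notMem hn1,
      Finset.card_singleton]
  have : Fintype (TT L) := Fintype.ofFinite _
  rw [← hsub, Nat.card_eq_fintype_card]
  exact Finset.card_le_univ _

/-- in characteristic `p`, `p` divides `r` -/
theorem p_dvd_r (p : ℕ) [Fact p.Prime] [CharP E p] (L : Subgroup SL(2, E)) [Finite L]
    (hu : uu 1 ∈ L) : p ∣ Nat.card (TT L) := by
  have h1 : (1 : E) ∈ TT L := hu
  have hle : AddSubgroup.zmultiples (1 : E) ≤ TT L := by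
    rw [AddSubgroup.zmultiples_le]; exact h1
  have hcard : Nat.card (AddSubgroup.zmultiples (1 : E)) = p := by
    rw [Nat.card_zmultiples]
    exact CharP.eq E (CharP.addOrderOf_one E) (inferInstance : CharP E p)
  rw [← hcard]
  exact AddSubgroup.card_dvd_of_le hle

end Cfsg.Agent.Lead.DicksonD
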