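import Mathlib
import Cfsg.Agent.Lead.DicksonA
import Cfsg.Agent.Lead.DicksonB
import Cfsg.Agent.Lead.DicksonC
import Cfsg.Agent.Lead.DicksonD

set_option autoImplicit false

/-! # Dickson's theorem for `SL₂`, part E: counting the unipotent elements -/

namespace Cfsg.Agent.Lead.DicksonE

open Matrix Cfsg.Agent.Lead.DicksonA Cfsg.Agent.Lead.DicksonB Cfsg.Agent.Lead.DicksonC
  Cfsg.Agent.Lead.DicksonD
open scoped LinearAlgebra.Projectivization MatrixGroups

variable {E : Type*} [Field E]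

/-- non-central elements of `L` -/
noncomputable def Af (L : Subgroup SL(2, E)) [Finite L] : Finset SL(2, E) := by
  classical exact (subFin L).filter (fun g => g ≠ 1 ∧ g ≠ -1)

theorem mem_Af (L : Subgroup SL(2, E)) [Finite L] (g : SL(2, E)) :
    g ∈ Af L ↔ g ∈ L ∧ g ≠ 1 ∧ g ≠ -1 := by
  classical
  simp [Af, mem_subFin]

/-- unipotent-type elements of `L` -/
noncomputable def Uf (L : Subgroup SL(2, E)) [Finite L] : Finset SL(2, E) := by
  classical exact (Af L).filter (fun g => tr g ^ 2 = 4)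

theorem mem_Uf (L : Subgroup SL(2, E)) [Finite L] (g : SL(2, E)) :
    g ∈ Uf L ↔ g ∈ L ∧ g ≠ 1 ∧ g ≠ -1 ∧ tr g ^ 2 = 4 := by
  classical
  simp [Uf, mem_Af, and_assoc]

/-- the orbit of infinity as a finset -/
noncomputable def Of (L : Subgroup SL(2, E)) [Finite L] : Finset (PL E) :=
  (orb_finite L (inf : PL E)).toFinset

theorem mem_Of (L : Subgroup SL(2, E)) [Finite L] (y : PL E) :
    y ∈ Of L ↔ ∃ g ∈ L, g • (inf : PL E) = y := by
  simp [Of, mem_orb]

theorem card_Of (L : Subgroup SL(2, E)) [Finite L] :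
    (Of L).card = (orb L (inf : PL E)).ncard :=
  (Set.ncard_eq_toFinset_card _ _).symm

theorem inf_mem_Of (L : Subgroup SL(2, E)) [Finite L] : (inf : PL E) ∈ Of L :=
  (mem_Of L _).2 ⟨1, L.one_mem, one_smul _ _⟩

theorem smul_mem_Of (L : Subgroup SL(2, E)) [Finite L] (y : PL E) (hy : y ∈ Of L)
    (g : SL(2, E)) (hg : g ∈ L) : g • y ∈ Of L := by
  obtain ⟨h, hh, rfl⟩ := (mem_Of L y).1 hy
  exact (mem_Of L _).2 ⟨g * h, L.mul_mem hg hh, mul_smul _ _ _⟩

theorem conj_ne_one' (h g : SL(2, E)) (hg : g ≠ 1) : h * g * h⁻¹ ≠ 1 := by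
  have := conj_ne_one h⁻¹ g hg
  rwa [inv_inv] at this

theorem conj_ne_neg_one' (h g : SL(2, E)) (hg : g ≠ -1) : h * g * h⁻¹ ≠ -1 := by
  have := conj_ne_neg_one h⁻¹ g hg
  rwa [inv_inv] at this

theorem conj_mem_Uf (L : Subgroup SL(2, E)) [Finite L] (g h : SL(2, E)) (hg : g ∈ Uf L)
    (hh : h ∈ L) : h * g * h⁻¹ ∈ Uf L := by
  rw [mem_Uf] at hg ⊢
  exact ⟨L.mul_mem (L.mul_mem hh hg.1) (L.inv_mem hh), conj_ne_one' h g hg.2.1,
    conj_ne_neg_one' h g hg.2.2.1, by rw [tr_conj]; exact hg.2.2.2⟩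

open Classical in
/-- number of unipotent-type elements fixing infinity -/
theorem card_Uf_inf (h2 : (2 : E) ≠ 0) (L : Subgroup SL(2, E)) [Finite L]
    (hneg : (-1 : SL(2, E)) ∈ L) :
    ((Uf L).filter (fun g => g • (inf : PL E) = inf)).card = 2 * Nat.card (TT L) - 2 := by
  have h1 : (Uf L).filter (fun g => g • (inf : PL E) = inf) =
      ((subFin (KK L)).erase 1).erase (-1) := by
    ext g
    rw [Finset.mem_filter, mem_Uf, Finset.mem_erase, Finset.mem_erase, mem_subFin, mem_KK,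
      smul_inf_eq_inf_iff]
    constructor
    · rintro ⟨⟨hg, hg1, hg2, htr⟩, h10⟩
      exact ⟨hg2, hg1, hg, h10, (borel_tr_sq g h10).1 htr⟩
    · rintro ⟨hg2, hg1, hg, h10, hd⟩
      exact ⟨⟨hg, hg1, hg2, (borel_tr_sq g h10).2 hd⟩, h10⟩
  have hne : (-1 : SL(2, E)) ≠ 1 := by
    intro h
    have := congrArg (fun g : SL(2, E) => g.1 0 0) h
    simp only [neg_00, one_00] at this
    apply h2; linear_combination -this
  have hm1 : (-1 : SL(2, E)) ∈ (subFin (KK L)).erase 1 := by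
    rw [Finset.mem_erase, mem_subFin, mem_KK]
    refine ⟨hne, hneg, ?_, ?_⟩
    · rw [neg_10]; simp
    · rw [neg_00, neg_11]; simp
  have h1' : (1 : SL(2, E)) ∈ subFin (KK L) := (mem_subFin _ _).2 (KK L).one_mem
  rw [h1, Finset.card_erase_of_mem hm1, Finset.card_erase_of_mem h1', card_subFin,
    card_KK h2 L hneg]
  omega

open Classical in
/-- number of unipotent-type elements fixing a point of the orbit of infinity -/
theorem card_Uf_pt (h2 : (2 : E) ≠ 0) (L : Subgroup SL(2, E)) [Finite L]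
    (hneg : (-1 : SL(2, E)) ∈ L) (x : PL E) (hx : x ∈ Of L) :
    ((Uf L).filter (fun g => g • x = x)).card = 2 * Nat.card (TT L) - 2 := by
  obtain ⟨h, hh, rfl⟩ := (mem_Of L x).1 hx
  rw [← card_Uf_inf h2 L hneg]
  symm
  apply Finset.card_bij (fun g _ => h * g * h⁻¹)
  · intro g hg
    rw [Finset.mem_filter] at hg ⊢
    refine ⟨conj_mem_Uf L g h hg.1 hh, ?_⟩
    rw [mul_smul, mul_smul, inv_smul_smul, hg.2]
  · intro a _ b _ hab
    have := mul_right_cancel hab
    exact mul_left_cancel this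
  · intro g hg
    rw [Finset.mem_filter] at hg
    refine ⟨h⁻¹ * g * h, ?_, by group⟩
    rw [Finset.mem_filter]
    refine ⟨?_, ?_⟩
    · have := conj_mem_Uf L g h⁻¹ hg.1 (L.inv_mem hh)
      rwa [inv_inv] at this
    · rw [mul_smul, mul_smul, hg.2, inv_smul_smul]

theorem smul_pow_eq {G X : Type*} [Group G] [MulAction G X] (a b : G)
    (hab : ∀ y : X, a • y = b • y) (n : ℕ) (y : X) : a ^ n • y = b ^ n • y := by
  induction n generalizing y with
  | zero => simp
  | succ n ih => rw [pow_succ, pow_succ, mul_smul, mul_smul, hab, ih]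

section AlgClosed

variable [IsAlgClosed E]

/-- the `p`-th power of a unipotent-type element acts trivially -/
theorem pow_p_smul (p : ℕ) [Fact p.Prime] [CharP E p] (h2 : (2 : E) ≠ 0) (g : SL(2, E)) (htr : tr g ^ 2 = 4) (y : PL E) :
    g ^ p • y = y := by
  obtain ⟨x₀, hx₀⟩ := exists_fixed h2 g
  obtain ⟨h, rfl⟩ := exists_smul_inf_eq x₀
  have hfix : (h⁻¹ * g * h) • (inf : PL E) = inf := by
    rw [mul_smul, mul_smul, hx₀, inv_smul_smul]
  have hc := (smul_inf_eq_inf_iff _).1 hfix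
  have hdiag := (borel_tr_sq _ hc).1 (by rw [tr_conj']; exact htr)
  have key : ∃ b : E, ∀ z : PL E, (h⁻¹ * g * h) • z = uu b • z := by
    rcases borel_diag_eq _ hc hdiag with ⟨_, h1⟩ | ⟨_, h1⟩
    · exact ⟨(h⁻¹ * g * h).1 0 1, fun z => by rw [← h1]⟩
    · refine ⟨-(h⁻¹ * g * h).1 0 1, fun z => ?_⟩
      have h5 : (h⁻¹ * g * h) • z = (-uu (-(h⁻¹ * g * h).1 0 1)) • z :=
        congrArg (· • z) h1
      rw [h5, neg_smul']
  obtain ⟨b, hb⟩ := key
  have h3 : ∀ z : PL E, (h⁻¹ * g * h) ^ p • z = z := by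
    intro z
    rw [smul_pow_eq _ _ hb p z, uu_pow, CharP.cast_eq_zero E p, zero_mul, uu_zero, one_smul]
  have h4 : g ^ p = h * (h⁻¹ * g * h) ^ p * h⁻¹ := by
    rw [← conj_pow]; group
  rw [h4, mul_smul, mul_smul, h3, smul_inv_smul]

open Classical in
/-- every unipotent-type element of `L` fixes a point of the orbit of infinity -/
theorem exists_fixed_mem_Of (p : ℕ) [Fact p.Prime] [CharP E p] (h2 : (2 : E) ≠ 0)
    (L : Subgroup SL(2, E)) [Finite L]
    (hu : uu 1 ∈ L) (g : SL(2, E)) (hg : g ∈ Uf L) : ∃ x ∈ Of L, g • x = x := by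
  rw [mem_Uf] at hg
  obtain ⟨hgL, _, _, htr⟩ := hg
  -- the permutation of the orbit induced by `g`
  let σ : Equiv.Perm (Of L) :=
    { toFun := fun y => ⟨g • y.1, smul_mem_Of L y.1 y.2 g hgL⟩
      invFun := fun y => ⟨g⁻¹ • y.1, smul_mem_Of L y.1 y.2 g⁻¹ (L.inv_mem hgL)⟩
      left_inv := fun y => Subtype.ext (inv_smul_smul g y.1)
      right_inv := fun y => Subtype.ext (smul_inv_smul g y.1) }
  have hσpow : ∀ (n : ℕ) (y : Of L), ((σ ^ n) y).1 = g ^ n • y.1 := by
    intro n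
    induction n with
    | zero => intro y; simp
    | succ n ih =>
      intro y
      rw [pow_succ', Equiv.Perm.mul_apply, pow_succ', mul_smul, ← ih y]
      rfl
  have hσp : σ ^ p ^ 1 = 1 := by
    rw [pow_one]
    ext y
    rw [hσpow, pow_p_smul p h2 g htr]
    rfl
  have hcard : ¬ p ∣ Fintype.card (Of L) := by
    rw [Fintype.card_coe, card_Of]
    have h1 := r_dvd L
    have h3 := p_dvd_r p L hu
    have h4 : 0 < (orb L (inf : PL E)).ncard := by
      rw [← card_Of]; exact Finset.card_pos.2 ⟨_, inf_mem_Of L⟩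
    intro h5
    have h6 : p ∣ (orb L (inf : PL E)).ncard - 1 := dvd_trans h3 h1
    have h7 : p ∣ 1 := by
      have := (Nat.dvd_sub h5 h6)
      have e : (orb L (inf : PL E)).ncard - ((orb L (inf : PL E)).ncard - 1) = 1 := by omega
      rwa [e] at this
    exact (Fact.out : p.Prime).one_lt.ne' (Nat.dvd_one.1 h7)
  obtain ⟨a, ha⟩ := Equiv.Perm.exists_fixed_point_of_prime hcard hσp
  exact ⟨a.1, a.2, congrArg Subtype.val ha⟩

open Classical in
/-- the number of unipotent-type elements -/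
theorem card_Uf (p : ℕ) [Fact p.Prime] [CharP E p] (h2 : (2 : E) ≠ 0)
    (L : Subgroup SL(2, E)) [Finite L]
    (hneg : (-1 : SL(2, E)) ∈ L) (hu : uu 1 ∈ L) :
    (Uf L).card = (orb L (inf : PL E)).ncard * (2 * Nat.card (TT L) - 2) := by
  have h1 : Uf L = (Of L).biUnion (fun x => (Uf L).filter (fun g => g • x = x)) := by
    ext g
    rw [Finset.mem_biUnion]
    constructor
    · intro hg
      obtain ⟨x, hx, hgx⟩ := exists_fixed_mem_Of p h2 L hu g hg
      exact ⟨x, hx, Finset.mem_filter.2 ⟨hg, hgx⟩⟩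
    · rintro ⟨x, _, hg⟩
      exact (Finset.mem_filter.1 hg).1
  have hdisj : ((Of L : Finset (PL E)) : Set (PL E)).PairwiseDisjoint
      (fun x => (Uf L).filter (fun g => g • x = x)) := by
    intro x _ x' _ hxx'
    rw [Function.onFun, Finset.disjoint_left]
    intro g hg hg'
    rw [Finset.mem_filter] at hg hg'
    obtain ⟨_, hg1, hg2, htr⟩ := (mem_Uf L g).1 hg.1
    obtain ⟨x₀, hx₀⟩ := fix_unip h2 g hg1 hg2 htr
    exact hxx' (((hx₀ x).1 hg.2).trans ((hx₀ x').1 hg'.2).symm)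
  rw [h1, Finset.card_biUnion hdisj, Finset.sum_congr rfl (fun x hx => card_Uf_pt h2 L hneg x hx),
    Finset.sum_const, card_Of, smul_eq_mul]

end AlgClosed

end Cfsg.Agent.Lead.DicksonE
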