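import Mathlib
import Cfsg.Agent.Lead.DicksonA
import Cfsg.Agent.Lead.DicksonB
import Cfsg.Agent.Lead.DicksonC
import Cfsg.Agent.Lead.DicksonD
import Cfsg.Agent.Lead.DicksonE

set_option autoImplicit false

/-! # Dickson's theorem for `SL₂`, part F: the fixed point count -/

namespace Cfsg.Agent.Lead.DicksonF

open Matrix Cfsg.Agent.Lead.DicksonA Cfsg.Agent.Lead.DicksonB Cfsg.Agent.Lead.DicksonC
  Cfsg.Agent.Lead.DicksonD Cfsg.Agent.Lead.DicksonE
open scoped LinearAlgebra.Projectivization MatrixGroups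

variable {E : Type*} [Field E]

/-- the number of fixed points of a non-central element -/
noncomputable def cfix (g : SL(2, E)) : ℕ := by
  classical exact if tr g ^ 2 = 4 then 1 else 2

section AlgClosed

variable [IsAlgClosed E]

theorem fix_finite (h2 : (2 : E) ≠ 0) (g : SL(2, E)) (hg1 : g ≠ 1) (hg2 : g ≠ -1) :
    {y : PL E | g • y = y}.Finite := by
  by_cases htr : tr g ^ 2 = 4
  · obtain ⟨x, hx⟩ := fix_unip h2 g hg1 hg2 htr
    have : {y : PL E | g • y = y} = {x} := by
      ext y; simp [hx y]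
    rw [this]; exact Set.finite_singleton x
  · obtain ⟨x₁, x₂, _, hx⟩ := fix_ss h2 g htr
    have : {y : PL E | g • y = y} = {x₁, x₂} := by
      ext y; simp [hx y]
    rw [this]; exact Set.toFinite _

open Classical in
/-- the finite set of points with non-central stabilizer in `L` -/
noncomputable def Yf (L : Subgroup SL(2, E)) [Finite L] : Finset (PL E) :=
  (Af L).biUnion (fun g =>
    if h : {y : PL E | g • y = y}.Finite then h.toFinset else ∅)

theorem mem_Yf (h2 : (2 : E) ≠ 0) (L : Subgroup SL(2, E)) [Finite L] (y : PL E) :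
    y ∈ Yf L ↔ ∃ g ∈ Af L, g • y = y := by
  classical
  rw [Yf, Finset.mem_biUnion]
  constructor
  · rintro ⟨g, hg, hy⟩
    refine ⟨g, hg, ?_⟩
    obtain ⟨_, hg1, hg2⟩ := (mem_Af L g).1 hg
    rw [dif_pos (fix_finite h2 g hg1 hg2)] at hy
    simpa using hy
  · rintro ⟨g, hg, hy⟩
    refine ⟨g, hg, ?_⟩
    obtain ⟨_, hg1, hg2⟩ := (mem_Af L g).1 hg
    rw [dif_pos (fix_finite h2 g hg1 hg2)]
    simpa using hy

open Classical in
theorem card_filter_fix (h2 : (2 : E) ≠ 0) (L : Subgroup SL(2, E)) [Finite L] (g : SL(2, E))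
    (hg : g ∈ Af L) : ((Yf L).filter (fun y => g • y = y)).card = cfix g := by
  obtain ⟨_, hg1, hg2⟩ := (mem_Af L g).1 hg
  unfold cfix
  by_cases htr : tr g ^ 2 = 4
  · rw [if_pos htr]
    obtain ⟨x, hx⟩ := fix_unip h2 g hg1 hg2 htr
    have : (Yf L).filter (fun y => g • y = y) = {x} := by
      ext y
      rw [Finset.mem_filter, Finset.mem_singleton, hx y]
      constructor
      · exact fun h => h.2
      · intro h
        exact ⟨(mem_Yf h2 L y).2 ⟨g, hg, (hx y).2 h⟩, h⟩
    rw [this, Finset.card_singleton]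
  · rw [if_neg htr]
    obtain ⟨x₁, x₂, hne, hx⟩ := fix_ss h2 g htr
    have : (Yf L).filter (fun y => g • y = y) = {x₁, x₂} := by
      ext y
      rw [Finset.mem_filter, Finset.mem_insert, Finset.mem_singleton, hx y]
      constructor
      · exact fun h => h.2
      · intro h
        exact ⟨(mem_Yf h2 L y).2 ⟨g, hg, (hx y).2 h⟩, h⟩
    rw [this, Finset.card_pair hne]

end AlgClosed

theorem neg_one_ne_one (h2 : (2 : E) ≠ 0) : (-1 : SL(2, E)) ≠ 1 := by
  intro h
  have := congrArg (fun g : SL(2, E) => g.1 0 0) h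
  simp only [neg_00, one_00] at this
  apply h2; linear_combination -this

open Classical in
theorem card_filter_stab (h2 : (2 : E) ≠ 0) (L : Subgroup SL(2, E)) [Finite L]
    (hneg : (-1 : SL(2, E)) ∈ L) (y : PL E) :
    ((Af L).filter (fun g => g • y = y)).card = Nat.card (stab L y) - 2 := by
  have h1 : (Af L).filter (fun g => g • y = y) = ((subFin (stab L y)).erase 1).erase (-1) := by
    ext g
    rw [Finset.mem_filter, mem_Af, Finset.mem_erase, Finset.mem_erase, mem_subFin, mem_stab]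
    tauto
  have hm1 : (-1 : SL(2, E)) ∈ (subFin (stab L y)).erase 1 := by
    rw [Finset.mem_erase, mem_subFin, mem_stab]
    exact ⟨neg_one_ne_one h2, hneg, neg_one_smul y⟩
  have h1' : (1 : SL(2, E)) ∈ subFin (stab L y) := (mem_subFin _ _).2 (stab L y).one_mem
  rw [h1, Finset.card_erase_of_mem hm1, Finset.card_erase_of_mem h1', card_subFin]
  omega

open Classical in
theorem card_Af (h2 : (2 : E) ≠ 0) (L : Subgroup SL(2, E)) [Finite L]
    (hneg : (-1 : SL(2, E)) ∈ L) : (Af L).card + 2 = Nat.card L := by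
  have h1 : Af L = ((subFin L).erase 1).erase (-1) := by
    ext g
    rw [mem_Af, Finset.mem_erase, Finset.mem_erase, mem_subFin]
    tauto
  have hm1 : (-1 : SL(2, E)) ∈ (subFin L).erase 1 := by
    rw [Finset.mem_erase, mem_subFin]
    exact ⟨neg_one_ne_one h2, hneg⟩
  have h1' : (1 : SL(2, E)) ∈ subFin L := (mem_subFin _ _).2 L.one_mem
  have h3 : 2 ≤ (subFin L).card := by
    have : ({1, -1} : Finset SL(2, E)) ⊆ subFin L := by
      intro g hg
      rw [Finset.mem_insert, Finset.mem_singleton] at hg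
      rcases hg with rfl | rfl
      · exact h1'
      · exact (mem_subFin _ _).2 hneg
    have h4 := Finset.card_le_card this
    rwa [Finset.card_pair (neg_one_ne_one h2).symm] at h4
  rw [h1, Finset.card_erase_of_mem hm1, Finset.card_erase_of_mem h1', ← card_subFin]
  omega

/-- the stabilizer of a point with non-central stabilizer has even order at least four -/
theorem stab_card_ge (h2 : (2 : E) ≠ 0) (L : Subgroup SL(2, E)) [Finite L]
    (hneg : (-1 : SL(2, E)) ∈ L) (y : PL E) (g : SL(2, E)) (hg : g ∈ Af L) (hgy : g • y = y) :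
    2 ∣ Nat.card (stab L y) ∧ 4 ≤ Nat.card (stab L y) := by
  classical
  have hZ : Subgroup.zpowers (-1 : SL(2, E)) ≤ stab L y := by
    rw [Subgroup.zpowers_le, mem_stab]
    exact ⟨hneg, neg_one_smul y⟩
  have hZcard : Nat.card (Subgroup.zpowers (-1 : SL(2, E))) = 2 := by
    rw [Nat.card_zpowers]
    apply orderOf_eq_prime
    · simp
    · exact neg_one_ne_one h2
  have hdvd : 2 ∣ Nat.card (stab L y) := by
    have := Subgroup.card_dvd_of_le hZ
    rwa [hZcard] at this
  refine ⟨hdvd, ?_⟩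
  obtain ⟨hgL, hg1, hg2⟩ := (mem_Af L g).1 hg
  have h3 : ({1, -1, g} : Finset SL(2, E)) ⊆ subFin (stab L y) := by
    intro k hk
    rw [Finset.mem_insert, Finset.mem_insert, Finset.mem_singleton] at hk
    rw [mem_subFin, mem_stab]
    rcases hk with rfl | rfl | rfl
    · exact ⟨L.one_mem, one_smul _ _⟩
    · exact ⟨hneg, neg_one_smul y⟩
    · exact ⟨hgL, hgy⟩
  have h4 := Finset.card_le_card h3
  have h5 : ({1, -1, g} : Finset SL(2, E)).card = 3 := by
    rw [Finset.card_insert_of_notMem, Finset.card_pair (Ne.symm hg2)]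
    rw [Finset.mem_insert, Finset.mem_singleton]
    rintro (h | h)
    · exact neg_one_ne_one h2 h.symm
    · exact hg1 h.symm
  rw [h5, card_subFin] at h4
  omega

section Main

variable [IsAlgClosed E]

open Classical in
/-- the bipartite count -/
theorem bipartite (h2 : (2 : E) ≠ 0) (L : Subgroup SL(2, E)) [Finite L]
    (hneg : (-1 : SL(2, E)) ∈ L) :
    ∑ g ∈ Af L, cfix g = ∑ y ∈ Yf L, (Nat.card (stab L y) - 2) := by
  have := Finset.sum_card_bipartiteAbove_eq_sum_card_bipartiteBelow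
    (s := Af L) (t := Yf L) (fun (g : SL(2, E)) (y : PL E) => g • y = y)
  calc ∑ g ∈ Af L, cfix g
      = ∑ g ∈ Af L, ((Yf L).bipartiteAbove (fun (g : SL(2, E)) (y : PL E) => g • y = y) g).card :=
        Finset.sum_congr rfl (fun g hg => (card_filter_fix h2 L g hg).symm)
    _ = ∑ y ∈ Yf L, ((Af L).bipartiteBelow (fun (g : SL(2, E)) (y : PL E) => g • y = y) y).card :=
        this
    _ = _ := Finset.sum_congr rfl (fun y _ => card_filter_stab h2 L hneg y)

open Classical in
theorem sum_cfix (L : Subgroup SL(2, E)) [Finite L] :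
    ∑ g ∈ Af L, cfix g + (Uf L).card = 2 * (Af L).card := by
  have h1 : (Uf L).card = ∑ g ∈ Af L, if tr g ^ 2 = 4 then 1 else 0 := by
    rw [Uf, Finset.card_filter]
  rw [h1, ← Finset.sum_add_distrib, mul_comm, ← smul_eq_mul, ← Finset.sum_const]
  apply Finset.sum_congr rfl
  intro g _
  unfold cfix
  split_ifs <;> rfl

theorem uu_one_mem_Af (h2 : (2 : E) ≠ 0) (L : Subgroup SL(2, E)) [Finite L] (hu : uu 1 ∈ L) :
    uu (1 : E) ∈ Af L := by
  rw [mem_Af]
  refine ⟨hu, ?_, ?_⟩
  · intro h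
    have := congrArg (fun g : SL(2, E) => g.1 0 1) h
    simp at this
  · intro h
    have := congrArg (fun g : SL(2, E) => g.1 0 1) h
    simp only [uu_01, neg_01, one_01, neg_zero] at this
    exact one_ne_zero this

theorem conj_mem_Af (L : Subgroup SL(2, E)) [Finite L] (g h : SL(2, E)) (hg : g ∈ Af L)
    (hh : h ∈ L) : h * g * h⁻¹ ∈ Af L := by
  rw [mem_Af] at hg ⊢
  exact ⟨L.mul_mem (L.mul_mem hh hg.1) (L.inv_mem hh), conj_ne_one' h g hg.2.1,
    conj_ne_neg_one' h g hg.2.2⟩

theorem smul_mem_Yf (h2 : (2 : E) ≠ 0) (L : Subgroup SL(2, E)) [Finite L] (y : PL E)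
    (hy : y ∈ Yf L) (h : SL(2, E)) (hh : h ∈ L) : h • y ∈ Yf L := by
  rw [mem_Yf h2] at hy ⊢
  obtain ⟨g, hg, hgy⟩ := hy
  refine ⟨h * g * h⁻¹, conj_mem_Af L g h hg hh, ?_⟩
  rw [mul_smul, mul_smul, inv_smul_smul, hgy]

theorem Of_subset_Yf (h2 : (2 : E) ≠ 0) (L : Subgroup SL(2, E)) [Finite L] (hu : uu 1 ∈ L) :
    Of L ⊆ Yf L := by
  intro x hx
  obtain ⟨h, hh, rfl⟩ := (mem_Of L x).1 hx
  apply smul_mem_Yf h2 L _ _ h hh
  rw [mem_Yf h2]
  exact ⟨uu 1, uu_one_mem_Af h2 L hu, uu_smul_inf 1⟩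

/-- the orbit of a point as a finset -/
noncomputable def orbF (L : Subgroup SL(2, E)) [Finite L] (y : PL E) : Finset (PL E) :=
  (orb_finite L y).toFinset

theorem mem_orbF (L : Subgroup SL(2, E)) [Finite L] (y z : PL E) :
    z ∈ orbF L y ↔ z ∈ orb L y := by
  simp [orbF]

theorem card_orbF (L : Subgroup SL(2, E)) [Finite L] (y : PL E) :
    (orbF L y).card = (orb L y).ncard :=
  (Set.ncard_eq_toFinset_card _ _).symm

theorem orbF_inf (L : Subgroup SL(2, E)) [Finite L] : orbF L (inf : PL E) = Of L := rfl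

open Classical in
theorem sum_orbF (L : Subgroup SL(2, E)) [Finite L] (y : PL E) :
    ∑ z ∈ orbF L y, (Nat.card (stab L z) - 2) =
      (orb L y).ncard * (Nat.card (stab L y) - 2) := by
  rw [Finset.sum_congr rfl (fun z hz => by
    rw [card_stab_of_mem_orb L y z ((mem_orbF L y z).1 hz)]), Finset.sum_const, card_orbF,
    smul_eq_mul]

open Classical in
theorem orbF_subset (h2 : (2 : E) ≠ 0) (L : Subgroup SL(2, E)) [Finite L] (y : PL E)
    (hy : y ∈ Yf L \ Of L) : orbF L y ⊆ Yf L \ Of L := by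
  intro z hz
  rw [mem_orbF, mem_orb] at hz
  obtain ⟨g, hg, rfl⟩ := hz
  rw [Finset.mem_sdiff] at hy ⊢
  refine ⟨smul_mem_Yf h2 L y hy.1 g hg, fun h => hy.2 ?_⟩
  have := smul_mem_Of L _ h g⁻¹ (L.inv_mem hg)
  rwa [inv_smul_smul] at this

end Main

end Cfsg.Agent.Lead.DicksonF
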