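import Mathlib
import Cfsg.Agent.Lead.DicksonA
import Cfsg.Agent.Lead.DicksonB
import Cfsg.Agent.Lead.DicksonC
import Cfsg.Agent.Lead.DicksonD
import Cfsg.Agent.Lead.DicksonE
import Cfsg.Agent.Lead.DicksonF

set_option autoImplicit false

/-! # Dickson's theorem for `SL₂`, part G: the main divisibility and the arithmetic -/

namespace Cfsg.Agent.Lead.DicksonG

open Matrix Cfsg.Agent.Lead.DicksonA Cfsg.Agent.Lead.DicksonB Cfsg.Agent.Lead.DicksonC
  Cfsg.Agent.Lead.DicksonD Cfsg.Agent.Lead.DicksonE Cfsg.Agent.Lead.DicksonF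
open scoped LinearAlgebra.Projectivization MatrixGroups

variable {E : Type*} [Field E]

theorem two_le_s (L : Subgroup SL(2, E)) [Finite L] (hnb : ∃ g ∈ L, g.1 1 0 ≠ 0) :
    2 ≤ (orb L (inf : PL E)).ncard := by
  classical
  obtain ⟨g, hg, hg10⟩ := hnb
  rw [← card_Of]
  have hsub : ({inf, g • (inf : PL E)} : Finset (PL E)) ⊆ Of L := by
    intro y hy
    rw [Finset.mem_insert, Finset.mem_singleton] at hy
    rcases hy with rfl | rfl
    · exact inf_mem_Of L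
    · exact (mem_Of L _).2 ⟨g, hg, rfl⟩
  have hne : (inf : PL E) ≠ g • (inf : PL E) := by
    intro h
    exact hg10 ((smul_inf_eq_inf_iff g).1 h.symm)
  have := Finset.card_le_card hsub
  rwa [Finset.card_pair hne] at this

theorem mul_sub_two_add (a b : ℕ) (hb : 2 ≤ b) : a * (b - 2) + 2 * a = a * b := by
  obtain ⟨c, rfl⟩ := Nat.exists_eq_add_of_le hb
  rw [Nat.add_sub_cancel_left]; ring

section Main

variable [IsAlgClosed E]

open Classical in
/-- the main divisibility from the fixed point count -/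
theorem main_dvd (p : ℕ) [Fact p.Prime] [CharP E p] (h2 : (2 : E) ≠ 0)
    (L : Subgroup SL(2, E)) [Finite L] (hneg : (-1 : SL(2, E)) ∈ L) (hu : uu 1 ∈ L)
    (hnb : ∃ g ∈ L, g.1 1 0 ≠ 0) :
    (2 + (orb L (inf : PL E)).ncard * (Nat.card (TT L) - 2)) ∣
      (orb L (inf : PL E)).ncard * Nat.card (TT L) * Nat.card (chi L).range := by
  obtain ⟨s, hs⟩ : ∃ s, s = (orb L (inf : PL E)).ncard := ⟨_, rfl⟩
  obtain ⟨r, hr⟩ : ∃ r, r = Nat.card (TT L) := ⟨_, rfl⟩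
  obtain ⟨nb, hnbd⟩ : ∃ nb, nb = Nat.card (chi L).range := ⟨_, rfl⟩
  obtain ⟨ℓ, hℓ⟩ : ∃ ℓ, ℓ = Nat.card L := ⟨_, rfl⟩
  obtain ⟨ν, hν⟩ : ∃ ν, ν = Nat.card (NN L) := ⟨_, rfl⟩
  rw [← hs, ← hr, ← hnbd]
  have hs2 : 2 ≤ s := hs ▸ two_le_s L hnb
  have hr3 : 3 ≤ r := hr ▸ three_le_r h2 L hu
  have hnb1 : 1 ≤ nb := hnbd ▸ Nat.card_pos
  have hνeq : ν = 2 * r * nb := by rw [hν, hr, hnbd]; exact card_NN h2 L hneg
  have hsν : s * ν = ℓ := by rw [hs, hν, hℓ]; exact card_orb_mul_card_stab L _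
  have ha : (Af L).card + 2 = ℓ := hℓ ▸ card_Af h2 L hneg
  have hu' : (Uf L).card = s * (2 * r - 2) := by rw [hs, hr]; exact card_Uf p h2 L hneg hu
  have hC := sum_cfix L
  have hbip := bipartite h2 L hneg
  have hsplit : ∑ y ∈ Yf L, (Nat.card (stab L y) - 2) =
      ∑ y ∈ Yf L \ Of L, (Nat.card (stab L y) - 2) + ∑ y ∈ Of L, (Nat.card (stab L y) - 2) :=
    (Finset.sum_sdiff (Of_subset_Yf h2 L hu)).symm
  have hOsum : ∑ y ∈ Of L, (Nat.card (stab L y) - 2) = s * (ν - 2) := by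
    rw [← orbF_inf, sum_orbF, hs, hν]
  obtain ⟨R, hR⟩ : ∃ R, R = ∑ y ∈ Yf L \ Of L, (Nat.card (stab L y) - 2) := ⟨_, rfl⟩
  rw [← hR, hOsum] at hsplit
  -- the numeric identity
  obtain ⟨sr, hsr⟩ : ∃ sr, sr = s * r := ⟨_, rfl⟩
  have hν2 : 2 ≤ ν := by
    rw [hνeq]
    calc 2 = 2 * 1 * 1 := by norm_num
      _ ≤ 2 * r * nb := Nat.mul_le_mul (Nat.mul_le_mul_left 2 (by omega)) hnb1
  have e1 : s * (ν - 2) + 2 * s = ℓ := by
    rw [← hsν]; exact mul_sub_two_add s ν hν2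
  have e2 : s * (2 * r - 2) + 2 * s = 2 * sr := by
    rw [hsr, mul_sub_two_add s (2 * r) (by omega)]; ring
  have e3 : ℓ = 2 * sr * nb := by rw [← hsν, hνeq, hsr]; ring
  have e4 : 2 * sr ≤ ℓ := by
    rw [e3]; exact Nat.le_mul_of_pos_right _ hnb1
  have e5 : 3 * s ≤ sr := by rw [hsr]; nlinarith
  have hRid : R + 2 * sr + 4 = ℓ + 4 * s := by
    rw [hbip, hsplit] at hC
    omega
  -- points outside the orbit of infinity
  have hY'ne : (Yf L \ Of L).Nonempty := by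
    by_contra hne
    rw [Finset.not_nonempty_iff_eq_empty] at hne
    rw [hne, Finset.sum_empty] at hR
    omega
  obtain ⟨y₁, hy₁⟩ := hY'ne
  -- orbit data
  have orbit_data : ∀ y ∈ Yf L \ Of L, ∃ o lam S : ℕ, o = (orb L y).ncard ∧
      S = ∑ z ∈ orbF L y, (Nat.card (stab L z) - 2) ∧ o * lam = ℓ ∧ 2 ∣ lam ∧ 4 ≤ lam ∧
      S + 2 * o = ℓ ∧ 4 * o ≤ ℓ ∧ S ≤ R := by
    intro y hy
    obtain ⟨g, hg, hgy⟩ := (mem_Yf h2 L y).1 (Finset.mem_sdiff.1 hy).1
    obtain ⟨hdvd, h4⟩ := stab_card_ge h2 L hneg y g hg hgy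
    have hol : (orb L y).ncard * Nat.card (stab L y) = ℓ := by
      rw [hℓ]; exact card_orb_mul_card_stab L y
    refine ⟨_, Nat.card (stab L y), _, rfl, rfl, hol, hdvd, h4, ?_, ?_, ?_⟩
    · rw [sum_orbF, ← hol]
      exact mul_sub_two_add _ _ (by omega)
    · rw [← hol]
      calc 4 * (orb L y).ncard = (orb L y).ncard * 4 := by ring
        _ ≤ (orb L y).ncard * Nat.card (stab L y) := Nat.mul_le_mul_left _ h4
    · rw [hR]
      exact Finset.sum_le_sum_of_subset (orbF_subset h2 L y hy)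
  obtain ⟨o₁, lam₁, S₁, ho₁, hS₁, hol₁, hdvd₁, h4₁, hSo₁, h4o₁, hSR₁⟩ := orbit_data y₁ hy₁
  -- single orbit
  have hsingle : Yf L \ Of L = orbF L y₁ := by
    apply Finset.Subset.antisymm _ (orbF_subset h2 L y₁ hy₁)
    intro y₂ hy₂
    by_contra hnot
    obtain ⟨o₂, lam₂, S₂, ho₂, hS₂, hol₂, hdvd₂, h4₂, hSo₂, h4o₂, hSR₂⟩ := orbit_data y₂ hy₂
    have hdisj : Disjoint (orbF L y₁) (orbF L y₂) := by
      rw [Finset.disjoint_left]
      intro z hz1 hz2
      rw [mem_orbF] at hz1 hz2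
      have hnot' : y₂ ∉ orb L y₁ := fun h => hnot ((mem_orbF L y₁ y₂).2 h)
      exact (Set.disjoint_left.1 (orb_disjoint L y₁ y₂ hnot')) hz1 hz2
    have hsub : orbF L y₁ ∪ orbF L y₂ ⊆ Yf L \ Of L :=
      Finset.union_subset (orbF_subset h2 L y₁ hy₁) (orbF_subset h2 L y₂ hy₂)
    have hsum : S₁ + S₂ ≤ R := by
      rw [hS₁, hS₂, ← Finset.sum_union hdisj, hR]
      exact Finset.sum_le_sum_of_subset hsub
    omega
  have hRS : R = S₁ := by rw [hR, hS₁, hsingle]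
  have ho₁eq : o₁ = 2 + s * (r - 2) := by
    have h5 : s * (r - 2) + 2 * s = sr := by
      rw [hsr]; exact mul_sub_two_add s r (by omega)
    omega
  rw [← ho₁eq]
  obtain ⟨lam', rfl⟩ := hdvd₁
  refine ⟨lam', ?_⟩
  have h6 : o₁ * (2 * lam') = 2 * (s * r * nb) := by
    rw [hol₁, e3, hsr]; ring
  have h7 : 2 * (o₁ * lam') = 2 * (s * r * nb) := by rw [← h6]; ring
  exact (Nat.eq_of_mul_eq_mul_left (by norm_num) h7).symm

end Main

/-- the arithmetic of Dickson's argument -/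
theorem arith (r s nb : ℕ) (hr : 3 ≤ r) (hs : 2 ≤ s) (hrs : r ∣ s - 1) (hnb : nb ∣ r - 1)
    (hdvd : (2 + s * (r - 2)) ∣ s * r * nb) : s = r + 1 ∨ (r = 3 ∧ s = 10) := by
  obtain ⟨k, hk⟩ := hrs
  have hs' : s = 1 + r * k := by omega
  have hk1 : 1 ≤ k := by
    rcases Nat.eq_zero_or_pos k with h | h
    · rw [h] at hs'; omega
    · exact h
  obtain ⟨r', rfl⟩ : ∃ r', r = r' + 2 := ⟨r - 2, by omega⟩
  have hr' : 1 ≤ r' := by omega
  simp only [Nat.add_sub_cancel] at hdvd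
  -- m = 1 + k r'
  have hm : 2 + s * r' = (r' + 2) * (1 + k * r') := by rw [hs']; ring
  rw [hm] at hdvd
  have h1 : (1 + k * r') ∣ s * nb := by
    have h2 : s * (r' + 2) * nb = (r' + 2) * (s * nb) := by ring
    rw [h2] at hdvd
    exact Nat.dvd_of_mul_dvd_mul_left (by omega) hdvd
  -- s = m + 2k
  have hs'' : s = (1 + k * r') + 2 * k := by rw [hs']; ring
  have h3 : (1 + k * r') ∣ 2 * k * nb := by
    rw [hs'', add_mul] at h1
    exact (Nat.dvd_add_right (Dvd.intro _ rfl)).1 h1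
  have hcop : Nat.Coprime (1 + k * r') k := by
    have : Nat.Coprime (1 + k * r') k ↔ Nat.Coprime 1 k := by
      rw [Nat.Coprime, Nat.Coprime, add_comm, Nat.gcd_comm, Nat.gcd_mul_left_add_right,
        Nat.gcd_comm]
    rw [this]; exact Nat.coprime_one_left k
  have h4 : (1 + k * r') ∣ 2 * nb := by
    have h5 : 2 * k * nb = k * (2 * nb) := by ring
    rw [h5] at h3
    exact hcop.dvd_of_dvd_mul_left h3
  have h6 : (1 + k * r') ∣ 2 * (r' + 1) := by
    have : r' + 2 - 1 = r' + 1 := by omega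
    rw [this] at hnb
    exact dvd_trans h4 (Nat.mul_dvd_mul_left 2 hnb)
  have h7 : 1 + k * r' ≤ 2 * (r' + 1) := Nat.le_of_dvd (by omega) h6
  -- k ≤ 2 or (k = 3, r' = 1)
  have hk3 : k ≤ 3 := by
    by_contra hk4
    push Not at hk4
    have : 4 * r' ≤ k * r' := Nat.mul_le_mul_right _ hk4
    omega
  interval_cases k
  · left; rw [hs']; ring
  · -- k = 2 : 1 + 2 r' ∣ 2 r' + 2
    exfalso
    have h8 : (1 + 2 * r') ∣ 1 := by
      have h9 : 2 * (r' + 1) = (1 + 2 * r') + 1 := by ring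
      rw [h9] at h6
      exact (Nat.dvd_add_right (dvd_refl _)).1 h6
    have := Nat.le_of_dvd (by norm_num) h8
    omega
  · -- k = 3
    right
    have : r' = 1 := by omega
    subst this
    exact ⟨rfl, by rw [hs']⟩

end Cfsg.Agent.Lead.DicksonG
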