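import Mathlib
import Cfsg.Agent.Lead.DicksonA
import Cfsg.Agent.Lead.DicksonB
import Cfsg.Agent.Lead.DicksonC
import Cfsg.Agent.Lead.DicksonD
import Cfsg.Agent.Lead.DicksonE
import Cfsg.Agent.Lead.DicksonF
import Cfsg.Agent.Lead.DicksonG

set_option autoImplicit false

/-! # Dickson's theorem for `SL₂`, part H: consequences of the count -/

namespace Cfsg.Agent.Lead.DicksonH

open Matrix Cfsg.Agent.Lead.DicksonA Cfsg.Agent.Lead.DicksonB Cfsg.Agent.Lead.DicksonC
  Cfsg.Agent.Lead.DicksonD Cfsg.Agent.Lead.DicksonE Cfsg.Agent.Lead.DicksonF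
  Cfsg.Agent.Lead.DicksonG
open scoped LinearAlgebra.Projectivization MatrixGroups

variable {E : Type*} [Field E]

section Main

variable [IsAlgClosed E]

/-- the dichotomy -/
theorem dichotomy (p : ℕ) [Fact p.Prime] [CharP E p] (h2 : (2 : E) ≠ 0)
    (L : Subgroup SL(2, E)) [Finite L] (hneg : (-1 : SL(2, E)) ∈ L) (hu : uu 1 ∈ L)
    (hnb : ∃ g ∈ L, g.1 1 0 ≠ 0) :
    (orb L (inf : PL E)).ncard = Nat.card (TT L) + 1 ∨
      (Nat.card (TT L) = 3 ∧ (orb L (inf : PL E)).ncard = 10) :=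
  arith _ _ _ (three_le_r h2 L hu) (two_le_s L hnb) (r_dvd L) (nbar_dvd L)
    (main_dvd p h2 L hneg hu hnb)

end Main

theorem ll_smul_inf (s : E) (hs : s ≠ 0) : ll s • (inf : PL E) = pt (1 / s) := by
  rw [smul_inf_eq_pt_iff]
  simp [hs]

theorem ll_10_ne (s : E) (hs : s ≠ 0) : ∃ g : SL(2, E), g = ll s ∧ g.1 1 0 ≠ 0 :=
  ⟨ll s, rfl, by simpa using hs⟩

open Classical in
/-- in the generic case `1/λ ∈ T` -/
theorem inv_lam_mem (h2 : (2 : E) ≠ 0) (L : Subgroup SL(2, E)) [Finite L]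
    (lam : E) (hlam : lam ≠ 0) (hl : ll lam ∈ L)
    (hs : (orb L (inf : PL E)).ncard = Nat.card (TT L) + 1) : 1 / lam ∈ TT L := by
  obtain ⟨μ, hμ⟩ : ∃ μ, μ = 1 / lam := ⟨_, rfl⟩
  rw [← hμ]
  have hμlam : lam * μ = 1 := by rw [hμ]; field_simp
  -- the orbit of infinity minus infinity
  have hcard : ((Of L).erase inf).card = Nat.card (TT L) := by
    rw [Finset.card_erase_of_mem (inf_mem_Of L), card_Of, hs]; simp
  -- the translates of `pt μ`
  have hsub : (Tfin L).image (fun t => (pt (μ + t) : PL E)) ⊆ (Of L).erase inf := by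
    intro y hy
    obtain ⟨t, ht, rfl⟩ := Finset.mem_image.1 hy
    rw [Finset.mem_erase]
    refine ⟨pt_ne_inf _, ?_⟩
    rw [← uu_smul_pt, hμ, ← ll_smul_inf lam hlam]
    exact smul_mem_Of L _ (smul_mem_Of L _ (inf_mem_Of L) _ hl) _ ((mem_Tfin L t).1 ht)
  have hcard2 : ((Tfin L).image (fun t => (pt (μ + t) : PL E))).card = Nat.card (TT L) := by
    rw [Finset.card_image_of_injective, card_Tfin]
    intro a b hab
    exact add_left_cancel (pt_injective hab)
  have heq : (Tfin L).image (fun t => (pt (μ + t) : PL E)) = (Of L).erase inf :=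
    Finset.eq_of_subset_of_card_le hsub (by rw [hcard, hcard2])
  -- apply `ll lam` to `pt μ`
  have h3 : ll lam • (pt μ : PL E) = pt (μ / 2) := by
    rw [smul_pt_eq_pt_iff]
    simp only [ll_00, ll_01, ll_10, ll_11, hμlam]
    field_simp
    ring
  have h4 : (pt (μ / 2) : PL E) ∈ (Of L).erase inf := by
    rw [Finset.mem_erase]
    refine ⟨pt_ne_inf _, ?_⟩
    rw [← h3, hμ, ← ll_smul_inf lam hlam]
    exact smul_mem_Of L _ (smul_mem_Of L _ (inf_mem_Of L) _ hl) _ hl
  rw [← heq] at h4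
  obtain ⟨t, ht, hpt⟩ := Finset.mem_image.1 h4
  have h5 : μ + t = μ / 2 := pt_injective hpt
  have h6 : μ = -(t + t) := by
    have : μ / 2 = μ + t := h5.symm
    field_simp at this
    linear_combination -this
  rw [h6]
  have htT : t ∈ TT L := (mem_Tfin L t).1 ht
  exact (TT L).neg_mem ((TT L).add_mem htT htT)

end Cfsg.Agent.Lead.DicksonH
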