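import Mathlib
import Cfsg.Agent.Lead.DicksonA
import Cfsg.Agent.Lead.DicksonB
import Cfsg.Agent.Lead.DicksonC
import Cfsg.Agent.Lead.DicksonD
import Cfsg.Agent.Lead.DicksonE
import Cfsg.Agent.Lead.DicksonF
import Cfsg.Agent.Lead.DicksonG
import Cfsg.Agent.Lead.DicksonH
import Cfsg.Agent.Lead.DicksonI

set_option autoImplicit false

/-! # Dickson's theorem for `SL₂`, part J: the copy of `SL₂(p)` -/

namespace Cfsg.Agent.Lead.DicksonJ

open Matrix Cfsg.Agent.Lead.DicksonA Cfsg.Agent.Lead.DicksonB Cfsg.Agent.Lead.DicksonC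
  Cfsg.Agent.Lead.DicksonD Cfsg.Agent.Lead.DicksonE Cfsg.Agent.Lead.DicksonF
  Cfsg.Agent.Lead.DicksonG Cfsg.Agent.Lead.DicksonH Cfsg.Agent.Lead.DicksonI
open scoped LinearAlgebra.Projectivization MatrixGroups

variable {E : Type*} [Field E]

theorem hh_conj_uu (a : E) (ha : a ≠ 0) (t : E) :
    hh a ha * uu t * (hh a ha)⁻¹ = uu (a ^ 2 * t) :=
  borel_conj_uu (hh a ha) (by simp) t

theorem hh_conj_ll (a : E) (ha : a ≠ 0) (t : E) :
    hh a ha * ll t * (hh a ha)⁻¹ = ll (t / a ^ 2) := by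
  apply ext4
  · simp [mul_00, mul_01, mul_10, mul_11, inv_00, inv_01, inv_10, inv_11, ha]
  · simp [mul_00, mul_01, mul_10, mul_11, inv_00, inv_01, inv_10, inv_11]
  · simp [mul_00, mul_01, mul_10, mul_11, inv_00, inv_01, inv_10, inv_11]
    field_simp
  · simp [mul_00, mul_01, mul_10, mul_11, inv_00, inv_01, inv_10, inv_11, ha]

/-- the identity used in the exceptional case -/
theorem exc_identity (g : SL(2, E)) (hg : (g.1 1 0) ^ 2 = -1) :
    uu (g.1 0 0 / g.1 1 0) * ll 1 * (uu (g.1 0 0 / g.1 1 0))⁻¹ = g * uu 1 * g⁻¹ := by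
  have hγ : g.1 1 0 ≠ 0 := by
    intro h; rw [h] at hg; simp at hg
  have hinv : (g.1 1 0)⁻¹ = -g.1 1 0 := by
    rw [inv_eq_iff_eq_inv, ← one_div]
    rw [eq_div_iff (neg_ne_zero.2 hγ)]
    linear_combination -hg
  rw [uu_inv]
  apply ext4
  · simp only [mul_00, mul_01, mul_10, mul_11, inv_00, inv_01, inv_10, inv_11, uu_00, uu_01,
      uu_10, uu_11, ll_00, ll_01, ll_10, ll_11, div_eq_mul_inv, hinv]
    linear_combination (-1 : E) * det_eq g
  · simp only [mul_00, mul_01, mul_10, mul_11, inv_00, inv_01, inv_10, inv_11, uu_00, uu_01,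
      uu_10, uu_11, ll_00, ll_01, ll_10, ll_11, div_eq_mul_inv, hinv]
    linear_combination (-(g.1 0 0) ^ 2) * hg
  · simp only [mul_00, mul_01, mul_10, mul_11, inv_00, inv_01, inv_10, inv_11, uu_00, uu_01,
      uu_10, uu_11, ll_00, ll_01, ll_10, ll_11, div_eq_mul_inv, hinv]
    linear_combination hg
  · simp only [mul_00, mul_01, mul_10, mul_11, inv_00, inv_01, inv_10, inv_11, uu_00, uu_01,
      uu_10, uu_11, ll_00, ll_01, ll_10, ll_11, div_eq_mul_inv, hinv]
    linear_combination (-1 : E) * det_eq g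

section Main

variable [IsAlgClosed E]

/-- the key statement: a conjugate of a standard pair lies in `L` -/
theorem key (p : ℕ) [Fact p.Prime] [CharP E p] (h2 : (2 : E) ≠ 0)
    (L : Subgroup SL(2, E)) [Finite L] (hneg : (-1 : SL(2, E)) ∈ L) (hu : uu 1 ∈ L)
    (lam : E) (hlam : lam ≠ 0) (hl : ll lam ∈ L) :
    ∃ (h : SL(2, E)) (μ : E), μ ≠ 0 ∧ h * uu μ * h⁻¹ ∈ L ∧ h * ll (1 / μ) * h⁻¹ ∈ L := by
  have hnb : ∃ g ∈ L, g.1 1 0 ≠ 0 := ⟨ll lam, hl, by simpa using hlam⟩
  by_cases hμT : 1 / lam ∈ TT L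
  · refine ⟨1, 1 / lam, one_div_ne_zero hlam, ?_, ?_⟩
    · rw [one_mul, inv_one, mul_one]; exact hμT
    · rw [one_mul, inv_one, mul_one, one_div_one_div]; exact hl
  · rcases dichotomy p h2 L hneg hu hnb with hs | ⟨hr, hs⟩
    · exact absurd (inv_lam_mem h2 L lam hlam hl hs) hμT
    · obtain ⟨g, hg, hg2⟩ := exceptional p h2 L hu lam hlam hl hr hs hμT
      refine ⟨uu (g.1 0 0 / g.1 1 0), 1, one_ne_zero, ?_, ?_⟩
      · have : g.1 0 0 / g.1 1 0 + 1 + -(g.1 0 0 / g.1 1 0) = 1 := by ring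
        rw [uu_inv, uu_mul, uu_mul, this]; exact hu
      · rw [div_one, exc_identity g hg2]
        exact L.mul_mem (L.mul_mem hg hu) (L.inv_mem hg)

end Main

/-! ## Generation of `SL₂(ℤ/p)` -/

theorem transvection_eq (F : Type*) [Field F] (i j : Fin 2) (h : i ≠ j) (c : F) :
    Matrix.SpecialLinearGroup.transvection h c = uu c ∨
      Matrix.SpecialLinearGroup.transvection h c = ll c := by
  fin_cases i <;> fin_cases j
  · exact absurd rfl h
  · left
    apply ext4 <;> simp [Matrix.SpecialLinearGroup.transvection_coe, Matrix.single]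
  · right
    apply ext4 <;> simp [Matrix.SpecialLinearGroup.transvection_coe, Matrix.single]
  · exact absurd rfl h

theorem closure_eq_top (p : ℕ) [Fact p.Prime] :
    Subgroup.closure ({uu (1 : ZMod p), ll (1 : ZMod p)} : Set SL(2, ZMod p)) = ⊤ := by
  rw [eq_top_iff]
  intro A _
  have hu : ∀ c : ZMod p, uu c ∈ Subgroup.closure
      ({uu (1 : ZMod p), ll (1 : ZMod p)} : Set SL(2, ZMod p)) := by
    intro c
    have : uu c = uu (1 : ZMod p) ^ c.val := by
      rw [uu_pow, mul_one, ZMod.natCast_zmod_val]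
    rw [this]
    exact Subgroup.pow_mem _ (Subgroup.subset_closure (by simp)) _
  have hl : ∀ c : ZMod p, ll c ∈ Subgroup.closure
      ({uu (1 : ZMod p), ll (1 : ZMod p)} : Set SL(2, ZMod p)) := by
    intro c
    have : ll c = ll (1 : ZMod p) ^ c.val := by
      rw [ll_pow, mul_one, ZMod.natCast_zmod_val]
    rw [this]
    exact Subgroup.pow_mem _ (Subgroup.subset_closure (by simp)) _
  refine Matrix.SL2.transvection_induction
    (fun g => g ∈ Subgroup.closure ({uu (1 : ZMod p), ll (1 : ZMod p)} : Set SL(2, ZMod p)))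
    ?_ (fun _ _ => Subgroup.mul_mem _) A
  intro i j h c
  rcases transvection_eq (ZMod p) i j h c with h1 | h1
  · rw [h1]; exact hu c
  · rw [h1]; exact hl c

theorem map_entry {F : Type*} [Field F] (c : F →+* E) (g : SL(2, F)) (i j : Fin 2) :
    (Matrix.SpecialLinearGroup.map c g).1 i j = c (g.1 i j) := by
  simp [Matrix.SpecialLinearGroup.map_apply_coe]

theorem map_uu {F : Type*} [Field F] (c : F →+* E) (t : F) :
    Matrix.SpecialLinearGroup.map c (uu t) = uu (c t) := by
  apply ext4 <;> simp [map_entry]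

theorem map_ll {F : Type*} [Field F] (c : F →+* E) (t : F) :
    Matrix.SpecialLinearGroup.map c (ll t) = ll (c t) := by
  apply ext4 <;> simp [map_entry]

theorem map_injective {F : Type*} [Field F] (c : F →+* E) :
    Function.Injective (Matrix.SpecialLinearGroup.map (n := Fin 2) c) := by
  intro a b hab
  apply ext4
  · have := congrArg (fun g : SL(2, E) => g.1 0 0) hab
    simp only [map_entry] at this
    exact c.injective this
  · have := congrArg (fun g : SL(2, E) => g.1 0 1) hab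
    simp only [map_entry] at this
    exact c.injective this
  · have := congrArg (fun g : SL(2, E) => g.1 1 0) hab
    simp only [map_entry] at this
    exact c.injective this
  · have := congrArg (fun g : SL(2, E) => g.1 1 1) hab
    simp only [map_entry] at this
    exact c.injective this

section Final

variable [IsAlgClosed E]

/-- a conjugate of a standard pair in `L` gives a copy of `SL₂(p)` in `L` -/
theorem exists_copy (p : ℕ) [Fact p.Prime] [CharP E p] (L : Subgroup SL(2, E))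
    (h : SL(2, E)) (μ : E) (hμ : μ ≠ 0) (h1 : h * uu μ * h⁻¹ ∈ L)
    (h2' : h * ll (1 / μ) * h⁻¹ ∈ L) :
    ∃ M : Subgroup SL(2, E), M ≤ L ∧ Nonempty (M ≃* SL(2, ZMod p)) := by
  obtain ⟨ν, hν⟩ := IsAlgClosed.exists_eq_mul_self μ
  have hν0 : ν ≠ 0 := by
    rintro rfl
    rw [mul_zero] at hν; exact hμ hν
  let c : ZMod p →+* E := ZMod.castHom (dvd_refl p) E
  let k : SL(2, E) := h * hh ν hν0
  let φ : SL(2, ZMod p) →* SL(2, E) :=
    (MulAut.conj k).toMonoidHom.comp (Matrix.SpecialLinearGroup.map c)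
  have hφinj : Function.Injective φ := by
    intro a b hab
    apply map_injective c
    exact (MulAut.conj k).injective hab
  have hφu : φ (uu 1) = h * uu μ * h⁻¹ := by
    show k * Matrix.SpecialLinearGroup.map c (uu 1) * k⁻¹ = _
    rw [map_uu, map_one]
    show h * hh ν hν0 * uu 1 * (h * hh ν hν0)⁻¹ = _
    rw [_root_.mul_inv_rev]
    have := hh_conj_uu ν hν0 1
    rw [mul_one, pow_two, ← hν] at this
    rw [← this]; group
  have hφl : φ (ll 1) = h * ll (1 / μ) * h⁻¹ := by
    show k * Matrix.SpecialLinearGroup.map c (ll 1) * k⁻¹ = _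
    rw [map_ll, map_one]
    show h * hh ν hν0 * ll 1 * (h * hh ν hν0)⁻¹ = _
    rw [_root_.mul_inv_rev]
    have := hh_conj_ll ν hν0 1
    rw [pow_two, ← hν] at this
    rw [← this]; group
  refine ⟨φ.range, ?_, ⟨(MonoidHom.ofInjective hφinj).symm⟩⟩
  rw [MonoidHom.range_eq_map, ← closure_eq_top p, MonoidHom.map_closure, Subgroup.closure_le]
  rintro _ ⟨g, hg, rfl⟩
  rcases hg with rfl | rfl
  · rw [hφu]; exact h1
  · rw [hφl]; exact h2'

end Final

end Cfsg.Agent.Lead.DicksonJ
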