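import Mathlib
import Cfsg.Agent.Lead.DicksonA
import Cfsg.Agent.Lead.DicksonB
import Cfsg.Agent.Lead.DicksonJ

set_option autoImplicit false

/-! # Dickson's theorem for `SL₂`, part K: the core theorem and the standard position -/

namespace Cfsg.Agent.Lead.DicksonK

open Matrix Cfsg.Agent.Lead.DicksonA Cfsg.Agent.Lead.DicksonB Cfsg.Agent.Lead.DicksonJ
open scoped LinearAlgebra.Projectivization MatrixGroups

variable {E : Type*} [Field E]

/-- `L` extended by `-1` -/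
def Lpm (L : Subgroup SL(2, E)) : Subgroup SL(2, E) where
  carrier := {g | g ∈ L ∨ -g ∈ L}
  one_mem' := Or.inl L.one_mem
  mul_mem' := by
    rintro a b (ha | ha) (hb | hb)
    · exact Or.inl (L.mul_mem ha hb)
    · right
      have : -(a * b) = a * (-b) := by simp
      rw [this]; exact L.mul_mem ha hb
    · right
      have : -(a * b) = (-a) * b := by simp
      rw [this]; exact L.mul_mem ha hb
    · left
      have : a * b = (-a) * (-b) := by simp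
      rw [this]; exact L.mul_mem ha hb
  inv_mem' := by
    rintro a (ha | ha)
    · exact Or.inl (L.inv_mem ha)
    · right
      have : -a⁻¹ = (-a)⁻¹ := by
        rw [eq_inv_iff_mul_eq_one]; simp
      rw [this]; exact L.inv_mem ha

theorem mem_Lpm (L : Subgroup SL(2, E)) (g : SL(2, E)) : g ∈ Lpm L ↔ g ∈ L ∨ -g ∈ L := Iff.rfl

theorem le_Lpm (L : Subgroup SL(2, E)) : L ≤ Lpm L := fun _ h => Or.inl h

theorem neg_one_mem_Lpm (L : Subgroup SL(2, E)) : (-1 : SL(2, E)) ∈ Lpm L := by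
  right; simp [L.one_mem]

instance Lpm_finite (L : Subgroup SL(2, E)) [Finite L] : Finite (Lpm L) := by
  have h1 : ((Lpm L : Subgroup SL(2, E)) : Set SL(2, E)) ⊆
      (L : Set SL(2, E)) ∪ (fun g => -g) '' (L : Set SL(2, E)) := by
    rintro g (hg | hg)
    · exact Or.inl hg
    · exact Or.inr ⟨-g, hg, by simp⟩
  have h2 : ((L : Set SL(2, E)) ∪ (fun g => -g) '' (L : Set SL(2, E))).Finite :=
    (Set.toFinite _).union ((Set.toFinite _).image _)
  exact Set.finite_coe_iff.2 (h2.subset h1)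

theorem mem_of_pow (p : ℕ) (hp : Odd p) (L : Subgroup SL(2, E)) (g : SL(2, E))
    (hg : g ∈ Lpm L) (hgp : g ^ p = 1) : g ∈ L := by
  rcases hg with hg | hg
  · exact hg
  · have h1 : (-g) ^ p ∈ L := L.pow_mem hg p
    rw [Odd.neg_pow hp, hgp] at h1
    have : g = (-1) * (-g) := by simp
    rw [this]; exact L.mul_mem h1 hg

theorem conj_uu_pow (p : ℕ) [CharP E p] (h : SL(2, E)) (t : E) :
    (h * uu t * h⁻¹) ^ p = 1 := by
  rw [conj_pow, uu_pow, CharP.cast_eq_zero E p, zero_mul, uu_zero]; group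

theorem ll_pow_p (p : ℕ) [CharP E p] (t : E) : (ll t) ^ p = 1 := by
  rw [ll_pow, CharP.cast_eq_zero E p, zero_mul, ll_zero]

theorem conj_ll_pow (p : ℕ) [CharP E p] (h : SL(2, E)) (t : E) :
    (h * ll t * h⁻¹) ^ p = 1 := by
  rw [conj_pow, ll_pow_p]; group

section Main

variable [IsAlgClosed E]

/-- the core theorem: a finite subgroup of `SL₂(E)` containing `uu 1` and `ll λ` contains a copy
of `SL₂(p)` -/
theorem core (p : ℕ) [Fact p.Prime] [CharP E p] (h2 : (2 : E) ≠ 0)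
    (L : Subgroup SL(2, E)) [Finite L] (hu : uu 1 ∈ L)
    (lam : E) (hlam : lam ≠ 0) (hl : ll lam ∈ L) :
    ∃ M : Subgroup SL(2, E), M ≤ L ∧ Nonempty (M ≃* SL(2, ZMod p)) := by
  have hp2 : p ≠ 2 := by
    rintro rfl
    apply h2
    have := CharP.cast_eq_zero E 2
    exact_mod_cast this
  have hodd : Odd p := (Fact.out : p.Prime).odd_of_ne_two hp2
  obtain ⟨h, μ, hμ, h1, h2'⟩ := key p h2 (Lpm L) (neg_one_mem_Lpm L) (le_Lpm L hu) lam hlam
    (le_Lpm L hl)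
  exact exists_copy p L h μ hμ (mem_of_pow p hodd L _ h1 (conj_uu_pow p h μ))
    (mem_of_pow p hodd L _ h2' (conj_ll_pow p h _))

/-- two elements of `p`-power order without a common fixed point can be conjugated to
`uu 1` and `ll λ` -/
theorem std_position (p : ℕ) [Fact p.Prime] [CharP E p] (h2 : (2 : E) ≠ 0)
    (a₁ a₂ : SL(2, E)) (k₁ k₂ : ℕ) (ha₁ : a₁ ^ (p ^ k₁) = 1) (ha₂ : a₂ ^ (p ^ k₂) = 1)
    (hne : a₁ ≠ 1) (hfix : ∀ x : PL E, a₁ • x = x → a₂ • x ≠ x) :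
    ∃ (k : SL(2, E)) (lam : E), lam ≠ 0 ∧ k * a₁ * k⁻¹ = uu 1 ∧ k * a₂ * k⁻¹ = ll lam := by
  obtain ⟨h₁, t₁, rfl⟩ := unip_of_pow p h2 a₁ k₁ ha₁
  obtain ⟨h₂, t₂, rfl⟩ := unip_of_pow p h2 a₂ k₂ ha₂
  have ht₁ : t₁ ≠ 0 := by
    rintro rfl
    apply hne; rw [uu_zero]; group
  -- fixed points
  have hx₁ : (h₁ * uu t₁ * h₁⁻¹) • (h₁ • (inf : PL E)) = h₁ • inf := by
    rw [mul_smul, mul_smul, inv_smul_smul, uu_smul_inf]
  have hx₂ : (h₂ * uu t₂ * h₂⁻¹) • (h₂ • (inf : PL E)) = h₂ • inf := by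
    rw [mul_smul, mul_smul, inv_smul_smul, uu_smul_inf]
  have hx12 : h₂ • (inf : PL E) ≠ h₁ • inf := by
    intro h
    apply hfix _ hx₁
    rw [← h]; exact hx₂
  have ht₂ : t₂ ≠ 0 := by
    rintro rfl
    apply hfix _ hx₁
    rw [uu_zero]; simp
  -- the point `h₁⁻¹ h₂ ∞` is affine
  have hy : h₁⁻¹ • h₂ • (inf : PL E) ≠ inf := by
    intro h
    apply hx12
    have := congrArg (fun z => h₁ • z) h
    simpa using this
  obtain ⟨c, hc⟩ : ∃ c, h₁⁻¹ • h₂ • (inf : PL E) = pt c := by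
    rcases eq_inf_or_pt (h₁⁻¹ • h₂ • (inf : PL E)) with h | h
    · exact absurd h hy
    · exact h
  -- `m` fixes infinity
  obtain ⟨m, hm⟩ : ∃ m : SL(2, E), m = ww⁻¹ * uu (-c) * h₁⁻¹ * h₂ := ⟨_, rfl⟩
  have hminf : m • (inf : PL E) = inf := by
    rw [hm, mul_smul, mul_smul, mul_smul, hc, uu_smul_pt, add_neg_cancel, ← ww_smul_inf,
      inv_smul_smul]
  have hm10 := (smul_inf_eq_inf_iff m).1 hminf
  have hm00 : m.1 0 0 ≠ 0 := borel_00_ne_zero m hm10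
  obtain ⟨ν, hν⟩ := IsAlgClosed.exists_eq_mul_self (1 / t₁)
  have hν0 : ν ≠ 0 := by
    rintro rfl
    rw [mul_zero] at hν
    exact one_div_ne_zero ht₁ hν
  refine ⟨hh ν hν0 * uu (-c) * h₁⁻¹, -(m.1 0 0 ^ 2 * t₂) / ν ^ 2, ?_, ?_, ?_⟩
  · exact div_ne_zero (neg_ne_zero.2 (mul_ne_zero (pow_ne_zero _ hm00) ht₂))
      (pow_ne_zero _ hν0)
  · have e1 : hh ν hν0 * uu (-c) * h₁⁻¹ * (h₁ * uu t₁ * h₁⁻¹) * (hh ν hν0 * uu (-c) * h₁⁻¹)⁻¹
        = hh ν hν0 * (uu (-c) * uu t₁ * (uu (-c))⁻¹) * (hh ν hν0)⁻¹ := by group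
    rw [e1, uu_inv, uu_mul, uu_mul]
    have : -c + t₁ + - -c = t₁ := by ring
    rw [this, hh_conj_uu]
    congr 1
    rw [pow_two, ← hν]; field_simp
  · have e1 : hh ν hν0 * uu (-c) * h₁⁻¹ * (h₂ * uu t₂ * h₂⁻¹) * (hh ν hν0 * uu (-c) * h₁⁻¹)⁻¹
        = hh ν hν0 * (ww * (m * uu t₂ * m⁻¹) * ww⁻¹) * (hh ν hν0)⁻¹ := by
      rw [hm]; group
    rw [e1, borel_conj_uu m hm10, ww_uu_ww, hh_conj_ll]

end Main

end Cfsg.Agent.Lead.DicksonK
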