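import Mathlib
import Cfsg.Agent.Lead.DicksonA
import Cfsg.Agent.Lead.DicksonB
import Cfsg.Agent.Lead.DicksonJ
import Cfsg.Agent.Lead.DicksonK

set_option autoImplicit false

/-! # Dickson's theorem for `SL₂`, part L: subgroups of `SL₂(q)` with several Sylow subgroups -/

namespace Cfsg.Agent.Lead.DicksonL

open Matrix Cfsg.Agent.Lead.DicksonA Cfsg.Agent.Lead.DicksonB Cfsg.Agent.Lead.DicksonJ
  Cfsg.Agent.Lead.DicksonK
open scoped LinearAlgebra.Projectivization MatrixGroups

variable {E : Type*} [Field E]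

/-- an upper triangular element of `p`-power order is some `uu t` -/
theorem borel_unip (p : ℕ) [Fact p.Prime] [CharP E p] (g : SL(2, E)) (hc : g.1 1 0 = 0)
    (k : ℕ) (hpow : g ^ (p ^ k) = 1) : g = uu (g.1 0 1) := by
  have h00 := (borel_pow g hc (p ^ k)).2
  rw [hpow] at h00
  simp only [one_00] at h00
  have ha : g.1 0 0 = 1 := by
    have h3 : (g.1 0 0 - 1) ^ (p ^ k) = 0 := by
      rw [sub_pow_char_pow, ← h00]; simp
    have := pow_eq_zero_iff (Nat.pos_iff_ne_zero.1 (pow_pos (Fact.out : p.Prime).pos k)) |>.1 h3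
    exact sub_eq_zero.1 this
  have hd : g.1 1 1 = 1 := by
    have := borel_mul_11 g hc
    rw [ha, one_mul] at this
    exact this
  apply ext4 <;> simp [ha, hd, hc]

/-- an element of `p`-power order fixing `h • ∞` lies in the unipotent radical at that point -/
theorem mem_unip_of_fix (p : ℕ) [Fact p.Prime] [CharP E p] (h b : SL(2, E)) (k : ℕ)
    (hpow : b ^ (p ^ k) = 1) (hfix : b • (h • (inf : PL E)) = h • inf) :
    ∃ t, b = h * uu t * h⁻¹ := by
  have hfix' : (h⁻¹ * b * h) • (inf : PL E) = inf := by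
    rw [mul_smul, mul_smul, hfix, inv_smul_smul]
  have hc := (smul_inf_eq_inf_iff _).1 hfix'
  have hpow' : (h⁻¹ * b * h) ^ (p ^ k) = 1 := by
    have : (h⁻¹ * b * h) ^ (p ^ k) = h⁻¹ * b ^ (p ^ k) * h := by
      have := conj_pow (a := h⁻¹) (b := b) (i := p ^ k)
      rwa [inv_inv] at this
    rw [this, hpow]; group
  have := borel_unip p _ hc k hpow'
  refine ⟨(h⁻¹ * b * h).1 0 1, ?_⟩
  rw [← this]; group

theorem conj_uu_fix (h : SL(2, E)) (t : E) (ht : t ≠ 0) (x : PL E)
    (hx : (h * uu t * h⁻¹) • x = x) : x = h • inf := by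
  have h1 : uu t • (h⁻¹ • x) = h⁻¹ • x := by
    have := congrArg (fun z => h⁻¹ • z) hx
    simp only [mul_smul, inv_smul_smul] at this
    exact this
  have := (uu_fix_iff t ht _).1 h1
  rw [← this, smul_inv_smul]

section Main

variable {F : Type*} [Field F] [Fintype F] [IsAlgClosed E]

open Classical in
/-- two `p`-elements without a common fixed point -/
theorem exists_pair (p : ℕ) [Fact p.Prime] [CharP E p] (h2 : (2 : E) ≠ 0)
    (ι : SL(2, F) →* SL(2, E)) (hι : Function.Injective ι)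
    (H : Subgroup SL(2, F)) (hH : 1 < Nat.card (Sylow p H)) :
    ∃ g₁ ∈ H, ∃ g₂ ∈ H, ∃ k₁ k₂ : ℕ, g₁ ^ (p ^ k₁) = 1 ∧ g₂ ^ (p ^ k₂) = 1 ∧ g₁ ≠ 1 ∧
      ∀ x : PL E, ι g₁ • x = x → ι g₂ • x ≠ x := by
  by_contra hcon
  push Not at hcon
  have hsub : Subsingleton (Sylow p H) := by
    by_cases hex : ∃ g₁ ∈ H, ∃ k₁ : ℕ, g₁ ^ (p ^ k₁) = 1 ∧ g₁ ≠ 1
    · obtain ⟨g₁, hg₁, k₁, hpow₁, hne₁⟩ := hex
      have hpow₁' : ι g₁ ^ (p ^ k₁) = 1 := by rw [← map_pow, hpow₁, map_one]
      obtain ⟨h₁, t₁, ht₁⟩ := unip_of_pow p h2 (ι g₁) k₁ hpow₁'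
      have ht₁0 : t₁ ≠ 0 := by
        rintro rfl
        apply hne₁
        apply hι
        rw [ht₁, uu_zero, map_one]; group
      -- the unipotent radical
      let V : Subgroup H :=
        { carrier := {g | ∃ t, ι g.1 = h₁ * uu t * h₁⁻¹}
          one_mem' := ⟨0, by simp [uu_zero]⟩
          mul_mem' := by
            rintro a b ⟨s, hs⟩ ⟨t, ht⟩
            refine ⟨s + t, ?_⟩
            rw [Subgroup.coe_mul, map_mul, hs, ht, ← uu_mul]; group
          inv_mem' := by
            rintro a ⟨s, hs⟩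
            refine ⟨-s, ?_⟩
            rw [Subgroup.coe_inv, map_inv, hs, ← uu_inv]; group }
      have hV : IsPGroup p V := by
        rintro ⟨g, t, ht⟩
        refine ⟨1, ?_⟩
        apply Subtype.ext
        apply Subtype.ext
        apply hι
        simp only [pow_one, Subgroup.coe_pow, Subgroup.coe_one, map_pow, map_one]
        rw [ht]; exact conj_uu_pow p h₁ t
      have hle : ∀ Q : Sylow p H, (Q : Subgroup H) = V := by
        intro Q
        symm
        apply Q.is_maximal' hV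
        intro g hgQ
        obtain ⟨n, hn⟩ := Q.isPGroup' ⟨g, hgQ⟩
        have hn' : g.1 ^ (p ^ n) = 1 := by
          have := congrArg Subtype.val hn
          have h5 := congrArg Subtype.val this
          simpa using h5
        obtain ⟨x, hx1, hx2⟩ := hcon g₁ hg₁ g.1 g.2 k₁ n hpow₁ hn' hne₁
        rw [ht₁] at hx1
        have hx := conj_uu_fix h₁ t₁ ht₁0 x hx1
        rw [hx] at hx2
        have hpow' : ι g.1 ^ (p ^ n) = 1 := by rw [← map_pow, hn', map_one]
        exact mem_unip_of_fix p h₁ (ι g.1) n hpow' hx2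
      refine ⟨fun Q₁ Q₂ => ?_⟩
      apply Sylow.ext
      rw [hle Q₁, hle Q₂]
    · push Not at hex
      have hle : ∀ Q : Sylow p H, (Q : Subgroup H) = ⊥ := by
        intro Q
        rw [eq_bot_iff]
        intro g hgQ
        obtain ⟨n, hn⟩ := Q.isPGroup' ⟨g, hgQ⟩
        have hn' : g.1 ^ (p ^ n) = 1 := by
          have := congrArg Subtype.val hn
          have h5 := congrArg Subtype.val this
          simpa using h5
        rw [Subgroup.mem_bot]
        apply Subtype.ext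
        exact hex g.1 g.2 n hn'
      refine ⟨fun Q₁ Q₂ => ?_⟩
      apply Sylow.ext
      rw [hle Q₁, hle Q₂]
  have : Nat.card (Sylow p H) ≤ 1 := Finite.card_le_one_iff_subsingleton.2 hsub
  omega

end Main

/-- Dickson's theorem: a subgroup of `SL₂(q)`, `q` a power of the odd prime `p`, with more than
one Sylow `p`-subgroup contains a copy of `SL₂(p)` -/
theorem dickson {F : Type*} [Field F] [Fintype F] (p : ℕ) [Fact p.Prime] [CharP F p]
    (hp : p ≠ 2) (H : Subgroup SL(2, F)) (hH : 1 < Nat.card (Sylow p H)) :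
    ∃ K : Subgroup SL(2, F), K ≤ H ∧ Nonempty (K ≃* SL(2, ZMod p)) := by
  let E := AlgebraicClosure F
  have hchar : CharP E p := charP_of_injective_algebraMap (algebraMap F E).injective p
  have h2 : (2 : E) ≠ 0 := by
    intro h
    have h3 : ((2 : ℕ) : E) = 0 := by exact_mod_cast h
    rw [CharP.cast_eq_zero_iff E p] at h3
    exact hp ((Nat.prime_dvd_prime_iff_eq (Fact.out : p.Prime) Nat.prime_two).1 h3)
  let ι : SL(2, F) →* SL(2, E) := Matrix.SpecialLinearGroup.map (algebraMap F E)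
  have hι : Function.Injective ι := map_injective (algebraMap F E)
  obtain ⟨g₁, hg₁, g₂, hg₂, k₁, k₂, hpow₁, hpow₂, hne₁, hfix⟩ :=
    exists_pair p h2 ι hι H hH
  have ha₁ : ι g₁ ^ (p ^ k₁) = 1 := by rw [← map_pow, hpow₁, map_one]
  have ha₂ : ι g₂ ^ (p ^ k₂) = 1 := by rw [← map_pow, hpow₂, map_one]
  have hne : ι g₁ ≠ 1 := fun h => hne₁ (hι (by rw [h, map_one]))
  obtain ⟨k, lam, hlam, hk₁, hk₂⟩ := std_position p h2 (ι g₁) (ι g₂) k₁ k₂ ha₁ ha₂ hne hfix
  let φ : SL(2, F) →* SL(2, E) := (MulAut.conj k).toMonoidHom.comp ι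
  have hφ : Function.Injective φ := fun a b hab => hι ((MulAut.conj k).injective hab)
  have hfin : Finite (H.map φ) := by
    have : Finite H := inferInstance
    exact Finite.of_surjective (fun g : H => (⟨φ g.1, Subgroup.mem_map_of_mem φ g.2⟩ : H.map φ))
      (by rintro ⟨_, g, hg, rfl⟩; exact ⟨⟨g, hg⟩, rfl⟩)
  have hu : uu 1 ∈ H.map φ := ⟨g₁, hg₁, hk₁⟩
  have hl : ll lam ∈ H.map φ := ⟨g₂, hg₂, hk₂⟩
  obtain ⟨M, hML, ⟨e⟩⟩ := core p h2 (H.map φ) hu lam hlam hl
  refine ⟨M.comap φ, ?_, ?_⟩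
  · intro g hg
    obtain ⟨h, hh, hhg⟩ := hML (Subgroup.mem_comap.1 hg)
    rwa [← hφ hhg]
  · have hrange : M ≤ φ.range := by
      intro m hm
      obtain ⟨h, _, hh⟩ := hML hm
      exact ⟨h, hh⟩
    have h5 : (M.comap φ).map φ = M := Subgroup.map_comap_eq_self hrange
    exact ⟨((M.comap φ).equivMapOfInjective φ hφ).trans ((MulEquiv.subgroupCongr h5).trans e)⟩

end Cfsg.Agent.Lead.DicksonL
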