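import Mathlib
import Cfsg.Prelude.Def_LocalEven

set_option autoImplicit false

namespace Cfsg.Agent.Lead

open Cfsg

/-- A group `H` that is a quotient of a group embedding in `G` is involved in `G`. -/
theorem involves_of_maps {H : Type*} [Group H] {G : Type*} [Group G] {A : Type*} [Group A]
    (i : A →* G) (hi : Function.Injective i) (f : A →* H) (hf : Function.Surjective f) :
    Cfsg.Involves H G := by
  set e : A ≃* i.range := MonoidHom.ofInjective hi with he
  set f' : i.range →* H := f.comp e.symm.toMonoidHom with hf'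
  have hf's : Function.Surjective f' := hf.comp e.symm.surjective
  have h : (f'.ker.map i.range.subtype).subgroupOf i.range = f'.ker := by
    rw [Subgroup.subgroupOf, Subgroup.comap_map_eq_self_of_injective (Subgroup.subtype_injective _)]
  have hn : ((f'.ker.map i.range.subtype).subgroupOf i.range).Normal := by
    rw [h]; infer_instance
  exact ⟨i.range, f'.ker.map i.range.subtype, hn,
    ⟨(QuotientGroup.quotientMulEquivOfEq h).trans
      (QuotientGroup.quotientKerEquivOfSurjective f' hf's)⟩⟩

theorem exists_maps_of_involves {H : Type*} [Group H] {G : Type*} [Group G]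
    (h : Cfsg.Involves H G) : ∃ (K : Subgroup G) (f : K →* H), Function.Surjective f := by
  obtain ⟨K, R, hn, ⟨e⟩⟩ := h
  exact ⟨K, e.toMonoidHom.comp (QuotientGroup.mk' (R.subgroupOf K)),
    e.surjective.comp (QuotientGroup.mk'_surjective _)⟩

/-- A `p`-group involved in a finite group is involved in each of its Sylow `p`-subgroups. -/
theorem involves_sylow_of_isPGroup {Q : Type*} [Group Q] {L : Type*} [Group L] [Finite L]
    (p : ℕ) [Fact p.Prime] (hQ : IsPGroup p Q) (T : Sylow p L) (h : Cfsg.Involves Q L) :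
    Cfsg.Involves Q (T : Subgroup L) := by
  obtain ⟨K, f, hf⟩ := exists_maps_of_involves h
  -- a Sylow subgroup of `K` maps onto `Q`
  obtain ⟨P₁⟩ : Nonempty (Sylow p K) := inferInstance
  have hP₁map : (P₁ : Subgroup K).map f = ⊤ := by
    have h1 : ((P₁.mapSurjective hf : Sylow p Q) : Subgroup Q) = (P₁ : Subgroup K).map f := rfl
    rw [← h1]
    have h2 : IsPGroup p (⊤ : Subgroup Q) := hQ.to_subgroup _
    exact ((P₁.mapSurjective hf).3 h2 le_top).symm ▸ rfl
  -- conjugate it into `T`
  have hP₁p : IsPGroup p ((P₁ : Subgroup K).map K.subtype) := P₁.2.map _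
  obtain ⟨T', hT'⟩ := hP₁p.exists_le_sylow
  obtain ⟨g, hg⟩ := MulAction.exists_smul_eq L T' T
  have hconj : ∀ x ∈ (P₁ : Subgroup K).map K.subtype, g * x * g⁻¹ ∈ (T : Subgroup L) := by
    intro x hx
    rw [← hg]
    rw [Sylow.coe_subgroup_smul, Subgroup.mem_smul_pointwise_iff_exists]
    exact ⟨x, hT' hx, rfl⟩
  let j : (P₁ : Subgroup K) →* (T : Subgroup L) :=
    { toFun := fun x => ⟨g * ((x : K) : L) * g⁻¹, hconj _ ⟨(x : K), x.2, rfl⟩⟩
      map_one' := by
        apply Subtype.ext
        simp
      map_mul' := by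
        intro a b
        apply Subtype.ext
        simp only [Subgroup.coe_mul]
        group }
  have hj : Function.Injective j := by
    intro a b hab
    have h1 : g * ((a : K) : L) * g⁻¹ = g * ((b : K) : L) * g⁻¹ := congrArg Subtype.val hab
    have h2 : ((a : K) : L) = ((b : K) : L) := mul_left_cancel (mul_right_cancel h1)
    exact Subtype.ext (Subtype.ext h2)
  refine involves_of_maps j hj (f.comp (P₁ : Subgroup K).subtype) ?_
  intro q
  have : q ∈ (P₁ : Subgroup K).map f := hP₁map ▸ Subgroup.mem_top q
  obtain ⟨x, hx, rfl⟩ := this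
  exact ⟨⟨x, hx⟩, rfl⟩

end Cfsg.Agent.Lead
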