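import Mathlib

set_option autoImplicit false

/-!
Coordinates on an elementary abelian group of order `p²` and the action of `SL₂(p)`.
-/

namespace Cfsg.Agent.Lead.EssPSq

variable {H : Type*} [Group H] {p : ℕ} [hp : Fact p.Prime]

theorem pow_val_add {x : H} (hx : x ^ p = 1) (a b : ZMod p) :
    x ^ (a + b).val = x ^ a.val * x ^ b.val := by
  rw [ZMod.val_add, ← pow_add, ← pow_eq_pow_mod _ hx]

theorem pow_val_mul {x : H} (hx : x ^ p = 1) (a b : ZMod p) :
    x ^ (a * b).val = (x ^ a.val) ^ b.val := by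
  rw [ZMod.val_mul, ← pow_mul, ← pow_eq_pow_mod _ hx]

theorem pow_val_natCast {x : H} (hx : x ^ p = 1) (k : ℕ) : x ^ ((k : ZMod p)).val = x ^ k := by
  rw [ZMod.val_natCast, ← pow_eq_pow_mod _ hx]

theorem pow_val_one (x : H) : x ^ ((1 : ZMod p)).val = x := by
  haveI : Fact (1 < p) := ⟨hp.out.one_lt⟩
  rw [ZMod.val_one, pow_one]

/-- if a nonzero power lies in a subgroup so does the element -/
theorem mem_of_pow_val_mem {x : H} (hx : x ^ p = 1) {i : ZMod p} (hi : i ≠ 0) (K : Subgroup H)
    (h : x ^ i.val ∈ K) : x ∈ K := by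
  have h1 : x = (x ^ i.val) ^ (i⁻¹).val := by
    rw [← pow_val_mul hx, mul_inv_cancel₀ hi, pow_val_one]
  rw [h1]
  exact K.pow_mem h _

/-- elementary abelian of order `p²` -/
structure EA (p : ℕ) (H : Type*) [Group H] : Prop where
  comm : ∀ a b : H, a * b = b * a
  exp : ∀ a : H, a ^ p = 1
  card : Nat.card H = p ^ 2

/-- coordinates -/
noncomputable def coordHom (h : EA p H) (x y : H) : Multiplicative (Fin 2 → ZMod p) →* H where
  toFun v := x ^ (Multiplicative.toAdd v 0).val * y ^ (Multiplicative.toAdd v 1).val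
  map_one' := by simp
  map_mul' v w := by
    simp only [toAdd_mul, Pi.add_apply]
    rw [pow_val_add (h.exp x), pow_val_add (h.exp y)]
    simp only [mul_assoc]
    congr 1
    rw [← mul_assoc, h.comm (x ^ _) (y ^ _), mul_assoc]

theorem coordHom_apply (h : EA p H) (x y : H) (v : Multiplicative (Fin 2 → ZMod p)) :
    coordHom h x y v = x ^ (Multiplicative.toAdd v 0).val * y ^ (Multiplicative.toAdd v 1).val := rfl

theorem coordHom_injective (h : EA p H) {x y : H} (hx : x ≠ 1) (hy : y ∉ Subgroup.zpowers x) :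
    Function.Injective (coordHom h x y) := by
  rw [injective_iff_map_eq_one]
  intro v hv
  rw [coordHom_apply] at hv
  have hj : Multiplicative.toAdd v 1 = 0 := by
    by_contra hj
    apply hy
    apply mem_of_pow_val_mem (h.exp y) hj
    have : y ^ (Multiplicative.toAdd v 1).val = (x ^ (Multiplicative.toAdd v 0).val)⁻¹ :=
      eq_inv_of_mul_eq_one_right hv
    rw [this]
    exact Subgroup.inv_mem _ (Subgroup.pow_mem _ (Subgroup.mem_zpowers x) _)
  have hi : Multiplicative.toAdd v 0 = 0 := by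
    by_contra hi
    apply hx
    have h1 : x ^ (Multiplicative.toAdd v 0).val = 1 := by
      rw [hj, ZMod.val_zero, pow_zero, mul_one] at hv
      exact hv
    have := mem_of_pow_val_mem (h.exp x) hi ⊥ (by rw [h1]; exact Subgroup.one_mem _)
    exact Subgroup.mem_bot.1 this
  have : Multiplicative.toAdd v = 0 := by
    funext k
    fin_cases k
    · exact hi
    · exact hj
  exact this

theorem card_V : Nat.card (Multiplicative (Fin 2 → ZMod p)) = p ^ 2 := by
  rw [Nat.card_congr Multiplicative.toAdd, Nat.card_eq_fintype_card, Fintype.card_fun, ZMod.card,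
    Fintype.card_fin]

variable [Finite H]

theorem coordHom_bijective (h : EA p H) {x y : H} (hx : x ≠ 1) (hy : y ∉ Subgroup.zpowers x) :
    Function.Bijective (coordHom h x y) :=
  Function.Injective.bijective_of_nat_card_le (coordHom_injective h hx hy)
    (by rw [card_V, h.card])

/-- the coordinate isomorphism -/
noncomputable def coordEquiv (h : EA p H) {x y : H} (hx : x ≠ 1) (hy : y ∉ Subgroup.zpowers x) :
    Multiplicative (Fin 2 → ZMod p) ≃* H :=
  MulEquiv.ofBijective (coordHom h x y) (coordHom_bijective h hx hy)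

theorem coordEquiv_apply (h : EA p H) {x y : H} (hx : x ≠ 1) (hy : y ∉ Subgroup.zpowers x)
    (v : Fin 2 → ZMod p) :
    coordEquiv h hx hy (Multiplicative.ofAdd v) = x ^ (v 0).val * y ^ (v 1).val := rfl

theorem exists_coord (h : EA p H) {x y : H} (hx : x ≠ 1) (hy : y ∉ Subgroup.zpowers x) (g : H) :
    ∃ a b : ZMod p, g = x ^ a.val * y ^ b.val := by
  obtain ⟨v, rfl⟩ := (coordHom_bijective h hx hy).2 g
  exact ⟨_, _, rfl⟩

theorem coord_inj (h : EA p H) {x y : H} (hx : x ≠ 1) (hy : y ∉ Subgroup.zpowers x)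
    {a b a' b' : ZMod p} (he : x ^ a.val * y ^ b.val = x ^ a'.val * y ^ b'.val) :
    a = a' ∧ b = b' := by
  have := (coordHom_bijective h hx hy).1
    (a₁ := Multiplicative.ofAdd ![a, b]) (a₂ := Multiplicative.ofAdd ![a', b']) (by
      rw [coordHom_apply, coordHom_apply]
      simpa using he)
  have h2 : (![a, b] : Fin 2 → ZMod p) = ![a', b'] := Multiplicative.ofAdd.injective this
  constructor
  · simpa using congrFun h2 0
  · simpa using congrFun h2 1

section SL

omit [Finite H]

abbrev SL2 (p : ℕ) := Matrix.SpecialLinearGroup (Fin 2) (ZMod p)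

def E12 (t : ZMod p) : SL2 p := ⟨!![1, t; 0, 1], by simp [Matrix.det_fin_two]⟩
def E21 (t : ZMod p) : SL2 p := ⟨!![1, 0; t, 1], by simp [Matrix.det_fin_two]⟩

theorem E12_val (t : ZMod p) : (E12 t).1 = !![1, t; 0, 1] := rfl
theorem E21_val (t : ZMod p) : (E21 t).1 = !![1, 0; t, 1] := rfl

theorem mem_of_c_ne (T : Subgroup (SL2 p)) (h1 : ∀ t, E12 t ∈ T) (h2 : ∀ t, E21 t ∈ T) (M : SL2 p)
    (hc : M.1 1 0 ≠ 0) : M ∈ T := by
  have hdet : M.1 0 0 * M.1 1 1 - M.1 0 1 * M.1 1 0 = 1 := by
    have := M.2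
    rwa [Matrix.det_fin_two] at this
  have : M = E12 ((M.1 0 0 - 1) / M.1 1 0) * E21 (M.1 1 0) * E12 ((M.1 1 1 - 1) / M.1 1 0) := by
    apply Subtype.ext
    rw [Matrix.SpecialLinearGroup.coe_mul, Matrix.SpecialLinearGroup.coe_mul, E12_val, E21_val,
      E12_val, Matrix.mul_fin_two, Matrix.mul_fin_two]
    conv_lhs => rw [Matrix.eta_fin_two M.1]
    congr 1
    ext i j
    fin_cases i <;> fin_cases j
    · simp
      field_simp
      ring
    · simp
      field_simp
      linear_combination (-1 : ZMod p) * hdet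
    · simp
    · simp
      field_simp
      ring
  rw [this]
  exact T.mul_mem (T.mul_mem (h1 _) (h2 _)) (h1 _)

theorem sl2_gen (T : Subgroup (SL2 p)) (h1 : ∀ t, E12 t ∈ T) (h2 : ∀ t, E21 t ∈ T) : T = ⊤ := by
  rw [eq_top_iff]
  intro M _
  by_cases hc : M.1 1 0 = 0
  · have hdet : M.1 0 0 * M.1 1 1 - M.1 0 1 * M.1 1 0 = 1 := by
      have := M.2
      rwa [Matrix.det_fin_two] at this
    have ha : M.1 0 0 ≠ 0 := by
      intro ha
      rw [ha, hc] at hdet
      simp at hdet
    have h3 : E21 1 * M ∈ T := by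
      apply mem_of_c_ne T h1 h2
      rw [Matrix.SpecialLinearGroup.coe_mul, E21_val]
      conv_lhs => rw [Matrix.eta_fin_two M.1]
      rw [Matrix.mul_fin_two]
      simp [hc, ha]
    have h4 : M = (E21 1)⁻¹ * (E21 1 * M) := by group
    rw [h4]
    exact T.mul_mem (T.inv_mem (h2 1)) h3
  · exact mem_of_c_ne T h1 h2 M hc


/-- the additive automorphism given by a matrix -/
def matAut (M : SL2 p) : (Fin 2 → ZMod p) ≃+ (Fin 2 → ZMod p) where
  toFun v := M.1.mulVec v
  invFun v := (M⁻¹).1.mulVec v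
  left_inv v := by
    show (M⁻¹).1.mulVec (M.1.mulVec v) = v
    rw [Matrix.mulVec_mulVec, ← Matrix.SpecialLinearGroup.coe_mul, inv_mul_cancel,
      Matrix.SpecialLinearGroup.coe_one, Matrix.one_mulVec]
  right_inv v := by
    show M.1.mulVec ((M⁻¹).1.mulVec v) = v
    rw [Matrix.mulVec_mulVec, ← Matrix.SpecialLinearGroup.coe_mul, mul_inv_cancel,
      Matrix.SpecialLinearGroup.coe_one, Matrix.one_mulVec]
  map_add' v w := Matrix.mulVec_add _ v w

theorem matAut_apply (M : SL2 p) (v : Fin 2 → ZMod p) : matAut M v = M.1.mulVec v := rfl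

/-- the action of `SL₂(p)` in coordinates -/
noncomputable def phi (e : Multiplicative (Fin 2 → ZMod p) ≃* H) : SL2 p →* MulAut H where
  toFun M := (e.symm.trans (AddEquiv.toMultiplicative (matAut M))).trans e
  map_one' := by
    ext h
    simp [matAut_apply]
  map_mul' M N := by
    ext h
    show e (Multiplicative.ofAdd ((M * N).1.mulVec (Multiplicative.toAdd (e.symm h)))) =
      e (Multiplicative.ofAdd (M.1.mulVec (Multiplicative.toAdd
        (e.symm (e (Multiplicative.ofAdd (N.1.mulVec (Multiplicative.toAdd (e.symm h)))))))))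
    rw [e.symm_apply_apply, toAdd_ofAdd, Matrix.mulVec_mulVec, Matrix.SpecialLinearGroup.coe_mul]

theorem phi_apply (e : Multiplicative (Fin 2 → ZMod p) ≃* H) (M : SL2 p) (v : Fin 2 → ZMod p) :
    phi e M (e (Multiplicative.ofAdd v)) = e (Multiplicative.ofAdd (M.1.mulVec v)) := by
  show e (Multiplicative.ofAdd (M.1.mulVec (Multiplicative.toAdd
    (e.symm (e (Multiplicative.ofAdd v)))))) = _
  rw [e.symm_apply_apply, toAdd_ofAdd]

theorem phi_injective (e : Multiplicative (Fin 2 → ZMod p) ≃* H) : Function.Injective (phi e) := by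
  rw [injective_iff_map_eq_one]
  intro M hM
  apply Subtype.ext
  rw [Matrix.SpecialLinearGroup.coe_one]
  apply Matrix.toLin'.injective
  apply LinearMap.ext
  intro v
  have h1 := phi_apply e M v
  rw [hM] at h1
  have h2 : Multiplicative.ofAdd v = Multiplicative.ofAdd (M.1.mulVec v) := e.injective h1
  have h3 : v = M.1.mulVec v := Multiplicative.ofAdd.injective h2
  simp [Matrix.toLin'_apply, ← h3]

end SL

end Cfsg.Agent.Lead.EssPSq
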