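import Mathlib
import Cfsg.Prelude.Def_Transfer
import Cfsg.Agent.Helper1.PGroup
import Cfsg.Agent.Helper5.FrattiniLe

set_option autoImplicit false

/-!
A non-commutative group of order `p³` is extraspecial.
-/

namespace Cfsg.Agent.Lead.PCubeExtra

open Cfsg

universe u

variable {P : Type u} [Group P] [Finite P] {p : ℕ} [hp : Fact p.Prime]

theorem card_center_of_card_cube (hcard : Nat.card P = p ^ 3) (hnc : ∃ a b : P, a * b ≠ b * a) :
    Nat.card (Subgroup.center P) = p := by
  have hP : IsPGroup p P := IsPGroup.of_card hcard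
  haveI : Nontrivial P := by
    obtain ⟨a, b, hab⟩ := hnc
    exact ⟨⟨a * b, b * a, hab⟩⟩
  have hnt : Nontrivial (Subgroup.center P) := hP.center_nontrivial
  have hdvd : Nat.card (Subgroup.center P) ∣ p ^ 3 := by
    rw [← hcard]; exact Subgroup.card_subgroup_dvd_card _
  obtain ⟨k, hk3, hk⟩ := (Nat.dvd_prime_pow hp.out).1 hdvd
  have hk0 : k ≠ 0 := by
    rintro rfl
    rw [pow_zero] at hk
    have := (Nat.card_eq_one_iff_unique.1 hk).1
    exact not_subsingleton _ this
  have hk3' : k ≠ 3 := by
    rintro rfl
    have htop : Subgroup.center P = ⊤ := by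
      rw [← Subgroup.card_eq_iff_eq_top, hk, hcard]
    obtain ⟨a, b, hab⟩ := hnc
    apply hab
    have : a ∈ Subgroup.center P := by rw [htop]; exact Subgroup.mem_top a
    exact ((Subgroup.mem_center_iff.1 this) b).symm
  have hk2 : k ≠ 2 := by
    rintro rfl
    have hidx : (Subgroup.center P).index = p := by
      have := Subgroup.card_mul_index (Subgroup.center P)
      rw [hk, hcard] at this
      have h3 : p ^ 3 = p ^ 2 * p := by ring
      rw [h3] at this
      exact Nat.eq_of_mul_eq_mul_left (pow_pos hp.out.pos 2) this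
    have hq : Nat.card (P ⧸ Subgroup.center P) = p := by
      rw [← Subgroup.index_eq_card]; exact hidx
    haveI : IsCyclic (P ⧸ Subgroup.center P) := isCyclic_of_prime_card hq
    obtain ⟨a, b, hab⟩ := hnc
    apply hab
    have hker : (QuotientGroup.mk' (Subgroup.center P)).ker ≤ Subgroup.center P := by
      rw [QuotientGroup.ker_mk']
    exact ((QuotientGroup.mk' (Subgroup.center P)).isMulCommutative_of_isCyclic_of_ker_le_center
      hker).is_comm.comm a b
  have : k = 1 := by omega
  rw [hk, this, pow_one]

theorem pow_mem_center_of_card_cube (hcard : Nat.card P = p ^ 3) (hnc : ∃ a b : P, a * b ≠ b * a)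
    (x : P) : x ^ p ∈ Subgroup.center P := by
  have hZ := card_center_of_card_cube hcard hnc
  have hq : Nat.card (P ⧸ Subgroup.center P) = p ^ 2 := by
    rw [← Subgroup.index_eq_card]
    have := Subgroup.card_mul_index (Subgroup.center P)
    rw [hZ, hcard] at this
    have h3 : p ^ 3 = p * p ^ 2 := by ring
    rw [h3] at this
    exact Nat.eq_of_mul_eq_mul_left hp.out.pos this
  rw [← QuotientGroup.eq_one_iff, QuotientGroup.mk_pow]
  have hdvd : orderOf (x : P ⧸ Subgroup.center P) ∣ p ^ 2 := by
    rw [← hq]; exact orderOf_dvd_natCard _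
  obtain ⟨k, hk2, hk⟩ := (Nat.dvd_prime_pow hp.out).1 hdvd
  have hk2' : k ≠ 2 := by
    rintro rfl
    haveI : IsCyclic (P ⧸ Subgroup.center P) :=
      isCyclic_of_orderOf_eq_card (x : P ⧸ Subgroup.center P) (by rw [hk, hq])
    obtain ⟨a, b, hab⟩ := hnc
    apply hab
    have hker : (QuotientGroup.mk' (Subgroup.center P)).ker ≤ Subgroup.center P := by
      rw [QuotientGroup.ker_mk']
    exact ((QuotientGroup.mk' (Subgroup.center P)).isMulCommutative_of_isCyclic_of_ker_le_center
      hker).is_comm.comm a b
  have hk1 : k ≤ 1 := by omega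
  apply orderOf_dvd_iff_pow_eq_one.1
  rw [hk]
  calc p ^ k ∣ p ^ 1 := pow_dvd_pow p hk1
    _ = p := pow_one p

theorem commutator_le_center_of_card_cube (hcard : Nat.card P = p ^ 3)
    (hnc : ∃ a b : P, a * b ≠ b * a) : commutator P ≤ Subgroup.center P := by
  have hZ := card_center_of_card_cube hcard hnc
  have hq : Nat.card (P ⧸ Subgroup.center P) = p ^ 2 := by
    rw [← Subgroup.index_eq_card]
    have := Subgroup.card_mul_index (Subgroup.center P)
    rw [hZ, hcard] at this
    have h3 : p ^ 3 = p * p ^ 2 := by ring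
    rw [h3] at this
    exact Nat.eq_of_mul_eq_mul_left hp.out.pos this
  rw [← Subgroup.Normal.quotient_commutative_iff_commutator_le]
  exact IsPGroup.isMulCommutative_of_card_eq_prime_sq hq

theorem isExtraspecial_of_card_cube (hcard : Nat.card P = p ^ 3) (hnc : ∃ a b : P, a * b ≠ b * a) :
    IsExtraspecial p P := by
  have hP : IsPGroup p P := IsPGroup.of_card hcard
  have hZ := card_center_of_card_cube hcard hnc
  have hcz := commutator_le_center_of_card_cube hcard hnc
  haveI : Fact (Nat.card (Subgroup.center P)).Prime := ⟨hZ ▸ hp.out⟩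
  have hcomm : commutator P = Subgroup.center P := by
    have hne : commutator P ≠ ⊥ := by
      intro h
      rw [commutator_eq_bot_iff_center_eq_top] at h
      obtain ⟨a, b, hab⟩ := hnc
      apply hab
      have : a ∈ Subgroup.center P := by rw [h]; exact Subgroup.mem_top a
      exact ((Subgroup.mem_center_iff.1 this) b).symm
    have h1 : (commutator P).subgroupOf (Subgroup.center P) = ⊤ := by
      rcases Subgroup.eq_bot_or_eq_top_of_prime_card ((commutator P).subgroupOf (Subgroup.center P))
        with h | h
      · exfalso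
        apply hne
        rw [Subgroup.subgroupOf_eq_bot] at h
        rw [← inf_eq_left.2 hcz]
        exact disjoint_iff.1 h
      · exact h
    rw [Subgroup.subgroupOf_eq_top] at h1
    exact le_antisymm hcz h1
  refine ⟨⟨hP, ?_, hcomm⟩, hZ⟩
  apply le_antisymm
  · apply Cfsg.Agent.Helper5.frattini_le_of_forall (p := p)
    · exact pow_mem_center_of_card_cube hcard hnc
    · intro x y
      apply hcz
      rw [commutator_def, ← commutatorElement_def]
      exact Subgroup.commutator_mem_commutator (Subgroup.mem_top _) (Subgroup.mem_top _)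
  · rw [← hcomm]
    exact Cfsg.Agent.Helper1.IsPGroup.commutator_le_frattini hP

end Cfsg.Agent.Lead.PCubeExtra
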