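import Mathlib
import Cfsg.Prelude.Def_Transfer
import Cfsg.Prelude.Def_PLocal
import Cfsg.Agent.Lead.PCubeExtra
import Cfsg.Agent.Helper7.LinearCard

set_option autoImplicit false

/-!
The upper unitriangular subgroup of `SL₃(p)` is a Sylow `p`-subgroup of `Qd(p)`.
-/

namespace Cfsg.Agent.Lead.Qd

open Cfsg

variable (p : ℕ) [hp : Fact p.Prime]

abbrev SL3 := Matrix.SpecialLinearGroup (Fin 3) (ZMod p)

/-- the upper unitriangular subgroup of `SL₃(ZMod p)` -/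
def U : Subgroup (SL3 p) where
  carrier := {M | (M : Matrix (Fin 3) (Fin 3) (ZMod p)) 1 0 = 0 ∧
    (M : Matrix (Fin 3) (Fin 3) (ZMod p)) 2 0 = 0 ∧ (M : Matrix (Fin 3) (Fin 3) (ZMod p)) 2 1 = 0 ∧
    (M : Matrix (Fin 3) (Fin 3) (ZMod p)) 0 0 = 1 ∧ (M : Matrix (Fin 3) (Fin 3) (ZMod p)) 1 1 = 1 ∧
    (M : Matrix (Fin 3) (Fin 3) (ZMod p)) 2 2 = 1}
  mul_mem' := by
    rintro A B ⟨a1, a2, a3, a4, a5, a6⟩ ⟨b1, b2, b3, b4, b5, b6⟩
    simp only [Set.mem_ofPred_eq, Matrix.SpecialLinearGroup.coe_mul, Matrix.mul_apply,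
      Fin.sum_univ_three]
    simp [a1, a2, a3, a4, a5, a6, b1, b2, b3, b4, b5, b6]
  one_mem' := by simp
  inv_mem' := by
    rintro A ⟨a1, a2, a3, a4, a5, a6⟩
    simp only [Set.mem_ofPred_eq, Matrix.SpecialLinearGroup.coe_inv, Matrix.adjugate_fin_three]
    simp [a1, a2, a3, a4, a5, a6]

theorem mem_U (M : SL3 p) : M ∈ U p ↔ (M : Matrix (Fin 3) (Fin 3) (ZMod p)) 1 0 = 0 ∧
    (M : Matrix (Fin 3) (Fin 3) (ZMod p)) 2 0 = 0 ∧ (M : Matrix (Fin 3) (Fin 3) (ZMod p)) 2 1 = 0 ∧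
    (M : Matrix (Fin 3) (Fin 3) (ZMod p)) 0 0 = 1 ∧ (M : Matrix (Fin 3) (Fin 3) (ZMod p)) 1 1 = 1 ∧
    (M : Matrix (Fin 3) (Fin 3) (ZMod p)) 2 2 = 1 := Iff.rfl

theorem U_le_qd : U p ≤ Cfsg.qd p := by
  intro M hM
  apply Subgroup.subset_closure
  exact ⟨hM.2.1, hM.2.2.1, hM.2.2.2.2.2⟩

/-- the unitriangular matrix with given entries -/
def um (a c b : ZMod p) : SL3 p := ⟨!![1, a, c; 0, 1, b; 0, 0, 1], by simp [Matrix.det_fin_three]⟩

theorem um_mem (a c b : ZMod p) : um p a c b ∈ U p := by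
  rw [mem_U]
  simp [um]

theorem um_val (a c b : ZMod p) :
    ((um p a c b : SL3 p) : Matrix (Fin 3) (Fin 3) (ZMod p)) = !![1, a, c; 0, 1, b; 0, 0, 1] := rfl

theorem eq_um {M : SL3 p} (hM : M ∈ U p) :
    M = um p ((M : Matrix (Fin 3) (Fin 3) (ZMod p)) 0 1) ((M : Matrix (Fin 3) (Fin 3) (ZMod p)) 0 2)
      ((M : Matrix (Fin 3) (Fin 3) (ZMod p)) 1 2) := by
  obtain ⟨a1, a2, a3, a4, a5, a6⟩ := hM
  apply Subtype.ext
  rw [um_val]
  ext i j
  fin_cases i <;> fin_cases j <;> simp [a1, a2, a3, a4, a5, a6]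

/-- coordinates on `U` -/
def coordEquiv : U p ≃ ZMod p × ZMod p × ZMod p where
  toFun M := ((M.1 : Matrix (Fin 3) (Fin 3) (ZMod p)) 0 1,
    (M.1 : Matrix (Fin 3) (Fin 3) (ZMod p)) 0 2, (M.1 : Matrix (Fin 3) (Fin 3) (ZMod p)) 1 2)
  invFun t := ⟨um p t.1 t.2.1 t.2.2, um_mem p _ _ _⟩
  left_inv M := by
    apply Subtype.ext
    exact (eq_um p M.2).symm
  right_inv t := by
    obtain ⟨a, c, b⟩ := t
    simp [um_val]

theorem card_U : Nat.card (U p) = p ^ 3 := by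
  rw [Nat.card_congr (coordEquiv p), Nat.card_prod, Nat.card_prod, Nat.card_zmod]
  ring

theorem um_mul (a c b a' c' b' : ZMod p) :
    um p a c b * um p a' c' b' = um p (a + a') (c + c' + a * b') (b + b') := by
  apply Subtype.ext
  rw [Matrix.SpecialLinearGroup.coe_mul, um_val, um_val, um_val]
  ext i j
  fin_cases i <;> fin_cases j <;> simp [Matrix.mul_apply, Fin.sum_univ_three] <;> ring

theorem um_inj {a c b a' c' b' : ZMod p} (h : um p a c b = um p a' c' b') :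
    a = a' ∧ c = c' ∧ b = b' := by
  have h1 := congrArg (fun M : SL3 p => (M : Matrix (Fin 3) (Fin 3) (ZMod p))) h
  simp only [um_val] at h1
  refine ⟨?_, ?_, ?_⟩
  · simpa using congrFun (congrFun h1 0) 1
  · simpa using congrFun (congrFun h1 0) 2
  · simpa using congrFun (congrFun h1 1) 2

theorem um_one : um p 0 0 0 = 1 := by
  apply Subtype.ext
  rw [um_val, Matrix.SpecialLinearGroup.coe_one]
  ext i j
  fin_cases i <;> fin_cases j <;> simp

theorem not_comm : ∃ x y : U p, x * y ≠ y * x := by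
  refine ⟨⟨um p 1 0 0, um_mem p _ _ _⟩, ⟨um p 0 0 1, um_mem p _ _ _⟩, ?_⟩
  intro h
  have h1 := congrArg Subtype.val h
  simp only [Subgroup.coe_mul, um_mul] at h1
  have h2 := (um_inj p h1).2.1
  haveI : Fact (1 < p) := ⟨hp.out.one_lt⟩
  simp at h2

theorem um_pow (a c b : ZMod p) (n : ℕ) :
    um p a c b ^ n = um p (n * a) (n * c + (n * (n - 1) / 2 : ℕ) * (a * b)) (n * b) := by
  induction n with
  | zero => simp [um_one]
  | succ n ih =>
    rw [pow_succ, ih, um_mul]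
    congr 1
    · push_cast; ring
    · have h2 : ((n + 1) * (n + 1 - 1) / 2 : ℕ) = n * (n - 1) / 2 + n := by
        rcases n with _ | n
        · simp
        · have h3 : (n + 1 + 1) * (n + 1 + 1 - 1) = (n + 1) * (n + 1 - 1) + 2 * (n + 1) := by
            simp only [Nat.add_sub_cancel]; ring
          rw [h3, Nat.add_mul_div_left _ _ (by norm_num : 0 < 2)]
      rw [h2]
      push_cast; ring
    · push_cast; ring

theorem pow_p_of_mem_U (hp2 : p ≠ 2) {M : SL3 p} (hM : M ∈ U p) : M ^ p = 1 := by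
  rw [eq_um p hM, um_pow]
  have h1 : ((p : ℕ) : ZMod p) = 0 := ZMod.natCast_self p
  have h2 : ((p * (p - 1) / 2 : ℕ) : ZMod p) = 0 := by
    have hodd : Odd p := hp.out.odd_of_ne_two hp2
    obtain ⟨k, hk⟩ := hodd
    have h3 : p * (p - 1) / 2 = p * k := by
      have : p - 1 = 2 * k := by omega
      rw [this, ← mul_assoc, mul_comm p 2, mul_assoc, Nat.mul_div_cancel_left _ (by norm_num : 0 < 2)]
    rw [h3]
    push_cast
    rw [h1, zero_mul]
  rw [h1, h2]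
  simp [um_one]

end Cfsg.Agent.Lead.Qd
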