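import Mathlib
import Cfsg.Agent.Lead.QdSylow

set_option autoImplicit false

/-!
Sylow `p`-subgroups of `Qd(p)` are extraspecial of order `p³` and exponent `p`.
-/

namespace Cfsg.Agent.Lead.Qd

open Cfsg

variable (p : ℕ) [hp : Fact p.Prime]

theorem not_dvd_pow_sub_one (k : ℕ) (hk : 1 ≤ k) : ¬ p ∣ p ^ k - 1 := by
  intro h
  have h1 : p ∣ p ^ k := dvd_pow_self p (by omega)
  have h2 : 1 ≤ p ^ k := Nat.one_le_pow _ _ hp.out.pos
  have h3 : p ∣ p ^ k - (p ^ k - 1) := Nat.dvd_sub h1 h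
  have h4 : p ^ k - (p ^ k - 1) = 1 := by omega
  rw [h4] at h3
  exact hp.out.one_lt.ne' (Nat.dvd_one.1 h3)

theorem not_pow_four_dvd_card_SL3 : ¬ p ^ 4 ∣ Nat.card (SL3 p) := by
  intro h
  have h1 := Cfsg.Agent.Helper7.card_units_mul_card_SL (n := Fin 3) (F := ZMod p)
  rw [Matrix.card_GL_field, ZMod.card, Fin.prod_univ_three] at h1
  simp only [Fin.val_zero, Fin.val_one, Fin.val_two, pow_zero, pow_one] at h1
  have h2 : p ^ 4 ∣ (p ^ 3 - 1) * (p ^ 3 - p) * (p ^ 3 - p ^ 2) := by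
    rw [← h1]
    exact Dvd.dvd.mul_left h _
  have e1 : p ^ 3 - p = p * (p ^ 2 - 1) := by
    rw [Nat.mul_sub, mul_one]; ring_nf
  have e2 : p ^ 3 - p ^ 2 = p ^ 2 * (p - 1) := by
    rw [Nat.mul_sub, mul_one]; ring_nf
  rw [e1, e2] at h2
  have e3 : (p ^ 3 - 1) * (p * (p ^ 2 - 1)) * (p ^ 2 * (p - 1)) =
      p ^ 3 * ((p ^ 3 - 1) * (p ^ 2 - 1) * (p - 1)) := by ring
  rw [e3, show p ^ 4 = p ^ 3 * p by ring] at h2
  have h3 : p ∣ (p ^ 3 - 1) * (p ^ 2 - 1) * (p - 1) :=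
    Nat.dvd_of_mul_dvd_mul_left (pow_pos hp.out.pos 3) h2
  rcases (Nat.Prime.dvd_mul hp.out).1 h3 with h4 | h4
  · rcases (Nat.Prime.dvd_mul hp.out).1 h4 with h5 | h5
    · exact not_dvd_pow_sub_one p 3 (by norm_num) h5
    · exact not_dvd_pow_sub_one p 2 (by norm_num) h5
  · have := not_dvd_pow_sub_one p 1 (by norm_num)
    rw [pow_one] at this
    exact this h4

theorem factorization_card_qd : (Nat.card (Cfsg.qd p)).factorization p = 3 := by
  have h1 : p ^ 3 ∣ Nat.card (Cfsg.qd p) := by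
    rw [← card_U p]
    exact Subgroup.card_dvd_of_le (U_le_qd p)
  have h2 : ¬ p ^ 4 ∣ Nat.card (Cfsg.qd p) := by
    intro h
    exact not_pow_four_dvd_card_SL3 p (h.trans (Subgroup.card_subgroup_dvd_card _))
  have h3 := (Nat.Prime.pow_dvd_iff_le_factorization hp.out Nat.card_pos.ne').1 h1
  have h4 : ¬ 4 ≤ (Nat.card (Cfsg.qd p)).factorization p := fun h =>
    h2 ((Nat.Prime.pow_dvd_iff_le_factorization hp.out Nat.card_pos.ne').2 h)
  omega

/-- the unitriangular group as a Sylow subgroup of `Qd(p)` -/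
noncomputable def sylU : Sylow p (Cfsg.qd p) :=
  Sylow.ofCard ((U p).subgroupOf (Cfsg.qd p)) (by
    rw [Nat.card_congr (Subgroup.subgroupOfEquivOfLe (U_le_qd p)).toEquiv, card_U,
      factorization_card_qd])

/-- every Sylow subgroup of `Qd(p)` is isomorphic to `U` -/
noncomputable def sylEquiv (P : Sylow p (Cfsg.qd p)) : ↥P ≃* U p :=
  (Sylow.equiv P (sylU p)).trans (Subgroup.subgroupOfEquivOfLe (U_le_qd p))

theorem main (hp2 : p ≠ 2) (P : Sylow p ↥(Cfsg.qd p)) :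
    Cfsg.IsExtraspecial p ↥P ∧ Nat.card P = p ^ 3 ∧ Monoid.exponent ↥P = p := by
  have hcard : Nat.card P = p ^ 3 := by
    have := Nat.card_congr (sylEquiv p P).toEquiv
    rw [card_U] at this
    exact this
  have hnc : ∃ a b : ↥P, a * b ≠ b * a := by
    obtain ⟨x, y, hxy⟩ := not_comm p
    refine ⟨(sylEquiv p P).symm x, (sylEquiv p P).symm y, ?_⟩
    intro h
    apply hxy
    rw [← map_mul, ← map_mul] at h
    exact (sylEquiv p P).symm.injective h
  refine ⟨Cfsg.Agent.Lead.PCubeExtra.isExtraspecial_of_card_cube hcard hnc, hcard, ?_⟩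
  rw [Monoid.exponent_eq_of_mulEquiv (sylEquiv p P)]
  have h1 : Monoid.exponent (U p) ∣ p := by
    apply Monoid.exponent_dvd_of_forall_pow_eq_one
    intro g
    apply Subtype.ext
    rw [Subgroup.coe_pow]
    exact pow_p_of_mem_U p hp2 g.2
  rcases (Nat.dvd_prime hp.out).1 h1 with h | h
  · exfalso
    rw [Monoid.exp_eq_one_iff] at h
    obtain ⟨x, y, hxy⟩ := not_comm p
    exact hxy (Subsingleton.elim _ _)
  · exact h

end Cfsg.Agent.Lead.Qd
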