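import Mathlib
import Cfsg.Prelude.Def_PLocal
import Cfsg.Agent.Lead.QdSylow2
import Cfsg.Agent.Lead.EssPSq

set_option autoImplicit false

/-!
The structure of `Qd(p)`: explicit membership, the projection onto `SL₂(p)`, translations.
-/

namespace Cfsg.Agent.Lead.Qd

open Cfsg

variable (p : ℕ) [hp : Fact p.Prime]

abbrev SL2 := Matrix.SpecialLinearGroup (Fin 2) (ZMod p)

/-- the affine matrices, as a subgroup -/
def aff : Subgroup (SL3 p) where
  carrier := {M | (M : Matrix (Fin 3) (Fin 3) (ZMod p)) 2 0 = 0 ∧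
    (M : Matrix (Fin 3) (Fin 3) (ZMod p)) 2 1 = 0 ∧ (M : Matrix (Fin 3) (Fin 3) (ZMod p)) 2 2 = 1}
  mul_mem' := by
    rintro A B ⟨a1, a2, a3⟩ ⟨b1, b2, b3⟩
    simp only [Set.mem_ofPred_eq, Matrix.SpecialLinearGroup.coe_mul, Matrix.mul_apply,
      Fin.sum_univ_three]
    simp [a1, a2, a3, b1, b2, b3]
  one_mem' := by simp
  inv_mem' := by
    rintro A ⟨a1, a2, a3⟩
    have hdet := A.2
    rw [Matrix.det_fin_three] at hdet
    simp only [a1, a2, a3] at hdet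
    simp only [Set.mem_ofPred_eq, Matrix.SpecialLinearGroup.coe_inv, Matrix.adjugate_fin_three]
    simp [a1, a2, a3]
    linear_combination hdet

theorem qd_eq_aff : Cfsg.qd p = aff p := by
  apply le_antisymm
  · rw [Cfsg.qd, Subgroup.closure_le]
    intro M hM
    exact hM
  · intro M hM
    exact Subgroup.subset_closure hM

theorem mem_qd (M : SL3 p) : M ∈ Cfsg.qd p ↔ (M : Matrix (Fin 3) (Fin 3) (ZMod p)) 2 0 = 0 ∧
    (M : Matrix (Fin 3) (Fin 3) (ZMod p)) 2 1 = 0 ∧ (M : Matrix (Fin 3) (Fin 3) (ZMod p)) 2 2 = 1 := by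
  rw [qd_eq_aff]; rfl


/-- the affine matrix with linear part `A` and translation part `v` -/
def mk3 (A : SL2 p) (v : Fin 2 → ZMod p) : SL3 p :=
  ⟨!![A.1 0 0, A.1 0 1, v 0; A.1 1 0, A.1 1 1, v 1; 0, 0, 1], by
    have h := A.2
    rw [Matrix.det_fin_two] at h
    rw [Matrix.det_fin_three]
    simp
    linear_combination h⟩

theorem mk3_val (A : SL2 p) (v : Fin 2 → ZMod p) :
    ((mk3 p A v : SL3 p) : Matrix (Fin 3) (Fin 3) (ZMod p)) =
      !![A.1 0 0, A.1 0 1, v 0; A.1 1 0, A.1 1 1, v 1; 0, 0, 1] := rfl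

theorem mk3_mem (A : SL2 p) (v : Fin 2 → ZMod p) : mk3 p A v ∈ Cfsg.qd p := by
  rw [mem_qd, mk3_val]
  simp

/-- the element of `Qd(p)` with linear part `A` and translation part `v` -/
def mkq (A : SL2 p) (v : Fin 2 → ZMod p) : ↥(Cfsg.qd p) := ⟨mk3 p A v, mk3_mem p A v⟩

/-- the linear part -/
def blk (g : ↥(Cfsg.qd p)) : SL2 p :=
  ⟨!![(g.1 : Matrix (Fin 3) (Fin 3) (ZMod p)) 0 0, (g.1 : Matrix (Fin 3) (Fin 3) (ZMod p)) 0 1;
      (g.1 : Matrix (Fin 3) (Fin 3) (ZMod p)) 1 0, (g.1 : Matrix (Fin 3) (Fin 3) (ZMod p)) 1 1], by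
    obtain ⟨a1, a2, a3⟩ := (mem_qd p g.1).1 g.2
    have hdet := g.1.2
    rw [Matrix.det_fin_three] at hdet
    simp only [a1, a2, a3] at hdet
    rw [Matrix.det_fin_two]
    simp
    linear_combination hdet⟩

/-- the translation part -/
def vec (g : ↥(Cfsg.qd p)) : Fin 2 → ZMod p :=
  ![(g.1 : Matrix (Fin 3) (Fin 3) (ZMod p)) 0 2, (g.1 : Matrix (Fin 3) (Fin 3) (ZMod p)) 1 2]

theorem mkq_blk_vec (g : ↥(Cfsg.qd p)) : mkq p (blk p g) (vec p g) = g := by
  obtain ⟨a1, a2, a3⟩ := (mem_qd p g.1).1 g.2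
  apply Subtype.ext
  apply Subtype.ext
  show ((mk3 p (blk p g) (vec p g) : SL3 p) : Matrix (Fin 3) (Fin 3) (ZMod p)) = _
  rw [mk3_val]
  ext i j
  fin_cases i <;> fin_cases j <;> simp [blk, vec, a1, a2, a3]

theorem blk_mkq (A : SL2 p) (v : Fin 2 → ZMod p) : blk p (mkq p A v) = A := by
  apply Subtype.ext
  ext i j
  fin_cases i <;> fin_cases j <;> simp [blk, mkq, mk3_val]

theorem vec_mkq (A : SL2 p) (v : Fin 2 → ZMod p) : vec p (mkq p A v) = v := by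
  ext i
  fin_cases i <;> simp [vec, mkq, mk3_val]

theorem mkq_mul (A B : SL2 p) (v w : Fin 2 → ZMod p) :
    mkq p A v * mkq p B w = mkq p (A * B) (A.1.mulVec w + v) := by
  apply Subtype.ext
  apply Subtype.ext
  show ((mk3 p A v * mk3 p B w : SL3 p) : Matrix (Fin 3) (Fin 3) (ZMod p)) =
    ((mk3 p (A * B) (A.1.mulVec w + v) : SL3 p) : Matrix (Fin 3) (Fin 3) (ZMod p))
  rw [Matrix.SpecialLinearGroup.coe_mul, mk3_val, mk3_val, mk3_val]
  ext i j
  fin_cases i <;> fin_cases j <;>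
    simp [Matrix.mul_apply, Fin.sum_univ_three, Fin.sum_univ_two, Matrix.mulVec, dotProduct]

theorem mkq_one : mkq p 1 0 = 1 := by
  apply Subtype.ext
  apply Subtype.ext
  show ((mk3 p 1 0 : SL3 p) : Matrix (Fin 3) (Fin 3) (ZMod p)) = _
  rw [mk3_val]
  ext i j
  fin_cases i <;> fin_cases j <;> simp

theorem mkq_inj {A B : SL2 p} {v w : Fin 2 → ZMod p} (h : mkq p A v = mkq p B w) : A = B ∧ v = w := by
  constructor
  · rw [← blk_mkq p A v, h, blk_mkq]
  · rw [← vec_mkq p A v, h, vec_mkq]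

theorem mkq_inv (A : SL2 p) (v : Fin 2 → ZMod p) :
    (mkq p A v)⁻¹ = mkq p A⁻¹ (-(A⁻¹.1.mulVec v)) := by
  rw [inv_eq_iff_mul_eq_one, mkq_mul, mul_inv_cancel]
  have : A.1.mulVec (-(A⁻¹.1.mulVec v)) + v = 0 := by
    rw [Matrix.mulVec_neg, Matrix.mulVec_mulVec, ← Matrix.SpecialLinearGroup.coe_mul,
      mul_inv_cancel, Matrix.SpecialLinearGroup.coe_one, Matrix.one_mulVec, neg_add_cancel]
  rw [this, mkq_one]

/-- the projection onto `SL₂(p)` -/
def proj : ↥(Cfsg.qd p) →* SL2 p where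
  toFun := blk p
  map_one' := by
    rw [← mkq_one p, blk_mkq]
  map_mul' g h := by
    rw [← mkq_blk_vec p g, ← mkq_blk_vec p h, mkq_mul, blk_mkq, blk_mkq, blk_mkq]

theorem proj_mkq (A : SL2 p) (v : Fin 2 → ZMod p) : proj p (mkq p A v) = A := blk_mkq p A v

theorem proj_surjective : Function.Surjective (proj p) := fun A => ⟨mkq p A 0, proj_mkq p A 0⟩

/-- the translation subgroup -/
def V : Subgroup ↥(Cfsg.qd p) := (proj p).ker

instance V_normal : (V p).Normal := MonoidHom.normal_ker _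

theorem mem_V (g : ↥(Cfsg.qd p)) : g ∈ V p ↔ ∃ v, g = mkq p 1 v := by
  rw [V, MonoidHom.mem_ker]
  constructor
  · intro h
    refine ⟨vec p g, ?_⟩
    have : blk p g = 1 := h
    rw [← this, mkq_blk_vec]
  · rintro ⟨v, rfl⟩
    exact proj_mkq p 1 v

theorem conj_mkq_one (A : SL2 p) (w v : Fin 2 → ZMod p) :
    mkq p A w * mkq p 1 v * (mkq p A w)⁻¹ = mkq p 1 (A.1.mulVec v) := by
  rw [mkq_inv, mkq_mul, mkq_mul, mul_one, mul_inv_cancel]
  congr 1
  rw [Matrix.mulVec_neg, Matrix.mulVec_mulVec, ← Matrix.SpecialLinearGroup.coe_mul,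
    mul_inv_cancel, Matrix.SpecialLinearGroup.coe_one, Matrix.one_mulVec]
  abel

end Cfsg.Agent.Lead.Qd
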