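import Mathlib
import Cfsg.Prelude.Def_PLocal
import Cfsg.Agent.Lead.Ab2Quad

set_option autoImplicit false

/-!
Consequences of `p`-stability for groups with abelian Sylow `2`-subgroups.
-/

namespace Cfsg.Agent.Lead
namespace Ab2GL2

universe u
open scoped commutatorElement Pointwise
open Cfsg.Agent.Helper2 (cj)
open Cfsg.Agent.Helper1 Cfsg.Agent.Helper1.OddGL2

theorem quadConj {X : Type*} [Group X] (V : Subgroup X) (a g : X)
    (hg : g ∈ Subgroup.normalizer (V : Set X))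
    (hq : ⁅⁅V, Subgroup.zpowers a⁆, Subgroup.zpowers a⁆ = ⊥) :
    ⁅⁅V, Subgroup.zpowers (g * a * g⁻¹)⁆, Subgroup.zpowers (g * a * g⁻¹)⁆ = ⊥ := by
  have h1 : V.map (MulAut.conj g).toMonoidHom = V := by
    ext x
    constructor
    · rintro ⟨v, hv, rfl⟩
      exact (Subgroup.mem_normalizer_iff.1 hg v).1 hv
    · intro hx
      refine ⟨g⁻¹ * x * g, ?_, ?_⟩
      · rw [SetLike.mem_coe, Subgroup.mem_normalizer_iff.1 hg (g⁻¹ * x * g)]
        have : g * (g⁻¹ * x * g) * g⁻¹ = x := by group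
        rw [this]; exact hx
      · show g * (g⁻¹ * x * g) * g⁻¹ = x
        group
  have h2 : (Subgroup.zpowers a).map (MulAut.conj g).toMonoidHom =
      Subgroup.zpowers (g * a * g⁻¹) := by
    rw [MonoidHom.map_zpowers]; rfl
  have h3 := congrArg (Subgroup.map (MulAut.conj g).toMonoidHom) hq
  rw [Subgroup.map_commutator, Subgroup.map_commutator, h1, h2, Subgroup.map_bot] at h3
  exact h3

theorem keyG {G : Type*} [Group G] [Finite G] {p : ℕ} [hp : Fact p.Prime] (hp2 : p ≠ 2)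
    (V H : Subgroup G) (hV : Cfsg.IsElementaryAbelian p V)
    (hHV : H ≤ Subgroup.normalizer (V : Set G))
    (hf : H ⊓ Subgroup.centralizer (V : Set G) = ⊥) (a b : G) (ha : a ∈ H) (hb : b ∈ H)
    (hqa : ⁅⁅V, Subgroup.zpowers a⁆, Subgroup.zpowers a⁆ = ⊥)
    (hqb : ⁅⁅V, Subgroup.zpowers b⁆, Subgroup.zpowers b⁆ = ⊥)
    (hab : Ab2 (Subgroup.closure {a, b})) : IsPGroup p (Subgroup.closure {a, b}) := by
  obtain ⟨N, hN⟩ : ∃ N, N = Subgroup.normalizer (V : Set G) := ⟨_, rfl⟩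
  rw [← hN] at hHV
  have hVN : V ≤ N := hN ▸ Subgroup.le_normalizer
  haveI hVn : (V.subgroupOf N).Normal := by
    rw [hN]; exact Subgroup.normal_in_normalizer
  obtain ⟨a', ha'⟩ : ∃ a' : N, a' = ⟨a, hHV ha⟩ := ⟨_, rfl⟩
  obtain ⟨b', hb'⟩ : ∃ b' : N, b' = ⟨b, hHV hb⟩ := ⟨_, rfl⟩
  have hquad : ∀ (c : G) (c' : N), (c' : G) = c →
      ⁅⁅V, Subgroup.zpowers c⁆, Subgroup.zpowers c⁆ = ⊥ →
      ⁅⁅V.subgroupOf N, Subgroup.zpowers c'⁆, Subgroup.zpowers c'⁆ = ⊥ := by
    intro c c' hcc hq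
    rw [← Subgroup.map_eq_bot_iff_of_injective _ (Subgroup.subtype_injective N),
      Subgroup.map_commutator, Subgroup.map_commutator, eq_bot_iff, ← hq]
    have h1 : (V.subgroupOf N).map N.subtype ≤ V := by
      rw [Subgroup.subgroupOf_map_subtype]; exact inf_le_left
    have h2 : (Subgroup.zpowers c').map N.subtype ≤ Subgroup.zpowers c := by
      rw [MonoidHom.map_zpowers, Subgroup.zpowers_le]
      show (c' : G) ∈ _
      rw [hcc]; exact Subgroup.mem_zpowers c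
    exact Subgroup.commutator_mono (Subgroup.commutator_mono h1 h2) h2
  have hqa' := hquad a a' (by rw [ha']) hqa
  have hqb' := hquad b b' (by rw [hb']) hqb
  have hmap : (Subgroup.closure {a', b'}).map N.subtype = Subgroup.closure {a, b} := by
    rw [MonoidHom.map_closure, Set.image_pair, ha', hb']
    rfl
  have hab' : Ab2 (Subgroup.closure {a', b'}) := by
    have hmem : ∀ x : Subgroup.closure {a', b'}, ((x : N) : G) ∈ Subgroup.closure {a, b} := by
      intro x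
      rw [← hmap]
      exact ⟨(x : N), x.2, rfl⟩
    refine hab.of_injective
      ((N.subtype.comp (Subgroup.closure {a', b'}).subtype).codRestrict
        (Subgroup.closure {a, b}) hmem)
      ?_
    intro x y hxy
    have h0 := congrArg Subtype.val hxy
    have h1 : ((x : N) : G) = ((y : N) : G) := h0
    exact Subtype.ext (Subtype.ext h1)
  have hVab : ∀ u ∈ V.subgroupOf N, ∀ v ∈ V.subgroupOf N, u * v = v * u := by
    intro u hu v hv
    apply Subtype.ext
    show (u : G) * (v : G) = (v : G) * (u : G)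
    exact congrArg Subtype.val (hV.1.is_comm.comm ⟨(u : G), hu⟩ ⟨(v : G), hv⟩)
  have hVp : ∀ v ∈ V.subgroupOf N, v ^ p = 1 := by
    intro v hv
    apply Subtype.ext
    exact hV.2 (v : G) hv
  have hclH : Subgroup.closure {a, b} ≤ H := by
    rw [Subgroup.closure_le]
    rintro _ (rfl | rfl)
    · exact ha
    · exact hb
  rintro ⟨d, hd⟩
  have hd0 := hd
  rw [← hmap] at hd0
  obtain ⟨d', hd', hdd⟩ := hd0
  obtain ⟨i, m, hm, him⟩ := Nat.exists_eq_pow_mul_and_not_dvd (orderOf_pos d').ne' p hp.out.ne_one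
  refine ⟨i, ?_⟩
  apply Subtype.ext
  show d ^ (p ^ i) = 1
  have ho : orderOf (d' ^ (p ^ i)) = m := by
    rw [orderOf_pow' d' (pow_ne_zero i hp.out.ne_zero), him, Nat.gcd_mul_right_left,
      Nat.mul_div_cancel_left _ (pow_pos hp.out.pos i)]
  have hcen := centralizesElemAb hp2 (V.subgroupOf N) hVab hVp a' b' hqa' hqb' hab'
    (d' ^ (p ^ i)) (Subgroup.pow_mem _ hd' _)
    (by rw [ho]; exact ((Nat.Prime.coprime_iff_not_dvd hp.out).2 hm).symm)
  have h1 : d ^ (p ^ i) ∈ H ⊓ Subgroup.centralizer (V : Set G) := by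
    refine Subgroup.mem_inf.2 ⟨Subgroup.pow_mem _ (hclH hd) _, ?_⟩
    rw [Subgroup.mem_centralizer_iff]
    intro v hv
    have h2 := (Subgroup.mem_centralizer_iff.1 hcen) ⟨v, hVN hv⟩ (Subgroup.mem_subgroupOf.2 hv)
    have h3 := congrArg (fun z : N => (z : G)) h2
    simp only [Subgroup.coe_mul, Subgroup.coe_pow] at h3
    rw [← hdd]
    exact h3
  rw [hf, Subgroup.mem_bot] at h1
  exact h1

/-- S0593 -/
theorem s0593 {G : Type*} [Group G] [Finite G] {p : ℕ} [Fact p.Prime] (hp : p ≠ 2)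
    (V H : Subgroup G) (hV : Cfsg.IsElementaryAbelian p V)
    (hHV : H ≤ Subgroup.normalizer (V : Set G))
    (hf : H ⊓ Subgroup.centralizer (V : Set G) = ⊥) (a b : G)
    (hab : H = Subgroup.closure {a, b})
    (ha : ⁅⁅V, Subgroup.zpowers a⁆, Subgroup.zpowers a⁆ = ⊥)
    (hb : ⁅⁅V, Subgroup.zpowers b⁆, Subgroup.zpowers b⁆ = ⊥) (hnp : ¬ IsPGroup p H)
    (T : Sylow 2 H) : ¬ IsMulCommutative T := by
  intro hT
  have h2 : Ab2 H := ab2_of_sylow T hT
  subst hab
  apply hnp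
  exact keyG hp V _ hV hHV hf a b (Subgroup.subset_closure (by simp))
    (Subgroup.subset_closure (by simp)) ha hb h2

/-- S0595 -/
theorem s0595 {G : Type*} [Group G] [Finite G] {p : ℕ} [Fact p.Prime] (hp : p ≠ 2)
    (V H : Subgroup G) (hV : Cfsg.IsElementaryAbelian p V)
    (hHV : H ≤ Subgroup.normalizer (V : Set G))
    (hf : H ⊓ Subgroup.centralizer (V : Set G) = ⊥) (a : G) (haH : a ∈ H)
    (hq : ⁅⁅V, Subgroup.zpowers a⁆, Subgroup.zpowers a⁆ = ⊥)
    (hna : a ∉ (Cfsg.pCore p H).map H.subtype) (T : Sylow 2 H) : ¬ IsMulCommutative T := by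
  intro hT
  have h2 : Ab2 H := ab2_of_sylow T hT
  apply hna
  have hpair : ∀ g : H, IsPGroup p (Subgroup.closure {a, (g : G) * a * (g : G)⁻¹}) := by
    intro g
    have hb : (g : G) * a * (g : G)⁻¹ ∈ H := H.mul_mem (H.mul_mem g.2 haH) (H.inv_mem g.2)
    have hle : Subgroup.closure {a, (g : G) * a * (g : G)⁻¹} ≤ H := by
      rw [Subgroup.closure_le]
      rintro _ (rfl | rfl)
      · exact haH
      · exact hb
    exact keyG hp V H hV hHV hf a _ haH hb hq (quadConj V a (g : G) (hHV g.2) hq)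
      (Ab2.of_le hle h2)
  obtain ⟨A, hA⟩ : ∃ A : Subgroup H, A = Subgroup.zpowers (⟨a, haH⟩ : H) := ⟨_, rfl⟩
  have hsub : ∀ g : H, A ⊔ cj g A ≤
      (Subgroup.closure {a, (g : G) * a * (g : G)⁻¹}).comap H.subtype := by
    intro g
    apply sup_le
    · rw [hA, Subgroup.zpowers_le, Subgroup.mem_comap]
      exact Subgroup.subset_closure (by simp)
    · have e1 : cj g A = Subgroup.zpowers (g * ⟨a, haH⟩ * g⁻¹) := by
        show A.map (MulAut.conj g).toMonoidHom = _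
        rw [hA, MonoidHom.map_zpowers]
        rfl
      rw [e1, Subgroup.zpowers_le, Subgroup.mem_comap]
      exact Subgroup.subset_closure (by simp)
  have hpg : ∀ g : H, IsPGroup p ↥(A ⊔ cj g A) := by
    intro g
    rintro ⟨d, hd⟩
    have h1 := hsub g hd
    rw [Subgroup.mem_comap] at h1
    obtain ⟨k, hk⟩ := hpair g ⟨_, h1⟩
    have h5 : (d : G) ^ (p ^ k) = 1 := congrArg Subtype.val hk
    refine ⟨k, ?_⟩
    apply Subtype.ext
    apply Subtype.ext
    simp only [Subgroup.coe_pow, Subgroup.coe_one]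
    exact h5
  have hAp : IsPGroup p A := by
    have h1 := hpg 1
    exact h1.to_le le_sup_left
  obtain ⟨N, hNn, hNp, hle⟩ := Cfsg.Agent.Helper2.baer_suzuki A hAp hpg
  have h3 : (⟨a, haH⟩ : H) ∈ Cfsg.pCore p H :=
    le_pCore hNn hNp (hle (hA ▸ Subgroup.mem_zpowers _))
  exact ⟨⟨a, haH⟩, h3, rfl⟩

theorem sectionAux {X Q : Type*} [Group X] [Group Q] [Finite Q] (π : X →* Q)
    (hπs : Function.Surjective π) (C : Subgroup Q) [hCn : C.Normal] (p : ℕ) [hp : Fact p.Prime]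
    (a : X) (hst : (QuotientGroup.mk (π a) : Q ⧸ C) ∈ Cfsg.pCore p (Q ⧸ C)) :
    ∃ D : Subgroup X, D.Normal ∧ C.comap π ≤ D ∧
      (∃ k : ℕ, (C.comap π).relIndex D = p ^ k) ∧ a ∈ D := by
  obtain ⟨φ, hφ⟩ : ∃ φ : X →* Q ⧸ C, φ = (QuotientGroup.mk' C).comp π := ⟨_, rfl⟩
  have hφs : Function.Surjective φ := by
    rw [hφ]; exact (QuotientGroup.mk'_surjective C).comp hπs
  have hsk' : C.comap π = (⊥ : Subgroup (Q ⧸ C)).comap φ := by
    rw [hφ, ← Subgroup.comap_comap, MonoidHom.comap_bot, QuotientGroup.ker_mk']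
  refine ⟨(Cfsg.pCore p (Q ⧸ C)).comap φ, inferInstance, ?_, ?_, ?_⟩
  · rw [hsk']
    exact Subgroup.comap_mono bot_le
  · obtain ⟨k, hk⟩ := IsPGroup.iff_card.1 (pCore_isPGroup (G := Q ⧸ C) p)
    refine ⟨k, ?_⟩
    rw [hsk', Subgroup.relIndex_comap, Subgroup.map_comap_eq_self_of_surjective hφs,
      Subgroup.relIndex_bot_left, hk]
  · rw [Subgroup.mem_comap, hφ]
    exact hst

theorem isPStableOnSectionAb2 {X : Type u} [Group X] [Finite X] {p : ℕ} [hp : Fact p.Prime]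
    (hp2 : p ≠ 2) (hab : Ab2 X) (K N : Subgroup X) [hKn : K.Normal] [hNn : N.Normal]
    (hK : IsPGroup p K) : Cfsg.IsPStableOnSection p K N := by
  intro a hq
  have hπs : Function.Surjective (QuotientGroup.mk' N) := QuotientGroup.mk'_surjective N
  have habQ : Ab2 (X ⧸ N) := hab.of_surjective _ hπs
  haveI hKπn : (K.map (QuotientGroup.mk' N)).Normal := hKn.map _ hπs
  have hKπp : IsPGroup p (K.map (QuotientGroup.mk' N)) := hK.map _
  have hquad : ⁅⁅K.map (QuotientGroup.mk' N), Subgroup.zpowers ((QuotientGroup.mk' N) a)⁆,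
      Subgroup.zpowers ((QuotientGroup.mk' N) a)⁆ = ⊥ := by
    rw [← MonoidHom.map_zpowers, ← Subgroup.map_commutator, ← Subgroup.map_commutator,
      eq_bot_iff]
    rintro _ ⟨x, hx, rfl⟩
    rw [Subgroup.mem_bot, ← MonoidHom.mem_ker, QuotientGroup.ker_mk']
    exact hq hx
  have hst := isPStableOnAb2 hp2 habQ (K.map (QuotientGroup.mk' N)) hKπp _ hquad
  exact sectionAux (QuotientGroup.mk' N) hπs
    (Subgroup.centralizer ((K.map (QuotientGroup.mk' N) : Subgroup (X ⧸ N)) : Set (X ⧸ N))) p a hst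

/-- S0626 -/
theorem s0626 {G : Type*} [Group G] [Finite G] {p : ℕ} [Fact p.Prime] (hp : p ≠ 2)
    (hab : ∀ T : Sylow 2 G, IsMulCommutative T) : Cfsg.IsActionPStable p G := by
  have h2 : Ab2 G := ab2_of_sylow default (hab default)
  refine ⟨?_, ?_, ?_⟩
  · intro V hVn hV
    apply isPStableOnAb2 hp h2 V
    intro v
    refine ⟨1, ?_⟩
    rw [pow_one]
    exact Subtype.ext (hV.2 v v.2)
  · exact isPStableOnSectionAb2 hp h2 _ _ (pCore_isPGroup p)
  · intro S V hVn hle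
    apply isPStableOnAb2 hp (h2.subgroup _) V
    rintro ⟨x, hx⟩
    have h1 : ((x : G)) ∈ (S : Subgroup G) := by
      have h3 := hle ⟨x, hx, rfl⟩
      exact Subgroup.map_subtype_le _ h3
    obtain ⟨k, hk⟩ := S.2 ⟨_, h1⟩
    have h5 : (x : G) ^ (p ^ k) = 1 := congrArg Subtype.val hk
    refine ⟨k, ?_⟩
    apply Subtype.ext
    apply Subtype.ext
    simp only [Subgroup.coe_pow, Subgroup.coe_one]
    exact h5

end Ab2GL2
end Cfsg.Agent.Lead
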