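import Mathlib
import Cfsg.Agent.Lead.Ab2Lin
import Cfsg.Agent.Lead.DicksonK

set_option autoImplicit false

/-!
Two quadratically acting linear maps on a finite `ZMod p`-module generate a `p`-group, unless
the generated group involves `SL₂(p)`.
-/

namespace Cfsg.Agent.Lead
namespace QuadSL2

open Matrix
open scoped MatrixGroups
open Cfsg.Agent.Lead.DicksonA Cfsg.Agent.Lead.DicksonJ Cfsg.Agent.Lead.DicksonK
open Cfsg.Agent.Lead.Ab2GL2

/-- `D` involves `SL₂(p)`: some subgroup of `D` maps onto `SL₂(ℤ/p)` -/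
def Inv (p : ℕ) (D : Type*) [Group D] : Prop :=
  ∃ (A : Subgroup D) (f : A →* SL(2, ZMod p)), Function.Surjective f

theorem Inv.of_injective {p : ℕ} {D D' : Type*} [Group D] [Group D'] (f : D' →* D)
    (hf : Function.Injective f) (h : Inv p D') : Inv p D := by
  obtain ⟨A, φ, hφ⟩ := h
  exact ⟨A.map f, φ.comp (A.equivMapOfInjective f hf).symm.toMonoidHom,
    hφ.comp (A.equivMapOfInjective f hf).symm.surjective⟩

theorem Inv.of_surjective {p : ℕ} {D D' : Type*} [Group D] [Group D'] (f : D →* D')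
    (hf : Function.Surjective f) (h : Inv p D') : Inv p D := by
  obtain ⟨A, φ, hφ⟩ := h
  exact ⟨A.comap f, φ.comp (f.subgroupComap A),
    hφ.comp (f.subgroupComap_surjective_of_surjective A hf)⟩

theorem Inv.of_le {p : ℕ} {D : Type*} [Group D] {K L : Subgroup D} (hKL : K ≤ L)
    (h : Inv p K) : Inv p L :=
  Inv.of_injective (Subgroup.inclusion hKL) (Subgroup.inclusion_injective hKL) h

theorem Inv.of_subgroup {p : ℕ} {D : Type*} [Group D] (K : Subgroup D) (h : Inv p K) :
    Inv p D :=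
  Inv.of_injective K.subtype K.subtype_injective h

theorem Inv.of_mulEquiv {p : ℕ} {D D' : Type*} [Group D] [Group D'] (e : D' ≃* D)
    (h : Inv p D') : Inv p D :=
  Inv.of_injective e.toMonoidHom e.injective h

/-- a copy of `SL₂(p)` inside gives involvement -/
theorem Inv.of_copy {p : ℕ} {D : Type*} [Group D] (M : Subgroup D)
    (e : M ≃* SL(2, ZMod p)) : Inv p D :=
  ⟨M, e.toMonoidHom, e.surjective⟩

/-- involvement gives a section -/
theorem Inv.exists_section {p : ℕ} {G : Type*} [Group G] (H : Subgroup G) (h : Inv p H) :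
    ∃ (K L : Subgroup G) (hL : (L.subgroupOf K).Normal), K ≤ H ∧
      Nonempty ((K ⧸ L.subgroupOf K) ≃* SL(2, ZMod p)) := by
  obtain ⟨A, φ, hφ⟩ := h
  obtain ⟨K, hK⟩ : ∃ K : Subgroup G, K = A.map H.subtype := ⟨_, rfl⟩
  have e : A ≃* K := by
    rw [hK]; exact A.equivMapOfInjective H.subtype H.subtype_injective
  obtain ⟨ψ, hψ⟩ : ∃ ψ : K →* SL(2, ZMod p), ψ = φ.comp e.symm.toMonoidHom := ⟨_, rfl⟩
  have hψs : Function.Surjective ψ := by
    rw [hψ]; exact hφ.comp e.symm.surjective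
  have hsub : (ψ.ker.map K.subtype).subgroupOf K = ψ.ker := by
    show (ψ.ker.map K.subtype).comap K.subtype = ψ.ker
    exact Subgroup.comap_map_eq_self_of_injective K.subtype_injective _
  have hn : ((ψ.ker.map K.subtype).subgroupOf K).Normal := by
    rw [hsub]; infer_instance
  refine ⟨K, ψ.ker.map K.subtype, hn, ?_, ⟨?_⟩⟩
  · rw [hK]; exact Subgroup.map_subtype_le A
  · exact (QuotientGroup.quotientMulEquivOfEq hsub).trans
      (QuotientGroup.quotientKerEquivOfSurjective ψ hψs)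

theorem transferInv {p : ℕ} {G₁ G₂ : Type*} [Group G₁] [Group G₂] (S : Subgroup (G₁ × G₂))
    (hS : ∀ b : G₂, ((1 : G₁), b) ∈ S → b = 1) (x y : G₁) (X Y : G₂) (hx : (x, X) ∈ S)
    (hy : (y, Y) ∈ S) [Finite (Subgroup.closure {x, y})] :
    Finite (Subgroup.closure {X, Y}) ∧
      (Inv p (Subgroup.closure {X, Y}) → Inv p (Subgroup.closure {x, y})) := by
  obtain ⟨Γ, hΓ⟩ : ∃ Γ : Subgroup (G₁ × G₂), Γ = Subgroup.closure {(x, X), (y, Y)} := ⟨_, rfl⟩
  have hΓS : Γ ≤ S := by
    rw [hΓ, Subgroup.closure_le]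
    rintro _ (rfl | rfl)
    · exact hx
    · exact hy
  have h1 : Γ.map (MonoidHom.fst G₁ G₂) = Subgroup.closure {x, y} := by
    rw [hΓ, MonoidHom.map_closure]
    congr 1
    ext a
    simp [Set.image_pair]
  have h2 : Γ.map (MonoidHom.snd G₁ G₂) = Subgroup.closure {X, Y} := by
    rw [hΓ, MonoidHom.map_closure]
    congr 1
    ext a
    simp [Set.image_pair]
  have hinj : Function.Injective ((MonoidHom.fst G₁ G₂).subgroupMap Γ) := by
    rw [injective_iff_map_eq_one]
    rintro ⟨⟨a, b⟩, hab⟩ h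
    have ha : a = 1 := congrArg Subtype.val h
    subst ha
    have hb := hS b (hΓS hab)
    subst hb
    rfl
  have hfin1 : Finite (Γ.map (MonoidHom.fst G₁ G₂)) := by rw [h1]; infer_instance
  haveI : Finite Γ := Finite.of_injective _ hinj
  have hsurj := (MonoidHom.snd G₁ G₂).subgroupMap_surjective Γ
  rw [← h2, ← h1]
  exact ⟨Finite.of_surjective _ hsurj, fun h =>
    Inv.of_injective _ hinj (Inv.of_surjective _ hsurj h)⟩

section Core

variable {E : Type*} [Field E] [IsAlgClosed E]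

/-- the core theorem of Dickson for general off-diagonal entries -/
theorem core' (p : ℕ) [Fact p.Prime] [CharP E p] (h2 : (2 : E) ≠ 0)
    (L : Subgroup SL(2, E)) [Finite L] (a b : E) (ha : a ≠ 0) (hb : b ≠ 0) (hu : uu a ∈ L)
    (hl : ll b ∈ L) : ∃ M : Subgroup SL(2, E), M ≤ L ∧ Nonempty (M ≃* SL(2, ZMod p)) := by
  obtain ⟨ν, hν⟩ := IsAlgClosed.exists_eq_mul_self (1 / a)
  have hν0 : ν ≠ 0 := by
    rintro rfl
    rw [mul_zero] at hν
    exact one_div_ne_zero ha hν
  obtain ⟨φ, hφdef⟩ : ∃ φ : SL(2, E) →* SL(2, E), φ = (MulAut.conj (hh ν hν0)).toMonoidHom :=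
    ⟨_, rfl⟩
  have hφ : Function.Injective φ := by rw [hφdef]; exact (MulAut.conj (hh ν hν0)).injective
  have hφapp : ∀ g, φ g = hh ν hν0 * g * (hh ν hν0)⁻¹ := by
    intro g; rw [hφdef]; rfl
  have hfin : Finite (L.map φ) := by
    have : Finite L := inferInstance
    exact Finite.of_surjective (fun g : L => (⟨φ g.1, Subgroup.mem_map_of_mem φ g.2⟩ : L.map φ))
      (by rintro ⟨_, g, hg, rfl⟩; exact ⟨⟨g, hg⟩, rfl⟩)
  have hu' : uu 1 ∈ L.map φ := by
    refine ⟨uu a, hu, ?_⟩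
    rw [hφapp, hh_conj_uu]
    congr 1
    rw [pow_two, ← hν]; field_simp
  have hl' : ll (b / ν ^ 2) ∈ L.map φ := by
    refine ⟨ll b, hl, ?_⟩
    rw [hφapp, hh_conj_ll]
  obtain ⟨M, hML, ⟨e⟩⟩ := core p h2 (L.map φ) hu' (b / ν ^ 2)
    (div_ne_zero hb (pow_ne_zero _ hν0)) hl'
  refine ⟨M.comap φ, ?_, ?_⟩
  · intro g hg
    obtain ⟨h, hh', hhg⟩ := hML (Subgroup.mem_comap.1 hg)
    rwa [← hφ hhg]
  · have hrange : M ≤ φ.range := by
      intro m hm
      obtain ⟨h, _, hh'⟩ := hML hm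
      exact ⟨h, hh'⟩
    have h5 : (M.comap φ).map φ = M := Subgroup.map_comap_eq_self hrange
    exact ⟨((M.comap φ).equivMapOfInjective φ hφ).trans ((MulEquiv.subgroupCongr h5).trans e)⟩

end Core

/-- two opposite transvections over a field of odd characteristic `p` generating a finite group
involve `SL₂(p)` -/
theorem two_transvections_inv {E : Type*} [Field E] {p : ℕ} [hp : Fact p.Prime] [CharP E p]
    (hp2 : p ≠ 2) (X Y : GL (Fin 2) E) (c : E) (hc : c ≠ 0)
    (hX : (X : Matrix (Fin 2) (Fin 2) E) = !![1, c; 0, 1])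
    (hY : (Y : Matrix (Fin 2) (Fin 2) E) = !![1, 0; 1, 1])
    [Finite (Subgroup.closure {X, Y})] : Inv p (Subgroup.closure {X, Y}) := by
  have hdet := det_eq_one_of_mem_closure X Y c hX hY
  obtain ⟨ι, hι⟩ : ∃ ι : E →+* AlgebraicClosure E, ι = algebraMap E (AlgebraicClosure E) :=
    ⟨_, rfl⟩
  have hchar : CharP (AlgebraicClosure E) p :=
    charP_of_injective_algebraMap (algebraMap E (AlgebraicClosure E)).injective p
  have h2 : (2 : AlgebraicClosure E) ≠ 0 := by
    intro h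
    have h3 : ((2 : ℕ) : AlgebraicClosure E) = 0 := by exact_mod_cast h
    rw [CharP.cast_eq_zero_iff (AlgebraicClosure E) p] at h3
    exact hp2 ((Nat.prime_dvd_prime_iff_eq hp.out Nat.prime_two).1 h3)
  -- the homomorphism to `SL₂` of the algebraic closure
  let f : Subgroup.closure {X, Y} → SL(2, AlgebraicClosure E) := fun g =>
    (⟨ι.mapMatrix ((g.1 : GL (Fin 2) E) : Matrix (Fin 2) (Fin 2) E), by
        rw [← RingHom.map_det, hdet g.1 g.2, map_one]⟩ : SL(2, AlgebraicClosure E))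
  have hfe : ∀ (g : Subgroup.closure {X, Y}) (i j : Fin 2),
      (f g).1 i j = ι (((g.1 : GL (Fin 2) E) : Matrix (Fin 2) (Fin 2) E) i j) :=
    fun _ _ _ => rfl
  have hfmul : ∀ g h, f (g * h) = f g * f h := by
    intro g h
    apply ext4 <;>
      simp only [mul_00, mul_01, mul_10, mul_11, hfe, Subgroup.coe_mul, Units.val_mul,
        Matrix.mul_apply, Fin.sum_univ_two, map_add, map_mul]
  let ψ : Subgroup.closure {X, Y} →* SL(2, AlgebraicClosure E) := MonoidHom.mk' f hfmul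
  have hψe : ∀ (g : Subgroup.closure {X, Y}) (i j : Fin 2),
      (ψ g).1 i j = ι (((g.1 : GL (Fin 2) E) : Matrix (Fin 2) (Fin 2) E) i j) :=
    fun _ _ _ => rfl
  have hψX : ψ ⟨X, Subgroup.subset_closure (by simp)⟩ = uu (ι c) := by
    apply ext4 <;> rw [hψe] <;> simp [hX]
  have hψY : ψ ⟨Y, Subgroup.subset_closure (by simp)⟩ = ll 1 := by
    apply ext4 <;> rw [hψe] <;> simp [hY]
  have hfin : Finite ψ.range := Finite.of_surjective ψ.rangeRestrict ψ.rangeRestrict_surjective
  have hu : uu (ι c) ∈ ψ.range := ⟨_, hψX⟩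
  have hl : ll (1 : AlgebraicClosure E) ∈ ψ.range := ⟨_, hψY⟩
  have hιc : ι c ≠ 0 := by
    rw [hι]
    intro h
    exact hc ((algebraMap E (AlgebraicClosure E)).injective (by rw [h, map_zero]))
  obtain ⟨M, hML, ⟨e⟩⟩ := core' p h2 ψ.range (ι c) 1 hιc one_ne_zero hu hl
  have h3 : Inv p ψ.range :=
    ⟨M.subgroupOf ψ.range, e.toMonoidHom.comp (Subgroup.subgroupOfEquivOfLe hML).toMonoidHom,
      e.surjective.comp (Subgroup.subgroupOfEquivOfLe hML).surjective⟩
  exact Inv.of_surjective ψ.rangeRestrict ψ.rangeRestrict_surjective h3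

/-- two quadratically acting linear maps generate a `p`-group unless they involve `SL₂(p)` -/
theorem isPGroupClosureInv {p : ℕ} [hp : Fact p.Prime] (hp2 : p ≠ 2) {M : Type*}
    [AddCommGroup M] [Module (ZMod p) M] [Finite M] (α β : Module.End (ZMod p) M)
    (hα : α * α = 0) (hβ : β * β = 0) (x y : M ≃ₗ[ZMod p] M) (hx : ∀ v, x v = v + α v)
    (hy : ∀ v, y v = v + β v) (hab : ¬ Inv p (Subgroup.closure {x, y})) :
    IsPGroup p (Subgroup.closure {x, y}) := by
  haveI : Finite (M ≃ₗ[ZMod p] M) :=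
    Finite.of_injective (fun e => (e : M → M)) DFunLike.coe_injective
  apply isPGroupClosureGen hp2 α β hα hβ x y hx hy
  intro E _ _ X Y c hc hX hY S hS hxS hyS
  obtain ⟨hfin, hab'⟩ := transferInv (p := p) S hS x y X Y hxS hyS
  exact hab (hab' (two_transvections_inv hp2 X Y c hc hX hY))

end QuadSL2
end Cfsg.Agent.Lead
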