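import Mathlib
import Cfsg.Prelude.Def_PLocal
import Cfsg.Agent.Helper1.OddQuadratic
import Cfsg.Agent.Helper2.BaerSuzuki
import Cfsg.Agent.Lead.Ab2Stmts
import Cfsg.Agent.Lead.QuadSL2A

set_option autoImplicit false

/-!
Quadratic action and sections isomorphic to `SL₂(p)`.
-/

namespace Cfsg.Agent.Lead
namespace QuadSL2

universe u
open scoped commutatorElement Pointwise MatrixGroups
open Cfsg.Agent.Helper2 (cj)
open Cfsg.Agent.Helper1 Cfsg.Agent.Helper1.OddGL2
open Cfsg.Agent.Lead.Ab2GL2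

theorem eqOneQuadInv' {p : ℕ} [hp : Fact p.Prime] (hp2 : p ≠ 2) {A : Type*} [CommGroup A]
    [Finite A] [Module (ZMod p) (Additive A)] {X : Type*} [Group X] (θ : X →* MulAut A) (a y : X)
    (hqa : ∀ v : A, θ a (θ a v * v⁻¹) * (θ a v * v⁻¹)⁻¹ = 1)
    (hqy : ∀ v : A, θ y (θ y v * v⁻¹) * (θ y v * v⁻¹)⁻¹ = 1)
    [Finite (Subgroup.closure {a, y})]
    (hab : ¬ Inv p (Subgroup.closure {a, y}))
    (d : X) (hd : d ∈ Subgroup.closure {a, y}) (hdp : (orderOf d).Coprime p) : θ d = 1 := by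
  obtain ⟨ρ, hρ⟩ := exists_linRep (A := A) p
  obtain ⟨Φ, hΦ⟩ : ∃ Φ, Φ = ρ.comp θ := ⟨_, rfl⟩
  have hΦa : ∀ (g : X) (v : Additive A), Φ g v = Additive.ofMul (θ g (Additive.toMul v)) := by
    intro g v; rw [hΦ]; exact hρ _ _
  have key : ∀ g : X, (∀ v : A, θ g (θ g v * v⁻¹) * (θ g v * v⁻¹)⁻¹ = 1) →
      ((Φ g : Module.End (ZMod p) (Additive A)) - 1) * ((Φ g : Module.End (ZMod p) (Additive A)) - 1)
        = 0 := by
    intro g hg
    apply LinearMap.ext
    intro v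
    have h1 : ∀ w : Additive A, ((Φ g : Module.End (ZMod p) (Additive A)) - 1) w =
        Additive.ofMul (θ g (Additive.toMul w) * (Additive.toMul w)⁻¹) := by
      intro w
      rw [LinearMap.sub_apply, Module.End.one_apply]
      show Φ g w - w = _
      rw [hΦa, sub_eq_add_neg]
      rfl
    rw [Module.End.mul_apply, h1, h1]
    show Additive.ofMul _ = 0
    simp only [toMul_ofMul]
    rw [hg]; rfl
  have hxv : ∀ g : X, ∀ v : Additive A,
      Φ g v = v + ((Φ g : Module.End (ZMod p) (Additive A)) - 1) v := by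
    intro g v
    rw [LinearMap.sub_apply, Module.End.one_apply]
    show Φ g v = v + (Φ g v - v)
    abel
  have hcl : Subgroup.closure {Φ a, Φ y} = (Subgroup.closure {a, y}).map Φ := by
    rw [MonoidHom.map_closure, Set.image_pair]
  have hsurj := Φ.subgroupMap_surjective (Subgroup.closure {a, y})
  have hab' : ¬ Inv p (Subgroup.closure {Φ a, Φ y}) := by
    rw [hcl]; exact fun h => hab (Inv.of_surjective _ hsurj h)
  have hpg := isPGroupClosureInv hp2 _ _ (key a hqa) (key y hqy) (Φ a) (Φ y)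
    (hxv a) (hxv y) hab'
  have hdm : Φ d ∈ Subgroup.closure {Φ a, Φ y} := by
    rw [hcl]; exact Subgroup.mem_map_of_mem _ hd
  obtain ⟨k, hk⟩ := hpg ⟨Φ d, hdm⟩
  have hk' : (Φ d) ^ (p ^ k) = 1 := congrArg Subtype.val hk
  have ho : (Φ d) ^ (orderOf d) = 1 := by rw [← map_pow, pow_orderOf_eq_one, map_one]
  have h1 := pow_gcd_eq_one.2 ⟨hk', ho⟩
  rw [Nat.Coprime.gcd_eq_one (Nat.Coprime.pow_left k hdp.symm), pow_one] at h1
  ext v
  have h2 := hΦa d (Additive.ofMul v)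
  rw [h1] at h2
  exact (congrArg Additive.toMul h2).symm

theorem eqOneQuadInv {p : ℕ} [hp : Fact p.Prime] (hp2 : p ≠ 2) {A : Type*} [CommGroup A]
    [Finite A] (hA : ∀ a : A, a ^ p = 1) {X : Type*} [Group X] (θ : X →* MulAut A) (a y : X)
    (hqa : ∀ v : A, θ a (θ a v * v⁻¹) * (θ a v * v⁻¹)⁻¹ = 1)
    (hqy : ∀ v : A, θ y (θ y v * v⁻¹) * (θ y v * v⁻¹)⁻¹ = 1)
    [Finite (Subgroup.closure {a, y})]
    (hab : ¬ Inv p (Subgroup.closure {a, y}))
    (d : X) (hd : d ∈ Subgroup.closure {a, y}) (hdp : (orderOf d).Coprime p) : θ d = 1 := by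
  let inst : Module (ZMod p) (Additive A) := AddCommGroup.zmodModule (n := p) (fun x => by
    show Additive.ofMul ((Additive.toMul x) ^ p) = 0
    rw [hA]; rfl)
  exact eqOneQuadInv' hp2 θ a y hqa hqy hab d hd hdp

theorem centralizesElemInv {X : Type u} [Group X] [Finite X] {p : ℕ}
    [hp : Fact p.Prime] (hp2 : p ≠ 2) (V : Subgroup X) [hVn : V.Normal]
    (hVab : ∀ u ∈ V, ∀ v ∈ V, u * v = v * u) (hVp : ∀ v ∈ V, v ^ p = 1) (a y : X)
    (hqa : ⁅⁅V, Subgroup.zpowers a⁆, Subgroup.zpowers a⁆ = ⊥)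
    (hqy : ⁅⁅V, Subgroup.zpowers y⁆, Subgroup.zpowers y⁆ = ⊥)
    (hab : ¬ Inv p (Subgroup.closure {a, y}))
    (d : X) (hd : d ∈ Subgroup.closure {a, y}) (hdp : (orderOf d).Coprime p) :
    d ∈ Subgroup.centralizer (V : Set X) := by
  letI : CommGroup V := { (inferInstance : Group V) with
    mul_comm := fun u v => Subtype.ext (hVab u u.2 v v.2) }
  have hA : ∀ v : V, v ^ p = 1 := fun v => Subtype.ext (hVp v v.2)
  have key : ∀ g : X, ⁅⁅V, Subgroup.zpowers g⁆, Subgroup.zpowers g⁆ = ⊥ → ∀ v : V,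
      (MulAut.conjNormal (H := V) g) ((MulAut.conjNormal (H := V) g) v * v⁻¹) *
        ((MulAut.conjNormal (H := V) g) v * v⁻¹)⁻¹ = 1 := by
    intro g hg v
    apply Subtype.ext
    have := quadratic_elementwise V g hg v v.2
    simp only [Subgroup.coe_mul, Subgroup.coe_inv, MulAut.conjNormal_apply, Subgroup.coe_one]
    exact this
  have h1 := eqOneQuadInv hp2 hA (MulAut.conjNormal (H := V)) a y (key a hqa) (key y hqy)
    hab d hd hdp
  rw [Subgroup.mem_centralizer_iff]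
  intro v hv
  have h2 := congrArg (fun f : MulAut V => ((f ⟨v, hv⟩ : V) : X)) h1
  simp only [MulAut.conjNormal_apply, MulAut.one_apply] at h2
  calc v * d = (d * v * d⁻¹) * d := by rw [h2]
    _ = d * v := by group


theorem keyInv {G : Type*} [Group G] [Finite G] {p : ℕ} [hp : Fact p.Prime] (hp2 : p ≠ 2)
    (V H : Subgroup G) (hV : Cfsg.IsElementaryAbelian p V)
    (hHV : H ≤ Subgroup.normalizer (V : Set G))
    (hf : H ⊓ Subgroup.centralizer (V : Set G) = ⊥) (a b : G) (ha : a ∈ H) (hb : b ∈ H)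
    (hqa : ⁅⁅V, Subgroup.zpowers a⁆, Subgroup.zpowers a⁆ = ⊥)
    (hqb : ⁅⁅V, Subgroup.zpowers b⁆, Subgroup.zpowers b⁆ = ⊥)
    (hab : ¬ Inv p (Subgroup.closure {a, b})) : IsPGroup p (Subgroup.closure {a, b}) := by
  obtain ⟨N, hN⟩ : ∃ N, N = Subgroup.normalizer (V : Set G) := ⟨_, rfl⟩
  rw [← hN] at hHV
  have hVN : V ≤ N := hN ▸ Subgroup.le_normalizer
  haveI hVn : (V.subgroupOf N).Normal := by
    rw [hN]; exact Subgroup.normal_in_normalizer
  obtain ⟨a', ha'⟩ : ∃ a' : N, a' = ⟨a, hHV ha⟩ := ⟨_, rfl⟩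
  obtain ⟨b', hb'⟩ : ∃ b' : N, b' = ⟨b, hHV hb⟩ := ⟨_, rfl⟩
  have hquad : ∀ (c : G) (c' : N), (c' : G) = c →
      ⁅⁅V, Subgroup.zpowers c⁆, Subgroup.zpowers c⁆ = ⊥ →
      ⁅⁅V.subgroupOf N, Subgroup.zpowers c'⁆, Subgroup.zpowers c'⁆ = ⊥ := by
    intro c c' hcc hq
    rw [← Subgroup.map_eq_bot_iff_of_injective _ (Subgroup.subtype_injective N),
      Subgroup.map_commutator, Subgroup.map_commutator, eq_bot_iff, ← hq]
    have h1 : (V.subgroupOf N).map N.subtype ≤ V := by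
      rw [Subgroup.subgroupOf_map_subtype]; exact inf_le_left
    have h2 : (Subgroup.zpowers c').map N.subtype ≤ Subgroup.zpowers c := by
      rw [MonoidHom.map_zpowers, Subgroup.zpowers_le]
      show (c' : G) ∈ _
      rw [hcc]; exact Subgroup.mem_zpowers c
    exact Subgroup.commutator_mono (Subgroup.commutator_mono h1 h2) h2
  have hqa' := hquad a a' (by rw [ha']) hqa
  have hqb' := hquad b b' (by rw [hb']) hqb
  have hmap : (Subgroup.closure {a', b'}).map N.subtype = Subgroup.closure {a, b} := by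
    rw [MonoidHom.map_closure, Set.image_pair, ha', hb']
    rfl
  have hab' : ¬ Inv p (Subgroup.closure {a', b'}) := by
    have hmem : ∀ x : Subgroup.closure {a', b'}, ((x : N) : G) ∈ Subgroup.closure {a, b} := by
      intro x
      rw [← hmap]
      exact ⟨(x : N), x.2, rfl⟩
    intro hinv
    refine hab (Inv.of_injective
      ((N.subtype.comp (Subgroup.closure {a', b'}).subtype).codRestrict
        (Subgroup.closure {a, b}) hmem)
      ?_ hinv)
    intro x y hxy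
    have h0 := congrArg Subtype.val hxy
    have h1 : ((x : N) : G) = ((y : N) : G) := h0
    exact Subtype.ext (Subtype.ext h1)
  have hVab : ∀ u ∈ V.subgroupOf N, ∀ v ∈ V.subgroupOf N, u * v = v * u := by
    intro u hu v hv
    apply Subtype.ext
    show (u : G) * (v : G) = (v : G) * (u : G)
    exact congrArg Subtype.val (hV.1.is_comm.comm ⟨(u : G), hu⟩ ⟨(v : G), hv⟩)
  have hVp : ∀ v ∈ V.subgroupOf N, v ^ p = 1 := by
    intro v hv
    apply Subtype.ext
    exact hV.2 (v : G) hv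
  have hclH : Subgroup.closure {a, b} ≤ H := by
    rw [Subgroup.closure_le]
    rintro _ (rfl | rfl)
    · exact ha
    · exact hb
  rintro ⟨d, hd⟩
  have hd0 := hd
  rw [← hmap] at hd0
  obtain ⟨d', hd', hdd⟩ := hd0
  obtain ⟨i, m, hm, him⟩ := Nat.exists_eq_pow_mul_and_not_dvd (orderOf_pos d').ne' p hp.out.ne_one
  refine ⟨i, ?_⟩
  apply Subtype.ext
  show d ^ (p ^ i) = 1
  have ho : orderOf (d' ^ (p ^ i)) = m := by
    rw [orderOf_pow' d' (pow_ne_zero i hp.out.ne_zero), him, Nat.gcd_mul_right_left,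
      Nat.mul_div_cancel_left _ (pow_pos hp.out.pos i)]
  have hcen := centralizesElemInv hp2 (V.subgroupOf N) hVab hVp a' b' hqa' hqb' hab'
    (d' ^ (p ^ i)) (Subgroup.pow_mem _ hd' _)
    (by rw [ho]; exact ((Nat.Prime.coprime_iff_not_dvd hp.out).2 hm).symm)
  have h1 : d ^ (p ^ i) ∈ H ⊓ Subgroup.centralizer (V : Set G) := by
    refine Subgroup.mem_inf.2 ⟨Subgroup.pow_mem _ (hclH hd) _, ?_⟩
    rw [Subgroup.mem_centralizer_iff]
    intro v hv
    have h2 := (Subgroup.mem_centralizer_iff.1 hcen) ⟨v, hVN hv⟩ (Subgroup.mem_subgroupOf.2 hv)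
    have h3 := congrArg (fun z : N => (z : G)) h2
    simp only [Subgroup.coe_mul, Subgroup.coe_pow] at h3
    rw [← hdd]
    exact h3
  rw [hf, Subgroup.mem_bot] at h1
  exact h1


/-- a quadratically acting element outside the `p`-core forces involvement of `SL₂(p)` -/
theorem inv_of_not_mem_pCore {G : Type*} [Group G] [Finite G] {p : ℕ} [Fact p.Prime] (hp : p ≠ 2)
    (V H : Subgroup G) (hV : Cfsg.IsElementaryAbelian p V)
    (hHV : H ≤ Subgroup.normalizer (V : Set G))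
    (hf : H ⊓ Subgroup.centralizer (V : Set G) = ⊥) (a : G) (haH : a ∈ H)
    (hq : ⁅⁅V, Subgroup.zpowers a⁆, Subgroup.zpowers a⁆ = ⊥)
    (hna : a ∉ (Cfsg.pCore p H).map H.subtype) : Inv p H := by
  by_contra h2
  apply hna
  have hpair : ∀ g : H, IsPGroup p (Subgroup.closure {a, (g : G) * a * (g : G)⁻¹}) := by
    intro g
    have hb : (g : G) * a * (g : G)⁻¹ ∈ H := H.mul_mem (H.mul_mem g.2 haH) (H.inv_mem g.2)
    have hle : Subgroup.closure {a, (g : G) * a * (g : G)⁻¹} ≤ H := by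
      rw [Subgroup.closure_le]
      rintro _ (rfl | rfl)
      · exact haH
      · exact hb
    exact keyInv hp V H hV hHV hf a _ haH hb hq (quadConj V a (g : G) (hHV g.2) hq)
      (fun h => h2 (Inv.of_le hle h))
  obtain ⟨A, hA⟩ : ∃ A : Subgroup H, A = Subgroup.zpowers (⟨a, haH⟩ : H) := ⟨_, rfl⟩
  have hsub : ∀ g : H, A ⊔ cj g A ≤
      (Subgroup.closure {a, (g : G) * a * (g : G)⁻¹}).comap H.subtype := by
    intro g
    apply sup_le
    · rw [hA, Subgroup.zpowers_le, Subgroup.mem_comap]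
      exact Subgroup.subset_closure (by simp)
    · have e1 : cj g A = Subgroup.zpowers (g * ⟨a, haH⟩ * g⁻¹) := by
        show A.map (MulAut.conj g).toMonoidHom = _
        rw [hA, MonoidHom.map_zpowers]
        rfl
      rw [e1, Subgroup.zpowers_le, Subgroup.mem_comap]
      exact Subgroup.subset_closure (by simp)
  have hpg : ∀ g : H, IsPGroup p ↥(A ⊔ cj g A) := by
    intro g
    rintro ⟨d, hd⟩
    have h1 := hsub g hd
    rw [Subgroup.mem_comap] at h1
    obtain ⟨k, hk⟩ := hpair g ⟨_, h1⟩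
    have h5 : (d : G) ^ (p ^ k) = 1 := congrArg Subtype.val hk
    refine ⟨k, ?_⟩
    apply Subtype.ext
    apply Subtype.ext
    simp only [Subgroup.coe_pow, Subgroup.coe_one]
    exact h5
  have hAp : IsPGroup p A := by
    have h1 := hpg 1
    exact h1.to_le le_sup_left
  obtain ⟨N, hNn, hNp, hle⟩ := Cfsg.Agent.Helper2.baer_suzuki A hAp hpg
  have h3 : (⟨a, haH⟩ : H) ∈ Cfsg.pCore p H :=
    le_pCore hNn hNp (hle (hA ▸ Subgroup.mem_zpowers _))
  exact ⟨⟨a, haH⟩, h3, rfl⟩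


/-- bridge: a quadratic pair generating a non-`p`-group involves `SL₂(p)` -/
theorem bridge {G : Type*} [Group G] [Finite G] {p : ℕ} [Fact p.Prime] (hp : p ≠ 2)
    (V H : Subgroup G) (hV : Cfsg.IsElementaryAbelian p V)
    (hHV : H ≤ Subgroup.normalizer (V : Set G))
    (hf : H ⊓ Subgroup.centralizer (V : Set G) = ⊥) (a b : G) (ha : a ∈ H) (hb : b ∈ H)
    (hqa : ⁅⁅V, Subgroup.zpowers a⁆, Subgroup.zpowers a⁆ = ⊥)
    (hqb : ⁅⁅V, Subgroup.zpowers b⁆, Subgroup.zpowers b⁆ = ⊥)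
    (hnp : ¬ IsPGroup p (Subgroup.closure {a, b})) : Inv p (Subgroup.closure {a, b}) := by
  by_contra h
  exact hnp (keyInv hp V H hV hHV hf a b ha hb hqa hqb h)

/-- bridge, section form -/
theorem bridge_section {G : Type*} [Group G] [Finite G] {p : ℕ} [Fact p.Prime] (hp : p ≠ 2)
    (V H : Subgroup G) (hV : Cfsg.IsElementaryAbelian p V)
    (hHV : H ≤ Subgroup.normalizer (V : Set G))
    (hf : H ⊓ Subgroup.centralizer (V : Set G) = ⊥) (a b : G) (ha : a ∈ H) (hb : b ∈ H)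
    (hqa : ⁅⁅V, Subgroup.zpowers a⁆, Subgroup.zpowers a⁆ = ⊥)
    (hqb : ⁅⁅V, Subgroup.zpowers b⁆, Subgroup.zpowers b⁆ = ⊥)
    (hnp : ¬ IsPGroup p (Subgroup.closure {a, b})) :
    ∃ (K L : Subgroup G) (hL : (L.subgroupOf K).Normal), K ≤ H ∧
      Nonempty ((K ⧸ L.subgroupOf K) ≃* SL(2, ZMod p)) := by
  obtain ⟨K, L, hL, hK, he⟩ :=
    Inv.exists_section (Subgroup.closure {a, b}) (bridge hp V H hV hHV hf a b ha hb hqa hqb hnp)
  refine ⟨K, L, hL, hK.trans ?_, he⟩
  rw [Subgroup.closure_le]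
  rintro _ (rfl | rfl)
  · exact ha
  · exact hb

/-- S0656 -/
theorem s0656 {G : Type*} [Group G] [Finite G] {p : ℕ} [Fact p.Prime] (hp : p ≠ 2)
    (V H : Subgroup G) (hV : Cfsg.IsElementaryAbelian p V)
    (hHV : H ≤ Subgroup.normalizer (V : Set G))
    (hf : H ⊓ Subgroup.centralizer (V : Set G) = ⊥) (hO : Cfsg.pCore p ↥H = ⊥) (x : G)
    (hxH : x ∈ H) (hx1 : x ≠ 1)
    (hq : ⁅⁅V, Subgroup.zpowers x⁆, Subgroup.zpowers x⁆ = ⊥) :
    ∃ (K L : Subgroup G) (hL : (L.subgroupOf K).Normal), K ≤ H ∧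
      Nonempty ((K ⧸ L.subgroupOf K) ≃* SL(2, ZMod p)) := by
  apply Inv.exists_section H
  apply inv_of_not_mem_pCore hp V H hV hHV hf x hxH hq
  rw [hO, Subgroup.map_bot, Subgroup.mem_bot]
  exact hx1

end QuadSL2
end Cfsg.Agent.Lead
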