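import Mathlib
import Cfsg.Agent.Lead.ConjFamily

set_option autoImplicit false

namespace Cfsg.Agent.Lead

open Cfsg

variable {G : Type*} [Group G]

theorem mem_normalizer_of_map_conj_eq {K : Subgroup G} {g : G}
    (h : K.map (MulAut.conj g).toMonoidHom = K) : g ∈ Subgroup.normalizer (K : Set G) := by
  rw [Subgroup.mem_normalizer_iff]
  intro x
  constructor
  · intro hx
    rw [← h]
    exact ⟨x, hx, rfl⟩
  · intro hx
    rw [← h] at hx
    obtain ⟨u, hu, hux⟩ := hx
    have h1 : g * u * g⁻¹ = g * x * g⁻¹ := hux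
    have : u = x := mul_left_cancel (mul_right_cancel h1)
    rw [← this]; exact hu

theorem le_normalizer_functor {p : ℕ} {W : Subgroup G → Subgroup G}
    (hW : Cfsg.IsConjugacyFunctor p W) {Q : Subgroup G} (hQ : IsPGroup p Q) :
    Q ≤ Subgroup.normalizer ((W Q : Subgroup G) : Set G) := by
  intro g hg
  apply mem_normalizer_of_map_conj_eq
  have h1 := (hW Q hQ).2.2 g
  have h2 : Q.map (MulAut.conj g).toMonoidHom = Q := by
    ext y
    rw [Subgroup.mem_map]
    constructor
    · rintro ⟨u, hu, rfl⟩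
      exact Q.mul_mem (Q.mul_mem hg hu) (Q.inv_mem hg)
    · intro hy
      refine ⟨g⁻¹ * y * g, Q.mul_mem (Q.mul_mem (Q.inv_mem hg) hy) hg, ?_⟩
      simp [mul_assoc]
  rw [h2] at h1
  exact h1.symm

variable [Finite G] {p : ℕ} [Fact p.Prime]

theorem not_dvd_relIndex_of_card_eq_ppart {A M : Subgroup G} (hAM : A ≤ M)
    (h : Nat.card A = p ^ (Nat.card M).factorization p) : ¬ p ∣ A.relIndex M := by
  have hpp : p.Prime := Fact.out
  have h1 : Nat.card (A.subgroupOf M) * (A.subgroupOf M).index = Nat.card M :=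
    (A.subgroupOf M).card_mul_index
  rw [card_subgroupOf_of_le hAM] at h1
  have hri : (A.subgroupOf M).index = A.relIndex M := rfl
  rw [hri] at h1
  intro hdvd
  have hM0 : Nat.card M ≠ 0 := Nat.card_pos.ne'
  obtain ⟨e, he⟩ : ∃ e, e = (Nat.card M).factorization p := ⟨_, rfl⟩
  rw [← he] at h
  have h2 : p ^ (e + 1) ∣ Nat.card M := by
    rw [← h1, h, pow_succ]
    exact mul_dvd_mul_left _ hdvd
  have h3 := (hpp.pow_dvd_iff_le_factorization hM0).mp h2
  omega

/-- One step of the Alperin–Gorenstein construction: a Sylow `p`-subgroup of `N_G(W Q)` containing `Q`. -/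
noncomputable def wpStep (p : ℕ) [Fact p.Prime] (W : Subgroup G → Subgroup G) (Q : Subgroup G) :
    Subgroup G := by
  classical
  exact if h : IsPGroup p Q ∧ Q ≤ Subgroup.normalizer ((W Q : Subgroup G) : Set G) then
    Classical.choose (exists_le_card_eq_ppart h.1 h.2)
  else Q

theorem wpStep_spec {W : Subgroup G → Subgroup G} (hW : Cfsg.IsConjugacyFunctor p W)
    {Q : Subgroup G} (hQ : IsPGroup p Q) :
    Q ≤ wpStep p W Q ∧ wpStep p W Q ≤ Subgroup.normalizer ((W Q : Subgroup G) : Set G) ∧
      IsPGroup p (wpStep p W Q) ∧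
      Nat.card (wpStep p W Q) =
        p ^ (Nat.card (Subgroup.normalizer ((W Q : Subgroup G) : Set G))).factorization p := by
  have h : IsPGroup p Q ∧ Q ≤ Subgroup.normalizer ((W Q : Subgroup G) : Set G) :=
    ⟨hQ, le_normalizer_functor hW hQ⟩
  unfold wpStep
  rw [dif_pos h]
  exact Classical.choose_spec (exists_le_card_eq_ppart h.1 h.2)

noncomputable def wpP (p : ℕ) [Fact p.Prime] (W : Subgroup G → Subgroup G) (P0 : Subgroup G) :
    ℕ → Subgroup G
  | 0 => P0
  | i + 1 => wpStep p W (wpP p W P0 i)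

noncomputable def wpW (p : ℕ) [Fact p.Prime] (W : Subgroup G → Subgroup G) (H P0 : Subgroup G) :
    ℕ → Subgroup G
  | 0 => H
  | i + 1 => W (wpP p W P0 i)

theorem wpP_isPGroup {W : Subgroup G → Subgroup G} (hW : Cfsg.IsConjugacyFunctor p W)
    {P0 : Subgroup G} (hP0 : IsPGroup p P0) (i : ℕ) : IsPGroup p (wpP p W P0 i) := by
  induction i with
  | zero => exact hP0
  | succ i ih => exact (wpStep_spec hW ih).2.2.1

theorem wpP_le_succ {W : Subgroup G → Subgroup G} (hW : Cfsg.IsConjugacyFunctor p W)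
    {P0 : Subgroup G} (hP0 : IsPGroup p P0) (i : ℕ) : wpP p W P0 i ≤ wpP p W P0 (i + 1) :=
  (wpStep_spec hW (wpP_isPGroup hW hP0 i)).1

theorem wpP_mono {W : Subgroup G → Subgroup G} (hW : Cfsg.IsConjugacyFunctor p W)
    {P0 : Subgroup G} (hP0 : IsPGroup p P0) : Monotone (wpP p W P0) :=
  monotone_nat_of_le_succ (wpP_le_succ hW hP0)

theorem wpP_sylow {W : Subgroup G → Subgroup G} (hW : Cfsg.IsConjugacyFunctor p W)
    {H P0 : Subgroup G} (hP0 : IsPGroup p P0) (hP0N : P0 ≤ Subgroup.normalizer (H : Set G))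
    (hcard : Nat.card P0 = p ^ (Nat.card (Subgroup.normalizer (H : Set G))).factorization p)
    (i : ℕ) :
    wpP p W P0 i ≤ Subgroup.normalizer ((wpW p W H P0 i : Subgroup G) : Set G) ∧
      Nat.card (wpP p W P0 i) =
        p ^ (Nat.card (Subgroup.normalizer ((wpW p W H P0 i : Subgroup G) : Set G))).factorization p := by
  cases i with
  | zero => exact ⟨hP0N, hcard⟩
  | succ i =>
    have := wpStep_spec hW (wpP_isPGroup hW hP0 i)
    exact ⟨this.2.1, this.2.2.2⟩

/-- `S1963`: every subgroup of `S` has a well-placed conjugate. -/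
theorem exists_wellPlaced_conj (S : Sylow p G) (W : Subgroup G → Subgroup G)
    (hW : Cfsg.IsConjugacyFunctor p W) (T : Subgroup G) (hT : T ≤ (S : Subgroup G)) :
    ∃ g : G, Cfsg.IsWellPlaced p W (S : Subgroup G) (T.map (MulAut.conj g).toMonoidHom) := by
  have hTp : IsPGroup p T := S.2.to_le hT
  obtain ⟨P0, hTP0, hP0N, hP0, hP0c⟩ :=
    exists_le_card_eq_ppart (p := p) hTp (Subgroup.le_normalizer (H := T))
  -- the union of the `P i`
  have hdir : Directed (· ≤ ·) (wpP p W P0) := (wpP_mono hW hP0).directed_le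
  have hUp : IsPGroup p (⨆ i, wpP p W P0 i : Subgroup G) := by
    intro x
    obtain ⟨i, hi⟩ := (Subgroup.mem_iSup_of_directed hdir).mp x.2
    obtain ⟨k, hk⟩ := wpP_isPGroup hW hP0 i ⟨x.1, hi⟩
    refine ⟨k, ?_⟩
    apply Subtype.ext
    have := congrArg Subtype.val hk
    simpa using this
  obtain ⟨R, hR⟩ := hUp.exists_le_sylow
  obtain ⟨g, hg⟩ := MulAction.exists_smul_eq G R S
  have hRS : (R : Subgroup G).map (MulAut.conj g).toMonoidHom = (S : Subgroup G) := by
    rw [← hg, Sylow.coe_subgroup_smul]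
    rfl
  have hPS : ∀ i, (wpP p W P0 i).map (MulAut.conj g).toMonoidHom ≤ (S : Subgroup G) := by
    intro i
    rw [← hRS]
    exact Subgroup.map_mono ((le_iSup (wpP p W P0) i).trans hR)
  -- the key computation
  have key : ∀ i (X : Subgroup G), X = (wpW p W T P0 i).map (MulAut.conj g).toMonoidHom →
      (S : Subgroup G) ⊓ Subgroup.normalizer (X : Set G) =
        (wpP p W P0 i).map (MulAut.conj g).toMonoidHom := by
    intro i X hX
    have hs := wpP_sylow hW hP0 hP0N hP0c i
    have hN : Subgroup.normalizer (X : Set G) =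
        (Subgroup.normalizer ((wpW p W T P0 i : Subgroup G) : Set G)).map
          (MulAut.conj g).toMonoidHom := by
      rw [hX, normalizer_map_conj]
    symm
    apply Subgroup.eq_of_le_of_card_ge
    · apply le_inf (hPS i)
      rw [hN]
      exact Subgroup.map_mono hs.1
    · have h1 : Nat.card ((S : Subgroup G) ⊓ Subgroup.normalizer (X : Set G) : Subgroup G) ≤
          p ^ (Nat.card (Subgroup.normalizer (X : Set G))).factorization p :=
        card_le_ppart_of_isPGroup (S.2.to_le inf_le_left) inf_le_right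
      have h2 : Nat.card (Subgroup.normalizer (X : Set G)) =
          Nat.card (Subgroup.normalizer ((wpW p W T P0 i : Subgroup G) : Set G)) := by
        rw [hN, card_map_conj]
      rw [card_map_conj, hs.2]
      rw [h2] at h1
      exact h1
  have tower : ∀ i, Cfsg.functorTower W (S : Subgroup G) (T.map (MulAut.conj g).toMonoidHom) i =
      (wpW p W T P0 i).map (MulAut.conj g).toMonoidHom := by
    intro i
    induction i with
    | zero => rfl
    | succ i ih =>
      show W ((S : Subgroup G) ⊓ Subgroup.normalizer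
        ((Cfsg.functorTower W (S : Subgroup G) (T.map (MulAut.conj g).toMonoidHom) i : Subgroup G) : Set G)) = _
      rw [key i _ ih]
      exact (hW _ (wpP_isPGroup hW hP0 i)).2.2 g
  refine ⟨g, ?_, ?_⟩
  · rw [← hRS]
    exact Subgroup.map_mono (hTP0.trans ((le_iSup (wpP p W P0) 0).trans hR))
  · intro i
    have hk := key i _ (tower i)
    have hs := wpP_sylow hW hP0 hP0N hP0c i
    apply not_dvd_relIndex_of_card_eq_ppart inf_le_right
    rw [hk, card_map_conj, hs.2, tower i, normalizer_map_conj, card_map_conj]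

/-- `S1964`: the well-placed subgroups form a conjugation family. -/
theorem isConjugationFamily_wellPlaced (S : Sylow p G) (W : Subgroup G → Subgroup G)
    (hW : Cfsg.IsConjugacyFunctor p W) :
    Cfsg.IsConjugationFamily {T : Subgroup G | Cfsg.IsWellPlaced p W (S : Subgroup G) T}
      (S : Subgroup G) := by
  apply isConjugationFamily_of_family
  · intro U hU
    exact hU.1
  · intro T hT
    obtain ⟨g, hg⟩ := exists_wellPlaced_conj S W hW T hT
    exact ⟨_, hg, ⟨g, rfl⟩, hg.2 0⟩

end Cfsg.Agent.Lead
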