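import Mathlib
import Cfsg.Agent.Lead.WellPlaced

set_option autoImplicit false

namespace Cfsg.Agent.Lead

open Cfsg

variable {G : Type*} [Group G]

/-- `N_G(P) ≤ N_G(W P)` for a conjugacy functor `W`. -/
theorem normalizer_le_normalizer_functor {p : ℕ} {W : Subgroup G → Subgroup G}
    (hW : Cfsg.IsConjugacyFunctor p W) {Q : Subgroup G} (hQ : IsPGroup p Q) :
    Subgroup.normalizer (Q : Set G) ≤ Subgroup.normalizer ((W Q : Subgroup G) : Set G) := by
  intro g hg
  apply mem_normalizer_of_map_conj_eq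
  have h1 := (hW Q hQ).2.2 g
  have h2 : Q.map (MulAut.conj g).toMonoidHom = Q := by
    ext y
    rw [Subgroup.mem_map]
    constructor
    · rintro ⟨u, hu, rfl⟩
      exact (Subgroup.mem_normalizer_iff.mp hg u).mp hu
    · intro hy
      refine ⟨g⁻¹ * y * g, ?_, by simp [mul_assoc]⟩
      have := (Subgroup.mem_normalizer_iff.mp (Subgroup.inv_mem _ hg) y).mp hy
      simpa using this
  rw [h2] at h1
  exact h1.symm

theorem functorTower_shift (W : Subgroup G → Subgroup G) (S T : Subgroup G) (i : ℕ) :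
    Cfsg.functorTower W S (Cfsg.functorTower W S T 1) i = Cfsg.functorTower W S T (i + 1) := by
  induction i with
  | zero => rfl
  | succ i ih =>
    show W (S ⊓ Subgroup.normalizer
      ((Cfsg.functorTower W S (Cfsg.functorTower W S T 1) i : Subgroup G) : Set G)) = _
    rw [ih]
    rfl

theorem isWellPlaced_tower_one {p : ℕ} {W : Subgroup G → Subgroup G}
    (hW : Cfsg.IsConjugacyFunctor p W) {S T : Subgroup G} (hS : IsPGroup p S)
    (h : Cfsg.IsWellPlaced p W S T) :
    Cfsg.IsWellPlaced p W S (W (S ⊓ Subgroup.normalizer (T : Set G))) := by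
  refine ⟨?_, fun i => ?_⟩
  · exact ((hW _ (hS.to_le inf_le_left)).1).trans inf_le_left
  · have := h.2 (i + 1)
    rw [← functorTower_shift] at this
    exact this

variable [Finite G] {p : ℕ} [Fact p.Prime]

/-- Control of strong fusion in `H` can be read off on any Sylow `p`-subgroup of `H`. -/
theorem controlsStrongFusionIn_sylow {W : Subgroup G → Subgroup G}
    (hW : Cfsg.IsConjugacyFunctor p W) {H P : Subgroup G}
    (hc : Cfsg.ControlsStrongFusionIn p W H) (hPH : P ≤ H) (hP : IsPGroup p P)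
    (hPs : ¬ p ∣ P.relIndex H) (B : Set G) (y : G) (hy : y ∈ H) (hB : B ⊆ P)
    (hyB : (fun a => y * a * y⁻¹) '' B ⊆ P) :
    ∃ x ∈ H ⊓ Subgroup.normalizer ((W P : Subgroup G) : Set G), ∀ b ∈ B, x * b * x⁻¹ = y * b * y⁻¹ := by
  obtain ⟨T', hT'H, hT'p, hT's, hctl⟩ := hc
  have hcT := card_eq_ppart_of_relIndex hT'H hT'p hT's
  have hcP := card_eq_ppart_of_relIndex hPH hP hPs
  obtain ⟨n, hn, hnP⟩ := exists_conj_le_of_card_eq_ppart (p := p) hT'H hcT hPH hP
  have hPT : P.map (MulAut.conj n).toMonoidHom = T' := by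
    apply Subgroup.eq_of_le_of_card_ge hnP
    rw [card_map_conj, hcT, hcP]
  have hB' : (fun a => n * a * n⁻¹) '' B ⊆ T' := by
    rintro _ ⟨b, hb, rfl⟩
    rw [← hPT]
    exact ⟨b, hB hb, rfl⟩
  have hy' : n * y * n⁻¹ ∈ H := H.mul_mem (H.mul_mem hn hy) (H.inv_mem hn)
  have hyB' : (fun a => (n * y * n⁻¹) * a * (n * y * n⁻¹)⁻¹) '' ((fun a => n * a * n⁻¹) '' B) ⊆ T' := by
    rintro _ ⟨_, ⟨b, hb, rfl⟩, rfl⟩
    rw [← hPT]
    refine ⟨y * b * y⁻¹, hyB ⟨b, hb, rfl⟩, ?_⟩
    simp only [MulEquiv.coe_toMonoidHom, MulAut.conj_apply]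
    group
  obtain ⟨x', hx', hx'b⟩ := hctl _ _ hy' hB' hyB'
  refine ⟨n⁻¹ * x' * n, ?_, ?_⟩
  · refine Subgroup.mem_inf.mpr ⟨H.mul_mem (H.mul_mem (H.inv_mem hn) hx'.1) hn, ?_⟩
    have h1 : W T' = (W P).map (MulAut.conj n).toMonoidHom := by
      rw [← hPT]; exact (hW P hP).2.2 n
    have h2 := hx'.2
    rw [h1, normalizer_map_conj] at h2
    obtain ⟨u, hu, hux⟩ := h2
    have : n⁻¹ * x' * n = u := by
      rw [← hux]
      simp [mul_assoc]
    rw [this]; exact hu
  · intro b hb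
    have := hx'b (n * b * n⁻¹) ⟨b, hb, rfl⟩
    calc n⁻¹ * x' * n * b * (n⁻¹ * x' * n)⁻¹ = n⁻¹ * (x' * (n * b * n⁻¹) * x'⁻¹) * n := by group
      _ = n⁻¹ * ((n * y * n⁻¹) * (n * b * n⁻¹) * (n * y * n⁻¹)⁻¹) * n := by rw [this]
      _ = y * b * y⁻¹ := by group

/-- Climbing the tower of a well-placed subgroup. -/
theorem exists_mem_normalizer_functor_of_wellPlaced (S : Sylow p G) {W : Subgroup G → Subgroup G}
    (hW : Cfsg.IsConjugacyFunctor p W)
    (hloc : ∀ T : Subgroup G, T ≠ ⊥ → Cfsg.IsWellPlaced p W (S : Subgroup G) T →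
      Cfsg.ControlsStrongFusionIn p W (Subgroup.normalizer ((T : Subgroup G) : Set G))) :
    ∀ (T : Subgroup G), Cfsg.IsWellPlaced p W (S : Subgroup G) T → T ≠ ⊥ →
      ∀ y ∈ Subgroup.normalizer (T : Set G), ∀ B : Set G,
        B ⊆ ((S : Subgroup G) ⊓ Subgroup.normalizer (T : Set G) : Subgroup G) →
        (fun a => y * a * y⁻¹) '' B ⊆ ((S : Subgroup G) ⊓ Subgroup.normalizer (T : Set G) : Subgroup G) →
        ∃ z ∈ Subgroup.normalizer ((W (S : Subgroup G) : Subgroup G) : Set G),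
          ∀ b ∈ B, z * b * z⁻¹ = y * b * y⁻¹ := by
  intro T
  induction' hk : Nat.card (S : Subgroup G) -
    Nat.card ((S : Subgroup G) ⊓ Subgroup.normalizer (T : Set G) : Subgroup G)
    using Nat.strong_induction_on with k ih generalizing T
  intro hwp hT y hy B hB hyB
  have hSp : IsPGroup p (S : Subgroup G) := S.2
  set P : Subgroup G := (S : Subgroup G) ⊓ Subgroup.normalizer (T : Set G) with hPdef
  have hPp : IsPGroup p P := hSp.to_le inf_le_left
  have hPs : ¬ p ∣ P.relIndex (Subgroup.normalizer (T : Set G)) := hwp.2 0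
  obtain ⟨x, hx, hxb⟩ := controlsStrongFusionIn_sylow hW (hloc T hT hwp) inf_le_right hPp hPs
    B y hy hB hyB
  by_cases hPS : P = (S : Subgroup G)
  · refine ⟨x, ?_, hxb⟩
    rw [← hPS]; exact hx.2
  · -- climb
    have hTP : T ≤ P := le_inf hwp.1 Subgroup.le_normalizer
    have hPne : P ≠ ⊥ := fun h => hT (le_bot_iff.mp (h ▸ hTP))
    have hT1 : W P ≠ ⊥ := (hW P hPp).2.1 hPne
    have hwp1 : Cfsg.IsWellPlaced p W (S : Subgroup G) (W P) := isWellPlaced_tower_one hW hSp hwp
    have hPle : P ≤ (S : Subgroup G) ⊓ Subgroup.normalizer ((W P : Subgroup G) : Set G) :=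
      le_inf inf_le_left (le_normalizer_functor hW hPp)
    obtain ⟨n, hn, hnP⟩ := Fusion.exists_mem_normalizerIn_not_mem (S := (S : Subgroup G)) hSp
      (inf_le_left : P ≤ (S : Subgroup G)) hPS
    have hn' : n ∈ (S : Subgroup G) ⊓ Subgroup.normalizer ((W P : Subgroup G) : Set G) :=
      Subgroup.mem_inf.mpr ⟨(Subgroup.mem_inf.mp hn).1,
        normalizer_le_normalizer_functor hW hPp (Subgroup.mem_inf.mp hn).2⟩
    have hlt : P < (S : Subgroup G) ⊓ Subgroup.normalizer ((W P : Subgroup G) : Set G) :=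
      lt_of_le_of_ne hPle (fun heq => hnP ((SetLike.ext_iff.mp heq n).mpr hn'))
    have hcardlt : Nat.card P <
        Nat.card ((S : Subgroup G) ⊓ Subgroup.normalizer ((W P : Subgroup G) : Set G) : Subgroup G) :=
      Set.ncard_lt_ncard (s := (P : Set G))
        (t := ((S : Subgroup G) ⊓ Subgroup.normalizer ((W P : Subgroup G) : Set G) : Subgroup G))
        (SetLike.coe_ssubset_coe.mpr hlt) (Set.toFinite _)
    have hle : Nat.card ((S : Subgroup G) ⊓ Subgroup.normalizer ((W P : Subgroup G) : Set G) : Subgroup G) ≤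
        Nat.card (S : Subgroup G) := Subgroup.card_le_of_le inf_le_left
    have hk1 : Nat.card (S : Subgroup G) -
        Nat.card ((S : Subgroup G) ⊓ Subgroup.normalizer ((W P : Subgroup G) : Set G) : Subgroup G) < k := by
      omega
    have hxB : (fun a => x * a * x⁻¹) '' B = (fun a => y * a * y⁻¹) '' B := by
      apply Set.image_congr
      intro b hb
      exact hxb b hb
    obtain ⟨z, hz, hzb⟩ := ih _ hk1 (W P) rfl hwp1 hT1 x hx.2 B (hB.trans hPle)
      (by rw [hxB]; exact hyB.trans hPle)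
    refine ⟨z, hz, fun b hb => ?_⟩
    rw [hzb b hb, hxb b hb]

theorem conjChain_wellPlaced (S : Sylow p G) (W : Subgroup G → Subgroup G)
    (hW : Cfsg.IsConjugacyFunctor p W) (P : Subgroup G) (g : G) (hPS : P ≤ (S : Subgroup G))
    (hPg : conjR g (P : Set G) ⊆ (S : Subgroup G)) :
    ConjChain {T : Subgroup G | Cfsg.IsWellPlaced p W (S : Subgroup G) T} (P : Set G) g := by
  apply conjChain_of_family S _ (fun U hU => hU.1) _ P g hPS hPg
  intro T hT
  obtain ⟨g, hg⟩ := exists_wellPlaced_conj S W hW T hT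
  exact ⟨_, hg, ⟨g, rfl⟩, hg.2 0⟩

/-- `S1961`. -/
theorem controlsStrongFusionIn_top_of_local (S : Sylow p G) (W : Subgroup G → Subgroup G)
    (hW : Cfsg.IsConjugacyFunctor p W)
    (hloc : ∀ T : Subgroup G, T ≠ ⊥ → Cfsg.IsWellPlaced p W (S : Subgroup G) T →
      Cfsg.ControlsStrongFusionIn p W (Subgroup.normalizer ((T : Subgroup G) : Set G))) :
    Cfsg.ControlsStrongFusionIn p W ⊤ := by
  have hchain : ∀ (A : Set G) (g : G),
      ConjChain {T : Subgroup G | Cfsg.IsWellPlaced p W (S : Subgroup G) T} A g →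
      A ⊆ (S : Subgroup G) →
      ∃ z ∈ Subgroup.normalizer ((W (S : Subgroup G) : Subgroup G) : Set G),
        ∀ a ∈ A, z⁻¹ * a * z = g⁻¹ * a * g := by
    intro A g hc
    induction hc with
    | nil A =>
      intro _
      exact ⟨1, Subgroup.one_mem _, fun a _ => by simp⟩
    | cons A T x g hT hx hAT _ ih =>
      intro hAS
      have hTS : T ≤ (S : Subgroup G) := hT.1
      have hxA : conjR x A ⊆ T := conjR_subset_of_mem_normalizer hx hAT
      obtain ⟨z₂, hz₂, hz₂b⟩ := ih (hxA.trans hTS)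
      -- the step
      have hstep : ∃ z₁ ∈ Subgroup.normalizer ((W (S : Subgroup G) : Subgroup G) : Set G),
          ∀ a ∈ A, z₁ * a * z₁⁻¹ = x⁻¹ * a * x := by
        by_cases hTb : T = ⊥
        · refine ⟨1, Subgroup.one_mem _, fun a ha => ?_⟩
          have : a = 1 := by
            have := hAT ha
            rw [hTb] at this
            exact Subgroup.mem_bot.mp this
          rw [this]; simp
        · have hTP : T ≤ (S : Subgroup G) ⊓ Subgroup.normalizer (T : Set G) :=
            le_inf hTS Subgroup.le_normalizer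
          obtain ⟨z₁, hz₁, hz₁b⟩ := exists_mem_normalizer_functor_of_wellPlaced S hW hloc T hT hTb
            x⁻¹ (Subgroup.inv_mem _ hx) A (hAT.trans hTP) (by
              have : (fun a => x⁻¹ * a * x⁻¹⁻¹) '' A = conjR x A := by
                unfold conjR
                apply Set.image_congr
                intro a _
                rw [inv_inv]
              rw [this]
              exact hxA.trans hTP)
          refine ⟨z₁, hz₁, fun a ha => ?_⟩
          rw [hz₁b a ha, inv_inv]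
      obtain ⟨z₁, hz₁, hz₁b⟩ := hstep
      refine ⟨z₁⁻¹ * z₂, Subgroup.mul_mem _ (Subgroup.inv_mem _ hz₁) hz₂, fun a ha => ?_⟩
      have h1 : x⁻¹ * a * x ∈ conjR x A := ⟨a, ha, rfl⟩
      have h2 := hz₂b _ h1
      calc (z₁⁻¹ * z₂)⁻¹ * a * (z₁⁻¹ * z₂) = z₂⁻¹ * (z₁ * a * z₁⁻¹) * z₂ := by group
        _ = z₂⁻¹ * (x⁻¹ * a * x) * z₂ := by rw [hz₁b a ha]
        _ = g⁻¹ * (x⁻¹ * a * x) * g := h2
        _ = (x * g)⁻¹ * a * (x * g) := by group
  refine ⟨(S : Subgroup G), le_top, S.2, ?_, ?_⟩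
  · rw [Subgroup.relIndex_top_right]
    exact S.not_dvd_index
  · intro A h _ hAS hAh
    have hPS : Subgroup.closure A ≤ (S : Subgroup G) := (Subgroup.closure_le _).mpr hAS
    have hPg : conjR h⁻¹ ((Subgroup.closure A : Subgroup G) : Set G) ⊆ (S : Subgroup G) := by
      intro y hy
      rw [mem_conjR] at hy
      have hle : Subgroup.closure A ≤ (S : Subgroup G).map (MulAut.conj h⁻¹).toMonoidHom := by
        rw [Subgroup.closure_le]
        intro a ha
        refine ⟨h * a * h⁻¹, hAh ⟨a, ha, rfl⟩, ?_⟩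
        simp [mul_assoc]
      obtain ⟨s, hs, hsy⟩ := hle hy
      have h1 : h⁻¹ * s * h⁻¹⁻¹ = h⁻¹ * y * h⁻¹⁻¹ := hsy
      have : y = s := (mul_left_cancel (mul_right_cancel h1)).symm
      rw [this]; exact hs
    have hc := (conjChain_wellPlaced S W hW _ h⁻¹ hPS hPg).mono (Subgroup.subset_closure (k := A))
    obtain ⟨z, hz, hzb⟩ := hchain A h⁻¹ hc hAS
    refine ⟨z⁻¹, Subgroup.mem_inf.mpr ⟨Subgroup.mem_top _, Subgroup.inv_mem _ hz⟩, fun a ha => ?_⟩
    have := hzb a ha
    rw [inv_inv] at this ⊢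
    exact this

end Cfsg.Agent.Lead
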