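import Mathlib
import Cfsg.Agent.Lead.ConjFunctorControl

set_option autoImplicit false

namespace Cfsg.Agent.Lead

open Cfsg

open scoped commutatorElement

variable {G : Type*} [Group G]

theorem map_conj_eq_self_of_mem {H : Subgroup G} {n : G} (hn : n ∈ H) :
    H.map (MulAut.conj n).toMonoidHom = H := by
  ext y
  rw [Subgroup.mem_map]
  constructor
  · rintro ⟨u, hu, rfl⟩
    exact H.mul_mem (H.mul_mem hn hu) (H.inv_mem hn)
  · intro hy
    refine ⟨n⁻¹ * y * n, H.mul_mem (H.mul_mem (H.inv_mem hn) hy) hn, by simp [mul_assoc]⟩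

variable [Finite G] {p : ℕ} [Fact p.Prime]

/-- Control of transfer in `H` can be read off on any Sylow `p`-subgroup of `H`. -/
theorem controlsTransferIn_sylow {W : Subgroup G → Subgroup G}
    (hW : Cfsg.IsConjugacyFunctor p W) {H P : Subgroup G}
    (hc : Cfsg.ControlsTransferIn p W H) (hPH : P ≤ H) (hP : IsPGroup p P)
    (hPs : ¬ p ∣ P.relIndex H) :
    P ⊓ ⁅H, H⁆ = P ⊓ ⁅H ⊓ Subgroup.normalizer ((W P : Subgroup G) : Set G),
      H ⊓ Subgroup.normalizer ((W P : Subgroup G) : Set G)⁆ := by
  obtain ⟨T', hT'H, hT'p, hT's, hctl⟩ := hc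
  have hcT := card_eq_ppart_of_relIndex hT'H hT'p hT's
  have hcP := card_eq_ppart_of_relIndex hPH hP hPs
  obtain ⟨n, hn, hnP⟩ := exists_conj_le_of_card_eq_ppart (p := p) hT'H hcT hPH hP
  have hPT : P.map (MulAut.conj n).toMonoidHom = T' := by
    apply Subgroup.eq_of_le_of_card_ge hnP
    rw [card_map_conj, hcT, hcP]
  have hinj : Function.Injective (MulAut.conj n).toMonoidHom := (MulAut.conj n).injective
  apply Subgroup.map_injective hinj
  have hHn : H.map (MulAut.conj n).toMonoidHom = H := map_conj_eq_self_of_mem hn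
  have hWn : (Subgroup.normalizer ((W P : Subgroup G) : Set G)).map (MulAut.conj n).toMonoidHom =
      Subgroup.normalizer ((W T' : Subgroup G) : Set G) := by
    rw [← normalizer_map_conj, ← (hW P hP).2.2 n, hPT]
  rw [Subgroup.map_inf _ _ _ hinj, Subgroup.map_inf _ _ _ hinj, Subgroup.map_commutator,
    Subgroup.map_commutator, Subgroup.map_inf _ _ _ hinj, hPT, hHn, hWn]
  exact hctl

/-- Climbing the tower, transfer version. -/
theorem inf_commutator_normalizer_le_of_wellPlaced (S : Sylow p G) {W : Subgroup G → Subgroup G}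
    (hW : Cfsg.IsConjugacyFunctor p W)
    (hloc : ∀ T : Subgroup G, T ≠ ⊥ → Cfsg.IsWellPlaced p W (S : Subgroup G) T →
      Cfsg.ControlsTransferIn p W (Subgroup.normalizer ((T : Subgroup G) : Set G))) :
    ∀ (T : Subgroup G), Cfsg.IsWellPlaced p W (S : Subgroup G) T → T ≠ ⊥ →
      ((S : Subgroup G) ⊓ Subgroup.normalizer (T : Set G)) ⊓
          ⁅Subgroup.normalizer (T : Set G), Subgroup.normalizer (T : Set G)⁆ ≤
        (S : Subgroup G) ⊓ ⁅Subgroup.normalizer ((W (S : Subgroup G) : Subgroup G) : Set G),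
          Subgroup.normalizer ((W (S : Subgroup G) : Subgroup G) : Set G)⁆ := by
  intro T
  induction' hk : Nat.card (S : Subgroup G) -
    Nat.card ((S : Subgroup G) ⊓ Subgroup.normalizer (T : Set G) : Subgroup G)
    using Nat.strong_induction_on with k ih generalizing T
  intro hwp hT
  have hSp : IsPGroup p (S : Subgroup G) := S.2
  set P : Subgroup G := (S : Subgroup G) ⊓ Subgroup.normalizer (T : Set G) with hPdef
  have hPp : IsPGroup p P := hSp.to_le inf_le_left
  have hPs : ¬ p ∣ P.relIndex (Subgroup.normalizer (T : Set G)) := hwp.2 0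
  have hloc' := controlsTransferIn_sylow hW (hloc T hT hwp) inf_le_right hPp hPs
  refine le_trans (le_of_eq hloc') ?_
  by_cases hPS : P = (S : Subgroup G)
  · have hPS' : (S : Subgroup G) ⊓ Subgroup.normalizer (T : Set G) = (S : Subgroup G) := hPS
    rw [hPS']
    exact inf_le_inf_left _ (Subgroup.commutator_mono inf_le_right inf_le_right)
  · have hTP : T ≤ P := le_inf hwp.1 Subgroup.le_normalizer
    have hPne : P ≠ ⊥ := fun h => hT (le_bot_iff.mp (h ▸ hTP))
    have hT1 : W P ≠ ⊥ := (hW P hPp).2.1 hPne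
    have hwp1 : Cfsg.IsWellPlaced p W (S : Subgroup G) (W P) := isWellPlaced_tower_one hW hSp hwp
    have hPle : P ≤ (S : Subgroup G) ⊓ Subgroup.normalizer ((W P : Subgroup G) : Set G) :=
      le_inf inf_le_left (le_normalizer_functor hW hPp)
    obtain ⟨n, hn, hnP⟩ := Fusion.exists_mem_normalizerIn_not_mem (S := (S : Subgroup G)) hSp
      (inf_le_left : P ≤ (S : Subgroup G)) hPS
    have hn' : n ∈ (S : Subgroup G) ⊓ Subgroup.normalizer ((W P : Subgroup G) : Set G) :=
      Subgroup.mem_inf.mpr ⟨(Subgroup.mem_inf.mp hn).1,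
        normalizer_le_normalizer_functor hW hPp (Subgroup.mem_inf.mp hn).2⟩
    have hlt : P < (S : Subgroup G) ⊓ Subgroup.normalizer ((W P : Subgroup G) : Set G) :=
      lt_of_le_of_ne hPle (fun heq => hnP ((SetLike.ext_iff.mp heq n).mpr hn'))
    have hcardlt : Nat.card P <
        Nat.card ((S : Subgroup G) ⊓ Subgroup.normalizer ((W P : Subgroup G) : Set G) : Subgroup G) :=
      Set.ncard_lt_ncard (s := (P : Set G))
        (t := ((S : Subgroup G) ⊓ Subgroup.normalizer ((W P : Subgroup G) : Set G) : Subgroup G))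
        (SetLike.coe_ssubset_coe.mpr hlt) (Set.toFinite _)
    have hle : Nat.card ((S : Subgroup G) ⊓ Subgroup.normalizer ((W P : Subgroup G) : Set G) : Subgroup G) ≤
        Nat.card (S : Subgroup G) := Subgroup.card_le_of_le inf_le_left
    have hk1 : Nat.card (S : Subgroup G) -
        Nat.card ((S : Subgroup G) ⊓ Subgroup.normalizer ((W P : Subgroup G) : Set G) : Subgroup G) < k := by
      omega
    have := ih _ hk1 (W P) rfl hwp1 hT1
    refine le_trans ?_ this
    exact inf_le_inf hPle (Subgroup.commutator_mono inf_le_right inf_le_right)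

/-- `S1962`. -/
theorem controlsTransferIn_top_of_local (S : Sylow p G) (W : Subgroup G → Subgroup G)
    (hW : Cfsg.IsConjugacyFunctor p W)
    (hloc : ∀ T : Subgroup G, T ≠ ⊥ → Cfsg.IsWellPlaced p W (S : Subgroup G) T →
      Cfsg.ControlsTransferIn p W (Subgroup.normalizer ((T : Subgroup G) : Set G))) :
    Cfsg.ControlsTransferIn p W ⊤ := by
  set D : Subgroup G := (S : Subgroup G) ⊓
    ⁅Subgroup.normalizer ((W (S : Subgroup G) : Subgroup G) : Set G),
      Subgroup.normalizer ((W (S : Subgroup G) : Subgroup G) : Set G)⁆ with hD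
  have hchain : ∀ (A : Set G) (g : G),
      ConjChain {T : Subgroup G | Cfsg.IsWellPlaced p W (S : Subgroup G) T} A g →
      ∀ a : G, A = {a} → a ∈ (S : Subgroup G) → a⁻¹ * (g⁻¹ * a * g) ∈ D := by
    intro A g hc
    induction hc with
    | nil A =>
      intro a _ _
      have : a⁻¹ * ((1 : G)⁻¹ * a * 1) = 1 := by group
      rw [this]; exact Subgroup.one_mem _
    | cons A T x g hT hx hAT _ ih =>
      intro a hA haS
      have haT : a ∈ T := hAT (by rw [hA]; exact Set.mem_singleton a)
      have hTS : T ≤ (S : Subgroup G) := hT.1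
      have hxa : x⁻¹ * a * x ∈ T := by
        have := (Subgroup.mem_normalizer_iff.mp (Subgroup.inv_mem _ hx) a).mp haT
        simpa using this
      have hA' : conjR x A = {x⁻¹ * a * x} := by
        rw [hA]; unfold conjR; simp
      have h2 := ih (x⁻¹ * a * x) hA' (hTS hxa)
      have h1 : a⁻¹ * (x⁻¹ * a * x) ∈ D := by
        by_cases hTb : T = ⊥
        · have : a = 1 := by
            rw [hTb] at haT
            exact Subgroup.mem_bot.mp haT
          rw [this]
          have : (1 : G)⁻¹ * (x⁻¹ * 1 * x) = 1 := by group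
          rw [this]; exact Subgroup.one_mem _
        · apply inf_commutator_normalizer_le_of_wellPlaced S hW hloc T hT hTb
          refine Subgroup.mem_inf.mpr ⟨?_, ?_⟩
          · refine Subgroup.mem_inf.mpr ⟨?_, ?_⟩
            · exact (S : Subgroup G).mul_mem ((S : Subgroup G).inv_mem haS) (hTS hxa)
            · exact Subgroup.le_normalizer (T.mul_mem (T.inv_mem haT) hxa)
          · have : a⁻¹ * (x⁻¹ * a * x) = ⁅a⁻¹, x⁻¹⁆ := by
              rw [commutatorElement_def]; group
            rw [this]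
            exact Subgroup.commutator_mem_commutator
              (Subgroup.le_normalizer (T.inv_mem haT)) (Subgroup.inv_mem _ hx)
      have : a⁻¹ * ((x * g)⁻¹ * a * (x * g)) =
          (a⁻¹ * (x⁻¹ * a * x)) * ((x⁻¹ * a * x)⁻¹ * (g⁻¹ * (x⁻¹ * a * x) * g)) := by group
      rw [this]
      exact D.mul_mem h1 h2
  refine ⟨(S : Subgroup G), le_top, S.2, ?_, ?_⟩
  · rw [Subgroup.relIndex_top_right]
    exact S.not_dvd_index
  · apply le_antisymm
    · have hfoc := Subgroup.commutator_inf_eq_focalSubgroup (p := p) (P := S)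
      rw [commutator_def, inf_comm] at hfoc
      rw [hfoc, top_inf_eq, Subgroup.focalSubgroup_def, Subgroup.closure_le]
      rintro g ⟨hgS, x, hxS, u, rfl⟩
      -- `⁅x, u⁆ = x * (u x⁻¹ u⁻¹)`
      have hconj : u * x⁻¹ * u⁻¹ ∈ (S : Subgroup G) := by
        have : u * x⁻¹ * u⁻¹ = x⁻¹ * ⁅x, u⁆ := by rw [commutatorElement_def]; group
        rw [this]
        exact (S : Subgroup G).mul_mem ((S : Subgroup G).inv_mem hxS) hgS
      have hx1 : x⁻¹ ∈ (S : Subgroup G) := (S : Subgroup G).inv_mem hxS
      have hPS : Subgroup.closure ({x⁻¹} : Set G) ≤ (S : Subgroup G) :=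
        (Subgroup.closure_le _).mpr (by rintro _ rfl; exact hx1)
      have hPg : conjR u⁻¹ ((Subgroup.closure ({x⁻¹} : Set G) : Subgroup G) : Set G) ⊆ (S : Subgroup G) := by
        intro y hy
        rw [mem_conjR] at hy
        have hle : Subgroup.closure ({x⁻¹} : Set G) ≤ (S : Subgroup G).map (MulAut.conj u⁻¹).toMonoidHom := by
          rw [Subgroup.closure_le]
          rintro _ rfl
          refine ⟨u * x⁻¹ * u⁻¹, hconj, ?_⟩
          simp [mul_assoc]
        obtain ⟨s, hs, hsy⟩ := hle hy
        have h1 : u⁻¹ * s * u⁻¹⁻¹ = u⁻¹ * y * u⁻¹⁻¹ := hsy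
        have : y = s := (mul_left_cancel (mul_right_cancel h1)).symm
        rw [this]; exact hs
      have hc := (conjChain_wellPlaced S W hW _ u⁻¹ hPS hPg).mono
        (Subgroup.subset_closure (k := ({x⁻¹} : Set G)))
      have := hchain _ _ hc x⁻¹ rfl hx1
      have e : x⁻¹⁻¹ * (u⁻¹⁻¹ * x⁻¹ * u⁻¹) = ⁅x, u⁆ := by rw [commutatorElement_def]; group
      rw [e] at this
      exact this
    · exact inf_le_inf_left _ (Subgroup.commutator_mono le_top le_top)

end Cfsg.Agent.Lead
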