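import Mathlib
import Cfsg.Agent.Lead.ConjFunctorTransfer

set_option autoImplicit false

namespace Cfsg.Agent.Lead

open Cfsg

open scoped commutatorElement

variable {G : Type*} [Group G]

theorem isConjugacyFunctor_id (p : ℕ) :
    Cfsg.IsConjugacyFunctor (G := G) p (fun P => P) :=
  fun _ _ => ⟨le_rfl, fun h => h, fun _ => rfl⟩

/-- Membership form of `conjR` on a subgroup. -/
theorem conjR_mem_map {h x : G} {K : Subgroup G} (hx : x ∈ K) :
    h⁻¹ * x * h ∈ K.map (MulAut.conj h⁻¹).toMonoidHom :=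
  ⟨x, hx, by simp⟩

variable [Finite G] {p : ℕ} [Fact p.Prime]

theorem exists_fullyNormalized_conj (S : Sylow p G) (T : Subgroup G) (hT : T ≤ (S : Subgroup G)) :
    ∃ g : G, T.map (MulAut.conj g).toMonoidHom ≤ (S : Subgroup G) ∧
      ¬ p ∣ ((S : Subgroup G) ⊓ Subgroup.normalizer
        ((T.map (MulAut.conj g).toMonoidHom : Subgroup G) : Set G)).relIndex
        (Subgroup.normalizer ((T.map (MulAut.conj g).toMonoidHom : Subgroup G) : Set G)) := by
  obtain ⟨g, hg⟩ := exists_wellPlaced_conj S (fun P => P) (isConjugacyFunctor_id p) T hT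
  exact ⟨g, hg.1, hg.2 0⟩

theorem familyControlsTransferIn_sylow {𝓦 : Set (Subgroup G → Subgroup G)}
    (h𝓦 : ∀ W ∈ 𝓦, Cfsg.IsConjugacyFunctor p W) {H P : Subgroup G}
    (hc : Cfsg.FamilyControlsTransferIn p 𝓦 H) (hPH : P ≤ H) (hP : IsPGroup p P)
    (hPs : ¬ p ∣ P.relIndex H) :
    P ⊓ ⁅H, H⁆ = ⨆ W ∈ 𝓦, P ⊓ ⁅H ⊓ Subgroup.normalizer ((W P : Subgroup G) : Set G),
      H ⊓ Subgroup.normalizer ((W P : Subgroup G) : Set G)⁆ := by
  obtain ⟨T', hT'H, hT'p, hT's, hctl⟩ := hc
  have hcT := card_eq_ppart_of_relIndex hT'H hT'p hT's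
  have hcP := card_eq_ppart_of_relIndex hPH hP hPs
  obtain ⟨n, hn, hnP⟩ := exists_conj_le_of_card_eq_ppart (p := p) hT'H hcT hPH hP
  have hPT : P.map (MulAut.conj n).toMonoidHom = T' := by
    apply Subgroup.eq_of_le_of_card_ge hnP
    rw [card_map_conj, hcT, hcP]
  have hinj : Function.Injective (MulAut.conj n).toMonoidHom := (MulAut.conj n).injective
  apply Subgroup.map_injective hinj
  have hHn : H.map (MulAut.conj n).toMonoidHom = H := map_conj_eq_self_of_mem hn
  have hWn : ∀ W ∈ 𝓦, (Subgroup.normalizer ((W P : Subgroup G) : Set G)).map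
      (MulAut.conj n).toMonoidHom = Subgroup.normalizer ((W T' : Subgroup G) : Set G) := by
    intro W hW
    rw [← normalizer_map_conj, ← (h𝓦 W hW P hP).2.2 n, hPT]
  rw [Subgroup.map_inf _ _ _ hinj, Subgroup.map_commutator, hPT, hHn, hctl, Subgroup.map_iSup]
  refine iSup_congr fun W => ?_
  rw [Subgroup.map_iSup]
  refine iSup_congr fun hW => ?_
  rw [Subgroup.map_inf _ _ _ hinj, Subgroup.map_commutator, Subgroup.map_inf _ _ _ hinj, hPT,
    hHn, hWn W hW]

/-- The target subgroup of family control of transfer. -/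
def familyTransferTarget (S : Subgroup G) (𝓦 : Set (Subgroup G → Subgroup G)) : Subgroup G :=
  ⨆ W ∈ 𝓦, S ⊓ ⁅Subgroup.normalizer ((W S : Subgroup G) : Set G),
    Subgroup.normalizer ((W S : Subgroup G) : Set G)⁆

theorem familyTransfer_stepB (S : Sylow p G) (𝓦 : Set (Subgroup G → Subgroup G))
    (h𝓦 : ∀ W ∈ 𝓦, Cfsg.IsConjugacyFunctor p W)
    (hloc : ∀ T : Subgroup G, T ≤ (S : Subgroup G) → T ≠ ⊥ →
      ¬ p ∣ ((S : Subgroup G) ⊓ Subgroup.normalizer ((T : Subgroup G) : Set G)).relIndex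
        (Subgroup.normalizer ((T : Subgroup G) : Set G)) →
      Cfsg.FamilyControlsTransferIn p 𝓦 (Subgroup.normalizer ((T : Subgroup G) : Set G)))
    (n : ℕ)
    (hA : ∀ Q : Subgroup G, Q ≤ (S : Subgroup G) → n < Nat.card Q →
      ∀ g : G, conjR g (Q : Set G) ⊆ (S : Subgroup G) → ∀ a ∈ Q,
        a⁻¹ * (g⁻¹ * a * g) ∈ familyTransferTarget (S : Subgroup G) 𝓦) :
    ∀ B : Subgroup G, B ≤ (S : Subgroup G) → B ≠ ⊥ →
      ¬ p ∣ ((S : Subgroup G) ⊓ Subgroup.normalizer ((B : Subgroup G) : Set G)).relIndex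
        (Subgroup.normalizer ((B : Subgroup G) : Set G)) →
      n ≤ Nat.card ((S : Subgroup G) ⊓ Subgroup.normalizer (B : Set G) : Subgroup G) →
      ((S : Subgroup G) ⊓ Subgroup.normalizer (B : Set G)) ⊓
          ⁅Subgroup.normalizer (B : Set G), Subgroup.normalizer (B : Set G)⁆ ≤
        familyTransferTarget (S : Subgroup G) 𝓦 := by
  intro B
  induction' hk : Nat.card (S : Subgroup G) -
    Nat.card ((S : Subgroup G) ⊓ Subgroup.normalizer (B : Set G) : Subgroup G)
    using Nat.strong_induction_on with k ih generalizing B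
  intro hBS hB hsyl hn
  have hSp : IsPGroup p (S : Subgroup G) := S.2
  have hPp : IsPGroup p ((S : Subgroup G) ⊓ Subgroup.normalizer (B : Set G) : Subgroup G) :=
    hSp.to_le inf_le_left
  have hloc' := familyControlsTransferIn_sylow h𝓦 (hloc B hBS hB hsyl) inf_le_right hPp hsyl
  refine le_trans (le_of_eq hloc') ?_
  refine iSup₂_le fun W hW => ?_
  by_cases hPS : (S : Subgroup G) ⊓ Subgroup.normalizer (B : Set G) = (S : Subgroup G)
  · rw [hPS]
    refine le_trans ?_ (le_iSup₂ (f := fun W (_ : W ∈ 𝓦) => (S : Subgroup G) ⊓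
      ⁅Subgroup.normalizer ((W (S : Subgroup G) : Subgroup G) : Set G),
        Subgroup.normalizer ((W (S : Subgroup G) : Subgroup G) : Set G)⁆) W hW)
    exact inf_le_inf_left _ (Subgroup.commutator_mono inf_le_right inf_le_right)
  · have hWf := h𝓦 W hW
    have hBP : B ≤ (S : Subgroup G) ⊓ Subgroup.normalizer (B : Set G) :=
      le_inf hBS Subgroup.le_normalizer
    have hPne : (S : Subgroup G) ⊓ Subgroup.normalizer (B : Set G) ≠ ⊥ :=
      fun h => hB (le_bot_iff.mp (h ▸ hBP))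
    have hT1 : W ((S : Subgroup G) ⊓ Subgroup.normalizer (B : Set G)) ≠ ⊥ :=
      (hWf _ hPp).2.1 hPne
    have hT1S : W ((S : Subgroup G) ⊓ Subgroup.normalizer (B : Set G)) ≤ (S : Subgroup G) :=
      le_trans (hWf _ hPp).1 inf_le_left
    have hPle : (S : Subgroup G) ⊓ Subgroup.normalizer (B : Set G) ≤ (S : Subgroup G) ⊓
        Subgroup.normalizer
          ((W ((S : Subgroup G) ⊓ Subgroup.normalizer (B : Set G)) : Subgroup G) : Set G) :=
      le_inf inf_le_left (le_normalizer_functor hWf hPp)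
    obtain ⟨m, hm, hmP⟩ := Fusion.exists_mem_normalizerIn_not_mem (S := (S : Subgroup G)) hSp
      (inf_le_left : (S : Subgroup G) ⊓ Subgroup.normalizer (B : Set G) ≤ (S : Subgroup G)) hPS
    have hm' : m ∈ (S : Subgroup G) ⊓ Subgroup.normalizer
        ((W ((S : Subgroup G) ⊓ Subgroup.normalizer (B : Set G)) : Subgroup G) : Set G) :=
      Subgroup.mem_inf.mpr ⟨(Subgroup.mem_inf.mp hm).1,
        normalizer_le_normalizer_functor hWf hPp (Subgroup.mem_inf.mp hm).2⟩
    have hlt : (S : Subgroup G) ⊓ Subgroup.normalizer (B : Set G) < (S : Subgroup G) ⊓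
        Subgroup.normalizer
          ((W ((S : Subgroup G) ⊓ Subgroup.normalizer (B : Set G)) : Subgroup G) : Set G) :=
      lt_of_le_of_ne hPle (fun heq => hmP ((SetLike.ext_iff.mp heq m).mpr hm'))
    have hcardlt : Nat.card ((S : Subgroup G) ⊓ Subgroup.normalizer (B : Set G) : Subgroup G) <
        Nat.card ((S : Subgroup G) ⊓ Subgroup.normalizer
          ((W ((S : Subgroup G) ⊓ Subgroup.normalizer (B : Set G)) : Subgroup G) : Set G) :
            Subgroup G) :=
      Set.ncard_lt_ncard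
        (s := (((S : Subgroup G) ⊓ Subgroup.normalizer (B : Set G) : Subgroup G) : Set G))
        (t := ((S : Subgroup G) ⊓ Subgroup.normalizer
          ((W ((S : Subgroup G) ⊓ Subgroup.normalizer (B : Set G)) : Subgroup G) : Set G) :
            Subgroup G))
        (SetLike.coe_ssubset_coe.mpr hlt) (Set.toFinite _)
    -- abbreviations
    obtain ⟨T1, hT1def⟩ : ∃ T1 : Subgroup G,
        T1 = W ((S : Subgroup G) ⊓ Subgroup.normalizer (B : Set G)) := ⟨_, rfl⟩
    rw [← hT1def] at hT1 hT1S hPle hcardlt ⊢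
    obtain ⟨e, heS, hesyl⟩ := exists_fullyNormalized_conj S T1 hT1S
    obtain ⟨U, hUdef⟩ : ∃ U : Subgroup G, U = T1.map (MulAut.conj e).toMonoidHom := ⟨_, rfl⟩
    rw [← hUdef] at heS hesyl
    obtain ⟨h, hTU, hQS⟩ := exists_conjR_normalizer_le S hesyl e hUdef.symm
    have hUne : U ≠ ⊥ := by
      intro hU
      apply hT1
      rw [hU] at hUdef
      exact (Subgroup.map_eq_bot_iff_of_injective _ (MulAut.conj e).injective).mp hUdef.symm
    have hUmap : T1.map (MulAut.conj h⁻¹).toMonoidHom = U := by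
      apply SetLike.coe_injective
      rw [← conjR_coe, hTU]
    have hNU : (Subgroup.normalizer (T1 : Set G)).map (MulAut.conj h⁻¹).toMonoidHom =
        Subgroup.normalizer (U : Set G) := by
      rw [← normalizer_map_conj, hUmap]
    have hQU : ((S : Subgroup G) ⊓ Subgroup.normalizer (T1 : Set G)).map
        (MulAut.conj h⁻¹).toMonoidHom ≤ (S : Subgroup G) ⊓ Subgroup.normalizer (U : Set G) := by
      refine le_inf ?_ ?_
      · intro y hy
        apply hQS
        rw [conjR_coe]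
        exact hy
      · rw [← hNU]
        exact Subgroup.map_mono inf_le_right
    have hcardU : Nat.card ((S : Subgroup G) ⊓ Subgroup.normalizer (T1 : Set G) : Subgroup G) ≤
        Nat.card ((S : Subgroup G) ⊓ Subgroup.normalizer (U : Set G) : Subgroup G) := by
      rw [← card_map_conj _ h⁻¹]
      exact Subgroup.card_le_of_le hQU
    have hle : Nat.card ((S : Subgroup G) ⊓ Subgroup.normalizer (U : Set G) : Subgroup G) ≤
        Nat.card (S : Subgroup G) := Subgroup.card_le_of_le inf_le_left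
    have hk1 : Nat.card (S : Subgroup G) -
        Nat.card ((S : Subgroup G) ⊓ Subgroup.normalizer (U : Set G) : Subgroup G) < k := by
      omega
    have hih := ih _ hk1 U rfl heS hUne hesyl (by omega)
    intro x hx
    have hx1 := (Subgroup.mem_inf.mp hx).1
    have hx2 := (Subgroup.mem_inf.mp hx).2
    have hxQ : x ∈ (S : Subgroup G) ⊓ Subgroup.normalizer (T1 : Set G) := hPle hx1
    have hxc : x ∈ ⁅Subgroup.normalizer (T1 : Set G), Subgroup.normalizer (T1 : Set G)⁆ :=
      Subgroup.commutator_mono inf_le_right inf_le_right hx2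
    have hy1 : h⁻¹ * x * h ∈ (S : Subgroup G) ⊓ Subgroup.normalizer (U : Set G) :=
      hQU (conjR_mem_map hxQ)
    have hy2 : h⁻¹ * x * h ∈ ⁅Subgroup.normalizer (U : Set G), Subgroup.normalizer (U : Set G)⁆ := by
      rw [← hNU, ← Subgroup.map_commutator]
      exact conjR_mem_map hxc
    have hyD := hih (Subgroup.mem_inf.mpr ⟨hy1, hy2⟩)
    have hxyD := hA _ inf_le_left (by omega) h hQS x hxQ
    have : x = (h⁻¹ * x * h) * (x⁻¹ * (h⁻¹ * x * h))⁻¹ := by group
    rw [this]
    exact Subgroup.mul_mem _ hyD (Subgroup.inv_mem _ hxyD)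

theorem familyTransfer_stepA (S : Sylow p G) (𝓦 : Set (Subgroup G → Subgroup G))
    (h𝓦 : ∀ W ∈ 𝓦, Cfsg.IsConjugacyFunctor p W)
    (hloc : ∀ T : Subgroup G, T ≤ (S : Subgroup G) → T ≠ ⊥ →
      ¬ p ∣ ((S : Subgroup G) ⊓ Subgroup.normalizer ((T : Subgroup G) : Set G)).relIndex
        (Subgroup.normalizer ((T : Subgroup G) : Set G)) →
      Cfsg.FamilyControlsTransferIn p 𝓦 (Subgroup.normalizer ((T : Subgroup G) : Set G))) :
    ∀ P : Subgroup G, P ≤ (S : Subgroup G) →
      ∀ g : G, conjR g (P : Set G) ⊆ (S : Subgroup G) → ∀ a ∈ P,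
        a⁻¹ * (g⁻¹ * a * g) ∈ familyTransferTarget (S : Subgroup G) 𝓦 := by
  intro P
  induction' hk : Nat.card (S : Subgroup G) - Nat.card P using Nat.strong_induction_on with k ih
    generalizing P
  intro hPS g hPg a ha
  have hSp : IsPGroup p (S : Subgroup G) := S.2
  have hB := familyTransfer_stepB S 𝓦 h𝓦 hloc (Nat.card P) (fun Q hQS hlt => by
    have hle : Nat.card Q ≤ Nat.card (S : Subgroup G) := Subgroup.card_le_of_le hQS
    exact ih _ (by omega) Q rfl hQS)
  by_cases hPbot : P = ⊥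
  · have ha1 : a = 1 := by
      rw [hPbot] at ha
      exact Subgroup.mem_bot.mp ha
    rw [ha1]
    have : (1 : G)⁻¹ * (g⁻¹ * 1 * g) = 1 := by group
    rw [this]
    exact Subgroup.one_mem _
  by_cases hPeq : P = (S : Subgroup G)
  · -- `P = S`
    rw [hPeq] at hPg ha hPbot
    have hgN : g ∈ Subgroup.normalizer ((S : Subgroup G) : Set G) :=
      mem_normalizer_of_conjR_subset hPg
    obtain ⟨c, hcS, hcsyl⟩ := exists_fullyNormalized_conj S (S : Subgroup G) le_rfl
    have hcS' : (S : Subgroup G).map (MulAut.conj c).toMonoidHom = (S : Subgroup G) := by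
      apply Subgroup.eq_of_le_of_card_ge hcS
      rw [card_map_conj]
    rw [hcS'] at hcsyl
    have hSN : (S : Subgroup G) ≤ (S : Subgroup G) ⊓
        Subgroup.normalizer ((S : Subgroup G) : Set G) := le_inf le_rfl Subgroup.le_normalizer
    have hcard : Nat.card P ≤ Nat.card ((S : Subgroup G) ⊓
        Subgroup.normalizer ((S : Subgroup G) : Set G) : Subgroup G) := by
      rw [hPeq]
      exact Subgroup.card_le_of_le hSN
    apply hB (S : Subgroup G) le_rfl hPbot hcsyl hcard
    refine Subgroup.mem_inf.mpr ⟨hSN ?_, ?_⟩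
    · have hgS : g⁻¹ * a * g ∈ (S : Subgroup G) := hPg ⟨a, ha, rfl⟩
      exact (S : Subgroup G).mul_mem ((S : Subgroup G).inv_mem ha) hgS
    · have : a⁻¹ * (g⁻¹ * a * g) = ⁅a⁻¹, g⁻¹⁆ := by
        rw [commutatorElement_def]; group
      rw [this]
      exact Subgroup.commutator_mem_commutator
        (Subgroup.le_normalizer ((S : Subgroup G).inv_mem ha)) (Subgroup.inv_mem _ hgN)
  · -- general case
    obtain ⟨c, hcS, hcsyl⟩ := exists_fullyNormalized_conj S P hPS
    obtain ⟨U, hUdef⟩ : ∃ U : Subgroup G, U = P.map (MulAut.conj c).toMonoidHom := ⟨_, rfl⟩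
    rw [← hUdef] at hcS hcsyl
    have hc : P.map (MulAut.conj c).toMonoidHom = U := hUdef.symm
    have hUcard : Nat.card U = Nat.card P := by rw [hUdef, card_map_conj]
    have hUne : U ≠ ⊥ := by
      intro hU
      apply hPbot
      rw [hU] at hUdef
      exact (Subgroup.map_eq_bot_iff_of_injective _ (MulAut.conj c).injective).mp hUdef.symm
    -- `N_S(Q) > Q`
    have hlt : ∀ Q : Subgroup G, Q ≤ (S : Subgroup G) → Nat.card Q = Nat.card P →
        Nat.card P < Nat.card ((S : Subgroup G) ⊓ Subgroup.normalizer (Q : Set G) : Subgroup G) := by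
      intro Q hQS hQc
      have hQne : Q ≠ (S : Subgroup G) := by
        intro hQ
        apply hPeq
        apply Subgroup.eq_of_le_of_card_ge hPS
        rw [← hQc, hQ]
      obtain ⟨n, hn, hnQ⟩ := Fusion.exists_mem_normalizerIn_not_mem (S := (S : Subgroup G)) hSp
        hQS hQne
      have hle : Q ≤ (S : Subgroup G) ⊓ Subgroup.normalizer (Q : Set G) :=
        le_inf hQS Subgroup.le_normalizer
      have hlt : Q < (S : Subgroup G) ⊓ Subgroup.normalizer (Q : Set G) :=
        lt_of_le_of_ne hle (fun heq => hnQ (heq ▸ hn))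
      rw [← hQc]
      exact Set.ncard_lt_ncard (s := (Q : Set G))
        (t := ((S : Subgroup G) ⊓ Subgroup.normalizer (Q : Set G) : Subgroup G))
        (SetLike.coe_ssubset_coe.mpr hlt) (Set.toFinite _)
    -- first leg
    obtain ⟨h1, h1P, h1N⟩ := exists_conjR_normalizer_le S hcsyl c hc
    have hk1 : Nat.card (S : Subgroup G) -
        Nat.card ((S : Subgroup G) ⊓ Subgroup.normalizer (P : Set G) : Subgroup G) < k := by
      have := hlt P hPS rfl
      have hle : Nat.card ((S : Subgroup G) ⊓ Subgroup.normalizer (P : Set G) : Subgroup G) ≤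
          Nat.card (S : Subgroup G) := Subgroup.card_le_of_le inf_le_left
      omega
    have c1 := ih _ hk1 _ rfl inf_le_left h1 h1N a (le_inf hPS Subgroup.le_normalizer ha)
    -- second leg, for `P^g`
    obtain ⟨Pg, hPgdef⟩ : ∃ Pg : Subgroup G, Pg = P.map (MulAut.conj g⁻¹).toMonoidHom := ⟨_, rfl⟩
    have hPgS : Pg ≤ (S : Subgroup G) := by
      intro y hy
      apply hPg
      rw [conjR_coe, ← hPgdef]
      exact hy
    have hPgc : Nat.card Pg = Nat.card P := by rw [hPgdef, card_map_conj]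
    have hcg : Pg.map (MulAut.conj (c * g)).toMonoidHom = U := by
      rw [hPgdef, Subgroup.map_map, ← hc]
      congr 1
      ext y
      simp [mul_assoc]
    obtain ⟨k1, k1P, k1N⟩ := exists_conjR_normalizer_le S hcsyl (c * g) hcg
    have hk2 : Nat.card (S : Subgroup G) -
        Nat.card ((S : Subgroup G) ⊓ Subgroup.normalizer (Pg : Set G) : Subgroup G) < k := by
      have := hlt Pg hPgS hPgc
      have hle : Nat.card ((S : Subgroup G) ⊓ Subgroup.normalizer (Pg : Set G) : Subgroup G) ≤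
          Nat.card (S : Subgroup G) := Subgroup.card_le_of_le inf_le_left
      omega
    have hdPg : g⁻¹ * a * g ∈ Pg := by
      rw [hPgdef]
      exact conjR_mem_map ha
    have c2 := ih _ hk2 _ rfl inf_le_left k1 k1N (g⁻¹ * a * g)
      (le_inf hPgS Subgroup.le_normalizer hdPg)
    -- middle step
    have hPgR : conjR g (P : Set G) = (Pg : Set G) := by rw [conjR_coe, hPgdef]
    have hm : conjR (h1⁻¹ * g * k1) (U : Set G) = U := by
      rw [conjR_mul, conjR_mul, ← h1P, conjR_inv_conjR, hPgR, k1P, h1P]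
    have hmN : h1⁻¹ * g * k1 ∈ Subgroup.normalizer (U : Set G) :=
      mem_normalizer_of_conjR_subset hm.le
    have hbU : h1⁻¹ * a * h1 ∈ U := by
      have : h1⁻¹ * a * h1 ∈ conjR h1 (P : Set G) := ⟨a, ha, rfl⟩
      rw [h1P] at this
      exact this
    have hUN : U ≤ (S : Subgroup G) ⊓ Subgroup.normalizer (U : Set G) :=
      le_inf hcS Subgroup.le_normalizer
    have hcardU : Nat.card P ≤
        Nat.card ((S : Subgroup G) ⊓ Subgroup.normalizer (U : Set G) : Subgroup G) := by
      rw [← hUcard]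
      exact Subgroup.card_le_of_le hUN
    have hBU := hB U hcS hUne hcsyl hcardU
    -- `b⁻¹ b^m ∈ D`
    have cm : (h1⁻¹ * a * h1)⁻¹ * ((h1⁻¹ * g * k1)⁻¹ * (h1⁻¹ * a * h1) * (h1⁻¹ * g * k1)) ∈
        familyTransferTarget (S : Subgroup G) 𝓦 := by
      apply hBU
      have hbm : (h1⁻¹ * g * k1)⁻¹ * (h1⁻¹ * a * h1) * (h1⁻¹ * g * k1) ∈ U := by
        have := (Subgroup.mem_normalizer_iff.mp (Subgroup.inv_mem _ hmN) (h1⁻¹ * a * h1)).mp hbU
        simpa using this
      refine Subgroup.mem_inf.mpr ⟨hUN (U.mul_mem (U.inv_mem hbU) hbm), ?_⟩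
      have : (h1⁻¹ * a * h1)⁻¹ * ((h1⁻¹ * g * k1)⁻¹ * (h1⁻¹ * a * h1) * (h1⁻¹ * g * k1)) =
          ⁅(h1⁻¹ * a * h1)⁻¹, (h1⁻¹ * g * k1)⁻¹⁆ := by
        rw [commutatorElement_def]; group
      rw [this]
      exact Subgroup.commutator_mem_commutator
        (Subgroup.le_normalizer (U.inv_mem hbU)) (Subgroup.inv_mem _ hmN)
    have : a⁻¹ * (g⁻¹ * a * g) = (a⁻¹ * (h1⁻¹ * a * h1)) *
        ((h1⁻¹ * a * h1)⁻¹ * ((h1⁻¹ * g * k1)⁻¹ * (h1⁻¹ * a * h1) * (h1⁻¹ * g * k1))) *
        ((g⁻¹ * a * g)⁻¹ * (k1⁻¹ * (g⁻¹ * a * g) * k1))⁻¹ := by group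
    rw [this]
    exact Subgroup.mul_mem _ (Subgroup.mul_mem _ c1 cm) (Subgroup.inv_mem _ c2)

/-- `S1960`. -/
theorem familyControlsTransferIn_top_of_local (S : Sylow p G)
    (𝓦 : Set (Subgroup G → Subgroup G))
    (h𝓦 : ∀ W ∈ 𝓦, Cfsg.IsConjugacyFunctor p W)
    (hloc : ∀ T : Subgroup G, T ≤ (S : Subgroup G) → T ≠ ⊥ →
      ¬ p ∣ ((S : Subgroup G) ⊓ Subgroup.normalizer ((T : Subgroup G) : Set G)).relIndex
        (Subgroup.normalizer ((T : Subgroup G) : Set G)) →
      Cfsg.FamilyControlsTransferIn p 𝓦 (Subgroup.normalizer ((T : Subgroup G) : Set G))) :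
    Cfsg.FamilyControlsTransferIn p 𝓦 ⊤ := by
  refine ⟨(S : Subgroup G), le_top, S.2, ?_, ?_⟩
  · rw [Subgroup.relIndex_top_right]
    exact S.not_dvd_index
  · apply le_antisymm
    · have hfoc := Subgroup.commutator_inf_eq_focalSubgroup (p := p) (P := S)
      rw [commutator_def, inf_comm] at hfoc
      have hD : familyTransferTarget (S : Subgroup G) 𝓦 = ⨆ W ∈ 𝓦, (S : Subgroup G) ⊓
          ⁅(⊤ : Subgroup G) ⊓ Subgroup.normalizer ((W (S : Subgroup G) : Subgroup G) : Set G),
            (⊤ : Subgroup G) ⊓ Subgroup.normalizer ((W (S : Subgroup G) : Subgroup G) : Set G)⁆ := by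
        unfold familyTransferTarget
        simp only [top_inf_eq]
      rw [← hD, hfoc, Subgroup.focalSubgroup_def, Subgroup.closure_le]
      rintro g ⟨hgS, x, hxS, u, rfl⟩
      have hconj : u * x⁻¹ * u⁻¹ ∈ (S : Subgroup G) := by
        have : u * x⁻¹ * u⁻¹ = x⁻¹ * ⁅x, u⁆ := by rw [commutatorElement_def]; group
        rw [this]
        exact (S : Subgroup G).mul_mem ((S : Subgroup G).inv_mem hxS) hgS
      have hx1 : x⁻¹ ∈ (S : Subgroup G) := (S : Subgroup G).inv_mem hxS
      have hPS : Subgroup.closure ({x⁻¹} : Set G) ≤ (S : Subgroup G) :=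
        (Subgroup.closure_le _).mpr (by rintro _ rfl; exact hx1)
      have hPg : conjR u⁻¹ ((Subgroup.closure ({x⁻¹} : Set G) : Subgroup G) : Set G) ⊆
          (S : Subgroup G) := by
        intro y hy
        rw [mem_conjR] at hy
        have hle : Subgroup.closure ({x⁻¹} : Set G) ≤
            (S : Subgroup G).map (MulAut.conj u⁻¹).toMonoidHom := by
          rw [Subgroup.closure_le]
          rintro _ rfl
          refine ⟨u * x⁻¹ * u⁻¹, hconj, ?_⟩
          simp [mul_assoc]
        obtain ⟨s, hs, hsy⟩ := hle hy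
        have h1 : u⁻¹ * s * u⁻¹⁻¹ = u⁻¹ * y * u⁻¹⁻¹ := hsy
        have : y = s := (mul_left_cancel (mul_right_cancel h1)).symm
        rw [this]; exact hs
      have := familyTransfer_stepA S 𝓦 h𝓦 hloc _ hPS u⁻¹ hPg x⁻¹
        (Subgroup.subset_closure (Set.mem_singleton _))
      have e : x⁻¹⁻¹ * (u⁻¹⁻¹ * x⁻¹ * u⁻¹) = ⁅x, u⁆ := by rw [commutatorElement_def]; group
      rw [e] at this
      exact this
    · refine iSup₂_le fun W _ => ?_
      exact inf_le_inf_left _ (Subgroup.commutator_mono le_top le_top)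

end Cfsg.Agent.Lead
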