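import Mathlib
import Cfsg.Agent.Lead.FamilyTransfer

set_option autoImplicit false

namespace Cfsg.Agent.Lead

open Cfsg

variable {G : Type*} [Group G]

/-- Chains of right conjugations by elements of `N`, all intermediate sets staying inside `T`. -/
inductive FChain (N : Set G) (T : Set G) : Set G → G → Prop
  | nil (A : Set G) : A ⊆ T → FChain N T A 1
  | cons (A : Set G) (x g : G) : x ∈ N → A ⊆ T → FChain N T (conjR x A) g →
      FChain N T A (x * g)

section chain

variable {N T : Set G}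

theorem FChain.subset_left {A : Set G} {g : G} (h : FChain N T A g) : A ⊆ T := by
  cases h with
  | nil _ h => exact h
  | cons _ _ _ _ h _ => exact h

theorem FChain.subset_right {A : Set G} {g : G} (h : FChain N T A g) : conjR g A ⊆ T := by
  induction h with
  | nil A h => rwa [conjR_one]
  | cons A x g _ _ _ ih => rwa [conjR_mul]

theorem FChain.mono {A B : Set G} {g : G} (h : FChain N T B g) (hAB : A ⊆ B) :
    FChain N T A g := by
  induction h generalizing A with
  | nil B hB => exact FChain.nil A (hAB.trans hB)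
  | cons B x g hx hB _ ih =>
    exact FChain.cons A x g hx (hAB.trans hB) (ih (conjR_mono hAB))

theorem FChain.append {A : Set G} {g h : G} (h1 : FChain N T A g)
    (h2 : FChain N T (conjR g A) h) : FChain N T A (g * h) := by
  induction h1 with
  | nil A _ =>
    rw [conjR_one] at h2
    rwa [one_mul]
  | cons A x g hx hA _ ih =>
    rw [conjR_mul] at h2
    rw [mul_assoc]
    exact FChain.cons A x (g * h) hx hA (ih h2)

theorem FChain.single {A : Set G} {x : G} (hx : x ∈ N) (hA : A ⊆ T) (hxA : conjR x A ⊆ T) :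
    FChain N T A x := by
  have := FChain.cons A x 1 hx hA (FChain.nil _ hxA)
  rwa [mul_one] at this

theorem FChain.reverse (hN : ∀ x ∈ N, x⁻¹ ∈ N) {A : Set G} {g : G} (h : FChain N T A g) :
    FChain N T (conjR g A) g⁻¹ := by
  induction h with
  | nil A hA =>
    rw [inv_one, conjR_one]
    exact FChain.nil _ hA
  | cons A x g hx hA hc ih =>
    rw [conjR_mul, mul_inv_rev]
    apply FChain.append ih
    rw [conjR_inv_conjR]
    apply FChain.single (hN x hx) hc.subset_left
    rw [conjR_inv_conjR]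
    exact hA

theorem FChain.exists_fin {A : Set G} {g : G} (h : FChain N T A g) :
    ∃ (n : ℕ) (c : Fin (n + 1) → G), c 0 = 1 ∧
      (∀ i : Fin n, (c i.succ * (c i.castSucc)⁻¹)⁻¹ ∈ N) ∧
      (∀ i : Fin (n + 1), (fun a => c i * a * (c i)⁻¹) '' A ⊆ T) ∧
      c (Fin.last n) = g⁻¹ := by
  induction h with
  | nil A hA =>
    refine ⟨0, fun _ => 1, rfl, fun i => i.elim0, ?_, by simp⟩
    intro i
    simpa using hA
  | cons A x g hx hA hc ih =>
    obtain ⟨n, c, hc0, hsteps, hsets, hlast⟩ := ih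
    refine ⟨n + 1, Fin.cons 1 (fun i => c i * x⁻¹), ?_, ?_, ?_, ?_⟩
    · rfl
    · intro i
      refine Fin.cases ?_ (fun j => ?_) i
      · have h0 : (Fin.cons 1 (fun i => c i * x⁻¹) : Fin (n + 1 + 1) → G)
            (Fin.castSucc (0 : Fin (n + 1))) = 1 := rfl
        rw [Fin.cons_succ, h0, hc0]
        simpa using hx
      · have h1 : (Fin.succ j).castSucc = (j.castSucc).succ := rfl
        rw [h1, Fin.cons_succ, Fin.cons_succ]
        have := hsteps j
        have e : c j.succ * x⁻¹ * (c j.castSucc * x⁻¹)⁻¹ = c j.succ * (c j.castSucc)⁻¹ := by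
          group
        rw [e]
        exact this
    · intro i
      refine Fin.cases ?_ (fun j => ?_) i
      · rw [Fin.cons_zero]
        simpa using hA
      · rw [Fin.cons_succ]
        rintro _ ⟨a, ha, rfl⟩
        apply hsets j
        refine ⟨x⁻¹ * a * x, ⟨a, ha, rfl⟩, ?_⟩
        group
    · have h1 : Fin.last (n + 1) = (Fin.last n).succ := rfl
      rw [h1, Fin.cons_succ, hlast]
      group

theorem FChain.of_fin (hN : ∀ x ∈ N, x⁻¹ ∈ N) :
    ∀ (n : ℕ) (A : Set G) (c : Fin (n + 1) → G), c 0 = 1 →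
      (∀ i : Fin n, c i.succ * (c i.castSucc)⁻¹ ∈ N) →
      (∀ i : Fin (n + 1), (fun a => c i * a * (c i)⁻¹) '' A ⊆ T) →
      FChain N T A (c (Fin.last n))⁻¹ := by
  intro n
  induction n with
  | zero =>
    intro A c hc0 _ hsets
    have h0 : c (Fin.last 0) = 1 := hc0
    rw [h0, inv_one]
    apply FChain.nil
    have := hsets 0
    rw [hc0] at this
    simpa using this
  | succ n ih =>
    intro A c hc0 hsteps hsets
    have hc1 : c (Fin.succ 0) ∈ N := by
      have := hsteps 0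
      have h0 : c (Fin.castSucc (0 : Fin (n + 1))) = 1 := hc0
      rw [h0] at this
      simpa using this
    have hx : (c (Fin.succ 0))⁻¹ ∈ N := hN _ hc1
    have hA : A ⊆ T := by
      have := hsets 0
      rw [hc0] at this
      simpa using this
    have key := ih (conjR (c (Fin.succ 0))⁻¹ A) (fun i => c i.succ * (c (Fin.succ 0))⁻¹)
      (by simp) ?_ ?_
    · have h2 := FChain.cons A (c (Fin.succ 0))⁻¹ _ hx hA key
      have e : (c (Fin.last (n + 1)))⁻¹ =
          (c (Fin.succ 0))⁻¹ * (c (Fin.last n).succ * (c (Fin.succ 0))⁻¹)⁻¹ := by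
        rw [Fin.succ_last]
        group
      rw [e]
      exact h2
    · intro i
      have := hsteps i.succ
      have e : c i.succ.succ * (c (Fin.succ 0))⁻¹ * (c i.castSucc.succ * (c (Fin.succ 0))⁻¹)⁻¹ =
          c i.succ.succ * (c i.succ.castSucc)⁻¹ := by
        rw [Fin.succ_castSucc]
        group
      rw [e]
      exact this
    · intro i
      rintro _ ⟨_, ⟨a, ha, rfl⟩, rfl⟩
      have := hsets i.succ ⟨a, ha, rfl⟩
      have e : c i.succ * (c (Fin.succ 0))⁻¹ * ((c (Fin.succ 0))⁻¹⁻¹ * a * (c (Fin.succ 0))⁻¹) *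
          (c i.succ * (c (Fin.succ 0))⁻¹)⁻¹ = c i.succ * a * (c i.succ)⁻¹ := by
        group
      beta_reduce
      rw [e]
      exact this

end chain

/-- The elements allowed as steps: the union of the `N_H(W T)`, `W ∈ 𝓦`. -/
def fusionSteps (𝓦 : Set (Subgroup G → Subgroup G)) (H T : Subgroup G) : Set G :=
  {x | ∃ W ∈ 𝓦, x ∈ H ⊓ Subgroup.normalizer ((W T : Subgroup G) : Set G)}

theorem fusionSteps_inv {𝓦 : Set (Subgroup G → Subgroup G)} {H T : Subgroup G} :
    ∀ x ∈ fusionSteps 𝓦 H T, x⁻¹ ∈ fusionSteps 𝓦 H T := by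
  rintro x ⟨W, hW, hx⟩
  exact ⟨W, hW, Subgroup.inv_mem _ hx⟩

/-- The relation "conjugation by `g` on `A` is induced by a chain". -/
def FRel (𝓦 : Set (Subgroup G → Subgroup G)) (S : Subgroup G) (A : Set G) (g : G) : Prop :=
  ∃ g' : G, FChain (fusionSteps 𝓦 ⊤ S) (S : Set G) A g' ∧ ∀ a ∈ A, g'⁻¹ * a * g' = g⁻¹ * a * g

section rel

variable {𝓦 : Set (Subgroup G → Subgroup G)} {S : Subgroup G}

theorem conjR_congr {A : Set G} {g g' : G} (h : ∀ a ∈ A, g'⁻¹ * a * g' = g⁻¹ * a * g) :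
    conjR g' A = conjR g A := by
  unfold conjR
  exact Set.image_congr h

theorem FRel.mono {A B : Set G} {g : G} (h : FRel 𝓦 S B g) (hAB : A ⊆ B) : FRel 𝓦 S A g := by
  obtain ⟨g', hc, hag⟩ := h
  exact ⟨g', hc.mono hAB, fun a ha => hag a (hAB ha)⟩

theorem FRel.of_agree {A : Set G} {g h : G} (hr : FRel 𝓦 S A g)
    (hag : ∀ a ∈ A, g⁻¹ * a * g = h⁻¹ * a * h) : FRel 𝓦 S A h := by
  obtain ⟨g', hc, hag'⟩ := hr
  exact ⟨g', hc, fun a ha => (hag' a ha).trans (hag a ha)⟩

theorem FRel.refl {A : Set G} (hA : A ⊆ S) : FRel 𝓦 S A 1 :=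
  ⟨1, FChain.nil A hA, fun _ _ => rfl⟩

theorem FRel.step {A : Set G} {x : G} {W : Subgroup G → Subgroup G} (hW : W ∈ 𝓦)
    (hx : x ∈ Subgroup.normalizer ((W S : Subgroup G) : Set G)) (hA : A ⊆ S)
    (hxA : conjR x A ⊆ S) : FRel 𝓦 S A x :=
  ⟨x, FChain.single ⟨W, hW, Subgroup.mem_inf.mpr ⟨Subgroup.mem_top x, hx⟩⟩ hA hxA,
    fun _ _ => rfl⟩

theorem FRel.comp {A : Set G} {g h : G} (h1 : FRel 𝓦 S A g) (h2 : FRel 𝓦 S (conjR g A) h) :
    FRel 𝓦 S A (g * h) := by
  obtain ⟨g', hc1, hag1⟩ := h1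
  obtain ⟨h', hc2, hag2⟩ := h2
  rw [← conjR_congr hag1] at hc2
  refine ⟨g' * h', hc1.append hc2, ?_⟩
  intro a ha
  have e1 : (g' * h')⁻¹ * a * (g' * h') = h'⁻¹ * (g'⁻¹ * a * g') * h' := by group
  have e2 : (g * h)⁻¹ * a * (g * h) = h⁻¹ * (g⁻¹ * a * g) * h := by group
  rw [e1, e2, hag1 a ha]
  exact hag2 _ ⟨a, ha, rfl⟩

theorem FRel.symm {A : Set G} {g : G} (h1 : FRel 𝓦 S A g) : FRel 𝓦 S (conjR g A) g⁻¹ := by
  obtain ⟨g', hc1, hag1⟩ := h1
  have hr := hc1.reverse fusionSteps_inv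
  rw [conjR_congr hag1] at hr
  refine ⟨g'⁻¹, hr, ?_⟩
  rintro _ ⟨a, ha, rfl⟩
  have e1 : g'⁻¹⁻¹ * (g⁻¹ * a * g) * g'⁻¹ = a := by
    rw [← hag1 a ha]
    group
  have e2 : g⁻¹⁻¹ * (g⁻¹ * a * g) * g⁻¹ = a := by group
  beta_reduce
  rw [e1, e2]

end rel

variable [Finite G] {p : ℕ} [Fact p.Prime]

theorem familyControlsStrongFusionIn_sylow {𝓦 : Set (Subgroup G → Subgroup G)}
    (h𝓦 : ∀ W ∈ 𝓦, Cfsg.IsConjugacyFunctor p W) {H P : Subgroup G}
    (hc : Cfsg.FamilyControlsStrongFusionIn p 𝓦 H) (hPH : P ≤ H) (hP : IsPGroup p P)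
    (hPs : ¬ p ∣ P.relIndex H) :
    ∀ (A : Set G) (h : G), h ∈ H → A ⊆ P → (fun a => h * a * h⁻¹) '' A ⊆ P →
      ∃ (n : ℕ) (c : Fin (n + 1) → G), c 0 = 1 ∧
        (∀ i : Fin n, ∃ W ∈ 𝓦, c i.succ * (c i.castSucc)⁻¹ ∈
          H ⊓ Subgroup.normalizer ((W P : Subgroup G) : Set G)) ∧
        (∀ i : Fin (n + 1), (fun a => c i * a * (c i)⁻¹) '' A ⊆ P) ∧
        ∀ a ∈ A, c (Fin.last n) * a * (c (Fin.last n))⁻¹ = h * a * h⁻¹ := by
  obtain ⟨T', hT'H, hT'p, hT's, hctl⟩ := hc
  have hcT := card_eq_ppart_of_relIndex hT'H hT'p hT's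
  have hcP := card_eq_ppart_of_relIndex hPH hP hPs
  obtain ⟨n0, hn0, hnP⟩ := exists_conj_le_of_card_eq_ppart (p := p) hT'H hcT hPH hP
  have hPT : P.map (MulAut.conj n0).toMonoidHom = T' := by
    apply Subgroup.eq_of_le_of_card_ge hnP
    rw [card_map_conj, hcT, hcP]
  have hmemT : ∀ y : G, y ∈ T' ↔ n0⁻¹ * y * n0 ∈ P := by
    intro y
    rw [← hPT, Subgroup.mem_map]
    constructor
    · rintro ⟨u, hu, rfl⟩
      simpa [mul_assoc] using hu
    · intro hy
      exact ⟨_, hy, by simp [mul_assoc]⟩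
  have hWn : ∀ W ∈ 𝓦, ∀ y : G, y ∈ Subgroup.normalizer ((W T' : Subgroup G) : Set G) →
      n0⁻¹ * y * n0 ∈ Subgroup.normalizer ((W P : Subgroup G) : Set G) := by
    intro W hW y hy
    rw [← hPT, (h𝓦 W hW P hP).2.2 n0, normalizer_map_conj, Subgroup.mem_map] at hy
    obtain ⟨u, hu, rfl⟩ := hy
    simpa [mul_assoc] using hu
  intro A h hh hA hAh
  have hA' : (fun a => n0 * a * n0⁻¹) '' A ⊆ T' := by
    rintro _ ⟨a, ha, rfl⟩
    beta_reduce
    rw [SetLike.mem_coe, hmemT]
    have : n0⁻¹ * (n0 * a * n0⁻¹) * n0 = a := by group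
    rw [this]
    exact hA ha
  have hh' : n0 * h * n0⁻¹ ∈ H := H.mul_mem (H.mul_mem hn0 hh) (H.inv_mem hn0)
  have hAh' : (fun a => (n0 * h * n0⁻¹) * a * (n0 * h * n0⁻¹)⁻¹) '' ((fun a => n0 * a * n0⁻¹) '' A) ⊆
      T' := by
    rintro _ ⟨_, ⟨a, ha, rfl⟩, rfl⟩
    beta_reduce
    rw [SetLike.mem_coe, hmemT]
    have : n0⁻¹ * ((n0 * h * n0⁻¹) * (n0 * a * n0⁻¹) * (n0 * h * n0⁻¹)⁻¹) * n0 = h * a * h⁻¹ := by
      group
    rw [this]
    exact hAh ⟨a, ha, rfl⟩
  obtain ⟨n, c', hc0, hsteps, hsets, hlast⟩ := hctl _ _ hh' hA' hAh'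
  refine ⟨n, fun i => n0⁻¹ * c' i * n0, ?_, ?_, ?_, ?_⟩
  · simp [hc0]
  · intro i
    obtain ⟨W, hW, hi⟩ := hsteps i
    refine ⟨W, hW, ?_⟩
    have e : n0⁻¹ * c' i.succ * n0 * (n0⁻¹ * c' i.castSucc * n0)⁻¹ =
        n0⁻¹ * (c' i.succ * (c' i.castSucc)⁻¹) * n0 := by group
    beta_reduce
    rw [e]
    refine Subgroup.mem_inf.mpr ⟨?_, hWn W hW _ (Subgroup.mem_inf.mp hi).2⟩
    exact H.mul_mem (H.mul_mem (H.inv_mem hn0) (Subgroup.mem_inf.mp hi).1) hn0
  · intro i
    rintro _ ⟨a, ha, rfl⟩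
    have := hsets i ⟨n0 * a * n0⁻¹, ⟨a, ha, rfl⟩, rfl⟩
    beta_reduce at this
    rw [SetLike.mem_coe, hmemT] at this
    have e : n0⁻¹ * c' i * n0 * a * (n0⁻¹ * c' i * n0)⁻¹ =
        n0⁻¹ * (c' i * (n0 * a * n0⁻¹) * (c' i)⁻¹) * n0 := by group
    beta_reduce
    rw [e]
    exact this
  · intro a ha
    have := hlast (n0 * a * n0⁻¹) ⟨a, ha, rfl⟩
    have e : n0⁻¹ * c' (Fin.last n) * n0 * a * (n0⁻¹ * c' (Fin.last n) * n0)⁻¹ =
        n0⁻¹ * (c' (Fin.last n) * (n0 * a * n0⁻¹) * (c' (Fin.last n))⁻¹) * n0 := by group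
    beta_reduce
    rw [e, this]
    group

theorem exists_fchain_of_family {𝓦 : Set (Subgroup G → Subgroup G)}
    (h𝓦 : ∀ W ∈ 𝓦, Cfsg.IsConjugacyFunctor p W) {H P : Subgroup G}
    (hc : Cfsg.FamilyControlsStrongFusionIn p 𝓦 H) (hPH : P ≤ H) (hP : IsPGroup p P)
    (hPs : ¬ p ∣ P.relIndex H) (A : Set G) (g : G) (hg : g ∈ H) (hA : A ⊆ P)
    (hAg : conjR g A ⊆ P) :
    ∃ g' : G, FChain (fusionSteps 𝓦 H P) (P : Set G) A g' ∧
      ∀ a ∈ A, g'⁻¹ * a * g' = g⁻¹ * a * g := by
  have hAg' : (fun a => g⁻¹ * a * g⁻¹⁻¹) '' A ⊆ P := by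
    rintro _ ⟨a, ha, rfl⟩
    rw [inv_inv]
    exact hAg ⟨a, ha, rfl⟩
  obtain ⟨n, c, hc0, hsteps, hsets, hlast⟩ :=
    familyControlsStrongFusionIn_sylow h𝓦 hc hPH hP hPs A g⁻¹ (H.inv_mem hg) hA hAg'
  refine ⟨(c (Fin.last n))⁻¹, FChain.of_fin fusionSteps_inv n A c hc0 hsteps hsets, ?_⟩
  intro a ha
  rw [inv_inv, hlast a ha, inv_inv]

theorem familyFusion_stepB (S : Sylow p G) (𝓦 : Set (Subgroup G → Subgroup G))
    (h𝓦 : ∀ W ∈ 𝓦, Cfsg.IsConjugacyFunctor p W)
    (hloc : ∀ T : Subgroup G, T ≤ (S : Subgroup G) → T ≠ ⊥ →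
      ¬ p ∣ ((S : Subgroup G) ⊓ Subgroup.normalizer ((T : Subgroup G) : Set G)).relIndex
        (Subgroup.normalizer ((T : Subgroup G) : Set G)) →
      Cfsg.FamilyControlsStrongFusionIn p 𝓦 (Subgroup.normalizer ((T : Subgroup G) : Set G)))
    (n : ℕ)
    (hA : ∀ Q : Subgroup G, Q ≤ (S : Subgroup G) → n < Nat.card Q →
      ∀ g : G, conjR g (Q : Set G) ⊆ (S : Subgroup G) → FRel 𝓦 (S : Subgroup G) (Q : Set G) g) :
    ∀ B : Subgroup G, B ≤ (S : Subgroup G) → B ≠ ⊥ →
      ¬ p ∣ ((S : Subgroup G) ⊓ Subgroup.normalizer ((B : Subgroup G) : Set G)).relIndex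
        (Subgroup.normalizer ((B : Subgroup G) : Set G)) →
      n ≤ Nat.card ((S : Subgroup G) ⊓ Subgroup.normalizer (B : Set G) : Subgroup G) →
      ∀ (C : Set G) (k : G), k ∈ Subgroup.normalizer (B : Set G) →
        C ⊆ ((S : Subgroup G) ⊓ Subgroup.normalizer (B : Set G) : Subgroup G) →
        conjR k C ⊆ ((S : Subgroup G) ⊓ Subgroup.normalizer (B : Set G) : Subgroup G) →
        FRel 𝓦 (S : Subgroup G) C k := by
  intro B
  induction' hk : Nat.card (S : Subgroup G) -
    Nat.card ((S : Subgroup G) ⊓ Subgroup.normalizer (B : Set G) : Subgroup G)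
    using Nat.strong_induction_on with k ih generalizing B
  intro hBS hB hsyl hn C k0 hk0 hC hCk
  have hSp : IsPGroup p (S : Subgroup G) := S.2
  have hPp : IsPGroup p ((S : Subgroup G) ⊓ Subgroup.normalizer (B : Set G) : Subgroup G) :=
    hSp.to_le inf_le_left
  obtain ⟨k', hch, hag⟩ := exists_fchain_of_family h𝓦 (hloc B hBS hB hsyl) inf_le_right hPp hsyl
    C k0 hk0 hC hCk
  refine FRel.of_agree ?_ hag
  have hPSset : (((S : Subgroup G) ⊓ Subgroup.normalizer (B : Set G) : Subgroup G) : Set G) ⊆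
      ((S : Subgroup G) : Set G) := fun y hy => (Subgroup.mem_inf.mp hy).1
  clear hag hCk hC hk0
  induction hch with
  | nil C hC => exact FRel.refl (hC.trans hPSset)
  | cons C x g hx hC hc ih2 =>
    refine FRel.comp ?_ ih2
    obtain ⟨W, hW, hxW⟩ := hx
    have hxC : conjR x C ⊆
        (((S : Subgroup G) ⊓ Subgroup.normalizer (B : Set G) : Subgroup G) : Set G) :=
      hc.subset_left
    by_cases hPS : (S : Subgroup G) ⊓ Subgroup.normalizer (B : Set G) = (S : Subgroup G)
    · have hxW' := (Subgroup.mem_inf.mp hxW).2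
      rw [hPS] at hxW'
      exact FRel.step hW hxW' (hC.trans hPSset) (hxC.trans hPSset)
    · have hWf := h𝓦 W hW
      have hBP : B ≤ (S : Subgroup G) ⊓ Subgroup.normalizer (B : Set G) :=
        le_inf hBS Subgroup.le_normalizer
      have hPne : (S : Subgroup G) ⊓ Subgroup.normalizer (B : Set G) ≠ ⊥ :=
        fun h => hB (le_bot_iff.mp (h ▸ hBP))
      have hT1 : W ((S : Subgroup G) ⊓ Subgroup.normalizer (B : Set G)) ≠ ⊥ :=
        (hWf _ hPp).2.1 hPne
      have hT1S : W ((S : Subgroup G) ⊓ Subgroup.normalizer (B : Set G)) ≤ (S : Subgroup G) :=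
        le_trans (hWf _ hPp).1 inf_le_left
      have hPle : (S : Subgroup G) ⊓ Subgroup.normalizer (B : Set G) ≤ (S : Subgroup G) ⊓
          Subgroup.normalizer
            ((W ((S : Subgroup G) ⊓ Subgroup.normalizer (B : Set G)) : Subgroup G) : Set G) :=
        le_inf inf_le_left (le_normalizer_functor hWf hPp)
      obtain ⟨m, hm, hmP⟩ := Fusion.exists_mem_normalizerIn_not_mem (S := (S : Subgroup G)) hSp
        (inf_le_left : (S : Subgroup G) ⊓ Subgroup.normalizer (B : Set G) ≤ (S : Subgroup G)) hPS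
      have hm' : m ∈ (S : Subgroup G) ⊓ Subgroup.normalizer
          ((W ((S : Subgroup G) ⊓ Subgroup.normalizer (B : Set G)) : Subgroup G) : Set G) :=
        Subgroup.mem_inf.mpr ⟨(Subgroup.mem_inf.mp hm).1,
          normalizer_le_normalizer_functor hWf hPp (Subgroup.mem_inf.mp hm).2⟩
      have hlt : (S : Subgroup G) ⊓ Subgroup.normalizer (B : Set G) < (S : Subgroup G) ⊓
          Subgroup.normalizer
            ((W ((S : Subgroup G) ⊓ Subgroup.normalizer (B : Set G)) : Subgroup G) : Set G) :=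
        lt_of_le_of_ne hPle (fun heq => hmP ((SetLike.ext_iff.mp heq m).mpr hm'))
      have hcardlt : Nat.card ((S : Subgroup G) ⊓ Subgroup.normalizer (B : Set G) : Subgroup G) <
          Nat.card ((S : Subgroup G) ⊓ Subgroup.normalizer
            ((W ((S : Subgroup G) ⊓ Subgroup.normalizer (B : Set G)) : Subgroup G) : Set G) :
              Subgroup G) :=
        Set.ncard_lt_ncard
          (s := (((S : Subgroup G) ⊓ Subgroup.normalizer (B : Set G) : Subgroup G) : Set G))
          (t := ((S : Subgroup G) ⊓ Subgroup.normalizer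
            ((W ((S : Subgroup G) ⊓ Subgroup.normalizer (B : Set G)) : Subgroup G) : Set G) :
              Subgroup G))
          (SetLike.coe_ssubset_coe.mpr hlt) (Set.toFinite _)
      have hxT1 := (Subgroup.mem_inf.mp hxW).2
      obtain ⟨T1, hT1def⟩ : ∃ T1 : Subgroup G,
          T1 = W ((S : Subgroup G) ⊓ Subgroup.normalizer (B : Set G)) := ⟨_, rfl⟩
      rw [← hT1def] at hT1 hT1S hPle hcardlt hxT1
      obtain ⟨e, heS, hesyl⟩ := exists_fullyNormalized_conj S T1 hT1S
      obtain ⟨U, hUdef⟩ : ∃ U : Subgroup G, U = T1.map (MulAut.conj e).toMonoidHom := ⟨_, rfl⟩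
      rw [← hUdef] at heS hesyl
      obtain ⟨h, hTU, hQS⟩ := exists_conjR_normalizer_le S hesyl e hUdef.symm
      have hUne : U ≠ ⊥ := by
        intro hU
        apply hT1
        rw [hU] at hUdef
        exact (Subgroup.map_eq_bot_iff_of_injective _ (MulAut.conj e).injective).mp hUdef.symm
      have hUmap : T1.map (MulAut.conj h⁻¹).toMonoidHom = U := by
        apply SetLike.coe_injective
        rw [← conjR_coe, hTU]
      have hNU : (Subgroup.normalizer (T1 : Set G)).map (MulAut.conj h⁻¹).toMonoidHom =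
          Subgroup.normalizer (U : Set G) := by
        rw [← normalizer_map_conj, hUmap]
      have hQU : ((S : Subgroup G) ⊓ Subgroup.normalizer (T1 : Set G)).map
          (MulAut.conj h⁻¹).toMonoidHom ≤ (S : Subgroup G) ⊓ Subgroup.normalizer (U : Set G) := by
        refine le_inf ?_ ?_
        · intro y hy
          apply hQS
          rw [conjR_coe]
          exact hy
        · rw [← hNU]
          exact Subgroup.map_mono inf_le_right
      have hcardU : Nat.card ((S : Subgroup G) ⊓ Subgroup.normalizer (T1 : Set G) : Subgroup G) ≤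
          Nat.card ((S : Subgroup G) ⊓ Subgroup.normalizer (U : Set G) : Subgroup G) := by
        rw [← card_map_conj _ h⁻¹]
        exact Subgroup.card_le_of_le hQU
      have hle : Nat.card ((S : Subgroup G) ⊓ Subgroup.normalizer (U : Set G) : Subgroup G) ≤
          Nat.card (S : Subgroup G) := Subgroup.card_le_of_le inf_le_left
      have hk1 : Nat.card (S : Subgroup G) -
          Nat.card ((S : Subgroup G) ⊓ Subgroup.normalizer (U : Set G) : Subgroup G) < k := by
        omega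
      have hih := ih _ hk1 U rfl heS hUne hesyl (by omega)
      have hRelQ := hA _ (inf_le_left : (S : Subgroup G) ⊓ Subgroup.normalizer (T1 : Set G) ≤ _)
        (by omega) h hQS
      have hCQ : C ⊆ (((S : Subgroup G) ⊓ Subgroup.normalizer (T1 : Set G) : Subgroup G) : Set G) :=
        fun y hy => hPle (hC hy)
      have hxCQ : conjR x C ⊆
          (((S : Subgroup G) ⊓ Subgroup.normalizer (T1 : Set G) : Subgroup G) : Set G) :=
        fun y hy => hPle (hxC hy)
      have hconjQ : conjR h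
          (((S : Subgroup G) ⊓ Subgroup.normalizer (T1 : Set G) : Subgroup G) : Set G) ⊆
          (((S : Subgroup G) ⊓ Subgroup.normalizer (U : Set G) : Subgroup G) : Set G) := by
        rw [conjR_coe]
        exact hQU
      have r1 := hRelQ.mono hCQ
      have hx'N : h⁻¹ * x * h ∈ Subgroup.normalizer (U : Set G) := by
        rw [← hNU]
        exact conjR_mem_map hxT1
      have heq : conjR (h⁻¹ * x * h) (conjR h C) = conjR h (conjR x C) := by
        rw [← conjR_mul, ← conjR_mul]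
        congr 1
        group
      have hC' : conjR h C ⊆
          (((S : Subgroup G) ⊓ Subgroup.normalizer (U : Set G) : Subgroup G) : Set G) :=
        (conjR_mono hCQ).trans hconjQ
      have hC'x : conjR (h⁻¹ * x * h) (conjR h C) ⊆
          (((S : Subgroup G) ⊓ Subgroup.normalizer (U : Set G) : Subgroup G) : Set G) := by
        rw [heq]
        exact (conjR_mono hxCQ).trans hconjQ
      have r2 := hih (conjR h C) (h⁻¹ * x * h) hx'N hC' hC'x
      have r3 := (hRelQ.mono hxCQ).symm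
      have r12 := r1.comp r2
      have r123 := r12.comp (by rw [conjR_mul, heq]; exact r3)
      have ex : h * (h⁻¹ * x * h) * h⁻¹ = x := by group
      rw [ex] at r123
      exact r123

theorem familyFusion_stepA (S : Sylow p G) (𝓦 : Set (Subgroup G → Subgroup G))
    (h𝓦 : ∀ W ∈ 𝓦, Cfsg.IsConjugacyFunctor p W)
    (hloc : ∀ T : Subgroup G, T ≤ (S : Subgroup G) → T ≠ ⊥ →
      ¬ p ∣ ((S : Subgroup G) ⊓ Subgroup.normalizer ((T : Subgroup G) : Set G)).relIndex
        (Subgroup.normalizer ((T : Subgroup G) : Set G)) →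
      Cfsg.FamilyControlsStrongFusionIn p 𝓦 (Subgroup.normalizer ((T : Subgroup G) : Set G))) :
    ∀ P : Subgroup G, P ≤ (S : Subgroup G) →
      ∀ g : G, conjR g (P : Set G) ⊆ (S : Subgroup G) → FRel 𝓦 (S : Subgroup G) (P : Set G) g := by
  intro P
  induction' hk : Nat.card (S : Subgroup G) - Nat.card P using Nat.strong_induction_on with k ih
    generalizing P
  intro hPS g hPg
  have hSp : IsPGroup p (S : Subgroup G) := S.2
  have hB := familyFusion_stepB S 𝓦 h𝓦 hloc (Nat.card P) (fun Q hQS hlt => by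
    have hle : Nat.card Q ≤ Nat.card (S : Subgroup G) := Subgroup.card_le_of_le hQS
    exact ih _ (by omega) Q rfl hQS)
  by_cases hPbot : P = ⊥
  · refine (FRel.refl (𝓦 := 𝓦) (S := (S : Subgroup G)) (A := (P : Set G)) hPS).of_agree ?_
    intro a ha
    have ha1 : a = 1 := by
      rw [hPbot] at ha
      exact Subgroup.mem_bot.mp ha
    rw [ha1]
    group
  by_cases hPeq : P = (S : Subgroup G)
  · -- `P = S`
    rw [hPeq] at hPg hPbot ⊢
    have hgN : g ∈ Subgroup.normalizer ((S : Subgroup G) : Set G) :=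
      mem_normalizer_of_conjR_subset hPg
    obtain ⟨c, hcS, hcsyl⟩ := exists_fullyNormalized_conj S (S : Subgroup G) le_rfl
    have hcS' : (S : Subgroup G).map (MulAut.conj c).toMonoidHom = (S : Subgroup G) := by
      apply Subgroup.eq_of_le_of_card_ge hcS
      rw [card_map_conj]
    rw [hcS'] at hcsyl
    have hSN : (S : Subgroup G) ≤ (S : Subgroup G) ⊓
        Subgroup.normalizer ((S : Subgroup G) : Set G) := le_inf le_rfl Subgroup.le_normalizer
    have hcard : Nat.card P ≤ Nat.card ((S : Subgroup G) ⊓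
        Subgroup.normalizer ((S : Subgroup G) : Set G) : Subgroup G) := by
      rw [hPeq]
      exact Subgroup.card_le_of_le hSN
    exact hB (S : Subgroup G) le_rfl hPbot hcsyl hcard _ g hgN hSN (fun y hy => hSN (hPg hy))
  · -- general case
    obtain ⟨c, hcS, hcsyl⟩ := exists_fullyNormalized_conj S P hPS
    obtain ⟨U, hUdef⟩ : ∃ U : Subgroup G, U = P.map (MulAut.conj c).toMonoidHom := ⟨_, rfl⟩
    rw [← hUdef] at hcS hcsyl
    have hc : P.map (MulAut.conj c).toMonoidHom = U := hUdef.symm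
    have hUcard : Nat.card U = Nat.card P := by rw [hUdef, card_map_conj]
    have hUne : U ≠ ⊥ := by
      intro hU
      apply hPbot
      rw [hU] at hUdef
      exact (Subgroup.map_eq_bot_iff_of_injective _ (MulAut.conj c).injective).mp hUdef.symm
    have hlt : ∀ Q : Subgroup G, Q ≤ (S : Subgroup G) → Nat.card Q = Nat.card P →
        Nat.card P < Nat.card ((S : Subgroup G) ⊓ Subgroup.normalizer (Q : Set G) : Subgroup G) := by
      intro Q hQS hQc
      have hQne : Q ≠ (S : Subgroup G) := by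
        intro hQ
        apply hPeq
        apply Subgroup.eq_of_le_of_card_ge hPS
        rw [← hQc, hQ]
      obtain ⟨n, hn, hnQ⟩ := Fusion.exists_mem_normalizerIn_not_mem (S := (S : Subgroup G)) hSp
        hQS hQne
      have hle : Q ≤ (S : Subgroup G) ⊓ Subgroup.normalizer (Q : Set G) :=
        le_inf hQS Subgroup.le_normalizer
      have hlt : Q < (S : Subgroup G) ⊓ Subgroup.normalizer (Q : Set G) :=
        lt_of_le_of_ne hle (fun heq => hnQ (heq ▸ hn))
      rw [← hQc]
      exact Set.ncard_lt_ncard (s := (Q : Set G))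
        (t := ((S : Subgroup G) ⊓ Subgroup.normalizer (Q : Set G) : Subgroup G))
        (SetLike.coe_ssubset_coe.mpr hlt) (Set.toFinite _)
    -- first leg
    obtain ⟨h1, h1P, h1N⟩ := exists_conjR_normalizer_le S hcsyl c hc
    have hk1 : Nat.card (S : Subgroup G) -
        Nat.card ((S : Subgroup G) ⊓ Subgroup.normalizer (P : Set G) : Subgroup G) < k := by
      have := hlt P hPS rfl
      have hle : Nat.card ((S : Subgroup G) ⊓ Subgroup.normalizer (P : Set G) : Subgroup G) ≤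
          Nat.card (S : Subgroup G) := Subgroup.card_le_of_le inf_le_left
      omega
    have c1 : FRel 𝓦 (S : Subgroup G) (P : Set G) h1 :=
      (ih _ hk1 _ rfl inf_le_left h1 h1N).mono
        (show (P : Set G) ⊆ _ from le_inf hPS Subgroup.le_normalizer)
    -- second leg, for `P^g`
    obtain ⟨Pg, hPgdef⟩ : ∃ Pg : Subgroup G, Pg = P.map (MulAut.conj g⁻¹).toMonoidHom := ⟨_, rfl⟩
    have hPgS : Pg ≤ (S : Subgroup G) := by
      intro y hy
      apply hPg
      rw [conjR_coe, ← hPgdef]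
      exact hy
    have hPgc : Nat.card Pg = Nat.card P := by rw [hPgdef, card_map_conj]
    have hcg : Pg.map (MulAut.conj (c * g)).toMonoidHom = U := by
      rw [hPgdef, Subgroup.map_map, ← hc]
      congr 1
      ext y
      simp [mul_assoc]
    obtain ⟨k1, k1P, k1N⟩ := exists_conjR_normalizer_le S hcsyl (c * g) hcg
    have hk2 : Nat.card (S : Subgroup G) -
        Nat.card ((S : Subgroup G) ⊓ Subgroup.normalizer (Pg : Set G) : Subgroup G) < k := by
      have := hlt Pg hPgS hPgc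
      have hle : Nat.card ((S : Subgroup G) ⊓ Subgroup.normalizer (Pg : Set G) : Subgroup G) ≤
          Nat.card (S : Subgroup G) := Subgroup.card_le_of_le inf_le_left
      omega
    have c2 : FRel 𝓦 (S : Subgroup G) (Pg : Set G) k1 :=
      (ih _ hk2 _ rfl inf_le_left k1 k1N).mono
        (show (Pg : Set G) ⊆ _ from le_inf hPgS Subgroup.le_normalizer)
    have c2' : FRel 𝓦 (S : Subgroup G) (U : Set G) k1⁻¹ := by
      have := c2.symm
      rwa [k1P] at this
    -- middle step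
    have hPgR : conjR g (P : Set G) = (Pg : Set G) := by rw [conjR_coe, hPgdef]
    have hm : conjR (h1⁻¹ * g * k1) (U : Set G) = U := by
      rw [conjR_mul, conjR_mul, ← h1P, conjR_inv_conjR, hPgR, k1P, h1P]
    have hmN : h1⁻¹ * g * k1 ∈ Subgroup.normalizer (U : Set G) :=
      mem_normalizer_of_conjR_subset hm.le
    have hUN : U ≤ (S : Subgroup G) ⊓ Subgroup.normalizer (U : Set G) :=
      le_inf hcS Subgroup.le_normalizer
    have hcardU : Nat.card P ≤
        Nat.card ((S : Subgroup G) ⊓ Subgroup.normalizer (U : Set G) : Subgroup G) := by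
      rw [← hUcard]
      exact Subgroup.card_le_of_le hUN
    have cm : FRel 𝓦 (S : Subgroup G) (U : Set G) (h1⁻¹ * g * k1) :=
      hB U hcS hUne hcsyl hcardU _ _ hmN hUN (by rw [hm]; exact hUN)
    have hg : g = h1 * ((h1⁻¹ * g * k1) * k1⁻¹) := by group
    rw [hg]
    apply c1.comp
    rw [h1P]
    apply cm.comp
    rw [hm]
    exact c2'

/-- `S1959`. -/
theorem familyControlsStrongFusionIn_top_of_local (S : Sylow p G)
    (𝓦 : Set (Subgroup G → Subgroup G))
    (h𝓦 : ∀ W ∈ 𝓦, Cfsg.IsConjugacyFunctor p W)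
    (hloc : ∀ T : Subgroup G, T ≤ (S : Subgroup G) → T ≠ ⊥ →
      ¬ p ∣ ((S : Subgroup G) ⊓ Subgroup.normalizer ((T : Subgroup G) : Set G)).relIndex
        (Subgroup.normalizer ((T : Subgroup G) : Set G)) →
      Cfsg.FamilyControlsStrongFusionIn p 𝓦 (Subgroup.normalizer ((T : Subgroup G) : Set G))) :
    Cfsg.FamilyControlsStrongFusionIn p 𝓦 ⊤ := by
  refine ⟨(S : Subgroup G), le_top, S.2, ?_, ?_⟩
  · rw [Subgroup.relIndex_top_right]
    exact S.not_dvd_index
  · intro A h _ hAS hAh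
    have hPS : Subgroup.closure A ≤ (S : Subgroup G) := (Subgroup.closure_le _).mpr hAS
    have hPg : conjR h⁻¹ ((Subgroup.closure A : Subgroup G) : Set G) ⊆ (S : Subgroup G) := by
      intro y hy
      rw [mem_conjR] at hy
      have hle : Subgroup.closure A ≤ (S : Subgroup G).map (MulAut.conj h⁻¹).toMonoidHom := by
        rw [Subgroup.closure_le]
        intro a ha
        refine ⟨h * a * h⁻¹, hAh ⟨a, ha, rfl⟩, ?_⟩
        simp [mul_assoc]
      obtain ⟨s, hs, hsy⟩ := hle hy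
      have h1 : h⁻¹ * s * h⁻¹⁻¹ = h⁻¹ * y * h⁻¹⁻¹ := hsy
      have : y = s := (mul_left_cancel (mul_right_cancel h1)).symm
      rw [this]; exact hs
    obtain ⟨g', hch, hag⟩ := (familyFusion_stepA S 𝓦 h𝓦 hloc _ hPS h⁻¹ hPg).mono
      (Subgroup.subset_closure (k := A))
    obtain ⟨n, c, hc0, hsteps, hsets, hlast⟩ := hch.exists_fin
    refine ⟨n, c, hc0, ?_, hsets, ?_⟩
    · intro i
      obtain ⟨W, hW, hx⟩ := hsteps i
      refine ⟨W, hW, ?_⟩
      have := Subgroup.inv_mem _ hx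
      rwa [inv_inv] at this
    · intro a ha
      rw [hlast, inv_inv, hag a ha, inv_inv]

end Cfsg.Agent.Lead
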