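import Mathlib
import Cfsg.Agent.Lead.AlperinTame
import Cfsg.Agent.Helper1.FrobPCompl
import Cfsg.Agent.Helper1.Transfer3

set_option autoImplicit false

namespace Cfsg.Agent.Lead.Alp

open Cfsg Cfsg.Agent.Lead

variable {G : Type*} [Group G] [Finite G] {p : ℕ} [Fact p.Prime]

/-- Alperin's theorem in chain form. -/
theorem alperin_chain {P : Subgroup G} (hP : IsPGroup p P)
    (hPc : Nat.card P = p ^ (Nat.card G).factorization p) (A : Set G) (g : G)
    (hA : A ⊆ (P : Set G)) (hAg : conjR g A ⊆ (P : Set G)) : RChain (StepRel p P) A g := by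
  have hA' : A ⊆ ((P ⊓ cj g⁻¹ P : Subgroup G) : Set G) := by
    intro a ha
    rw [SetLike.mem_coe, Subgroup.mem_inf, mem_cj, inv_inv]
    exact ⟨hA ha, hAg ⟨a, ha, rfl⟩⟩
  obtain ⟨x, hx⟩ := main hP hPc (cj g⁻¹ P) (isPGroup_cj _ hP) (card_cj _ _)
  have hm : x⁻¹ * g ∈ Subgroup.normalizer (P : Set G) := by
    apply mem_normalizer_of_cj_eq_self
    rw [cj_mul]
    have : cj x⁻¹ P = cj g⁻¹ P := by
      conv_lhs => rw [← hx.2]
      rw [cj_inv_cj]
    rw [this, cj_cj_inv]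
  have hPc' : Nat.card P = p ^ (Nat.card (⊤ : Subgroup G)).factorization p := by
    rw [Subgroup.card_top]; exact hPc
  have hstepP : StepRel p P P (x⁻¹ * g) := by
    have hPN : P ⊓ Subgroup.normalizer (P : Set G) = P := inf_eq_left.2 Subgroup.le_normalizer
    have hc : Nat.card (P ⊓ Subgroup.normalizer (P : Set G) : Subgroup G) =
        p ^ (Nat.card (Subgroup.normalizer (P : Set G))).factorization p := by
      rw [hPN]
      exact card_eq_ppart_of_le Subgroup.le_normalizer le_top hP hPc'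
    exact ⟨P, hP, rfl, (inf_idem P).symm, hc, hc, hm, Or.inl rfl⟩
  have h1 : RChain (StepRel p P) A (x * (x⁻¹ * g)) := by
    apply (hx.1.mono hA').append
    exact RChain.single hstepP (hx.conjR_subset.trans' (conjR_mono hA'))
  have : x * (x⁻¹ * g) = g := by group
  rwa [this] at h1

omit [Finite G] [Fact p.Prime] in
/-- If each step acts on its tame intersection like an element of `P`, so does the whole chain. -/
theorem chain_conj_eq {P : Subgroup G} {R : Subgroup G → G → Prop}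
    (hstep : ∀ T x, R T x → ∃ u ∈ P, ∀ a ∈ T, x⁻¹ * a * x = u⁻¹ * a * u)
    {A : Set G} {g : G} (h : RChain R A g) :
    ∃ u ∈ P, ∀ a ∈ A, g⁻¹ * a * g = u⁻¹ * a * u := by
  induction h with
  | nil A => exact ⟨1, P.one_mem, fun a _ => by simp⟩
  | cons A T x g hR hAT _ ih =>
    obtain ⟨u₁, hu₁, h₁⟩ := hstep T x hR
    obtain ⟨u₂, hu₂, h₂⟩ := ih
    refine ⟨u₁ * u₂, P.mul_mem hu₁ hu₂, fun a ha => ?_⟩
    have hb : x⁻¹ * a * x ∈ conjR x A := ⟨a, ha, rfl⟩
    calc (x * g)⁻¹ * a * (x * g) = g⁻¹ * (x⁻¹ * a * x) * g := by group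
      _ = u₂⁻¹ * (x⁻¹ * a * x) * u₂ := h₂ _ hb
      _ = u₂⁻¹ * (u₁⁻¹ * a * u₁) * u₂ := by rw [h₁ a (hAT ha)]
      _ = (u₁ * u₂)⁻¹ * a * (u₁ * u₂) := by group


/-- If `N(T)/C(T)` is a `p`-group and `N_P(T)` is Sylow in `N(T)`, then every element of `N(T)` acts
on `T` like an element of `P`. -/
theorem exists_conj_eq_of_isPGroup_quotient {P T : Subgroup G}
    (hPN : Nat.card (P ⊓ Subgroup.normalizer (T : Set G) : Subgroup G) =
      p ^ (Nat.card (Subgroup.normalizer (T : Set G))).factorization p)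
    (hk : ∃ k : ℕ, (Subgroup.centralizer (T : Set G)).relIndex (Subgroup.normalizer (T : Set G)) =
      p ^ k) {x : G} (hx : x ∈ Subgroup.normalizer (T : Set G)) :
    ∃ u ∈ P, ∀ a ∈ T, x⁻¹ * a * x = u⁻¹ * a * u := by
  have hpp : p.Prime := Fact.out
  obtain ⟨N, hN⟩ : ∃ N : Subgroup G, N = Subgroup.normalizer (T : Set G) := ⟨_, rfl⟩
  obtain ⟨C, hC⟩ : ∃ C : Subgroup G, C = Subgroup.centralizer (T : Set G) := ⟨_, rfl⟩
  rw [← hN] at hPN hx hk
  rw [← hC] at hk
  obtain ⟨k, hk⟩ := hk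
  have h1 : ¬ p ∣ (P ⊓ N).relIndex N := not_dvd_relIndex_of_card_eq_ppart inf_le_right hPN
  have h2 : (C ⊓ N).relIndex N = p ^ k := by rw [Subgroup.inf_relIndex_right]; exact hk
  have h3 : ((C ⊓ N) ⊔ (P ⊓ N)).relIndex N ∣ (P ⊓ N).relIndex N :=
    Subgroup.relIndex_dvd_of_le_left N le_sup_right
  have h4 : ((C ⊓ N) ⊔ (P ⊓ N)).relIndex N ∣ p ^ k := by
    rw [← h2]; exact Subgroup.relIndex_dvd_of_le_left N le_sup_left
  have h5 : ((C ⊓ N) ⊔ (P ⊓ N)).relIndex N = 1 := by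
    obtain ⟨j, -, hj⟩ := (Nat.dvd_prime_pow hpp).1 h4
    rcases Nat.eq_zero_or_pos j with h0 | hpos
    · rw [hj, h0, pow_zero]
    · exfalso
      apply h1
      refine dvd_trans ?_ h3
      rw [hj]
      exact dvd_pow_self p hpos.ne'
  have h6 : N ≤ (C ⊓ N) ⊔ (P ⊓ N) := Subgroup.relIndex_eq_one.1 h5
  have hnorm : P ⊓ N ≤ Subgroup.normalizer ((C ⊓ N : Subgroup G) : Set G) := by
    intro n hn
    have hnN : n ∈ N := (Subgroup.mem_inf.1 hn).2
    have hnC : n ∈ Subgroup.normalizer (C : Set G) := by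
      rw [hC]
      exact Cfsg.Agent.Helper1.normalizer_le_normalizer_centralizer T (hN ▸ hnN)
    rw [Subgroup.mem_normalizer_iff]
    intro c
    rw [Subgroup.mem_inf, Subgroup.mem_inf, ← (Subgroup.mem_normalizer_iff.1 hnC c)]
    constructor
    · rintro ⟨h1, h2⟩
      exact ⟨h1, N.mul_mem (N.mul_mem hnN h2) (N.inv_mem hnN)⟩
    · rintro ⟨h1, h2⟩
      refine ⟨h1, ?_⟩
      have := N.mul_mem (N.mul_mem (N.inv_mem hnN) h2) hnN
      simpa [mul_assoc] using this
  obtain ⟨c, hc, s, hs, rfl⟩ := Cfsg.Agent.Helper1.mem_sup_of_le_normalizer hnorm (h6 hx)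
  refine ⟨s, (Subgroup.mem_inf.1 hs).1, fun a ha => ?_⟩
  have hcC : c ∈ Subgroup.centralizer (T : Set G) := hC ▸ (Subgroup.mem_inf.1 hc).1
  have hca : a * c = c * a := Subgroup.mem_centralizer_iff.1 hcC a ha
  calc (c * s)⁻¹ * a * (c * s) = s⁻¹ * (c⁻¹ * (a * c)) * s := by group
    _ = s⁻¹ * (c⁻¹ * (c * a)) * s := by rw [hca]
    _ = s⁻¹ * a * s := by group

/-- Powers: if `g` and `u` act alike on a set `Q` stable under `u`-conjugation, so do their powers. -/
theorem pow_conj_eq {Q : Set G} {g u : G} (h : ∀ a ∈ Q, g⁻¹ * a * g = u⁻¹ * a * u)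
    (hu : ∀ a ∈ Q, u⁻¹ * a * u ∈ Q) (k : ℕ) :
    ∀ a ∈ Q, (g ^ k)⁻¹ * a * g ^ k = (u ^ k)⁻¹ * a * u ^ k ∧ (u ^ k)⁻¹ * a * u ^ k ∈ Q := by
  induction k with
  | zero => intro a ha; simpa using ha
  | succ k ih =>
    intro a ha
    obtain ⟨h1, h2⟩ := ih a ha
    constructor
    · calc (g ^ (k + 1))⁻¹ * a * g ^ (k + 1) = g⁻¹ * ((g ^ k)⁻¹ * a * g ^ k) * g := by
            rw [pow_succ]; group
        _ = g⁻¹ * ((u ^ k)⁻¹ * a * u ^ k) * g := by rw [h1]
        _ = u⁻¹ * ((u ^ k)⁻¹ * a * u ^ k) * u := h _ h2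
        _ = (u ^ (k + 1))⁻¹ * a * u ^ (k + 1) := by rw [pow_succ]; group
    · have := hu _ h2
      have e : (u ^ (k + 1))⁻¹ * a * u ^ (k + 1) = u⁻¹ * ((u ^ k)⁻¹ * a * u ^ k) * u := by
        rw [pow_succ]; group
      rw [e]; exact this


/-- Under the hypothesis of `S4251`, Frobenius' condition holds. -/
theorem pLocalCentral_of_tame (P : Sylow p G)
    (h : ∀ Q : Sylow p G, (P : Subgroup G) ⊓ (Q : Subgroup G) ≠ ⊥ →
      (¬ p ∣ ((P : Subgroup G) ⊓ Subgroup.normalizer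
          (((P : Subgroup G) ⊓ (Q : Subgroup G) : Subgroup G) : Set G)).relIndex
          (Subgroup.normalizer (((P : Subgroup G) ⊓ (Q : Subgroup G) : Subgroup G) : Set G)) ∧
        ¬ p ∣ ((Q : Subgroup G) ⊓ Subgroup.normalizer
          (((P : Subgroup G) ⊓ (Q : Subgroup G) : Subgroup G) : Set G)).relIndex
          (Subgroup.normalizer (((P : Subgroup G) ⊓ (Q : Subgroup G) : Subgroup G) : Set G))) →
      IsPGroup p (Subgroup.normalizer (((P : Subgroup G) ⊓ (Q : Subgroup G) : Subgroup G) : Set G) ⧸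
        (Subgroup.centralizer (((P : Subgroup G) ⊓ (Q : Subgroup G) : Subgroup G) : Set G)).subgroupOf
          (Subgroup.normalizer (((P : Subgroup G) ⊓ (Q : Subgroup G) : Subgroup G) : Set G)))) :
    Cfsg.Agent.Helper1.PLocalCentral p G := by
  have hstep : ∀ (T : Subgroup G) (x : G), StepRel p (P : Subgroup G) T x →
      ∃ u ∈ (P : Subgroup G), ∀ a ∈ T, x⁻¹ * a * x = u⁻¹ * a * u := by
    rintro T x ⟨Q₁, hQ₁, hQ₁c, hT, hPN, hQN, hxN, -⟩
    by_cases hT0 : T = ⊥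
    · refine ⟨1, Subgroup.one_mem _, fun a ha => ?_⟩
      rw [hT0, Subgroup.mem_bot] at ha
      subst ha
      simp
    · subst hT
      have hk : ∃ k : ℕ, (Subgroup.centralizer (((P : Subgroup G) ⊓ Q₁ : Subgroup G) : Set G)).relIndex
          (Subgroup.normalizer (((P : Subgroup G) ⊓ Q₁ : Subgroup G) : Set G)) = p ^ k := by
        have h' : IsPGroup p (Subgroup.normalizer (((P : Subgroup G) ⊓ Q₁ : Subgroup G) : Set G) ⧸
            (Subgroup.centralizer (((P : Subgroup G) ⊓ Q₁ : Subgroup G) : Set G)).subgroupOf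
              (Subgroup.normalizer (((P : Subgroup G) ⊓ Q₁ : Subgroup G) : Set G))) :=
          h (Sylow.ofCard Q₁ (hQ₁c.trans P.card_eq_multiplicity)) hT0
            ⟨not_dvd_relIndex_of_card_eq_ppart inf_le_right hPN,
              not_dvd_relIndex_of_card_eq_ppart inf_le_right hQN⟩
        obtain ⟨k, hk⟩ := IsPGroup.iff_card.1 h'
        refine ⟨k, ?_⟩
        rw [← hk]
        exact Subgroup.index_eq_card _
      exact exists_conj_eq_of_isPGroup_quotient hPN hk hxN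
  intro Q hQ g hg hcop
  obtain ⟨c, hc⟩ := exists_conj_le_sylow P Q hQ
  obtain ⟨Q', hQ'⟩ : ∃ Q' : Subgroup G, Q' = Q.map (MulAut.conj c).toMonoidHom := ⟨_, rfl⟩
  rw [← hQ'] at hc
  obtain ⟨g', hg'⟩ : ∃ g' : G, g' = c * g * c⁻¹ := ⟨_, rfl⟩
  have hmemQ' : ∀ b, b ∈ Q' ↔ c⁻¹ * b * c ∈ Q := by
    intro b
    rw [hQ', Subgroup.mem_map]
    constructor
    · rintro ⟨a, ha, rfl⟩
      simpa [mul_assoc] using ha
    · intro hb
      exact ⟨c⁻¹ * b * c, hb, by simp [mul_assoc]⟩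
  have hg'N : g' ∈ Subgroup.normalizer (Q' : Set G) := by
    rw [Subgroup.mem_normalizer_iff]
    intro b
    rw [hmemQ', hmemQ', Subgroup.mem_normalizer_iff.1 hg (c⁻¹ * b * c), hg']
    have : c⁻¹ * (c * g * c⁻¹ * b * (c * g * c⁻¹)⁻¹) * c = g * (c⁻¹ * b * c) * g⁻¹ := by group
    rw [this]
  have hord : orderOf g' = orderOf g := by
    have hsc : SemiconjBy c g g' := by
      rw [hg']; unfold SemiconjBy; group
    exact (SemiconjBy.orderOf_eq c hsc).symm
  -- the chain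
  have hAg : conjR g' (Q' : Set G) ⊆ ((P : Subgroup G) : Set G) :=
    (conjR_subset_of_mem_normalizer hg'N le_rfl).trans hc
  have hchain := alperin_chain P.2 P.card_eq_multiplicity (Q' : Set G) g' hc hAg
  obtain ⟨u, hu, hconj⟩ := chain_conj_eq (P := (P : Subgroup G)) hstep hchain
  have hustab : ∀ a ∈ (Q' : Set G), u⁻¹ * a * u ∈ (Q' : Set G) := by
    intro a ha
    rw [← hconj a ha]
    have := (Subgroup.mem_normalizer_iff.1 (Subgroup.inv_mem _ hg'N) a).1 ha
    simpa using this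
  obtain ⟨j, hj⟩ := exists_orderOf_eq_pow P.2 hu
  have hpow := pow_conj_eq hconj hustab (p ^ j)
  have huk : u ^ (p ^ j) = 1 := by rw [← hj]; exact pow_orderOf_eq_one u
  have hgk : g' ^ (p ^ j) ∈ Subgroup.centralizer (Q' : Set G) := by
    rw [Subgroup.mem_centralizer_iff]
    intro a ha
    have h1 := (hpow a ha).1
    rw [huk, inv_one, one_mul, mul_one] at h1
    have h2 := congrArg (fun t => g' ^ (p ^ j) * t) h1
    simpa [mul_assoc] using h2
  have hcop' : Nat.Coprime (p ^ j) (orderOf g') := by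
    rw [hord]
    exact (Nat.Coprime.pow_right j hcop).symm
  obtain ⟨m, hm⟩ := exists_pow_eq_self_of_coprime hcop'
  have hg'C : g' ∈ Subgroup.centralizer (Q' : Set G) := by
    rw [← hm]
    exact Subgroup.pow_mem _ hgk m
  -- transfer back
  rw [Subgroup.mem_centralizer_iff]
  intro a ha
  have hb : c * a * c⁻¹ ∈ Q' := by
    rw [hmemQ']
    simpa [mul_assoc] using ha
  have h1 := Subgroup.mem_centralizer_iff.1 hg'C _ hb
  rw [hg'] at h1
  have h2 : c * (a * g) * c⁻¹ = c * (g * a) * c⁻¹ := by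
    calc c * (a * g) * c⁻¹ = c * a * c⁻¹ * (c * g * c⁻¹) := by group
      _ = c * g * c⁻¹ * (c * a * c⁻¹) := h1
      _ = c * (g * a) * c⁻¹ := by group
  exact mul_left_cancel (mul_right_cancel h2)

/-- `S4251`. -/
theorem hasNormalPComplement_of_tame (P : Sylow p G)
    (h : ∀ Q : Sylow p G, (P : Subgroup G) ⊓ (Q : Subgroup G) ≠ ⊥ →
      (¬ p ∣ ((P : Subgroup G) ⊓ Subgroup.normalizer
          (((P : Subgroup G) ⊓ (Q : Subgroup G) : Subgroup G) : Set G)).relIndex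
          (Subgroup.normalizer (((P : Subgroup G) ⊓ (Q : Subgroup G) : Subgroup G) : Set G)) ∧
        ¬ p ∣ ((Q : Subgroup G) ⊓ Subgroup.normalizer
          (((P : Subgroup G) ⊓ (Q : Subgroup G) : Subgroup G) : Set G)).relIndex
          (Subgroup.normalizer (((P : Subgroup G) ⊓ (Q : Subgroup G) : Subgroup G) : Set G))) →
      IsPGroup p (Subgroup.normalizer (((P : Subgroup G) ⊓ (Q : Subgroup G) : Subgroup G) : Set G) ⧸
        (Subgroup.centralizer (((P : Subgroup G) ⊓ (Q : Subgroup G) : Subgroup G) : Set G)).subgroupOf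
          (Subgroup.normalizer (((P : Subgroup G) ⊓ (Q : Subgroup G) : Subgroup G) : Set G)))) :
    Cfsg.HasNormalPComplement p G :=
  Cfsg.Agent.Helper1.frobenius_pcomplement (pLocalCentral_of_tame P h)

end Cfsg.Agent.Lead.Alp
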