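import Mathlib
import Cfsg.Prelude.Def_PLocal
import Cfsg.Agent.Helper1.Card
import Cfsg.Agent.Helper1.PQLemma
import Cfsg.Agent.Helper5.ProdCard

set_option autoImplicit false

namespace Cfsg.Agent.Lead.Repl

open scoped Pointwise commutatorElement

universe u

variable {G : Type u} [Group G]

/-- `C_V(B)` as a subgroup of `G`. -/
def cv (V B : Subgroup G) : Subgroup G := V ⊓ Subgroup.centralizer (B : Set G)

theorem mem_cv {V B : Subgroup G} {x : G} : x ∈ cv V B ↔ x ∈ V ∧ ∀ b ∈ B, b * x = x * b := by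
  unfold cv
  rw [Subgroup.mem_inf, Subgroup.mem_centralizer_iff]
  rfl

theorem cv_le (V B : Subgroup G) : cv V B ≤ V := inf_le_left

theorem cv_anti (V : Subgroup G) {B C : Subgroup G} (h : B ≤ C) : cv V C ≤ cv V B := by
  intro x hx
  rw [mem_cv] at hx ⊢
  exact ⟨hx.1, fun b hb => hx.2 b (h hb)⟩

theorem cv_sup (V B C : Subgroup G) : cv V (B ⊔ C) = cv V B ⊓ cv V C := by
  apply le_antisymm
  · exact le_inf (cv_anti V le_sup_left) (cv_anti V le_sup_right)
  · intro x hx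
    rw [Subgroup.mem_inf, mem_cv, mem_cv] at hx
    rw [mem_cv]
    refine ⟨hx.1.1, ?_⟩
    have hle : B ⊔ C ≤ Subgroup.centralizer ({x} : Set G) := by
      apply sup_le
      · intro b hb
        rw [Subgroup.mem_centralizer_iff]
        intro y hy
        rw [Set.mem_singleton_iff] at hy
        subst hy
        exact (hx.1.2 b hb).symm
      · intro b hb
        rw [Subgroup.mem_centralizer_iff]
        intro y hy
        rw [Set.mem_singleton_iff] at hy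
        subst hy
        exact (hx.2.2 b hb).symm
    intro b hb
    have := Subgroup.mem_centralizer_iff.1 (hle hb) x rfl
    exact this.symm

theorem cv_sup_le_inf (V B C : Subgroup G) : cv V B ⊔ cv V C ≤ cv V (B ⊓ C) :=
  sup_le (cv_anti V inf_le_left) (cv_anti V inf_le_right)

theorem card_mul_le [Finite G] (B C : Subgroup G) :
    Nat.card B * Nat.card C ≤ Nat.card (B ⊔ C : Subgroup G) * Nat.card (B ⊓ C : Subgroup G) := by
  rw [← Cfsg.Agent.Helper5.card_mul_set_mul_card_inf B C]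
  apply Nat.mul_le_mul_right
  have hsub : ((B : Set G) * (C : Set G)) ⊆ ((B ⊔ C : Subgroup G) : Set G) := by
    rintro _ ⟨b, hb, c, hc, rfl⟩
    exact mul_mem (Subgroup.mem_sup_left hb) (Subgroup.mem_sup_right hc)
  exact Nat.card_mono (Set.toFinite _) hsub

theorem card_cv_mul [Finite G] (V B C : Subgroup G) (hV : ∀ x ∈ V, ∀ y ∈ V, x * y = y * x) :
    Nat.card (cv V B) * Nat.card (cv V C) =
      Nat.card (cv V B ⊔ cv V C : Subgroup G) * Nat.card (cv V (B ⊔ C)) := by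
  rw [cv_sup]
  have hn : cv V C ≤ Subgroup.normalizer ((cv V B : Subgroup G) : Set G) := by
    refine le_trans ?_ (Subgroup.centralizer_le_normalizer _)
    intro x hx
    rw [Subgroup.mem_centralizer_iff]
    intro y hy
    exact hV y (cv_le V B hy) x (cv_le V C hx)
  exact (Cfsg.Agent.Helper1.card_sup_mul_card_inf hn).symm

/-- The measure `|B| |C_V(B)|`. -/
noncomputable def f (V B : Subgroup G) : ℕ := Nat.card B * Nat.card (cv V B)

theorem f_pos [Finite G] (V B : Subgroup G) : 0 < f V B := Nat.mul_pos Nat.card_pos Nat.card_pos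

/-- Lattice property of best offenders. -/
theorem best_inf [Finite G] (V A B C : Subgroup G) (hV : ∀ x ∈ V, ∀ y ∈ V, x * y = y * x)
    (hB : B ≤ A) (hC : C ≤ A)
    (hbest : ∀ D : Subgroup G, D ≤ A → f V D ≤ f V A)
    (hfB : f V B = f V A) (hfC : f V C = f V A) :
    f V (B ⊓ C) = f V A ∧ cv V (B ⊓ C) = cv V B ⊔ cv V C := by
  have h1 := card_mul_le B C
  have h2 := card_cv_mul V B C hV
  have h3 : Nat.card (cv V B ⊔ cv V C : Subgroup G) ≤ Nat.card (cv V (B ⊓ C)) :=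
    Nat.card_mono (Set.toFinite _) (cv_sup_le_inf V B C)
  have h4 := hbest (B ⊓ C) (inf_le_left.trans hB)
  have h5 := hbest (B ⊔ C) (sup_le hB hC)
  unfold f at h4 h5 hfB hfC ⊢
  obtain ⟨b, hb⟩ : ∃ b, b = Nat.card B := ⟨_, rfl⟩
  obtain ⟨c, hc⟩ : ∃ c, c = Nat.card C := ⟨_, rfl⟩
  obtain ⟨i, hi⟩ : ∃ i, i = Nat.card (B ⊓ C : Subgroup G) := ⟨_, rfl⟩
  obtain ⟨s, hs⟩ : ∃ s, s = Nat.card (B ⊔ C : Subgroup G) := ⟨_, rfl⟩
  obtain ⟨β, hβ⟩ : ∃ β, β = Nat.card (cv V B) := ⟨_, rfl⟩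
  obtain ⟨γ, hγ⟩ : ∃ γ, γ = Nat.card (cv V C) := ⟨_, rfl⟩
  obtain ⟨σ, hσ⟩ : ∃ σ, σ = Nat.card (cv V B ⊔ cv V C : Subgroup G) := ⟨_, rfl⟩
  obtain ⟨ι, hι⟩ : ∃ ι, ι = Nat.card (cv V (B ⊔ C)) := ⟨_, rfl⟩
  obtain ⟨τ, hτ⟩ : ∃ τ, τ = Nat.card (cv V (B ⊓ C)) := ⟨_, rfl⟩
  obtain ⟨M, hM⟩ : ∃ M, M = Nat.card A * Nat.card (cv V A) := ⟨_, rfl⟩
  rw [← hb, ← hc, ← hi, ← hs] at h1
  rw [← hβ, ← hγ, ← hσ, ← hι] at h2
  rw [← hσ, ← hτ] at h3
  rw [← hi, ← hτ, ← hM] at h4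
  rw [← hs, ← hι, ← hM] at h5
  rw [← hb, ← hβ, ← hM] at hfB
  rw [← hc, ← hγ, ← hM] at hfC
  rw [← hi, ← hτ, ← hM]
  have hipos : 0 < i := hi ▸ Nat.card_pos
  have hspos : 0 < s := hs ▸ Nat.card_pos
  have hιpos : 0 < ι := hι ▸ Nat.card_pos
  have hMpos : 0 < M := hM ▸ Nat.mul_pos Nat.card_pos Nat.card_pos
  -- M² = bcβγ ≤ s i σ ι ≤ s i τ ι = (iτ)(sι) ≤ M²
  have e1 : M * M = (b * c) * (β * γ) := by
    calc M * M = (b * β) * (c * γ) := by rw [hfB, hfC]
      _ = (b * c) * (β * γ) := by ring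
  have e2 : (b * c) * (β * γ) ≤ (s * i) * (σ * ι) := by rw [h2]; exact Nat.mul_le_mul_right _ h1
  have e3 : (s * i) * (σ * ι) ≤ (s * i) * (τ * ι) :=
    Nat.mul_le_mul_left _ (Nat.mul_le_mul_right _ h3)
  have e4 : (s * i) * (τ * ι) = (i * τ) * (s * ι) := by ring
  have e5 : (i * τ) * (s * ι) ≤ M * M := Nat.mul_le_mul h4 h5
  have e6 : (s * i) * (σ * ι) = (s * i) * (τ * ι) := by
    apply le_antisymm e3
    rw [e4]; exact e5.trans (e1 ▸ e2)
  have hστ : σ = τ := by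
    have h7 : σ * ι = τ * ι := Nat.eq_of_mul_eq_mul_left (Nat.mul_pos hspos hipos) e6
    exact Nat.eq_of_mul_eq_mul_right hιpos h7
  have e7 : (i * τ) * (s * ι) = M * M := by
    apply le_antisymm e5
    rw [← e4, ← e6]; exact e1 ▸ e2
  have hiτ : i * τ = M := by
    apply le_antisymm h4
    by_contra hlt
    push Not at hlt
    have : (i * τ) * (s * ι) < M * M := by
      calc (i * τ) * (s * ι) < M * (s * ι) :=
            Nat.mul_lt_mul_of_pos_right hlt (Nat.mul_pos hspos hιpos)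
        _ ≤ M * M := Nat.mul_le_mul_left _ h5
    exact absurd e7 (Nat.ne_of_lt this)
  refine ⟨hiτ, ?_⟩
  symm
  apply Subgroup.eq_of_le_of_card_ge (cv_sup_le_inf V B C)
  rw [← hσ, ← hτ, hστ]

/-- conjugation `a v a⁻¹`. -/
def cj (a v : G) : G := a * v * a⁻¹

theorem cj_mul (a b v : G) : cj (a * b) v = cj a (cj b v) := by unfold cj; group
theorem cj_mul_right (a v w : G) : cj a (v * w) = cj a v * cj a w := by unfold cj; group
theorem cj_inv_right (a v : G) : cj a v⁻¹ = (cj a v)⁻¹ := by unfold cj; group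
theorem cj_inv_cj (a v : G) : cj a⁻¹ (cj a v) = v := by unfold cj; group
theorem comm_eq (u a : G) : ⁅u, a⁆ = u * (cj a u)⁻¹ := by
  unfold cj; rw [commutatorElement_def]; group

theorem cj_mem {V A : Subgroup G} (hAV : A ≤ Subgroup.normalizer (V : Set G)) {a v : G}
    (ha : a ∈ A) (hv : v ∈ V) : cj a v ∈ V :=
  (Subgroup.mem_normalizer_iff.1 (hAV ha) v).1 hv

/-- The action of `A` on `V` is commutative. -/
theorem cj_comm {V A : Subgroup G} (hab : ⁅A, A⁆ ≤ Subgroup.centralizer (V : Set G)) {a b v : G}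
    (ha : a ∈ A) (hb : b ∈ A) (hv : v ∈ V) : cj a (cj b v) = cj b (cj a v) := by
  have hc : ⁅a⁻¹, b⁻¹⁆ ∈ Subgroup.centralizer (V : Set G) :=
    hab (Subgroup.commutator_mem_commutator (A.inv_mem ha) (A.inv_mem hb))
  have h1 := Subgroup.mem_centralizer_iff.1 hc v hv
  have h2 : ⁅a⁻¹, b⁻¹⁆ * v * ⁅a⁻¹, b⁻¹⁆⁻¹ = v := by rw [← h1]; group
  have h3 : cj a (cj b v) = cj b (cj a (⁅a⁻¹, b⁻¹⁆ * v * ⁅a⁻¹, b⁻¹⁆⁻¹)) := by
    unfold cj; rw [commutatorElement_def]; group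
  rw [h3, h2]

/-- The subgroup generated by the commutators `[u, a]`, `a ∈ A`. -/
def wu (A : Subgroup G) (u : G) : Subgroup G := Subgroup.closure {g | ∃ a ∈ A, ⁅u, a⁆ = g}

theorem comm_mem_wu {A : Subgroup G} {u a : G} (ha : a ∈ A) : ⁅u, a⁆ ∈ wu A u :=
  Subgroup.subset_closure ⟨a, ha, rfl⟩

theorem wu_le {V A : Subgroup G} (hAV : A ≤ Subgroup.normalizer (V : Set G)) {u : G}
    (hu : u ∈ V) : wu A u ≤ V := by
  unfold wu
  rw [Subgroup.closure_le]
  rintro _ ⟨a, ha, rfl⟩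
  rw [comm_eq]
  exact V.mul_mem hu (V.inv_mem (cj_mem hAV ha hu))

theorem mem_centralizer_wu {A : Subgroup G} {u x : G} :
    x ∈ Subgroup.centralizer ((wu A u : Subgroup G) : Set G) ↔ ∀ a ∈ A, ⁅u, a⁆ * x = x * ⁅u, a⁆ := by
  unfold wu
  rw [Subgroup.centralizer_closure, Subgroup.mem_centralizer_iff]
  constructor
  · intro h a ha
    exact h _ ⟨a, ha, rfl⟩
  · rintro h _ ⟨a, ha, rfl⟩
    exact h a ha

/-- Key injectivity fact for the cyclic step. -/
theorem key_inj {V A : Subgroup G} (hVc : ∀ x ∈ V, ∀ y ∈ V, x * y = y * x)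
    (hAV : A ≤ Subgroup.normalizer (V : Set G))
    (hab : ⁅A, A⁆ ≤ Subgroup.centralizer (V : Set G)) {u : G} (hu : u ∈ V) {a a' : G}
    (ha : a ∈ A) (ha' : a' ∈ A) (hd : ⁅u, a⁆⁻¹ * ⁅u, a'⁆ ∈ cv V A) :
    a⁻¹ * a' ∈ Subgroup.centralizer ((wu A u : Subgroup G) : Set G) := by
  rw [mem_centralizer_wu]
  intro b hb
  obtain ⟨d, hddef⟩ : ∃ d, d = ⁅u, a⁆⁻¹ * ⁅u, a'⁆ := ⟨_, rfl⟩
  rw [← hddef] at hd
  rw [mem_cv] at hd
  have hdV := hd.1
  have hau : cj a u = d * cj a' u := by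
    rw [hddef, comm_eq, comm_eq]; group
  have hbd : cj b d = d := by
    unfold cj; rw [hd.2 b hb]; group
  -- cj a w = cj a' w for w = [u,b]
  have hcjw : cj a ⁅u, b⁆ = cj a' ⁅u, b⁆ := by
    rw [comm_eq u b, cj_mul_right, cj_mul_right, cj_inv_right, cj_inv_right,
      cj_comm hab ha hb hu, cj_comm hab ha' hb hu, hau, cj_mul_right, hbd]
    have hy1 : cj a' u ∈ V := cj_mem hAV ha' hu
    have hy2 : cj b (cj a' u) ∈ V := cj_mem hAV hb hy1
    have hcomm : d * (cj a' u * (cj b (cj a' u))⁻¹) = (cj a' u * (cj b (cj a' u))⁻¹) * d :=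
      hVc _ hdV _ (V.mul_mem hy1 (V.inv_mem hy2))
    calc d * cj a' u * (d * cj b (cj a' u))⁻¹
        = d * (cj a' u * (cj b (cj a' u))⁻¹) * d⁻¹ := by group
      _ = cj a' u * (cj b (cj a' u))⁻¹ := by rw [hcomm]; group
  have h1 : cj (a⁻¹ * a') ⁅u, b⁆ = ⁅u, b⁆ := by
    rw [cj_mul, ← hcjw, cj_inv_cj]
  unfold cj at h1
  calc ⁅u, b⁆ * (a⁻¹ * a') = (a⁻¹ * a' * ⁅u, b⁆ * (a⁻¹ * a')⁻¹) * (a⁻¹ * a') := by rw [h1]
    _ = a⁻¹ * a' * ⁅u, b⁆ := by group

/-- The cyclic step: `|A| |C_V(A)| ≤ |C_A([u,A])| |[u,A] C_V(A)|`. -/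
theorem cyclic_step [Finite G] {V A : Subgroup G} (hVc : ∀ x ∈ V, ∀ y ∈ V, x * y = y * x)
    (hAV : A ≤ Subgroup.normalizer (V : Set G))
    (hab : ⁅A, A⁆ ≤ Subgroup.centralizer (V : Set G)) {u : G} (hu : u ∈ V) :
    f V A ≤ Nat.card (A ⊓ Subgroup.centralizer ((wu A u : Subgroup G) : Set G) : Subgroup G) *
      Nat.card (wu A u ⊔ cv V A : Subgroup G) := by
  classical
  obtain ⟨Au, hAu⟩ : ∃ Au : Subgroup G,
      Au = A ⊓ Subgroup.centralizer ((wu A u : Subgroup G) : Set G) := ⟨_, rfl⟩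
  obtain ⟨X, hX⟩ : ∃ X : Subgroup G, X = wu A u ⊔ cv V A := ⟨_, rfl⟩
  obtain ⟨C, hC⟩ : ∃ C : Subgroup G, C = cv V A := ⟨_, rfl⟩
  have hCX : C ≤ X := by rw [hC, hX]; exact le_sup_right
  have hmemX : ∀ a : A, ⁅u, (a : G)⁆ ∈ X := fun a => by
    rw [hX]; exact Subgroup.mem_sup_left (comm_mem_wu a.2)
  obtain ⟨φ, hφ⟩ : ∃ φ : A → X ⧸ C.subgroupOf X,
      ∀ a : A, φ a = QuotientGroup.mk ⟨⁅u, (a : G)⁆, hmemX a⟩ := ⟨_, fun a => rfl⟩
  have hφeq : ∀ a a' : A, φ a = φ a' → ⁅u, (a : G)⁆⁻¹ * ⁅u, (a' : G)⁆ ∈ cv V A := by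
    intro a a' h
    rw [hφ, hφ, QuotientGroup.eq, Subgroup.mem_subgroupOf] at h
    rw [← hC]
    exact h
  haveI : Nonempty A := ⟨1⟩
  have hr : ∀ a : A, φ (Function.invFun φ (φ a)) = φ a := fun a =>
    Function.invFun_eq ⟨a, rfl⟩
  have hmemAu : ∀ a : A, ((Function.invFun φ (φ a) : A) : G)⁻¹ * (a : G) ∈ Au := by
    intro a
    rw [hAu]
    refine Subgroup.mem_inf.mpr ⟨A.mul_mem (A.inv_mem (Function.invFun φ (φ a)).2) a.2, ?_⟩
    exact key_inj hVc hAV hab hu (Function.invFun φ (φ a)).2 a.2 (hφeq _ _ (hr a))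
  have hinj : Function.Injective (fun a : A =>
      ((⟨((Function.invFun φ (φ a) : A) : G)⁻¹ * (a : G), hmemAu a⟩ : Au), φ a)) := by
    intro a a' h
    simp only [Prod.mk.injEq, Subtype.mk.injEq] at h
    obtain ⟨h1, h2⟩ := h
    rw [h2] at h1
    exact Subtype.ext (mul_left_cancel h1)
  have hcard := Nat.card_le_card_of_injective _ hinj
  rw [Nat.card_prod] at hcard
  have hlag := Subgroup.card_eq_card_quotient_mul_card_subgroup (C.subgroupOf X)
  rw [Cfsg.Agent.Helper1.card_subgroupOf_of_le hCX] at hlag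
  unfold f
  rw [← hAu, ← hX, ← hC, hlag]
  calc Nat.card A * Nat.card C ≤ (Nat.card Au * Nat.card (X ⧸ C.subgroupOf X)) * Nat.card C :=
        Nat.mul_le_mul_right _ hcard
    _ = Nat.card Au * (Nat.card (X ⧸ C.subgroupOf X) * Nat.card C) := by ring

theorem wu_sup_le {V A : Subgroup G} (hAV : A ≤ Subgroup.normalizer (V : Set G)) {u : G}
    (hu : u ∈ V) :
    wu A u ⊔ cv V A ≤ cv V (A ⊓ Subgroup.centralizer ((wu A u : Subgroup G) : Set G)) := by
  apply sup_le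
  · intro x hx
    rw [mem_cv]
    refine ⟨wu_le hAV hu hx, fun b hb => ?_⟩
    have hb2 := (Subgroup.mem_inf.1 hb).2
    exact (Subgroup.mem_centralizer_iff.1 hb2 x hx).symm
  · exact cv_anti V inf_le_left

/-- With `A` best: the cyclic replacement is again best, with the expected fixed points. -/
theorem cyclic_best [Finite G] {V A : Subgroup G} (hVc : ∀ x ∈ V, ∀ y ∈ V, x * y = y * x)
    (hAV : A ≤ Subgroup.normalizer (V : Set G))
    (hab : ⁅A, A⁆ ≤ Subgroup.centralizer (V : Set G))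
    (hbest : ∀ D : Subgroup G, D ≤ A → f V D ≤ f V A) {u : G} (hu : u ∈ V) :
    f V (A ⊓ Subgroup.centralizer ((wu A u : Subgroup G) : Set G)) = f V A ∧
      cv V (A ⊓ Subgroup.centralizer ((wu A u : Subgroup G) : Set G)) = wu A u ⊔ cv V A := by
  have h1 := cyclic_step hVc hAV hab hu
  have h2 := wu_sup_le (A := A) hAV hu
  have h3 := hbest _ (inf_le_left : A ⊓ Subgroup.centralizer ((wu A u : Subgroup G) : Set G) ≤ A)
  have h4 : Nat.card (wu A u ⊔ cv V A : Subgroup G) ≤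
      Nat.card (cv V (A ⊓ Subgroup.centralizer ((wu A u : Subgroup G) : Set G))) :=
    Nat.card_mono (Set.toFinite _) h2
  have h5 : Nat.card (A ⊓ Subgroup.centralizer ((wu A u : Subgroup G) : Set G) : Subgroup G) *
      Nat.card (wu A u ⊔ cv V A : Subgroup G) ≤
      f V (A ⊓ Subgroup.centralizer ((wu A u : Subgroup G) : Set G)) := by
    unfold f; exact Nat.mul_le_mul_left _ h4
  have h6 : f V (A ⊓ Subgroup.centralizer ((wu A u : Subgroup G) : Set G)) = f V A :=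
    le_antisymm h3 (h1.trans h5)
  refine ⟨h6, ?_⟩
  symm
  apply Subgroup.eq_of_le_of_card_ge h2
  have h7 : Nat.card (A ⊓ Subgroup.centralizer ((wu A u : Subgroup G) : Set G) : Subgroup G) *
      Nat.card (cv V (A ⊓ Subgroup.centralizer ((wu A u : Subgroup G) : Set G))) ≤
      Nat.card (A ⊓ Subgroup.centralizer ((wu A u : Subgroup G) : Set G) : Subgroup G) *
      Nat.card (wu A u ⊔ cv V A : Subgroup G) := by
    have := h1
    rw [← h6] at this
    exact this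
  exact Nat.le_of_mul_le_mul_left h7 Nat.card_pos

theorem finset_best [Finite G] {V A : Subgroup G} (hVc : ∀ x ∈ V, ∀ y ∈ V, x * y = y * x)
    (hAV : A ≤ Subgroup.normalizer (V : Set G))
    (hab : ⁅A, A⁆ ≤ Subgroup.centralizer (V : Set G))
    (hbest : ∀ D : Subgroup G, D ≤ A → f V D ≤ f V A) (s : Finset G) (hs : ∀ u ∈ s, u ∈ V) :
    f V (A ⊓ ⨅ u ∈ s, Subgroup.centralizer ((wu A u : Subgroup G) : Set G)) = f V A ∧
      cv V (A ⊓ ⨅ u ∈ s, Subgroup.centralizer ((wu A u : Subgroup G) : Set G)) =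
        cv V A ⊔ ⨆ u ∈ s, wu A u := by
  classical
  induction s using Finset.induction_on with
  | empty => simp
  | insert a s ha ih =>
    have ih' := ih (fun u hu => hs u (Finset.mem_insert_of_mem hu))
    have haV : a ∈ V := hs a (Finset.mem_insert_self a s)
    have hc := cyclic_best hVc hAV hab hbest haV
    rw [Finset.iInf_insert, Finset.iSup_insert, inf_inf_distrib_left]
    have hb := best_inf V A _ _ hVc
      (inf_le_left : A ⊓ Subgroup.centralizer ((wu A a : Subgroup G) : Set G) ≤ A)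
      (inf_le_left : A ⊓ ⨅ u ∈ s, Subgroup.centralizer ((wu A u : Subgroup G) : Set G) ≤ A)
      hbest hc.1 ih'.1
    refine ⟨hb.1, ?_⟩
    rw [hb.2, hc.2, ih'.2]
    apply le_antisymm
    · apply sup_le
      · apply sup_le
        · exact le_sup_of_le_right le_sup_left
        · exact le_sup_left
      · apply sup_le
        · exact le_sup_left
        · exact le_sup_of_le_right le_sup_right
    · apply sup_le
      · exact le_sup_of_le_left le_sup_right
      · apply sup_le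
        · exact le_sup_of_le_left le_sup_left
        · exact le_sup_of_le_right le_sup_right

theorem commutator_eq_iSup_wu (U A : Subgroup G) (s : Finset G) (hs : ∀ u, u ∈ s ↔ u ∈ U) :
    ⁅U, A⁆ = ⨆ u ∈ s, wu A u := by
  apply le_antisymm
  · rw [Subgroup.commutator_le]
    intro g₁ h₁ g₂ h₂
    have : wu A g₁ ≤ ⨆ u ∈ s, wu A u := le_biSup (fun u => wu A u) ((hs g₁).2 h₁)
    exact this (comm_mem_wu h₂)
  · apply iSup₂_le
    intro u hu
    unfold wu
    rw [Subgroup.closure_le]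
    rintro _ ⟨a, ha, rfl⟩
    exact Subgroup.commutator_mem_commutator ((hs u).1 hu) ha

theorem centralizer_commutator_eq (U A : Subgroup G) (s : Finset G) (hs : ∀ u, u ∈ s ↔ u ∈ U) :
    Subgroup.centralizer ((⁅U, A⁆ : Subgroup G) : Set G) =
      ⨅ u ∈ s, Subgroup.centralizer ((wu A u : Subgroup G) : Set G) := by
  apply le_antisymm
  · apply le_iInf₂
    intro u hu
    apply Subgroup.centralizer_le
    rw [commutator_eq_iSup_wu U A s hs]
    exact le_biSup (fun u => wu A u) hu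
  · intro x hx
    rw [Subgroup.commutator_def, Subgroup.centralizer_closure, Subgroup.mem_centralizer_iff]
    rintro _ ⟨g₁, h₁, g₂, h₂, rfl⟩
    have hle : (⨅ u ∈ s, Subgroup.centralizer ((wu A u : Subgroup G) : Set G)) ≤
        Subgroup.centralizer ((wu A g₁ : Subgroup G) : Set G) :=
      biInf_le (fun u => Subgroup.centralizer ((wu A u : Subgroup G) : Set G)) ((hs g₁).2 h₁)
    exact (mem_centralizer_wu.1 (hle hx)) g₂ h₂

/-- Timmesfeld replacement, counting form. -/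
theorem timmesfeld [Finite G] {V A : Subgroup G} (hVc : ∀ x ∈ V, ∀ y ∈ V, x * y = y * x)
    (hAV : A ≤ Subgroup.normalizer (V : Set G))
    (hab : ⁅A, A⁆ ≤ Subgroup.centralizer (V : Set G))
    (hbest : ∀ D : Subgroup G, D ≤ A → f V D ≤ f V A) (U : Subgroup G) (hU : U ≤ V) :
    f V (A ⊓ Subgroup.centralizer ((⁅U, A⁆ : Subgroup G) : Set G)) = f V A ∧
      cv V (A ⊓ Subgroup.centralizer ((⁅U, A⁆ : Subgroup G) : Set G)) = ⁅U, A⁆ ⊔ cv V A := by
  classical
  obtain ⟨s, hs⟩ : ∃ s : Finset G, ∀ u, u ∈ s ↔ u ∈ U :=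
    ⟨(Set.toFinite (U : Set G)).toFinset, fun u => by simp⟩
  have h := finset_best hVc hAV hab hbest s (fun u hu => hU ((hs u).1 hu))
  rw [centralizer_commutator_eq U A s hs, commutator_eq_iSup_wu U A s hs, sup_comm]
  exact h

/-- Thompson's replacement dichotomy. -/
theorem thompson_dichotomy [Finite G] {V A : Subgroup G}
    (hVc : ∀ x ∈ V, ∀ y ∈ V, x * y = y * x)
    (hAV : A ≤ Subgroup.normalizer (V : Set G))
    (hab : ⁅A, A⁆ ≤ Subgroup.centralizer (V : Set G)) (U : Subgroup G) (hU : U ≤ V) :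
    ∃ B : Subgroup G, B ≤ A ∧
      ((Nat.card A * Nat.card ↥(V ⊓ Subgroup.centralizer (A : Set G)) <
          Nat.card B * Nat.card ↥(V ⊓ Subgroup.centralizer (B : Set G))) ∨
        (B = A ⊓ Subgroup.centralizer ((⁅U, A⁆ : Subgroup G) : Set G) ∧
          (V ⊓ Subgroup.centralizer (B : Set G)) = ⁅U, A⁆ ⊔ (V ⊓ Subgroup.centralizer (A : Set G)) ∧
          Nat.card A * Nat.card ↥(V ⊓ Subgroup.centralizer (A : Set G)) =
            Nat.card B * Nat.card ↥(V ⊓ Subgroup.centralizer (B : Set G)))) := by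
  by_cases hbest : ∀ D : Subgroup G, D ≤ A → f V D ≤ f V A
  · have h := timmesfeld hVc hAV hab hbest U hU
    refine ⟨A ⊓ Subgroup.centralizer ((⁅U, A⁆ : Subgroup G) : Set G), inf_le_left,
      Or.inr ⟨rfl, h.2, h.1.symm⟩⟩
  · push Not at hbest
    obtain ⟨D, hDA, hlt⟩ := hbest
    exact ⟨D, hDA, Or.inl hlt⟩

theorem comm_of_isMulCommutative {V : Subgroup G} (h : IsMulCommutative V) :
    ∀ x ∈ V, ∀ y ∈ V, x * y = y * x := fun x hx y hy =>
  congrArg Subtype.val (h.is_comm.comm ⟨x, hx⟩ ⟨y, hy⟩)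

end Cfsg.Agent.Lead.Repl
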