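import Mathlib
import Cfsg.Agent.Lead.Replacement
import Cfsg.Agent.Helper1.Coprime

set_option autoImplicit false

namespace Cfsg.Agent.Lead.Repl

open scoped Pointwise commutatorElement

universe u

variable {G : Type u} [Group G]

/-- If `A / C_A(V)` has exponent dividing `p`, every element of `A` is `k * t` with `k ∈ C_A(V)`
and `t` in a given Sylow `p`-subgroup of `A`. -/
theorem exists_decomp [Finite G] {p : ℕ} [hp : Fact p.Prime] {V A : Subgroup G}
    (hAV : A ≤ Subgroup.normalizer (V : Set G))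
    (hpow : ∀ a ∈ A, a ^ p ∈ Subgroup.centralizer (V : Set G)) (T : Sylow p A) :
    ∀ a ∈ A, ∃ k ∈ A ⊓ Subgroup.centralizer (V : Set G),
      ∃ t ∈ (T : Subgroup A).map A.subtype, a = k * t := by
  obtain ⟨K', hK'⟩ : ∃ K' : Subgroup A, K' = (Subgroup.centralizer (V : Set G)).subgroupOf A :=
    ⟨_, rfl⟩
  haveI hK'n : K'.Normal := by
    refine ⟨fun k hk a => ?_⟩
    rw [hK', Subgroup.mem_subgroupOf] at hk ⊢
    rw [Subgroup.mem_centralizer_iff] at hk ⊢
    intro v hv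
    have hv' : (a : G)⁻¹ * v * ((a : G)⁻¹)⁻¹ ∈ V :=
      (Subgroup.mem_normalizer_iff.1 (hAV (A.inv_mem a.2)) v).1 hv
    have := hk _ hv'
    simp only [Subgroup.coe_mul, Subgroup.coe_inv]
    calc v * ((a : G) * (k : G) * (a : G)⁻¹)
        = (a : G) * (((a : G)⁻¹ * v * ((a : G)⁻¹)⁻¹) * (k : G)) * (a : G)⁻¹ := by group
      _ = (a : G) * ((k : G) * ((a : G)⁻¹ * v * ((a : G)⁻¹)⁻¹)) * (a : G)⁻¹ := by rw [this]
      _ = (a : G) * (k : G) * (a : G)⁻¹ * v := by group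
  have hQp : IsPGroup p (A ⧸ K') := by
    intro q
    refine ⟨1, ?_⟩
    induction q using QuotientGroup.induction_on with
    | H a =>
      rw [pow_one, ← QuotientGroup.mk_pow, QuotientGroup.eq_one_iff, hK', Subgroup.mem_subgroupOf]
      simp only [Subgroup.coe_pow]
      exact hpow a a.2
  obtain ⟨n, hn⟩ := IsPGroup.iff_card.1 hQp
  have hidxK : K'.index = p ^ n := by rw [Subgroup.index, hn]
  have h1 : (K' ⊔ (T : Subgroup A)).index ∣ p ^ n := hidxK ▸ Subgroup.index_dvd_of_le le_sup_left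
  have h2 : (K' ⊔ (T : Subgroup A)).index ∣ (T : Subgroup A).index :=
    Subgroup.index_dvd_of_le le_sup_right
  have h3 : (K' ⊔ (T : Subgroup A)).index = 1 := by
    obtain ⟨m, -, hm⟩ := (Nat.dvd_prime_pow hp.out).1 h1
    cases m with
    | zero => rw [hm, pow_zero]
    | succ m =>
      exfalso
      apply T.not_dvd_index
      rw [hm] at h2
      exact (dvd_pow_self p (Nat.succ_ne_zero m)).trans h2
  have htop : K' ⊔ (T : Subgroup A) = ⊤ := Subgroup.index_eq_one.1 h3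
  intro a ha
  have hmem : (⟨a, ha⟩ : A) ∈ ((K' ⊔ (T : Subgroup A) : Subgroup A) : Set A) := by
    rw [htop]; trivial
  rw [Subgroup.normal_mul] at hmem
  obtain ⟨k, hk, t, ht, hkt⟩ := hmem
  refine ⟨(k : G), ?_, (t : G), ⟨t, ht, rfl⟩, ?_⟩
  · rw [hK'] at hk
    exact Subgroup.mem_inf.mpr ⟨k.2, Subgroup.mem_subgroupOf.1 hk⟩
  · have := congrArg Subtype.val hkt
    simpa using this.symm

/-- `p`-group action: an `A`-invariant subgroup `X ≤ V` with `X ≤ [X, A]` is trivial. -/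
theorem eq_bot_of_le_commutator [Finite G] {p : ℕ} [hp : Fact p.Prime] {V A X : Subgroup G}
    (hVc : ∀ x ∈ V, ∀ y ∈ V, x * y = y * x) (hVp : ∀ x ∈ V, x ^ p = 1)
    (hAV : A ≤ Subgroup.normalizer (V : Set G))
    (hpow : ∀ a ∈ A, a ^ p ∈ Subgroup.centralizer (V : Set G))
    (hXV : X ≤ V) (hAX : A ≤ Subgroup.normalizer (X : Set G)) (hX : X ≤ ⁅X, A⁆) : X = ⊥ := by
  obtain ⟨T⟩ := (inferInstance : Nonempty (Sylow p A))
  obtain ⟨T', hT'⟩ : ∃ T' : Subgroup G, T' = (T : Subgroup A).map A.subtype := ⟨_, rfl⟩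
  have hT'A : T' ≤ A := hT' ▸ Subgroup.map_subtype_le _
  have hT'p : IsPGroup p T' := hT' ▸ T.isPGroup'.map _
  have hXp : IsPGroup p X := by
    intro x
    refine ⟨1, ?_⟩
    rw [pow_one]
    apply Subtype.ext
    rw [Subgroup.coe_pow]
    exact hVp x (hXV x.2)
  have hle : ⁅X, A⁆ ≤ ⁅X, T'⁆ := by
    rw [Subgroup.commutator_le]
    intro x hx a ha
    obtain ⟨k, hk, t, ht, rfl⟩ := exists_decomp hAV hpow T a ha
    rw [← hT'] at ht
    have hkc := (Subgroup.mem_inf.1 hk).2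
    have h1 : ⁅x, k⁆ = 1 := by
      rw [commutatorElement_eq_one_iff_mul_comm]
      exact Subgroup.mem_centralizer_iff.1 hkc x (hXV hx)
    have h2 : ⁅x, t⁆ ∈ ⁅X, T'⁆ := Subgroup.commutator_mem_commutator hx ht
    have h3 : ⁅x, t⁆ ∈ V := by
      have : ⁅X, T'⁆ ≤ X :=
        Subgroup.le_normalizer_iff_commutator_le_left.1 (hT'A.trans hAX)
      exact hXV (this h2)
    have h4 : k * ⁅x, t⁆ * k⁻¹ = ⁅x, t⁆ := by
      rw [← Subgroup.mem_centralizer_iff.1 hkc _ h3]; group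
    rw [commutatorElement_mul_right_eq_mul_conj, h1, one_mul, h4]
    exact h2
  by_contra hne
  have hlt := Cfsg.Agent.Helper1.commutator_lt_of_isPGroup hXp hT'p (hT'A.trans hAX) hne
  exact absurd (hX.trans hle) (not_le_of_gt hlt)

/-- Timmesfeld replacement, nontriviality clause. -/
theorem timmesfeld_nontrivial [Finite G] {p : ℕ} [hp : Fact p.Prime] {V A : Subgroup G}
    (hVc : ∀ x ∈ V, ∀ y ∈ V, x * y = y * x) (hVp : ∀ x ∈ V, x ^ p = 1)
    (hAV : A ≤ Subgroup.normalizer (V : Set G))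
    (hab : ⁅A, A⁆ ≤ Subgroup.centralizer (V : Set G))
    (hpow : ∀ a ∈ A, a ^ p ∈ Subgroup.centralizer (V : Set G))
    (hbest : ∀ D : Subgroup G, D ≤ A → f V D ≤ f V A) (U : Subgroup G) (hU : U ≤ V)
    (hne : ⁅V, A⁆ ≠ ⊥) :
    ⁅V, A ⊓ Subgroup.centralizer ((⁅U, A⁆ : Subgroup G) : Set G)⁆ ≠ ⊥ := by
  intro hbot
  apply hne
  have hcent := Subgroup.commutator_eq_bot_iff_le_centralizer.1 hbot
  have h := (timmesfeld hVc hAV hab hbest U hU).2
  have hcvV : cv V (A ⊓ Subgroup.centralizer ((⁅U, A⁆ : Subgroup G) : Set G)) = V := by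
    unfold cv
    exact inf_eq_left.2 hcent
  rw [hcvV] at h
  have hVA : ⁅V, A⁆ ≤ V := Subgroup.le_normalizer_iff_commutator_le_left.1 hAV
  have hUA : ⁅U, A⁆ ≤ ⁅V, A⁆ := Subgroup.commutator_mono hU le_rfl
  have hnorm : cv V A ≤ Subgroup.normalizer ((⁅U, A⁆ : Subgroup G) : Set G) := by
    refine le_trans ?_ (Subgroup.centralizer_le_normalizer _)
    intro x hx
    rw [Subgroup.mem_centralizer_iff]
    intro y hy
    exact hVc y (hVA (hUA hy)) x (cv_le V A hx)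
  have hX : ⁅V, A⁆ ≤ ⁅⁅V, A⁆, A⁆ := by
    rw [Subgroup.commutator_le]
    intro v hv a ha
    have hv' : v ∈ ⁅U, A⁆ ⊔ cv V A := h ▸ hv
    obtain ⟨w, hw, c, hc, rfl⟩ := Cfsg.Agent.Helper1.mem_sup_of_le_normalizer hnorm hv'
    have h1 : ⁅c, a⁆ = 1 := by
      rw [commutatorElement_eq_one_iff_mul_comm]
      exact ((mem_cv.1 hc).2 a ha).symm
    rw [commutatorElement_mul_left_eq_conj_mul, h1, mul_one, mul_inv_cancel, one_mul]
    exact Subgroup.commutator_mem_commutator (hUA hw) ha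
  exact eq_bot_of_le_commutator hVc hVp hAV hpow hVA (Subgroup.normalizer_commutator_ge_right V A) hX

/-- Timmesfeld replacement theorem in the vocabulary of `Cfsg.IsBestOffenderOn`. -/
theorem timmesfeld_best [Finite G] {p : ℕ} [hp : Fact p.Prime] (V A : Subgroup G)
    (hV : Cfsg.IsElementaryAbelian p V) (hAV : A ≤ Subgroup.normalizer (V : Set G))
    (hA : Cfsg.IsBestOffenderOn p V A) (U : Subgroup G) (hU : U ≤ V) :
    Cfsg.IsBestOffenderOn p V (A ⊓ Subgroup.centralizer ((⁅U, A⁆ : Subgroup G) : Set G)) ∧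
      V ⊓ Subgroup.centralizer ((A ⊓ Subgroup.centralizer ((⁅U, A⁆ : Subgroup G) : Set G) :
        Subgroup G) : Set G) = ⁅U, A⁆ ⊔ (V ⊓ Subgroup.centralizer (A : Set G)) ∧
      (⁅V, A⁆ ≠ ⊥ → ⁅V, A ⊓ Subgroup.centralizer ((⁅U, A⁆ : Subgroup G) : Set G)⁆ ≠ ⊥) := by
  have hVc := comm_of_isMulCommutative hV.1
  obtain ⟨hbest, hab, hpow⟩ := hA
  have hbest' : ∀ D : Subgroup G, D ≤ A → f V D ≤ f V A := hbest
  have h := timmesfeld hVc hAV hab hbest' U hU
  refine ⟨⟨?_, ?_, ?_⟩, h.2, timmesfeld_nontrivial hVc hV.2 hAV hab hpow hbest' U hU⟩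
  · intro D hD
    have h1 := hbest' D (hD.trans inf_le_left)
    have h2 := h.1
    unfold f cv at h1 h2
    rw [h2]
    exact h1
  · exact (Subgroup.commutator_mono inf_le_left inf_le_left).trans hab
  · intro a ha
    exact hpow a (Subgroup.mem_inf.1 ha).1

end Cfsg.Agent.Lead.Repl
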