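import Mathlib
import Cfsg.Agent.Lead.Replacement2

set_option autoImplicit false

namespace Cfsg.Agent.Lead.Repl

open scoped Pointwise commutatorElement

universe u

variable {G : Type u} [Group G]

/-- The join of two elementary abelian subgroups centralizing each other is elementary abelian. -/
theorem elementaryAbelian_sup {p : ℕ} {H₁ H₂ : Subgroup G} (h₁ : Cfsg.IsElementaryAbelian p H₁)
    (h₂ : Cfsg.IsElementaryAbelian p H₂) (hc : H₂ ≤ Subgroup.centralizer (H₁ : Set G)) :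
    Cfsg.IsElementaryAbelian p (H₁ ⊔ H₂) := by
  have hn : H₂ ≤ Subgroup.normalizer (H₁ : Set G) :=
    hc.trans (Subgroup.centralizer_le_normalizer _)
  have hc1 := comm_of_isMulCommutative h₁.1
  have hc2 := comm_of_isMulCommutative h₂.1
  have hc12 : ∀ x ∈ H₁, ∀ y ∈ H₂, x * y = y * x := fun x hx y hy =>
    Subgroup.mem_centralizer_iff.1 (hc hy) x hx
  have hcomm : ∀ x ∈ H₁ ⊔ H₂, ∀ y ∈ H₁ ⊔ H₂, x * y = y * x := by
    intro x hx y hy
    obtain ⟨a, ha, b, hb, rfl⟩ := Cfsg.Agent.Helper1.mem_sup_of_le_normalizer hn hx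
    obtain ⟨c, hcc, d, hd, rfl⟩ := Cfsg.Agent.Helper1.mem_sup_of_le_normalizer hn hy
    calc a * b * (c * d) = a * (b * c) * d := by group
      _ = a * (c * b) * d := by rw [hc12 c hcc b hb]
      _ = (a * c) * (b * d) := by group
      _ = (c * a) * (d * b) := by rw [hc1 a ha c hcc, hc2 b hb d hd]
      _ = c * (a * d) * b := by group
      _ = c * (d * a) * b := by rw [hc12 a ha d hd]
      _ = c * d * (a * b) := by group
  refine ⟨⟨⟨fun x y => Subtype.ext (hcomm x x.2 y y.2)⟩⟩, ?_⟩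
  intro x hx
  obtain ⟨a, ha, b, hb, rfl⟩ := Cfsg.Agent.Helper1.mem_sup_of_le_normalizer hn hx
  have : Commute a b := hc12 a ha b hb
  rw [this.mul_pow, h₁.2 a ha, h₂.2 b hb, one_mul]

theorem elementaryAbelian_of_le {p : ℕ} {H K : Subgroup G} (hK : Cfsg.IsElementaryAbelian p K)
    (h : H ≤ K) : Cfsg.IsElementaryAbelian p H := by
  have hc := comm_of_isMulCommutative hK.1
  exact ⟨⟨⟨fun x y => Subtype.ext (hc x (h x.2) y (h y.2))⟩⟩, fun a ha => hK.2 a (h ha)⟩

theorem cv_le_centralizer (V D : Subgroup G) : cv V D ≤ Subgroup.centralizer (D : Set G) :=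
  inf_le_right

theorem inf_cv_le {V A D : Subgroup G} (hA : ∀ x ∈ A, ∀ y ∈ A, x * y = y * x) (hD : D ≤ A) :
    D ⊓ cv V D ≤ cv V A := by
  intro x hx
  rw [Subgroup.mem_inf] at hx
  rw [mem_cv]
  exact ⟨cv_le V D hx.2, fun b hb => hA b hb x (hD hx.1)⟩

theorem mem_maxEA {p : ℕ} {A : Subgroup G} (hA : A ∈ Cfsg.maxElementaryAbelianSubgroups p G) :
    Cfsg.IsElementaryAbelian p A ∧
      ∀ B : Subgroup G, Cfsg.IsElementaryAbelian p B → Nat.card B ≤ Nat.card A := hA

/-- A maximal elementary abelian subgroup is a best offender (counting form). -/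
theorem best_of_max [Finite G] {p : ℕ} {V A : Subgroup G} (hV : Cfsg.IsElementaryAbelian p V)
    (hA : A ∈ Cfsg.maxElementaryAbelianSubgroups p G) :
    ∀ D : Subgroup G, D ≤ A → f V D ≤ f V A := by
  intro D hD
  obtain ⟨hA1, hA2⟩ := mem_maxEA hA
  have hAc := comm_of_isMulCommutative hA1.1
  have hE : Cfsg.IsElementaryAbelian p (D ⊔ cv V D) :=
    elementaryAbelian_sup (elementaryAbelian_of_le hA1 hD)
      (elementaryAbelian_of_le hV (cv_le V D)) (cv_le_centralizer V D)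
  have h1 : Nat.card (D ⊔ cv V D : Subgroup G) ≤ Nat.card A := hA2 (D ⊔ cv V D) hE
  have h2 : Nat.card (D ⊔ cv V D : Subgroup G) * Nat.card (D ⊓ cv V D : Subgroup G) =
      Nat.card D * Nat.card (cv V D) := Cfsg.Agent.Helper1.card_sup_mul_card_inf
    ((cv_le_centralizer V D).trans (Subgroup.centralizer_le_normalizer _))
  have h3 : Nat.card (D ⊓ cv V D : Subgroup G) ≤ Nat.card (cv V A) :=
    Subgroup.card_le_of_le (inf_cv_le hAc hD)
  show Nat.card D * Nat.card (cv V D) ≤ Nat.card A * Nat.card (cv V A)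
  calc Nat.card D * Nat.card (cv V D)
      = Nat.card (D ⊔ cv V D : Subgroup G) * Nat.card (D ⊓ cv V D : Subgroup G) := h2.symm
    _ ≤ Nat.card A * Nat.card (cv V A) := Nat.mul_le_mul h1 h3

/-- Thompson replacement for the (elementary abelian) Thompson subgroup. -/
theorem thompson_replacement [Finite G] {p : ℕ} [hp : Fact p.Prime] (V : Subgroup G) [hVn : V.Normal]
    (hV : Cfsg.IsElementaryAbelian p V) (A : Subgroup G)
    (hA : A ∈ Cfsg.maxElementaryAbelianSubgroups p G) :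
    (⁅V, A⁆ ⊔ (A ⊓ Subgroup.centralizer ((⁅V, A⁆ : Subgroup G) : Set G))) ∈
        Cfsg.maxElementaryAbelianSubgroups p G ∧
      ⁅⁅V, ⁅V, A⁆ ⊔ (A ⊓ Subgroup.centralizer ((⁅V, A⁆ : Subgroup G) : Set G))⁆,
        ⁅V, A⁆ ⊔ (A ⊓ Subgroup.centralizer ((⁅V, A⁆ : Subgroup G) : Set G))⁆ = ⊥ ∧
      (⁅V, A⁆ ≠ ⊥ →
        ⁅V, ⁅V, A⁆ ⊔ (A ⊓ Subgroup.centralizer ((⁅V, A⁆ : Subgroup G) : Set G))⁆ ≠ ⊥) := by
  obtain ⟨hA1, hA2⟩ := mem_maxEA hA
  have hVc := comm_of_isMulCommutative hV.1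
  have hAc := comm_of_isMulCommutative hA1.1
  have hAV : A ≤ Subgroup.normalizer (V : Set G) := by
    rw [Subgroup.normalizer_eq_top]; exact le_top
  have hab : ⁅A, A⁆ ≤ Subgroup.centralizer (V : Set G) := by
    have : ⁅A, A⁆ = ⊥ := Subgroup.commutator_self_eq_bot_iff.2 hA1.1
    rw [this]; exact bot_le
  have hpow : ∀ a ∈ A, a ^ p ∈ Subgroup.centralizer (V : Set G) := fun a ha => by
    rw [hA1.2 a ha]; exact Subgroup.one_mem _
  have hbest := best_of_max hV hA
  obtain ⟨W, hW⟩ : ∃ W : Subgroup G, W = ⁅V, A⁆ := ⟨_, rfl⟩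
  obtain ⟨B, hB⟩ : ∃ B : Subgroup G, B = A ⊓ Subgroup.centralizer ((⁅V, A⁆ : Subgroup G) : Set G) :=
    ⟨_, rfl⟩
  have ht := timmesfeld hVc hAV hab hbest V le_rfl
  rw [← hB, ← hW] at ht
  rw [← hB, ← hW]
  have hWV : W ≤ V := hW ▸ Subgroup.commutator_le_left V A
  have hBA : B ≤ A := hB ▸ inf_le_left
  have hBW : B ≤ Subgroup.centralizer ((W : Subgroup G) : Set G) := by rw [hB, hW]; exact inf_le_right
  -- C_V(A) ≤ A
  have hcvA : cv V A ≤ A := by
    have hE : Cfsg.IsElementaryAbelian p (A ⊔ cv V A) :=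
      elementaryAbelian_sup hA1 (elementaryAbelian_of_le hV (cv_le V A)) (cv_le_centralizer V A)
    have h1 : Nat.card (A ⊔ cv V A : Subgroup G) ≤ Nat.card A := hA2 (A ⊔ cv V A) hE
    have h2 : A = A ⊔ cv V A := Subgroup.eq_of_le_of_card_ge le_sup_left h1
    exact le_sup_right.trans h2.ge
  have hcvB : cv V A ≤ B := by
    rw [hB]
    refine le_inf hcvA ?_
    intro x hx
    rw [Subgroup.mem_centralizer_iff]
    intro y hy
    exact hVc y (Subgroup.commutator_le_left V A hy) x (cv_le V A hx)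
  -- E' = B ⊔ C_V(B) = W ⊔ B
  have hE'eq : B ⊔ cv V B = W ⊔ B := by
    rw [ht.2]
    apply le_antisymm
    · exact sup_le le_sup_right (sup_le le_sup_left (hcvB.trans le_sup_right))
    · exact sup_le (le_sup_of_le_right le_sup_left) le_sup_left
  have hE' : Cfsg.IsElementaryAbelian p (B ⊔ cv V B) :=
    elementaryAbelian_sup (elementaryAbelian_of_le hA1 hBA)
      (elementaryAbelian_of_le hV (cv_le V B)) (cv_le_centralizer V B)
  have hcardE' : Nat.card A ≤ Nat.card (B ⊔ cv V B : Subgroup G) := by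
    have h2 := Cfsg.Agent.Helper1.card_sup_mul_card_inf
      ((cv_le_centralizer V B).trans (Subgroup.centralizer_le_normalizer _))
    have h3 : Nat.card (B ⊓ cv V B : Subgroup G) ≤ Nat.card (cv V A) :=
      Subgroup.card_le_of_le (inf_cv_le hAc hBA)
    have h4 := ht.1
    unfold f at h4
    rw [← h2] at h4
    have hpos : 0 < Nat.card (B ⊓ cv V B : Subgroup G) := Nat.card_pos
    by_contra hlt
    push Not at hlt
    have : Nat.card (B ⊔ cv V B : Subgroup G) * Nat.card (B ⊓ cv V B : Subgroup G) <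
        Nat.card A * Nat.card (cv V A) :=
      calc _ < Nat.card A * Nat.card (B ⊓ cv V B : Subgroup G) :=
            Nat.mul_lt_mul_of_pos_right hlt hpos
        _ ≤ _ := Nat.mul_le_mul_left _ h3
    exact absurd h4 (Nat.ne_of_lt this)
  rw [hE'eq] at hE' hcardE'
  have hA0cent : W ⊔ B ≤ Subgroup.centralizer ((W : Subgroup G) : Set G) := by
    apply sup_le _ hBW
    intro x hx
    rw [Subgroup.mem_centralizer_iff]
    intro y hy
    exact hVc y (hWV hy) x (hWV hx)
  have hBnW : B ≤ Subgroup.normalizer ((W : Subgroup G) : Set G) :=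
    hBW.trans (Subgroup.centralizer_le_normalizer _)
  have hVA0 : ⁅V, W ⊔ B⁆ ≤ W := by
    rw [Subgroup.commutator_le]
    intro v hv x hx
    obtain ⟨w, hw, b, hb, rfl⟩ := Cfsg.Agent.Helper1.mem_sup_of_le_normalizer hBnW hx
    have h1 : ⁅v, w⁆ = 1 := by
      rw [commutatorElement_eq_one_iff_mul_comm]
      exact hVc v hv w (hWV hw)
    have h2 : ⁅v, b⁆ ∈ W := hW ▸ Subgroup.commutator_mem_commutator hv (hBA hb)
    have h3 : w * ⁅v, b⁆ * w⁻¹ = ⁅v, b⁆ := by
      rw [hVc w (hWV hw) _ (hWV h2)]; group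
    rw [commutatorElement_mul_right_eq_mul_conj, h1, one_mul, h3]
    exact h2
  refine ⟨⟨hE', fun B'' hB'' => (hA2 B'' hB'').trans hcardE'⟩, ?_, ?_⟩
  · rw [eq_bot_iff]
    refine (Subgroup.commutator_mono hVA0 le_rfl).trans ?_
    rw [le_bot_iff, Subgroup.commutator_eq_bot_iff_le_centralizer, Subgroup.le_centralizer_iff]
    exact hA0cent
  · intro hne
    have h1 := timmesfeld_nontrivial hVc hV.2 hAV hab hpow hbest V le_rfl (hW ▸ hne)
    rw [← hB] at h1
    intro hbot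
    apply h1
    rw [eq_bot_iff, ← hbot]
    exact Subgroup.commutator_mono le_rfl le_sup_right

end Cfsg.Agent.Lead.Repl
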