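import Mathlib
import Cfsg.Prelude.Def_FusionComponents

namespace Cfsg.Agent.Lead.AltSylow

open Equiv

section general

variable {G : Type*} [Group G] {p : ℕ} [Fact p.Prime]

theorem isMulCommutative_of_mulEquiv {A B : Type*} [Mul A] [Mul B] (e : A ≃* B)
    (h : IsMulCommutative A) : IsMulCommutative B := by
  rw [isMulCommutative_iff] at h ⊢
  intro a b
  have := h (e.symm a) (e.symm b)
  rw [← map_mul, ← map_mul] at this
  exact e.symm.injective this

/-- If a `p`-subgroup has noncommuting elements, then no Sylow `p`-subgroup is commutative. -/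
theorem not_comm_of_pgroup [Finite G] (H : Subgroup G) (hH : IsPGroup p H) (a b : G)
    (ha : a ∈ H) (hb : b ∈ H) (hab : a * b ≠ b * a) (S : Sylow p G) :
    ¬ IsMulCommutative S := by
  intro hS
  obtain ⟨Q, hQ⟩ := hH.exists_le_sylow
  obtain ⟨g, hg⟩ := MulAction.exists_smul_eq G S Q
  have hQc : IsMulCommutative Q := by
    rw [← hg]
    exact isMulCommutative_of_mulEquiv (Sylow.equivSMul S g) hS
  rw [isMulCommutative_iff] at hQc
  have := hQc ⟨a, hQ ha⟩ ⟨b, hQ hb⟩
  exact hab (congrArg Subtype.val this)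

/-- The same, via an injective hom from a `p`-group. -/
theorem not_comm_of_hom [Finite G] {K : Type*} [Group K] (hK : IsPGroup p K) (φ : K →* G)
    (hφ : Function.Injective φ) (a b : K) (hab : a * b ≠ b * a) (S : Sylow p G) :
    ¬ IsMulCommutative S := by
  refine not_comm_of_pgroup φ.range ?_ (φ a) (φ b) ⟨a, rfl⟩ ⟨b, rfl⟩ ?_ S
  · exact hK.of_surjective φ.rangeRestrict φ.rangeRestrict_surjective
  · rw [← map_mul, ← map_mul]
    exact fun h => hab (hφ h)

theorem isPGroup_zpowers_of_pow_eq_one {g : G} {k : ℕ} (hg : g ^ p ^ k = 1) :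
    IsPGroup p (Subgroup.zpowers g) := by
  rintro ⟨x, hx⟩
  obtain ⟨m, rfl⟩ := Subgroup.mem_zpowers_iff.mp hx
  refine ⟨k, ?_⟩
  apply Subtype.ext
  simp only [Subgroup.coe_pow, Subgroup.coe_one]
  rw [← zpow_natCast, ← zpow_mul, mul_comm, zpow_mul, zpow_natCast, hg, one_zpow]

end general

section wreath

variable (p : ℕ) [Fact p.Prime]

/-- Translation of each column `j` by `f j`. -/
def base (f : ZMod p → ZMod p) : Perm (ZMod p × ZMod p) where
  toFun x := (x.1 + f x.2, x.2)
  invFun x := (x.1 - f x.2, x.2)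
  left_inv x := by simp
  right_inv x := by simp

/-- The base group hom. -/
def baseHom : Multiplicative (ZMod p → ZMod p) →* Perm (ZMod p × ZMod p) where
  toFun f := base p (Multiplicative.toAdd f)
  map_one' := by
    ext x <;> simp [base]
  map_mul' f g := by
    ext x <;> simp [base, add_comm, add_left_comm]

/-- The cyclic shift of the columns. -/
def shift : Perm (ZMod p × ZMod p) where
  toFun x := (x.1, x.2 + 1)
  invFun x := (x.1, x.2 - 1)
  left_inv x := by simp
  right_inv x := by simp

theorem shift_conj (f : ZMod p → ZMod p) :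
    shift p * base p f * (shift p)⁻¹ = base p (fun j => f (j - 1)) := by
  ext x <;> simp [shift, base, Perm.inv_def]

theorem shift_pow (k : ℕ) (x : ZMod p × ZMod p) : (shift p ^ k) x = (x.1, x.2 + k) := by
  induction k with
  | zero => simp
  | succ k ih =>
    rw [pow_succ', Perm.mul_apply, ih]
    simp [shift, add_assoc]

theorem shift_pow_p : shift p ^ p ^ 1 = 1 := by
  ext x <;> simp [shift_pow]

theorem isPGroup_base : IsPGroup p (baseHom p).range := by
  have h : IsPGroup p (Multiplicative (ZMod p → ZMod p)) := by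
    intro f
    refine ⟨1, ?_⟩
    rw [pow_one]
    change Multiplicative.ofAdd (p • Multiplicative.toAdd f) = 1
    have : p • Multiplicative.toAdd f = 0 := by
      ext j
      simp
    rw [this]; rfl
  exact h.of_surjective (baseHom p).rangeRestrict (baseHom p).rangeRestrict_surjective

theorem shift_mem_normalizer :
    shift p ∈ Subgroup.normalizer ((baseHom p).range : Set (Perm (ZMod p × ZMod p))) := by
  apply Subgroup.mem_normalizer_fintype
  · rintro n ⟨f, rfl⟩
    exact ⟨Multiplicative.ofAdd (fun j => Multiplicative.toAdd f (j - 1)), (shift_conj p _).symm⟩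

/-- The wreath product `Z_p ≀ Z_p` as a subgroup of `Perm (ZMod p × ZMod p)`. -/
def wr : Subgroup (Perm (ZMod p × ZMod p)) := Subgroup.zpowers (shift p) ⊔ (baseHom p).range

theorem isPGroup_wr : IsPGroup p (wr p) := by
  refine IsPGroup.to_sup_of_normal_right' (isPGroup_zpowers_of_pow_eq_one (shift_pow_p p))
    (isPGroup_base p) ?_
  rw [Subgroup.zpowers_le]
  exact shift_mem_normalizer p

theorem shift_mem_wr : shift p ∈ wr p :=
  (le_sup_left : _ ≤ wr p) (Subgroup.mem_zpowers _)

theorem base_mem_wr (f : ZMod p → ZMod p) : base p f ∈ wr p :=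
  (le_sup_right : _ ≤ wr p) ⟨Multiplicative.ofAdd f, rfl⟩

theorem wr_not_comm :
    base p (fun j => if j = 0 then 1 else 0) * shift p ≠
      shift p * base p (fun j => if j = 0 then 1 else 0) := by
  intro h
  have := congrArg (fun σ : Perm (ZMod p × ZMod p) => (σ (0, 0)).1) h
  simp [base, shift] at this

end wreath

section alt

variable {p : ℕ} [Fact p.Prime]

theorem sign_eq_one_of_pow_eq_one {α : Type*} [Fintype α] [DecidableEq α] (hp : p ≠ 2)
    (σ : Perm α) {k : ℕ} (h : σ ^ p ^ k = 1) : Perm.sign σ = 1 := by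
  have h1 : Perm.sign σ ^ p ^ k = 1 := by rw [← map_pow, h, map_one]
  rcases Int.units_eq_one_or (Perm.sign σ) with h2 | h2
  · exact h2
  · exfalso
    rw [h2] at h1
    have hodd : Odd (p ^ k) := ((Fact.out : p.Prime).odd_of_ne_two hp).pow
    rw [hodd.neg_one_pow] at h1
    exact absurd h1 (by decide)

theorem sign_viaEmbeddingHom {α β : Type*} [Fintype α] [DecidableEq α] [Fintype β]
    [DecidableEq β] (ι : α ↪ β) (σ : Perm α) :
    Perm.sign (Perm.viaEmbeddingHom ι σ) = Perm.sign σ := by
  rw [Perm.viaEmbeddingHom_apply]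
  unfold Perm.viaEmbedding
  exact @Perm.sign_extendDomain _ _ _ _ _ _ σ _ (fun a => Classical.propDecidable _) _

/-- A `p`-group `K` with an injective hom to `Perm (Fin n)` landing in the alternating group
and noncommuting elements forbids commutative Sylow `p`-subgroups of `A_n`. -/
theorem not_comm_alt {n : ℕ} {K : Type*} [Group K] (hK : IsPGroup p K) (φ : K →* Perm (Fin n))
    (hφ : Function.Injective φ) (hsign : ∀ x, Perm.sign (φ x) = 1)
    (a b : K) (hab : a * b ≠ b * a) (S : Sylow p (alternatingGroup (Fin n))) :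
    ¬ IsMulCommutative S := by
  have hmem : ∀ x, φ x ∈ alternatingGroup (Fin n) := fun x =>
    Perm.mem_alternatingGroup.mpr (hsign x)
  refine not_comm_of_hom hK (φ.codRestrict (alternatingGroup (Fin n)) hmem) ?_ a b hab S
  intro x y hxy
  apply hφ
  exact congrArg Subtype.val hxy

theorem not_comm_of_sq_le_odd {n : ℕ} (hp : p ≠ 2) (hn : p ^ 2 ≤ n)
    (S : Sylow p (alternatingGroup (Fin n))) : ¬ IsMulCommutative S := by
  have hcard : Fintype.card (ZMod p × ZMod p) ≤ Fintype.card (Fin n) := by
    rw [Fintype.card_prod, ZMod.card, Fintype.card_fin, ← sq]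
    exact hn
  obtain ⟨ι⟩ := Function.Embedding.nonempty_of_card_le hcard
  have hinj : Function.Injective ((Perm.viaEmbeddingHom ι).comp (wr p).subtype) :=
    (Perm.viaEmbeddingHom_injective ι).comp Subtype.val_injective
  refine not_comm_alt (isPGroup_wr p) ((Perm.viaEmbeddingHom ι).comp (wr p).subtype) hinj ?_
    ⟨_, base_mem_wr p (fun j => if j = 0 then 1 else 0)⟩ ⟨_, shift_mem_wr p⟩ ?_ S
  · intro x
    obtain ⟨k, hk⟩ := isPGroup_wr p x
    apply sign_eq_one_of_pow_eq_one hp (k := k)
    rw [← map_pow, hk, map_one]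
  · intro h
    exact wr_not_comm p (congrArg Subtype.val h)

end alt

section two

/-- An element of order four in `A_6`. -/
def r6 : Perm (Fin 6) := swap 0 1 * swap 1 2 * swap 2 3 * swap 4 5

/-- An involution in `A_6` inverting `r6`. -/
def s6 : Perm (Fin 6) := swap 0 2 * swap 4 5

theorem s6_conj : s6 * r6 * s6⁻¹ = r6⁻¹ := by decide

theorem r6_pow : r6 ^ 2 ^ 2 = 1 := by decide

theorem s6_pow : s6 ^ 2 ^ 1 = 1 := by decide

theorem r6_s6_ne : r6 * s6 ≠ s6 * r6 := by decide

theorem sign_r6 : Perm.sign r6 = 1 := by decide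

theorem sign_s6 : Perm.sign s6 = 1 := by decide

/-- A dihedral group of order eight in `A_6`. -/
def d8 : Subgroup (Perm (Fin 6)) := Subgroup.zpowers s6 ⊔ Subgroup.zpowers r6

theorem isPGroup_d8 : IsPGroup 2 d8 := by
  haveI : Fact (Nat.Prime 2) := ⟨Nat.prime_two⟩
  refine IsPGroup.to_sup_of_normal_right' (isPGroup_zpowers_of_pow_eq_one s6_pow)
    (isPGroup_zpowers_of_pow_eq_one r6_pow) ?_
  rw [Subgroup.zpowers_le]
  apply Subgroup.mem_normalizer_fintype
  rintro n hn
  obtain ⟨k, rfl⟩ := Subgroup.mem_zpowers_iff.mp hn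
  rw [SetLike.mem_coe, ← conj_zpow, s6_conj]
  exact Subgroup.zpow_mem _ (Subgroup.inv_mem _ (Subgroup.mem_zpowers _)) _

theorem d8_le : d8 ≤ alternatingGroup (Fin 6) := by
  refine sup_le ?_ ?_ <;> rw [Subgroup.zpowers_le, Perm.mem_alternatingGroup]
  · exact sign_s6
  · exact sign_r6

theorem not_comm_two {n : ℕ} (hn : 6 ≤ n) (S : Sylow 2 (alternatingGroup (Fin n))) :
    ¬ IsMulCommutative S := by
  haveI : Fact (Nat.Prime 2) := ⟨Nat.prime_two⟩
  have hinj : Function.Injective ((Perm.viaEmbeddingHom (Fin.castLEEmb hn)).comp d8.subtype) :=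
    (Perm.viaEmbeddingHom_injective _).comp Subtype.val_injective
  refine not_comm_alt isPGroup_d8 ((Perm.viaEmbeddingHom (Fin.castLEEmb hn)).comp d8.subtype)
    hinj ?_ ⟨r6, (le_sup_right : _ ≤ d8) (Subgroup.mem_zpowers _)⟩
    ⟨s6, (le_sup_left : _ ≤ d8) (Subgroup.mem_zpowers _)⟩ ?_ S
  · intro x
    rw [MonoidHom.comp_apply, sign_viaEmbeddingHom]
    exact Perm.mem_alternatingGroup.mp (d8_le x.2)
  · intro h
    exact r6_s6_ne (congrArg Subtype.val h)

end two

section converse

variable {p : ℕ} [Fact p.Prime]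

/-- Independent translations of the `k` columns. -/
def colHom (p : ℕ) [Fact p.Prime] (k : ℕ) :
    Multiplicative (Fin k → ZMod p) →* Perm (Fin k × ZMod p) where
  toFun t :=
    { toFun := fun x => (x.1, x.2 + Multiplicative.toAdd t x.1)
      invFun := fun x => (x.1, x.2 - Multiplicative.toAdd t x.1)
      left_inv := fun x => by simp
      right_inv := fun x => by simp }
  map_one' := by ext x <;> simp
  map_mul' f g := by ext x <;> simp [add_comm, add_left_comm]

theorem colHom_injective (k : ℕ) : Function.Injective (colHom p k) := by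
  intro t t' h
  apply Multiplicative.toAdd.injective
  funext j
  have := congrArg (fun σ : Perm (Fin k × ZMod p) => (σ (j, 0)).2) h
  simpa [colHom] using this

theorem isPGroup_fun (k : ℕ) : IsPGroup p (Multiplicative (Fin k → ZMod p)) := by
  intro f
  refine ⟨1, ?_⟩
  rw [pow_one]
  change Multiplicative.ofAdd (p • Multiplicative.toAdd f) = 1
  have : p • Multiplicative.toAdd f = 0 := by
    ext j
    simp
  rw [this]; rfl

theorem factorization_card_alt {n : ℕ} (hp : p ≠ 2) (hn2 : 2 ≤ n) (hn : n < p ^ 2) :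
    (Nat.card (alternatingGroup (Fin n))).factorization p = n / p := by
  haveI : Nontrivial (Fin n) := Fin.nontrivial_iff_two_le.mpr hn2
  have hpp : p.Prime := Fact.out
  have h1 : 2 * Nat.card (alternatingGroup (Fin n)) = n.factorial := by
    rw [two_mul_nat_card_alternatingGroup, Nat.card_perm, Nat.card_eq_fintype_card,
      Fintype.card_fin]
  have h2 : (2 * Nat.card (alternatingGroup (Fin n))).factorization p =
      (Nat.card (alternatingGroup (Fin n))).factorization p := by
    rw [Nat.factorization_mul (by norm_num) Nat.card_pos.ne']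
    have : (2 : ℕ).factorization p = 0 := by
      apply Nat.factorization_eq_zero_of_not_dvd
      intro hd
      exact hp ((Nat.prime_dvd_prime_iff_eq hpp Nat.prime_two).mp hd)
    simp [this]
  rw [← h2, h1, Nat.factorization_def _ hpp,
    padicValNat_factorial (b := 2) (Nat.log_lt_of_lt_pow (by omega) hn)]
  simp

theorem comm_of_lt_sq {n : ℕ} (hp : p ≠ 2) (hn2 : 2 ≤ n) (hn : n < p ^ 2)
    (S : Sylow p (alternatingGroup (Fin n))) : IsMulCommutative S := by
  have hpp : p.Prime := Fact.out
  obtain ⟨k, hk⟩ : ∃ k, k = n / p := ⟨_, rfl⟩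
  have hcard : Fintype.card (Fin k × ZMod p) ≤ Fintype.card (Fin n) := by
    rw [Fintype.card_prod, ZMod.card, Fintype.card_fin, Fintype.card_fin, hk]
    exact Nat.div_mul_le_self n p
  obtain ⟨ι⟩ := Function.Embedding.nonempty_of_card_le hcard
  have hinj : Function.Injective ((Perm.viaEmbeddingHom ι).comp (colHom p k)) :=
    (Perm.viaEmbeddingHom_injective ι).comp (colHom_injective k)
  have hmem : ∀ x, ((Perm.viaEmbeddingHom ι).comp (colHom p k)) x ∈ alternatingGroup (Fin n) := by
    intro x
    rw [Perm.mem_alternatingGroup]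
    obtain ⟨j, hj⟩ := isPGroup_fun (p := p) k x
    apply sign_eq_one_of_pow_eq_one hp (k := j)
    rw [← map_pow, hj, map_one]
  obtain ⟨Ψ, hΨ⟩ : ∃ Ψ : Multiplicative (Fin k → ZMod p) →* alternatingGroup (Fin n),
      Ψ = ((Perm.viaEmbeddingHom ι).comp (colHom p k)).codRestrict _ hmem := ⟨_, rfl⟩
  have hΨinj : Function.Injective Ψ := by
    intro x y hxy
    apply hinj
    rw [hΨ] at hxy
    exact congrArg Subtype.val hxy
  have hrange : Nat.card Ψ.range = p ^ (Nat.card (alternatingGroup (Fin n))).factorization p := by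
    rw [factorization_card_alt hp hn2 hn, ← hk,
      ← Nat.card_congr (MonoidHom.ofInjective hΨinj).toEquiv]
    rw [Nat.card_eq_fintype_card, Fintype.card_multiplicative, Fintype.card_fun, ZMod.card,
      Fintype.card_fin]
  have hPc : IsMulCommutative (Sylow.ofCard Ψ.range hrange) := by
    rw [isMulCommutative_iff]
    rintro ⟨a, ha⟩ ⟨b, hb⟩
    obtain ⟨x, rfl⟩ := ha
    obtain ⟨y, rfl⟩ := hb
    apply Subtype.ext
    change Ψ x * Ψ y = Ψ y * Ψ x
    rw [← map_mul, ← map_mul, mul_comm]
  obtain ⟨g, hg⟩ := MulAction.exists_smul_eq (alternatingGroup (Fin n))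
    (Sylow.ofCard Ψ.range hrange) S
  rw [← hg]
  exact isMulCommutative_of_mulEquiv (Sylow.equivSMul _ g) hPc

end converse

/-- Statement S5164. -/
theorem main (n p : ℕ) (hn : 6 ≤ n) [Fact p.Prime] (S : Sylow p (alternatingGroup (Fin n))) :
    IsMulCommutative S ↔ n < p ^ 2 := by
  constructor
  · intro hS
    by_contra hlt
    push Not at hlt
    by_cases hp : p = 2
    · subst hp
      exact not_comm_two hn S hS
    · exact not_comm_of_sq_le_odd hp hlt S hS
  · intro hlt
    have hp : p ≠ 2 := by
      rintro rfl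
      omega
    exact comm_of_lt_sq hp (by omega) hlt S

end Cfsg.Agent.Lead.AltSylow
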