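import Mathlib
import Cfsg.Agent.Lead.QdStruct

set_option autoImplicit false

/-!
`SL₂(p)` is generated by two non-opposite... by the upper unitriangular group and any conjugate
of it by a matrix that is not upper triangular.
-/

namespace Cfsg.Agent.Lead.Qd

open Cfsg Cfsg.Agent.Lead.EssPSq

variable (p : ℕ) [hp : Fact p.Prime]

theorem E12_mul (s t : ZMod p) : (E12 s : SL2 p) * E12 t = E12 (s + t) := by
  apply Subtype.ext
  rw [Matrix.SpecialLinearGroup.coe_mul, E12_val, E12_val, E12_val]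
  ext i j
  fin_cases i <;> fin_cases j <;> simp [Matrix.mul_apply, Fin.sum_univ_two, add_comm]

theorem E12_zero : (E12 0 : SL2 p) = 1 := by
  apply Subtype.ext
  rw [E12_val, Matrix.SpecialLinearGroup.coe_one]
  ext i j
  fin_cases i <;> fin_cases j <;> simp

theorem E12_inj {s t : ZMod p} (h : (E12 s : SL2 p) = E12 t) : s = t := by
  have := congrArg (fun M : SL2 p => M.1 0 1) h
  simpa [E12_val] using this

/-- a matrix in `K` with nonzero lower-left entry yields the lower elementary matrix -/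
theorem E21_mem_of_mem (K : Subgroup (SL2 p)) (h1 : ∀ t, (E12 t : SL2 p) ∈ K) (M : SL2 p)
    (hM : M ∈ K) (hγ : M.1 1 0 ≠ 0) : (E21 (M.1 1 0) : SL2 p) ∈ K := by
  obtain ⟨γ, hγdef⟩ : ∃ γ : ZMod p, γ = M.1 1 0 := ⟨_, rfl⟩
  rw [← hγdef] at hγ ⊢
  obtain ⟨N, hN⟩ : ∃ N : SL2 p, N = E12 ((1 - M.1 0 0) / γ) * M * E12 ((1 - M.1 1 1) / γ) :=
    ⟨_, rfl⟩
  have hNK : N ∈ K := by
    rw [hN]
    exact K.mul_mem (K.mul_mem (h1 _) hM) (h1 _)
  have hent : ∀ (s s' : ZMod p), ((E12 s * M * E12 s' : SL2 p).1 0 0 = M.1 0 0 + s * M.1 1 0) ∧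
      ((E12 s * M * E12 s' : SL2 p).1 1 0 = M.1 1 0) ∧
      ((E12 s * M * E12 s' : SL2 p).1 1 1 = M.1 1 0 * s' + M.1 1 1) := by
    intro s s'
    rw [Matrix.SpecialLinearGroup.coe_mul, Matrix.SpecialLinearGroup.coe_mul, E12_val, E12_val]
    simp only [Matrix.mul_apply, Fin.sum_univ_two]
    refine ⟨?_, ?_, ?_⟩ <;> simp
  have hN00 : N.1 0 0 = 1 := by
    rw [hN, (hent _ _).1, ← hγdef]
    field_simp
    ring
  have hN10 : N.1 1 0 = γ := by
    rw [hN, (hent _ _).2.1, ← hγdef]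
  have hN11 : N.1 1 1 = 1 := by
    rw [hN, (hent _ _).2.2, ← hγdef]
    field_simp
    ring
  have hN01 : N.1 0 1 = 0 := by
    have hdet := N.2
    rw [Matrix.det_fin_two, hN00, hN10, hN11] at hdet
    have : N.1 0 1 * γ = 0 := by linear_combination -hdet
    rcases mul_eq_zero.1 this with h | h
    · exact h
    · exact absurd h hγ
  have : N = E21 γ := by
    apply Subtype.ext
    rw [E21_val]
    ext i j
    fin_cases i <;> fin_cases j <;> simp [hN00, hN01, hN10, hN11]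
  rw [← this]
  exact hNK

theorem conj_E12_entry (A : SL2 p) (t : ZMod p) :
    (A * E12 t * A⁻¹ : SL2 p).1 1 0 = -(t * (A.1 1 0) ^ 2) := by
  rw [Matrix.SpecialLinearGroup.coe_mul, Matrix.SpecialLinearGroup.coe_mul,
    Matrix.SpecialLinearGroup.coe_inv, Matrix.adjugate_fin_two, E12_val]
  simp [Matrix.mul_apply, Fin.sum_univ_two]
  ring

theorem conj_E12_of_zero (A : SL2 p) (hA : A.1 1 0 = 0) (t : ZMod p) :
    A * E12 t * A⁻¹ = E12 (t * (A.1 0 0) ^ 2) := by
  have hdet := A.2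
  rw [Matrix.det_fin_two, hA, mul_zero, sub_zero] at hdet
  apply Subtype.ext
  rw [Matrix.SpecialLinearGroup.coe_mul, Matrix.SpecialLinearGroup.coe_mul,
    Matrix.SpecialLinearGroup.coe_inv, Matrix.adjugate_fin_two, E12_val, E12_val]
  ext i j
  fin_cases i <;> fin_cases j <;> simp [Matrix.mul_apply, Fin.sum_univ_two, hA]
  · linear_combination hdet
  · ring
  · linear_combination hdet

/-- generation of `SL₂(p)` -/
theorem sl2_gen' (K : Subgroup (SL2 p)) (h1 : ∀ t, (E12 t : SL2 p) ∈ K) (A : SL2 p)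
    (hA : A.1 1 0 ≠ 0) (h2 : ∀ t, A * E12 t * A⁻¹ ∈ K) : K = ⊤ := by
  apply sl2_gen K h1
  intro γ
  by_cases hγ : γ = 0
  · rw [hγ]
    have : (E21 0 : SL2 p) = 1 := by
      apply Subtype.ext
      rw [E21_val, Matrix.SpecialLinearGroup.coe_one]
      ext i j
      fin_cases i <;> fin_cases j <;> simp
    rw [this]; exact K.one_mem
  · obtain ⟨t, ht⟩ : ∃ t : ZMod p, t = -(γ / (A.1 1 0) ^ 2) := ⟨_, rfl⟩
    have hent : (A * E12 t * A⁻¹ : SL2 p).1 1 0 = γ := by
      rw [conj_E12_entry, ht]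
      field_simp
    have := E21_mem_of_mem p K h1 _ (h2 t) (by rw [hent]; exact hγ)
    rw [hent] at this
    exact this

end Cfsg.Agent.Lead.Qd
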