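import Mathlib
import Cfsg.Agent.Lead.QdStruct
import Cfsg.Agent.Helper7.LinearCard

set_option autoImplicit false

/-!
`Qd(2)` is the symmetric group of degree `4`: the affine action on the four points of the plane.
-/

namespace Cfsg.Agent.Lead.Qd

open Cfsg

variable (p : ℕ) [hp : Fact p.Prime]

/-- the affine permutation induced by an element of `Qd(p)` -/
def affPerm (g : ↥(Cfsg.qd p)) : Equiv.Perm (Fin 2 → ZMod p) where
  toFun x := (blk p g).1.mulVec x + vec p g
  invFun x := (blk p g)⁻¹.1.mulVec (x - vec p g)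
  left_inv x := by
    show (blk p g)⁻¹.1.mulVec ((blk p g).1.mulVec x + vec p g - vec p g) = x
    rw [add_sub_cancel_right, Matrix.mulVec_mulVec, ← Matrix.SpecialLinearGroup.coe_mul,
      inv_mul_cancel, Matrix.SpecialLinearGroup.coe_one, Matrix.one_mulVec]
  right_inv x := by
    show (blk p g).1.mulVec ((blk p g)⁻¹.1.mulVec (x - vec p g)) + vec p g = x
    rw [Matrix.mulVec_mulVec, ← Matrix.SpecialLinearGroup.coe_mul,
      mul_inv_cancel, Matrix.SpecialLinearGroup.coe_one, Matrix.one_mulVec, sub_add_cancel]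

theorem affPerm_mkq (A : SL2 p) (v x : Fin 2 → ZMod p) :
    affPerm p (mkq p A v) x = A.1.mulVec x + v := by
  show (blk p (mkq p A v)).1.mulVec x + vec p (mkq p A v) = _
  rw [blk_mkq, vec_mkq]

/-- the affine action as a homomorphism -/
def affHom : ↥(Cfsg.qd p) →* Equiv.Perm (Fin 2 → ZMod p) where
  toFun := affPerm p
  map_one' := by
    ext x i
    rw [← mkq_one p, affPerm_mkq]
    simp
  map_mul' g h := by
    ext x i
    rw [← mkq_blk_vec p g, ← mkq_blk_vec p h, mkq_mul, Equiv.Perm.mul_apply, affPerm_mkq,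
      affPerm_mkq, affPerm_mkq, Matrix.SpecialLinearGroup.coe_mul, Matrix.mulVec_add,
      Matrix.mulVec_mulVec, add_assoc]

theorem affHom_injective : Function.Injective (affHom p) := by
  rw [injective_iff_map_eq_one]
  intro g hg
  rw [← mkq_blk_vec p g] at hg ⊢
  obtain ⟨A, hA⟩ : ∃ A, A = blk p g := ⟨_, rfl⟩
  obtain ⟨v, hv⟩ : ∃ v, v = vec p g := ⟨_, rfl⟩
  rw [← hA, ← hv] at hg ⊢
  have h1 : ∀ x, A.1.mulVec x + v = x := by
    intro x
    have := congrArg (fun σ : Equiv.Perm (Fin 2 → ZMod p) => σ x) hg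
    simp only [Equiv.Perm.one_apply] at this
    rw [← affPerm_mkq]
    exact this
  have hv0 : v = 0 := by
    have := h1 0
    rwa [Matrix.mulVec_zero, zero_add] at this
  have hA1 : A = 1 := by
    apply Subtype.ext
    rw [Matrix.SpecialLinearGroup.coe_one]
    apply Matrix.toLin'.injective
    apply LinearMap.ext
    intro x
    have := h1 x
    rw [hv0, add_zero] at this
    simp [Matrix.toLin'_apply, this]
  rw [hv0, hA1, mkq_one]

/-- `Qd(p)` as a set is `SL₂(p) × 𝔽_p²` -/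
def prodEquiv : ↥(Cfsg.qd p) ≃ SL2 p × (Fin 2 → ZMod p) where
  toFun g := (blk p g, vec p g)
  invFun t := mkq p t.1 t.2
  left_inv g := mkq_blk_vec p g
  right_inv t := by
    show (blk p (mkq p t.1 t.2), vec p (mkq p t.1 t.2)) = t
    rw [blk_mkq, vec_mkq]

theorem card_qd : Nat.card ↥(Cfsg.qd p) = Nat.card (SL2 p) * p ^ 2 := by
  rw [Nat.card_congr (prodEquiv p), Nat.card_prod, Nat.card_fun, Nat.card_zmod, Nat.card_fin]

end Cfsg.Agent.Lead.Qd

namespace Cfsg.Agent.Lead.Qd

instance fact_prime_two' : Fact (Nat.Prime 2) := ⟨Nat.prime_two⟩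

theorem card_SL2_two : Nat.card (SL2 2) = 6 := by
  have h1 := Cfsg.Agent.Helper7.card_units_mul_card_SL (n := Fin 2) (F := ZMod 2)
  rw [Matrix.card_GL_field, ZMod.card, Fin.prod_univ_two] at h1
  simp only [Fin.val_zero, Fin.val_one] at h1
  norm_num at h1
  rw [Nat.card_eq_fintype_card]
  exact h1

theorem qd_two_equiv : Nonempty (↥(Cfsg.qd 2) ≃* Equiv.Perm (Fin 4)) := by
  have hc : Nat.card (Fin 2 → ZMod 2) = 4 := by
    rw [Nat.card_fun, Nat.card_zmod, Nat.card_fin]
    norm_num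
  obtain ⟨e⟩ : Nonempty ((Fin 2 → ZMod 2) ≃ Fin 4) := by
    have := Finite.equivFinOfCardEq hc
    exact ⟨this⟩
  obtain ⟨ρ, hρ⟩ : ∃ ρ : ↥(Cfsg.qd 2) →* Equiv.Perm (Fin 4),
      ρ = e.permCongrHom.toMonoidHom.comp (affHom 2) := ⟨_, rfl⟩
  have hinj : Function.Injective ρ := by
    rw [hρ]
    exact e.permCongrHom.injective.comp (affHom_injective 2)
  have hcard : Nat.card ↥(Cfsg.qd 2) = Nat.card (Equiv.Perm (Fin 4)) := by
    rw [card_qd, card_SL2_two, Nat.card_perm, Nat.card_fin]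
    rfl
  have hbij : Function.Bijective ρ := (Nat.bijective_iff_injective_and_card ρ).2 ⟨hinj, hcard⟩
  exact ⟨MulEquiv.ofBijective ρ hbij⟩

end Cfsg.Agent.Lead.Qd
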