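import Mathlib
import Cfsg.Prelude.Def_LocalEven
import Cfsg.Agent.Lead.QdTwo
import Cfsg.Agent.Lead.QdStruct2
import Cfsg.Agent.Lead.QdSylow
import Cfsg.Agent.Lead.AltSylow
import Cfsg.Agent.Lead.InvolvesLemmas
import Cfsg.Agent.Helper1.Basic

set_option autoImplicit false

/-!
`Qd(p)` and alternating groups: `A_n` contains `Qd(p)` iff `n ≥ p²` (`p` odd).
-/

namespace Cfsg.Agent.Lead.Qd

open Cfsg Cfsg.Agent.Lead.EssPSq Equiv

variable (p : ℕ) [hp : Fact p.Prime]

theorem units_eq_one_of_pow (hp2 : p ≠ 2) (u : ℤˣ) (h : u ^ p = 1) : u = 1 := by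
  rcases Int.units_eq_one_or u with h2 | h2
  · exact h2
  · exfalso
    rw [h2, (hp.out.odd_of_ne_two hp2).neg_one_pow] at h
    exact absurd h (by decide)

theorem mkq_one_pow (v : Fin 2 → ZMod p) (k : ℕ) : (mkq p 1 v) ^ k = mkq p 1 (k • v) := by
  induction k with
  | zero => rw [pow_zero, zero_smul, mkq_one]
  | succ k ih =>
    rw [pow_succ, ih, mkq_mul, mul_one, Matrix.SpecialLinearGroup.coe_one, Matrix.one_mulVec,
      succ_nsmul, add_comm]

theorem E21_mul (s t : ZMod p) : (E21 s : SL2 p) * E21 t = E21 (s + t) := by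
  apply Subtype.ext
  rw [Matrix.SpecialLinearGroup.coe_mul, E21_val, E21_val, E21_val]
  ext i j
  fin_cases i <;> fin_cases j <;> simp [Matrix.mul_apply, Fin.sum_univ_two, add_comm]

theorem E12_pow (t : ZMod p) (k : ℕ) : (E12 t : SL2 p) ^ k = E12 (k • t) := by
  induction k with
  | zero =>
    rw [pow_zero, zero_smul]
    apply Subtype.ext
    rw [E12_val, Matrix.SpecialLinearGroup.coe_one]
    ext i j
    fin_cases i <;> fin_cases j <;> simp
  | succ k ih => rw [pow_succ, ih, E12_mul, succ_nsmul]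

theorem E21_pow (t : ZMod p) (k : ℕ) : (E21 t : SL2 p) ^ k = E21 (k • t) := by
  induction k with
  | zero =>
    rw [pow_zero, zero_smul]
    apply Subtype.ext
    rw [E21_val, Matrix.SpecialLinearGroup.coe_one]
    ext i j
    fin_cases i <;> fin_cases j <;> simp
  | succ k ih => rw [pow_succ, ih, E21_mul, succ_nsmul]

/-- every homomorphism from `Qd(p)` to `ℤˣ` is trivial (`p` odd). -/
theorem hom_units_trivial (hp2 : p ≠ 2) (f : ↥(Cfsg.qd p) →* ℤˣ) (g : ↥(Cfsg.qd p)) : f g = 1 := by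
  have hV : ∀ v, f (mkq p 1 v) = 1 := by
    intro v
    apply units_eq_one_of_pow p hp2
    rw [← map_pow, mkq_one_pow]
    have : (p • v : Fin 2 → ZMod p) = 0 := by
      ext i
      simp
    rw [this, mkq_one, map_one]
  let h : SL2 p →* ℤˣ :=
    { toFun := fun A => f (mkq p A 0)
      map_one' := by rw [mkq_one, map_one]
      map_mul' := fun A B => by
        rw [← map_mul, mkq_mul, Matrix.mulVec_zero, add_zero] }
  have hker : h.ker = ⊤ := by
    apply sl2_gen
    · intro t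
      rw [MonoidHom.mem_ker]
      apply units_eq_one_of_pow p hp2
      rw [← map_pow, E12_pow]
      have : (p • t : ZMod p) = 0 := by simp
      rw [this]
      have h0 : (E12 (0 : ZMod p) : SL2 p) = 1 := by
        apply Subtype.ext
        rw [E12_val, Matrix.SpecialLinearGroup.coe_one]
        ext i j
        fin_cases i <;> fin_cases j <;> simp
      rw [h0, map_one]
    · intro t
      rw [MonoidHom.mem_ker]
      apply units_eq_one_of_pow p hp2
      rw [← map_pow, E21_pow]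
      have : (p • t : ZMod p) = 0 := by simp
      rw [this]
      have h0 : (E21 (0 : ZMod p) : SL2 p) = 1 := by
        apply Subtype.ext
        rw [E21_val, Matrix.SpecialLinearGroup.coe_one]
        ext i j
        fin_cases i <;> fin_cases j <;> simp
      rw [h0, map_one]
  have hA : ∀ A, f (mkq p A 0) = 1 := by
    intro A
    have : A ∈ h.ker := by rw [hker]; trivial
    exact MonoidHom.mem_ker.1 this
  rw [← mkq_blk_vec p g]
  have hdec : mkq p (blk p g) (vec p g) = mkq p 1 (vec p g) * mkq p (blk p g) 0 := by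
    rw [mkq_mul, one_mul, Matrix.mulVec_zero, zero_add]
  rw [hdec, map_mul, hV, hA, one_mul]


/-- `Qd(p)` embeds in `A_n` for `n ≥ p²` (`p` odd). -/
theorem exists_subgroup_alt (hp2 : p ≠ 2) {n : ℕ} (hn : p ^ 2 ≤ n) :
    ∃ H : Subgroup (alternatingGroup (Fin n)), Nonempty (↥H ≃* ↥(Cfsg.qd p)) := by
  have hcard : Fintype.card (Fin 2 → ZMod p) ≤ Fintype.card (Fin n) := by
    rw [Fintype.card_fun, ZMod.card, Fintype.card_fin, Fintype.card_fin]; exact hn
  obtain ⟨ι⟩ := Function.Embedding.nonempty_of_card_le hcard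
  let φ : ↥(Cfsg.qd p) →* Perm (Fin n) := (Perm.viaEmbeddingHom ι).comp (affHom p)
  have hφ : Function.Injective φ :=
    (Perm.viaEmbeddingHom_injective ι).comp (affHom_injective p)
  have hsign : ∀ g, Perm.sign (φ g) = 1 := fun g =>
    hom_units_trivial p hp2 (Perm.sign.comp φ) g
  let ψ : ↥(Cfsg.qd p) →* alternatingGroup (Fin n) :=
    φ.codRestrict _ (fun g => Perm.mem_alternatingGroup.2 (hsign g))
  have hψ : Function.Injective ψ := by
    intro a b hab
    apply hφ
    exact congrArg Subtype.val hab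
  exact ⟨ψ.range, ⟨(MonoidHom.ofInjective hψ).symm⟩⟩

theorem sylow_comm_alt (hp2 : p ≠ 2) {n : ℕ} (hn : n < p ^ 2)
    (S : Sylow p (alternatingGroup (Fin n))) : IsMulCommutative S := by
  by_cases h2 : 2 ≤ n
  · exact AltSylow.comm_of_lt_sq hp2 h2 hn S
  · haveI : Subsingleton (Fin n) := Fin.subsingleton_iff_le_one.2 (by omega)
    rw [isMulCommutative_iff]
    intro a b
    apply Subtype.ext
    apply Subtype.ext
    apply Equiv.ext
    intro x
    exact Subsingleton.elim _ _

/-- `Qd(p)` is not involved in `A_n` for `n < p²` (`p` odd). -/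
theorem not_involves_alt (hp2 : p ≠ 2) {n : ℕ} (hn : n < p ^ 2) :
    ¬ Cfsg.Involves ↥(Cfsg.qd p) ↥(alternatingGroup (Fin n)) := by
  rintro ⟨K, R, hnorm, ⟨e⟩⟩
  haveI := hnorm
  obtain ⟨SK⟩ : Nonempty (Sylow p K) := inferInstance
  obtain ⟨S, hS⟩ := (SK.2.map K.subtype).exists_le_sylow
  have hScomm := sylow_comm_alt p hp2 hn S
  rw [isMulCommutative_iff] at hScomm
  have hSKcomm : ∀ a b : K, a ∈ SK → b ∈ SK → a * b = b * a := by
    intro a b ha hb
    have h1 := hScomm ⟨a.1, hS (Subgroup.mem_map_of_mem _ ha)⟩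
      ⟨b.1, hS (Subgroup.mem_map_of_mem _ hb)⟩
    apply Subtype.ext
    have h2 := congrArg Subtype.val h1
    simpa using h2
  let Sbar : Sylow p (K ⧸ R.subgroupOf K) :=
    SK.mapSurjective (QuotientGroup.mk'_surjective (R.subgroupOf K))
  have hSbar : IsMulCommutative Sbar := by
    rw [isMulCommutative_iff]
    rintro ⟨a, ha⟩ ⟨b, hb⟩
    apply Subtype.ext
    have ha' : a ∈ (SK : Subgroup K).map (QuotientGroup.mk' (R.subgroupOf K)) := by
      rw [← Sylow.coe_mapSurjective]; exact ha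
    have hb' : b ∈ (SK : Subgroup K).map (QuotientGroup.mk' (R.subgroupOf K)) := by
      rw [← Sylow.coe_mapSurjective]; exact hb
    obtain ⟨a₀, ha₀, rfl⟩ := ha'
    obtain ⟨b₀, hb₀, rfl⟩ := hb'
    show (QuotientGroup.mk' (R.subgroupOf K)) a₀ * (QuotientGroup.mk' (R.subgroupOf K)) b₀ =
      (QuotientGroup.mk' (R.subgroupOf K)) b₀ * (QuotientGroup.mk' (R.subgroupOf K)) a₀
    rw [← map_mul, ← map_mul, hSKcomm a₀ b₀ ha₀ hb₀]
  obtain ⟨x, y, hxy⟩ := not_comm p
  have hU' : IsPGroup p ((U p).subgroupOf (Cfsg.qd p)) :=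
    IsPGroup.of_card (n := 3) (by
      rw [Cfsg.Agent.Helper1.card_subgroupOf_of_le (U_le_qd p), card_U])
  have hUbar : IsPGroup p (((U p).subgroupOf (Cfsg.qd p)).comap e.toMonoidHom) :=
    hU'.comap_of_injective _ e.injective
  refine AltSylow.not_comm_of_pgroup _ hUbar (e.symm ⟨x.1, U_le_qd p x.2⟩)
    (e.symm ⟨y.1, U_le_qd p y.2⟩) ?_ ?_ ?_ Sbar hSbar
  · rw [Subgroup.mem_comap, Subgroup.mem_subgroupOf]
    simp
  · rw [Subgroup.mem_comap, Subgroup.mem_subgroupOf]
    simp
  · intro h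
    rw [← map_mul, ← map_mul] at h
    have h2 := e.symm.injective h
    apply hxy
    apply Subtype.ext
    exact congrArg (fun z : ↥(Cfsg.qd p) => (z : SL3 p)) h2

theorem alt_main (hp2 : p ≠ 2) (n : ℕ) :
    ((∃ H : Subgroup (alternatingGroup (Fin n)), Nonempty (↥H ≃* ↥(Cfsg.qd p))) ↔ p ^ 2 ≤ n) ∧
      (n < p ^ 2 → ¬ Cfsg.Involves ↥(Cfsg.qd p) ↥(alternatingGroup (Fin n))) := by
  refine ⟨⟨?_, exists_subgroup_alt p hp2⟩, not_involves_alt p hp2⟩
  rintro ⟨H, ⟨e⟩⟩
  by_contra hlt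
  push Not at hlt
  apply not_involves_alt p hp2 hlt
  exact Cfsg.Agent.Lead.involves_of_maps (H.subtype.comp e.symm.toMonoidHom)
    (H.subtype_injective.comp e.symm.injective) (MonoidHom.id _) Function.surjective_id

end Cfsg.Agent.Lead.Qd
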