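import Mathlib
import Cfsg.Agent.Lead.QdStruct2
import Cfsg.Agent.Lead.FusionSat3

set_option autoImplicit false

/-!
The standard Sylow subgroup of `Qd(p)`, its normalizer, generation by two Sylow subgroups.
-/

namespace Cfsg.Agent.Lead.Qd

open Cfsg Cfsg.Agent.Lead.EssPSq

variable (p : ℕ) [hp : Fact p.Prime]

/-- the standard Sylow subgroup of `Qd(p)` -/
def Uq : Subgroup ↥(Cfsg.qd p) := (U p).subgroupOf (Cfsg.qd p)

theorem mem_Uq_iff (g : ↥(Cfsg.qd p)) : g ∈ Uq p ↔ ∃ t, proj p g = E12 t := by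
  rw [Uq, Subgroup.mem_subgroupOf, mem_U]
  obtain ⟨a1, a2, a3⟩ := (mem_qd p g.1).1 g.2
  constructor
  · rintro ⟨b1, b2, b3, b4, b5, b6⟩
    refine ⟨(g.1 : Matrix (Fin 3) (Fin 3) (ZMod p)) 0 1, ?_⟩
    apply Subtype.ext
    show (blk p g).1 = _
    rw [E12_val]
    ext i j
    fin_cases i <;> fin_cases j <;> simp [blk, b1, b4, b5]
  · rintro ⟨t, ht⟩
    have h1 : (blk p g).1 = (E12 t : SL2 p).1 := congrArg Subtype.val ht
    rw [E12_val] at h1
    have e00 := congrFun (congrFun h1 0) 0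
    have e10 := congrFun (congrFun h1 1) 0
    have e11 := congrFun (congrFun h1 1) 1
    simp [blk] at e00 e10 e11
    exact ⟨e10, a1, a2, e00, e11, a3⟩

theorem mkq_mem_Uq (t : ZMod p) (v : Fin 2 → ZMod p) : mkq p (E12 t) v ∈ Uq p := by
  rw [mem_Uq_iff]
  exact ⟨t, proj_mkq p _ _⟩

theorem V_le_Uq : V p ≤ Uq p := by
  intro g hg
  rw [mem_Uq_iff]
  refine ⟨0, ?_⟩
  rw [E12_zero]
  exact hg

theorem mem_normalizer_Uq_iff (m : ↥(Cfsg.qd p)) :
    m ∈ Subgroup.normalizer ((Uq p : Subgroup ↥(Cfsg.qd p)) : Set ↥(Cfsg.qd p)) ↔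
      (proj p m).1 1 0 = 0 := by
  constructor
  · intro hm
    have h1 := (Subgroup.mem_normalizer_iff.1 hm (mkq p (E12 1) 0)).1 (mkq_mem_Uq p 1 0)
    rw [mem_Uq_iff] at h1
    obtain ⟨t, ht⟩ := h1
    rw [map_mul, map_mul, map_inv, proj_mkq] at ht
    have h2 := conj_E12_entry p (proj p m) 1
    rw [ht, E12_val] at h2
    simp at h2
    exact h2
  · intro hm
    haveI : Finite ↥(Cfsg.qd p) := inferInstance
    apply Cfsg.Agent.Lead.mem_normalizer_of_conj_mem_of_finite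
    intro y hy
    rw [mem_Uq_iff] at hy ⊢
    obtain ⟨t, ht⟩ := hy
    refine ⟨t * ((proj p m).1 0 0) ^ 2, ?_⟩
    rw [map_mul, map_mul, map_inv, ht]
    exact conj_E12_of_zero p (proj p m) hm t

theorem sup_conj_eq_top (m : ↥(Cfsg.qd p))
    (hm : m ∉ Subgroup.normalizer ((Uq p : Subgroup ↥(Cfsg.qd p)) : Set ↥(Cfsg.qd p))) :
    Uq p ⊔ (Uq p).map (MulAut.conj m).toMonoidHom = ⊤ := by
  rw [mem_normalizer_Uq_iff] at hm
  obtain ⟨H, hH⟩ : ∃ H : Subgroup ↥(Cfsg.qd p),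
      H = Uq p ⊔ (Uq p).map (MulAut.conj m).toMonoidHom := ⟨_, rfl⟩
  rw [← hH]
  have hK : H.map (proj p) = ⊤ := by
    refine sl2_gen' p _ ?_ (proj p m) hm ?_
    · intro t
      refine ⟨mkq p (E12 t) 0, ?_, proj_mkq p _ _⟩
      rw [hH]
      exact (le_sup_left : Uq p ≤ _) (mkq_mem_Uq p t 0)
    · intro t
      refine ⟨m * mkq p (E12 t) 0 * m⁻¹, ?_, ?_⟩
      · rw [hH]
        apply (le_sup_right : (Uq p).map (MulAut.conj m).toMonoidHom ≤ _)
        exact ⟨mkq p (E12 t) 0, mkq_mem_Uq p t 0, rfl⟩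
      · rw [map_mul, map_mul, map_inv, proj_mkq]
  rw [eq_top_iff]
  intro g _
  have hg : proj p g ∈ H.map (proj p) := by rw [hK]; exact Subgroup.mem_top _
  obtain ⟨h, hhH, hh⟩ := hg
  have hker : g * h⁻¹ ∈ V p := by
    rw [V, MonoidHom.mem_ker, map_mul, map_inv, hh, mul_inv_cancel]
  have hVH : V p ≤ H := by
    rw [hH]
    exact (V_le_Uq p).trans le_sup_left
  have : g = g * h⁻¹ * h := by group
  rw [this]
  exact H.mul_mem (hVH hker) hhH

/-- the Weyl element -/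
def wq : ↥(Cfsg.qd p) := mkq p (E21 1) 0

theorem wq_not_mem_normalizer :
    wq p ∉ Subgroup.normalizer ((Uq p : Subgroup ↥(Cfsg.qd p)) : Set ↥(Cfsg.qd p)) := by
  rw [mem_normalizer_Uq_iff, wq, proj_mkq, E21_val]
  simp

end Cfsg.Agent.Lead.Qd
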