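import Mathlib
import Cfsg.Agent.Lead.QdStruct3

set_option autoImplicit false

/-!
An automorphism of the unitriangular group moving the translation subgroup; the `Good` package of
properties of a Sylow subgroup of `Qd(p)`.
-/

namespace Cfsg.Agent.Lead.Qd

open Cfsg Cfsg.Agent.Lead.EssPSq

variable (p : ℕ) [hp : Fact p.Prime]

/-- the flip `um a c b ↦ um b (ab - c) a` -/
def flipFun (M : U p) : U p :=
  ⟨um p ((M.1 : Matrix (Fin 3) (Fin 3) (ZMod p)) 1 2)
    ((M.1 : Matrix (Fin 3) (Fin 3) (ZMod p)) 0 1 * (M.1 : Matrix (Fin 3) (Fin 3) (ZMod p)) 1 2 -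
      (M.1 : Matrix (Fin 3) (Fin 3) (ZMod p)) 0 2)
    ((M.1 : Matrix (Fin 3) (Fin 3) (ZMod p)) 0 1), um_mem p _ _ _⟩

theorem flipFun_um (a c b : ZMod p) :
    flipFun p ⟨um p a c b, um_mem p a c b⟩ = ⟨um p b (a * b - c) a, um_mem p _ _ _⟩ := by
  apply Subtype.ext
  simp [flipFun, um_val]

theorem exists_um (M : U p) : ∃ a c b, M = ⟨um p a c b, um_mem p a c b⟩ :=
  ⟨_, _, _, Subtype.ext (eq_um p M.2)⟩

/-- the flip automorphism -/
def flip : U p ≃* U p where
  toFun := flipFun p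
  invFun := flipFun p
  left_inv M := by
    obtain ⟨a, c, b, rfl⟩ := exists_um p M
    rw [flipFun_um, flipFun_um]
    apply Subtype.ext
    show um p a (b * a - (a * b - c)) b = um p a c b
    congr 1
    ring
  right_inv M := by
    obtain ⟨a, c, b, rfl⟩ := exists_um p M
    rw [flipFun_um, flipFun_um]
    apply Subtype.ext
    show um p a (b * a - (a * b - c)) b = um p a c b
    congr 1
    ring
  map_mul' M N := by
    obtain ⟨a, c, b, rfl⟩ := exists_um p M
    obtain ⟨a', c', b', rfl⟩ := exists_um p N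
    have h1 : (⟨um p a c b, um_mem p a c b⟩ : U p) * ⟨um p a' c' b', um_mem p a' c' b'⟩ =
        ⟨um p (a + a') (c + c' + a * b') (b + b'), um_mem p _ _ _⟩ := by
      apply Subtype.ext
      exact um_mul p a c b a' c' b'
    rw [h1, flipFun_um, flipFun_um, flipFun_um]
    apply Subtype.ext
    show um p (b + b') ((a + a') * (b + b') - (c + c' + a * b')) (a + a') =
      um p b (a * b - c) a * um p b' (a' * b' - c') a'
    rw [um_mul]
    congr 1
    ring

theorem flip_um (a c b : ZMod p) :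
    flip p ⟨um p a c b, um_mem p a c b⟩ = ⟨um p b (a * b - c) a, um_mem p _ _ _⟩ := flipFun_um p a c b

/-- the package of properties -/
structure Good (S : Subgroup ↥(Cfsg.qd p)) : Prop where
  V_le : V p ≤ S
  gen : ∀ m : ↥(Cfsg.qd p), m ∉ Subgroup.normalizer (S : Set ↥(Cfsg.qd p)) →
    S ⊔ S.map (MulAut.conj m).toMonoidHom = ⊤
  not_normal : ∃ m : ↥(Cfsg.qd p), m ∉ Subgroup.normalizer (S : Set ↥(Cfsg.qd p))
  le_V : ∀ T : Subgroup ↥(Cfsg.qd p), T ≤ S → T.Normal → T ≤ V p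
  aut : ∃ (ψ : ↥S ≃* ↥S) (x : ↥S), (x : ↥(Cfsg.qd p)) ∈ V p ∧ ((ψ x : ↥S) : ↥(Cfsg.qd p)) ∉ V p

theorem um_eq_mk3 (a c b : ZMod p) : um p a c b = mk3 p (E12 a) ![c, b] := by
  apply Subtype.ext
  rw [um_val, mk3_val, E12_val]
  ext i j
  fin_cases i <;> fin_cases j <;> simp

theorem good_Uq : Good p (Uq p) where
  V_le := V_le_Uq p
  gen := sup_conj_eq_top p
  not_normal := ⟨wq p, wq_not_mem_normalizer p⟩
  le_V := by
    intro T hT hTn g hg
    have h1 := hT hg
    have h2 : (wq p)⁻¹ * g * (wq p)⁻¹⁻¹ ∈ Uq p := hT (hTn.conj_mem g hg _)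
    rw [mem_Uq_iff] at h1 h2
    obtain ⟨t, ht⟩ := h1
    obtain ⟨t', ht'⟩ := h2
    rw [map_mul, map_mul, ht, map_inv (proj p) (wq p)⁻¹] at ht'
    have h3 := conj_E12_entry p (proj p (wq p)⁻¹) t
    rw [ht', E12_val] at h3
    have h4 : (proj p (wq p)⁻¹).1 1 0 = -1 := by
      rw [map_inv, wq, proj_mkq, Matrix.SpecialLinearGroup.coe_inv, Matrix.adjugate_fin_two, E21_val]
      simp
    rw [h4] at h3
    simp at h3
    rw [V, MonoidHom.mem_ker, ht, h3, E12_zero]
  aut := by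
    obtain ⟨e, he⟩ : ∃ e : ↥(Uq p) ≃* ↥(U p), ∀ x : ↥(Uq p), ((e x : U p) : SL3 p) = ((x : ↥(Cfsg.qd p)) : SL3 p) :=
      ⟨Subgroup.subgroupOfEquivOfLe (U_le_qd p), fun x => rfl⟩
    refine ⟨e.trans ((flip p).trans e.symm), e.symm ⟨um p 0 0 1, um_mem p _ _ _⟩, ?_, ?_⟩
    · rw [mem_V]
      refine ⟨![0, 1], ?_⟩
      apply Subtype.ext
      rw [← he, e.apply_symm_apply]
      show um p 0 0 1 = mk3 p 1 ![0, 1]
      rw [um_eq_mk3, E12_zero]
    · intro hV
      rw [mem_V] at hV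
      obtain ⟨v, hv⟩ := hV
      have h1 := congrArg Subtype.val hv
      rw [← he] at h1
      simp only [MulEquiv.trans_apply, MulEquiv.apply_symm_apply] at h1
      rw [flip_um] at h1
      have h2 : um p 1 (0 * 1 - 0) 0 = mk3 p 1 v := h1
      rw [um_eq_mk3] at h2
      have h3 : mkq p (E12 1) ![0 * 1 - 0, 0] = mkq p 1 v := Subtype.ext h2
      have h4 := (mkq_inj p h3).1
      rw [← E12_zero p] at h4
      have h5 := E12_inj p h4
      haveI : Fact (1 < p) := ⟨hp.out.one_lt⟩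
      exact one_ne_zero h5

end Cfsg.Agent.Lead.Qd
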