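import Mathlib
import Cfsg.Agent.Lead.QdStruct4
import Cfsg.Agent.Lead.SylowLemmas

set_option autoImplicit false

/-!
Every Sylow subgroup of `Qd(p)` is `Good`; irreducibility of the translation subgroup.
-/

namespace Cfsg.Agent.Lead.Qd

open Cfsg Cfsg.Agent.Lead.EssPSq

variable (p : ℕ) [hp : Fact p.Prime]

theorem good_conj {S : Subgroup ↥(Cfsg.qd p)} (hS : Good p S) (h : ↥(Cfsg.qd p)) :
    Good p (S.map (MulAut.conj h).toMonoidHom) := by
  have hVconj : ∀ (k g : ↥(Cfsg.qd p)), g ∈ V p → k * g * k⁻¹ ∈ V p :=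
    fun k g hg => (V_normal p).conj_mem g hg k
  have hN : ∀ m : ↥(Cfsg.qd p), h⁻¹ * m * h ∈ Subgroup.normalizer (S : Set ↥(Cfsg.qd p)) →
      m ∈ Subgroup.normalizer
        ((S.map (MulAut.conj h).toMonoidHom : Subgroup ↥(Cfsg.qd p)) : Set ↥(Cfsg.qd p)) := by
    intro m hm
    rw [Cfsg.Agent.Lead.normalizer_map_conj]
    refine ⟨h⁻¹ * m * h, hm, ?_⟩
    show h * (h⁻¹ * m * h) * h⁻¹ = m
    group
  refine ⟨?_, ?_, ?_, ?_, ?_⟩
  · intro v hv
    refine ⟨h⁻¹ * v * h, hS.V_le ?_, ?_⟩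
    · have := hVconj h⁻¹ v hv
      rwa [inv_inv] at this
    · show h * (h⁻¹ * v * h) * h⁻¹ = v
      group
  · intro m hm
    have hm' : h⁻¹ * m * h ∉ Subgroup.normalizer (S : Set ↥(Cfsg.qd p)) := fun hc => hm (hN m hc)
    have hgen := hS.gen _ hm'
    rw [eq_top_iff]
    intro g _
    have h1 : h⁻¹ * g * h ∈ S ⊔ S.map (MulAut.conj (h⁻¹ * m * h)).toMonoidHom := by
      rw [hgen]; exact Subgroup.mem_top _
    have h2 : g ∈ (S ⊔ S.map (MulAut.conj (h⁻¹ * m * h)).toMonoidHom).map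
        (MulAut.conj h).toMonoidHom := by
      refine ⟨h⁻¹ * g * h, h1, ?_⟩
      show h * (h⁻¹ * g * h) * h⁻¹ = g
      group
    rw [Subgroup.map_sup] at h2
    have hle : (S.map (MulAut.conj (h⁻¹ * m * h)).toMonoidHom).map (MulAut.conj h).toMonoidHom ≤
        (S.map (MulAut.conj h).toMonoidHom).map (MulAut.conj m).toMonoidHom := ?_
    · exact (sup_le_sup (le_refl (S.map (MulAut.conj h).toMonoidHom)) hle) h2
    rintro _ ⟨_, ⟨x, hx, rfl⟩, rfl⟩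
    refine ⟨h * x * h⁻¹, ⟨x, hx, rfl⟩, ?_⟩
    show m * (h * x * h⁻¹) * m⁻¹ = h * ((h⁻¹ * m * h) * x * (h⁻¹ * m * h)⁻¹) * h⁻¹
    group
  · obtain ⟨m', hm'⟩ := hS.not_normal
    refine ⟨h * m' * h⁻¹, ?_⟩
    intro hc
    rw [Cfsg.Agent.Lead.normalizer_map_conj] at hc
    obtain ⟨n, hn, hnm⟩ := hc
    have : n = m' := by
      have h1 : h * n * h⁻¹ = h * m' * h⁻¹ := hnm
      exact mul_left_cancel (mul_right_cancel h1)
    rw [this] at hn
    exact hm' hn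
  · intro T hT hTn
    apply hS.le_V T _ hTn
    intro g hg
    have h1 : h * g * h⁻¹ ∈ T := hTn.conj_mem g hg h
    obtain ⟨s, hs, hsg⟩ := hT h1
    have h2 : h * s * h⁻¹ = h * g * h⁻¹ := hsg
    have : s = g := mul_left_cancel (mul_right_cancel h2)
    rw [← this]; exact hs
  · obtain ⟨ψ, x, hx, hψx⟩ := hS.aut
    obtain ⟨e, he⟩ : ∃ e : ↥S ≃* ↥(S.map (MulAut.conj h).toMonoidHom),
        ∀ y : ↥S, ((e y : ↥(S.map (MulAut.conj h).toMonoidHom)) : ↥(Cfsg.qd p)) = h * y * h⁻¹ :=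
      ⟨S.equivMapOfInjective (MulAut.conj h).toMonoidHom (MulAut.conj h).injective, fun y => rfl⟩
    refine ⟨e.symm.trans (ψ.trans e), e x, ?_, ?_⟩
    · rw [he]
      exact hVconj h _ hx
    · simp only [MulEquiv.trans_apply, MulEquiv.symm_apply_apply]
      rw [he]
      intro hc
      apply hψx
      have := hVconj h⁻¹ _ hc
      have h3 : h⁻¹ * (h * ((ψ x : ↥S) : ↥(Cfsg.qd p)) * h⁻¹) * h⁻¹⁻¹ = ((ψ x : ↥S) : ↥(Cfsg.qd p)) := by
        group
      rwa [h3] at this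

theorem good_sylow (S : Sylow p ↥(Cfsg.qd p)) : Good p (S : Subgroup ↥(Cfsg.qd p)) := by
  obtain ⟨h, hh⟩ := MulAction.exists_smul_eq ↥(Cfsg.qd p) (sylU p) S
  have h1 : (S : Subgroup ↥(Cfsg.qd p)) = (Uq p).map (MulAut.conj h).toMonoidHom := by
    rw [← hh, Sylow.coe_subgroup_smul]
    rfl
  rw [h1]
  exact good_conj p (good_Uq p) h

theorem exists_sl2_mulVec (v : Fin 2 → ZMod p) (hv : v ≠ 0) :
    ∃ B : SL2 p, B.1.mulVec ![1, 0] = v := by
  by_cases h0 : v 0 = 0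
  · have h1 : v 1 ≠ 0 := by
      intro h1
      apply hv
      ext i
      fin_cases i
      · exact h0
      · exact h1
    refine ⟨⟨!![0, -(v 1)⁻¹; v 1, 0], ?_⟩, ?_⟩
    · rw [Matrix.det_fin_two]
      simp
      field_simp
    · ext i
      fin_cases i <;> simp [Matrix.mulVec, dotProduct, Fin.sum_univ_two, h0]
  · refine ⟨⟨!![v 0, 0; v 1, (v 0)⁻¹], ?_⟩, ?_⟩
    · rw [Matrix.det_fin_two]
      simp
      field_simp
    · ext i
      fin_cases i <;> simp [Matrix.mulVec, dotProduct, Fin.sum_univ_two]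

theorem V_le_of_normal (T : Subgroup ↥(Cfsg.qd p)) (hTV : T ≤ V p) (hTn : T.Normal) (hT : T ≠ ⊥) :
    V p ≤ T := by
  obtain ⟨⟨g, hgT⟩, hg1⟩ := (Subgroup.ne_bot_iff_exists_ne_one).1 hT
  obtain ⟨v, hv⟩ := (mem_V p g).1 (hTV hgT)
  have hv0 : v ≠ 0 := by
    rintro rfl
    apply hg1
    apply Subtype.ext
    show g = 1
    rw [hv, mkq_one]
  obtain ⟨B, hB⟩ := exists_sl2_mulVec p v hv0
  have he1 : mkq p 1 ![1, 0] ∈ T := by
    have h1 := hTn.conj_mem g hgT (mkq p B⁻¹ 0)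
    rw [hv, conj_mkq_one] at h1
    have h2 : B⁻¹.1.mulVec v = ![1, 0] := by
      rw [← hB, Matrix.mulVec_mulVec, ← Matrix.SpecialLinearGroup.coe_mul, inv_mul_cancel,
        Matrix.SpecialLinearGroup.coe_one, Matrix.one_mulVec]
    rwa [h2] at h1
  intro k hk
  obtain ⟨w, rfl⟩ := (mem_V p k).1 hk
  by_cases hw : w = 0
  · rw [hw, mkq_one]; exact T.one_mem
  · obtain ⟨C, hC⟩ := exists_sl2_mulVec p w hw
    have h1 := hTn.conj_mem _ he1 (mkq p C 0)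
    rwa [conj_mkq_one, hC] at h1

end Cfsg.Agent.Lead.Qd
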