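import Mathlib
import Cfsg.Agent.Helper3.CosetCert

set_option autoImplicit false

/-!
The presentation `⟨x, y | x² = y³ = (xy)³ = 1⟩ ≅ A₄`, with a verified coset enumeration, and
homomorphisms out of `A₄`.
-/

namespace Cfsg.Agent.Lead.A4Pres

open Cfsg.Agent.Helper3.CosetCert

def actTab : List (List ℕ) :=
  [[1, 2],
   [0, 3],
   [4, 5],
   [6, 7],
   [2, 8],
   [9, 0],
   [3, 9],
   [8, 1],
   [7, 10],
   [5, 11],
   [11, 4],
   [10, 6]]

def wordTab : List (List (Fin 2)) :=
  [[],
   [0],
   [1],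
   [0, 1],
   [1, 0],
   [1, 1],
   [0, 1, 0],
   [0, 1, 1],
   [1, 0, 1],
   [1, 1, 0],
   [1, 0, 1, 1],
   [1, 1, 0, 1]]

def cert : List (Fin 12 × List (Fin 2) × Fin 2 × List (Fin 2)) :=
  [(0, [0], 0, []),
   (2, [0], 0, []),
   (3, [0], 0, []),
   (5, [0], 0, []),
   (0, [1, 1], 1, []),
   (1, [1, 1], 1, []),
   (4, [1, 1], 1, []),
   (0, [0, 1, 0], 1, [0, 1]),
   (1, [0, 1, 0, 1], 0, [1]),
   (4, [0, 1, 0, 1], 0, [1]),
   (7, [], 0, [0]),
   (10, [], 0, [0]),
   (6, [1, 1], 1, [])]

/-- The table as a function. -/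
def act : Fin 12 → Fin 2 → Fin 12 := fun ω s =>
  ⟨((actTab.getD ω.val []).getD s.val 0) % 12, Nat.mod_lt _ (by norm_num)⟩

/-- The spanning tree words. -/
def word : Fin 12 → List (Fin 2) := fun ω => wordTab.getD ω.val []

/-- The relators as words. -/
def R : List (List (Fin 2)) :=
  [[0, 0], [1, 1, 1], [0, 1, 0, 1, 0, 1]]

set_option maxRecDepth 100000 in
theorem cert_ok : ∀ e : Fin 12 × Fin 2, e ∈ run act R (treeEdges act word) cert := by
  decide +kernel

/-- The relators of the presentation. -/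
abbrev rels : Set (FreeGroup (Fin 2)) :=
  {FreeGroup.of (0 : Fin 2) ^ 2, FreeGroup.of (1 : Fin 2) ^ 3,
    (FreeGroup.of (0 : Fin 2) * FreeGroup.of 1) ^ 3}

/-- the presented group -/
abbrev P := PresentedGroup rels

/-- The generators of the presented group. -/
def gens : Fin 2 → P := fun i => PresentedGroup.of i

theorem hR : ∀ r ∈ R, prodL gens r = 1 := by
  intro r hr
  simp only [R, List.mem_cons, List.not_mem_nil, or_false] at hr
  rcases hr with rfl | rfl | rfl
  · have : PresentedGroup.mk rels (FreeGroup.of (0 : Fin 2) ^ 2) = 1 :=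
      PresentedGroup.one_of_mem (by simp [rels])
    rw [map_pow] at this
    simpa [prodL, gens, pow_succ, mul_assoc, PresentedGroup.of] using this
  · have : PresentedGroup.mk rels (FreeGroup.of (1 : Fin 2) ^ 3) = 1 :=
      PresentedGroup.one_of_mem (by simp [rels])
    rw [map_pow] at this
    simpa [prodL, gens, pow_succ, mul_assoc, PresentedGroup.of] using this
  · have : PresentedGroup.mk rels ((FreeGroup.of (0 : Fin 2) * FreeGroup.of 1) ^ 3) = 1 :=
      PresentedGroup.one_of_mem (by simp [rels])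
    rw [map_pow, map_mul] at this
    simpa [prodL, gens, pow_succ, mul_assoc, PresentedGroup.of] using this

theorem hgen : Subgroup.closure (Set.range gens) = ⊤ := PresentedGroup.closure_range_of rels

theorem surj : Function.Surjective (fun ω : Fin 12 => prodL gens (word ω)) :=
  surjective_of_cert gens hgen act word 0 (by decide) R hR cert cert_ok

/-- the double transposition `(0 1)(2 3)` -/
def a0 : alternatingGroup (Fin 4) :=
  ⟨Equiv.swap 0 1 * Equiv.swap 2 3, by rw [Equiv.Perm.mem_alternatingGroup]; decide⟩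

/-- the three-cycle `(0 1 2)` -/
def b0 : alternatingGroup (Fin 4) :=
  ⟨Equiv.swap 0 1 * Equiv.swap 1 2, by rw [Equiv.Perm.mem_alternatingGroup]; decide⟩

/-- images of the generators -/
def gS : Fin 2 → alternatingGroup (Fin 4) := ![a0, b0]

theorem gS_rels : ∀ r ∈ rels, FreeGroup.lift gS r = 1 := by
  intro r hr
  simp only [rels, Set.mem_insert_iff, Set.mem_singleton_iff] at hr
  rcases hr with rfl | rfl | rfl
  · rw [map_pow, FreeGroup.lift_apply_of]; decide
  · rw [map_pow, FreeGroup.lift_apply_of]; decide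
  · rw [map_pow, map_mul, FreeGroup.lift_apply_of, FreeGroup.lift_apply_of]; decide

/-- the homomorphism onto the alternating group -/
def phi : P →* alternatingGroup (Fin 4) := PresentedGroup.toGroup gS_rels

theorem phi_of (i : Fin 2) : phi (PresentedGroup.of i) = gS i := PresentedGroup.toGroup.of gS_rels

theorem phi_prodL (l : List (Fin 2)) : phi (prodL gens l) = prodL gS l := by
  induction l with
  | nil => simp [prodL]
  | cons s l ih =>
    rw [prodL_cons, prodL_cons, map_mul, ih]
    congr 1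

set_option maxRecDepth 100000 in
theorem gS_surj : ∀ g : alternatingGroup (Fin 4), ∃ ω : Fin 12, prodL gS (word ω) = g := by
  decide +kernel

theorem card_A4 : Nat.card (alternatingGroup (Fin 4)) = 12 := by
  rw [Nat.card_eq_fintype_card]
  decide +kernel

theorem phi_bijective : Function.Bijective phi := by
  have hfin : Finite P := Finite.of_surjective _ surj
  have hcard : Nat.card P ≤ 12 := by
    have := Nat.card_le_card_of_surjective _ surj
    simpa using this
  have hsurj : Function.Surjective phi := by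
    intro g
    obtain ⟨ω, hω⟩ := gS_surj g
    exact ⟨prodL gens (word ω), by rw [phi_prodL, hω]⟩
  exact Function.Surjective.bijective_of_nat_card_le hsurj (by rw [card_A4]; exact hcard)

/-- the isomorphism -/
noncomputable def equiv : P ≃* alternatingGroup (Fin 4) := MulEquiv.ofBijective phi phi_bijective

theorem equiv_of (i : Fin 2) : equiv (PresentedGroup.of i) = gS i := phi_of i

/-- Elements `a, b` of any group with `a² = b³ = (ab)³ = 1` are the images of `(0 1)(2 3)` and
`(0 1 2)` under a homomorphism from `A₄`. -/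
theorem exists_hom {G : Type*} [Group G] (a b : G) (ha : a ^ 2 = 1) (hb : b ^ 3 = 1)
    (hab : (a * b) ^ 3 = 1) :
    ∃ φ : alternatingGroup (Fin 4) →* G, φ a0 = a ∧ φ b0 = b := by
  have hrel : ∀ r ∈ rels, FreeGroup.lift (![a, b] : Fin 2 → G) r = 1 := by
    intro r hr
    simp only [rels, Set.mem_insert_iff, Set.mem_singleton_iff] at hr
    rcases hr with rfl | rfl | rfl
    · rw [map_pow, FreeGroup.lift_apply_of]; exact ha
    · rw [map_pow, FreeGroup.lift_apply_of]; exact hb
    · rw [map_pow, map_mul, FreeGroup.lift_apply_of, FreeGroup.lift_apply_of]; exact hab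
  let ψ : P →* G := PresentedGroup.toGroup hrel
  have hψ : ∀ i : Fin 2, ψ (PresentedGroup.of i) = (![a, b] : Fin 2 → G) i := fun i =>
    PresentedGroup.toGroup.of hrel
  refine ⟨ψ.comp equiv.symm.toMonoidHom, ?_, ?_⟩
  · have : equiv.symm a0 = PresentedGroup.of (0 : Fin 2) := by
      rw [MulEquiv.symm_apply_eq, equiv_of]; rfl
    simp only [MonoidHom.comp_apply, MulEquiv.coe_toMonoidHom, this, hψ]
    rfl
  · have : equiv.symm b0 = PresentedGroup.of (1 : Fin 2) := by
      rw [MulEquiv.symm_apply_eq, equiv_of]; rfl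
    simp only [MonoidHom.comp_apply, MulEquiv.coe_toMonoidHom, this, hψ]
    rfl

set_option maxRecDepth 100000 in
theorem exists_conj_prod : ∀ g : alternatingGroup (Fin 4), g ≠ 1 →
    ∃ x y : alternatingGroup (Fin 4),
      y * (x * g * x⁻¹ * g⁻¹) * y⁻¹ = a0 ∨ y * g * y⁻¹ = a0 := by
  decide +kernel

/-- every non-trivial normal subgroup of `A₄` contains `(0 1)(2 3)` -/
theorem mem_of_normal_ne_bot (N : Subgroup (alternatingGroup (Fin 4))) [hN : N.Normal]
    (h : N ≠ ⊥) : a0 ∈ N := by
  obtain ⟨g, hg1⟩ := (Subgroup.ne_bot_iff_exists_ne_one).1 h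
  obtain ⟨x, y, h1 | h1⟩ := exists_conj_prod g.1 (fun h => hg1 (Subtype.ext h))
  · rw [← h1]
    exact hN.conj_mem _ (N.mul_mem (hN.conj_mem _ g.2 x) (N.inv_mem g.2)) y
  · rw [← h1]
    exact hN.conj_mem _ g.2 y

/-- a homomorphism from `A₄` not killing `(0 1)(2 3)` is injective -/
theorem injective_of_ne_one {G : Type*} [Group G] (φ : alternatingGroup (Fin 4) →* G)
    (h : φ a0 ≠ 1) : Function.Injective φ := by
  rw [← MonoidHom.ker_eq_bot_iff]
  by_contra hne
  exact h (MonoidHom.mem_ker.1 (mem_of_normal_ne_bot φ.ker hne))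

/-- a subgroup isomorphic to `A₄` from generators satisfying the relations -/
theorem exists_subgroup {G : Type*} [Group G] (a b : G) (ha : a ^ 2 = 1) (hb : b ^ 3 = 1)
    (hab : (a * b) ^ 3 = 1) (hne : a ≠ 1) :
    ∃ H : Subgroup G, Nonempty (H ≃* alternatingGroup (Fin 4)) := by
  obtain ⟨φ, hφa, _⟩ := exists_hom a b ha hb hab
  have hinj := injective_of_ne_one φ (by rw [hφa]; exact hne)
  exact ⟨φ.range, ⟨(MonoidHom.ofInjective hinj).symm⟩⟩

end Cfsg.Agent.Lead.A4Pres
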