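import Mathlib
import Cfsg.Agent.S3377

set_option autoImplicit false

/-! Subgroups isomorphic to `A₅` from generators satisfying `x³ = y⁵ = (xy)² = 1`. -/

namespace Cfsg.Agent.Lead.A5Pres

open Cfsg.Agent.S3377

theorem exists_subgroup {G : Type*} [Group G] (x y : G) (hx : x ^ 3 = 1) (hy : y ^ 5 = 1)
    (hxy : (x * y) ^ 2 = 1) (hne : x ≠ 1) :
    ∃ H : Subgroup G, Nonempty (H ≃* alternatingGroup (Fin 5)) := by
  obtain ⟨e⟩ := Cfsg.Agent.S3377.result
  haveI : IsSimpleGroup (alternatingGroup (Fin 5)) := alternatingGroup.isSimpleGroup (by simp)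
  haveI : IsSimpleGroup (PresentedGroup rels) := (MulEquiv.isSimpleGroup_congr e).mpr inferInstance
  have hrel : ∀ r ∈ rels, FreeGroup.lift (![x, y] : Fin 2 → G) r = 1 := by
    intro r hr
    simp only [rels, Set.mem_insert_iff, Set.mem_singleton_iff] at hr
    rcases hr with rfl | rfl | rfl
    · rw [map_pow, FreeGroup.lift_apply_of]; exact hx
    · rw [map_pow, FreeGroup.lift_apply_of]; exact hy
    · rw [map_pow, map_mul, FreeGroup.lift_apply_of, FreeGroup.lift_apply_of]; exact hxy
  let ψ : PresentedGroup rels →* G := PresentedGroup.toGroup hrel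
  have hψ : ψ (PresentedGroup.of (0 : Fin 2)) = x := PresentedGroup.toGroup.of hrel
  have hinj : Function.Injective ψ := by
    rw [← MonoidHom.ker_eq_bot_iff]
    rcases Subgroup.Normal.eq_bot_or_eq_top (MonoidHom.normal_ker ψ) with h | h
    · exact h
    · exfalso
      have h1 : PresentedGroup.of (0 : Fin 2) ∈ ψ.ker := by rw [h]; exact Subgroup.mem_top _
      rw [MonoidHom.mem_ker, hψ] at h1
      exact hne h1
  exact ⟨ψ.range, ⟨(MonoidHom.ofInjective hinj).symm.trans e⟩⟩

end Cfsg.Agent.Lead.A5Pres
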