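import Mathlib
import Cfsg.Agent.Lead.DicksonB
import Cfsg.Agent.Helper8.PSL2Basic

set_option autoImplicit false

/-! Elements of `SL₂(F)` with prescribed traces: orders from Cayley–Hamilton, and pairs `(A, B)`
with `tr A = 0`, `tr B = -1`, `tr (A B) = τ`. -/

namespace Cfsg.Agent.Lead.PSL2Sub

open Matrix Cfsg.Agent.Lead.DicksonA Cfsg.Agent.Lead.DicksonB
open scoped MatrixGroups

variable {F : Type*} [Field F]

/-- Cayley–Hamilton for `2 × 2` matrices -/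
theorem ch (M : Matrix (Fin 2) (Fin 2) F) :
    M * M = (M 0 0 + M 1 1) • M - M.det • (1 : Matrix (Fin 2) (Fin 2) F) := by
  ext i j
  fin_cases i <;> fin_cases j <;>
    simp [Matrix.mul_apply, Fin.sum_univ_two, Matrix.det_fin_two] <;> ring

theorem ch_sl (g : SL(2, F)) : g.1 * g.1 = tr g • g.1 - 1 := by
  have h := ch g.1
  rw [g.2, one_smul] at h
  exact h

theorem pow_step (M : Matrix (Fin 2) (Fin 2) F) (t : F) (h : M * M = t • M - 1) (n : ℕ)
    (α β α' β' : F) (hn : M ^ n = α • M - β • (1 : Matrix (Fin 2) (Fin 2) F))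
    (hα : α' = α * t - β) (hβ : β' = α) :
    M ^ (n + 1) = α' • M - β' • (1 : Matrix (Fin 2) (Fin 2) F) := by
  subst hα hβ
  rw [pow_succ, hn, sub_mul, smul_mul_assoc, h, smul_mul_assoc, one_mul]
  module

theorem pow_coeffs (M : Matrix (Fin 2) (Fin 2) F) (t : F) (h : M * M = t • M - 1) :
    M ^ 2 = t • M - (1 : F) • (1 : Matrix (Fin 2) (Fin 2) F) ∧
    M ^ 3 = (t ^ 2 - 1) • M - t • (1 : Matrix (Fin 2) (Fin 2) F) ∧
    M ^ 4 = (t ^ 3 - 2 * t) • M - (t ^ 2 - 1) • (1 : Matrix (Fin 2) (Fin 2) F) ∧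
    M ^ 5 = (t ^ 4 - 3 * t ^ 2 + 1) • M - (t ^ 3 - 2 * t) • (1 : Matrix (Fin 2) (Fin 2) F) := by
  have h1 : M ^ 1 = (1 : F) • M - (0 : F) • (1 : Matrix (Fin 2) (Fin 2) F) := by simp
  have h2 := pow_step M t h 1 1 0 t 1 h1 (by ring) rfl
  have h3 := pow_step M t h 2 t 1 (t ^ 2 - 1) t h2 (by ring) rfl
  have h4 := pow_step M t h 3 (t ^ 2 - 1) t (t ^ 3 - 2 * t) (t ^ 2 - 1) h3 (by ring) rfl
  have h5 := pow_step M t h 4 (t ^ 3 - 2 * t) (t ^ 2 - 1) (t ^ 4 - 3 * t ^ 2 + 1) (t ^ 3 - 2 * t)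
    h4 (by ring) rfl
  exact ⟨h2, h3, h4, h5⟩

theorem coe_neg_one' : ((-1 : SL(2, F)) : Matrix (Fin 2) (Fin 2) F) = -1 := by
  simp

/-- trace zero gives square `-1` -/
theorem pow_two_of_tr (g : SL(2, F)) (h : tr g = 0) : g ^ 2 = -1 := by
  apply Subtype.ext
  have h2 := (pow_coeffs g.1 (tr g) (ch_sl g)).1
  rw [Matrix.SpecialLinearGroup.coe_pow, h2, h, coe_neg_one']
  simp

/-- trace `-1` gives order dividing three -/
theorem pow_three_of_tr (g : SL(2, F)) (h : tr g = -1) : g ^ 3 = 1 := by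
  apply Subtype.ext
  have h2 := (pow_coeffs g.1 (tr g) (ch_sl g)).2.1
  rw [Matrix.SpecialLinearGroup.coe_pow, h2, h]
  simp

/-- trace `1` gives cube `-1` -/
theorem pow_three_of_tr' (g : SL(2, F)) (h : tr g = 1) : g ^ 3 = -1 := by
  apply Subtype.ext
  have h2 := (pow_coeffs g.1 (tr g) (ch_sl g)).2.1
  rw [Matrix.SpecialLinearGroup.coe_pow, h2, h, coe_neg_one']
  simp

/-- trace `τ` with `τ² = 2` gives fourth power `-1` -/
theorem pow_four_of_tr (g : SL(2, F)) (τ : F) (hτ : τ ^ 2 = 2) (h : tr g = τ) : g ^ 4 = -1 := by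
  apply Subtype.ext
  have h2 := (pow_coeffs g.1 (tr g) (ch_sl g)).2.2.1
  have e1 : τ ^ 3 - 2 * τ = 0 := by linear_combination τ * hτ
  have e2 : τ ^ 2 - 1 = 1 := by linear_combination hτ
  rw [Matrix.SpecialLinearGroup.coe_pow, h2, h, e1, e2, coe_neg_one']
  simp

/-- trace `τ` with `τ² + τ - 1 = 0` gives order dividing five -/
theorem pow_five_of_tr (g : SL(2, F)) (τ : F) (hτ : τ ^ 2 + τ - 1 = 0) (h : tr g = τ) :
    g ^ 5 = 1 := by
  apply Subtype.ext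
  have h2 := (pow_coeffs g.1 (tr g) (ch_sl g)).2.2.2
  have e1 : τ ^ 4 - 3 * τ ^ 2 + 1 = 0 := by linear_combination (τ ^ 2 - τ - 1) * hτ
  have e2 : τ ^ 3 - 2 * τ = -1 := by linear_combination (τ - 1) * hτ
  rw [Matrix.SpecialLinearGroup.coe_pow, h2, h, e1, e2]
  simp

/-- the matrix `[[0, 1], [-1, 0]]` -/
def mA : SL(2, F) := ⟨!![0, 1; -1, 0], by simp [Matrix.det_fin_two_of]⟩

@[simp] theorem mA_00 : (mA : SL(2, F)).1 0 0 = 0 := rfl
@[simp] theorem mA_01 : (mA : SL(2, F)).1 0 1 = 1 := rfl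
@[simp] theorem mA_10 : (mA : SL(2, F)).1 1 0 = -1 := rfl
@[simp] theorem mA_11 : (mA : SL(2, F)).1 1 1 = 0 := rfl

/-- the matrix `[[x, z - τ], [z, -1 - x]]` -/
def mB (τ x z : F) (h : x ^ 2 + x + z ^ 2 - τ * z + 1 = 0) : SL(2, F) :=
  ⟨!![x, z - τ; z, -1 - x], by
    rw [Matrix.det_fin_two_of]; linear_combination -h⟩

@[simp] theorem mB_00 (τ x z : F) (h : x ^ 2 + x + z ^ 2 - τ * z + 1 = 0) :
    (mB τ x z h).1 0 0 = x := rfl
@[simp] theorem mB_01 (τ x z : F) (h : x ^ 2 + x + z ^ 2 - τ * z + 1 = 0) :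
    (mB τ x z h).1 0 1 = z - τ := rfl
@[simp] theorem mB_10 (τ x z : F) (h : x ^ 2 + x + z ^ 2 - τ * z + 1 = 0) :
    (mB τ x z h).1 1 0 = z := rfl
@[simp] theorem mB_11 (τ x z : F) (h : x ^ 2 + x + z ^ 2 - τ * z + 1 = 0) :
    (mB τ x z h).1 1 1 = -1 - x := rfl

theorem tr_mA : tr (mA : SL(2, F)) = 0 := by simp [tr]

theorem tr_mB (τ x z : F) (h : x ^ 2 + x + z ^ 2 - τ * z + 1 = 0) : tr (mB τ x z h) = -1 := by
  simp [tr]

theorem tr_mA_mB (τ x z : F) (h : x ^ 2 + x + z ^ 2 - τ * z + 1 = 0) :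
    tr (mA * mB τ x z h) = τ := by
  simp [tr, mul_00, mul_11]

theorem mA_ne_one : (mA : SL(2, F)) ≠ 1 := by
  intro h
  have := congrArg (fun g : SL(2, F) => g.1 0 1) h
  simp at this

theorem mA_ne_neg_one : (mA : SL(2, F)) ≠ -1 := by
  intro h
  have := congrArg (fun g : SL(2, F) => g.1 0 1) h
  simp at this

theorem mB_ne_one (τ x z : F) (h : x ^ 2 + x + z ^ 2 - τ * z + 1 = 0) (hτ : τ ≠ 0) :
    mB τ x z h ≠ 1 := by
  intro h1
  have e1 := congrArg (fun g : SL(2, F) => g.1 0 1) h1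
  have e2 := congrArg (fun g : SL(2, F) => g.1 1 0) h1
  simp at e1 e2
  apply hτ
  rw [e2] at e1
  simpa using e1

theorem mB_ne_neg_one (τ x z : F) (h : x ^ 2 + x + z ^ 2 - τ * z + 1 = 0) (hτ : τ ≠ 0) :
    mB τ x z h ≠ -1 := by
  intro h1
  have e1 := congrArg (fun g : SL(2, F) => g.1 0 1) h1
  have e2 := congrArg (fun g : SL(2, F) => g.1 1 0) h1
  simp at e1 e2
  apply hτ
  rw [e2] at e1
  simpa using e1

/-- the conic `x² + x + z² - τ z + 1 = 0` has a point over a finite field of odd order -/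
theorem exists_conic_odd [Fintype F] (hodd : Fintype.card F % 2 = 1) (τ : F) :
    ∃ x z : F, x ^ 2 + x + z ^ 2 - τ * z + 1 = 0 := by
  have hf : (Polynomial.X ^ 2 + Polynomial.X + 1 : Polynomial F).degree = 2 := by
    compute_degree!
  have hg : (Polynomial.X ^ 2 - Polynomial.C τ * Polynomial.X : Polynomial F).degree = 2 := by
    compute_degree!
  obtain ⟨x, z, hxz⟩ := FiniteField.exists_root_sum_quadratic hf hg hodd
  refine ⟨x, z, ?_⟩
  simp only [Polynomial.eval_add, Polynomial.eval_pow, Polynomial.eval_X, Polynomial.eval_one,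
    Polynomial.eval_sub, Polynomial.eval_mul, Polynomial.eval_C] at hxz
  linear_combination hxz

end Cfsg.Agent.Lead.PSL2Sub
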