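import Mathlib
import Cfsg.Agent.Lead.PSL2SubA
import Cfsg.Agent.Lead.A4Pres
import Cfsg.Agent.Lead.A5Pres
import Cfsg.Agent.S0243

set_option autoImplicit false

/-! `A₄` and `A₅` inside `PSL₂(q)`. -/

namespace Cfsg.Agent.Lead.PSL2Sub

open Matrix Cfsg.Agent.Lead.DicksonA Cfsg.Agent.Lead.DicksonB Cfsg.Agent.Helper8.SL2C
open scoped MatrixGroups

variable {F : Type*} [Field F]

/-- the order of `PSL₂(q)` -/
theorem card_mul [Fintype F] {q : ℕ} (hF : Fintype.card F = q) :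
    Nat.gcd 2 (q - 1) * Nat.card (Matrix.ProjectiveSpecialLinearGroup (Fin 2) F) =
      q * (q ^ 2 - 1) := by
  have hcard := Cfsg.Agent.S0243.result (F := F) hF 2 le_rfl
  rw [Fin.prod_univ_two] at hcard
  simp only [Fin.val_zero, pow_zero, Fin.val_one, pow_one] at hcard
  have hq : 2 ≤ q := by rw [← hF]; exact Fintype.one_lt_card
  obtain ⟨N, hN⟩ : ∃ N, N = Nat.card (Matrix.ProjectiveSpecialLinearGroup (Fin 2) F) := ⟨_, rfl⟩
  rw [← hN] at hcard ⊢
  obtain ⟨d, hd⟩ : ∃ d, d = Nat.gcd 2 (q - 1) := ⟨_, rfl⟩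
  rw [← hd] at hcard ⊢
  obtain ⟨k, rfl⟩ : ∃ k, q = k + 1 := ⟨q - 1, by omega⟩
  have e2 : (k + 1) ^ 2 - (k + 1) = (k + 1) * k := by
    apply Nat.sub_eq_of_eq_add; ring
  rw [e2, Nat.add_sub_cancel] at hcard
  have hk : 0 < k := by omega
  apply Nat.eq_of_mul_eq_mul_left hk
  rw [Nat.add_sub_cancel] at hd
  calc k * (d * N) = d * (k * N) := by ring
    _ = ((k + 1) ^ 2 - 1) * ((k + 1) * k) := hcard
    _ = k * ((k + 1) * ((k + 1) ^ 2 - 1)) := by ring

/-- a solution of the conic with `τ = -1` gives `A₄` inside `PSL₂` -/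
theorem exists_A4_of_conic (x z : F) (h : x ^ 2 + x + z ^ 2 - (-1) * z + 1 = 0) :
    ∃ H : Subgroup (Matrix.ProjectiveSpecialLinearGroup (Fin 2) F),
      Nonempty (H ≃* alternatingGroup (Fin 4)) := by
  have h10 : (1 : F) ≠ 0 := one_ne_zero
  apply Cfsg.Agent.Lead.A4Pres.exists_subgroup (pmk mA) (pmk (mB (-1) x z h))
  · rw [pmk_pow, pow_two_of_tr _ tr_mA, pmk_neg]; rfl
  · rw [pmk_pow, pow_three_of_tr _ (tr_mB _ _ _ _)]; rfl
  · rw [pmk_mul, pmk_pow, pow_three_of_tr _ (tr_mA_mB _ _ _ _)]; rfl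
  · intro h1
    rw [pmk_eq_one_iff] at h1
    rcases h1 with h1 | h1
    · exact mA_ne_one h1
    · exact mA_ne_neg_one h1

/-- a root of `τ² + τ - 1` and a solution of the conic give `A₅` inside `PSL₂` -/
theorem exists_A5_of_conic (τ : F) (hτ : τ ^ 2 + τ - 1 = 0) (x z : F)
    (h : x ^ 2 + x + z ^ 2 - τ * z + 1 = 0) :
    ∃ H : Subgroup (Matrix.ProjectiveSpecialLinearGroup (Fin 2) F),
      Nonempty (H ≃* alternatingGroup (Fin 5)) := by
  have hτ0 : τ ≠ 0 := by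
    rintro rfl
    simp at hτ
  apply Cfsg.Agent.Lead.A5Pres.exists_subgroup (pmk (mB τ x z h)⁻¹) (pmk (mA * mB τ x z h))
  · rw [pmk_pow, inv_pow, pow_three_of_tr _ (tr_mB _ _ _ _), inv_one]; rfl
  · rw [pmk_pow, pow_five_of_tr _ τ hτ (tr_mA_mB _ _ _ _)]; rfl
  · rw [pmk_mul, pmk_pow]
    have : ((mB τ x z h)⁻¹ * (mA * mB τ x z h)) ^ 2 = -1 := by
      have e : ((mB τ x z h)⁻¹ * (mA * mB τ x z h)) ^ 2 =
          (mB τ x z h)⁻¹ * mA ^ 2 * mB τ x z h := by
        simp only [pow_two, mul_assoc, mul_inv_cancel_left]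
      rw [e, pow_two_of_tr _ tr_mA]
      simp
    rw [this, pmk_neg]; rfl
  · intro h1
    rw [pmk_eq_one_iff] at h1
    rcases h1 with h1 | h1
    · exact mB_ne_one τ x z h hτ0 (inv_eq_one.mp h1)
    · apply mB_ne_neg_one τ x z h hτ0
      have : mB τ x z h = (-1 : SL(2, F))⁻¹ := by rw [← h1, inv_inv]
      rw [this]
      apply ext4 <;> simp [inv_00, inv_01, inv_10, inv_11]

/-- a primitive cube root of unity when `3 ∣ q - 1` -/
theorem exists_omega [Fintype F] (h3 : 3 ∣ Fintype.card F - 1) : ∃ ω : F, ω ^ 2 + ω + 1 = 0 := by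
  classical
  have : Fact (Nat.Prime 3) := ⟨by norm_num⟩
  have hc : 3 ∣ Nat.card Fˣ := by
    rw [Nat.card_eq_fintype_card, Fintype.card_units]; exact h3
  obtain ⟨u, hu⟩ := exists_prime_orderOf_dvd_card' 3 hc
  refine ⟨(u : F), ?_⟩
  have h1 : (u : F) ^ 3 = 1 := by
    have := pow_orderOf_eq_one u
    rw [hu] at this
    have := congrArg (fun v : Fˣ => (v : F)) this
    simpa using this
  have h2 : (u : F) ≠ 1 := by
    intro h
    have : u = 1 := Units.ext h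
    rw [this, orderOf_one] at hu
    norm_num at hu
  have h3 : ((u : F) - 1) * ((u : F) ^ 2 + (u : F) + 1) = 0 := by linear_combination h1
  rcases mul_eq_zero.mp h3 with h | h
  · exact absurd (sub_eq_zero.mp h) h2
  · exact h

end Cfsg.Agent.Lead.PSL2Sub
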