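import Mathlib
import Cfsg.Agent.Lead.DicksonA
import Cfsg.Agent.Lead.DicksonB
import Cfsg.Agent.Lead.DicksonC
import Cfsg.Agent.Lead.DicksonD
import Cfsg.Agent.Lead.DicksonE
import Cfsg.Agent.Lead.DicksonF
import Cfsg.Agent.Lead.DicksonG
import Cfsg.Agent.Lead.DicksonH

set_option autoImplicit false

/-! # Dickson's theorem for `SL₂`, part M: in the generic case `T` is closed under products -/

namespace Cfsg.Agent.Lead.DicksonM

open Matrix Cfsg.Agent.Lead.DicksonA Cfsg.Agent.Lead.DicksonB Cfsg.Agent.Lead.DicksonC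
  Cfsg.Agent.Lead.DicksonD Cfsg.Agent.Lead.DicksonE Cfsg.Agent.Lead.DicksonF
  Cfsg.Agent.Lead.DicksonG Cfsg.Agent.Lead.DicksonH
open scoped LinearAlgebra.Projectivization MatrixGroups

variable {E : Type*} [Field E]

open Classical in
/-- in the generic case the finite points of the orbit of infinity are the `pt t`, `t ∈ T` -/
theorem mem_TT_of_pt_mem (h2 : (2 : E) ≠ 0) (L : Subgroup SL(2, E)) [Finite L]
    (lam : E) (hlam : lam ≠ 0) (hl : ll lam ∈ L)
    (hs : (orb L (inf : PL E)).ncard = Nat.card (TT L) + 1) (t : E)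
    (ht : (pt t : PL E) ∈ Of L) : t ∈ TT L := by
  have hμT := inv_lam_mem h2 L lam hlam hl hs
  obtain ⟨μ, hμ⟩ : ∃ μ, μ = 1 / lam := ⟨_, rfl⟩
  rw [← hμ] at hμT
  have hcard : ((Of L).erase inf).card = Nat.card (TT L) := by
    rw [Finset.card_erase_of_mem (inf_mem_Of L), card_Of, hs]; simp
  have hsub : (Tfin L).image (fun t => (pt (μ + t) : PL E)) ⊆ (Of L).erase inf := by
    intro y hy
    obtain ⟨t, ht, rfl⟩ := Finset.mem_image.1 hy
    rw [Finset.mem_erase]
    refine ⟨pt_ne_inf _, ?_⟩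
    rw [← uu_smul_pt, hμ, ← ll_smul_inf lam hlam]
    exact smul_mem_Of L _ (smul_mem_Of L _ (inf_mem_Of L) _ hl) _ ((mem_Tfin L t).1 ht)
  have hcard2 : ((Tfin L).image (fun t => (pt (μ + t) : PL E))).card = Nat.card (TT L) := by
    rw [Finset.card_image_of_injective, card_Tfin]
    intro a b hab
    exact add_left_cancel (pt_injective hab)
  have heq : (Tfin L).image (fun t => (pt (μ + t) : PL E)) = (Of L).erase inf :=
    Finset.eq_of_subset_of_card_le hsub (by rw [hcard, hcard2])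
  have h4 : (pt t : PL E) ∈ (Of L).erase inf := Finset.mem_erase.2 ⟨pt_ne_inf _, ht⟩
  rw [← heq] at h4
  obtain ⟨t', ht', hpt⟩ := Finset.mem_image.1 h4
  have h5 : μ + t' = t := pt_injective hpt
  rw [← h5]
  exact (TT L).add_mem hμT ((mem_Tfin L t').1 ht')

/-- the points `pt t`, `t ∈ T`, lie in the orbit of infinity -/
theorem pt_mem_Of (h2 : (2 : E) ≠ 0) (L : Subgroup SL(2, E)) [Finite L]
    (lam : E) (hlam : lam ≠ 0) (hl : ll lam ∈ L)
    (hs : (orb L (inf : PL E)).ncard = Nat.card (TT L) + 1) (t : E) (ht : t ∈ TT L) :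
    (pt t : PL E) ∈ Of L := by
  have hμT := inv_lam_mem h2 L lam hlam hl hs
  have h1 : (pt (1 / lam) : PL E) ∈ Of L := by
    rw [← ll_smul_inf lam hlam]
    exact smul_mem_Of L _ (inf_mem_Of L) _ hl
  have h3 : (pt t : PL E) = uu (t - 1 / lam) • (pt (1 / lam) : PL E) := by
    rw [uu_smul_pt]; congr 1; ring
  rw [h3]
  exact smul_mem_Of L _ h1 _ ((TT L).sub_mem ht hμT)

/-- the map `u ↦ κ / u` preserves `T` -/
theorem J_mem (h2 : (2 : E) ≠ 0) (L : Subgroup SL(2, E)) [Finite L]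
    (lam : E) (hlam : lam ≠ 0) (hl : ll lam ∈ L)
    (hs : (orb L (inf : PL E)).ncard = Nat.card (TT L) + 1) (u : E) (hu : u ∈ TT L)
    (hu0 : u ≠ 0) : (1 / lam) ^ 2 / u ∈ TT L := by
  have hμT := inv_lam_mem h2 L lam hlam hl hs
  have ht : u - 1 / lam ∈ TT L := (TT L).sub_mem hu hμT
  have h3 : ll lam • (pt (u - 1 / lam) : PL E) = pt ((u - 1 / lam) / (lam * u)) := by
    rw [smul_pt_eq_pt_iff]
    simp only [ll_00, ll_01, ll_10, ll_11]
    field_simp
    ring
  have h4 : (u - 1 / lam) / (lam * u) ∈ TT L := by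
    apply mem_TT_of_pt_mem h2 L lam hlam hl hs
    rw [← h3]
    exact smul_mem_Of L _ (pt_mem_Of h2 L lam hlam hl hs _ ht) _ hl
  have h5 : (1 / lam) ^ 2 / u = 1 / lam - (u - 1 / lam) / (lam * u) := by
    field_simp
    ring
  rw [h5]
  exact (TT L).sub_mem hμT h4

/-- Hua's identity in `T` -/
theorem hua_mem (h2 : (2 : E) ≠ 0) (L : Subgroup SL(2, E)) [Finite L]
    (lam : E) (hlam : lam ≠ 0) (hl : ll lam ∈ L)
    (hs : (orb L (inf : PL E)).ncard = Nat.card (TT L) + 1) (a b : E) (ha : a ∈ TT L)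
    (hb : b ∈ TT L) : a ^ 2 * b / (1 / lam) ^ 2 ∈ TT L := by
  obtain ⟨κ, hκ⟩ : ∃ κ, κ = (1 / lam) ^ 2 := ⟨_, rfl⟩
  have hκ0 : κ ≠ 0 := by rw [hκ]; exact pow_ne_zero _ (one_div_ne_zero hlam)
  have hJ : ∀ u ∈ TT L, u ≠ 0 → κ / u ∈ TT L := by
    intro u hu hu0
    rw [hκ]; exact J_mem h2 L lam hlam hl hs u hu hu0
  rw [← hκ]
  by_cases ha0 : a = 0
  · rw [ha0]; simp [(TT L).zero_mem]
  by_cases hb0 : b = 0
  · rw [hb0]; simp [(TT L).zero_mem]
  by_cases hab : a * b = κ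
  · have : a ^ 2 * b / κ = a := by
      rw [← hab]; field_simp
    rw [this]; exact ha
  have hd : κ - a * b ≠ 0 := fun h => hab (by linear_combination -h)
  have hv : κ / b - a ∈ TT L := (TT L).sub_mem (hJ b hb hb0) ha
  have hv0 : κ / b - a ≠ 0 := by
    have : κ / b - a = (κ - a * b) / b := by field_simp
    rw [this]; exact div_ne_zero hd hb0
  have hw : κ / a + κ / (κ / b - a) ∈ TT L := (TT L).add_mem (hJ a ha ha0) (hJ _ hv hv0)
  have hweq : κ / a + κ / (κ / b - a) = κ ^ 2 / (a * (κ - a * b)) := by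
    have : κ / b - a = (κ - a * b) / b := by field_simp
    rw [this]
    field_simp
    ring
  have hw0 : κ / a + κ / (κ / b - a) ≠ 0 := by
    rw [hweq]; exact div_ne_zero (pow_ne_zero _ hκ0) (mul_ne_zero ha0 hd)
  have h6 := hJ _ hw hw0
  have h7 : a ^ 2 * b / κ = a - κ / (κ / a + κ / (κ / b - a)) := by
    rw [hweq]
    field_simp
    ring
  rw [h7]
  exact (TT L).sub_mem ha h6

/-- in the generic case `T` is closed under multiplication -/
theorem mul_mem_TT (p : ℕ) [Fact p.Prime] [CharP E p] (h2 : (2 : E) ≠ 0)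
    (L : Subgroup SL(2, E)) [Finite L] (hu : uu 1 ∈ L)
    (lam : E) (hlam : lam ≠ 0) (hl : ll lam ∈ L)
    (hs : (orb L (inf : PL E)).ncard = Nat.card (TT L) + 1) (a b : E) (ha : a ∈ TT L)
    (hb : b ∈ TT L) : a * b ∈ TT L := by
  obtain ⟨κ, hκ⟩ : ∃ κ, κ = (1 / lam) ^ 2 := ⟨_, rfl⟩
  have hκ0 : κ ≠ 0 := by rw [hκ]; exact pow_ne_zero _ (one_div_ne_zero hlam)
  have h1T : (1 : E) ∈ TT L := hu
  have hH : ∀ a b : E, a ∈ TT L → b ∈ TT L → a ^ 2 * b / κ ∈ TT L := by
    intro a b ha hb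
    rw [hκ]; exact hua_mem h2 L lam hlam hl hs a b ha hb
  have hdiv : ∀ b ∈ TT L, b / κ ∈ TT L := by
    intro b hb
    have := hH 1 b h1T hb
    rwa [one_pow, one_mul] at this
  -- multiplication by `κ` preserves `T`
  have hmulκ : ∀ b ∈ TT L, κ * b ∈ TT L := by
    intro b hb
    let f : TT L → TT L := fun x => ⟨x.1 / κ, hdiv x.1 x.2⟩
    have hinj : Function.Injective f := by
      intro x y hxy
      have := congrArg Subtype.val hxy
      simp only [f] at this
      apply Subtype.ext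
      field_simp at this
      exact this
    have hsurj := Finite.surjective_of_injective hinj
    obtain ⟨x, hx⟩ := hsurj ⟨b, hb⟩
    have hx' : x.1 / κ = b := congrArg Subtype.val hx
    have : κ * b = x.1 := by rw [← hx']; field_simp
    rw [this]; exact x.2
  have hsq : ∀ a b : E, a ∈ TT L → b ∈ TT L → a ^ 2 * b ∈ TT L := by
    intro a b ha hb
    have := hH a (κ * b) ha (hmulκ b hb)
    have h3 : a ^ 2 * (κ * b) / κ = a ^ 2 * b := by field_simp
    rwa [h3] at this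
  have h2ab : 2 * (a * b) ∈ TT L := by
    have e1 := hsq (a + b) 1 ((TT L).add_mem ha hb) h1T
    have e2 := hsq a 1 ha h1T
    have e3 := hsq b 1 hb h1T
    have : 2 * (a * b) = (a + b) ^ 2 * 1 - a ^ 2 * 1 - b ^ 2 * 1 := by ring
    rw [this]
    exact (TT L).sub_mem ((TT L).sub_mem e1 e2) e3
  -- halving
  have hp2 : p ≠ 2 := by
    rintro rfl
    apply h2
    have := CharP.cast_eq_zero E 2
    exact_mod_cast this
  obtain ⟨k, hk⟩ : ∃ k, p = 2 * k + 1 := by
    rcases (Fact.out : p.Prime).eq_two_or_odd' with h | h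
    · exact absurd h hp2
    · obtain ⟨k, hk⟩ := h; exact ⟨k, hk⟩
  have hhalf : ((k + 1 : ℕ) : E) * 2 = 1 := by
    have := CharP.cast_eq_zero E p
    rw [hk] at this
    push_cast at this ⊢
    linear_combination this
  have : a * b = (k + 1) • (2 * (a * b)) := by
    rw [nsmul_eq_mul]
    linear_combination (-(a * b)) * hhalf
  rw [this]
  exact (TT L).nsmul_mem h2ab _

end Cfsg.Agent.Lead.DicksonM
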