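import Mathlib
import Cfsg.Agent.Lead.DicksonA
import Cfsg.Agent.Lead.DicksonB
import Cfsg.Agent.Lead.DicksonC
import Cfsg.Agent.Lead.DicksonD
import Cfsg.Agent.Lead.DicksonE
import Cfsg.Agent.Lead.DicksonF
import Cfsg.Agent.Lead.DicksonG
import Cfsg.Agent.Lead.DicksonH
import Cfsg.Agent.Lead.DicksonI
import Cfsg.Agent.Lead.DicksonJ
import Cfsg.Agent.Lead.DicksonK
import Cfsg.Agent.Lead.DicksonM

set_option autoImplicit false

/-! # Dickson's theorem for `SL₂`, part N: the group generated by `uu 1` and `ll λ` -/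

namespace Cfsg.Agent.Lead.DicksonN

open Matrix Cfsg.Agent.Lead.DicksonA Cfsg.Agent.Lead.DicksonB Cfsg.Agent.Lead.DicksonC
  Cfsg.Agent.Lead.DicksonD Cfsg.Agent.Lead.DicksonE Cfsg.Agent.Lead.DicksonF
  Cfsg.Agent.Lead.DicksonG Cfsg.Agent.Lead.DicksonH Cfsg.Agent.Lead.DicksonI
  Cfsg.Agent.Lead.DicksonJ Cfsg.Agent.Lead.DicksonK Cfsg.Agent.Lead.DicksonM
open scoped LinearAlgebra.Projectivization MatrixGroups

/-! ## Generation of `SL₂` by elementary matrices -/

theorem closure_elem_eq_top (F : Type*) [Field F] :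
    Subgroup.closure {g : SL(2, F) | ∃ t : F, g = uu t ∨ g = ll t} = ⊤ := by
  rw [eq_top_iff]
  intro A _
  refine Matrix.SL2.transvection_induction
    (fun g => g ∈ Subgroup.closure {g : SL(2, F) | ∃ t : F, g = uu t ∨ g = ll t})
    ?_ (fun _ _ => Subgroup.mul_mem _) A
  intro i j h c
  apply Subgroup.subset_closure
  rcases transvection_eq F i j h c with h1 | h1
  · exact ⟨c, Or.inl h1⟩
  · exact ⟨c, Or.inr h1⟩

/-- a subgroup containing all elementary matrices is everything -/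
theorem eq_top_of_elem {F : Type*} [Field F] (H : Subgroup SL(2, F))
    (hu : ∀ t : F, uu t ∈ H) (hl : ∀ t : F, ll t ∈ H) : H = ⊤ := by
  rw [eq_top_iff, ← closure_elem_eq_top F, Subgroup.closure_le]
  rintro g ⟨t, rfl | rfl⟩
  · exact hu t
  · exact hl t

/-! ## The lower unitriangular analogue of `TT` -/

variable {E : Type*} [Field E]

/-- the additive group of `t` with `ll t ∈ L` -/
def TL (L : Subgroup SL(2, E)) : AddSubgroup E where
  carrier := {t | ll t ∈ L}
  zero_mem' := by simp [ll_zero, L.one_mem]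
  add_mem' := by
    intro a b ha hb
    simp only [Set.mem_setOf_eq] at *
    rw [← ll_mul]; exact L.mul_mem ha hb
  neg_mem' := by
    intro a ha
    simp only [Set.mem_setOf_eq] at *
    rw [← ll_inv]; exact L.inv_mem ha

theorem mem_TL (L : Subgroup SL(2, E)) (t : E) : t ∈ TL L ↔ ll t ∈ L := Iff.rfl

/-! ## Subfields from multiplicatively closed additive subgroups -/

/-- an additive subgroup of a finite field which contains `1` and is closed under products is
a subfield -/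
def subfieldOf {F : Type*} [Field F] [Fintype F] (A : AddSubgroup F) (h1 : (1 : F) ∈ A)
    (hmul : ∀ a b : F, a ∈ A → b ∈ A → a * b ∈ A) : Subfield F where
  carrier := A
  mul_mem' := fun ha hb => hmul _ _ ha hb
  one_mem' := h1
  add_mem' := fun ha hb => A.add_mem ha hb
  zero_mem' := A.zero_mem
  neg_mem' := fun ha => A.neg_mem ha
  inv_mem' := by
    intro x hx
    by_cases hx0 : x = 0
    · rw [hx0, _root_.inv_zero]; exact A.zero_mem
    · have hpow : ∀ n : ℕ, x ^ n ∈ A := by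
        intro n
        induction n with
        | zero => rw [pow_zero]; exact h1
        | succ n ih => rw [pow_succ]; exact hmul _ _ ih hx
      have h2 : 2 ≤ Fintype.card F := Fintype.one_lt_card
      have h3 : x ^ (Fintype.card F - 1) = 1 := FiniteField.pow_card_sub_one_eq_one x hx0
      have h4 : x⁻¹ = x ^ (Fintype.card F - 2) := by
        apply inv_eq_of_mul_eq_one_right
        rw [← pow_succ']
        have : Fintype.card F - 2 + 1 = Fintype.card F - 1 := by omega
        rw [this, h3]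
      show x⁻¹ ∈ A
      rw [h4]; exact hpow _

theorem mem_subfieldOf {F : Type*} [Field F] [Fintype F] (A : AddSubgroup F) (h1 : (1 : F) ∈ A)
    (hmul : ∀ a b : F, a ∈ A → b ∈ A → a * b ∈ A) (x : F) :
    x ∈ subfieldOf A h1 hmul ↔ x ∈ A := Iff.rfl

/-! ## The swapping element -/

/-- the antidiagonal matrix -/
def kk (γ : E) (hγ : γ ≠ 0) : SL(2, E) :=
  ⟨!![0, -γ⁻¹; γ, 0], by simp [Matrix.det_fin_two_of, hγ]⟩

@[simp] theorem kk_00 (γ : E) (hγ : γ ≠ 0) : (kk γ hγ).1 0 0 = 0 := rfl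
@[simp] theorem kk_01 (γ : E) (hγ : γ ≠ 0) : (kk γ hγ).1 0 1 = -γ⁻¹ := rfl
@[simp] theorem kk_10 (γ : E) (hγ : γ ≠ 0) : (kk γ hγ).1 1 0 = γ := rfl
@[simp] theorem kk_11 (γ : E) (hγ : γ ≠ 0) : (kk γ hγ).1 1 1 = 0 := rfl

theorem kk_conj_uu (γ : E) (hγ : γ ≠ 0) (t : E) :
    kk γ hγ * uu t * (kk γ hγ)⁻¹ = ll (-γ ^ 2 * t) := by
  apply ext4
  · simp [mul_00, mul_01, mul_10, mul_11, inv_00, inv_01, inv_10, inv_11, hγ]
  · simp [mul_00, mul_01, mul_10, mul_11, inv_00, inv_01, inv_10, inv_11]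
  · simp [mul_00, mul_01, mul_10, mul_11, inv_00, inv_01, inv_10, inv_11]; ring
  · simp [mul_00, mul_01, mul_10, mul_11, inv_00, inv_01, inv_10, inv_11, hγ]

theorem kk_conj_ll (γ : E) (hγ : γ ≠ 0) (s : E) :
    kk γ hγ * ll s * (kk γ hγ)⁻¹ = uu (-(γ⁻¹) ^ 2 * s) := by
  apply ext4
  · simp [mul_00, mul_01, mul_10, mul_11, inv_00, inv_01, inv_10, inv_11, hγ]
  · simp [mul_00, mul_01, mul_10, mul_11, inv_00, inv_01, inv_10, inv_11]; ring
  · simp [mul_00, mul_01, mul_10, mul_11, inv_00, inv_01, inv_10, inv_11]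
  · simp [mul_00, mul_01, mul_10, mul_11, inv_00, inv_01, inv_10, inv_11, hγ]

/-- conjugation by `kk γ`, `γ² = -λ`, preserves the group generated by `uu 1` and `ll λ` -/
theorem kk_conj_mem (lam γ : E) (hγ : γ ≠ 0) (hγ2 : γ ^ 2 = -lam) (g : SL(2, E))
    (hg : g ∈ Subgroup.closure ({uu 1, ll lam} : Set SL(2, E))) :
    kk γ hγ * g * (kk γ hγ)⁻¹ ∈ Subgroup.closure ({uu 1, ll lam} : Set SL(2, E)) := by
  have hlam : lam ≠ 0 := by
    intro h
    rw [h, neg_zero] at hγ2
    exact hγ (pow_eq_zero_iff (two_ne_zero) |>.1 hγ2)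
  induction hg using Subgroup.closure_induction with
  | mem x hx =>
    rcases hx with rfl | rfl
    · rw [kk_conj_uu, hγ2]
      apply Subgroup.subset_closure
      right
      simp
    · rw [kk_conj_ll]
      have : -(γ⁻¹) ^ 2 * lam = 1 := by
        rw [inv_pow, hγ2]; field_simp
      rw [this]
      apply Subgroup.subset_closure
      left; rfl
  | one => simp [Subgroup.one_mem]
  | mul x y _ _ hx hy =>
    have : kk γ hγ * (x * y) * (kk γ hγ)⁻¹ =
        (kk γ hγ * x * (kk γ hγ)⁻¹) * (kk γ hγ * y * (kk γ hγ)⁻¹) := by group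
    rw [this]; exact Subgroup.mul_mem _ hx hy
  | inv x _ hx =>
    have : kk γ hγ * x⁻¹ * (kk γ hγ)⁻¹ = (kk γ hγ * x * (kk γ hγ)⁻¹)⁻¹ := by group
    rw [this]; exact Subgroup.inv_mem _ hx

/-! ## The generic case -/

section Generic

variable [IsAlgClosed E]

theorem uu_pow_p (p : ℕ) [CharP E p] (t : E) : (uu t) ^ p = 1 := by
  rw [uu_pow, CharP.cast_eq_zero E p, zero_mul, uu_zero]

/-- in the generic case the group generated by `uu 1` and `ll (c λ₀)` contains all elementary
matrices over the image of `F` -/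
theorem generic_mem {F : Type*} [Field F] [Fintype F] (c : F →+* E)
    (p : ℕ) [Fact p.Prime] [CharP E p] (h2 : (2 : E) ≠ 0)
    (lam₀ : F) (hlam₀ : lam₀ ≠ 0) (hgen : Subfield.closure ({lam₀} : Set F) = ⊤)
    (L : Subgroup SL(2, E)) [Finite L]
    (hL : L = Subgroup.closure ({uu 1, ll (c lam₀)} : Set SL(2, E)))
    (hs : (orb (Lpm L) (inf : PL E)).ncard = Nat.card (TT (Lpm L)) + 1) (x : F) :
    uu (c x) ∈ L ∧ ll (c x) ∈ L := by
  have hp2 : p ≠ 2 := by
    rintro rfl
    apply h2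
    have := CharP.cast_eq_zero E 2
    exact_mod_cast this
  have hodd : Odd p := (Fact.out : p.Prime).odd_of_ne_two hp2
  have huL : uu (1 : E) ∈ L := by rw [hL]; exact Subgroup.subset_closure (by simp)
  have hlL : ll (c lam₀) ∈ L := by rw [hL]; exact Subgroup.subset_closure (by simp)
  have hlam : c lam₀ ≠ 0 := fun h => hlam₀ (c.injective (by rw [h, map_zero]))
  have hu := le_Lpm L huL
  have hl := le_Lpm L hlL
  have hmul := mul_mem_TT p h2 (Lpm L) hu (c lam₀) hlam hl hs
  have hμ := inv_lam_mem h2 (Lpm L) (c lam₀) hlam hl hs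
  -- the subfield
  let A : AddSubgroup F := (TT (Lpm L)).comap c.toAddMonoidHom
  have hA : ∀ y : F, y ∈ A ↔ c y ∈ TT (Lpm L) := fun y => Iff.rfl
  have h1A : (1 : F) ∈ A := by rw [hA, map_one]; exact hu
  have hmulA : ∀ a b : F, a ∈ A → b ∈ A → a * b ∈ A := by
    intro a b ha hb
    rw [hA] at ha hb ⊢
    rw [map_mul]; exact hmul _ _ ha hb
  have hinvlam : lam₀⁻¹ ∈ subfieldOf A h1A hmulA := by
    rw [mem_subfieldOf, hA, map_inv₀]
    rw [one_div] at hμ
    exact hμ
  have hlamS : lam₀ ∈ subfieldOf A h1A hmulA := by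
    have := (subfieldOf A h1A hmulA).inv_mem hinvlam
    rwa [inv_inv] at this
  have htop : subfieldOf A h1A hmulA = ⊤ := by
    rw [eq_top_iff, ← hgen, Subfield.closure_le]
    intro y hy
    rw [Set.mem_singleton_iff] at hy
    rw [hy]; exact hlamS
  have hall : ∀ y : F, uu (c y) ∈ L := by
    intro y
    have hy : y ∈ subfieldOf A h1A hmulA := by rw [htop]; exact Subfield.mem_top y
    rw [mem_subfieldOf, hA] at hy
    exact mem_of_pow p hodd L _ hy (uu_pow_p p _)
  refine ⟨hall x, ?_⟩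
  -- the lower unitriangular matrices
  obtain ⟨γ, hγ2⟩ : ∃ γ : E, γ ^ 2 = -(c lam₀) := IsAlgClosed.exists_pow_nat_eq _ (by norm_num)
  have hγ : γ ≠ 0 := by
    rintro rfl
    rw [zero_pow (by norm_num)] at hγ2
    exact hlam (by linear_combination hγ2)
  have h5 := kk_conj_mem (c lam₀) γ hγ hγ2 (uu (c (x / lam₀))) (by rw [← hL]; exact hall _)
  rw [kk_conj_uu, hγ2, ← hL] at h5
  have h6 : - -c lam₀ * c (x / lam₀) = c x := by
    rw [map_div₀]; field_simp
  rwa [h6] at h5

end Generic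

end Cfsg.Agent.Lead.DicksonN
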