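import Mathlib
import Cfsg.Agent.Lead.PSL2SubB

set_option autoImplicit false

/-! `A₅` inside `PSL₂(q)`: the arithmetic. -/

namespace Cfsg.Agent.Lead.PSL2Sub

open Matrix
open scoped MatrixGroups

variable {F : Type*} [Field F] [Fintype F]

theorem mod_five_of_dvd {q : ℕ} (h5 : 5 ∣ q * (q ^ 2 - 1)) : q % 5 = 0 ∨ q % 5 = 1 ∨ q % 5 = 4 := by
  have h : q % 5 = 0 ∨ q % 5 = 1 ∨ q % 5 = 2 ∨ q % 5 = 3 ∨ q % 5 = 4 := by omega
  rcases h with h | h | h | h | h
  · exact Or.inl h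
  · exact Or.inr (Or.inl h)
  · exfalso
    obtain ⟨k, rfl⟩ : ∃ k, q = 5 * k + 2 := ⟨q / 5, by omega⟩
    have e : (5 * k + 2) ^ 2 - 1 = 25 * k ^ 2 + 20 * k + 3 := by
      apply Nat.sub_eq_of_eq_add; ring
    rw [e] at h5
    have e2 : (5 * k + 2) * (25 * k ^ 2 + 20 * k + 3) =
        5 * (25 * k ^ 3 + 30 * k ^ 2 + 11 * k + 1) + 1 := by ring
    rw [e2] at h5
    omega
  · exfalso
    obtain ⟨k, rfl⟩ : ∃ k, q = 5 * k + 3 := ⟨q / 5, by omega⟩
    have e : (5 * k + 3) ^ 2 - 1 = 25 * k ^ 2 + 30 * k + 8 := by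
      apply Nat.sub_eq_of_eq_add; ring
    rw [e] at h5
    have e2 : (5 * k + 3) * (25 * k ^ 2 + 30 * k + 8) =
        5 * (25 * k ^ 3 + 45 * k ^ 2 + 26 * k + 4) + 4 := by ring
    rw [e2] at h5
    omega
  · exact Or.inr (Or.inr h)

theorem four_pow_mod_five (m : ℕ) : 4 ^ m % 5 = 1 ∨ 4 ^ m % 5 = 4 := by
  induction m with
  | zero => left; rfl
  | succ k ih =>
    rw [pow_succ]
    rcases ih with ih | ih <;> omega

instance fact_five : Fact (Nat.Prime 5) := ⟨by norm_num⟩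

theorem qc_five : ∀ a : ZMod 5, (a = 0 ∨ a = 1 ∨ a = 4) →
    quadraticChar (ZMod 5) (((1 : ℤ) : ZMod 5) * a) ≠ -1 ∧
      quadraticChar (ZMod 5) (((-1 : ℤ) : ZMod 5) * a) ≠ -1 := by
  decide

theorem two_pow_even_of_dvd {n : ℕ} (h5 : 5 ∣ 2 ^ n * ((2 ^ n) ^ 2 - 1)) : 3 ∣ 2 ^ n - 1 := by
  rcases Nat.even_or_odd n with ⟨m, rfl⟩ | ⟨m, rfl⟩
  · have e : 2 ^ (m + m) = 4 ^ m := by rw [← two_mul, pow_mul]; norm_num
    rw [e]
    have h1 : 4 ^ m % 3 = 1 := by
      rw [Nat.pow_mod]; norm_num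
    have hpos : 0 < 4 ^ m := by positivity
    omega
  · exfalso
    have h := mod_five_of_dvd h5
    have e : 2 ^ (2 * m + 1) = 2 * 4 ^ m := by rw [pow_succ, pow_mul]; norm_num; ring
    rw [e] at h
    have h1 := four_pow_mod_five m
    omega

/-- when `5 ∣ q (q² - 1)`, there are `τ` with `τ² + τ - 1 = 0` and a point on the conic -/
theorem exists_tau {q : ℕ} (hF : Fintype.card F = q) (h5 : 5 ∣ q * (q ^ 2 - 1)) :
    ∃ τ x z : F, τ ^ 2 + τ - 1 = 0 ∧ x ^ 2 + x + z ^ 2 - τ * z + 1 = 0 := by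
  by_cases h2 : (2 : F) = 0
  · have : CharP F 2 := (CharP.charP_iff_prime_eq_zero Nat.prime_two).2 (by exact_mod_cast h2)
    obtain ⟨n, -, hn⟩ := FiniteField.card F 2
    rw [hF] at hn
    rw [hn] at h5
    have h3 := two_pow_even_of_dvd h5
    rw [← hn, ← hF] at h3
    obtain ⟨ω, hω⟩ := exists_omega h3
    refine ⟨ω, ω, 0, ?_, ?_⟩
    · linear_combination hω - h2
    · linear_combination hω
  · have hchar : ringChar F ≠ 2 := by
      intro h
      apply h2
      have := ringChar.Nat.cast_ringChar (R := F)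
      rw [h] at this
      exact_mod_cast this
    have hodd := FiniteField.odd_card_of_char_ne_two hchar
    have hsq : IsSquare ((5 : ℕ) : F) := by
      rw [FiniteField.isSquare_odd_prime_iff hchar (by norm_num)]
      rw [hF] at hodd ⊢
      have h4 : q % 4 = 1 ∨ q % 4 = 3 := by omega
      have h5' := mod_five_of_dvd h5
      have hq5 : ((q : ℕ) : ZMod 5) = ((q % 5 : ℕ) : ZMod 5) := (ZMod.natCast_mod q 5).symm
      have hq5' : ((q : ℕ) : ZMod 5) = 0 ∨ ((q : ℕ) : ZMod 5) = 1 ∨ ((q : ℕ) : ZMod 5) = 4 := by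
        rw [hq5]
        rcases h5' with h | h | h <;> rw [h]
        · left; rfl
        · right; left; rfl
        · right; right; rfl
      rcases h4 with h4 | h4
      · rw [ZMod.χ₄_nat_one_mod_four h4]
        exact (qc_five _ hq5').1
      · rw [ZMod.χ₄_nat_three_mod_four h4]
        exact (qc_five _ hq5').2
    obtain ⟨s, hs⟩ := hsq
    have hs' : s * s = 5 := by rw [← hs]; norm_num
    obtain ⟨x, z, hxz⟩ := exists_conic_odd hodd ((s - 1) / 2)
    refine ⟨(s - 1) / 2, x, z, ?_, hxz⟩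
    field_simp
    linear_combination hs'

/-- `PSL₂(q)` has a subgroup isomorphic to `A₅` iff `5 ∣ q (q² - 1)` -/
theorem s0804 {q : ℕ} (hF : Fintype.card F = q) :
    (∃ H : Subgroup (Matrix.ProjectiveSpecialLinearGroup (Fin 2) F),
      Nonempty (H ≃* alternatingGroup (Fin 5))) ↔ 5 ∣ q * (q ^ 2 - 1) := by
  constructor
  · rintro ⟨H, ⟨e⟩⟩
    have hc : Nat.card H = 60 := by
      rw [Nat.card_congr e.toEquiv, nat_card_alternatingGroup, Nat.card_fin]
      decide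
    have hdvd : 60 ∣ Nat.card (Matrix.ProjectiveSpecialLinearGroup (Fin 2) F) := by
      rw [← hc]; exact Subgroup.card_subgroup_dvd_card H
    rw [← card_mul hF]
    exact Dvd.dvd.mul_left (Dvd.dvd.trans (by norm_num) hdvd) _
  · intro h5
    obtain ⟨τ, x, z, hτ, hxz⟩ := exists_tau hF h5
    exact exists_A5_of_conic τ hτ x z hxz

end Cfsg.Agent.Lead.PSL2Sub
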