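import Mathlib
import Cfsg.Agent.Lead.PSL2SubC

set_option autoImplicit false

/-! `A₄` inside `PSL₂(q)`: nonexistence for `q = 2^n`, `n` odd, and the final statement. -/

namespace Cfsg.Agent.Lead.PSL2Sub

open Matrix Cfsg.Agent.Lead.DicksonA Cfsg.Agent.Lead.DicksonB Cfsg.Agent.Helper8.SL2C
open scoped MatrixGroups

variable {F : Type*} [Field F]

theorem neg_one_eq_one (h2 : (2 : F) = 0) : (-1 : SL(2, F)) = 1 := by
  have h : (-1 : F) = 1 := by linear_combination -h2
  apply ext4 <;> simp [h]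

theorem pmk_eq_one_iff_char_two (h2 : (2 : F) = 0) {g : SL(2, F)} : pmk g = 1 ↔ g = 1 := by
  rw [pmk_eq_one_iff, neg_one_eq_one h2, or_self]

theorem pmk_injective_char_two (h2 : (2 : F) = 0) : Function.Injective (pmk (F := F)) := by
  intro g h hgh
  have : pmk (g * h⁻¹) = 1 := by
    rw [← pmk_mul, ← pmk_inv, hgh, mul_inv_cancel]
  rw [pmk_eq_one_iff_char_two h2] at this
  exact mul_inv_eq_one.mp this

/-- a non-central element with `tr² = 4` and a fixed point has exactly one fixed point -/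
theorem fix_unip' (g : SL(2, F)) (hg1 : g ≠ 1) (hg2 : g ≠ -1) (htr : DicksonA.tr g ^ 2 = 4)
    (x₀ : PL F) (hx₀ : g • x₀ = x₀) : ∀ y, g • y = y ↔ y = x₀ := by
  obtain ⟨h, rfl⟩ := exists_smul_inf_eq x₀
  have hfix : (h⁻¹ * g * h) • (inf : PL F) = inf := by
    rw [mul_smul, mul_smul, hx₀, inv_smul_smul]
  have hc := (smul_inf_eq_inf_iff _).1 hfix
  have hdiag := (borel_tr_sq _ hc).1 (by rw [tr_conj']; exact htr)
  have hb := ne_one_of_borel _ hc hdiag (conj_ne_one h g hg1) (conj_ne_neg_one h g hg2)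
  intro y
  rw [conj_smul_eq_iff h g y, borel_fix_unip _ hc hdiag hb]
  constructor
  · intro hy; rw [← hy, smul_inv_smul]
  · intro hy; rw [hy, inv_smul_smul]

theorem diag_eq_of_sq (A : SL(2, F)) (hA : A ^ 2 = 1) : A.1 1 1 = A.1 0 0 := by
  have h : A⁻¹ = A := by
    rw [inv_eq_iff_mul_eq_one, ← pow_two]; exact hA
  have := inv_00 A
  rw [h] at this
  exact this.symm

/-- an involution in characteristic two has a fixed point on the projective line -/
theorem invol_fixed (h2 : (2 : F) = 0) (A : SL(2, F)) (hA : A ^ 2 = 1) :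
    ∃ x₀ : PL F, A • x₀ = x₀ := by
  have hd := diag_eq_of_sq A hA
  have hdet := det_eq A
  rw [hd] at hdet
  by_cases hc : A.1 1 0 = 0
  · exact ⟨inf, (smul_inf_eq_inf_iff A).2 hc⟩
  · refine ⟨pt ((1 + A.1 0 0) / A.1 1 0), ?_⟩
    rw [smul_pt_eq_pt_iff, hd]
    field_simp
    linear_combination (-1 : F) * hdet + (-(1 + A.1 0 0)) * h2


theorem not_three_dvd_of_odd {n : ℕ} (hn : Odd n) : ¬ 3 ∣ 2 ^ n - 1 := by
  obtain ⟨m, rfl⟩ := hn
  have e : 2 ^ (2 * m + 1) = 2 * 4 ^ m := by rw [pow_succ, pow_mul]; norm_num; ring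
  rw [e]
  have h1 : 4 ^ m % 3 = 1 := by
    rw [Nat.pow_mod]; norm_num
  have hpos : 0 < 4 ^ m := by positivity
  omega

theorem a0_sq : A4Pres.a0 ^ 2 = 1 := by decide
theorem a0_ne : A4Pres.a0 ≠ 1 := by decide
theorem b0_cube : A4Pres.b0 ^ 3 = 1 := by decide
theorem b0_ne : A4Pres.b0 ≠ 1 := by decide
theorem a0_comm : A4Pres.a0 * (A4Pres.b0 * A4Pres.a0 * A4Pres.b0⁻¹) =
    A4Pres.b0 * A4Pres.a0 * A4Pres.b0⁻¹ * A4Pres.a0 := by decide

/-- in characteristic two, with `q = 2^n`, `n` odd, `PSL₂(q)` has no subgroup `A₄` -/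
theorem no_A4_char_two [Fintype F] (h2 : (2 : F) = 0) (n : ℕ) (hn : Odd n)
    (hF : Fintype.card F = 2 ^ n)
    (H : Subgroup (Matrix.ProjectiveSpecialLinearGroup (Fin 2) F))
    (e : H ≃* alternatingGroup (Fin 4)) : False := by
  classical
  obtain ⟨a, ha⟩ : ∃ a : H, a = e.symm A4Pres.a0 := ⟨_, rfl⟩
  obtain ⟨b, hb⟩ : ∃ b : H, b = e.symm A4Pres.b0 := ⟨_, rfl⟩
  have ha2 : a ^ 2 = 1 := by
    rw [ha, ← map_pow, a0_sq, map_one]
  have ha1 : a ≠ 1 := by
    rw [ha]
    intro h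
    exact a0_ne (e.symm.injective (h.trans (map_one e.symm).symm))
  have hb3 : b ^ 3 = 1 := by
    rw [hb, ← map_pow, b0_cube, map_one]
  have hb1 : b ≠ 1 := by
    rw [hb]
    intro h
    exact b0_ne (e.symm.injective (h.trans (map_one e.symm).symm))
  have hcomm : a * (b * a * b⁻¹) = (b * a * b⁻¹) * a := by
    have := congrArg e.symm a0_comm
    rw [ha, hb]
    simpa only [map_mul, map_inv] using this
  obtain ⟨A, hA⟩ := pmk_surjective (a : Matrix.ProjectiveSpecialLinearGroup (Fin 2) F)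
  obtain ⟨B, hB⟩ := pmk_surjective (b : Matrix.ProjectiveSpecialLinearGroup (Fin 2) F)
  have hA2 : A ^ 2 = 1 := by
    rw [← pmk_eq_one_iff_char_two h2, ← pmk_pow, hA, ← Subgroup.coe_pow, ha2, Subgroup.coe_one]
  have hA1 : A ≠ 1 := by
    rintro rfl
    apply ha1
    apply Subtype.ext
    rw [← hA, Subgroup.coe_one]; rfl
  have hB3 : B ^ 3 = 1 := by
    rw [← pmk_eq_one_iff_char_two h2, ← pmk_pow, hB, ← Subgroup.coe_pow, hb3, Subgroup.coe_one]
  have hB1 : B ≠ 1 := by
    rintro rfl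
    apply hb1
    apply Subtype.ext
    rw [← hB, Subgroup.coe_one]; rfl
  have hcommAB : A * (B * A * B⁻¹) = (B * A * B⁻¹) * A := by
    apply pmk_injective_char_two h2
    simp only [← pmk_mul, ← pmk_inv, hA, hB]
    have := congrArg (fun x : H => (x : Matrix.ProjectiveSpecialLinearGroup (Fin 2) F)) hcomm
    simpa using this
  obtain ⟨x₀, hx₀⟩ := invol_fixed h2 A hA2
  have htrA : DicksonA.tr A ^ 2 = 4 := by
    unfold DicksonA.tr
    rw [diag_eq_of_sq A hA2]
    linear_combination (2 * (A.1 0 0) ^ 2 - 2) * h2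
  have hAneg : A ≠ -1 := by rw [neg_one_eq_one h2]; exact hA1
  have huniq := fix_unip' A hA1 hAneg htrA x₀ hx₀
  have hBx : B • x₀ = x₀ := by
    have h1 : A • ((B * A * B⁻¹) • x₀) = (B * A * B⁻¹) • x₀ := by
      rw [← mul_smul, hcommAB, mul_smul, hx₀]
    have h2' := (huniq _).1 h1
    have h3 : A • (B⁻¹ • x₀) = B⁻¹ • x₀ := by
      have := congrArg (fun y => B⁻¹ • y) h2'
      simp only [mul_smul, inv_smul_smul] at this
      exact this
    have h4 := (huniq _).1 h3
    calc B • x₀ = B • (B⁻¹ • x₀) := by rw [h4]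
      _ = x₀ := smul_inv_smul _ _
  obtain ⟨h, rfl⟩ := exists_smul_inf_eq x₀
  obtain ⟨B₁, hB₁⟩ : ∃ B₁ : SL(2, F), B₁ = h⁻¹ * B * h := ⟨_, rfl⟩
  have hB₁fix : B₁ • (inf : PL F) = inf := by
    rw [hB₁, mul_smul, mul_smul, hBx, inv_smul_smul]
  have hc := (smul_inf_eq_inf_iff _).1 hB₁fix
  have hB₁3 : B₁ ^ 3 = 1 := by
    have : B₁ ^ 3 = h⁻¹ * B ^ 3 * h := by
      rw [hB₁]
      simp only [pow_succ, pow_zero, one_mul, mul_assoc, mul_inv_cancel_left]
    rw [this, hB3]
    simp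
  have hB₁1 : B₁ ≠ 1 := by rw [hB₁]; exact conj_ne_one h B hB1
  have hl3 : (B₁.1 0 0) ^ 3 = 1 := by
    have := (borel_pow B₁ hc 3).2
    rw [hB₁3] at this
    simpa using this.symm
  have hl1 : B₁.1 0 0 ≠ 1 := by
    intro hl
    have h11 : B₁.1 1 1 = 1 := by
      have := borel_mul_11 B₁ hc
      rw [hl, one_mul] at this
      exact this
    have hu : B₁ = uu (B₁.1 0 1) := by
      apply ext4 <;> simp [hl, h11, hc]
    have h3 := hB₁3
    rw [hu, uu_pow, ← uu_zero] at h3
    have h4 := uu_injective h3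
    have h5 : B₁.1 0 1 = 0 := by
      push_cast at h4
      linear_combination h4 - B₁.1 0 1 * h2
    apply hB₁1
    rw [hu, h5, uu_zero]
  have hl0 : B₁.1 0 0 ≠ 0 := by
    intro h0
    rw [h0] at hl3
    norm_num at hl3
  have hord : orderOf (Units.mk0 (B₁.1 0 0) hl0) = 3 := by
    apply orderOf_eq_prime
    · apply Units.ext
      simpa using hl3
    · intro h1
      apply hl1
      have := congrArg (fun u : Fˣ => (u : F)) h1
      simpa using this
  have hdvd : 3 ∣ Fintype.card Fˣ := by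
    rw [← hord]; exact orderOf_dvd_card
  rw [Fintype.card_units, hF] at hdvd
  exact not_three_dvd_of_odd hn hdvd

/-- `PSL₂(p^n)` has a subgroup isomorphic to `A₄` iff not (`p = 2` and `n` odd) -/
theorem s0802 [Fintype F] (p n : ℕ) [Fact p.Prime] [CharP F p] (hF : Fintype.card F = p ^ n) :
    (∃ H : Subgroup (Matrix.ProjectiveSpecialLinearGroup (Fin 2) F),
      Nonempty (H ≃* alternatingGroup (Fin 4))) ↔ ¬ (p = 2 ∧ Odd n) := by
  constructor
  · rintro ⟨H, ⟨e⟩⟩ ⟨rfl, hn⟩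
    have h2 : (2 : F) = 0 := by
      have := CharP.cast_eq_zero F 2
      exact_mod_cast this
    exact no_A4_char_two h2 n hn hF H e
  · intro hpn
    by_cases hp : p = 2
    · subst hp
      have hn : Even n := by
        rw [← Nat.not_odd_iff_even]
        exact fun h => hpn ⟨rfl, h⟩
      have h2 : (2 : F) = 0 := by
        have := CharP.cast_eq_zero F 2
        exact_mod_cast this
      have h3 : 3 ∣ Fintype.card F - 1 := by
        rw [hF]
        obtain ⟨m, rfl⟩ := hn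
        have e : 2 ^ (m + m) = 4 ^ m := by rw [← two_mul, pow_mul]; norm_num
        rw [e]
        have h1 : 4 ^ m % 3 = 1 := by
          rw [Nat.pow_mod]; norm_num
        have hpos : 0 < 4 ^ m := by positivity
        omega
      obtain ⟨ω, hω⟩ := exists_omega h3
      exact exists_A4_of_conic ω 0 (by linear_combination hω)
    · have hodd : Fintype.card F % 2 = 1 := by
        rw [hF]
        have hp2 : p % 2 = 1 := by
          rcases Nat.Prime.eq_two_or_odd (Fact.out : p.Prime) with h | h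
          · exact absurd h hp
          · exact h
        rw [Nat.pow_mod, hp2]
        simp
      obtain ⟨x, z, hxz⟩ := exists_conic_odd hodd (-1 : F)
      exact exists_A4_of_conic x z hxz

end Cfsg.Agent.Lead.PSL2Sub
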