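import Mathlib
import Cfsg.Agent.Lead.PSL2SubD
import Cfsg.Agent.Helper3.S4Pres

set_option autoImplicit false

/-! `S₄` inside `PSL₂(q)`. -/

namespace Cfsg.Agent.Lead.PSL2Sub

open Matrix Cfsg.Agent.Lead.DicksonA Cfsg.Agent.Lead.DicksonB Cfsg.Agent.Helper8.SL2C
open scoped MatrixGroups

variable {F : Type*} [Field F]

theorem s_ne_zero (s : F) (hs : s ^ 2 = 2) (h2 : (2 : F) ≠ 0) : s ≠ 0 := by
  rintro rfl; apply h2; rw [← hs]; ring

/-- Coxeter generator `(i + j)/s` -/
def cA (a b s : F) (hab : a ^ 2 + b ^ 2 = -1) (hs : s ^ 2 = 2) (h2 : (2 : F) ≠ 0) : SL(2, F) :=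
  ⟨!![a / s, (b + 1) / s; (b - 1) / s, -a / s], by
    have hs0 : s ≠ 0 := by rintro rfl; apply h2; rw [← hs]; ring
    rw [Matrix.det_fin_two_of]
    field_simp
    linear_combination (-1 : F) * hab - hs⟩

/-- Coxeter generator `(j + k)/s` -/
def cB (a b s : F) (hab : a ^ 2 + b ^ 2 = -1) (hs : s ^ 2 = 2) (h2 : (2 : F) ≠ 0) : SL(2, F) :=
  ⟨!![-b / s, (1 + a) / s; (a - 1) / s, b / s], by
    have hs0 : s ≠ 0 := by rintro rfl; apply h2; rw [← hs]; ring
    rw [Matrix.det_fin_two_of]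
    field_simp
    linear_combination (-1 : F) * hab - hs⟩

/-- Coxeter generator `(i - j)/s` -/
def cC (a b s : F) (hab : a ^ 2 + b ^ 2 = -1) (hs : s ^ 2 = 2) (h2 : (2 : F) ≠ 0) : SL(2, F) :=
  ⟨!![a / s, (b - 1) / s; (b + 1) / s, -a / s], by
    have hs0 : s ≠ 0 := by rintro rfl; apply h2; rw [← hs]; ring
    rw [Matrix.det_fin_two_of]
    field_simp
    linear_combination (-1 : F) * hab - hs⟩

section
variable (a b s : F) (hab : a ^ 2 + b ^ 2 = -1) (hs : s ^ 2 = 2) (h2 : (2 : F) ≠ 0)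

@[simp] theorem cA_00 : (cA a b s hab hs h2).1 0 0 = a / s := rfl
@[simp] theorem cA_01 : (cA a b s hab hs h2).1 0 1 = (b + 1) / s := rfl
@[simp] theorem cA_10 : (cA a b s hab hs h2).1 1 0 = (b - 1) / s := rfl
@[simp] theorem cA_11 : (cA a b s hab hs h2).1 1 1 = -a / s := rfl
@[simp] theorem cB_00 : (cB a b s hab hs h2).1 0 0 = -b / s := rfl
@[simp] theorem cB_01 : (cB a b s hab hs h2).1 0 1 = (1 + a) / s := rfl
@[simp] theorem cB_10 : (cB a b s hab hs h2).1 1 0 = (a - 1) / s := rfl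
@[simp] theorem cB_11 : (cB a b s hab hs h2).1 1 1 = b / s := rfl
@[simp] theorem cC_00 : (cC a b s hab hs h2).1 0 0 = a / s := rfl
@[simp] theorem cC_01 : (cC a b s hab hs h2).1 0 1 = (b - 1) / s := rfl
@[simp] theorem cC_10 : (cC a b s hab hs h2).1 1 0 = (b + 1) / s := rfl
@[simp] theorem cC_11 : (cC a b s hab hs h2).1 1 1 = -a / s := rfl

theorem tr_cA : DicksonA.tr (cA a b s hab hs h2) = 0 := by
  simp only [DicksonA.tr, cA_00, cA_11]; ring

theorem tr_cB : DicksonA.tr (cB a b s hab hs h2) = 0 := by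
  simp only [DicksonA.tr, cB_00, cB_11]; ring

theorem tr_cC : DicksonA.tr (cC a b s hab hs h2) = 0 := by
  simp only [DicksonA.tr, cC_00, cC_11]; ring

theorem tr_cA_cB : DicksonA.tr (cA a b s hab hs h2 * cB a b s hab hs h2) = -1 := by
  have hs0 := s_ne_zero s hs h2
  simp only [DicksonA.tr, mul_00, mul_11, cA_00, cA_01, cA_10, cA_11, cB_00, cB_01, cB_10, cB_11]
  field_simp
  linear_combination hs

theorem tr_cB_cC : DicksonA.tr (cB a b s hab hs h2 * cC a b s hab hs h2) = 1 := by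
  have hs0 := s_ne_zero s hs h2
  simp only [DicksonA.tr, mul_00, mul_11, cC_00, cC_01, cC_10, cC_11, cB_00, cB_01, cB_10, cB_11]
  field_simp
  linear_combination (-1 : F) * hs

theorem tr_cA_cC : DicksonA.tr (cA a b s hab hs h2 * cC a b s hab hs h2) = 0 := by
  have hs0 := s_ne_zero s hs h2
  simp only [DicksonA.tr, mul_00, mul_11, cA_00, cA_01, cA_10, cA_11, cC_00, cC_01, cC_10, cC_11]
  field_simp
  linear_combination 2 * hab

end

theorem tr_one' : DicksonA.tr (1 : SL(2, F)) = 2 := by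
  simp [DicksonA.tr]; norm_num

theorem tr_neg_one' : DicksonA.tr (-1 : SL(2, F)) = -2 := by
  simp [DicksonA.tr]; norm_num

/-- `S₄` inside `PSL₂(F)` from `a² + b² = -1` and `s² = 2` -/
theorem exists_S4_of (a b s : F) (hab : a ^ 2 + b ^ 2 = -1) (hs : s ^ 2 = 2) (h2 : (2 : F) ≠ 0) :
    ∃ H : Subgroup (Matrix.ProjectiveSpecialLinearGroup (Fin 2) F),
      Nonempty (H ≃* Equiv.Perm (Fin 4)) := by
  obtain ⟨φ, h1, _, h3⟩ := Cfsg.Agent.Helper3.S4Pres.exists_hom
    (pmk (cA a b s hab hs h2)) (pmk (cB a b s hab hs h2)) (pmk (cC a b s hab hs h2))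
    (by rw [pmk_pow, pow_two_of_tr _ (tr_cA a b s hab hs h2), pmk_neg]; rfl)
    (by rw [pmk_pow, pow_two_of_tr _ (tr_cB a b s hab hs h2), pmk_neg]; rfl)
    (by rw [pmk_pow, pow_two_of_tr _ (tr_cC a b s hab hs h2), pmk_neg]; rfl)
    (by rw [pmk_mul, pmk_pow, pow_three_of_tr _ (tr_cA_cB a b s hab hs h2)]; rfl)
    (by rw [pmk_mul, pmk_pow, pow_three_of_tr' _ (tr_cB_cC a b s hab hs h2), pmk_neg]; rfl)
    (by rw [pmk_mul, pmk_pow, pow_two_of_tr _ (tr_cA_cC a b s hab hs h2), pmk_neg]; rfl)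
  have hinj : Function.Injective φ := by
    apply Cfsg.Agent.Helper3.S4Pres.injective_of_ne_one
    rw [map_mul, h1, h3, pmk_mul]
    intro h
    rw [pmk_eq_one_iff] at h
    have ht := tr_cA_cC a b s hab hs h2
    rcases h with h | h
    · rw [h, tr_one'] at ht; exact h2 ht
    · rw [h, tr_neg_one'] at ht
      apply h2
      linear_combination -ht
  exact ⟨φ.range, ⟨(MonoidHom.ofInjective hinj).symm⟩⟩


/-- in characteristic two, `SL₂` has no elements of order four -/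
theorem sq_eq_one_of_pow_four (h2 : (2 : F) = 0) (C : SL(2, F)) (hC : C ^ 4 = 1) : C ^ 2 = 1 := by
  have h4 := (pow_coeffs C.1 (DicksonA.tr C) (ch_sl C)).2.2.1
  have hM4 : C.1 ^ 4 = 1 := by
    rw [← Matrix.SpecialLinearGroup.coe_pow, hC]; rfl
  rw [hM4] at h4
  have e00 := congrFun (congrFun h4 0) 0
  have e11 := congrFun (congrFun h4 1) 1
  simp only [Matrix.sub_apply, Matrix.smul_apply, Matrix.one_apply_eq, smul_eq_mul, mul_one]
    at e00 e11
  have ht : DicksonA.tr C ^ 4 = 0 := by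
    have hdef : DicksonA.tr C = C.1 0 0 + C.1 1 1 := rfl
    linear_combination (-1 : F) * e00 - e11 + (DicksonA.tr C ^ 3 - 2 * DicksonA.tr C) * hdef +
      (2 * DicksonA.tr C ^ 2) * h2
  have ht0 : DicksonA.tr C = 0 := pow_eq_zero_iff (by norm_num) |>.1 ht
  rw [pow_two_of_tr C ht0, neg_one_eq_one h2]

theorem c0_pow : (Equiv.swap (0 : Fin 4) 1 * Equiv.swap 1 2 * Equiv.swap 2 3) ^ 4 = 1 := by decide
theorem c0_sq : (Equiv.swap (0 : Fin 4) 1 * Equiv.swap 1 2 * Equiv.swap 2 3) ^ 2 ≠ 1 := by decide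

theorem sq_mod_sixteen {q : ℕ} (h : q ^ 2 % 16 = 1) : q % 8 = 1 ∨ q % 8 = 7 := by
  rw [Nat.pow_mod] at h
  have hlt := Nat.mod_lt q (by norm_num : 16 > 0)
  interval_cases h' : q % 16 <;> simp at h <;> omega

theorem sq_mod_sixteen_of_dvd {k N : ℕ} (h24 : 24 ∣ N)
    (hN : 2 * N = (2 * k + 1) * ((2 * k + 1) ^ 2 - 1)) : (2 * k + 1) ^ 2 % 16 = 1 := by
  obtain ⟨m, rfl⟩ := h24
  have e : (2 * k + 1) ^ 2 - 1 = 4 * (k * (k + 1)) := by
    apply Nat.sub_eq_of_eq_add; ring
  rw [e] at hN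
  have h1 : (2 * k + 1) * (k * (k + 1)) = 12 * m := by
    have : 4 * ((2 * k + 1) * (k * (k + 1))) = 4 * (12 * m) := by
      calc 4 * ((2 * k + 1) * (k * (k + 1))) = (2 * k + 1) * (4 * (k * (k + 1))) := by ring
        _ = 2 * (24 * m) := hN.symm
        _ = 4 * (12 * m) := by ring
    exact Nat.eq_of_mul_eq_mul_left (by norm_num) this
  have h2 : 4 ∣ (2 * k + 1) * (k * (k + 1)) := by rw [h1]; exact ⟨3 * m, by ring⟩
  have hcop : Nat.Coprime 4 (2 * k + 1) := by
    have : Nat.Coprime 2 (2 * k + 1) := by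
      rw [Nat.coprime_two_left]; exact ⟨k, rfl⟩
    exact Nat.Coprime.pow_left 2 this
  obtain ⟨j, hj⟩ := hcop.dvd_of_dvd_mul_left h2
  have e2 : (2 * k + 1) ^ 2 = 4 * (k * (k + 1)) + 1 := by ring
  rw [e2, hj]
  omega

/-- `PSL₂(q)` has a subgroup isomorphic to `S₄` iff `q² ≡ 1 (mod 16)` -/
theorem s0803 [Fintype F] {q : ℕ} (hF : Fintype.card F = q) :
    (∃ H : Subgroup (Matrix.ProjectiveSpecialLinearGroup (Fin 2) F),
      Nonempty (H ≃* Equiv.Perm (Fin 4))) ↔ q ^ 2 % 16 = 1 := by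
  constructor
  · rintro ⟨H, ⟨e⟩⟩
    by_cases h2 : (2 : F) = 0
    · exfalso
      obtain ⟨c, hc⟩ : ∃ c : H, c = e.symm (Equiv.swap (0 : Fin 4) 1 * Equiv.swap 1 2 *
        Equiv.swap 2 3) := ⟨_, rfl⟩
      have hc4 : c ^ 4 = 1 := by rw [hc, ← map_pow, c0_pow, map_one]
      have hc2 : c ^ 2 ≠ 1 := by
        rw [hc, ← map_pow]
        intro h
        exact c0_sq (e.symm.injective (h.trans (map_one e.symm).symm))
      obtain ⟨C, hC⟩ := pmk_surjective (c : Matrix.ProjectiveSpecialLinearGroup (Fin 2) F)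
      have hC4 : C ^ 4 = 1 := by
        rw [← pmk_eq_one_iff_char_two h2, ← pmk_pow, hC, ← Subgroup.coe_pow, hc4,
          Subgroup.coe_one]
      have hC2 := sq_eq_one_of_pow_four h2 C hC4
      apply hc2
      apply Subtype.ext
      rw [Subgroup.coe_pow, ← hC, pmk_pow, hC2, Subgroup.coe_one]; rfl
    · have hchar : ringChar F ≠ 2 := by
        intro h
        apply h2
        have := ringChar.Nat.cast_ringChar (R := F)
        rw [h] at this
        exact_mod_cast this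
      have hodd := FiniteField.odd_card_of_char_ne_two hchar
      rw [hF] at hodd
      have hc : Nat.card H = 24 := by
        rw [Nat.card_congr e.toEquiv, Nat.card_eq_fintype_card, Fintype.card_perm,
          Fintype.card_fin]
        rfl
      have hdvd : 24 ∣ Nat.card (Matrix.ProjectiveSpecialLinearGroup (Fin 2) F) := by
        rw [← hc]; exact Subgroup.card_subgroup_dvd_card H
      have hmul := card_mul hF
      obtain ⟨k, rfl⟩ : ∃ k, q = 2 * k + 1 := ⟨q / 2, by omega⟩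
      have hg : Nat.gcd 2 (2 * k + 1 - 1) = 2 := by
        rw [Nat.add_sub_cancel]
        exact Nat.gcd_eq_left ⟨k, rfl⟩
      rw [hg] at hmul
      exact sq_mod_sixteen_of_dvd hdvd hmul
  · intro hq
    have h8 := sq_mod_sixteen hq
    have h2 : (2 : F) ≠ 0 := by
      intro h2
      have : CharP F 2 := (CharP.charP_iff_prime_eq_zero Nat.prime_two).2 (by exact_mod_cast h2)
      have hr : ringChar F = 2 := ringChar.eq F 2
      have := FiniteField.even_card_of_char_two hr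
      rw [hF] at this
      omega
    have hodd : Fintype.card F % 2 = 1 := by rw [hF]; omega
    have hsq : IsSquare (2 : F) := by
      rw [FiniteField.isSquare_two_iff, hF]
      constructor <;> omega
    obtain ⟨s, hs⟩ := hsq
    have hf : (Polynomial.X ^ 2 + 1 : Polynomial F).degree = 2 := by compute_degree!
    have hg : (Polynomial.X ^ 2 : Polynomial F).degree = 2 := by compute_degree!
    obtain ⟨a, b, hab⟩ := FiniteField.exists_root_sum_quadratic hf hg hodd
    simp only [Polynomial.eval_add, Polynomial.eval_pow, Polynomial.eval_X,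
      Polynomial.eval_one] at hab
    exact exists_S4_of a b s (by linear_combination hab) (by rw [hs]; ring) h2

end Cfsg.Agent.Lead.PSL2Sub
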