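import Mathlib
import Cfsg.Agent.Lead.PSL2SubE
import Cfsg.Agent.Helper7.LinearCard

set_option autoImplicit false

/-! Subfield subgroups of `PSL₂(q)`. -/

namespace Cfsg.Agent.Lead.PSL2Sub

open Matrix Cfsg.Agent.Lead.DicksonA Cfsg.Agent.Lead.DicksonB Cfsg.Agent.Helper8.SL2C
open scoped MatrixGroups

/-- a finite field `K` with `|K|^m = |F|` embeds into `F` -/
theorem exists_ringHom {F K : Type*} [Field F] [Fintype F] [Field K] [Fintype K] (m : ℕ)
    (h : Fintype.card K ^ m = Fintype.card F) : Nonempty (K →+* F) := by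
  obtain ⟨p, hpK⟩ := CharP.exists K
  have hp : Fact p.Prime := ⟨CharP.char_is_prime K p⟩
  obtain ⟨a, -, hKa⟩ := FiniteField.card K p
  obtain ⟨p', hpF⟩ := CharP.exists F
  have hp' : Fact p'.Prime := ⟨CharP.char_is_prime F p'⟩
  obtain ⟨b, -, hFb⟩ := FiniteField.card F p'
  have hpp : p' = p := by
    have h1 : p' ∣ p ^ ((a : ℕ) * m) := by
      rw [pow_mul, ← hKa, h, hFb]
      exact dvd_pow_self _ b.ne_zero
    exact (Nat.prime_dvd_prime_iff_eq hp'.out hp.out).1 (hp'.out.dvd_of_dvd_pow h1)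
  subst hpp
  let _ : Algebra (ZMod p') K := ZMod.algebra K p'
  let _ : Algebra (ZMod p') F := ZMod.algebra F p'
  have h1 : Module.finrank (ZMod p') K = a := by
    have := Module.card_eq_pow_finrank (K := ZMod p') (V := K)
    rw [ZMod.card, hKa] at this
    exact (Nat.pow_right_injective hp'.out.two_le this).symm
  have h2 : Module.finrank (ZMod p') F = a * m := by
    have := Module.card_eq_pow_finrank (K := ZMod p') (V := F)
    rw [ZMod.card, ← h, hKa, ← pow_mul] at this
    exact (Nat.pow_right_injective hp'.out.two_le this).symm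
  obtain ⟨φ⟩ := FiniteField.nonempty_algHom_of_finrank_dvd (F := ZMod p') (K := K) (L := F)
    (by rw [h1, h2]; exact Dvd.intro _ rfl)
  exact ⟨φ.toRingHom⟩

variable {F K : Type*} [Field F] [Field K]

theorem map_neg_one (f : K →+* F) :
    Matrix.SpecialLinearGroup.map f (-1 : SL(2, K)) = -1 := by
  apply ext4 <;> simp [Matrix.SpecialLinearGroup.map_apply_coe]

theorem map_eq_one_iff (f : K →+* F) (g : SL(2, K)) :
    Matrix.SpecialLinearGroup.map f g = 1 ↔ g = 1 := by
  constructor
  · intro h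
    have e00 := congrArg (fun x : SL(2, F) => x.1 0 0) h
    have e01 := congrArg (fun x : SL(2, F) => x.1 0 1) h
    have e10 := congrArg (fun x : SL(2, F) => x.1 1 0) h
    have e11 := congrArg (fun x : SL(2, F) => x.1 1 1) h
    simp only [Matrix.SpecialLinearGroup.map_apply_coe, RingHom.mapMatrix_apply,
      Matrix.map_apply, one_00, one_01, one_10, one_11] at e00 e01 e10 e11
    apply ext4
    · rw [one_00]; exact f.injective (by rw [e00, map_one])
    · rw [one_01]; exact f.injective (by rw [e01, map_zero])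
    · rw [one_10]; exact f.injective (by rw [e10, map_zero])
    · rw [one_11]; exact f.injective (by rw [e11, map_one])
  · rintro rfl; exact map_one _

theorem map_eq_neg_one_iff (f : K →+* F) (g : SL(2, K)) :
    Matrix.SpecialLinearGroup.map f g = -1 ↔ g = -1 := by
  constructor
  · intro h
    have : Matrix.SpecialLinearGroup.map f (-g) = 1 := by
      have e : -g = (-1) * g := by simp
      rw [e, map_mul, map_neg_one, h]
      simp
    have := (map_eq_one_iff f (-g)).1 this
    rw [← this]; simp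
  · rintro rfl; exact map_neg_one f

/-- the map `PSL₂(K) → PSL₂(F)` induced by a field homomorphism -/
noncomputable def pslMap (f : K →+* F) :
    Matrix.ProjectiveSpecialLinearGroup (Fin 2) K →* Matrix.ProjectiveSpecialLinearGroup (Fin 2) F :=
  QuotientGroup.map _ _ (Matrix.SpecialLinearGroup.map f) (by
    intro g hg
    rw [mem_center_iff'] at hg
    rw [Subgroup.mem_comap, mem_center_iff']
    rcases hg with rfl | rfl
    · left; exact map_one _
    · right; exact map_neg_one f)

theorem pslMap_pmk (f : K →+* F) (g : SL(2, K)) :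
    pslMap f (pmk g) = pmk (Matrix.SpecialLinearGroup.map f g) := rfl

theorem pslMap_injective (f : K →+* F) : Function.Injective (pslMap f) := by
  rw [injective_iff_map_eq_one]
  intro x hx
  obtain ⟨g, rfl⟩ := pmk_surjective x
  rw [pslMap_pmk, pmk_eq_one_iff] at hx
  rw [pmk_eq_one_iff]
  rcases hx with hx | hx
  · left; exact (map_eq_one_iff f g).1 hx
  · right; exact (map_eq_neg_one_iff f g).1 hx

theorem exists_PSL2_sub (f : K →+* F) :
    ∃ H : Subgroup (Matrix.ProjectiveSpecialLinearGroup (Fin 2) F),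
      Nonempty (H ≃* Matrix.ProjectiveSpecialLinearGroup (Fin 2) K) :=
  ⟨(pslMap f).range, ⟨(MonoidHom.ofInjective (pslMap_injective f)).symm⟩⟩


/-! ### `PGL₂(K)` inside `PSL₂(F)` -/

section PGL

open Matrix.ProjGenLinGroup

/-- the map `PGL₂(K) → PGL₂(F)` induced by a field homomorphism -/
noncomputable def pglMap (f : K →+* F) :
    Matrix.ProjGenLinGroup (Fin 2) K →* Matrix.ProjGenLinGroup (Fin 2) F :=
  QuotientGroup.lift (Subgroup.center (GL (Fin 2) K))
    ((mk : GL (Fin 2) F →* Matrix.ProjGenLinGroup (Fin 2) F).comp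
      (Matrix.GeneralLinearGroup.map f)) (by
    intro g hg
    have := Matrix.GeneralLinearGroup.map_center_le f hg
    rw [Subgroup.mem_comap] at this
    rw [MonoidHom.mem_ker, MonoidHom.comp_apply, mk_eq_one]
    exact this)

theorem pglMap_mk (f : K →+* F) (g : GL (Fin 2) K) :
    pglMap f (mk g) = mk (Matrix.GeneralLinearGroup.map f g) := rfl

theorem pglMap_injective (f : K →+* F) : Function.Injective (pglMap f) := by
  rw [injective_iff_map_eq_one]
  intro x hx
  induction x using Matrix.ProjGenLinGroup.induction_on with | mk g =>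
  rw [pglMap_mk, mk_eq_one, Matrix.GeneralLinearGroup.center_eq_range_scalar] at hx
  obtain ⟨v, hv⟩ := hx
  have e00 := congrArg (fun x : GL (Fin 2) F => x 0 0) hv
  have e01 := congrArg (fun x : GL (Fin 2) F => x 0 1) hv
  have e10 := congrArg (fun x : GL (Fin 2) F => x 1 0) hv
  have e11 := congrArg (fun x : GL (Fin 2) F => x 1 1) hv
  simp only [Matrix.GeneralLinearGroup.map_apply, Matrix.GeneralLinearGroup.coe_scalar,
    Matrix.scalar_apply, Matrix.diagonal_apply_eq, ne_eq, zero_ne_one, one_ne_zero,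
    not_false_eq_true, Matrix.diagonal_apply_ne] at e00 e01 e10 e11
  have g01 : g 0 1 = 0 := f.injective (by rw [← e01, map_zero])
  have g10 : g 1 0 = 0 := f.injective (by rw [← e10, map_zero])
  have g11 : g 1 1 = g 0 0 := f.injective (by rw [← e11, ← e00])
  have g00 : g 0 0 ≠ 0 := by
    intro h
    rw [h, map_zero] at e00
    exact v.ne_zero e00
  rw [mk_eq_one, Matrix.GeneralLinearGroup.center_eq_range_scalar]
  refine ⟨Units.mk0 (g 0 0) g00, ?_⟩
  apply Matrix.GeneralLinearGroup.ext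
  intro i j
  fin_cases i <;> fin_cases j <;>
    simp [Matrix.GeneralLinearGroup.coe_scalar, Matrix.scalar_apply, g01, g10, g11]

/-- when every nonzero element of `K` becomes a square in `F`, the image of `PGL₂(K)` in `PGL₂(F)`
lies in the image of `PSL₂(F)` -/
theorem range_pglMap_le (f : K →+* F) (hsq : ∀ x : K, x ≠ 0 → ∃ c : F, c * c = f x) :
    (pglMap f).range ≤ (Matrix.ProjectiveSpecialLinearGroup.toPGL (n := Fin 2) (R := F)).range := by
  rintro _ ⟨x, rfl⟩
  induction x using Matrix.ProjGenLinGroup.induction_on with | mk g =>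
  rw [pglMap_mk]
  have hdet : (g : Matrix (Fin 2) (Fin 2) K).det ≠ 0 := by
    have := (Matrix.GeneralLinearGroup.det g).ne_zero
    simpa using this
  obtain ⟨c, hc⟩ := hsq _ hdet
  have hc0 : c ≠ 0 := by
    rintro rfl
    rw [mul_zero] at hc
    exact hdet (f.injective (by rw [← hc, map_zero]))
  have hdet2 : f (g 0 0) * f (g 1 1) - f (g 0 1) * f (g 1 0) = c * c := by
    rw [hc, Matrix.det_fin_two]
    simp
  let G : SL(2, F) := ⟨!![c⁻¹ * f (g 0 0), c⁻¹ * f (g 0 1); c⁻¹ * f (g 1 0), c⁻¹ * f (g 1 1)], by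
    rw [Matrix.det_fin_two_of]
    field_simp
    linear_combination hdet2⟩
  refine ⟨(QuotientGroup.mk G : Matrix.ProjectiveSpecialLinearGroup (Fin 2) F), ?_⟩
  rw [Matrix.ProjectiveSpecialLinearGroup.toPGL_mk, mk_eq_mk_iff]
  refine ⟨Units.mk0 c hc0, ?_⟩
  apply Matrix.GeneralLinearGroup.ext
  intro i j
  change (G.1 * Matrix.scalar (Fin 2) c) i j = f (g i j)
  rw [Matrix.mul_apply, Fin.sum_univ_two]
  fin_cases i <;> fin_cases j <;>
    simp [G, Matrix.scalar_apply, Matrix.diagonal_apply] <;> field_simp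

/-- two injective homomorphisms into the same group, with nested ranges -/
theorem exists_subgroup_of_range_le {A B C : Type*} [Group A] [Group B] [Group C]
    (T : A →* C) (Φ : B →* C) (hT : Function.Injective T) (hΦ : Function.Injective Φ)
    (hle : Φ.range ≤ T.range) : ∃ H : Subgroup A, Nonempty (H ≃* B) := by
  let ι : B →* A := (MonoidHom.ofInjective hT).symm.toMonoidHom.comp
    ((Subgroup.inclusion hle).comp Φ.rangeRestrict)
  have hι : Function.Injective ι := by
    refine (MonoidHom.ofInjective hT).symm.injective.comp ?_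
    exact (Subgroup.inclusion_injective hle).comp (MonoidHom.rangeRestrict_injective_iff.2 hΦ)
  exact ⟨ι.range, ⟨(MonoidHom.ofInjective hι).symm⟩⟩

theorem exists_PGL2_sub (f : K →+* F) (hsq : ∀ x : K, x ≠ 0 → ∃ c : F, c * c = f x) :
    ∃ H : Subgroup (Matrix.ProjectiveSpecialLinearGroup (Fin 2) F),
      Nonempty (H ≃* Matrix.ProjGenLinGroup (Fin 2) K) :=
  exists_subgroup_of_range_le _ (pglMap f) Matrix.ProjectiveSpecialLinearGroup.toPGL_injective
    (pglMap_injective f) (range_pglMap_le f hsq)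

end PGL


/-! ### Arithmetic and the final statement -/

section Final

variable [Fintype F] [Fintype K]

theorem card_odd_of_pow {k m q : ℕ} (hm : 1 ≤ m) (h : k ^ m = q) (hodd : Odd q) : Odd k := by
  rw [← h] at hodd
  exact (Nat.odd_pow_iff (by omega)).1 hodd

theorem exists_sqrt_of_even (f : K →+* F) (hodd : Fintype.card F % 2 = 1) (j : ℕ)
    (h : Fintype.card K ^ (2 * j) = Fintype.card F) (x : K) (hx : x ≠ 0) :
    ∃ c : F, c * c = f x := by
  have hchar : ringChar F ≠ 2 := by
    intro hc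
    have := FiniteField.even_card_of_char_two hc
    omega
  have hfx : f x ≠ 0 := fun h0 => hx (f.injective (by rw [h0, map_zero]))
  have hj : j ≠ 0 := by
    rintro rfl
    rw [mul_zero, pow_zero] at h
    have := Fintype.one_lt_card (α := F)
    omega
  obtain ⟨k, hk⟩ : ∃ k, k = Fintype.card K := ⟨_, rfl⟩
  rw [← hk] at h
  have hkodd : Odd k :=
    card_odd_of_pow (m := 2 * j) (by omega) h (Nat.odd_iff.2 hodd)
  have hk2 : 2 ≤ k := by rw [hk]; exact Fintype.one_lt_card
  have hdvd : k - 1 ∣ Fintype.card F / 2 := by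
    obtain ⟨t, ht⟩ : k ^ 2 - 1 ∣ (k ^ 2) ^ j - 1 := by
      simpa only [one_pow] using Nat.sub_dvd_pow_sub_pow (k ^ 2) 1 j
    obtain ⟨e, he⟩ := hkodd
    have e1 : k ^ 2 - 1 = (k - 1) * (2 * (e + 1)) := by
      apply Nat.sub_eq_of_eq_add
      have : k - 1 = 2 * e := by omega
      rw [this, he]; ring
    rw [← pow_mul, h, e1] at ht
    refine ⟨(e + 1) * t, ?_⟩
    have : Fintype.card F - 1 = 2 * ((k - 1) * ((e + 1) * t)) := by rw [ht]; ring
    omega
  have hsq : IsSquare (f x) := by
    rw [FiniteField.isSquare_iff hchar hfx, ← map_pow]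
    obtain ⟨t, ht⟩ := hdvd
    rw [ht, pow_mul, hk, FiniteField.pow_card_sub_one_eq_one x hx, one_pow, map_one]
  obtain ⟨c, hc⟩ := hsq
  exact ⟨c, hc.symm⟩

theorem card_PGL2 : Nat.card (Matrix.ProjGenLinGroup (Fin 2) K) =
    Fintype.card K * (Fintype.card K ^ 2 - 1) := by
  have h1 := Cfsg.Agent.Helper7.card_units_mul_card_PGL (n := Fin 2) (F := K)
  rw [Matrix.card_GL_field, Fin.prod_univ_two] at h1
  simp only [Fin.val_zero, pow_zero, Fin.val_one, pow_one] at h1
  obtain ⟨k, hk⟩ : ∃ k, k = Fintype.card K := ⟨_, rfl⟩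
  rw [← hk] at h1 ⊢
  have hk2 : 2 ≤ k := by rw [hk]; exact Fintype.one_lt_card
  have e2 : k ^ 2 - k = k * (k - 1) := by
    apply Nat.sub_eq_of_eq_add
    obtain ⟨l, rfl⟩ : ∃ l, k = l + 1 := ⟨k - 1, by omega⟩
    rw [Nat.add_sub_cancel]; ring
  rw [e2] at h1
  have hpos : 0 < k - 1 := by omega
  apply Nat.eq_of_mul_eq_mul_left hpos
  rw [h1]; ring

/-- geometric sum, with the parity of the cofactor -/
theorem geom_parity (x : ℕ) (hx : Odd x) (m : ℕ) :
    ∃ S : ℕ, x ^ m = (x - 1) * S + 1 ∧ S % 2 = m % 2 := by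
  induction m with
  | zero => exact ⟨0, by simp, rfl⟩
  | succ m ih =>
    obtain ⟨S, hS, hpar⟩ := ih
    obtain ⟨e, rfl⟩ := hx
    refine ⟨(2 * e + 1) * S + 1, ?_, ?_⟩
    · rw [pow_succ, hS, Nat.add_sub_cancel]; ring
    · have : (2 * e + 1) * S + 1 = 2 * (e * S) + (S + 1) := by ring
      rw [this]
      omega

theorem s0805 {q : ℕ} (hF : Fintype.card F = q) (hodd : Odd q) (m : ℕ) (hm : 1 ≤ m)
    (hK : Fintype.card K ^ m = q) :
    (∃ H : Subgroup (Matrix.ProjectiveSpecialLinearGroup (Fin 2) F),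
      Nonempty (H ≃* Matrix.ProjectiveSpecialLinearGroup (Fin 2) K)) ∧
    ((∃ H : Subgroup (Matrix.ProjectiveSpecialLinearGroup (Fin 2) F),
      Nonempty (H ≃* Matrix.ProjGenLinGroup (Fin 2) K)) ↔ Even m) := by
  obtain ⟨f⟩ := exists_ringHom (F := F) (K := K) m (by rw [hK, hF])
  refine ⟨exists_PSL2_sub f, ?_⟩
  constructor
  · rintro ⟨H, ⟨e⟩⟩
    by_contra hmodd
    rw [Nat.not_even_iff_odd] at hmodd
    obtain ⟨k, hk⟩ : ∃ k, k = Fintype.card K := ⟨_, rfl⟩
    have hc : Nat.card H = k * (k ^ 2 - 1) := by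
      rw [Nat.card_congr e.toEquiv, card_PGL2, hk]
    have hdvd : k * (k ^ 2 - 1) ∣ Nat.card (Matrix.ProjectiveSpecialLinearGroup (Fin 2) F) := by
      rw [← hc]; exact Subgroup.card_subgroup_dvd_card H
    have hmul := card_mul hF
    have hg : Nat.gcd 2 (q - 1) = 2 := by
      obtain ⟨l, rfl⟩ := hodd
      rw [Nat.add_sub_cancel]
      exact Nat.gcd_eq_left ⟨l, rfl⟩
    rw [hg] at hmul
    obtain ⟨j, hj⟩ := hdvd
    rw [hj] at hmul
    rw [← hk] at hK
    have hkodd : Odd k := card_odd_of_pow hm hK hodd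
    have hk2 : 2 ≤ k := by rw [hk]; exact Fintype.one_lt_card
    obtain ⟨S, hS, hpar⟩ := geom_parity (k ^ 2) (Odd.pow hkodd) m
    have e1 : q ^ 2 - 1 = (k ^ 2 - 1) * S := by
      apply Nat.sub_eq_of_eq_add
      rw [← hK, ← hS]; ring
    rw [e1] at hmul
    have hpos : 0 < k ^ 2 - 1 := by
      have : 4 ≤ k ^ 2 := by nlinarith
      omega
    have h2 : 2 * (k * j) = q * S := by
      apply Nat.eq_of_mul_eq_mul_left hpos
      calc (k ^ 2 - 1) * (2 * (k * j)) = 2 * (k * (k ^ 2 - 1) * j) := by ring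
        _ = q * ((k ^ 2 - 1) * S) := hmul
        _ = (k ^ 2 - 1) * (q * S) := by ring
    have hSodd : S % 2 = 1 := by
      rw [hpar]; exact Nat.odd_iff.1 hmodd
    have hqS : Odd (q * S) := Odd.mul hodd (Nat.odd_iff.2 hSodd)
    rw [← h2] at hqS
    exact (Nat.not_odd_iff_even.2 ⟨k * j, by ring⟩) hqS
  · rintro ⟨j, rfl⟩
    have hoddF : Fintype.card F % 2 = 1 := by rw [hF]; exact Nat.odd_iff.1 hodd
    apply exists_PGL2_sub f
    intro x hx
    exact exists_sqrt_of_even f hoddF j (by rw [hF, ← hK]; congr 1; ring) x hx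

end Final

end Cfsg.Agent.Lead.PSL2Sub
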