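import Mathlib
import Cfsg.Agent.Helper6.KuDefs
import Cfsg.Agent.Helper6.CovLoc
import Cfsg.Agent.Helper6.Osima1

set_option autoImplicit false

/-!
# S4607, piece G5: the residue field of the local ring at `M` is algebraically closed, of
characteristic `p`
-/

namespace Cfsg.Agent.Helper6.Ku

open Cfsg.Agent.Helper6 Cfsg.Agent.Helper6.Cov

variable {M : Ideal Cfsg.AlgInt}

/-- the inclusion of the algebraic integers into the local ring -/
noncomputable def ld_incl (hM : M.IsMaximal) : Cfsg.AlgInt →+* Rloc hM where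
  toFun a := ⟨(a : ℂ), memLocalRing_of_isIntegral hM a.2⟩
  map_one' := rfl
  map_mul' _ _ := rfl
  map_zero' := rfl
  map_add' _ _ := rfl

theorem ld_incl_coe (hM : M.IsMaximal) (a : Cfsg.AlgInt) : ((ld_incl hM a : Rloc hM) : ℂ) = (a : ℂ) :=
  rfl

/-- reduction of algebraic integers into the residue field -/
noncomputable def ld_red (hM : M.IsMaximal) : Cfsg.AlgInt →+* Fres hM :=
  (Ideal.Quotient.mk (Mloc hM)).comp (ld_incl hM)

theorem ld_red_surjective (hM : M.IsMaximal) : Function.Surjective (ld_red hM) := by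
  intro y
  obtain ⟨r, rfl⟩ := Ideal.Quotient.mk_surjective y
  obtain ⟨a, b, hb, hab⟩ := (mem_Rloc hM (r : ℂ)).1 r.2
  obtain ⟨c, i, hi, hci⟩ := hM.exists_inv hb
  refine ⟨a * c, ?_⟩
  unfold ld_red
  rw [RingHom.comp_apply]
  rw [Ideal.Quotient.eq, mem_Mloc]
  have hb0 : (b : ℂ) ≠ 0 := by
    intro h0
    apply hb
    have : b = 0 := by
      apply Subtype.ext
      exact h0
    rw [this]
    exact M.zero_mem
  refine ⟨-(a * i), b, ?_, hb, ?_⟩
  · exact M.neg_mem (M.mul_mem_left a hi)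
  · have h1 : ((c : ℂ) * (b : ℂ) + (i : ℂ)) = 1 := by
      have := congrArg (fun x : Cfsg.AlgInt => (x : ℂ)) hci
      simpa using this
    have hi' : (i : ℂ) = 1 - (c : ℂ) * (b : ℂ) := by rw [← h1]; ring
    have h2 : (((ld_incl hM (a * c) - r : Rloc hM)) : ℂ) = (a : ℂ) * (c : ℂ) - (r : ℂ) := by
      simp [ld_incl_coe]
    rw [h2, ← hab]
    simp only [Subalgebra.coe_neg, Subalgebra.coe_mul]
    rw [hi']
    field_simp
    ring

theorem isAlgClosed_Fres (hM : M.IsMaximal) : IsAlgClosed (Fres hM) := by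
  apply IsAlgClosed.of_exists_root
  intro p hpm hpirr
  have hmem : p ∈ Polynomial.lifts (ld_red hM) := by
    rw [Polynomial.mem_lifts]
    exact Polynomial.map_surjective (ld_red hM) (ld_red_surjective hM) p
  obtain ⟨q, hq, hdeg, hqm⟩ := Polynomial.lifts_and_natDegree_eq_and_monic hmem hpm
  have hdeg' : (q.map (algebraMap Cfsg.AlgInt ℂ)).degree ≠ 0 := by
    rw [Polynomial.degree_map_eq_of_injective (FaithfulSMul.algebraMap_injective Cfsg.AlgInt ℂ)]
    intro h0
    have h1 : q.natDegree = 0 := Polynomial.natDegree_eq_of_degree_eq_some h0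
    rw [hdeg] at h1
    have h2 : p.degree ≠ 0 := Polynomial.degree_pos_of_irreducible hpirr |>.ne'
    apply h2
    rw [Polynomial.degree_eq_natDegree hpm.ne_zero, h1]
    rfl
  obtain ⟨z, hz⟩ := IsAlgClosed.exists_root (q.map (algebraMap Cfsg.AlgInt ℂ)) hdeg'
  have hzint : IsIntegral Cfsg.AlgInt z := by
    refine ⟨q, hqm, ?_⟩
    rw [← Polynomial.eval_map]
    exact hz
  have hzZ : IsIntegral ℤ z := isIntegral_trans z hzint
  let z' : Cfsg.AlgInt := ⟨z, hzZ⟩
  have hq0 : q.eval z' = 0 := by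
    have hinj : Function.Injective (algebraMap Cfsg.AlgInt ℂ) :=
      FaithfulSMul.algebraMap_injective Cfsg.AlgInt ℂ
    apply hinj
    rw [map_zero, ← Polynomial.eval₂_at_apply, Polynomial.eval₂_eq_eval_map]
    exact hz
  refine ⟨ld_red hM z', ?_⟩
  rw [← hq, Polynomial.eval_map, Polynomial.eval₂_at_apply, hq0, map_zero]

theorem charP_Fres {p : ℕ} (hM : Cfsg.IsPModular p M) : CharP (Fres hM.2.1) p := by
  rw [CharP.charP_iff_prime_eq_zero hM.1]
  have h1 : ((p : ℕ) : Fres hM.2.1) = Ideal.Quotient.mk (Mloc hM.2.1) ((p : ℕ) : Rloc hM.2.1) := by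
    simp
  rw [h1, Ideal.Quotient.eq_zero_iff_mem, mem_Mloc]
  refine ⟨(p : Cfsg.AlgInt), 1, hM.2.2, ?_, ?_⟩
  · intro h
    exact hM.2.1.ne_top ((Ideal.eq_top_iff_one M).mpr h)
  · simp

end Cfsg.Agent.Helper6.Ku
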