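import Mathlib
import Cfsg.Prelude.Def_Solvable
import Cfsg.Prelude.Def_Amalgam
import Cfsg.Prelude.Def_LocalStructure
import Cfsg.Agent.Helper5.Cores
import Cfsg.Agent.Helper5.SylowSub

/-!
Lead: generic lemmas for the L-Lemma (S2834): conjugate subgroups, invariance of `pCoreOf` under
injective homomorphisms, the conclusion predicate `Concl` and its transport along injective homomorphisms.
-/

set_option autoImplicit false

namespace Cfsg.Agent.Lead.LLem

open Cfsg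

section cj

variable {G : Type*} [Group G]

/-- the conjugate `g A g⁻¹` -/
abbrev cj (g : G) (A : Subgroup G) : Subgroup G := A.map (MulAut.conj g).toMonoidHom

theorem mem_cj {g x : G} {A : Subgroup G} : x ∈ cj g A ↔ g⁻¹ * x * g ∈ A := by
  rw [cj, Subgroup.mem_map_equiv]
  simp [MulAut.conj_symm_apply]

theorem cj_one (A : Subgroup G) : cj 1 A = A := by
  ext x; rw [mem_cj]; simp

theorem cj_cj (g h : G) (A : Subgroup G) : cj g (cj h A) = cj (g * h) A := by
  ext x; rw [mem_cj, mem_cj, mem_cj]; simp [mul_assoc]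

theorem cj_mono {g : G} {A B : Subgroup G} (h : A ≤ B) : cj g A ≤ cj g B :=
  Subgroup.map_mono h

theorem cj_le_iff {g : G} {A B : Subgroup G} : cj g A ≤ B ↔ A ≤ cj g⁻¹ B := by
  constructor
  · intro h
    have := cj_mono (g := g⁻¹) h
    rwa [cj_cj, inv_mul_cancel, cj_one] at this
  · intro h
    have := cj_mono (g := g) h
    rwa [cj_cj, mul_inv_cancel, cj_one] at this

theorem cj_top (g : G) : cj g (⊤ : Subgroup G) = ⊤ := by
  ext x; rw [mem_cj]; simp

theorem cj_eq_top_iff {g : G} {A : Subgroup G} : cj g A = ⊤ ↔ A = ⊤ := by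
  constructor
  · intro h
    have : cj g⁻¹ (cj g A) = cj g⁻¹ ⊤ := by rw [h]
    rwa [cj_cj, inv_mul_cancel, cj_one, cj_top] at this
  · intro h; rw [h, cj_top]

theorem cj_of_mem {g : G} {A : Subgroup G} (hg : g ∈ A) : cj g A = A := by
  ext x; rw [mem_cj]
  constructor
  · intro h
    have := A.mul_mem (A.mul_mem hg h) (A.inv_mem hg)
    simpa [mul_assoc] using this
  · intro h
    exact A.mul_mem (A.mul_mem (A.inv_mem hg) h) hg

theorem cj_le_of_mem {g : G} {A B : Subgroup G} (hg : g ∈ B) (h : A ≤ B) : cj g A ≤ B := by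
  have := cj_mono (g := g) h
  rwa [cj_of_mem hg] at this

theorem cj_normal (g : G) (N : Subgroup G) [hN : N.Normal] : cj g N = N := by
  ext x; rw [mem_cj]
  constructor
  · intro h
    have := hN.conj_mem _ h g
    simpa [mul_assoc] using this
  · intro h
    have := hN.conj_mem _ h g⁻¹
    simpa [mul_assoc] using this

theorem isPGroup_cj {p : ℕ} {g : G} {A : Subgroup G} (h : IsPGroup p A) : IsPGroup p (cj g A) :=
  h.map _

theorem card_cj [Finite G] (g : G) (A : Subgroup G) : Nat.card (cj g A) = Nat.card A := by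
  have e : A ≃* cj g A := A.equivMapOfInjective _ (MulAut.conj g).injective
  exact (Nat.card_congr e.toEquiv).symm

theorem isCoatom_cj {g : G} {M : Subgroup G} (h : IsCoatom M) : IsCoatom (cj g M) := by
  have := (MulEquiv.mapSubgroup (MulAut.conj g)).isCoatom_iff (a := M)
  exact this.mpr h

theorem map_cj {H : Type*} [Group H] (φ : G →* H) (g : G) (A : Subgroup G) :
    (cj g A).map φ = cj (φ g) (A.map φ) := by
  rw [cj, cj, Subgroup.map_map, Subgroup.map_map]
  congr 1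
  ext x
  simp

theorem mem_normalizer_of_cj_eq {g : G} {A : Subgroup G} (h : cj g A = A) :
    g ∈ Subgroup.normalizer (A : Set G) := by
  rw [Subgroup.mem_normalizer_iff]
  intro x
  constructor
  · intro hx
    have : g * x * g⁻¹ ∈ cj g A := by rw [mem_cj]; simpa [mul_assoc] using hx
    rwa [h] at this
  · intro hx
    rw [← h, mem_cj] at hx
    simpa [mul_assoc] using hx

theorem cj_eq_of_mem_normalizer {g : G} {A : Subgroup G} (h : g ∈ Subgroup.normalizer (A : Set G)) :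
    cj g A = A := by
  rw [Subgroup.mem_normalizer_iff] at h
  ext x
  rw [mem_cj, h (g⁻¹ * x * g)]
  simp [mul_assoc]

theorem le_normalizer_of_cj_le {K W : Subgroup G} (h : ∀ y ∈ K, cj y W ≤ W) :
    K ≤ Subgroup.normalizer (W : Set G) := by
  intro y hy
  apply mem_normalizer_of_cj_eq
  apply le_antisymm (h y hy)
  have := h y⁻¹ (K.inv_mem hy)
  rw [cj_le_iff, inv_inv] at this
  exact this

end cj


section pcore

theorem pCore_map_le' {p : ℕ} {A : Type*} {B : Type*} [Group A] [Group B] (f : A ≃* B) :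
    (Cfsg.pCore p A).map f.toMonoidHom ≤ Cfsg.pCore p B := by
  rw [Subgroup.map_le_iff_le_comap]
  unfold Cfsg.pCore
  apply sSup_le
  rintro N ⟨hNn, hNc⟩
  rw [← Subgroup.map_le_iff_le_comap]
  apply le_sSup
  exact ⟨hNn.map _ f.surjective, hNc.map _⟩

theorem pCore_map_equiv' {p : ℕ} {X : Type*} {Y : Type*} [Group X] [Group Y] (e : X ≃* Y) :
    (Cfsg.pCore p X).map e.toMonoidHom = Cfsg.pCore p Y := by
  apply le_antisymm (pCore_map_le' e)
  intro y hy
  have h1 := pCore_map_le' e.symm (Subgroup.mem_map_of_mem e.symm.toMonoidHom hy)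
  refine ⟨e.symm y, h1, ?_⟩
  exact e.apply_symm_apply y

theorem pCoreOf_map {p : ℕ} {G₁ G₂ : Type*} [Group G₁] [Group G₂] (φ : G₁ →* G₂)
    (hφ : Function.Injective φ) (L : Subgroup G₁) :
    Cfsg.pCoreOf p (L.map φ) = (Cfsg.pCoreOf p L).map φ := by
  unfold Cfsg.pCoreOf
  rw [← pCore_map_equiv' (L.equivMapOfInjective φ hφ), Subgroup.map_map, Subgroup.map_map]
  congr 1

theorem pCoreOf_top {p : ℕ} {G : Type*} [Group G] : Cfsg.pCoreOf p (⊤ : Subgroup G) = Cfsg.pCore p G := by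
  unfold Cfsg.pCoreOf
  rw [← pCore_map_equiv' (Subgroup.topEquiv (G := G))]
  congr 1

theorem pCoreOf_le {p : ℕ} {G : Type*} [Group G] (L : Subgroup G) : Cfsg.pCoreOf p L ≤ L := by
  unfold Cfsg.pCoreOf
  rintro _ ⟨x, -, rfl⟩
  exact x.2

theorem isPGroup_pCoreOf {p : ℕ} {G : Type*} [Group G] (L : Subgroup G) :
    IsPGroup p (Cfsg.pCoreOf p L) :=
  (Cfsg.Agent.Helper5.isPGroup_pCore p).map _

/-- a `p`-subgroup of `L` normalized by `L` lies in `O_p(L)` -/
theorem le_pCoreOf {p : ℕ} {G : Type*} [Group G] {L N : Subgroup G} (hNL : N ≤ L)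
    (hN : IsPGroup p N) (hnorm : L ≤ Subgroup.normalizer (N : Set G)) : N ≤ Cfsg.pCoreOf p L := by
  have hn : (N.subgroupOf L).Normal := by
    constructor
    intro n hn g
    rw [Subgroup.mem_subgroupOf] at hn ⊢
    have := (Subgroup.mem_normalizer_iff.mp (hnorm g.2) n).mp hn
    simpa using this
  have hp : IsPGroup p (N.subgroupOf L) := hN.comap_subtype
  have := Cfsg.Agent.Helper5.le_pCore hn hp
  intro x hx
  exact ⟨⟨x, hNL hx⟩, this (by rw [Subgroup.mem_subgroupOf]; exact hx), rfl⟩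

theorem cj_pCoreOf {p : ℕ} {G : Type*} [Group G] {L : Subgroup G} {y : G} (hy : y ∈ L) :
    cj y (Cfsg.pCoreOf p L) = Cfsg.pCoreOf p L := by
  have hn : (Cfsg.pCore p ↥L).Normal := inferInstance
  ext x
  rw [mem_cj]
  unfold Cfsg.pCoreOf
  constructor
  · rintro ⟨z, hz, hzx⟩
    refine ⟨⟨y, hy⟩ * z * ⟨y, hy⟩⁻¹, hn.conj_mem _ hz _, ?_⟩
    simp only [Subgroup.coe_subtype] at hzx
    simp [hzx, mul_assoc]
  · rintro ⟨z, hz, rfl⟩
    refine ⟨⟨y, hy⟩⁻¹ * z * ⟨y, hy⟩, ?_, by simp⟩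
    have := hn.conj_mem _ hz ⟨y, hy⟩⁻¹
    simpa using this

end pcore

section concl

/-- the conclusion of the L-Lemma -/
def Concl {G : Type*} [Group G] (p : ℕ) (M A : Subgroup G) : Prop :=
  ∃ L : Subgroup G, A ⊔ Cfsg.pCore p G ≤ L ∧ ∃ L₀ : Subgroup G, A ⊔ (Cfsg.pCoreOf p L) ≤ L₀ ∧ L₀ < L ∧
    (∀ X : Subgroup G, A ⊔ (Cfsg.pCoreOf p L) ≤ X → X < L → X ≤ L₀) ∧
    (∃ g : G, L₀ = L ⊓ (M.map (MulAut.conj g).toMonoidHom)) ∧
    ∀ x ∈ L, x ∉ L₀ → (A ⊔ (A.map (MulAut.conj x).toMonoidHom)) ⊔ (Cfsg.pCoreOf p L) = L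

theorem Concl.transport {G₁ G₂ : Type*} [Group G₁] [Group G₂] {p : ℕ} (φ : G₁ →* G₂)
    (hφ : Function.Injective φ) {M₁ A₁ : Subgroup G₁} {M₂ : Subgroup G₂} (h : Concl p M₁ A₁)
    (hM : ∃ h₀ : G₂, M₁ = (cj h₀ M₂).comap φ)
    (hQ : Cfsg.pCore p G₂ ≤ (Cfsg.pCore p G₁).map φ) : Concl p M₂ (A₁.map φ) := by
  obtain ⟨L, hL, L₀, h1, h2, h3, ⟨g, hg⟩, h5⟩ := h
  obtain ⟨h₀, hM⟩ := hM
  refine ⟨L.map φ, ?_, L₀.map φ, ?_, ?_, ?_, ?_, ?_⟩
  · apply sup_le
    · exact Subgroup.map_mono (le_sup_left.trans hL)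
    · exact hQ.trans (Subgroup.map_mono (le_sup_right.trans hL))
  · rw [pCoreOf_map φ hφ, ← Subgroup.map_sup]
    exact Subgroup.map_mono h1
  · exact (Subgroup.map_lt_map_iff_of_injective hφ).mpr h2
  · intro X hX hXL
    rw [pCoreOf_map φ hφ, ← Subgroup.map_sup] at hX
    have hXr : X ≤ φ.range := hXL.le.trans (by rw [MonoidHom.range_eq_map]; exact Subgroup.map_mono le_top)
    have hXe : (X.comap φ).map φ = X := Subgroup.map_comap_eq_self hXr
    rw [← hXe]
    apply Subgroup.map_mono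
    apply h3
    · rw [← Subgroup.map_le_iff_le_comap]; exact hX
    · rw [← hXe] at hXL
      exact (Subgroup.map_lt_map_iff_of_injective hφ).mp hXL
  · refine ⟨φ g * h₀, ?_⟩
    rw [hg, hM]
    ext y
    constructor
    · rintro ⟨x, ⟨hxL, hxM⟩, rfl⟩
      refine ⟨⟨x, hxL, rfl⟩, ?_⟩
      have hxM' : x ∈ cj g ((cj h₀ M₂).comap φ) := hxM
      rw [mem_cj, Subgroup.mem_comap, mem_cj] at hxM'
      show φ x ∈ cj (φ g * h₀) M₂
      rw [mem_cj]
      simpa [mul_assoc] using hxM'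
    · rintro ⟨⟨x, hxL, rfl⟩, hy⟩
      refine ⟨x, ⟨hxL, ?_⟩, rfl⟩
      have hy' : φ x ∈ cj (φ g * h₀) M₂ := hy
      rw [mem_cj] at hy'
      show x ∈ cj g ((cj h₀ M₂).comap φ)
      rw [mem_cj, Subgroup.mem_comap, mem_cj]
      simpa [mul_assoc] using hy'
  · rintro _ ⟨x, hxL, rfl⟩ hx0
    have hx0' : x ∉ L₀ := fun h => hx0 ⟨x, h, rfl⟩
    have := h5 x hxL hx0'
    rw [pCoreOf_map φ hφ]
    have h6 : (A₁.map φ).map (MulAut.conj (φ x)).toMonoidHom = (A₁.map (MulAut.conj x).toMonoidHom).map φ :=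
      (map_cj φ x A₁).symm
    rw [h6, ← Subgroup.map_sup, ← Subgroup.map_sup, this]

end concl

end Cfsg.Agent.Lead.LLem
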