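import Mathlib
import Cfsg.Prelude.Def_FusionSystem
import Cfsg.Agent.Lead.FusionStab

set_option autoImplicit false

namespace Cfsg.Agent.Lead

open Cfsg Cfsg.FusionSystem
open scoped commutatorElement

variable {Ω : Type*} [Group Ω] {S : Subgroup Ω}

/-- Restriction of an automorphism in `Aut_F(P)` to an invariant finite subgroup `R ≤ P`. -/
theorem Fusion.exists_restrict_aut (F : FusionSystem S) {P R : Subgroup Ω} (hPS : P ≤ S)
    (hRP : R ≤ P) [Finite R] (β : MulAut P) (hβ : β ∈ F.autGroup P)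
    (hR : ∀ x : P, (x : Ω) ∈ R → ((β x : P) : Ω) ∈ R) :
    ∃ γ ∈ F.autGroup R, ∀ x : R, ((γ x : R) : Ω) = ((β ⟨x, hRP x.2⟩ : P) : Ω) := by
  let f : R →* R :=
    { toFun := fun x => ⟨((β ⟨x, hRP x.2⟩ : P) : Ω), hR ⟨x, hRP x.2⟩ x.2⟩
      map_one' := by
        apply Subtype.ext
        show ((β ⟨((1 : R) : Ω), _⟩ : P) : Ω) = 1
        have : (⟨((1 : R) : Ω), hRP (1 : R).2⟩ : P) = 1 := rfl
        rw [this, map_one]; rfl
      map_mul' := by
        intro x y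
        apply Subtype.ext
        show ((β ⟨((x * y : R) : Ω), _⟩ : P) : Ω) = ((β ⟨x, _⟩ : P) : Ω) * ((β ⟨y, _⟩ : P) : Ω)
        have : (⟨((x * y : R) : Ω), hRP (x * y).2⟩ : P) = ⟨x, hRP x.2⟩ * ⟨y, hRP y.2⟩ := rfl
        rw [this, map_mul]; rfl }
  have hinj : Function.Injective f := by
    intro x y hxy
    have h1 : ((β ⟨x, hRP x.2⟩ : P) : Ω) = ((β ⟨y, hRP y.2⟩ : P) : Ω) :=
      congrArg (fun z : R => (z : Ω)) hxy
    have h2 := β.injective (Subtype.ext h1)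
    exact Subtype.ext (congrArg (fun z : P => (z : Ω)) h2)
  have hbij : Function.Bijective f := Finite.injective_iff_bijective.mp hinj
  let γ : MulAut R := MulEquiv.ofBijective f hbij
  refine ⟨γ, ?_, fun x => rfl⟩
  rw [Fusion.mem_autGroup_iff F (hRP.trans hPS)]
  have h1 := (Fusion.mem_autGroup_iff F hPS β).mp hβ
  have h2 := Fusion.restrict_mem F h1 hRP
  convert h2 using 1
  ext y
  rfl

/-- Powers of the restriction. -/
theorem Fusion.restrict_aut_pow {P R : Subgroup Ω} (hRP : R ≤ P) (β : MulAut P) (γ : MulAut R)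
    (h : ∀ x : R, ((γ x : R) : Ω) = ((β ⟨x, hRP x.2⟩ : P) : Ω)) (k : ℕ) (x : R) :
    (((γ ^ k) x : R) : Ω) = (((β ^ k) ⟨x, hRP x.2⟩ : P) : Ω) := by
  induction k generalizing x with
  | zero => simp
  | succ k ih =>
    rw [pow_succ, pow_succ, MulAut.mul_apply, MulAut.mul_apply, ih (γ x)]
    congr 2
    exact Subtype.ext (h x)

/-- If `Aut_F(R)` is a `p`-group and `R ≤ P` is invariant under `β ∈ Aut_F(P)`, some `p`-power of
`β` fixes `R` pointwise. -/
theorem Fusion.exists_pow_fix_of_isPGroup (F : FusionSystem S) (p : ℕ) {P R : Subgroup Ω}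
    (hPS : P ≤ S) (hRP : R ≤ P) [Finite R] (hAut : IsPGroup p (F.autGroup R))
    (β : MulAut P) (hβ : β ∈ F.autGroup P)
    (hR : ∀ x : P, (x : Ω) ∈ R → ((β x : P) : Ω) ∈ R) :
    ∃ a : ℕ, ∀ x : P, (x : Ω) ∈ R → (β ^ p ^ a) x = x := by
  obtain ⟨γ, hγ, hγβ⟩ := Fusion.exists_restrict_aut F hPS hRP β hβ hR
  obtain ⟨a, ha⟩ := hAut ⟨γ, hγ⟩
  have ha' : γ ^ p ^ a = 1 := congrArg Subtype.val ha
  refine ⟨a, fun x hx => ?_⟩
  have := Fusion.restrict_aut_pow hRP β γ hγβ (p ^ a) ⟨x, hx⟩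
  rw [ha'] at this
  apply Subtype.ext
  exact this.symm

/-- AKO-style criterion: `Q` strongly closed with a normal subgroup `Q₁` of `F`, `Q / Q₁` abelian and
`Aut_F(Q₁)` a `p`-group, is normal. -/
theorem Fusion.isNormal_of_abelian_quotient [Finite S] (p : ℕ) [Fact p.Prime] (hS : IsPGroup p S)
    (F : FusionSystem S) (hF : F.IsSaturated p) (Q Q₁ : Subgroup Ω) (hQ : F.StronglyClosed Q)
    (hQ₁Q : Q₁ ≤ Q) (hQ₁ : F.IsNormal Q₁) (hab : ⁅Q, Q⁆ ≤ Q₁)
    (hAut : IsPGroup p ↥(F.autGroup Q₁)) : F.IsNormal Q := by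
  have hQS := hQ.1
  have hQn := Fusion.le_normalizer_of_stronglyClosed F hQ
  have hQ₁sc := Fusion.stronglyClosed_of_isNormal F hQ₁
  have hQ₁S := hQ₁.1
  have : Finite Q₁ := Fusion.finite_of_le hQ₁S
  rw [Fusion.isNormal_iff_stronglyClosed p hS F hF]
  refine ⟨hQ, fun P hc hr => ?_⟩
  have hPS := hc.1
  have : Finite P := Fusion.finite_of_le hPS
  have hQ₁P : Q₁ ≤ P := Fusion.le_of_isNormal_of_centric_radical p hS F hQ₁ hc hr
  set QsN : ℕ → Subgroup Ω := fun i => if i = 0 then Q₁ else if i = 1 then Q else ⊤ with hQsN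
  have hQsN0 : QsN 0 = Q₁ := by simp [hQsN]
  have hQsN1 : QsN 1 = Q := by simp [hQsN]
  have hQsNtop : ∀ i, 2 ≤ i → QsN i = ⊤ := by
    intro i hi
    have h0 : i ≠ 0 := by omega
    have h1 : i ≠ 1 := by omega
    simp [hQsN, h0, h1]
  have hinv : ∀ i, ∀ α ∈ F.autGroup P, ∀ x : P, (x : Ω) ∈ QsN i → ((α x : P) : Ω) ∈ QsN i := by
    intro i α hα x hx
    rcases Nat.lt_or_ge i 2 with hi | hi
    · interval_cases i
      · rw [hQsN0] at hx ⊢
        exact Fusion.aut_mem_of_stronglyClosed F hPS hQ₁sc α hα x hx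
      · rw [hQsN1] at hx ⊢
        exact Fusion.aut_mem_of_stronglyClosed F hPS hQ α hα x hx
    · rw [hQsNtop i hi]; trivial
  apply Fusion.le_of_normal_pSubgroup p hS F hc hr hQS hQn (Fusion.stabSubgroup F P QsN hinv)
  · intro β hβ
    exact hβ.1
  · intro b
    obtain ⟨k, hk⟩ := Fusion.stabSet_pow_eq_one F P QsN hinv p (hS.to_le hPS) 2
      (fun x => by rw [hQsNtop 2 le_rfl]; trivial)
      (fun β hβ => by
        rw [hQsN0]
        exact Fusion.exists_pow_fix_of_isPGroup F p hPS hQ₁P hAut β hβ.1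
          (fun x hx => Fusion.aut_mem_of_stronglyClosed F hPS hQ₁sc β hβ.1 x hx)) b.2
    exact ⟨k, Subtype.ext hk⟩
  · intro α hα b hb
    exact Fusion.stabSet_conj F P QsN hinv hα hb
  · intro g hgQ hgN
    refine ⟨Fusion.autInducedBy_le_autGroup F hPS
      (Fusion.conjAutHom_mem_autInducedBy P _ (hQS hgQ)), fun i x hx => ?_⟩
    show (x : Ω)⁻¹ * (g * (x : Ω) * g⁻¹) ∈ QsN i
    rcases Nat.lt_or_ge i 2 with hi | hi
    · interval_cases i
      · rw [hQsN1] at hx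
        rw [hQsN0]
        apply hab
        have h1 : (x : Ω)⁻¹ * (g * (x : Ω) * g⁻¹) = (⁅g, (x : Ω)⁻¹⁆)⁻¹ := by
          rw [commutatorElement_def]
          group
        rw [h1]
        exact Subgroup.inv_mem _ (Subgroup.commutator_mem_commutator hgQ (Subgroup.inv_mem _ hx))
      · rw [hQsN1]
        have hxN : (x : Ω)⁻¹ ∈ Subgroup.normalizer (Q : Set Ω) :=
          Subgroup.inv_mem _ (hQn (hPS x.2))
        have h1 := (Subgroup.mem_normalizer_iff.mp hxN g).mp hgQ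
        rw [inv_inv] at h1
        have h2 : (x : Ω)⁻¹ * (g * (x : Ω) * g⁻¹) = (x : Ω)⁻¹ * g * (x : Ω) * g⁻¹ := by group
        rw [h2]
        exact Q.mul_mem h1 (Q.inv_mem hgQ)
    · rw [hQsNtop i hi]
      trivial

end Cfsg.Agent.Lead
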