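import Mathlib
import Cfsg.Prelude.Def_FusionSystem
import Cfsg.Agent.Lead.FusionStab
import Cfsg.Agent.Lead.FusionRestrict

set_option autoImplicit false

namespace Cfsg.Agent.Lead

open Cfsg Cfsg.FusionSystem
open scoped commutatorElement

variable {Ω : Type*} [Group Ω] {S : Subgroup Ω}

/-- A map of the system from `R` onto `R` is an element of `Aut_F(R)`. -/
theorem Fusion.exists_aut_of_range_eq (F : FusionSystem S) {R : Subgroup Ω} {φ : R →* Ω}
    (hφ : φ ∈ F.Hom R) (hr : φ.range = R) :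
    ∃ α ∈ F.autGroup R, ∀ x : R, ((α x : R) : Ω) = φ x := by
  refine ⟨Fusion.equivOfRange φ (F.injective_of_mem hφ) hr, ?_, fun x => rfl⟩
  rw [Fusion.mem_autGroup_iff F (Fusion.src_le F hφ)]
  convert hφ using 1
  ext y
  rfl

/-- In a normal subgroup, every map from a subgroup extends to an automorphism. -/
theorem Fusion.exists_aut_extension_of_isNormal [Finite S] (F : FusionSystem S) {R : Subgroup Ω}
    (hR : F.IsNormal R) (P : Subgroup Ω) (hPR : P ≤ R) (φ : P →* Ω) (hφ : φ ∈ F.Hom P) :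
    ∃ α ∈ F.autGroup R, ∀ x : P, ((α (Subgroup.inclusion hPR x) : R) : Ω) = φ x := by
  have hRS := hR.1
  have : Finite R := Fusion.finite_of_le hRS
  obtain ⟨ψ, hψ, hψP, hψR⟩ := hR.2 P φ hφ
  have hle : R ≤ P ⊔ R := le_sup_right
  have hχ := Fusion.restrict_mem F hψ hle
  have hr : (ψ.comp (Subgroup.inclusion hle)).range = R := by
    ext y
    constructor
    · rintro ⟨x, rfl⟩
      have : ψ (Subgroup.inclusion hle x) ∈ (R.subgroupOf (P ⊔ R)).map ψ := by
        refine ⟨Subgroup.inclusion hle x, ?_, rfl⟩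
        rw [SetLike.mem_coe, Subgroup.mem_subgroupOf]
        exact x.2
      rw [hψR] at this
      exact this
    · intro hy
      have : y ∈ (R.subgroupOf (P ⊔ R)).map ψ := by rw [hψR]; exact hy
      obtain ⟨x, hx, rfl⟩ := this
      rw [SetLike.mem_coe, Subgroup.mem_subgroupOf] at hx
      exact ⟨⟨x, hx⟩, rfl⟩
  obtain ⟨α, hα, hαx⟩ := Fusion.exists_aut_of_range_eq F hχ hr
  refine ⟨α, hα, fun x => ?_⟩
  rw [hαx, ← hψP]
  rfl

theorem Fusion.stabSet_pow_eq_one' (F : FusionSystem S) (P : Subgroup Ω) (Qs : ℕ → Subgroup Ω)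
    (hinv : ∀ i, ∀ α ∈ F.autGroup P, ∀ x : P, (x : Ω) ∈ Qs i → ((α x : P) : Ω) ∈ Qs i)
    [Finite P] (p : ℕ) [Fact p.Prime] (hP : IsPGroup p P)
    (N : ℕ) (htop : ∀ x : P, (x : Ω) ∈ Qs N)
    {β : MulAut P} (hβ : β ∈ Fusion.stabSet F P Qs)
    (hbase : ∃ a : ℕ, ∀ x : P, (x : Ω) ∈ Qs 0 → (β ^ p ^ a) x = x) : ∃ k : ℕ, β ^ p ^ k = 1 := by
  obtain ⟨m, hm⟩ := IsPGroup.iff_card.mp hP
  obtain ⟨a, ha⟩ := hbase
  have key : ∀ j : ℕ, ∀ x : P, (x : Ω) ∈ Qs j → (β ^ (p ^ a * (p ^ m) ^ j)) x = x := by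
    intro j
    induction j with
    | zero =>
      intro x hx
      rw [pow_zero, mul_one]
      exact ha x hx
    | succ j ih =>
      intro x hx
      set γ := β ^ (p ^ a * (p ^ m) ^ j) with hγ
      have hγs : γ ∈ Fusion.stabSet F P Qs := Fusion.stabSet_pow F P Qs hinv hβ _
      have hz : ((x⁻¹ * γ x : P) : Ω) ∈ Qs j := hγs.2 j x hx
      have hγz : γ (x⁻¹ * γ x) = x⁻¹ * γ x := ih _ hz
      have hpow : ∀ k : ℕ, (γ ^ k) x = x * (x⁻¹ * γ x) ^ k := by
        intro k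
        induction k with
        | zero => simp
        | succ k ihk =>
          rw [pow_succ' γ, MulAut.mul_apply, ihk, map_mul, map_pow, hγz,
            pow_succ' (x⁻¹ * γ x), ← mul_assoc]
          congr 1
          group
      have h5 : β ^ (p ^ a * (p ^ m) ^ (j + 1)) = γ ^ (p ^ m) := by
        rw [hγ, ← pow_mul β]
        congr 1
        rw [pow_succ, mul_assoc]
      rw [h5, hpow, ← hm, pow_card_eq_one', mul_one]
  refine ⟨a + m * N, ?_⟩
  have hexp : p ^ (a + m * N) = p ^ a * (p ^ m) ^ N := by rw [pow_add, pow_mul]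
  rw [hexp]
  ext x
  have := key N x (htop x)
  rw [this]
  rfl

/-- The set of automorphisms of `P` acting on `P ∩ R` as conjugation by an element of `R`. -/
def Fusion.innOnSet (P R : Subgroup Ω) : Set (MulAut P) :=
  {β | ∃ r ∈ R, ∀ x : P, (x : Ω) ∈ R → ((β x : P) : Ω) = r * (x : Ω) * r⁻¹}

theorem Fusion.innOnSet_one (P R : Subgroup Ω) : (1 : MulAut P) ∈ Fusion.innOnSet P R :=
  ⟨1, R.one_mem, fun x _ => by simp⟩

theorem Fusion.innOnSet_mul {P R : Subgroup Ω} {β β' : MulAut P} (hβ : β ∈ Fusion.innOnSet P R)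
    (hβ' : β' ∈ Fusion.innOnSet P R) : β * β' ∈ Fusion.innOnSet P R := by
  obtain ⟨r, hr, h⟩ := hβ
  obtain ⟨r', hr', h'⟩ := hβ'
  refine ⟨r * r', R.mul_mem hr hr', fun x hx => ?_⟩
  have h1 : ((β' x : P) : Ω) ∈ R := by
    rw [h' x hx]
    exact R.mul_mem (R.mul_mem hr' hx) (R.inv_mem hr')
  rw [MulAut.mul_apply, h _ h1, h' x hx]
  group

theorem Fusion.innOnSet_pow {P R : Subgroup Ω} {β : MulAut P} (hβ : β ∈ Fusion.innOnSet P R)
    (k : ℕ) : β ^ k ∈ Fusion.innOnSet P R := by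
  induction k with
  | zero => rw [pow_zero]; exact Fusion.innOnSet_one P R
  | succ k ih => rw [pow_succ]; exact Fusion.innOnSet_mul ih hβ

theorem Fusion.innOnSet_inv {P R : Subgroup Ω} [Finite P] {β : MulAut P}
    (hβ : β ∈ Fusion.innOnSet P R) : β⁻¹ ∈ Fusion.innOnSet P R := by
  have : Finite (MulAut P) := inferInstance
  have h1 : β⁻¹ = β ^ (orderOf β - 1) := by
    have hpos : 0 < orderOf β := orderOf_pos β
    apply inv_eq_of_mul_eq_one_right
    rw [← pow_succ', Nat.sub_add_cancel hpos, pow_orderOf_eq_one]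
  rw [h1]
  exact Fusion.innOnSet_pow hβ _

/-- Powers of an automorphism acting by conjugation on an invariant part. -/
theorem Fusion.pow_apply_of_conj {P R : Subgroup Ω} {β : MulAut P} {r : Ω} (hr : r ∈ R)
    (h : ∀ x : P, (x : Ω) ∈ R → ((β x : P) : Ω) = r * (x : Ω) * r⁻¹) (k : ℕ) (x : P)
    (hx : (x : Ω) ∈ R) : (((β ^ k) x : P) : Ω) = r ^ k * (x : Ω) * (r ^ k)⁻¹ := by
  induction k generalizing x with
  | zero => simp
  | succ k ih =>
    have h1 : ((β x : P) : Ω) ∈ R := by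
      rw [h x hx]
      exact R.mul_mem (R.mul_mem hr hx) (R.inv_mem hr)
    rw [pow_succ, MulAut.mul_apply, ih _ h1, h x hx, pow_succ]
    group

/-- Extension criterion for normality: if every map of the system between subgroups of `R` extends
to an element of `Aut_F(R)`, then `R` is normal in the system. -/
theorem Fusion.isNormal_of_forall_extension [Finite S] (p : ℕ) [Fact p.Prime] (hS : IsPGroup p S)
    (F : FusionSystem S) (hF : F.IsSaturated p) (R : Subgroup Ω) (hRS : R ≤ S)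
    (H : ∀ (P : Subgroup Ω) (hPR : P ≤ R) (φ : P →* Ω), φ ∈ F.Hom P →
      ∃ α ∈ F.autGroup R, ∀ x : P, ((α (Subgroup.inclusion hPR x) : R) : Ω) = φ x) :
    F.IsNormal R := by
  have hRsc : F.StronglyClosed R := by
    refine ⟨hRS, fun P hPR φ hφ x => ?_⟩
    obtain ⟨α, -, hα⟩ := H P hPR φ hφ
    rw [← hα x]
    exact (α _).2
  have hRn := Fusion.le_normalizer_of_stronglyClosed F hRsc
  have : Finite R := Fusion.finite_of_le hRS
  rw [Fusion.isNormal_iff_stronglyClosed p hS F hF]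
  refine ⟨hRsc, fun P hc hr => ?_⟩
  have hPS := hc.1
  have : Finite P := Fusion.finite_of_le hPS
  set QsN : ℕ → Subgroup Ω := fun i => if i = 0 then R else ⊤ with hQsN
  have hQsN0 : QsN 0 = R := by simp [hQsN]
  have hQsNtop : ∀ i, 1 ≤ i → QsN i = ⊤ := by
    intro i hi
    have h0 : i ≠ 0 := by omega
    simp [hQsN, h0]
  have hinv : ∀ i, ∀ α ∈ F.autGroup P, ∀ x : P, (x : Ω) ∈ QsN i → ((α x : P) : Ω) ∈ QsN i := by
    intro i α hα x hx
    rcases Nat.eq_zero_or_pos i with hi | hi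
    · subst hi
      rw [hQsN0] at hx ⊢
      exact Fusion.aut_mem_of_stronglyClosed F hPS hRsc α hα x hx
    · rw [hQsNtop i hi]; trivial
  let B : Subgroup (MulAut P) :=
    { carrier := {β | β ∈ Fusion.stabSet F P QsN ∧ β ∈ Fusion.innOnSet P R}
      mul_mem' := fun ha hb => ⟨Fusion.stabSet_mul F P QsN hinv ha.1 hb.1,
        Fusion.innOnSet_mul ha.2 hb.2⟩
      one_mem' := ⟨Fusion.stabSet_one F P QsN hinv, Fusion.innOnSet_one P R⟩
      inv_mem' := fun ha => ⟨Fusion.stabSet_inv F P QsN hinv ha.1, Fusion.innOnSet_inv ha.2⟩ }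
  apply Fusion.le_of_normal_pSubgroup p hS F hc hr hRS hRn B
  · intro β hβ
    exact hβ.1.1
  · intro b
    obtain ⟨r, hrR, hb⟩ := b.2.2
    obtain ⟨a, ha⟩ := (hS.to_le hRS) ⟨r, hrR⟩
    have ha' : r ^ p ^ a = 1 := congrArg Subtype.val ha
    obtain ⟨k, hk⟩ := Fusion.stabSet_pow_eq_one' F P QsN hinv p (hS.to_le hPS) 1
      (fun x => by rw [hQsNtop 1 le_rfl]; trivial) b.2.1
      ⟨a, fun x hx => by
        rw [hQsN0] at hx
        apply Subtype.ext
        rw [Fusion.pow_apply_of_conj hrR hb (p ^ a) x hx, ha']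
        simp⟩
    exact ⟨k, Subtype.ext hk⟩
  · intro α hα b hb
    refine ⟨Fusion.stabSet_conj F P QsN hinv hα hb.1, ?_⟩
    obtain ⟨r, hrR, hbr⟩ := hb.2
    -- extend `α` restricted to `P ⊓ R` to an automorphism of `R`
    have hα' := (Fusion.mem_autGroup_iff F hPS α).mp hα
    have hle : P ⊓ R ≤ P := inf_le_left
    have hres := Fusion.restrict_mem F hα' hle
    obtain ⟨αh, -, hαh⟩ := H (P ⊓ R) inf_le_right _ hres
    refine ⟨((αh ⟨r, hrR⟩ : R) : Ω), (αh ⟨r, hrR⟩).2, fun x hx => ?_⟩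
    have hαinv : α⁻¹ ∈ F.autGroup P := Subgroup.inv_mem _ hα
    set y : P := α⁻¹ x with hy
    have hyR : (y : Ω) ∈ R := Fusion.aut_mem_of_stronglyClosed F hPS hRsc α⁻¹ hαinv x hx
    have hby : ((b y : P) : Ω) = r * (y : Ω) * r⁻¹ := hbr y hyR
    have hbyR : ((b y : P) : Ω) ∈ R := by
      rw [hby]; exact R.mul_mem (R.mul_mem hrR hyR) (R.inv_mem hrR)
    -- `α` on elements of `P ⊓ R` is `αh`
    have key : ∀ (z : P) (hz : (z : Ω) ∈ R), ((α z : P) : Ω) = ((αh ⟨z, hz⟩ : R) : Ω) := by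
      intro z hz
      have := hαh ⟨z, Subgroup.mem_inf.mpr ⟨z.2, hz⟩⟩
      exact this.symm
    have hxy : α y = x := by rw [hy]; simp
    have h1 : (α * b * α⁻¹) x = α (b y) := rfl
    rw [h1, key (b y) hbyR]
    have h2 : (⟨((b y : P) : Ω), hbyR⟩ : R) = ⟨r, hrR⟩ * ⟨y, hyR⟩ * ⟨r, hrR⟩⁻¹ :=
      Subtype.ext hby
    rw [h2, map_mul, map_mul, map_inv]
    have h3 : ((αh ⟨y, hyR⟩ : R) : Ω) = (x : Ω) := by
      rw [← key y hyR, hxy]
    push_cast
    rw [h3]
  · intro g hgR hgN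
    refine ⟨⟨Fusion.autInducedBy_le_autGroup F hPS
      (Fusion.conjAutHom_mem_autInducedBy P _ (hRS hgR)), fun i x hx => ?_⟩,
      g, hgR, fun x _ => rfl⟩
    show (x : Ω)⁻¹ * (g * (x : Ω) * g⁻¹) ∈ QsN i
    rcases Nat.eq_zero_or_pos i with hi | hi
    · subst hi
      rw [hQsN0]
      have hxN : (x : Ω)⁻¹ ∈ Subgroup.normalizer (R : Set Ω) :=
        Subgroup.inv_mem _ (hRn (hPS x.2))
      have h1 := (Subgroup.mem_normalizer_iff.mp hxN g).mp hgR
      rw [inv_inv] at h1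
      have h2 : (x : Ω)⁻¹ * (g * (x : Ω) * g⁻¹) = (x : Ω)⁻¹ * g * (x : Ω) * g⁻¹ := by group
      rw [h2]
      exact R.mul_mem h1 (R.inv_mem hgR)
    · rw [hQsNtop i hi]
      trivial

theorem Fusion.isNormal_iff_forall_extension [Finite S] (p : ℕ) [Fact p.Prime] (hS : IsPGroup p S)
    (F : FusionSystem S) (hF : F.IsSaturated p) (R : Subgroup Ω) (hRS : R ≤ S) :
    F.IsNormal R ↔ ∀ (P : Subgroup Ω) (hPR : P ≤ R) (φ : P →* Ω), φ ∈ F.Hom P →
      ∃ α ∈ F.autGroup R, ∀ x : P, ((α (Subgroup.inclusion hPR x) : R) : Ω) = φ x :=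
  ⟨fun hR P hPR φ hφ => Fusion.exists_aut_extension_of_isNormal F hR P hPR φ hφ,
    fun H => Fusion.isNormal_of_forall_extension p hS F hF R hRS H⟩

end Cfsg.Agent.Lead
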