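import Mathlib
import Cfsg.Prelude.Def_FusionSystem
import Cfsg.Agent.Lead.Basic
import Cfsg.Agent.Lead.Fusion
import Cfsg.Agent.Lead.FusionAut
import Cfsg.Agent.Lead.FusionConj
import Cfsg.Agent.Lead.FusionSat
import Cfsg.Agent.Lead.FusionSat2
import Cfsg.Agent.Lead.FusionSat3
import Cfsg.Agent.Lead.AutInduced
import Cfsg.Agent.Lead.SylowLemmas

set_option autoImplicit false

namespace Cfsg.Agent.Lead

open Cfsg Cfsg.FusionSystem

variable {Ω : Type*} [Group Ω] {S : Subgroup Ω}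

/-- If `P` is fully automized and `Q` is conjugate to `P`, then for every `p`-subgroup `T₀` of
`Aut_F(Q)` some isomorphism `ψ : Q → P` of the system carries `T₀` into `Aut_S(P)`. -/
theorem Fusion.exists_hom_pgroup_le [Finite S] (p : ℕ) [Fact p.Prime]
    (hS : IsPGroup p S) (F : FusionSystem S) {P Q : Subgroup Ω} (h₁ : F.IsFullyAutomized p P)
    (hQ : F.IsConj Q P) (T₀ : Subgroup (MulAut Q)) (hT₀ : IsPGroup p T₀)
    (hT₀A : T₀ ≤ F.autGroup Q) :
    ∃ ψ ∈ F.Hom Q, ψ.range = P ∧ ∀ t ∈ T₀, ∃ h ∈ S, ∀ x : Q, ψ (t x) = h * ψ x * h⁻¹ := by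
  obtain ⟨φ, hφ, hr⟩ := hQ
  have hP : P ≤ S := h₁.1
  obtain ⟨R, hR⟩ := h₁.2
  have hQS : Q ≤ S := Fusion.src_le F hφ
  have : Finite P := Fusion.finite_of_le hP
  have : Finite (MulAut P) := inferInstance
  set e := Fusion.equivOfRange φ (F.injective_of_mem hφ) hr with he
  have hle : autInducedBy S P ≤ F.autGroup P := Fusion.autInducedBy_le_autGroup F hP
  have hcard : Nat.card (autInducedBy S P) = p ^ (Nat.card (F.autGroup P)).factorization p := by
    rw [← R.card_eq_multiplicity, ← card_subgroupOf_of_le hle, ← hR]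
  set T : Subgroup (MulAut P) := T₀.map (MulAut.congr e).toMonoidHom with hTdef
  have hT : IsPGroup p T := hT₀.map _
  have hTA : T ≤ F.autGroup P := by
    rintro _ ⟨t, ht, rfl⟩
    exact Fusion.congr_mem_autGroup F hφ hr t (hT₀A ht)
  obtain ⟨χ, hχA, hχ⟩ := exists_conj_le_of_card_eq_ppart (p := p) hle hcard hTA hT
  have hφP : ∀ x : Q, φ x ∈ P := fun x => hr ▸ ⟨x, rfl⟩
  have hχ' := (Fusion.mem_autGroup_iff F hP χ).mp hχA
  have hψ := F.comp_mem hφ hχ' hφP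
  set ψ : Q →* Ω := (P.subtype.comp χ.toMonoidHom).comp (φ.codRestrict P hφP) with hψdef
  have hψx : ∀ x : Q, ψ x = ((χ (e x) : P) : Ω) := fun x => rfl
  refine ⟨ψ, hψ, ?_, ?_⟩
  · ext y
    constructor
    · rintro ⟨x, rfl⟩
      rw [hψx]; exact (χ (e x)).2
    · intro hy
      refine ⟨e.symm (χ.symm ⟨y, hy⟩), ?_⟩
      rw [hψx]
      simp
  · intro t ht
    set β : MulAut P := MulAut.congr e t with hβ
    have hβT : β ∈ T := ⟨t, ht, rfl⟩
    have h1 : (MulAut.conj χ) β ∈ autInducedBy S P := hχ ⟨β, hβT, rfl⟩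
    rw [mem_autInducedBy_iff] at h1
    obtain ⟨h, hhS, hh⟩ := h1
    refine ⟨h, hhS, ?_⟩
    intro x
    have h2 := hh (χ (e x))
    rw [hψx, hψx, ← h2]
    rw [MulAut.conj_apply]
    simp only [MulAut.mul_apply, MulAut.inv_apply_self]
    rw [hβ]
    simp only [MulAut.congr_apply, MulEquiv.trans_apply, MulEquiv.symm_apply_apply]

/-- Restriction of an automorphism of `R` stabilizing `P ≤ R` to an automorphism of `P`. -/
def Fusion.resAut {P R : Subgroup Ω} (hPR : P ≤ R) (α : MulAut R)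
    (h : ∀ x : R, (x : Ω) ∈ P ↔ ((α x : R) : Ω) ∈ P) : MulAut P where
  toFun x := ⟨α (Subgroup.inclusion hPR x), (h _).mp x.2⟩
  invFun y := ⟨α.symm (Subgroup.inclusion hPR y), (h _).mpr (by
    rw [MulEquiv.apply_symm_apply]; exact y.2)⟩
  left_inv x := by
    apply Subtype.ext
    show ((α.symm (Subgroup.inclusion hPR ⟨_, _⟩) : R) : Ω) = x
    have : (Subgroup.inclusion hPR ⟨((α (Subgroup.inclusion hPR x) : R) : Ω), (h _).mp x.2⟩ : R) =
        α (Subgroup.inclusion hPR x) := Subtype.ext rfl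
    rw [this, MulEquiv.symm_apply_apply]
    rfl
  right_inv y := by
    apply Subtype.ext
    show ((α (Subgroup.inclusion hPR ⟨_, _⟩) : R) : Ω) = y
    have : (Subgroup.inclusion hPR ⟨((α.symm (Subgroup.inclusion hPR y) : R) : Ω), (h _).mpr (by
        rw [MulEquiv.apply_symm_apply]; exact y.2)⟩ : R) =
        α.symm (Subgroup.inclusion hPR y) := Subtype.ext rfl
    rw [this, MulEquiv.apply_symm_apply]
    rfl
  map_mul' x y := by
    apply Subtype.ext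
    show ((α (Subgroup.inclusion hPR (x * y)) : R) : Ω) = _
    rw [map_mul, map_mul]
    rfl

@[simp] theorem Fusion.resAut_apply {P R : Subgroup Ω} (hPR : P ≤ R) (α : MulAut R)
    (h : ∀ x : R, (x : Ω) ∈ P ↔ ((α x : R) : Ω) ∈ P) (x : P) :
    ((Fusion.resAut hPR α h x : P) : Ω) = ((α (Subgroup.inclusion hPR x) : R) : Ω) := rfl

/-- The group `Aut_F^K(P Q)` of automorphisms of `P ⊔ Q` in the system that stabilize `P` and act on `Q` as an
element of `K`. -/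
def Fusion.kStab (F : FusionSystem S) {Q : Subgroup Ω} (K : Subgroup (MulAut Q)) (P : Subgroup Ω) :
    Subgroup (MulAut ↥(P ⊔ Q)) where
  carrier := {α | α ∈ F.autGroup (P ⊔ Q) ∧
    (∀ x : ↥(P ⊔ Q), (x : Ω) ∈ P ↔ ((α x : ↥(P ⊔ Q)) : Ω) ∈ P) ∧
    ∃ κ ∈ K, ∀ x : Q, α (Subgroup.inclusion le_sup_right x) = Subgroup.inclusion le_sup_right (κ x)}
  one_mem' := ⟨Subgroup.one_mem _, fun _ => Iff.rfl, 1, Subgroup.one_mem _, fun _ => rfl⟩
  mul_mem' := by
    rintro α β ⟨hα1, hα2, κ, hκ, hακ⟩ ⟨hβ1, hβ2, κ', hκ', hβκ⟩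
    refine ⟨Subgroup.mul_mem _ hα1 hβ1, fun x => ?_, κ * κ', Subgroup.mul_mem _ hκ hκ', fun x => ?_⟩
    · rw [MulAut.mul_apply, ← hα2, ← hβ2]
    · rw [MulAut.mul_apply, hβκ, hακ]
      rfl
  inv_mem' := by
    rintro α ⟨hα1, hα2, κ, hκ, hακ⟩
    refine ⟨Subgroup.inv_mem _ hα1, fun x => ?_, κ⁻¹, Subgroup.inv_mem _ hκ, fun x => ?_⟩
    · rw [hα2 (α⁻¹ x), MulAut.apply_inv_self]
    · have h := hακ (κ⁻¹ x)
      rw [MulAut.apply_inv_self] at h
      rw [← h, MulAut.inv_apply_self]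

theorem Fusion.mem_kStab_iff (F : FusionSystem S) {Q : Subgroup Ω} (K : Subgroup (MulAut Q))
    (P : Subgroup Ω) (α : MulAut ↥(P ⊔ Q)) :
    α ∈ Fusion.kStab F K P ↔ α ∈ F.autGroup (P ⊔ Q) ∧
    (∀ x : ↥(P ⊔ Q), (x : Ω) ∈ P ↔ ((α x : ↥(P ⊔ Q)) : Ω) ∈ P) ∧
    ∃ κ ∈ K, ∀ x : Q, α (Subgroup.inclusion le_sup_right x) =
      Subgroup.inclusion le_sup_right (κ x) := Iff.rfl

/-- Membership in `kStab` from stability of `P` in one direction, for finite `P`. -/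
theorem Fusion.mem_kStab_of_maps (F : FusionSystem S) {Q : Subgroup Ω} (K : Subgroup (MulAut Q))
    (P : Subgroup Ω) [Finite P] (α : MulAut ↥(P ⊔ Q)) (h1 : α ∈ F.autGroup (P ⊔ Q))
    (h2 : ∀ x : P, ((α (Subgroup.inclusion le_sup_left x) : ↥(P ⊔ Q)) : Ω) ∈ P)
    (h3 : ∃ κ ∈ K, ∀ x : Q, ((α (Subgroup.inclusion le_sup_right x) : ↥(P ⊔ Q)) : Ω) = ((κ x : Q) : Ω)) :
    α ∈ Fusion.kStab F K P := by
  obtain ⟨κ, hκ, hακ⟩ := h3
  refine ⟨h1, fun x => ⟨fun hx => h2 ⟨x.1, hx⟩, fun hx => ?_⟩, κ, hκ, fun x => Subtype.ext (hακ x)⟩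
  set f : P → P := fun y => ⟨α (Subgroup.inclusion le_sup_left y), h2 y⟩ with hf
  have hinj : Function.Injective f := by
    intro y z hyz
    have h4 : ((α (Subgroup.inclusion le_sup_left y) : ↥(P ⊔ Q)) : Ω) =
        ((α (Subgroup.inclusion le_sup_left z) : ↥(P ⊔ Q)) : Ω) :=
      congrArg (fun w : P => (w : Ω)) hyz
    have h5 := α.injective (Subtype.ext h4)
    apply Subtype.ext
    exact congrArg (fun w : ↥(P ⊔ Q) => (w : Ω)) h5
  have hsurj : Function.Surjective f := Finite.injective_iff_surjective.mp hinj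
  obtain ⟨y, hy⟩ := hsurj ⟨α x, hx⟩
  have h4 : ((α (Subgroup.inclusion le_sup_left y) : ↥(P ⊔ Q)) : Ω) = ((α x : ↥(P ⊔ Q)) : Ω) :=
    congrArg (fun w : P => (w : Ω)) hy
  have h5 := α.injective (Subtype.ext h4)
  rw [← h5]
  exact y.2

/-- Restriction `Aut_F^K(P Q) → Aut(P)`. -/
def Fusion.kStabRes (F : FusionSystem S) {Q : Subgroup Ω} (K : Subgroup (MulAut Q)) (P : Subgroup Ω) :
    ↥(Fusion.kStab F K P) →* MulAut P where
  toFun α := Fusion.resAut le_sup_left α.1 α.2.2.1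
  map_one' := by
    ext x
    rfl
  map_mul' α β := by
    ext x
    rfl

theorem Fusion.kStabRes_apply (F : FusionSystem S) {Q : Subgroup Ω} (K : Subgroup (MulAut Q))
    (P : Subgroup Ω) (α : ↥(Fusion.kStab F K P)) (x : P) :
    ((Fusion.kStabRes F K P α x : P) : Ω) =
      ((α.1 (Subgroup.inclusion le_sup_left x) : ↥(P ⊔ Q)) : Ω) := rfl

end Cfsg.Agent.Lead
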