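import Mathlib
import Cfsg.Prelude.Def_FusionSystem
import Cfsg.Agent.Lead.FusionKNorm1

set_option autoImplicit false

namespace Cfsg.Agent.Lead

open Cfsg Cfsg.FusionSystem

variable {Ω : Type*} [Group Ω] {S : Subgroup Ω}

/-- An element normalizing `P` and `Q` normalizes `P ⊔ Q`. -/
theorem mem_normalizer_sup {G : Type*} [Group G] {P Q : Subgroup G} {g : G}
    (hP : g ∈ Subgroup.normalizer (P : Set G)) (hQ : g ∈ Subgroup.normalizer (Q : Set G)) :
    g ∈ Subgroup.normalizer ((P ⊔ Q : Subgroup G) : Set G) := by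
  have key : ∀ g : G, g ∈ Subgroup.normalizer (P : Set G) → g ∈ Subgroup.normalizer (Q : Set G) →
      ∀ y ∈ P ⊔ Q, g * y * g⁻¹ ∈ P ⊔ Q := by
    intro g hP hQ y hy
    have h : P ⊔ Q ≤ (P ⊔ Q).comap (MulAut.conj g).toMonoidHom := by
      apply sup_le
      · intro x hx
        rw [Subgroup.mem_comap]
        exact le_sup_left (a := P) ((Subgroup.mem_normalizer_iff.mp hP x).mp hx)
      · intro x hx
        rw [Subgroup.mem_comap]
        exact le_sup_right (b := Q) ((Subgroup.mem_normalizer_iff.mp hQ x).mp hx)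
    exact h hy
  apply mem_normalizer_of_conj_mem
  · exact key g hP hQ
  · intro y hy
    have := key g⁻¹ (Subgroup.inv_mem _ hP) (Subgroup.inv_mem _ hQ) y hy
    rwa [inv_inv] at this

/-- `|H| ≤ |Aut_H(R)| · |C_H(R)|` for `H ≤ N(R)`. -/
theorem card_le_card_autInducedBy_mul {G : Type*} [Group G] (H R : Subgroup G) [Finite H] [Finite R]
    (hHR : H ≤ Subgroup.normalizer (R : Set G)) :
    Nat.card H ≤ Nat.card (autInducedBy H R) *
      Nat.card ↥(H ⊓ Subgroup.centralizer (R : Set G)) := by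
  set f : H →* MulAut R := (conjAutHom R).comp (Subgroup.inclusion hHR) with hf
  have h1 : Nat.card H = Nat.card (H ⧸ f.ker) * Nat.card f.ker :=
    Subgroup.card_eq_card_quotient_mul_card_subgroup f.ker
  have h2 : Nat.card (H ⧸ f.ker) = Nat.card f.range :=
    Nat.card_congr (QuotientGroup.quotientKerEquivRange f).toEquiv
  have h3 : Nat.card f.range ≤ Nat.card (autInducedBy H R) := by
    apply Subgroup.card_le_of_le
    rintro _ ⟨g, rfl⟩
    rw [mem_autInducedBy_iff]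
    exact ⟨g.1, g.2, fun x => rfl⟩
  have h4 : Nat.card f.ker ≤ Nat.card ↥(H ⊓ Subgroup.centralizer (R : Set G)) := by
    have : Finite ↥(H ⊓ Subgroup.centralizer (R : Set G)) :=
      Finite.of_injective (Subgroup.inclusion (inf_le_left : H ⊓ Subgroup.centralizer (R : Set G) ≤ H))
        (Subgroup.inclusion_injective _)
    have hmem : ∀ g : f.ker, (g.1 : G) ∈ H ⊓ Subgroup.centralizer (R : Set G) := by
      intro g
      refine Subgroup.mem_inf.mpr ⟨g.1.2, ?_⟩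
      have hg : (Subgroup.inclusion hHR g.1) ∈ (conjAutHom R).ker := by
        rw [MonoidHom.mem_ker]
        exact g.2
      exact (mem_ker_conjAutHom R _).mp hg
    apply Nat.card_le_card_of_injective (fun g : f.ker =>
      (⟨(g.1 : G), hmem g⟩ : ↥(H ⊓ Subgroup.centralizer (R : Set G))))
    intro g g' hgg'
    apply Subtype.ext
    apply Subtype.ext
    exact congrArg (fun z : ↥(H ⊓ Subgroup.centralizer (R : Set G)) => (z : G)) hgg'
  have : Finite (autInducedBy H R) := inferInstance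
  rw [h1, h2]
  exact Nat.mul_le_mul h3 h4

/-- The subgroup of `S` of elements inducing on `χ(R)` an automorphism from `χ T χ⁻¹`. -/
def Fusion.conjSub (S : Subgroup Ω) {R : Subgroup Ω} (T : Subgroup (MulAut R)) (χ : R →* Ω) :
    Subgroup Ω where
  carrier := {h | h ∈ S ∧ ∃ t ∈ T, ∀ x : R, χ (t x) = h * χ x * h⁻¹}
  one_mem' := ⟨S.one_mem, 1, T.one_mem, fun x => by simp⟩
  mul_mem' := by
    rintro a b ⟨ha, t, ht, hta⟩ ⟨hb, u, hu, hub⟩
    refine ⟨S.mul_mem ha hb, t * u, T.mul_mem ht hu, fun x => ?_⟩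
    rw [MulAut.mul_apply, hta, hub]
    group
  inv_mem' := by
    rintro a ⟨ha, t, ht, hta⟩
    refine ⟨S.inv_mem ha, t⁻¹, T.inv_mem ht, fun x => ?_⟩
    have := hta (t⁻¹ x)
    rw [MulAut.apply_inv_self] at this
    rw [this]
    group

theorem Fusion.mem_conjSub (S : Subgroup Ω) {R : Subgroup Ω} (T : Subgroup (MulAut R)) (χ : R →* Ω)
    (h : Ω) : h ∈ Fusion.conjSub S T χ ↔ h ∈ S ∧ ∃ t ∈ T, ∀ x : R, χ (t x) = h * χ x * h⁻¹ :=
  Iff.rfl

theorem Fusion.conjSub_le (S : Subgroup Ω) {R : Subgroup Ω} (T : Subgroup (MulAut R)) (χ : R →* Ω) :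
    Fusion.conjSub S T χ ≤ S := fun _ h => h.1

/-- `|T| · |C_S(χ(R))| ≤ |conjSub|` when every element of `T` is realized. -/
theorem Fusion.card_mul_le_card_conjSub [Finite S] {R : Subgroup Ω} [Finite R]
    (T : Subgroup (MulAut R)) (χ : R →* Ω)
    (hinj : Function.Injective χ)
    (hT : ∀ t ∈ T, ∃ h ∈ S, ∀ x : R, χ (t x) = h * χ x * h⁻¹) :
    Nat.card T * Nat.card (centralizerIn S χ.range) ≤ Nat.card (Fusion.conjSub S T χ) := by
  have : Finite (Fusion.conjSub S T χ) := Fusion.finite_of_le (Fusion.conjSub_le S T χ)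
  have hT' : ∀ t : T, ∃ h ∈ S, ∀ x : R, χ (t.1 x) = h * χ x * h⁻¹ := fun t => hT t.1 t.2
  choose g hgS hg using hT'
  have hc : ∀ c : centralizerIn S χ.range, ∀ x : R, c.1 * χ x * c.1⁻¹ = χ x := by
    intro c x
    have h1 := (Subgroup.mem_inf.mp c.2).2
    rw [Subgroup.mem_centralizer_iff] at h1
    have h2 := h1 (χ x) ⟨x, rfl⟩
    rw [← h2]
    group
  have hmem : ∀ tc : T × centralizerIn S χ.range, g tc.1 * tc.2.1 ∈ Fusion.conjSub S T χ := by
    intro tc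
    refine ⟨S.mul_mem (hgS tc.1) (Subgroup.mem_inf.mp tc.2.2).1, tc.1.1, tc.1.2, fun x => ?_⟩
    rw [hg tc.1 x]
    have := hc tc.2 x
    calc g tc.1 * χ x * (g tc.1)⁻¹ = g tc.1 * (tc.2.1 * χ x * tc.2.1⁻¹) * (g tc.1)⁻¹ := by rw [this]
      _ = g tc.1 * tc.2.1 * χ x * (g tc.1 * tc.2.1)⁻¹ := by group
  rw [← Nat.card_prod]
  apply Nat.card_le_card_of_injective (fun tc : T × centralizerIn S χ.range =>
    (⟨g tc.1 * tc.2.1, hmem tc⟩ : Fusion.conjSub S T χ))
  rintro ⟨t, c⟩ ⟨t', c'⟩ h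
  have h1 : g t * c.1 = g t' * c'.1 :=
    congrArg (fun z : Fusion.conjSub S T χ => (z : Ω)) h
  have htt' : t = t' := by
    apply Subtype.ext
    ext x
    have h2 : χ (t.1 x) = χ (t'.1 x) := by
      rw [hg t x, hg t' x]
      calc g t * χ x * (g t)⁻¹ = g t * (c.1 * χ x * c.1⁻¹) * (g t)⁻¹ := by rw [hc c x]
        _ = (g t * c.1) * χ x * (g t * c.1)⁻¹ := by group
        _ = (g t' * c'.1) * χ x * (g t' * c'.1)⁻¹ := by rw [h1]
        _ = g t' * (c'.1 * χ x * c'.1⁻¹) * (g t')⁻¹ := by group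
        _ = g t' * χ x * (g t')⁻¹ := by rw [hc c' x]
    exact congrArg Subtype.val (hinj h2)
  subst htt'
  have hcc' : c = c' := by
    apply Subtype.ext
    exact mul_left_cancel h1
  rw [hcc']

/-- The data defining a `K`-normalizer system `E = N_F^K(Q)` over `N = N_S^K(Q)`, together with the
extension property of `Q` that makes it saturated. -/
structure Fusion.KNormData (F : FusionSystem S) (Q : Subgroup Ω) (K : Subgroup (MulAut Q))
    (N : Subgroup Ω) (E : FusionSystem N) : Prop where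
  hQS : Q ≤ S
  hN : ∀ s : Ω, s ∈ N ↔ s ∈ S ∧ ∃ κ ∈ K, ∀ x : Q, s * (x : Ω) * s⁻¹ = ((κ x : Q) : Ω)
  hE : ∀ (P : Subgroup Ω) (φ : P →* Ω), φ ∈ E.Hom P ↔ φ ∈ F.Hom P ∧ P ≤ N ∧ (∀ x, φ x ∈ N) ∧
      ∃ ψ ∈ F.Hom (P ⊔ Q), (∀ x : P, ψ (Subgroup.inclusion le_sup_left x) = φ x) ∧
        ∃ κ ∈ K, ∀ x : Q, ψ (Subgroup.inclusion le_sup_right x) = ((κ x : Q) : Ω)
  hK : ∀ (σ : Q →* Ω), σ ∈ F.Hom Q → ∀ M : Subgroup Ω, M ≤ S →
      (∀ g ∈ M, ∃ κ ∈ K, ∀ x : Q, g * σ x * g⁻¹ = σ (κ x)) →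
      ∃ ρ ∈ F.Hom (σ.range ⊔ M), ∃ κ ∈ K, ∀ x : Q,
        ρ ⟨σ x, (le_sup_left : σ.range ≤ σ.range ⊔ M) ⟨x, rfl⟩⟩ = ((κ x : Q) : Ω)

namespace Fusion.KNormData

variable {F : FusionSystem S} {Q : Subgroup Ω} {K : Subgroup (MulAut Q)} {N : Subgroup Ω}
  {E : FusionSystem N}

theorem N_le (D : Fusion.KNormData F Q K N E) : N ≤ S := fun s hs => ((D.hN s).mp hs).1

theorem mem_normalizer (D : Fusion.KNormData F Q K N E) {s : Ω} (hs : s ∈ N) :
    s ∈ Subgroup.normalizer (Q : Set Ω) := by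
  obtain ⟨-, κ, -, hκ⟩ := (D.hN s).mp hs
  exact mem_normalizer_of_conj_eq_aut Q κ s (fun x => (hκ x).symm)

theorem normalizerIn_le_normalizer_sup (D : Fusion.KNormData F Q K N E) (P : Subgroup Ω) :
    normalizerIn N P ≤ Subgroup.normalizer ((P ⊔ Q : Subgroup Ω) : Set Ω) := by
  intro g hg
  exact mem_normalizer_sup (Subgroup.mem_inf.mp hg).2 (D.mem_normalizer (Subgroup.mem_inf.mp hg).1)

theorem centralizerIn_sup_le (D : Fusion.KNormData F Q K N E) (P : Subgroup Ω) :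
    centralizerIn S (P ⊔ Q) ≤ normalizerIn N P := by
  intro c hc
  have hcS := (Subgroup.mem_inf.mp hc).1
  have hcC := (Subgroup.mem_inf.mp hc).2
  rw [Subgroup.mem_centralizer_iff] at hcC
  refine Subgroup.mem_inf.mpr ⟨(D.hN c).mpr ⟨hcS, 1, K.one_mem, fun x => ?_⟩, ?_⟩
  · have := hcC x.1 (le_sup_right (a := P) x.2)
    rw [MulAut.one_apply, ← this]
    group
  · have hcP : c ∈ Subgroup.centralizer (P : Set Ω) := by
      rw [Subgroup.mem_centralizer_iff]
      intro y hy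
      exact hcC y (le_sup_left (b := Q) hy)
    exact Subgroup.centralizer_le_normalizer _ hcP

/-- `Aut_{N_N(P)}(P Q) ≤ Aut_F^K(P Q)`. -/
theorem autInducedBy_le_kStab (D : Fusion.KNormData F Q K N E) {P : Subgroup Ω} (hP : P ≤ N) :
    autInducedBy (normalizerIn N P) (P ⊔ Q) ≤ Fusion.kStab F K P := by
  intro α hα
  rw [mem_autInducedBy_iff] at hα
  obtain ⟨g, hg, hα⟩ := hα
  have hgN : g ∈ N := (Subgroup.mem_inf.mp hg).1
  have hgP : g ∈ Subgroup.normalizer (P : Set Ω) := (Subgroup.mem_inf.mp hg).2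
  obtain ⟨hgS, κ, hκ, hgκ⟩ := (D.hN g).mp hgN
  have hRS : P ⊔ Q ≤ S := sup_le (hP.trans D.N_le) D.hQS
  refine ⟨?_, fun x => ?_, κ, hκ, fun x => ?_⟩
  · apply Fusion.autInducedBy_le_autGroup F hRS
    rw [mem_autInducedBy_iff]
    exact ⟨g, hgS, hα⟩
  · rw [hα x]
    exact Subgroup.mem_normalizer_iff.mp hgP x
  · apply Subtype.ext
    rw [hα]
    exact hgκ x

theorem kStab_le_autGroup (F : FusionSystem S) {Q : Subgroup Ω} (K : Subgroup (MulAut Q))
    (P : Subgroup Ω) : Fusion.kStab F K P ≤ F.autGroup (P ⊔ Q) := fun _ h => h.1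

/-- Restriction to `P` of an element of `Aut_F^K(P Q)` is a map of `E`. -/
theorem kStabRes_mem (D : Fusion.KNormData F Q K N E) {P : Subgroup Ω} (hP : P ≤ N)
    (α : ↥(Fusion.kStab F K P)) :
    P.subtype.comp (Fusion.kStabRes F K P α).toMonoidHom ∈ E.Hom P := by
  have hRS : P ⊔ Q ≤ S := sup_le (hP.trans D.N_le) D.hQS
  obtain ⟨h1, h2, κ, hκ, hακ⟩ := α.2
  have hψ := (Fusion.mem_autGroup_iff F hRS α.1).mp h1
  rw [D.hE]
  refine ⟨?_, hP, fun x => hP (Fusion.kStabRes F K P α x).2, _, hψ, fun x => rfl, κ, hκ, fun x => ?_⟩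
  · have := Fusion.restrict_mem F hψ (le_sup_left : P ≤ P ⊔ Q)
    convert this using 1
    ext x
    rfl
  · show ((α.1 (Subgroup.inclusion le_sup_right x) : ↥(P ⊔ Q)) : Ω) = _
    rw [hακ]
    rfl

theorem kStabRes_mem_autGroup (D : Fusion.KNormData F Q K N E) {P : Subgroup Ω} (hP : P ≤ N)
    (α : ↥(Fusion.kStab F K P)) : Fusion.kStabRes F K P α ∈ E.autGroup P :=
  (Fusion.mem_autGroup_iff E hP _).mpr (D.kStabRes_mem hP α)

end Fusion.KNormData

/-- The range of an extension to `P₀ ⊔ Q` of an isomorphism `P₀ → P` acting on `Q` as an automorphism. -/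
theorem Fusion.range_eq_sup_of_ext {P₀ P Q : Subgroup Ω} (ψ : ↥(P₀ ⊔ Q) →* Ω) (φ₀ : P₀ →* Ω)
    (hr : φ₀.range = P) (hext : ∀ x : P₀, ψ (Subgroup.inclusion le_sup_left x) = φ₀ x)
    (κ : MulAut Q) (hκ : ∀ x : Q, ψ (Subgroup.inclusion le_sup_right x) = ((κ x : Q) : Ω)) :
    ψ.range = P ⊔ Q := by
  apply le_antisymm
  · rintro _ ⟨x, rfl⟩
    apply Fusion.sup_map_mem ψ (P ⊔ Q)
    · intro x
      rw [hext]
      apply le_sup_left (a := P)
      rw [← hr]
      exact ⟨x, rfl⟩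
    · intro x
      rw [hκ]
      exact le_sup_right (a := P) (κ x).2
  · apply sup_le
    · intro y hy
      rw [← hr] at hy
      obtain ⟨x, rfl⟩ := hy
      exact ⟨_, hext x⟩
    · intro y hy
      refine ⟨Subgroup.inclusion le_sup_right (κ⁻¹ ⟨y, hy⟩), ?_⟩
      rw [hκ, MulAut.apply_inv_self]

end Cfsg.Agent.Lead
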