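import Mathlib
import Cfsg.Prelude.Def_FusionSystem
import Cfsg.Agent.Lead.FusionKNorm2

set_option autoImplicit false

namespace Cfsg.Agent.Lead

open Cfsg Cfsg.FusionSystem

variable {Ω : Type*} [Group Ω] {S : Subgroup Ω}

theorem nat_eq_of_mul_le {a t c c₁ : ℕ} (ha : a ≤ t) (hc : c ≤ c₁) (h : t * c₁ ≤ a * c)
    (ht : 0 < t) (hc₁ : 0 < c₁) : a = t ∧ c = c₁ := by
  constructor
  · by_contra hne
    have h1 : a < t := lt_of_le_of_ne ha hne
    have h2 : a * c < t * c₁ :=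
      calc a * c ≤ a * c₁ := Nat.mul_le_mul_left _ hc
        _ < t * c₁ := Nat.mul_lt_mul_of_pos_right h1 hc₁
    omega
  · by_contra hne
    have h1 : c < c₁ := lt_of_le_of_ne hc hne
    have h2 : a * c < t * c₁ :=
      calc a * c ≤ t * c := Nat.mul_le_mul_right _ ha
        _ < t * c₁ := Nat.mul_lt_mul_of_pos_left h1 ht
    omega

namespace Fusion.KNormData

variable {F : FusionSystem S} {Q : Subgroup Ω} {K : Subgroup (MulAut Q)} {N : Subgroup Ω}
  {E : FusionSystem N}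

/-- An element of `S` acting on `Q` (read through `κ₀`) as `κ₁` lies in `N`. -/
theorem mem_N_of_conj (D : Fusion.KNormData F Q K N E) {s : Ω} (hs : s ∈ S) {κ₀ κ₁ : MulAut Q}
    (hκ₀ : κ₀ ∈ K) (hκ₁ : κ₁ ∈ K)
    (h : ∀ q : Q, s * ((κ₀ q : Q) : Ω) * s⁻¹ = ((κ₀ (κ₁ q) : Q) : Ω)) : s ∈ N := by
  rw [D.hN]
  refine ⟨hs, κ₀ * κ₁ * κ₀⁻¹, K.mul_mem (K.mul_mem hκ₀ hκ₁) (K.inv_mem hκ₀), fun y => ?_⟩
  have := h (κ₀⁻¹ y)
  rw [MulAut.apply_inv_self] at this
  rw [this]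
  rfl

/-- The key lemma: if `P` is fully normalized in `E`, then `P Q` is fully centralized in `F` and
`Aut_{N_N(P)}(P Q)` is a Sylow `p`-subgroup of `Aut_F^K(P Q)`. -/
theorem main [Finite S] (p : ℕ) [Fact p.Prime] (hS : IsPGroup p S)
    (D : Fusion.KNormData F Q K N E) (hsat : F.IsSaturated p) {P : Subgroup Ω}
    (hP : E.IsFullyNormalized P) :
    F.IsFullyCentralized (P ⊔ Q) ∧
      Nat.card (autInducedBy (normalizerIn N P) (P ⊔ Q)) =
        p ^ (Nat.card (Fusion.kStab F K P)).factorization p := by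
  have hPN : P ≤ N := hP.1
  have hNS : N ≤ S := D.N_le
  have hPS : P ≤ S := hPN.trans hNS
  have hRS : P ⊔ Q ≤ S := sup_le hPS D.hQS
  have : Finite ↥(P ⊔ Q) := Fusion.finite_of_le hRS
  have : Finite P := Fusion.finite_of_le hPS
  have : Finite Q := Fusion.finite_of_le D.hQS
  have : Finite (MulAut ↥(P ⊔ Q)) := inferInstance
  have hASA : autInducedBy (normalizerIn N P) (P ⊔ Q) ≤ Fusion.kStab F K P :=
    D.autInducedBy_le_kStab hPN
  have hASS : autInducedBy (normalizerIn N P) (P ⊔ Q) ≤ autInducedBy S (P ⊔ Q) := by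
    intro α hα
    rw [mem_autInducedBy_iff] at hα ⊢
    obtain ⟨g, hg, h⟩ := hα
    exact ⟨g, hNS (Subgroup.mem_inf.mp hg).1, h⟩
  have hASp : IsPGroup p (autInducedBy (normalizerIn N P) (P ⊔ Q)) :=
    (Fusion.isPGroup_autInducedBy p hS (P ⊔ Q)).to_le hASS
  -- a Sylow subgroup of `A` containing `A_S`
  obtain ⟨T, hT⟩ := IsPGroup.exists_le_sylow
    (hASp.comap_subtype : IsPGroup p ((autInducedBy (normalizerIn N P) (P ⊔ Q)).subgroupOf
      (Fusion.kStab F K P)))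
  set T' : Subgroup (MulAut ↥(P ⊔ Q)) := (T : Subgroup (Fusion.kStab F K P)).map
    (Fusion.kStab F K P).subtype with hT'
  have hT'p : IsPGroup p T' := T.isPGroup'.map _
  have hT'A : T' ≤ Fusion.kStab F K P := by
    rintro _ ⟨a, -, rfl⟩
    exact a.2
  have hAST' : autInducedBy (normalizerIn N P) (P ⊔ Q) ≤ T' := by
    intro a ha
    exact ⟨⟨a, hASA ha⟩, hT (Subgroup.mem_subgroupOf.mpr ha), rfl⟩
  have hT'card : Nat.card T' = p ^ (Nat.card (Fusion.kStab F K P)).factorization p := by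
    rw [hT', Subgroup.card_map_of_injective (Subgroup.subtype_injective _)]
    exact T.card_eq_multiplicity
  -- a fully normalized conjugate of `P Q`
  obtain ⟨R₁, hRR₁, hR₁⟩ := Fusion.exists_isConj_fullyNormalized F hRS
  obtain ⟨hR₁c, hR₁a⟩ :=
    Fusion.fullyCentralized_fullyAutomized_of_fullyNormalized p hS F hsat hR₁
  obtain ⟨χ, hχ, hχr, hχT⟩ := Fusion.exists_hom_pgroup_le p hS F hR₁a hRR₁ T' hT'p
    (hT'A.trans (kStab_le_autGroup F K P))
  have hχinj := F.injective_of_mem hχ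
  have hMS : Fusion.conjSub S T' χ ≤ S := Fusion.conjSub_le S T' χ
  have hσ := Fusion.restrict_mem F hχ (le_sup_right : Q ≤ P ⊔ Q)
  set σ : Q →* Ω := χ.comp (Subgroup.inclusion le_sup_right) with hσdef
  have hσx : ∀ x : Q, σ x = χ (Subgroup.inclusion le_sup_right x) := fun _ => rfl
  have hMK : ∀ g ∈ Fusion.conjSub S T' χ, ∃ κ ∈ K, ∀ x : Q, g * σ x * g⁻¹ = σ (κ x) := by
    rintro g ⟨hgS, t, ht, hgt⟩
    obtain ⟨-, -, κ, hκ, htκ⟩ := hT'A ht
    refine ⟨κ, hκ, fun x => ?_⟩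
    rw [hσx, ← hgt, htκ]
    rfl
  obtain ⟨ρ, hρ, κ₀, hκ₀, hρσ⟩ := D.hK σ hσ (Fusion.conjSub S T' χ) hMS hMK
  have hχmem : ∀ x : ↥(P ⊔ Q), χ x ∈ σ.range ⊔ Fusion.conjSub S T' χ := by
    apply Fusion.sup_map_mem
    · intro x
      apply le_sup_right (a := σ.range)
      refine ⟨Fusion.map_mem F hχ _, ?_⟩
      have hxN : (x : Ω) ∈ normalizerIn N P :=
        Subgroup.mem_inf.mpr ⟨hPN x.2, Subgroup.le_normalizer x.2⟩
      have hxR : (x : Ω) ∈ Subgroup.normalizer ((P ⊔ Q : Subgroup Ω) : Set Ω) :=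
        D.normalizerIn_le_normalizer_sup P hxN
      refine ⟨conjAutHom (P ⊔ Q) ⟨x, hxR⟩,
        hAST' (Fusion.conjAutHom_mem_autInducedBy (S := normalizerIn N P) (P ⊔ Q) ⟨x, hxR⟩ hxN),
        fun y => ?_⟩
      have : conjAutHom (P ⊔ Q) ⟨x, hxR⟩ y =
          Subgroup.inclusion le_sup_left x * y * (Subgroup.inclusion le_sup_left x)⁻¹ :=
        Subtype.ext rfl
      rw [this, map_mul, map_mul, map_inv]
    · intro x
      exact le_sup_left (b := Fusion.conjSub S T' χ) ⟨x, rfl⟩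
  have hθ := F.comp_mem hχ hρ hχmem
  set θ : ↥(P ⊔ Q) →* Ω := ρ.comp (χ.codRestrict _ hχmem) with hθdef
  have hθx : ∀ x, θ x = ρ ⟨χ x, hχmem x⟩ := fun _ => rfl
  have hθQ : ∀ x : Q, θ (Subgroup.inclusion le_sup_right x) = ((κ₀ x : Q) : Ω) := fun x => hρσ x
  have hφF := Fusion.restrict_mem F hθ (le_sup_left : P ≤ P ⊔ Q)
  set φ : P →* Ω := θ.comp (Subgroup.inclusion le_sup_left) with hφdef
  have hφx : ∀ x : P, φ x = θ (Subgroup.inclusion le_sup_left x) := fun _ => rfl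
  have hφE : φ ∈ E.Hom P := by
    rw [D.hE]
    refine ⟨hφF, hPN, fun x => ?_, θ, hθ, fun x => rfl, κ₀, hκ₀, hθQ⟩
    obtain ⟨-, κx, hκx, hxκ⟩ := (D.hN x).mp (hPN x.2)
    apply D.mem_N_of_conj (Fusion.map_mem F hφF x) hκ₀ hκx
    intro q
    rw [← hθQ, ← hθQ, hφx, ← map_inv, ← map_mul, ← map_mul]
    congr 1
    apply Subtype.ext
    exact hxκ q
  have hcard1 : Nat.card (normalizerIn N φ.range) ≤ Nat.card (normalizerIn N P) :=
    hP.2 _ ⟨φ, hφE, rfl⟩
  have : Finite φ.range := Fusion.finite_of_le (Fusion.range_le F hφF)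
  have hρM : ∀ g : Fusion.conjSub S T' χ,
      ρ ⟨g.1, le_sup_right (a := σ.range) g.2⟩ ∈ normalizerIn N φ.range := by
    intro g
    obtain ⟨hgS, t, ht, hgt⟩ := g.2
    obtain ⟨-, htP, κ, hκ, htκ⟩ := hT'A ht
    refine Subgroup.mem_inf.mpr ⟨?_, ?_⟩
    · apply D.mem_N_of_conj (Fusion.map_mem F hρ _) hκ₀ hκ
      intro q
      rw [← hρσ, ← hρσ, ← map_inv, ← map_mul, ← map_mul]
      congr 1
      apply Subtype.ext
      show g.1 * σ q * g.1⁻¹ = σ (κ q)
      rw [hσx, hσx, ← hgt, htκ]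
    · apply mem_normalizer_of_conj_mem_of_finite
      rintro _ ⟨x, rfl⟩
      refine ⟨⟨(t (Subgroup.inclusion le_sup_left x)).1, (htP _).mp x.2⟩, ?_⟩
      rw [hφx, hφx, hθx, hθx, ← map_inv, ← map_mul, ← map_mul]
      congr 1
      apply Subtype.ext
      show χ (Subgroup.inclusion le_sup_left ⟨(t (Subgroup.inclusion le_sup_left x)).1, _⟩) =
        g.1 * χ (Subgroup.inclusion le_sup_left x) * g.1⁻¹
      rw [← hgt]
      congr 1
  have hNfin : Finite (normalizerIn N φ.range) := Fusion.finite_of_le (inf_le_left.trans hNS)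
  have hMcard : Nat.card (Fusion.conjSub S T' χ) ≤ Nat.card (normalizerIn N φ.range) := by
    apply Nat.card_le_card_of_injective (fun g : Fusion.conjSub S T' χ =>
      (⟨ρ ⟨g.1, le_sup_right (a := σ.range) g.2⟩, hρM g⟩ : normalizerIn N φ.range))
    intro g g' h
    have h1 : ρ ⟨g.1, le_sup_right (a := σ.range) g.2⟩ = ρ ⟨g'.1, le_sup_right (a := σ.range) g'.2⟩ :=
      congrArg (fun z : normalizerIn N φ.range => (z : Ω)) h
    have h2 := F.injective_of_mem hρ h1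
    exact Subtype.ext (congrArg (fun z : ↥(σ.range ⊔ Fusion.conjSub S T' χ) => (z : Ω)) h2)
  have hc1 : Nat.card T' * Nat.card (centralizerIn S χ.range) ≤ Nat.card (Fusion.conjSub S T' χ) :=
    Fusion.card_mul_le_card_conjSub T' χ hχinj hχT
  have : Finite (normalizerIn N P) := Fusion.finite_of_le (inf_le_left.trans hNS)
  have hc2 := card_le_card_autInducedBy_mul (normalizerIn N P) (P ⊔ Q)
    (D.normalizerIn_le_normalizer_sup P)
  have : Finite (centralizerIn S (P ⊔ Q)) := Fusion.finite_of_le inf_le_left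
  have : Finite (centralizerIn S R₁) := Fusion.finite_of_le inf_le_left
  have hc3 : Nat.card ↥(normalizerIn N P ⊓ Subgroup.centralizer ((P ⊔ Q : Subgroup Ω) : Set Ω)) ≤
      Nat.card (centralizerIn S (P ⊔ Q)) := by
    apply Subgroup.card_le_of_le
    intro c hc
    exact Subgroup.mem_inf.mpr ⟨hNS (Subgroup.mem_inf.mp (Subgroup.mem_inf.mp hc).1).1,
      (Subgroup.mem_inf.mp hc).2⟩
  have hc4 : Nat.card (centralizerIn S (P ⊔ Q)) ≤ Nat.card (centralizerIn S R₁) :=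
    hR₁c.2 (P ⊔ Q) (Fusion.isConj_symm F hRR₁)
  rw [hχr] at hc1
  have hc5 : Nat.card (autInducedBy (normalizerIn N P) (P ⊔ Q)) ≤ Nat.card T' :=
    Subgroup.card_le_of_le hAST'
  have hchain : Nat.card T' * Nat.card (centralizerIn S R₁) ≤
      Nat.card (autInducedBy (normalizerIn N P) (P ⊔ Q)) * Nat.card (centralizerIn S (P ⊔ Q)) :=
    calc Nat.card T' * Nat.card (centralizerIn S R₁) ≤ Nat.card (Fusion.conjSub S T' χ) := hc1
      _ ≤ Nat.card (normalizerIn N φ.range) := hMcard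
      _ ≤ Nat.card (normalizerIn N P) := hcard1
      _ ≤ _ := hc2
      _ ≤ _ := Nat.mul_le_mul_left _ hc3
  obtain ⟨heq1, heq2⟩ := nat_eq_of_mul_le hc5 hc4 hchain Nat.card_pos Nat.card_pos
  refine ⟨⟨hRS, fun R' hRR' => ?_⟩, ?_⟩
  · rw [heq2]
    exact hR₁c.2 R' (Fusion.isConj_trans F (Fusion.isConj_symm F hRR₁) hRR')
  · rw [heq1, hT'card]

end Fusion.KNormData

end Cfsg.Agent.Lead
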