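import Mathlib
import Cfsg.Prelude.Def_FusionSystem
import Cfsg.Agent.Lead.FusionKNorm3
import Cfsg.Agent.Lead.FusionMorph3

set_option autoImplicit false

namespace Cfsg.Agent.Lead

open Cfsg Cfsg.FusionSystem

variable {Ω : Type*} [Group Ω] {S : Subgroup Ω}

/-- The elements of `Aut_F^K(P Q)` restricting to the identity of `P`. -/
def Fusion.kFix (F : FusionSystem S) {Q : Subgroup Ω} (K : Subgroup (MulAut Q)) (P : Subgroup Ω) :
    Subgroup (MulAut ↥(P ⊔ Q)) where
  carrier := {β | β ∈ Fusion.kStab F K P ∧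
    ∀ x : P, β (Subgroup.inclusion le_sup_left x) = Subgroup.inclusion le_sup_left x}
  one_mem' := ⟨Subgroup.one_mem _, fun _ => rfl⟩
  mul_mem' := by
    rintro α β ⟨hα1, hα2⟩ ⟨hβ1, hβ2⟩
    refine ⟨Subgroup.mul_mem _ hα1 hβ1, fun x => ?_⟩
    rw [MulAut.mul_apply, hβ2, hα2]
  inv_mem' := by
    rintro α ⟨hα1, hα2⟩
    refine ⟨Subgroup.inv_mem _ hα1, fun x => ?_⟩
    have := hα2 x
    calc α⁻¹ (Subgroup.inclusion le_sup_left x)
        = α⁻¹ (α (Subgroup.inclusion le_sup_left x)) := by rw [this]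
      _ = Subgroup.inclusion le_sup_left x := MulAut.inv_apply_self _ _ _

theorem Fusion.kFix_le (F : FusionSystem S) {Q : Subgroup Ω} (K : Subgroup (MulAut Q)) (P : Subgroup Ω) :
    Fusion.kFix F K P ≤ Fusion.kStab F K P := fun _ h => h.1

theorem Fusion.kFix_conj_mem (F : FusionSystem S) {Q : Subgroup Ω} (K : Subgroup (MulAut Q))
    (P : Subgroup Ω) {a b : MulAut ↥(P ⊔ Q)} (ha : a ∈ Fusion.kStab F K P)
    (hb : b ∈ Fusion.kFix F K P) : a * b * a⁻¹ ∈ Fusion.kFix F K P := by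
  refine ⟨Subgroup.mul_mem _ (Subgroup.mul_mem _ ha hb.1) (Subgroup.inv_mem _ ha), fun x => ?_⟩
  have ha' := Subgroup.inv_mem _ ha
  obtain ⟨-, h2, -⟩ := ha'
  have hx : ((a⁻¹ (Subgroup.inclusion le_sup_left x) : ↥(P ⊔ Q)) : Ω) ∈ P := (h2 _).mp x.2
  have h3 : a⁻¹ (Subgroup.inclusion le_sup_left x) =
      Subgroup.inclusion le_sup_left
        (⟨((a⁻¹ (Subgroup.inclusion le_sup_left x) : ↥(P ⊔ Q)) : Ω), hx⟩ : P) := Subtype.ext rfl
  rw [MulAut.mul_apply, MulAut.mul_apply, h3, hb.2, ← h3, MulAut.apply_inv_self]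

theorem Fusion.kStab_le_normalizer_kFix (F : FusionSystem S) {Q : Subgroup Ω} (K : Subgroup (MulAut Q))
    (P : Subgroup Ω) :
    Fusion.kStab F K P ≤ Subgroup.normalizer ((Fusion.kFix F K P : Subgroup (MulAut ↥(P ⊔ Q))) :
      Set (MulAut ↥(P ⊔ Q))) := by
  intro a ha
  rw [Subgroup.mem_normalizer_iff]
  intro b
  constructor
  · exact fun hb => Fusion.kFix_conj_mem F K P ha hb
  · intro hb
    have := Fusion.kFix_conj_mem F K P (Subgroup.inv_mem _ ha) hb
    have h2 : a⁻¹ * (a * b * a⁻¹) * a⁻¹⁻¹ = b := by group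
    rwa [h2] at this

namespace Fusion.KNormData

variable {F : FusionSystem S} {Q : Subgroup Ω} {K : Subgroup (MulAut Q)} {N : Subgroup Ω}
  {E : FusionSystem N}

/-- Every `E`-automorphism of `P` is the restriction of an element of `Aut_F^K(P Q)`. -/
theorem exists_kStab_of_mem_autGroup [Finite S] (D : Fusion.KNormData F Q K N E) {P : Subgroup Ω}
    (hP : P ≤ N) (β : MulAut P) (hβ : β ∈ E.autGroup P) :
    ∃ α : ↥(Fusion.kStab F K P), Fusion.kStabRes F K P α = β := by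
  have hPS : P ≤ S := hP.trans D.N_le
  have : Finite P := Fusion.finite_of_le hPS
  have hβ' := (Fusion.mem_autGroup_iff E hP β).mp hβ
  obtain ⟨-, -, -, ψ, hψ, hψext, κ, hκ, hψκ⟩ := (D.hE P _).mp hβ'
  have hr : (P.subtype.comp β.toMonoidHom).range = P := by
    ext y
    constructor
    · rintro ⟨x, rfl⟩
      exact (β x).2
    · intro hy
      exact ⟨β.symm ⟨y, hy⟩, by simp⟩
  have hψr : ψ.range = P ⊔ Q := Fusion.range_eq_sup_of_ext ψ _ hr hψext κ hψκ
  set e := Fusion.equivOfRange ψ (F.injective_of_mem hψ) hψr with he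
  have heA : e ∈ Fusion.kStab F K P := by
    apply Fusion.mem_kStab_of_maps
    · rw [Fusion.mem_autGroup_iff F (sup_le hPS D.hQS)]
      convert hψ using 1
      ext y
      rfl
    · intro x
      show ψ (Subgroup.inclusion le_sup_left x) ∈ P
      rw [hψext]
      exact (β x).2
    · exact ⟨κ, hκ, hψκ⟩
  refine ⟨⟨e, heA⟩, ?_⟩
  ext x
  show ψ (Subgroup.inclusion le_sup_left x) = _
  rw [hψext]
  rfl

/-- A fully `E`-normalized subgroup is fully automized in `E`. -/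
theorem fullyAutomized [Finite S] (p : ℕ) [Fact p.Prime] (hS : IsPGroup p S)
    (D : Fusion.KNormData F Q K N E) (hsat : F.IsSaturated p) {P : Subgroup Ω}
    (hP : E.IsFullyNormalized P) : E.IsFullyAutomized p P := by
  obtain ⟨-, hcard⟩ := D.main p hS hsat hP
  have hPN : P ≤ N := hP.1
  have hNS : N ≤ S := D.N_le
  have hPS : P ≤ S := hPN.trans hNS
  have hRS : P ⊔ Q ≤ S := sup_le hPS D.hQS
  have : Finite ↥(P ⊔ Q) := Fusion.finite_of_le hRS
  have : Finite P := Fusion.finite_of_le hPS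
  have hASA : autInducedBy (normalizerIn N P) (P ⊔ Q) ≤ Fusion.kStab F K P :=
    D.autInducedBy_le_kStab hPN
  have hcard' : Nat.card ((autInducedBy (normalizerIn N P) (P ⊔ Q)).subgroupOf (Fusion.kStab F K P)) =
      p ^ (Nat.card (Fusion.kStab F K P)).factorization p := by
    rw [card_subgroupOf_of_le hASA]; exact hcard
  set T : Sylow p ↥(Fusion.kStab F K P) := Sylow.ofCard _ hcard' with hT
  set r : ↥(Fusion.kStab F K P) →* ↥(E.autGroup P) :=
    (Fusion.kStabRes F K P).codRestrict (E.autGroup P) (fun α => D.kStabRes_mem_autGroup hPN α) with hr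
  have hrsurj : Function.Surjective r := by
    intro β
    obtain ⟨α, hα⟩ := D.exists_kStab_of_mem_autGroup hPN β.1 β.2
    exact ⟨α, Subtype.ext hα⟩
  refine ⟨hPN, T.mapSurjective hrsurj, ?_⟩
  rw [Sylow.coe_mapSurjective, hT, Sylow.coe_ofCard]
  ext β
  rw [Subgroup.mem_subgroupOf, mem_autInducedBy_iff]
  constructor
  · rintro ⟨a, ha, rfl⟩
    rw [SetLike.mem_coe, Subgroup.mem_subgroupOf, mem_autInducedBy_iff] at ha
    obtain ⟨g, hg, hag⟩ := ha
    refine ⟨g, (Subgroup.mem_inf.mp hg).1, fun x => ?_⟩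
    show ((a.1 (Subgroup.inclusion le_sup_left x) : ↥(P ⊔ Q)) : Ω) = _
    rw [hag]
    rfl
  · rintro ⟨g, hg, hβg⟩
    have hgP : g ∈ Subgroup.normalizer (P : Set Ω) := mem_normalizer_of_conj_eq_aut P β.1 g hβg
    have hgN : g ∈ normalizerIn N P := Subgroup.mem_inf.mpr ⟨hg, hgP⟩
    have hgR := D.normalizerIn_le_normalizer_sup P hgN
    have hmem : conjAutHom (P ⊔ Q) ⟨g, hgR⟩ ∈ autInducedBy (normalizerIn N P) (P ⊔ Q) :=
      Fusion.conjAutHom_mem_autInducedBy (S := normalizerIn N P) (P ⊔ Q) ⟨g, hgR⟩ hgN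
    refine ⟨⟨conjAutHom (P ⊔ Q) ⟨g, hgR⟩, hASA hmem⟩, ?_, ?_⟩
    · rw [SetLike.mem_coe, Subgroup.mem_subgroupOf]
      exact hmem
    · apply Subtype.ext
      ext x
      show g * (x : Ω) * g⁻¹ = _
      rw [hβg]

end Fusion.KNormData

end Cfsg.Agent.Lead
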