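import Mathlib
import Cfsg.Prelude.Def_FusionSystem
import Cfsg.Agent.Lead.FusionKNorm4

set_option autoImplicit false

namespace Cfsg.Agent.Lead

open Cfsg Cfsg.FusionSystem

variable {Ω : Type*} [Group Ω] {S : Subgroup Ω}

namespace Fusion.KNormData

variable {F : FusionSystem S} {Q : Subgroup Ω} {K : Subgroup (MulAut Q)} {N : Subgroup Ω}
  {E : FusionSystem N}

/-- A fully `E`-normalized subgroup is receptive in `E`. -/
theorem receptive [Finite S] (p : ℕ) [Fact p.Prime] (hS : IsPGroup p S)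
    (D : Fusion.KNormData F Q K N E) (hsat : F.IsSaturated p) {P : Subgroup Ω}
    (hP : E.IsFullyNormalized P) : E.IsReceptive P := by
  obtain ⟨hRc, hcard⟩ := D.main p hS hsat hP
  have hRrec : F.IsReceptive (P ⊔ Q) := Fusion.receptive_of_fullyCentralized p hS F hsat hRc
  have hPN : P ≤ N := hP.1
  have hNS : N ≤ S := D.N_le
  have hPS : P ≤ S := hPN.trans hNS
  have hRS : P ⊔ Q ≤ S := sup_le hPS D.hQS
  have : Finite ↥(P ⊔ Q) := Fusion.finite_of_le hRS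
  have : Finite P := Fusion.finite_of_le hPS
  have : Finite (MulAut ↥(P ⊔ Q)) := inferInstance
  have hASA : autInducedBy (normalizerIn N P) (P ⊔ Q) ≤ Fusion.kStab F K P :=
    D.autInducedBy_le_kStab hPN
  have hASS : autInducedBy (normalizerIn N P) (P ⊔ Q) ≤ autInducedBy S (P ⊔ Q) := by
    intro α hα
    rw [mem_autInducedBy_iff] at hα ⊢
    obtain ⟨g, hg, h⟩ := hα
    exact ⟨g, hNS (Subgroup.mem_inf.mp hg).1, h⟩
  have hASp : IsPGroup p (autInducedBy (normalizerIn N P) (P ⊔ Q)) :=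
    (Fusion.isPGroup_autInducedBy p hS (P ⊔ Q)).to_le hASS
  refine ⟨hPN, fun P₀ φ₀ hφ₀ hr => ?_⟩
  obtain ⟨hφ₀F, hP₀N, hφ₀N, φb, hφb, hφbext, κ₁, hκ₁, hφbκ⟩ := (D.hE P₀ φ₀).mp hφ₀
  have hP₀S : P₀ ≤ S := hP₀N.trans hNS
  have hR₀S : P₀ ⊔ Q ≤ S := sup_le hP₀S D.hQS
  have hφbr : φb.range = P ⊔ Q := Fusion.range_eq_sup_of_ext φb φ₀ hr hφbext κ₁ hφbκ
  have hφbinj := F.injective_of_mem hφb
  have hφ₀P : ∀ x : P₀, φ₀ x ∈ P := fun x => hr ▸ ⟨x, rfl⟩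
  -- the transported conjugation action
  have he1 : ∀ x₀ : P₀, Fusion.equivOfRange φb hφbinj hφbr (Subgroup.inclusion le_sup_left x₀) =
      Subgroup.inclusion le_sup_left (⟨φ₀ x₀, hφ₀P x₀⟩ : P) := fun x₀ => Subtype.ext (hφbext x₀)
  have he2 : ∀ q : Q, Fusion.equivOfRange φb hφbinj hφbr (Subgroup.inclusion le_sup_right q) =
      Subgroup.inclusion le_sup_right (κ₁ q) := fun q => Subtype.ext (hφbκ q)
  have hδ : ∀ (n : Subgroup.normalizer ((P₀ ⊔ Q : Subgroup Ω) : Set Ω)) (w : ↥(P₀ ⊔ Q)),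
      (MulAut.congr (Fusion.equivOfRange φb hφbinj hφbr)) (conjAutHom (P₀ ⊔ Q) n)
        (Fusion.equivOfRange φb hφbinj hφbr w) =
        Fusion.equivOfRange φb hφbinj hφbr (conjAutHom (P₀ ⊔ Q) n w) := by
    intro n w
    simp [MulAut.congr_apply]
  -- the extender lies in the normalizer of `P₀`
  have hN₀le : extender N P₀ φ₀ ≤ normalizerIn N P₀ := by
    refine (Subgroup.closure_le _).mpr ?_
    rintro g ⟨hgN, hgP₀, -⟩
    exact Subgroup.mem_inf.mpr ⟨hgN, hgP₀⟩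
  have hN₀norm : extender N P₀ φ₀ ≤ Subgroup.normalizer ((P₀ ⊔ Q : Subgroup Ω) : Set Ω) :=
    hN₀le.trans (D.normalizerIn_le_normalizer_sup P₀)
  have hN₀N : extender N P₀ φ₀ ≤ N := hN₀le.trans inf_le_left
  have hN₀S : extender N P₀ φ₀ ≤ S := hN₀N.trans hNS
  -- generators act through `A_S ⊔ kFix`
  have hgen : ∀ g : Ω, g ∈ N → ∀ hgP₀ : g ∈ Subgroup.normalizer (P₀ : Set Ω), ∀ h ∈ N,
      (∀ (x : P₀) (hx : g * (x : Ω) * g⁻¹ ∈ P₀), φ₀ ⟨g * x * g⁻¹, hx⟩ = h * φ₀ x * h⁻¹) →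
      ∀ hgR : g ∈ Subgroup.normalizer ((P₀ ⊔ Q : Subgroup Ω) : Set Ω),
      (MulAut.congr (Fusion.equivOfRange φb hφbinj hφbr)) (conjAutHom (P₀ ⊔ Q) ⟨g, hgR⟩) ∈
        autInducedBy (normalizerIn N P) (P ⊔ Q) ⊔ Fusion.kFix F K P := by
    intro g hgN hgP₀ h hhN hh hgR
    obtain ⟨hgS, κg, hκg, hgκ⟩ := (D.hN g).mp hgN
    have hhP : h ∈ Subgroup.normalizer (P : Set Ω) := by
      apply mem_normalizer_of_conj_mem_of_finite
      intro y hy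
      rw [← hr] at hy
      obtain ⟨x, rfl⟩ := hy
      have hx : g * (x : Ω) * g⁻¹ ∈ P₀ := (Subgroup.mem_normalizer_iff.mp hgP₀ x).mp x.2
      rw [← hh x hx]
      exact hφ₀P _
    have hhNP : h ∈ normalizerIn N P := Subgroup.mem_inf.mpr ⟨hhN, hhP⟩
    have hhR := D.normalizerIn_le_normalizer_sup P hhNP
    have hch : conjAutHom (P ⊔ Q) ⟨h, hhR⟩ ∈ autInducedBy (normalizerIn N P) (P ⊔ Q) :=
      Fusion.conjAutHom_mem_autInducedBy (S := normalizerIn N P) (P ⊔ Q) ⟨h, hhR⟩ hhNP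
    set δ : MulAut ↥(P ⊔ Q) :=
      (MulAut.congr (Fusion.equivOfRange φb hφbinj hφbr)) (conjAutHom (P₀ ⊔ Q) ⟨g, hgR⟩) with hδdef
    -- action of `δ` on `P`
    have hδP : ∀ x : P, δ (Subgroup.inclusion le_sup_left x) =
        conjAutHom (P ⊔ Q) ⟨h, hhR⟩ (Subgroup.inclusion le_sup_left x) := by
      intro x
      have hx : (x : Ω) ∈ φ₀.range := by rw [hr]; exact x.2
      obtain ⟨x₀, hx₀⟩ := hx
      have hxx₀ : x = ⟨φ₀ x₀, hφ₀P x₀⟩ := Subtype.ext hx₀.symm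
      rw [hxx₀, ← he1, hδdef, hδ]
      have hx' : g * (x₀ : Ω) * g⁻¹ ∈ P₀ := (Subgroup.mem_normalizer_iff.mp hgP₀ x₀).mp x₀.2
      have h1 : conjAutHom (P₀ ⊔ Q) ⟨g, hgR⟩ (Subgroup.inclusion le_sup_left x₀) =
          Subgroup.inclusion le_sup_left (⟨g * x₀ * g⁻¹, hx'⟩ : P₀) := Subtype.ext rfl
      rw [h1, he1, he1]
      apply Subtype.ext
      show φ₀ ⟨g * x₀ * g⁻¹, hx'⟩ = h * φ₀ x₀ * h⁻¹
      exact hh x₀ hx'
    -- action of `δ` on `Q`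
    have hδQ : ∀ y : Q, δ (Subgroup.inclusion le_sup_right y) =
        Subgroup.inclusion le_sup_right ((κ₁ * κg * κ₁⁻¹) y) := by
      intro y
      have hy : y = κ₁ (κ₁⁻¹ y) := (MulAut.apply_inv_self _ _ _).symm
      rw [hy, ← he2, hδdef, hδ]
      have h1 : conjAutHom (P₀ ⊔ Q) ⟨g, hgR⟩ (Subgroup.inclusion le_sup_right (κ₁⁻¹ y)) =
          Subgroup.inclusion le_sup_right (κg (κ₁⁻¹ y)) := Subtype.ext (hgκ _)
      rw [h1, he2]
      simp [MulAut.mul_apply]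
    have hδA : δ ∈ Fusion.kStab F K P := by
      apply Fusion.mem_kStab_of_maps
      · apply Fusion.congr_mem_autGroup F hφb hφbr
        apply Fusion.autInducedBy_le_autGroup F hR₀S
        exact Fusion.conjAutHom_mem_autInducedBy (P₀ ⊔ Q) ⟨g, hgR⟩ hgS
      · intro x
        rw [hδP x]
        show h * (x : Ω) * h⁻¹ ∈ P
        exact (Subgroup.mem_normalizer_iff.mp hhP x).mp x.2
      · refine ⟨κ₁ * κg * κ₁⁻¹, K.mul_mem (K.mul_mem hκ₁ hκg) (K.inv_mem hκ₁), fun y => ?_⟩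
        rw [hδQ y]
        rfl
    have hfix : (conjAutHom (P ⊔ Q) ⟨h, hhR⟩)⁻¹ * δ ∈ Fusion.kFix F K P := by
      refine ⟨Subgroup.mul_mem _ (Subgroup.inv_mem _ (hASA hch)) hδA, fun x => ?_⟩
      rw [MulAut.mul_apply, hδP x, MulAut.inv_apply_self]
    have : δ = conjAutHom (P ⊔ Q) ⟨h, hhR⟩ * ((conjAutHom (P ⊔ Q) ⟨h, hhR⟩)⁻¹ * δ) := by group
    rw [this]
    exact Subgroup.mul_mem _ (Subgroup.mem_sup_left hch) (Subgroup.mem_sup_right hfix)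
  -- the image `D'` of the extender
  set δhom : ↥(Subgroup.normalizer ((P₀ ⊔ Q : Subgroup Ω) : Set Ω)) →* MulAut ↥(P ⊔ Q) :=
    (MulAut.congr (Fusion.equivOfRange φb hφbinj hφbr)).toMonoidHom.comp (conjAutHom (P₀ ⊔ Q))
    with hδhom
  have hD'le : ((extender N P₀ φ₀).subgroupOf (Subgroup.normalizer ((P₀ ⊔ Q : Subgroup Ω) : Set Ω))).map
      δhom ≤ autInducedBy (normalizerIn N P) (P ⊔ Q) ⊔ Fusion.kFix F K P := by
    rw [Subgroup.map_le_iff_le_comap]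
    intro n hn
    rw [Subgroup.mem_subgroupOf] at hn
    have hle : extender N P₀ φ₀ ≤
        ((autInducedBy (normalizerIn N P) (P ⊔ Q) ⊔ Fusion.kFix F K P).comap δhom).map
          (Subgroup.normalizer ((P₀ ⊔ Q : Subgroup Ω) : Set Ω)).subtype := by
      refine (Subgroup.closure_le _).mpr ?_
      rintro g ⟨hgN, hgP₀, h, hhN, hh⟩
      have hgR : g ∈ Subgroup.normalizer ((P₀ ⊔ Q : Subgroup Ω) : Set Ω) :=
        D.normalizerIn_le_normalizer_sup P₀ (Subgroup.mem_inf.mpr ⟨hgN, hgP₀⟩)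
      exact ⟨⟨g, hgR⟩, hgen g hgN hgP₀ h hhN hh hgR, rfl⟩
    obtain ⟨n', hn', hnn'⟩ := hle hn
    have : n' = n := Subtype.ext hnn'
    rw [← this]
    exact hn'
  have hD'p : IsPGroup p (((extender N P₀ φ₀).subgroupOf
      (Subgroup.normalizer ((P₀ ⊔ Q : Subgroup Ω) : Set Ω))).map δhom) :=
    ((hS.to_le hN₀S).comap_subtype).map _
  obtain ⟨b, hbfix, hbconj⟩ := exists_conj_le_of_le_sup (p := p) hASA hcard (Fusion.kFix_le F K P)
    (hASA.trans (Fusion.kStab_le_normalizer_kFix F K P)) hASp hD'p hD'le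
  obtain ⟨⟨hbF, hbP, κb, hκb, hbκ⟩, hbfixP⟩ := hbfix
  -- the twisted extension
  have hφbR : ∀ z : ↥(P₀ ⊔ Q), φb z ∈ P ⊔ Q := fun z => hφbr ▸ ⟨z, rfl⟩
  have hb' := (Fusion.mem_autGroup_iff F hRS b).mp hbF
  have hψ₁ := F.comp_mem hφb hb' hφbR
  set ψ₁ : ↥(P₀ ⊔ Q) →* Ω :=
    ((P ⊔ Q).subtype.comp b.toMonoidHom).comp (φb.codRestrict (P ⊔ Q) hφbR) with hψ₁def
  have hψ₁x : ∀ z : ↥(P₀ ⊔ Q), ψ₁ z = ((b (Fusion.equivOfRange φb hφbinj hφbr z) : ↥(P ⊔ Q)) : Ω) :=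
    fun z => rfl
  have hψ₁r : ψ₁.range = P ⊔ Q := by
    ext y
    constructor
    · rintro ⟨z, rfl⟩
      rw [hψ₁x]
      exact (b _).2
    · intro hy
      refine ⟨(Fusion.equivOfRange φb hφbinj hφbr).symm (b⁻¹ ⟨y, hy⟩), ?_⟩
      rw [hψ₁x, MulEquiv.apply_symm_apply, MulAut.apply_inv_self]
  have hN₀ext : extender N P₀ φ₀ ≤ extender S (P₀ ⊔ Q) ψ₁ := by
    intro g hg
    apply Subgroup.subset_closure
    have hgR := hN₀norm hg
    refine ⟨hN₀S hg, hgR, ?_⟩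
    have hmem : (MulAut.conj b) (δhom ⟨g, hgR⟩) ∈ autInducedBy (normalizerIn N P) (P ⊔ Q) := by
      apply hbconj
      refine ⟨δhom ⟨g, hgR⟩, ⟨⟨g, hgR⟩, ?_, rfl⟩, rfl⟩
      rw [SetLike.mem_coe, Subgroup.mem_subgroupOf]
      exact hg
    rw [mem_autInducedBy_iff] at hmem
    obtain ⟨h', hh', hconj⟩ := hmem
    refine ⟨h', hNS (Subgroup.mem_inf.mp hh').1, fun z hz => ?_⟩
    have h1 := hconj (b (Fusion.equivOfRange φb hφbinj hφbr z))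
    rw [hψ₁x, hψ₁x, ← h1, MulAut.conj_apply]
    simp only [MulAut.mul_apply, MulAut.inv_apply_self]
    have h2 : δhom ⟨g, hgR⟩ (Fusion.equivOfRange φb hφbinj hφbr z) =
        Fusion.equivOfRange φb hφbinj hφbr (conjAutHom (P₀ ⊔ Q) ⟨g, hgR⟩ z) := hδ ⟨g, hgR⟩ z
    rw [h2]
    rfl
  obtain ⟨ψ, hψ, hψext⟩ := hRrec.2 (P₀ ⊔ Q) ψ₁ hψ₁ hψ₁r
  have hR₀ext : P₀ ⊔ Q ≤ extender S (P₀ ⊔ Q) ψ₁ :=
    Fusion.le_extender (P₀ ⊔ Q) hR₀S ψ₁ (Fusion.map_mem F hψ₁)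
  have hNQext : extender N P₀ φ₀ ⊔ Q ≤ extender S (P₀ ⊔ Q) ψ₁ :=
    sup_le hN₀ext (le_sup_right.trans hR₀ext)
  have hψ'' := Fusion.restrict_mem F hψ hNQext
  have hψ' := Fusion.restrict_mem F hψ hN₀ext
  -- values on `Q`
  have hψQ : ∀ q : Q, ψ ⟨q.1, hNQext (le_sup_right (a := extender N P₀ φ₀) q.2)⟩ =
      (((κb * κ₁) q : Q) : Ω) := by
    intro q
    rw [hψext q.1 (le_sup_right (a := P₀) q.2), hψ₁x]
    have : (⟨q.1, le_sup_right (a := P₀) q.2⟩ : ↥(P₀ ⊔ Q)) = Subgroup.inclusion le_sup_right q := rfl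
    rw [this, he2, hbκ]
    rfl
  refine ⟨ψ.comp (Subgroup.inclusion hN₀ext), ?_, ?_⟩
  · rw [D.hE]
    refine ⟨hψ', hN₀N, fun g => ?_, ψ.comp (Subgroup.inclusion hNQext), hψ'', fun x => rfl,
      κb * κ₁, K.mul_mem hκb hκ₁, fun q => hψQ q⟩
    obtain ⟨-, κg, hκg, hgκ⟩ := (D.hN g.1).mp (hN₀N g.2)
    apply D.mem_N_of_conj (Fusion.map_mem F hψ' g) (K.mul_mem hκb hκ₁) hκg
    intro q
    rw [← hψQ, ← hψQ]
    show ψ ⟨g.1, hN₀ext g.2⟩ * _ * (ψ ⟨g.1, hN₀ext g.2⟩)⁻¹ = _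
    rw [← map_inv, ← map_mul, ← map_mul]
    congr 1
    apply Subtype.ext
    exact hgκ q
  · intro x hxP hxN
    show ψ ⟨x, hN₀ext hxN⟩ = _
    rw [hψext x (le_sup_left (b := Q) hxP), hψ₁x]
    have : (⟨x, le_sup_left (b := Q) hxP⟩ : ↥(P₀ ⊔ Q)) = Subgroup.inclusion le_sup_left ⟨x, hxP⟩ := rfl
    rw [this, he1, hbfixP]
    rfl

/-- The `K`-normalizer system is saturated. -/
theorem isSaturated [Finite S] (p : ℕ) [Fact p.Prime] (hS : IsPGroup p S)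
    (D : Fusion.KNormData F Q K N E) (hsat : F.IsSaturated p) : E.IsSaturated p := by
  have : Finite N := Fusion.finite_of_le D.N_le
  intro P hP
  obtain ⟨P', hPP', hP'⟩ := Fusion.exists_isConj_fullyNormalized E hP
  exact ⟨P', hPP', D.fullyAutomized p hS hsat hP', D.receptive p hS hsat hP'⟩

end Fusion.KNormData

end Cfsg.Agent.Lead
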