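import Mathlib
import Cfsg.Prelude.Def_FusionSystem
import Cfsg.Agent.Lead.FusionKNorm5

set_option autoImplicit false

namespace Cfsg.Agent.Lead

open Cfsg Cfsg.FusionSystem

variable {Ω : Type*} [Group Ω] {S : Subgroup Ω}

/-- An injective endomorphism of a finite group given by values in `Ω` yields an automorphism. -/
theorem exists_mulAut_of_injective {Q : Subgroup Ω} [Finite Q] (f : Q →* Ω) (hf : Function.Injective f)
    (hQ : ∀ x : Q, f x ∈ Q) : ∃ κ : MulAut Q, ∀ x : Q, f x = ((κ x : Q) : Ω) := by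
  set f' : Q →* Q := f.codRestrict Q hQ with hf'
  have hinj : Function.Injective f' := by
    intro x y hxy
    exact hf (congrArg Subtype.val hxy)
  have hbij : Function.Bijective f' := ⟨hinj, Finite.injective_iff_surjective.mp hinj⟩
  exact ⟨MulEquiv.ofBijective f' hbij, fun x => rfl⟩

/-- The normalizer system data. -/
theorem Fusion.kNormData_normalizer [Finite S] (p : ℕ) [Fact p.Prime] (hS : IsPGroup p S)
    (F : FusionSystem S) (hF : F.IsSaturated p) (Q : Subgroup Ω) (hQ : F.IsFullyNormalized Q)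
    (E : FusionSystem (normalizerIn S Q)) (hE : F.IsNormalizerSystem Q E) :
    Fusion.KNormData F Q ⊤ (normalizerIn S Q) E := by
  have hQS : Q ≤ S := hQ.1
  have : Finite Q := Fusion.finite_of_le hQS
  obtain ⟨hQc, hQa⟩ := Fusion.fullyCentralized_fullyAutomized_of_fullyNormalized p hS F hF hQ
  have hQr := Fusion.receptive_of_fullyCentralized p hS F hF hQc
  refine ⟨hQS, fun s => ?_, fun P φ => ?_, fun σ hσ M hMS hM => ?_⟩
  · constructor
    · intro hs
      have hsN := (Subgroup.mem_inf.mp hs).2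
      exact ⟨(Subgroup.mem_inf.mp hs).1, conjAut Q s hsN, Subgroup.mem_top _, fun x => rfl⟩
    · rintro ⟨hsS, κ, -, hκ⟩
      exact Subgroup.mem_inf.mpr ⟨hsS, mem_normalizer_of_conj_eq_aut Q κ s (fun x => (hκ x).symm)⟩
  · rw [hE P]
    constructor
    · rintro ⟨h1, h2, h3, ψ, hψ, hψext, hψQ⟩
      refine ⟨h1, h2, h3, ψ, hψ, hψext, ?_⟩
      have hmem : ∀ x : Q, ψ (Subgroup.inclusion le_sup_right x) ∈ Q := by
        intro x
        apply hψQ.le
        refine ⟨_, ?_, rfl⟩
        rw [SetLike.mem_coe, Subgroup.mem_subgroupOf]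
        exact x.2
      obtain ⟨κ, hκ⟩ := exists_mulAut_of_injective (ψ.comp (Subgroup.inclusion le_sup_right))
        (fun x y hxy => Subgroup.inclusion_injective _ (F.injective_of_mem hψ hxy)) hmem
      exact ⟨κ, Subgroup.mem_top _, hκ⟩
    · rintro ⟨h1, h2, h3, ψ, hψ, hψext, κ, -, hκ⟩
      refine ⟨h1, h2, h3, ψ, hψ, hψext, ?_⟩
      ext y
      constructor
      · rintro ⟨z, hz, rfl⟩
        rw [SetLike.mem_coe, Subgroup.mem_subgroupOf] at hz
        have : z = Subgroup.inclusion le_sup_right ⟨z.1, hz⟩ := rfl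
        rw [this, hκ]
        exact (κ _).2
      · intro hy
        refine ⟨Subgroup.inclusion le_sup_right (κ⁻¹ ⟨y, hy⟩), ?_, ?_⟩
        · rw [SetLike.mem_coe, Subgroup.mem_subgroupOf]
          exact (κ⁻¹ ⟨y, hy⟩).2
        · rw [hκ, MulAut.apply_inv_self]
  · have hσS : σ.range ≤ S := Fusion.range_le F hσ
    have : Finite σ.range := Fusion.finite_of_le hσS
    have hconj : F.IsConj σ.range Q := Fusion.isConj_symm F ⟨σ, hσ, rfl⟩
    obtain ⟨ρ₀, hρ₀, hρ₀N, hρ₀Q⟩ := Fusion.exists_hom_normalizerIn p hS F hQa hQr hconj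
    have hle : σ.range ⊔ M ≤ normalizerIn S σ.range := by
      apply sup_le (Fusion.le_normalizerIn hσS)
      intro g hg
      refine Subgroup.mem_inf.mpr ⟨hMS hg, ?_⟩
      apply mem_normalizer_of_conj_mem_of_finite
      rintro _ ⟨x, rfl⟩
      obtain ⟨κ, -, hκ⟩ := hM g hg
      rw [hκ x]
      exact ⟨_, rfl⟩
    have hρ := Fusion.restrict_mem F hρ₀ hle
    have hmem : ∀ x : Q, ρ₀ ⟨σ x, hle (le_sup_left (b := M) ⟨x, rfl⟩)⟩ ∈ Q := by
      intro x
      apply hρ₀Q.le
      refine ⟨_, ?_, rfl⟩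
      rw [SetLike.mem_coe, Subgroup.mem_subgroupOf]
      exact ⟨x, rfl⟩
    set f : Q →* Ω := ρ₀.comp (σ.codRestrict (normalizerIn S σ.range)
      (fun x => hle (le_sup_left (b := M) ⟨x, rfl⟩))) with hf
    have hfinj : Function.Injective f := by
      intro x y hxy
      have h1 := F.injective_of_mem hρ₀ hxy
      exact F.injective_of_mem hσ (congrArg Subtype.val h1)
    obtain ⟨κ₀, hκ₀⟩ := exists_mulAut_of_injective f hfinj hmem
    exact ⟨ρ₀.comp (Subgroup.inclusion hle), hρ, κ₀, Subgroup.mem_top _, fun x => hκ₀ x⟩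

/-- The centralizer system data. -/
theorem Fusion.kNormData_centralizer [Finite S] (p : ℕ) [Fact p.Prime] (hS : IsPGroup p S)
    (F : FusionSystem S) (hF : F.IsSaturated p) (Q : Subgroup Ω) (hQ : F.IsFullyCentralized Q)
    (E : FusionSystem (centralizerIn S Q)) (hE : F.IsCentralizerSystem Q E) :
    Fusion.KNormData F Q ⊥ (centralizerIn S Q) E := by
  have hQS : Q ≤ S := hQ.1
  have hQr := Fusion.receptive_of_fullyCentralized p hS F hF hQ
  refine ⟨hQS, fun s => ?_, fun P φ => ?_, fun σ hσ M hMS hM => ?_⟩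
  · constructor
    · intro hs
      have hsC := (Subgroup.mem_inf.mp hs).2
      rw [Subgroup.mem_centralizer_iff] at hsC
      refine ⟨(Subgroup.mem_inf.mp hs).1, 1, Subgroup.one_mem _, fun x => ?_⟩
      rw [MulAut.one_apply, ← hsC x.1 x.2]
      group
    · rintro ⟨hsS, κ, hκ, hsκ⟩
      rw [Subgroup.mem_bot] at hκ
      subst hκ
      refine Subgroup.mem_inf.mpr ⟨hsS, ?_⟩
      rw [Subgroup.mem_centralizer_iff]
      intro y hy
      have := hsκ ⟨y, hy⟩
      rw [MulAut.one_apply] at this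
      calc y * s = (s * y * s⁻¹) * s := by rw [this]
        _ = s * y := by group
  · rw [hE P]
    constructor
    · rintro ⟨h1, h2, h3, ψ, hψ, hψext, hψQ⟩
      exact ⟨h1, h2, h3, ψ, hψ, hψext, 1, Subgroup.one_mem _, hψQ⟩
    · rintro ⟨h1, h2, h3, ψ, hψ, hψext, κ, hκ, hψκ⟩
      rw [Subgroup.mem_bot] at hκ
      subst hκ
      exact ⟨h1, h2, h3, ψ, hψ, hψext, hψκ⟩
  · have hσS : σ.range ≤ S := Fusion.range_le F hσ
    obtain ⟨τ, hτ, hτinv, hτr⟩ := Fusion.exists_inv F hσ rfl
    obtain ⟨ψ, hψ, hψext⟩ := hQr.2 σ.range τ hτ hτr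
    have hle : σ.range ⊔ M ≤ extender S σ.range τ := by
      apply sup_le (Fusion.le_extender σ.range hσS τ (Fusion.map_mem F hτ))
      refine le_trans ?_ (Fusion.centralizerIn_le_extender σ.range τ)
      intro g hg
      refine Subgroup.mem_inf.mpr ⟨hMS hg, ?_⟩
      rw [Subgroup.mem_centralizer_iff]
      rintro _ ⟨x, rfl⟩
      obtain ⟨κ, hκ, hgκ⟩ := hM g hg
      rw [Subgroup.mem_bot] at hκ
      subst hκ
      have := hgκ x
      rw [MulAut.one_apply] at this
      calc σ x * g = (g * σ x * g⁻¹) * g := by rw [this]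
        _ = g * σ x := by group
    refine ⟨ψ.comp (Subgroup.inclusion hle), Fusion.restrict_mem F hψ hle, 1, Subgroup.one_mem _,
      fun x => ?_⟩
    show ψ ⟨σ x, _⟩ = _
    rw [hψext (σ x) ⟨x, rfl⟩]
    exact hτinv x _

/-- S5098: the normalizer system of a fully normalized subgroup is saturated. -/
theorem Fusion.normalizerSystem_isSaturated [Finite S] (p : ℕ) [Fact p.Prime] (hS : IsPGroup p S)
    (F : FusionSystem S) (hF : F.IsSaturated p) (Q : Subgroup Ω) (hQ : F.IsFullyNormalized Q)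
    (E : FusionSystem (normalizerIn S Q)) (hE : F.IsNormalizerSystem Q E) : E.IsSaturated p :=
  (Fusion.kNormData_normalizer p hS F hF Q hQ E hE).isSaturated p hS hF

/-- S5099: the centralizer system of a fully centralized subgroup is saturated. -/
theorem Fusion.centralizerSystem_isSaturated [Finite S] (p : ℕ) [Fact p.Prime] (hS : IsPGroup p S)
    (F : FusionSystem S) (hF : F.IsSaturated p) (Q : Subgroup Ω) (hQ : F.IsFullyCentralized Q)
    (E : FusionSystem (centralizerIn S Q)) (hE : F.IsCentralizerSystem Q E) : E.IsSaturated p :=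
  (Fusion.kNormData_centralizer p hS F hF Q hQ E hE).isSaturated p hS hF

end Cfsg.Agent.Lead
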