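import Mathlib
import Cfsg.Prelude.Def_FusionComponents
import Cfsg.Agent.Lead.FusionRealized
import Cfsg.Agent.Lead.FusionNormalCrit
import Cfsg.Agent.Lead.FusionWeak
import Cfsg.Agent.Helper4.PCore

set_option autoImplicit false

namespace Cfsg.Agent.Lead

open Cfsg Cfsg.FusionSystem

variable {Ω : Type*} [Group Ω] {S : Subgroup Ω}

/-- A fusion system with a model is constrained. -/
theorem Fusion.isConstrained_of_isModel [Finite S] (p : ℕ) [Fact p.Prime] (F : FusionSystem S)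
    {G : Type*} [Group G] (ι : S →* G) (hG : F.IsModel p G ι) : F.IsConstrained p := by
  obtain ⟨hfin, hι, ⟨T, hT⟩, hcent⟩ := hG
  haveI := hfin
  refine ⟨Fusion.isSaturated_of_isRealizedBy p F ι hι T hT, ?_⟩
  obtain ⟨hinj, hreal⟩ := hι
  have hOn : (pCore p G).Normal := Cfsg.Agent.Helper4.pCore_normal
  have hOT : pCore p G ≤ T := Cfsg.Agent.Helper4.pCore_le_sylow T
  set β := Fusion.invOfRange ι hinj hT with hβ
  have hιβ : ∀ t : (T : Subgroup G), ι (β t) = t := Fusion.map_invOfRange ι hinj hT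
  have hιT : ∀ s : S, ι s ∈ (T : Subgroup G) := fun s => hT ▸ ⟨s, rfl⟩
  set Q : Subgroup Ω := ((pCore p G).comap ι).map S.subtype with hQ
  have hQS : Q ≤ S := by rintro _ ⟨s, -, rfl⟩; exact s.2
  have hmemQ : ∀ (x : Ω) (hx : x ∈ S), x ∈ Q ↔ ι ⟨x, hx⟩ ∈ pCore p G := by
    intro x hx
    constructor
    · rintro ⟨s, hs, hsx⟩
      have : s = ⟨x, hx⟩ := Subtype.ext hsx
      rw [← this]; exact hs
    · intro h; exact ⟨⟨x, hx⟩, h, rfl⟩
  have hQnormal : F.IsNormal Q := by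
    refine ⟨hQS, fun P φ hφ => ?_⟩
    have hPS := Fusion.src_le F hφ
    have hφS := fun x => Fusion.map_mem F hφ x
    obtain ⟨g, hg⟩ := (hreal P hPS φ hφS).mp hφ
    have hPQS : P ⊔ Q ≤ S := sup_le hPS hQS
    set M : Subgroup Ω :=
      ((T : Subgroup G).comap ((MulAut.conj g).toMonoidHom.comp ι)).map S.subtype with hM
    have hPM : P ≤ M := by
      intro x hx
      refine ⟨⟨x, hPS hx⟩, ?_, rfl⟩
      show g * ι ⟨x, _⟩ * g⁻¹ ∈ (T : Subgroup G)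
      rw [← hg ⟨x, hx⟩]; exact hιT _
    have hQM : Q ≤ M := by
      rintro _ ⟨s, hs, rfl⟩
      refine ⟨s, ?_, rfl⟩
      show g * ι s * g⁻¹ ∈ (T : Subgroup G)
      exact hOT (hOn.conj_mem _ hs g)
    have hPQM : P ⊔ Q ≤ M := sup_le hPM hQM
    have hconjT : ∀ y : ↥(P ⊔ Q),
        ((MulAut.conj g).toMonoidHom.comp (ι.comp (Subgroup.inclusion hPQS))) y ∈
          (T : Subgroup G) := by
      intro y
      obtain ⟨s, hs, hsy⟩ := hPQM y.2
      have : s = ⟨y.1, hPQS y.2⟩ := Subtype.ext hsy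
      rw [this] at hs
      exact hs
    set ψ : ↥(P ⊔ Q) →* Ω := S.subtype.comp (β.toMonoidHom.comp
      (((MulAut.conj g).toMonoidHom.comp (ι.comp (Subgroup.inclusion hPQS))).codRestrict
        (T : Subgroup G) hconjT)) with hψ
    have hψS : ∀ y, ψ y ∈ S := fun y => (β _).2
    have hιψ : ∀ y : ↥(P ⊔ Q), ι ⟨ψ y, hψS y⟩ = g * ι ⟨y.1, hPQS y.2⟩ * g⁻¹ := by
      intro y
      have : (⟨ψ y, hψS y⟩ : S) = β ⟨_, hconjT y⟩ := rfl
      rw [this, hιβ]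
      rfl
    refine ⟨ψ, (hreal _ hPQS ψ hψS).mpr ⟨g, hιψ⟩, fun x => ?_, ?_⟩
    · have h1 : (⟨ψ (Subgroup.inclusion le_sup_left x), hψS _⟩ : S) = ⟨φ x, hφS x⟩ := by
        apply hinj
        rw [hιψ, hg]; rfl
      exact congrArg Subtype.val h1
    · ext q
      constructor
      · rintro ⟨y, hy, rfl⟩
        rw [SetLike.mem_coe, Subgroup.mem_subgroupOf] at hy
        rw [hmemQ _ (hψS y), hιψ]
        exact hOn.conj_mem _ ((hmemQ y.1 (hPQS y.2)).mp hy) g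
      · intro hq
        have hqS := hQS hq
        have hqO := (hmemQ q hqS).mp hq
        have h1 : g⁻¹ * ι ⟨q, hqS⟩ * g ∈ pCore p G := by
          simpa using hOn.conj_mem _ hqO g⁻¹
        set y₀ : S := β ⟨g⁻¹ * ι ⟨q, hqS⟩ * g, hOT h1⟩ with hy₀def
        have hy₀ : ι y₀ = g⁻¹ * ι ⟨q, hqS⟩ * g := hιβ _
        have hy₀Q : (y₀ : Ω) ∈ Q := (hmemQ y₀.1 y₀.2).mpr (by
          show ι y₀ ∈ pCore p G
          rw [hy₀]; exact h1)
        refine ⟨⟨y₀.1, (le_sup_right : Q ≤ P ⊔ Q) hy₀Q⟩, ?_, ?_⟩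
        · rw [SetLike.mem_coe, Subgroup.mem_subgroupOf]; exact hy₀Q
        · have h2 : (⟨ψ ⟨y₀.1, (le_sup_right : Q ≤ P ⊔ Q) hy₀Q⟩, hψS _⟩ : S) = ⟨q, hqS⟩ := by
            apply hinj
            rw [hιψ]
            show g * ι y₀ * g⁻¹ = ι ⟨q, hqS⟩
            rw [hy₀]; group
          exact congrArg Subtype.val h2
  refine ⟨Q, hQnormal, hQS, fun R hR => ?_⟩
  obtain ⟨φ, hφ, hr⟩ := hR
  have hRQ : R = Q := by
    rw [← hr]
    exact (Fusion.weaklyClosed_of_stronglyClosed F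
      (Fusion.stronglyClosed_of_isNormal F hQnormal)).2 φ hφ
  rw [hRQ]
  intro x hx
  obtain ⟨hxS, hxC⟩ := Subgroup.mem_inf.mp hx
  rw [hmemQ x hxS]
  apply hcent
  rw [Subgroup.mem_centralizer_iff]
  intro o ho
  have hor : o ∈ ι.range := hT ▸ hOT ho
  obtain ⟨s, rfl⟩ := hor
  have hsQ : (s : Ω) ∈ Q := (hmemQ s.1 s.2).mpr ho
  have h1 := hxC s.1 hsQ
  rw [← map_mul, ← map_mul]
  congr 1
  exact Subtype.ext h1

end Cfsg.Agent.Lead
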