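import Mathlib
import Cfsg.Prelude.Def_FusionSystem
import Cfsg.Agent.Lead.FusionKNorm6
import Cfsg.Agent.Lead.FusionModel
import Cfsg.Agent.Lead.FusionStab
import Cfsg.Agent.Lead.FusionAlperin
import Cfsg.Agent.Helper4.PCore

set_option autoImplicit false

namespace Cfsg.Agent.Lead

open Cfsg Cfsg.FusionSystem

variable {Ω : Type*} [Group Ω] {S : Subgroup Ω}

/-- `R` is normal in its normalizer system. -/
theorem Fusion.normalizerSystem_isNormal (F : FusionSystem S) {R : Subgroup Ω} (hRS : R ≤ S)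
    (E : FusionSystem (normalizerIn S R)) (hE : F.IsNormalizerSystem R E) : E.IsNormal R := by
  refine ⟨Fusion.le_normalizerIn hRS, fun P φ hφ => ?_⟩
  rw [hE P] at hφ
  obtain ⟨hφF, hPN, hφN, ψ, hψ, hψext, hψR⟩ := hφ
  refine ⟨ψ, ?_, hψext, hψR⟩
  rw [hE (P ⊔ R)]
  have hle : (P ⊔ R) ⊔ R ≤ P ⊔ R := sup_le le_rfl le_sup_right
  refine ⟨hψ, sup_le hPN (Fusion.le_normalizerIn hRS), ?_, ψ.comp (Subgroup.inclusion hle),
    Fusion.restrict_mem F hψ hle, fun x => ?_, ?_⟩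
  · apply Fusion.sup_map_mem
    · intro x
      rw [hψext]
      exact hφN x
    · intro x
      apply Fusion.le_normalizerIn hRS
      apply hψR.le
      refine ⟨_, ?_, rfl⟩
      rw [SetLike.mem_coe, Subgroup.mem_subgroupOf]
      exact x.2
  · show ψ _ = ψ x
    congr 1
  · ext y
    constructor
    · rintro ⟨z, hz, rfl⟩
      rw [SetLike.mem_coe, Subgroup.mem_subgroupOf] at hz
      apply hψR.le
      refine ⟨Subgroup.inclusion hle z, ?_, rfl⟩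
      rw [SetLike.mem_coe, Subgroup.mem_subgroupOf]
      exact hz
    · intro hy
      obtain ⟨z, hz, hzy⟩ := hψR.ge hy
      rw [SetLike.mem_coe, Subgroup.mem_subgroupOf] at hz
      refine ⟨Subgroup.inclusion (le_sup_left : P ⊔ R ≤ (P ⊔ R) ⊔ R) z, ?_, ?_⟩
      · rw [SetLike.mem_coe, Subgroup.mem_subgroupOf]
        exact hz
      · rw [← hzy]
        show ψ _ = ψ z
        congr 1

/-- `Aut_{N_F(R)}(R) = Aut_F(R)`. -/
theorem Fusion.normalizerSystem_autGroup (F : FusionSystem S) {R : Subgroup Ω} (hRS : R ≤ S)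
    (E : FusionSystem (normalizerIn S R)) (hE : F.IsNormalizerSystem R E) :
    E.autGroup R = F.autGroup R := by
  have hRN : R ≤ normalizerIn S R := Fusion.le_normalizerIn hRS
  ext α
  rw [Fusion.mem_autGroup_iff E hRN, Fusion.mem_autGroup_iff F hRS, hE R]
  constructor
  · rintro ⟨h, -⟩
    exact h
  · intro h
    have hle : R ⊔ R ≤ R := sup_le le_rfl le_rfl
    refine ⟨h, hRN, fun x => hRN (α x).2, (R.subtype.comp α.toMonoidHom).comp (Subgroup.inclusion hle),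
      Fusion.restrict_mem F h hle, fun x => rfl, ?_⟩
    ext y
    constructor
    · rintro ⟨z, -, rfl⟩
      exact (α _).2
    · intro hy
      refine ⟨Subgroup.inclusion (le_sup_left : R ≤ R ⊔ R) (α.symm ⟨y, hy⟩), ?_, ?_⟩
      · rw [SetLike.mem_coe, Subgroup.mem_subgroupOf]
        exact (α.symm ⟨y, hy⟩).2
      · show ((α (α.symm ⟨y, hy⟩) : R) : Ω) = y
        simp

/-- A centric subgroup is centric in its normalizer system. -/
theorem Fusion.normalizerSystem_isCentric (F : FusionSystem S) {R : Subgroup Ω}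
    (hR : F.IsCentric R) (E : FusionSystem (normalizerIn S R)) (hE : F.IsNormalizerSystem R E) :
    E.IsCentric R := by
  have hRS := hR.1
  refine ⟨Fusion.le_normalizerIn hRS, fun Q' hQ' => ?_⟩
  obtain ⟨φ, hφ, hr⟩ := hQ'
  rw [hE R] at hφ
  obtain ⟨hφF, -, -, ψ, hψ, hψext, hψR⟩ := hφ
  have hQR : Q' = R := by
    rw [← hr]
    ext y
    constructor
    · rintro ⟨x, rfl⟩
      rw [← hψext]
      apply hψR.le
      refine ⟨_, ?_, rfl⟩
      rw [SetLike.mem_coe, Subgroup.mem_subgroupOf]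
      exact x.2
    · intro hy
      obtain ⟨z, hz, rfl⟩ := hψR.ge hy
      rw [SetLike.mem_coe, Subgroup.mem_subgroupOf] at hz
      refine ⟨⟨z.1, hz⟩, ?_⟩
      rw [← hψext]
      rfl
  rw [hQR]
  intro c hc
  apply hR.2 R (Fusion.isConj_refl F hRS)
  exact Subgroup.mem_inf.mpr ⟨(Subgroup.mem_inf.mp (Subgroup.mem_inf.mp hc).1).1, (Subgroup.mem_inf.mp hc).2⟩

/-- In a realized system, conjugation by `g` on a subgroup whose image is conjugated into the image of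
`S` is a map of the system. -/
theorem Fusion.exists_hom_of_conj_mem_range (F : FusionSystem S) {G : Type*} [Group G] (ι : S →* G)
    (hι : F.IsRealizedBy ι) {P : Subgroup Ω} (hP : P ≤ S) (g : G)
    (hg : ∀ x : P, g * ι ⟨x, hP x.2⟩ * g⁻¹ ∈ ι.range) :
    ∃ φ ∈ F.Hom P, ∃ hφ : ∀ x, φ x ∈ S, ∀ x : P, ι ⟨φ x, hφ x⟩ = g * ι ⟨x, hP x.2⟩ * g⁻¹ := by
  obtain ⟨hinj, hreal⟩ := hι
  set e := MonoidHom.ofInjective hinj with he
  set φ : P →* Ω := S.subtype.comp (e.symm.toMonoidHom.comp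
    (((MulAut.conj g).toMonoidHom.comp (ι.comp (Subgroup.inclusion hP))).codRestrict ι.range hg))
    with hφdef
  have hφS : ∀ x, φ x ∈ S := fun x => (e.symm _).2
  have hιφ : ∀ x : P, ι ⟨φ x, hφS x⟩ = g * ι ⟨x, hP x.2⟩ * g⁻¹ := by
    intro x
    have h1 : (⟨φ x, hφS x⟩ : S) = e.symm ⟨g * ι ⟨x, hP x.2⟩ * g⁻¹, hg x⟩ := rfl
    rw [h1]
    have h2 := e.apply_symm_apply ⟨g * ι ⟨x, hP x.2⟩ * g⁻¹, hg x⟩
    exact congrArg (fun z : ι.range => (z : G)) h2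
  exact ⟨φ, (hreal P hP φ hφS).mpr ⟨g, hιφ⟩, hφS, hιφ⟩

/-- In a model, the image of a subgroup normal in the system is a normal subgroup. -/
theorem Fusion.map_normal_of_isNormal_of_isModel [Finite S] (p : ℕ) [Fact p.Prime]
    (F : FusionSystem S) {G : Type*} [Group G] (ι : S →* G) (hG : F.IsModel p G ι)
    {R : Subgroup Ω} (hR : F.IsNormal R) : ((R.subgroupOf S).map ι).Normal := by
  obtain ⟨hfin, hι, ⟨T, hT⟩, hcent⟩ := hG
  obtain ⟨hinj, hreal⟩ := hι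
  have hOn : (pCore p G).Normal := Cfsg.Agent.Helper4.pCore_normal
  have hOT : pCore p G ≤ ι.range := hT ▸ Cfsg.Agent.Helper4.pCore_le_sylow T
  have hRS : R ≤ S := hR.1
  have hSR : S ≤ Subgroup.normalizer (R : Set Ω) :=
    Fusion.le_normalizer_of_stronglyClosed F (Fusion.stronglyClosed_of_isNormal F hR)
  set U₀ : Subgroup Ω := ((pCore p G).comap ι).map S.subtype with hU₀
  have hU₀S : U₀ ≤ S := by rintro _ ⟨s, -, rfl⟩; exact s.2
  have hmemU₀ : ∀ (x : Ω) (hx : x ∈ S), x ∈ U₀ ↔ ι ⟨x, hx⟩ ∈ pCore p G := by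
    intro x hx
    constructor
    · rintro ⟨s, hs, hsx⟩
      have : s = ⟨x, hx⟩ := Subtype.ext hsx
      rw [← this]; exact hs
    · intro h; exact ⟨⟨x, hx⟩, h, rfl⟩
  have hmemR : ∀ (x : Ω) (hx : x ∈ S), x ∈ R → ι ⟨x, hx⟩ ∈ (R.subgroupOf S).map ι := by
    intro x hx hxR
    refine ⟨⟨x, hx⟩, ?_, rfl⟩
    rw [SetLike.mem_coe, Subgroup.mem_subgroupOf]
    exact hxR
  constructor
  rintro _ ⟨r, hr, rfl⟩ g
  rw [SetLike.mem_coe, Subgroup.mem_subgroupOf] at hr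
  -- conjugation by `g` on `U₀`
  have hgU : ∀ x : U₀, g * ι ⟨x, hU₀S x.2⟩ * g⁻¹ ∈ ι.range := fun x =>
    hOT (hOn.conj_mem _ ((hmemU₀ x.1 (hU₀S x.2)).mp x.2) g)
  obtain ⟨φ, hφ, hφS, hιφ⟩ := Fusion.exists_hom_of_conj_mem_range F ι ⟨hinj, hreal⟩ hU₀S g hgU
  obtain ⟨ψ, hψ, hψext, hψR⟩ := hR.2 U₀ φ hφ
  have hUR : U₀ ⊔ R ≤ S := sup_le hU₀S hRS
  have hψS := fun y => Fusion.map_mem F hψ y
  obtain ⟨h, hh⟩ := (hreal (U₀ ⊔ R) hUR ψ hψS).mp hψ
  -- `h⁻¹ g` centralizes `O_p(G)`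
  have hcentr : h⁻¹ * g ∈ Subgroup.centralizer ((pCore p G : Subgroup G) : Set G) := by
    rw [Subgroup.mem_centralizer_iff]
    intro u hu
    obtain ⟨s, rfl⟩ := hOT hu
    have hsU₀ : (s : Ω) ∈ U₀ := (hmemU₀ s.1 s.2).mpr hu
    have h1 := hh (Subgroup.inclusion le_sup_left ⟨s.1, hsU₀⟩)
    have h2 := hιφ ⟨s.1, hsU₀⟩
    have h3 : (⟨ψ (Subgroup.inclusion le_sup_left ⟨s.1, hsU₀⟩), hψS _⟩ : S) =
        ⟨φ ⟨s.1, hsU₀⟩, hφS _⟩ := Subtype.ext (hψext _)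
    rw [h3, h2] at h1
    have h4 : g * ι s * g⁻¹ = h * ι s * h⁻¹ := h1
    calc ι s * (h⁻¹ * g) = h⁻¹ * (h * ι s * h⁻¹) * g := by group
      _ = h⁻¹ * (g * ι s * g⁻¹) * g := by rw [h4]
      _ = h⁻¹ * g * ι s := by group
  obtain ⟨n, hn⟩ := hOT (hcent hcentr)
  -- `n r n⁻¹ ∈ R`
  have hnr : (n : Ω) * r * (n : Ω)⁻¹ ∈ R :=
    (Subgroup.mem_normalizer_iff.mp (hSR n.2) r).mp hr
  have h1 := hh (Subgroup.inclusion le_sup_right ⟨(n : Ω) * r * (n : Ω)⁻¹, hnr⟩)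
  have h5 : g * ι r * g⁻¹ = h * ι (n * r * n⁻¹) * h⁻¹ := by
    rw [map_mul, map_mul, map_inv, hn]
    group
  rw [h5]
  have h6 : ι (n * r * n⁻¹) = ι ⟨((Subgroup.inclusion le_sup_right
      (⟨(n : Ω) * r * (n : Ω)⁻¹, hnr⟩ : R) : ↥(U₀ ⊔ R)) : Ω), hUR (Subgroup.inclusion le_sup_right
      (⟨(n : Ω) * r * (n : Ω)⁻¹, hnr⟩ : R)).2⟩ := by
    congr 1
  rw [h6, ← h1]
  apply hmemR
  apply hψR.le
  refine ⟨_, ?_, rfl⟩
  rw [SetLike.mem_coe, Subgroup.mem_subgroupOf]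
  exact hnr

end Cfsg.Agent.Lead
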