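import Mathlib
import Cfsg.Prelude.Def_FusionSystem
import Cfsg.Prelude.Def_Solvable
import Cfsg.Agent.Lead.Fusion
import Cfsg.Agent.Lead.FusionAut
import Cfsg.Agent.Lead.FusionConj
import Cfsg.Agent.Lead.FusionSat
import Cfsg.Agent.Lead.FusionSat2
import Cfsg.Agent.Lead.FusionNormModel
import Cfsg.Agent.Helper1.Cores
import Cfsg.Agent.Helper1.Fitting
import Cfsg.Agent.S5096

set_option autoImplicit false

/-!
`p`-stability of a fusion system and of the normalizer systems of its non-cyclic subgroups (S5247).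
-/

namespace Cfsg.Agent.Lead.PStab

open Cfsg Cfsg.FusionSystem Cfsg.Agent.Lead

/-- Pulling back the `p`-core along an injective homomorphism carrying `A` into `A'`. -/
theorem mem_pCore_of_map {X X' : Type*} [Group X] [Group X'] (p : ℕ) [Fact p.Prime]
    (c : X →* X') (hc : Function.Injective c) (A : Subgroup X) (A' : Subgroup X')
    (hAA' : ∀ a ∈ A, c a ∈ A') (α : X) (hα : α ∈ A)
    (h : c α ∈ (Cfsg.pCore p A').map A'.subtype) : α ∈ (Cfsg.pCore p A).map A.subtype := by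
  let f : A →* A' := (c.comp A.subtype).codRestrict A' (fun a => hAA' a a.2)
  have hf : Function.Injective f := by
    intro a b hab
    have h1 : c a = c b := congrArg (fun z : A' => (z : X')) hab
    exact Subtype.ext (hc h1)
  let K : Subgroup A := (Cfsg.pCore p A').comap f
  have hKn : K.Normal := (Cfsg.Agent.Helper1.pCore_normal p).comap f
  have hKp : IsPGroup p K := (Cfsg.Agent.Helper1.pCore_isPGroup p).comap_of_injective f hf
  have hle := Cfsg.Agent.Helper1.le_pCore hKn hKp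
  refine ⟨⟨α, hα⟩, hle ?_, rfl⟩
  obtain ⟨y, hy, hyα⟩ := h
  show f ⟨α, hα⟩ ∈ Cfsg.pCore p A'
  have h2 : f ⟨α, hα⟩ = y := Subtype.ext hyα.symm
  rw [h2]; exact hy

/-- A quadratic automorphism of a finite group has order dividing the order of the group. -/
theorem pow_card_eq_one_of_quadratic {Q : Type*} [Group Q] [Finite Q] (χ : MulAut Q)
    (hquad : ∀ a : Q, (χ a⁻¹) * a * (χ a⁻¹) * (χ (χ a)) = 1) : χ ^ Nat.card Q = 1 := by
  have hfix : ∀ a : Q, χ (a⁻¹ * χ a) = a⁻¹ * χ a := by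
    intro a
    have h1 := hquad a
    have h2 : χ (χ a) = χ a * a⁻¹ * χ a := by
      have : χ (χ a) = ((χ a⁻¹) * a * (χ a⁻¹))⁻¹ := eq_inv_of_mul_eq_one_right h1
      rw [this, map_inv]
      group
    rw [map_mul, map_inv, h2]
    group
  have hpow : ∀ (n : ℕ) (a : Q), (χ ^ n) a = a * (a⁻¹ * χ a) ^ n := by
    intro n
    induction n with
    | zero => intro a; simp
    | succ n ih =>
      intro a
      rw [pow_succ', MulAut.mul_apply, ih, map_mul, map_pow, hfix, pow_succ', ← mul_assoc a,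
        mul_inv_cancel_left]
  ext a
  rw [hpow, pow_card_eq_one']
  simp

variable {Ω : Type*} [Group Ω] {S : Subgroup Ω}

/-- The automorphisms of the normalizer system are automorphisms of the system. -/
theorem autGroup_normSys_le (F : FusionSystem S) {R : Subgroup Ω}
    (N : FusionSystem (normalizerIn S R)) (hN : F.IsNormalizerSystem R N) {Q : Subgroup Ω}
    (hQ : Q ≤ normalizerIn S R) (χ : MulAut Q) (hχ : χ ∈ N.autGroup Q) : χ ∈ F.autGroup Q := by
  have hQS : Q ≤ S := hQ.trans inf_le_left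
  rw [Fusion.mem_autGroup_iff N hQ, hN Q] at hχ
  rw [Fusion.mem_autGroup_iff F hQS]
  exact hχ.1

/-- The forward direction. -/
theorem forward [Finite S] (p : ℕ) [Fact p.Prime] (F : FusionSystem S)
    (hst : ∀ Q : Subgroup Ω, F.IsFullyNormalized Q → ∀ χ : MulAut ↥Q, χ ∈ F.autGroup Q →
      (∀ a : ↥Q, (χ a⁻¹) * a * (χ a⁻¹) * (χ (χ a)) = 1) →
      χ ∈ ((Cfsg.pCore p ↥(F.autGroup Q)).map (F.autGroup Q).subtype : Subgroup (MulAut ↥Q)))
    {R : Subgroup Ω} (N : FusionSystem (normalizerIn S R)) (hN : F.IsNormalizerSystem R N)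
    {Q : Subgroup Ω} (hQ : Q ≤ normalizerIn S R) (χ : MulAut Q) (hχ : χ ∈ N.autGroup Q)
    (hquad : ∀ a : ↥Q, (χ a⁻¹) * a * (χ a⁻¹) * (χ (χ a)) = 1) :
    χ ∈ ((Cfsg.pCore p ↥(N.autGroup Q)).map (N.autGroup Q).subtype : Subgroup (MulAut ↥Q)) := by
  have hQS : Q ≤ S := hQ.trans inf_le_left
  have hχF : χ ∈ F.autGroup Q := autGroup_normSys_le F N hN hQ χ hχ
  obtain ⟨Q', ⟨φ, hφ, hr⟩, hQ'fn⟩ := Fusion.exists_isConj_fullyNormalized F hQS
  set e := Fusion.equivOfRange φ (F.injective_of_mem hφ) hr with he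
  have hχ' : MulAut.congr e χ ∈ F.autGroup Q' := Fusion.congr_mem_autGroup F hφ hr χ hχF
  have hquad' : ∀ b : ↥Q', ((MulAut.congr e χ) b⁻¹) * b * ((MulAut.congr e χ) b⁻¹) *
      ((MulAut.congr e χ) ((MulAut.congr e χ) b)) = 1 := by
    intro b
    have h1 : ∀ y : Q', (MulAut.congr e χ) y = e (χ (e.symm y)) := fun y => rfl
    rw [h1, h1, h1]
    have h2 := hquad (e.symm b)
    have h3 := congrArg e h2
    rw [map_mul, map_mul, map_mul, map_one] at h3
    simpa using h3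
  have h6 := hst Q' hQ'fn _ hχ' hquad'
  have h7 : χ ∈ ((Cfsg.pCore p ↥(F.autGroup Q)).map (F.autGroup Q).subtype :
      Subgroup (MulAut ↥Q)) :=
    mem_pCore_of_map p (MulAut.congr e).toMonoidHom (MulAut.congr e).injective (F.autGroup Q)
      (F.autGroup Q') (fun a ha => Fusion.congr_mem_autGroup F hφ hr a ha) χ hχF h6
  exact mem_pCore_of_map p (MonoidHom.id _) (fun _ _ h => h) (N.autGroup Q) (F.autGroup Q)
    (fun a ha => autGroup_normSys_le F N hN hQ a ha) χ hχ h7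

/-- The only conjugate of `R` in its normalizer system is `R`. -/
theorem normSys_conj_eq (F : FusionSystem S) {R : Subgroup Ω}
    (E : FusionSystem (normalizerIn S R)) (hE : F.IsNormalizerSystem R E) {Q' : Subgroup Ω}
    (hQ' : E.IsConj R Q') : Q' = R := by
  obtain ⟨φ, hφ, hr⟩ := hQ'
  rw [hE R] at hφ
  obtain ⟨hφF, -, -, ψ, hψ, hψext, hψR⟩ := hφ
  rw [← hr]
  ext y
  constructor
  · rintro ⟨x, rfl⟩
    rw [← hψext]
    apply hψR.le
    refine ⟨_, ?_, rfl⟩
    rw [SetLike.mem_coe, Subgroup.mem_subgroupOf]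
    exact x.2
  · intro hy
    obtain ⟨z, hz, rfl⟩ := hψR.ge hy
    rw [SetLike.mem_coe, Subgroup.mem_subgroupOf] at hz
    refine ⟨⟨z.1, hz⟩, ?_⟩
    rw [← hψext]
    rfl

/-- The backward direction. -/
theorem backward [Finite S] (p : ℕ) [Fact p.Prime] (hS : IsPGroup p S) (F : FusionSystem S)
    (h : ∀ R : Subgroup Ω, F.IsFullyNormalized R → ¬ IsCyclic ↥R →
      ∀ N : Cfsg.FusionSystem (Cfsg.FusionSystem.normalizerIn S R), F.IsNormalizerSystem R N →
      (∀ Q : Subgroup Ω, N.IsFullyNormalized Q → ∀ χ : MulAut ↥Q, χ ∈ N.autGroup Q →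
        (∀ a : ↥Q, (χ a⁻¹) * a * (χ a⁻¹) * (χ (χ a)) = 1) →
        χ ∈ ((Cfsg.pCore p ↥(N.autGroup Q)).map (N.autGroup Q).subtype : Subgroup (MulAut ↥Q))))
    (Q : Subgroup Ω) (hQ : F.IsFullyNormalized Q) (χ : MulAut ↥Q) (hχ : χ ∈ F.autGroup Q)
    (hquad : ∀ a : ↥Q, (χ a⁻¹) * a * (χ a⁻¹) * (χ (χ a)) = 1) :
    χ ∈ ((Cfsg.pCore p ↥(F.autGroup Q)).map (F.autGroup Q).subtype : Subgroup (MulAut ↥Q)) := by
  have hQS : Q ≤ S := hQ.1
  by_cases hcyc : IsCyclic ↥Q
  · -- cyclic case: `Aut(Q)` is abelian and `χ` is a `p`-element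
    haveI : Finite Q := Finite.of_injective (Subgroup.inclusion hQS) (Subgroup.inclusion_injective hQS)
    have hQp : IsPGroup p Q := hS.to_le hQS
    obtain ⟨k, hk⟩ := (IsPGroup.iff_card).mp hQp
    have hpow : χ ^ (p ^ k) = 1 := by
      rw [← hk]; exact pow_card_eq_one_of_quadratic χ hquad
    have hcomm : ∀ α β : MulAut Q, α * β = β * α := by
      intro α β
      apply (IsCyclic.mulAutMulEquiv Q).injective
      rw [map_mul, map_mul, mul_comm]
    set A := F.autGroup Q with hA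
    let x : A := ⟨χ, hχ⟩
    have hZn : (Subgroup.zpowers x).Normal := by
      refine ⟨fun y hy g => ?_⟩
      have : g * y * g⁻¹ = y := by
        apply Subtype.ext
        show (g : MulAut Q) * y * (g : MulAut Q)⁻¹ = y
        rw [hcomm g y, mul_inv_cancel_right]
      rw [this]; exact hy
    have hZp : IsPGroup p (Subgroup.zpowers x) := by
      rintro ⟨y, hy⟩
      obtain ⟨i, rfl⟩ := Subgroup.mem_zpowers_iff.mp hy
      refine ⟨k, ?_⟩
      apply Subtype.ext
      show (x ^ i) ^ (p ^ k) = 1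
      have hx : x ^ (p ^ k) = 1 := Subtype.ext hpow
      rw [← zpow_natCast, ← zpow_mul, mul_comm, zpow_mul, zpow_natCast, hx, one_zpow]
    have hle := Cfsg.Agent.Helper1.le_pCore hZn hZp
    exact ⟨x, hle (Subgroup.mem_zpowers x), rfl⟩
  · -- non-cyclic case
    obtain ⟨N, hN⟩ := Cfsg.Agent.S5096.result F Q hQS
    have hfn : N.IsFullyNormalized Q := by
      refine ⟨Fusion.le_normalizerIn hQS, fun Q' hQ' => ?_⟩
      rw [normSys_conj_eq F N hN hQ']
    have hAut := Fusion.normalizerSystem_autGroup F hQS N hN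
    have h1 := h Q hQ hcyc N hN Q hfn χ (hAut ▸ hχ) hquad
    have key : ∀ (A B : Subgroup (MulAut Q)), A = B →
        (Cfsg.pCore p A).map A.subtype = (Cfsg.pCore p B).map B.subtype := by
      rintro A B rfl; rfl
    rw [← key _ _ hAut]
    exact h1

/-- The statement of S5247. -/
theorem main [Finite S] (p : ℕ) [Fact p.Prime] (hS : IsPGroup p S) (F : Cfsg.FusionSystem S) :
    (∀ Q : Subgroup Ω, F.IsFullyNormalized Q → ∀ χ : MulAut ↥Q, χ ∈ F.autGroup Q →
      (∀ a : ↥Q, (χ a⁻¹) * a * (χ a⁻¹) * (χ (χ a)) = 1) →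
      χ ∈ ((Cfsg.pCore p ↥(F.autGroup Q)).map (F.autGroup Q).subtype : Subgroup (MulAut ↥Q))) ↔
    ∀ R : Subgroup Ω, F.IsFullyNormalized R → ¬ IsCyclic ↥R →
      ∀ N : Cfsg.FusionSystem (Cfsg.FusionSystem.normalizerIn S R), F.IsNormalizerSystem R N →
      (∀ Q : Subgroup Ω, N.IsFullyNormalized Q → ∀ χ : MulAut ↥Q, χ ∈ N.autGroup Q →
        (∀ a : ↥Q, (χ a⁻¹) * a * (χ a⁻¹) * (χ (χ a)) = 1) →
        χ ∈ ((Cfsg.pCore p ↥(N.autGroup Q)).map (N.autGroup Q).subtype :
          Subgroup (MulAut ↥Q))) := by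
  constructor
  · intro hst R _ _ N hN Q hQ χ hχ hquad
    exact forward p F hst N hN hQ.1 χ hχ hquad
  · intro h Q hQ χ hχ hquad
    exact backward p hS F h Q hQ χ hχ hquad

end Cfsg.Agent.Lead.PStab
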