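import Mathlib
import Cfsg.Prelude.Def_FusionSystem
import Cfsg.Agent.Lead.Basic
import Cfsg.Agent.Lead.Fusion
import Cfsg.Agent.Lead.FusionAut
import Cfsg.Agent.Lead.FusionConj
import Cfsg.Agent.Lead.FusionSat
import Cfsg.Agent.Lead.FusionSat2
import Cfsg.Agent.Lead.FusionSat3
import Cfsg.Agent.Lead.FusionInner
import Cfsg.Agent.Lead.AutInduced
import Cfsg.Agent.Lead.SylowLemmas

set_option autoImplicit false

namespace Cfsg.Agent.Lead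

open Cfsg Cfsg.FusionSystem

variable {Ω : Type*} [Group Ω] {S : Subgroup Ω}

/-- An automorphism of the system on `R` fixing pointwise a normal centric subgroup `Q` of `R` is
conjugation by an element of `Z(Q)`. -/
theorem Fusion.aut_eq_conj_of_fix_centric [Finite S] (p : ℕ) [Fact p.Prime] (hS : IsPGroup p S)
    (F : FusionSystem S) (hF : F.IsSaturated p) {Q R : Subgroup Ω} (hQR : Q ≤ R) (hRS : R ≤ S)
    (hRN : R ≤ Subgroup.normalizer (Q : Set Ω)) (hQ : F.IsCentric Q) (θ : MulAut R)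
    (hθ : θ ∈ F.autGroup R) (hfix : ∀ x : R, (x : Ω) ∈ Q → θ x = x) :
    ∃ z : R, (z : Ω) ∈ Q ∧ (z : Ω) ∈ Subgroup.centralizer (Q : Set Ω) ∧
      ∀ y : R, θ y = z * y * z⁻¹ := by
  have hQS : Q ≤ S := hQ.1
  have : Finite R := Fusion.finite_of_le hRS
  have : Finite Q := Fusion.finite_of_le hQS
  have : Finite (MulAut R) := inferInstance
  -- (1) `y⁻¹ θ(y) ∈ Q` and is fixed by `θ`
  have h1 : ∀ y : R, ((y⁻¹ * θ y : R) : Ω) ∈ Q := by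
    intro y
    apply hQ.2 Q (Fusion.isConj_refl F hQS)
    refine Subgroup.mem_inf.mpr ⟨hRS (y⁻¹ * θ y).2, ?_⟩
    rw [Subgroup.mem_centralizer_iff]
    intro q hq
    have hyq : (y : Ω) * q * (y : Ω)⁻¹ ∈ Q := (Subgroup.mem_normalizer_iff.mp (hRN y.2) q).mp hq
    have h2 := hfix (y * ⟨q, hQR hq⟩ * y⁻¹) hyq
    have h3 := hfix ⟨q, hQR hq⟩ hq
    rw [map_mul, map_mul, map_inv, h3] at h2
    have h4 : (θ y : Ω) * q * (θ y : Ω)⁻¹ = (y : Ω) * q * (y : Ω)⁻¹ :=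
      congrArg Subtype.val h2
    show q * ((y : Ω)⁻¹ * (θ y : Ω)) = (y : Ω)⁻¹ * (θ y : Ω) * q
    calc q * ((y : Ω)⁻¹ * (θ y : Ω)) = (y : Ω)⁻¹ * ((y : Ω) * q * (y : Ω)⁻¹) * (θ y : Ω) := by group
      _ = (y : Ω)⁻¹ * ((θ y : Ω) * q * (θ y : Ω)⁻¹) * (θ y : Ω) := by rw [h4]
      _ = (y : Ω)⁻¹ * (θ y : Ω) * q := by group
  -- (2) `θ` is a `p`-element
  obtain ⟨m, hm⟩ := IsPGroup.iff_card.mp (hS.to_le hQS)
  have hθp : θ ^ p ^ m = 1 := by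
    ext y
    have hpow : ∀ j : ℕ, (θ ^ j) y = y * (y⁻¹ * θ y) ^ j := by
      intro j
      induction j with
      | zero => simp
      | succ j ih =>
        rw [pow_succ' θ, MulAut.mul_apply, ih, map_mul, map_pow, hfix _ (h1 y),
          pow_succ' (y⁻¹ * θ y), ← mul_assoc]
        congr 1
        group
    rw [hpow, ← hm]
    have h5 : orderOf (⟨((y⁻¹ * θ y : R) : Ω), h1 y⟩ : Q) ∣ Nat.card Q := orderOf_dvd_natCard _
    have h6 : (y⁻¹ * θ y) ^ Nat.card Q = 1 := by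
      apply orderOf_dvd_iff_pow_eq_one.mp
      rw [← Subgroup.orderOf_coe (y⁻¹ * θ y)]
      rw [← Subgroup.orderOf_coe (⟨((y⁻¹ * θ y : R) : Ω), h1 y⟩ : Q)] at h5
      exact h5
    rw [h6]
    simp
  -- (3) transport to a fully normalized conjugate
  obtain ⟨R₂, hRR₂, hR₂fn⟩ := Fusion.exists_isConj_fullyNormalized F hRS
  obtain ⟨χ, hχ, hrχ⟩ := hRR₂
  have hR₂fa := (Fusion.fullyCentralized_fullyAutomized_of_fullyNormalized p hS F hF hR₂fn).2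
  have hR₂S : R₂ ≤ S := hR₂fn.1
  set e := Fusion.equivOfRange χ (F.injective_of_mem hχ) hrχ with he
  have : Finite R₂ := Fusion.finite_of_le hR₂S
  have : Finite (MulAut R₂) := inferInstance
  have hθ₂ : MulAut.congr e θ ∈ F.autGroup R₂ := Fusion.congr_mem_autGroup F hχ hrχ _ hθ
  have hθ₂p : (MulAut.congr e θ) ^ p ^ m = 1 := by rw [← map_pow, hθp, map_one]
  have hU'A := Fusion.autInducedBy_le_autGroup F hR₂S
  have hU'card := (exists_sylow_eq_subgroupOf_iff (p := p) _ _ hU'A).mp hR₂fa.2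
  have hzp : IsPGroup p (Subgroup.zpowers (MulAut.congr e θ)) := by
    have h1 : orderOf (MulAut.congr e θ) ∣ p ^ m := orderOf_dvd_of_pow_eq_one hθ₂p
    obtain ⟨j, -, hj⟩ := (Nat.dvd_prime_pow Fact.out).mp h1
    apply IsPGroup.of_card (n := j)
    rw [Nat.card_zpowers, hj]
  obtain ⟨β, hβA, hβ⟩ := exists_conj_le_of_card_eq_ppart (p := p) hU'A hU'card
    ((Subgroup.zpowers_le).mpr hθ₂) hzp
  have hδ : (MulAut.conj β) (MulAut.congr e θ) ∈ autInducedBy S R₂ :=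
    hβ ⟨_, Subgroup.mem_zpowers _, rfl⟩
  rw [mem_autInducedBy_iff] at hδ
  obtain ⟨g, hgS, hg⟩ := hδ
  set e' : R ≃* R₂ := e.trans β with he'
  have hkey : ∀ x : R, (MulAut.conj β (MulAut.congr e θ)) (e' x) = e' (θ x) := by
    intro x
    rw [MulAut.conj_apply]
    simp [he', MulAut.mul_apply]
  have hconj : ∀ x : R, ((e' (θ x) : R₂) : Ω) = g * (e' x : R₂) * g⁻¹ := fun x => by
    rw [← hkey, hg]
  have hβF := (Fusion.mem_autGroup_iff F hR₂S β).mp hβA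
  have hχ' := F.comp_mem hχ hβF (fun x => (e x).2)
  set χ' : R →* Ω :=
    (R₂.subtype.comp β.toMonoidHom).comp (χ.codRestrict R₂ (fun x => (e x).2)) with hχ'def
  have hχ'x : ∀ x : R, χ' x = ((e' x : R₂) : Ω) := fun _ => rfl
  have hχ'Q := Fusion.restrict_mem F hχ' hQR
  set Q₃ := (χ'.comp (Subgroup.inclusion hQR)).range with hQ₃def
  have hQQ₃ : F.IsConj Q Q₃ := ⟨_, hχ'Q, rfl⟩
  -- (4) `g ∈ C_S(Q₃) ≤ Q₃`
  have hgQ₃ : g ∈ Q₃ := by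
    apply hQ.2 Q₃ hQQ₃
    refine Subgroup.mem_inf.mpr ⟨hgS, ?_⟩
    rw [Subgroup.mem_centralizer_iff]
    rintro _ ⟨q, rfl⟩
    show ((e' ⟨q.1, hQR q.2⟩ : R₂) : Ω) * g = g * ((e' ⟨q.1, hQR q.2⟩ : R₂) : Ω)
    have h7 := hconj ⟨q.1, hQR q.2⟩
    rw [hfix _ q.2] at h7
    calc ((e' ⟨q.1, hQR q.2⟩ : R₂) : Ω) * g
        = g * ((e' ⟨q.1, hQR q.2⟩ : R₂) : Ω) * g⁻¹ * g := by rw [← h7]
      _ = g * ((e' ⟨q.1, hQR q.2⟩ : R₂) : Ω) := by group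
  obtain ⟨z, hz⟩ := hgQ₃
  have hz' : ((e' ⟨z.1, hQR z.2⟩ : R₂) : Ω) = g := hz
  -- (5)
  have hθy : ∀ y : R, θ y = ⟨z.1, hQR z.2⟩ * y * (⟨z.1, hQR z.2⟩ : R)⁻¹ := by
    intro y
    apply e'.injective
    apply Subtype.ext
    rw [hconj, map_mul, map_mul, map_inv, ← hz']
    rfl
  refine ⟨⟨z.1, hQR z.2⟩, z.2, ?_, hθy⟩
  rw [Subgroup.mem_centralizer_iff]
  intro q hq
  have h8 := hθy ⟨q, hQR hq⟩
  rw [hfix _ hq] at h8
  have h9 : q = z.1 * q * z.1⁻¹ := congrArg Subtype.val h8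
  calc q * z.1 = z.1 * q * z.1⁻¹ * z.1 := by rw [← h9]
    _ = z.1 * q := by group

/-- Overgroups (in `S`) of centric subgroups are centric. -/
theorem Fusion.isCentric_of_le (F : FusionSystem S) {Q R : Subgroup Ω} (hQR : Q ≤ R) (hRS : R ≤ S)
    (hQ : F.IsCentric Q) : F.IsCentric R := by
  refine ⟨hRS, ?_⟩
  rintro R' ⟨χ, hχ, hrχ⟩
  have hχQ := Fusion.restrict_mem F hχ hQR
  have hQQ' : F.IsConj Q (χ.comp (Subgroup.inclusion hQR)).range := ⟨_, hχQ, rfl⟩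
  have hQ'R' : (χ.comp (Subgroup.inclusion hQR)).range ≤ R' := by
    rintro _ ⟨x, rfl⟩
    rw [← hrχ]
    exact ⟨_, rfl⟩
  have h1 := hQ.2 _ hQQ'
  intro c hc
  apply hQ'R'
  apply h1
  refine Subgroup.mem_inf.mpr ⟨(Subgroup.mem_inf.mp hc).1, ?_⟩
  exact Subgroup.centralizer_le hQ'R' (Subgroup.mem_inf.mp hc).2

/-- Two maps of the system on `R` agreeing on a normal centric subgroup `Q` of `R` differ by conjugation
by an element of `Z(Q)`. -/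
theorem Fusion.eq_conj_of_agree_centric_normal [Finite S] (p : ℕ) [Fact p.Prime] (hS : IsPGroup p S)
    (F : FusionSystem S) (hF : F.IsSaturated p) {Q R : Subgroup Ω} (hQR : Q ≤ R)
    (hRN : R ≤ Subgroup.normalizer (Q : Set Ω)) (hQ : F.IsCentric Q) {ψ₁ ψ₂ : R →* Ω}
    (hψ₁ : ψ₁ ∈ F.Hom R) (hψ₂ : ψ₂ ∈ F.Hom R) (h : ∀ x : R, (x : Ω) ∈ Q → ψ₁ x = ψ₂ x) :
    ∃ z : R, (z : Ω) ∈ Q ∧ (z : Ω) ∈ Subgroup.centralizer (Q : Set Ω) ∧
      ∀ y : R, ψ₂ y = ψ₁ (z * y * z⁻¹) := by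
  have hRS := Fusion.src_le F hψ₁
  have hψ₁Q := Fusion.restrict_mem F hψ₁ hQR
  have hQQ₁ : F.IsConj Q (ψ₁.comp (Subgroup.inclusion hQR)).range := ⟨_, hψ₁Q, rfl⟩
  have hcent := hQ.2 _ hQQ₁
  have hstep : ∀ y : R, ∃ q : R, (q : Ω) ∈ Q ∧ ψ₂ y = ψ₁ (y * q) := by
    intro y
    have hw : (ψ₁ y)⁻¹ * ψ₂ y ∈ (ψ₁.comp (Subgroup.inclusion hQR)).range := by
      apply hcent
      refine Subgroup.mem_inf.mpr ⟨S.mul_mem (S.inv_mem (Fusion.map_mem F hψ₁ y))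
        (Fusion.map_mem F hψ₂ y), ?_⟩
      rw [Subgroup.mem_centralizer_iff]
      rintro _ ⟨q, rfl⟩
      show ψ₁ ⟨q.1, hQR q.2⟩ * ((ψ₁ y)⁻¹ * ψ₂ y) = (ψ₁ y)⁻¹ * ψ₂ y * ψ₁ ⟨q.1, hQR q.2⟩
      have hyq : (y : Ω) * q * (y : Ω)⁻¹ ∈ Q :=
        (Subgroup.mem_normalizer_iff.mp (hRN y.2) q).mp q.2
      have h2 := h (y * ⟨q.1, hQR q.2⟩ * y⁻¹) hyq
      rw [map_mul, map_mul, map_inv, map_mul, map_mul, map_inv, ← h ⟨q.1, hQR q.2⟩ q.2] at h2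
      set a := ψ₁ y
      set b := ψ₂ y
      set c := ψ₁ ⟨q.1, hQR q.2⟩
      calc c * (a⁻¹ * b) = a⁻¹ * (a * c * a⁻¹) * b := by group
        _ = a⁻¹ * (b * c * b⁻¹) * b := by rw [h2]
        _ = a⁻¹ * b * c := by group
    obtain ⟨q, hq⟩ := hw
    refine ⟨⟨q.1, hQR q.2⟩, q.2, ?_⟩
    have hq' : ψ₁ ⟨q.1, hQR q.2⟩ = (ψ₁ y)⁻¹ * ψ₂ y := hq
    rw [map_mul, hq']
    group
  have : Finite ψ₁.range := Fusion.finite_of_le (Fusion.range_le F hψ₁)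
  have hr₂ : ψ₂.range = ψ₁.range := by
    apply Subgroup.eq_of_le_of_card_ge
    · rintro _ ⟨y, rfl⟩
      obtain ⟨q, -, hq⟩ := hstep y
      exact ⟨_, hq.symm⟩
    · rw [← Fusion.card_eq_of_isConj F ⟨ψ₁, hψ₁, rfl⟩, Fusion.card_eq_of_isConj F ⟨ψ₂, hψ₂, rfl⟩]
  set e₁ := Fusion.equivOfRange ψ₁ (F.injective_of_mem hψ₁) rfl with he₁
  set e₂ := Fusion.equivOfRange ψ₂ (F.injective_of_mem hψ₂) hr₂ with he₂
  set θ : MulAut R := e₂.trans e₁.symm with hθdef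
  have hθ : θ ∈ F.autGroup R := by
    rw [Fusion.mem_autGroup_iff F hRS]
    have h1 := Fusion.equivOfRange_symm_mem F hψ₁ rfl
    have h2 := F.comp_mem hψ₂ h1 (fun x => (e₂ x).2)
    convert h2 using 1
    ext y
    rfl
  have hfix : ∀ x : R, (x : Ω) ∈ Q → θ x = x := by
    intro x hx
    show e₁.symm (e₂ x) = x
    have : e₂ x = e₁ x := Subtype.ext (h x hx).symm
    rw [this, MulEquiv.symm_apply_apply]
  obtain ⟨z, hzQ, hzC, hz⟩ := Fusion.aut_eq_conj_of_fix_centric p hS F hF hQR hRS hRN hQ θ hθ hfix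
  refine ⟨z, hzQ, hzC, fun y => ?_⟩
  rw [← hz y]
  show ψ₂ y = ((e₁ (e₁.symm (e₂ y)) : ψ₁.range) : Ω)
  rw [MulEquiv.apply_symm_apply]
  rfl

/-- BLO A.8: two maps of a saturated system on `P` agreeing on a centric subgroup `Q ≤ P` differ by
conjugation by an element of `Z(Q)`. -/
theorem Fusion.eq_conj_of_agree_centric [Finite S] (p : ℕ) [Fact p.Prime] (hS : IsPGroup p S)
    (F : FusionSystem S) (hF : F.IsSaturated p) (P : Subgroup Ω) :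
    ∀ (n : ℕ) (Q : Subgroup Ω) (_ : Q ≤ P) (_ : F.IsCentric Q) (φ φ' : P →* Ω) (_ : φ ∈ F.Hom P)
      (_ : φ' ∈ F.Hom P) (_ : ∀ x : P, (x : Ω) ∈ Q → φ x = φ' x), Nat.card P - Nat.card Q = n →
      ∃ z : P, (z : Ω) ∈ Q ∧ (z : Ω) ∈ Subgroup.centralizer (Q : Set Ω) ∧
        ∀ y : P, φ' y = φ (z * y * z⁻¹) := by
  intro n
  induction n using Nat.strong_induction_on with
  | _ n ih =>
  intro Q hQP hQ φ φ' hφ hφ' h hn
  have hPS := Fusion.src_le F hφ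
  have : Finite P := Fusion.finite_of_le hPS
  by_cases hQeq : Q = P
  · refine ⟨1, Q.one_mem, Subgroup.one_mem _, fun y => ?_⟩
    rw [one_mul, inv_one, mul_one]
    exact (h y (hQeq ▸ y.2)).symm
  have hPp : IsPGroup p P := hS.to_le hPS
  have hlt := Fusion.card_lt_card_normalizerIn hPp hQP hQeq
  have hQR : Q ≤ normalizerIn P Q := Fusion.le_normalizerIn hQP
  have hRP : normalizerIn P Q ≤ P := inf_le_left
  have hRN : normalizerIn P Q ≤ Subgroup.normalizer (Q : Set Ω) := inf_le_right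
  have hψ₁ := Fusion.restrict_mem F hφ hRP
  have hψ₂ := Fusion.restrict_mem F hφ' hRP
  obtain ⟨z₁, hz₁Q, hz₁C, hz₁⟩ := Fusion.eq_conj_of_agree_centric_normal p hS F hF hQR hRN hQ hψ₁ hψ₂
    (fun x hx => h ⟨x.1, hRP x.2⟩ hx)
  have hz₁P : z₁.1 ∈ P := hRP z₁.2
  have hc := F.conj_mem (P := P) (g := z₁.1) hPS (hPS hz₁P)
  have hcP : ∀ x : P, conjHom P z₁.1 x ∈ P := fun x =>
    P.mul_mem (P.mul_mem hz₁P x.2) (P.inv_mem hz₁P)
  have hφ₁ := F.comp_mem hc hφ hcP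
  set φ₁ : P →* Ω := φ.comp ((conjHom P z₁.1).codRestrict P hcP) with hφ₁def
  have hφ₁x : ∀ y : P, φ₁ y = φ (⟨z₁.1, hz₁P⟩ * y * ⟨z₁.1, hz₁P⟩⁻¹) := fun _ => rfl
  have hRcent : F.IsCentric (normalizerIn P Q) := Fusion.isCentric_of_le F hQR (hRP.trans hPS) hQ
  have hagree : ∀ x : P, (x : Ω) ∈ normalizerIn P Q → φ₁ x = φ' x := by
    intro x hx
    have h3 := hz₁ ⟨x.1, hx⟩
    rw [hφ₁x]
    exact h3.symm
  have hlt' : Nat.card P - Nat.card (normalizerIn P Q) < n := by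
    have := Subgroup.card_le_of_le hRP
    omega
  obtain ⟨z₂, hz₂R, hz₂C, hz₂⟩ := ih _ hlt' (normalizerIn P Q) hRP hRcent φ₁ φ' hφ₁ hφ' hagree rfl
  have hz₂CQ : (z₂ : Ω) ∈ Subgroup.centralizer (Q : Set Ω) := Subgroup.centralizer_le hQR hz₂C
  have hz₂Q : (z₂ : Ω) ∈ Q :=
    hQ.2 Q (Fusion.isConj_refl F hQ.1) (Subgroup.mem_inf.mpr ⟨hPS z₂.2, hz₂CQ⟩)
  refine ⟨⟨z₁.1, hz₁P⟩ * z₂, Q.mul_mem hz₁Q hz₂Q, Subgroup.mul_mem _ hz₁C hz₂CQ, fun y => ?_⟩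
  rw [hz₂ y, hφ₁x]
  congr 1
  group

end Cfsg.Agent.Lead
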