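import Mathlib
import Cfsg.Prelude.Def_FusionSystem
import Cfsg.Agent.Helper4.PCore
import Cfsg.Agent.Lead.FusionNormalSub

set_option autoImplicit false

/-!
Centralizers of self-centralizing normal `p`-subgroups: decomposition, and the case of models.
-/

namespace Cfsg.Agent.Lead
namespace LocMod

open Cfsg Cfsg.FusionSystem

/-- `C_H(Q) ≤ K Q` for a normal `p'`-subgroup `K`, when `Q` is a normal `p`-subgroup containing its centralizer
in a Sylow `p`-subgroup. -/
theorem exists_centralizer_decomp {H : Type*} [Group H] [Finite H] (p : ℕ) [Fact p.Prime]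
    (P : Sylow p H) (Q : Subgroup H) [hQn : Q.Normal] (hQP : Q ≤ (P : Subgroup H))
    (hcent : ∀ x ∈ (P : Subgroup H), (∀ q ∈ Q, x * q = q * x) → x ∈ Q) :
    ∃ K : Subgroup H, K.Normal ∧ (Nat.card K).Coprime p ∧
      ∀ x ∈ Subgroup.centralizer (Q : Set H), ∃ k ∈ K, ∃ z ∈ Q, x = k * z := by
  have hp : p.Prime := Fact.out
  set C : Subgroup H := Subgroup.centralizer (Q : Set H) with hC
  haveI hCn : C.Normal := Subgroup.normal_centralizer
  have hcard' : Nat.card ((((P : Subgroup H) ⊓ C).subgroupOf C)) =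
      p ^ (Nat.card C).factorization p := by
    rw [card_subgroupOf_of_le inf_le_right]
    exact Fusion.card_sylow_inf_normal p P C
  set PC : Sylow p C := Sylow.ofCard (((P : Subgroup H) ⊓ C).subgroupOf C) hcard' with hPC
  have hPCmem : ∀ x : C, x ∈ (PC : Subgroup C) ↔ (x : H) ∈ (P : Subgroup H) := by
    intro x
    show x ∈ ((P : Subgroup H) ⊓ C).subgroupOf C ↔ _
    rw [Subgroup.mem_subgroupOf, Subgroup.mem_inf]
    exact ⟨fun h => h.1, fun h => ⟨h, x.2⟩⟩
  have hcentral : ∀ x : C, x ∈ (PC : Subgroup C) → ∀ y : C, y * x = x * y := by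
    intro x hx y
    have hxP : (x : H) ∈ (P : Subgroup H) := (hPCmem x).mp hx
    have hxQ : (x : H) ∈ Q := hcent x hxP (fun q hq => by
      have := Subgroup.mem_centralizer_iff.mp x.2 q hq
      exact this.symm)
    apply Subtype.ext
    show (y : H) * x = x * y
    exact (Subgroup.mem_centralizer_iff.mp y.2 x hxQ).symm
  have hle : Subgroup.normalizer ((PC : Subgroup C) : Set C) ≤
      Subgroup.centralizer ((PC : Subgroup C) : Set C) := by
    intro y _
    rw [Subgroup.mem_centralizer_iff]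
    intro x hx
    exact (hcentral x hx y).symm
  set KC : Subgroup C := (MonoidHom.transferSylow PC hle).ker with hKC
  have hcompl : KC.IsComplement' (PC : Subgroup C) := MonoidHom.ker_transferSylow_isComplement' PC hle
  have hKCcop : (Nat.card KC).Coprime p := by
    have h1 : Nat.card KC = (PC : Subgroup C).index := hcompl.index_eq_card.symm
    rw [h1]
    exact (Nat.Prime.coprime_iff_not_dvd hp).mpr PC.not_dvd_index |>.symm
  have hpel : ∀ x : C, (orderOf x).Coprime p → x ∈ KC := by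
    intro x hx
    rw [hKC, MonoidHom.mem_ker]
    set y := MonoidHom.transferSylow PC hle x with hy
    have h1 : orderOf y ∣ orderOf x := orderOf_map_dvd _ x
    obtain ⟨k, hk⟩ := (IsPGroup.iff_orderOf.mp PC.isPGroup') y
    have h2 : (orderOf y).Coprime p := Nat.Coprime.coprime_dvd_left h1 hx
    rw [hk] at h2
    rcases Nat.eq_zero_or_pos k with rfl | hkpos
    · rw [pow_zero] at hk
      exact orderOf_eq_one_iff.mp hk
    · exfalso
      have : p ∣ p ^ k := dvd_pow_self p hkpos.ne'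
      have h3 := Nat.Coprime.eq_one_of_dvd h2.symm this
      exact hp.one_lt.ne' h3
  set K : Subgroup H := KC.map C.subtype with hK
  have hKcard : Nat.card K = Nat.card KC :=
    Nat.card_congr (KC.equivMapOfInjective C.subtype C.subtype_injective).symm.toEquiv
  have hKcop : (Nat.card K).Coprime p := hKcard ▸ hKCcop
  have hKn : K.Normal := by
    constructor
    rintro _ ⟨k, hk, rfl⟩ h
    have hmem : h * (k : H) * h⁻¹ ∈ C := hCn.conj_mem _ k.2 h
    refine ⟨⟨h * (k : H) * h⁻¹, hmem⟩, ?_, rfl⟩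
    apply hpel
    have h1 : orderOf (⟨h * (k : H) * h⁻¹, hmem⟩ : C) = orderOf k := by
      rw [← Subgroup.orderOf_coe, ← Subgroup.orderOf_coe]
      show orderOf (h * (k : H) * h⁻¹) = orderOf (k : H)
      exact (MulAut.conj h).orderOf_eq (k : H)
    rw [h1]
    have h2 : orderOf k ∣ Nat.card KC := by
      have := orderOf_dvd_natCard (⟨k, hk⟩ : KC)
      rwa [Subgroup.orderOf_mk] at this
    exact Nat.Coprime.coprime_dvd_left h2 hKCcop
  refine ⟨K, hKn, hKcop, fun x hxC => ?_⟩
  obtain ⟨⟨⟨k, hk⟩, ⟨z, hz⟩⟩, hkz⟩ := hcompl.existsUnique (⟨x, hxC⟩ : C) |>.exists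
  have hkz' : k * z = ⟨x, hxC⟩ := hkz
  have hx' : x = (k : H) * (z : H) := by
    have := congrArg (fun c : C => (c : H)) hkz'
    exact this.symm
  have hzQ : (z : H) ∈ Q := hcent z ((hPCmem z).mp hz) (fun q hq => by
    have := Subgroup.mem_centralizer_iff.mp z.2 q hq
    exact this.symm)
  exact ⟨k, ⟨k, hk, rfl⟩, z, hzQ, hx'⟩

/-- A normal subgroup of order prime to `p` of a group with `C(O_p) ≤ O_p` is trivial. -/
theorem eq_bot_of_normal_coprime {G : Type*} [Group G] [Finite G] (p : ℕ) [Fact p.Prime]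
    (hcent : Subgroup.centralizer ((pCore p G : Subgroup G) : Set G) ≤ pCore p G)
    (K : Subgroup G) (hKn : K.Normal) (hK : (Nat.card K).Coprime p) : K = ⊥ := by
  have hp : p.Prime := Fact.out
  have hOn : (pCore p G).Normal := Cfsg.Agent.Helper4.pCore_normal
  have hOp : IsPGroup p (pCore p G) := Cfsg.Agent.Helper4.pCore_isPGroup
  -- `K ∩ O_p = 1`
  have hdisj : ∀ x, x ∈ K → x ∈ pCore p G → x = 1 := by
    intro x hxK hxO
    have h1 : orderOf x ∣ Nat.card K := by
      have := orderOf_dvd_natCard (⟨x, hxK⟩ : K)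
      rwa [Subgroup.orderOf_mk] at this
    obtain ⟨k, hk⟩ := (IsPGroup.iff_orderOf.mp hOp) (⟨x, hxO⟩ : pCore p G)
    rw [Subgroup.orderOf_mk] at hk
    rcases Nat.eq_zero_or_pos k with rfl | hkpos
    · rw [pow_zero] at hk
      exact orderOf_eq_one_iff.mp hk
    · exfalso
      have h2 : (orderOf x).Coprime p := Nat.Coprime.coprime_dvd_left h1 hK
      rw [hk] at h2
      have : p ∣ p ^ k := dvd_pow_self p hkpos.ne'
      have h3 := Nat.Coprime.eq_one_of_dvd h2.symm this
      exact hp.one_lt.ne' h3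
  rw [Subgroup.eq_bot_iff_forall]
  intro x hxK
  have hxC : x ∈ Subgroup.centralizer ((pCore p G : Subgroup G) : Set G) := by
    rw [Subgroup.mem_centralizer_iff]
    intro u hu
    have h1 : x * u * x⁻¹ * u⁻¹ ∈ K := by
      have : x * u * x⁻¹ * u⁻¹ = x * (u * x⁻¹ * u⁻¹) := by group
      rw [this]
      exact K.mul_mem hxK (hKn.conj_mem _ (K.inv_mem hxK) u)
    have h2 : x * u * x⁻¹ * u⁻¹ ∈ pCore p G :=
      (pCore p G).mul_mem (hOn.conj_mem u hu x) ((pCore p G).inv_mem hu)
    have h3 := hdisj _ h1 h2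
    calc u * x = (x * u * x⁻¹ * u⁻¹)⁻¹ * (x * u) := by group
      _ = x * u := by rw [h3, inv_one, one_mul]
  exact hdisj x hxK (hcent hxC)

variable {Ω : Type*} [Group Ω] {S : Subgroup Ω}

/-- In a model, a normal subgroup (image of `Y ≤ S`) with `C_S(Y) ≤ Y` contains its centralizer. -/
theorem centralizer_map_le_of_isModel (p : ℕ) [Fact p.Prime] (F : FusionSystem S)
    {G : Type*} [Group G] (ι : S →* G) (hG : F.IsModel p G ι) (Y : Subgroup Ω) (hYS : Y ≤ S)
    (hYn : ((Y.subgroupOf S).map ι).Normal) (hYc : centralizerIn S Y ≤ Y) :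
    Subgroup.centralizer (((Y.subgroupOf S).map ι : Subgroup G) : Set G) ≤ (Y.subgroupOf S).map ι := by
  obtain ⟨hfin, hι, ⟨P, hP⟩, hcent⟩ := hG
  haveI := hfin
  haveI := hYn
  have hQP : (Y.subgroupOf S).map ι ≤ (P : Subgroup G) := by
    rw [hP]
    rintro _ ⟨t, -, rfl⟩
    exact ⟨t, rfl⟩
  have hcent' : ∀ x ∈ (P : Subgroup G), (∀ q ∈ (Y.subgroupOf S).map ι, x * q = q * x) →
      x ∈ (Y.subgroupOf S).map ι := by
    intro x hx hcomm
    rw [hP] at hx
    obtain ⟨t, rfl⟩ := hx
    refine ⟨t, ?_, rfl⟩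
    rw [SetLike.mem_coe, Subgroup.mem_subgroupOf]
    apply hYc
    refine ⟨t.2, ?_⟩
    show (t : Ω) ∈ Subgroup.centralizer (Y : Set Ω)
    rw [Subgroup.mem_centralizer_iff]
    intro q hq
    have h1 := hcomm (ι ⟨q, hYS hq⟩) ⟨⟨q, hYS hq⟩, by
      rw [SetLike.mem_coe, Subgroup.mem_subgroupOf]; exact hq, rfl⟩
    rw [← map_mul, ← map_mul] at h1
    have h2 := hι.1 h1
    have h3 : (t : Ω) * q = q * (t : Ω) := congrArg (fun z : S => (z : Ω)) h2
    exact h3.symm
  obtain ⟨K, hKn, hKcop, hK⟩ := exists_centralizer_decomp p P ((Y.subgroupOf S).map ι) hQP hcent'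
  have hKbot := eq_bot_of_normal_coprime p hcent K hKn hKcop
  intro x hx
  obtain ⟨k, hk, z, hz, rfl⟩ := hK x hx
  rw [hKbot, Subgroup.mem_bot] at hk
  rw [hk, one_mul]
  exact hz

end LocMod
end Cfsg.Agent.Lead
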