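import Mathlib
import Cfsg.Prelude.Def_FusionSystem
import Cfsg.Agent.Lead.Fusion
import Cfsg.Agent.Lead.FusionAut
import Cfsg.Agent.Lead.FusionRealized
import Cfsg.Agent.Helper1.Subnormal

set_option autoImplicit false

namespace Cfsg.Agent.Lead.RealSimple

open Cfsg Cfsg.FusionSystem

variable {Ω : Type*} [Group Ω] {S : Subgroup Ω} {G : Type*} [Group G] (ι : S →* G)

/-- the subgroup of `S` (inside `Ω`) whose `ι`-image lies in `N` -/
def pre (N : Subgroup G) : Subgroup Ω := (N.comap ι).map S.subtype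

theorem mem_pre {N : Subgroup G} {x : Ω} : x ∈ pre ι N ↔ ∃ hx : x ∈ S, ι ⟨x, hx⟩ ∈ N := by
  unfold pre
  constructor
  · rintro ⟨y, hy, rfl⟩
    exact ⟨y.2, hy⟩
  · rintro ⟨hx, h⟩
    exact ⟨⟨x, hx⟩, h, rfl⟩

theorem pre_le (N : Subgroup G) : pre ι N ≤ S := fun _ hx => ((mem_pre ι).1 hx).fst

theorem map_mem_of_mem_pre {N : Subgroup G} {x : Ω} (hx : x ∈ pre ι N) :
    ι ⟨x, pre_le ι N hx⟩ ∈ N := ((mem_pre ι).1 hx).snd

/-- injectivity of a homomorphism that is read as a conjugation through `ι` -/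
theorem inj_of_conj (hinj : Function.Injective ι) {P : Subgroup Ω} (hP : P ≤ S) (φ : P →* Ω)
    (hφ : ∀ x : P, φ x ∈ S) (g : G)
    (h : ∀ x : P, ι ⟨φ x, hφ x⟩ = g * ι ⟨x, hP x.2⟩ * g⁻¹) : Function.Injective φ := by
  intro x y hxy
  have h1 : ι ⟨φ x, hφ x⟩ = ι ⟨φ y, hφ y⟩ := by
    congr 1; exact Subtype.ext hxy
  rw [h x, h y] at h1
  have h2 : ι ⟨x, hP x.2⟩ = ι ⟨y, hP y.2⟩ := by simpa using h1
  have h3 := hinj h2
  have h4 : (x : Ω) = y := congrArg (fun z : S => (z : Ω)) h3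
  exact Subtype.ext h4

/-- the fusion system of `N` on `ι⁻¹(N)`, read through `ι` -/
def subSys (hinj : Function.Injective ι) (N : Subgroup G) : FusionSystem (pre ι N) where
  Hom P := {φ | ∃ (hP : P ≤ pre ι N) (hφ : ∀ x : P, φ x ∈ pre ι N), ∃ g ∈ N, ∀ x : P,
     ι ⟨φ x, pre_le ι N (hφ x)⟩ = g * ι ⟨x, pre_le ι N (hP x.2)⟩ * g⁻¹}
  le_of_mem := by
    rintro P φ ⟨hP, hφ, -⟩
    exact ⟨hP, hφ⟩
  injective_of_mem := by
    rintro P φ ⟨hP, hφ, g, hg, h⟩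
    exact inj_of_conj ι hinj (hP.trans (pre_le ι N)) φ (fun x => pre_le ι N (hφ x)) g h
  conj_mem := by
    intro P g hP hg
    have hgS := pre_le ι N hg
    refine ⟨hP, fun x => ?_, ι ⟨g, hgS⟩, map_mem_of_mem_pre ι hg, fun x => ?_⟩
    · show g * x * g⁻¹ ∈ pre ι N
      exact (pre ι N).mul_mem ((pre ι N).mul_mem hg (hP x.2)) ((pre ι N).inv_mem hg)
    · show ι ⟨g * x * g⁻¹, _⟩ = ι ⟨g, hgS⟩ * ι ⟨x, _⟩ * (ι ⟨g, hgS⟩)⁻¹
      rw [← map_inv, ← map_mul, ← map_mul]; rfl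
  comp_mem := by
    rintro P Q φ ψ ⟨hP, hφ, g, hg, h⟩ ⟨hQ, hψ, k, hk, h'⟩ hPQ
    refine ⟨hP, fun x => hψ _, k * g, N.mul_mem hk hg, fun x => ?_⟩
    show ι ⟨ψ ⟨φ x, hPQ x⟩, _⟩ = k * g * ι ⟨x, _⟩ * (k * g)⁻¹
    rw [h' ⟨φ x, hPQ x⟩, h x]
    group
  inv_mem := by
    rintro P φ ⟨hP, hφ, g, hg, h⟩
    have hφinj : Function.Injective φ :=
      inj_of_conj ι hinj (hP.trans (pre_le ι N)) φ (fun x => pre_le ι N (hφ x)) g h
    refine ⟨P.subtype.comp (MonoidHom.ofInjective hφinj).symm.toMonoidHom, ⟨?_, ?_, g⁻¹,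
      N.inv_mem hg, ?_⟩, ?_⟩
    · rintro _ ⟨x, rfl⟩; exact hφ x
    · intro y; exact hP ((MonoidHom.ofInjective hφinj).symm y).2
    · intro y
      obtain ⟨x, hx⟩ : ∃ x, MonoidHom.ofInjective hφinj x = y :=
        (MonoidHom.ofInjective hφinj).surjective y
      subst hx
      have h1 := h x
      have e1 : (P.subtype.comp (MonoidHom.ofInjective hφinj).symm.toMonoidHom)
          (MonoidHom.ofInjective hφinj x) = (x : Ω) := by
        show (((MonoidHom.ofInjective hφinj).symm (MonoidHom.ofInjective hφinj x) : P) : Ω) = x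
        rw [MulEquiv.symm_apply_apply]
      have e2 : ((MonoidHom.ofInjective hφinj x : φ.range) : Ω) = φ x := rfl
      simp only [e1, e2]
      rw [h1]; group
    · intro x
      show (((MonoidHom.ofInjective hφinj).symm ⟨φ x, ⟨x, rfl⟩⟩ : P) : Ω) = x
      have : (⟨φ x, ⟨x, rfl⟩⟩ : φ.range) = MonoidHom.ofInjective hφinj x := rfl
      rw [this, MulEquiv.symm_apply_apply]


/-- `ι` restricted to `ι⁻¹(N)`, with values in `N` -/
def resHom (N : Subgroup G) : pre ι N →* N :=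
  (ι.comp (Subgroup.inclusion (pre_le ι N))).codRestrict N (fun x => map_mem_of_mem_pre ι x.2)

theorem resHom_coe (N : Subgroup G) (x : pre ι N) :
    ((resHom ι N x : N) : G) = ι ⟨x, pre_le ι N x.2⟩ := rfl

theorem subSys_isRealizedBy (hinj : Function.Injective ι) (N : Subgroup G) :
    (subSys ι hinj N).IsRealizedBy (resHom ι N) := by
  constructor
  · intro x y hxy
    have h1 : ι ⟨x, pre_le ι N x.2⟩ = ι ⟨y, pre_le ι N y.2⟩ := congrArg Subtype.val hxy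
    have h2 := hinj h1
    have h3 : (x : Ω) = y := congrArg (fun z : S => (z : Ω)) h2
    exact Subtype.ext h3
  · intro P hP φ hφ
    constructor
    · rintro ⟨hP', hφ', g, hg, h⟩
      exact ⟨⟨g, hg⟩, fun x => Subtype.ext (h x)⟩
    · rintro ⟨g, h⟩
      exact ⟨hP, hφ, g.1, g.2, fun x => congrArg Subtype.val (h x)⟩

theorem exists_sylow_resHom [Finite G] (p : ℕ) [Fact p.Prime] (N : Subgroup G) [hN : N.Normal]
    (T : Sylow p G) (hT : (T : Subgroup G) = ι.range) :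
    ∃ Q : Sylow p N, (Q : Subgroup N) = (resHom ι N).range := by
  obtain ⟨Q, hQ⟩ := Cfsg.Agent.Helper1.sylow_inf_subnormal p N hN.isSubnormal T
  refine ⟨Q, ?_⟩
  rw [hQ, hT]
  ext x
  rw [Subgroup.mem_subgroupOf]
  constructor
  · rintro ⟨s, hs⟩
    have hsN : ι s ∈ N := hs ▸ x.2
    have hspre : (s : Ω) ∈ pre ι N := (mem_pre ι).2 ⟨s.2, hsN⟩
    exact ⟨⟨s.1, hspre⟩, Subtype.ext hs⟩
  · rintro ⟨y, rfl⟩
    exact ⟨⟨y.1, pre_le ι N y.2⟩, rfl⟩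

theorem subSys_isSaturated [Finite G] (p : ℕ) [Fact p.Prime] (hinj : Function.Injective ι)
    (N : Subgroup G) [hN : N.Normal] (T : Sylow p G) (hT : (T : Subgroup G) = ι.range) :
    (subSys ι hinj N).IsSaturated p := by
  obtain ⟨Q, hQ⟩ := exists_sylow_resHom ι p N T hT
  exact Fusion.isSaturated_of_isRealizedBy p (subSys ι hinj N) (resHom ι N)
    (subSys_isRealizedBy ι hinj N) Q hQ

theorem subSys_isSubsystemOf (F : FusionSystem S) (hι : F.IsRealizedBy ι) (N : Subgroup G) :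
    (subSys ι hι.1 N).IsSubsystemOf F := by
  rintro P φ ⟨hP, hφ, g, hg, h⟩
  exact (hι.2 P (hP.trans (pre_le ι N)) φ (fun x => pre_le ι N (hφ x))).2 ⟨g, h⟩

theorem pre_stronglyClosed (F : FusionSystem S) (hι : F.IsRealizedBy ι) (N : Subgroup G)
    [hN : N.Normal] : F.StronglyClosed (pre ι N) := by
  refine ⟨pre_le ι N, ?_⟩
  intro R hR φ hφ x
  have hRS := hR.trans (pre_le ι N)
  have hφS : ∀ x : R, φ x ∈ S := fun x => Fusion.map_mem F hφ x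
  obtain ⟨g, hg⟩ := (hι.2 R hRS φ hφS).1 hφ
  rw [mem_pre]
  refine ⟨hφS x, ?_⟩
  rw [hg x]
  exact hN.conj_mem _ (map_mem_of_mem_pre ι (hR x.2)) g


section Real

theorem map_congr {a b : Ω} (h : a = b) (ha : a ∈ S) (hb : b ∈ S) : ι ⟨a, ha⟩ = ι ⟨b, hb⟩ := by
  subst h; rfl

/-- `ι` on a subgroup `P ≤ S` -/
def app (P : Subgroup Ω) (hP : P ≤ S) : P →* G := ι.comp (Subgroup.inclusion hP)

theorem app_apply (P : Subgroup Ω) (hP : P ≤ S) (x : P) : app ι P hP x = ι ⟨x, hP x.2⟩ := rfl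

theorem app_injective (hinj : Function.Injective ι) (P : Subgroup Ω) (hP : P ≤ S) :
    Function.Injective (app ι P hP) := by
  intro x y hxy
  have h2 := hinj hxy
  have h3 : (x : Ω) = y := congrArg (fun z : S => (z : Ω)) h2
  exact Subtype.ext h3

/-- a homomorphism out of `P ≤ S` given through `ι` by conjugation with `g` -/
noncomputable def realHom (hinj : Function.Injective ι) (P : Subgroup Ω) (hP : P ≤ S) (g : G)
    (hg : ∀ x : P, g * ι ⟨x, hP x.2⟩ * g⁻¹ ∈ ι.range) : P →* Ω :=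
  S.subtype.comp ((MonoidHom.ofInjective hinj).symm.toMonoidHom.comp
    (((MulAut.conj g).toMonoidHom.comp (app ι P hP)).codRestrict ι.range hg))

theorem realHom_mem (hinj : Function.Injective ι) (P : Subgroup Ω) (hP : P ≤ S) (g : G)
    (hg : ∀ x : P, g * ι ⟨x, hP x.2⟩ * g⁻¹ ∈ ι.range) (x : P) :
    realHom ι hinj P hP g hg x ∈ S :=
  ((MonoidHom.ofInjective hinj).symm ⟨g * ι ⟨x, hP x.2⟩ * g⁻¹, hg x⟩).2

theorem map_realHom (hinj : Function.Injective ι) (P : Subgroup Ω) (hP : P ≤ S) (g : G)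
    (hg : ∀ x : P, g * ι ⟨x, hP x.2⟩ * g⁻¹ ∈ ι.range) (x : P) :
    ι ⟨realHom ι hinj P hP g hg x, realHom_mem ι hinj P hP g hg x⟩ = g * ι ⟨x, hP x.2⟩ * g⁻¹ := by
  have h1 := (MonoidHom.ofInjective hinj).apply_symm_apply ⟨g * ι ⟨x, hP x.2⟩ * g⁻¹, hg x⟩
  exact congrArg Subtype.val h1

/-- an automorphism of `P ≤ S` given through `ι` by conjugation with `g` -/
noncomputable def realAut (hinj : Function.Injective ι) (P : Subgroup Ω) (hP : P ≤ S) (g : G)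
    (h1 : ∀ x : P, ∃ y : P, ι ⟨y, hP y.2⟩ = g * ι ⟨x, hP x.2⟩ * g⁻¹)
    (h2 : ∀ x : P, ∃ y : P, ι ⟨y, hP y.2⟩ = g⁻¹ * ι ⟨x, hP x.2⟩ * g) : MulAut P where
  toFun x := (h1 x).choose
  invFun x := (h2 x).choose
  left_inv x := by
    apply app_injective ι hinj P hP
    show ι ⟨_, _⟩ = ι ⟨_, _⟩
    rw [(h2 _).choose_spec, (h1 x).choose_spec]; group
  right_inv x := by
    apply app_injective ι hinj P hP
    show ι ⟨_, _⟩ = ι ⟨_, _⟩
    rw [(h1 _).choose_spec, (h2 x).choose_spec]; group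
  map_mul' x y := by
    apply app_injective ι hinj P hP
    rw [map_mul]
    show ι ⟨_, _⟩ = ι ⟨_, _⟩ * ι ⟨_, _⟩
    rw [(h1 _).choose_spec, (h1 x).choose_spec, (h1 y).choose_spec]
    have : ι ⟨((x * y : P) : Ω), hP (x * y).2⟩ = ι ⟨x, hP x.2⟩ * ι ⟨y, hP y.2⟩ := by
      rw [← map_mul]; rfl
    rw [this]; group

theorem map_realAut (hinj : Function.Injective ι) (P : Subgroup Ω) (hP : P ≤ S) (g : G)
    (h1 : ∀ x : P, ∃ y : P, ι ⟨y, hP y.2⟩ = g * ι ⟨x, hP x.2⟩ * g⁻¹)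
    (h2 : ∀ x : P, ∃ y : P, ι ⟨y, hP y.2⟩ = g⁻¹ * ι ⟨x, hP x.2⟩ * g) (x : P) :
    ι ⟨(realAut ι hinj P hP g h1 h2 x : P), hP (realAut ι hinj P hP g h1 h2 x).2⟩ =
      g * ι ⟨x, hP x.2⟩ * g⁻¹ := (h1 x).choose_spec

theorem realAut_mem_autGroup (F : FusionSystem S) (hι : F.IsRealizedBy ι) (P : Subgroup Ω)
    (hP : P ≤ S) (g : G)
    (h1 : ∀ x : P, ∃ y : P, ι ⟨y, hP y.2⟩ = g * ι ⟨x, hP x.2⟩ * g⁻¹)
    (h2 : ∀ x : P, ∃ y : P, ι ⟨y, hP y.2⟩ = g⁻¹ * ι ⟨x, hP x.2⟩ * g) :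
    realAut ι hι.1 P hP g h1 h2 ∈ F.autGroup P := by
  rw [Fusion.mem_autGroup_iff F hP]
  refine (hι.2 P hP _ (fun x => hP (realAut ι hι.1 P hP g h1 h2 x).2)).2 ⟨g, fun x => ?_⟩
  exact map_realAut ι hι.1 P hP g h1 h2 x

theorem realHom_mem_hom (F : FusionSystem S) (hι : F.IsRealizedBy ι) (P : Subgroup Ω)
    (hP : P ≤ S) (g : G) (hg : ∀ x : P, g * ι ⟨x, hP x.2⟩ * g⁻¹ ∈ ι.range) :
    realHom ι hι.1 P hP g hg ∈ F.Hom P :=
  (hι.2 P hP _ (realHom_mem ι hι.1 P hP g hg)).2 ⟨g, map_realHom ι hι.1 P hP g hg⟩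

/-- elements of `Aut_F(P)` are realized by elements of `G` -/
theorem exists_of_mem_autGroup (F : FusionSystem S) (hι : F.IsRealizedBy ι) (P : Subgroup Ω)
    (hP : P ≤ S) (α : MulAut P) (hα : α ∈ F.autGroup P) :
    ∃ g : G, ∀ x : P, ι ⟨(α x : P), hP (α x).2⟩ = g * ι ⟨x, hP x.2⟩ * g⁻¹ := by
  rw [Fusion.mem_autGroup_iff F hP] at hα
  exact (hι.2 P hP _ (fun x => hP (α x).2)).1 hα

end Real

end Cfsg.Agent.Lead.RealSimple
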