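import Mathlib
import Cfsg.Prelude.Def_Solvable
import Cfsg.Agent.Helper4.PCore
import Cfsg.Agent.Lead.FusionNormalSub

set_option autoImplicit false

/-!
A finite group with a normal `p`-subgroup `Q` containing its centralizer in a Sylow `p`-subgroup: modulo a
normal `p'`-subgroup, the centralizer of `O_p` is contained in `O_p`.
-/

namespace Cfsg.Agent.Lead
namespace LocMod

open Cfsg

theorem exists_pprime_normal {H : Type*} [Group H] [Finite H] (p : ℕ) [Fact p.Prime] (P : Sylow p H)
    (Q : Subgroup H) [hQn : Q.Normal] (hQP : Q ≤ (P : Subgroup H))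
    (hcent : ∀ x ∈ (P : Subgroup H), (∀ q ∈ Q, x * q = q * x) → x ∈ Q) :
    ∃ K : Subgroup H, ∃ _ : K.Normal, (Nat.card K).Coprime p ∧
      Subgroup.centralizer ((Cfsg.pCore p (H ⧸ K) : Subgroup (H ⧸ K)) : Set (H ⧸ K)) ≤
        Cfsg.pCore p (H ⧸ K) := by
  have hp : p.Prime := Fact.out
  set C : Subgroup H := Subgroup.centralizer (Q : Set H) with hC
  haveI hCn : C.Normal := Subgroup.normal_centralizer
  have hcard' : Nat.card ((((P : Subgroup H) ⊓ C).subgroupOf C)) =
      p ^ (Nat.card C).factorization p := by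
    rw [card_subgroupOf_of_le inf_le_right]
    exact Fusion.card_sylow_inf_normal p P C
  set PC : Sylow p C := Sylow.ofCard (((P : Subgroup H) ⊓ C).subgroupOf C) hcard' with hPC
  have hPCmem : ∀ x : C, x ∈ (PC : Subgroup C) ↔ (x : H) ∈ (P : Subgroup H) := by
    intro x
    show x ∈ ((P : Subgroup H) ⊓ C).subgroupOf C ↔ _
    rw [Subgroup.mem_subgroupOf, Subgroup.mem_inf]
    exact ⟨fun h => h.1, fun h => ⟨h, x.2⟩⟩
  -- the Sylow subgroup of `C` is central in `C`
  have hcentral : ∀ x : C, x ∈ (PC : Subgroup C) → ∀ y : C, y * x = x * y := by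
    intro x hx y
    have hxP : (x : H) ∈ (P : Subgroup H) := (hPCmem x).mp hx
    have hxQ : (x : H) ∈ Q := hcent x hxP (fun q hq => by
      have := Subgroup.mem_centralizer_iff.mp x.2 q hq
      exact this.symm)
    apply Subtype.ext
    show (y : H) * x = x * y
    exact (Subgroup.mem_centralizer_iff.mp y.2 x hxQ).symm
  have hle : Subgroup.normalizer ((PC : Subgroup C) : Set C) ≤
      Subgroup.centralizer ((PC : Subgroup C) : Set C) := by
    intro y _
    rw [Subgroup.mem_centralizer_iff]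
    intro x hx
    exact (hcentral x hx y).symm
  set KC : Subgroup C := (MonoidHom.transferSylow PC hle).ker with hKC
  have hcompl : KC.IsComplement' (PC : Subgroup C) := MonoidHom.ker_transferSylow_isComplement' PC hle
  have hKCcop : (Nat.card KC).Coprime p := by
    have h1 : Nat.card KC = (PC : Subgroup C).index := hcompl.index_eq_card.symm
    rw [h1]
    exact (Nat.Prime.coprime_iff_not_dvd hp).mpr PC.not_dvd_index |>.symm
  -- `p'`-elements of `C` lie in `KC`
  have hpel : ∀ x : C, (orderOf x).Coprime p → x ∈ KC := by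
    intro x hx
    rw [hKC, MonoidHom.mem_ker]
    set y := MonoidHom.transferSylow PC hle x with hy
    have h1 : orderOf y ∣ orderOf x := orderOf_map_dvd _ x
    obtain ⟨k, hk⟩ := (IsPGroup.iff_orderOf.mp PC.isPGroup') y
    have h2 : (orderOf y).Coprime p := Nat.Coprime.coprime_dvd_left h1 hx
    rw [hk] at h2
    rcases Nat.eq_zero_or_pos k with rfl | hkpos
    · rw [pow_zero] at hk
      exact orderOf_eq_one_iff.mp hk
    · exfalso
      have : p ∣ p ^ k := dvd_pow_self p hkpos.ne'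
      have h3 := Nat.Coprime.eq_one_of_dvd h2.symm this
      exact hp.one_lt.ne' h3
  set K : Subgroup H := KC.map C.subtype with hK
  have hKcard : Nat.card K = Nat.card KC :=
    Nat.card_congr (KC.equivMapOfInjective C.subtype C.subtype_injective).symm.toEquiv
  have hKcop : (Nat.card K).Coprime p := hKcard ▸ hKCcop
  have hKn : K.Normal := by
    constructor
    rintro _ ⟨k, hk, rfl⟩ h
    have hmem : h * (k : H) * h⁻¹ ∈ C := hCn.conj_mem _ k.2 h
    refine ⟨⟨h * (k : H) * h⁻¹, hmem⟩, ?_, rfl⟩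
    apply hpel
    have h1 : orderOf (⟨h * (k : H) * h⁻¹, hmem⟩ : C) = orderOf k := by
      rw [← Subgroup.orderOf_coe, ← Subgroup.orderOf_coe]
      show orderOf (h * (k : H) * h⁻¹) = orderOf (k : H)
      exact (MulAut.conj h).orderOf_eq (k : H)
    rw [h1]
    have h2 : orderOf k ∣ Nat.card KC := by
      have := orderOf_dvd_natCard (⟨k, hk⟩ : KC)
      rwa [Subgroup.orderOf_mk] at this
    exact Nat.Coprime.coprime_dvd_left h2 hKCcop
  refine ⟨K, hKn, hKcop, ?_⟩
  -- `Q ∩ K = 1`
  have hQK : ∀ x, x ∈ Q → x ∈ K → x = 1 := by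
    intro x hxQ hxK
    have h1 : orderOf x ∣ Nat.card K := by
      have := orderOf_dvd_natCard (⟨x, hxK⟩ : K)
      rwa [Subgroup.orderOf_mk] at this
    obtain ⟨k, hk⟩ := (IsPGroup.iff_orderOf.mp P.isPGroup') (⟨x, hQP hxQ⟩ : (P : Subgroup H))
    rw [Subgroup.orderOf_mk] at hk
    rcases Nat.eq_zero_or_pos k with rfl | hkpos
    · rw [pow_zero] at hk
      exact orderOf_eq_one_iff.mp hk
    · exfalso
      have h2 : (orderOf x).Coprime p := Nat.Coprime.coprime_dvd_left h1 hKcop
      rw [hk] at h2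
      have : p ∣ p ^ k := dvd_pow_self p hkpos.ne'
      have h3 := Nat.Coprime.eq_one_of_dvd h2.symm this
      exact hp.one_lt.ne' h3
  set π := QuotientGroup.mk' K with hπ
  have hQbar : Q.map π ≤ Cfsg.pCore p (H ⧸ K) := by
    apply Cfsg.Agent.Helper4.le_pCore
    · exact Subgroup.Normal.map hQn π (QuotientGroup.mk'_surjective K)
    · exact (P.isPGroup'.to_le hQP).map π
  intro xb hxb
  obtain ⟨x, rfl⟩ := QuotientGroup.mk'_surjective K xb
  -- `x` centralizes `Q`
  have hxC : x ∈ C := by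
    rw [hC, Subgroup.mem_centralizer_iff]
    intro q hq
    have h1 : π q * π x = π x * π q :=
      Subgroup.mem_centralizer_iff.mp hxb (π q) (hQbar ⟨q, hq, rfl⟩)
    have h2 : π (x * q * x⁻¹ * q⁻¹) = 1 := by
      rw [map_mul, map_mul, map_mul, map_inv, map_inv, ← h1]
      group
    have h3 : x * q * x⁻¹ * q⁻¹ ∈ K := (QuotientGroup.eq_one_iff _).mp h2
    have h4 : x * q * x⁻¹ * q⁻¹ ∈ Q := Q.mul_mem (hQn.conj_mem q hq x) (Q.inv_mem hq)
    have h5 := hQK _ h4 h3
    calc q * x = (x * q * x⁻¹ * q⁻¹)⁻¹ * (x * q) := by group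
      _ = x * q := by rw [h5, inv_one, one_mul]
  -- decompose `x` in `C = KC * PC`
  obtain ⟨⟨⟨k, hk⟩, ⟨z, hz⟩⟩, hkz⟩ := hcompl.existsUnique (⟨x, hxC⟩ : C) |>.exists
  have hkz' : k * z = ⟨x, hxC⟩ := hkz
  have hx' : x = (k : H) * (z : H) := by
    have := congrArg (fun c : C => (c : H)) hkz'
    exact this.symm
  have hzQ : (z : H) ∈ Q := hcent z ((hPCmem z).mp hz) (fun q hq => by
    have := Subgroup.mem_centralizer_iff.mp z.2 q hq
    exact this.symm)
  have hkK : (k : H) ∈ K := ⟨k, hk, rfl⟩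
  have h6 : π x = π (z : H) := by
    rw [hx', map_mul]
    have : π (k : H) = 1 := (QuotientGroup.eq_one_iff _).mpr hkK
    rw [this, one_mul]
  show π x ∈ Cfsg.pCore p (H ⧸ K)
  rw [h6]
  exact hQbar ⟨z, hzQ, rfl⟩

end LocMod
end Cfsg.Agent.Lead
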