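import Mathlib
import Cfsg.Prelude.Def_FusionSystem
import Cfsg.Agent.Lead.LocModA
import Cfsg.Agent.Helper6.FusPSolvB

set_option autoImplicit false

/-!
A finite group realizing a fusion system on a Sylow subgroup, with a normal subgroup `Q` of the Sylow subgroup
containing its centralizer there and normal in the group: modulo a normal `p'`-subgroup it is a model.
-/

namespace Cfsg.Agent.Lead
namespace LocMod

open Cfsg Cfsg.FusionSystem

theorem exists_model_quotient {Ω : Type*} [Group Ω] {T : Subgroup Ω} (p : ℕ) [Fact p.Prime]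
    (E : FusionSystem T) {H : Type*} [Group H] [Finite H] (ι : T →* H) (hι : E.IsRealizedBy ι)
    (P : Sylow p H) (hP : (P : Subgroup H) = ι.range) (Q : Subgroup Ω) (hQT : Q ≤ T)
    (hQc : centralizerIn T Q ≤ Q) (hQn : ((Q.subgroupOf T).map ι).Normal) :
    ∃ K : Subgroup H, ∃ _ : K.Normal, (Nat.card K).Coprime p ∧
      E.IsModel p (H ⧸ K) ((QuotientGroup.mk' K).comp ι) := by
  haveI := hQn
  have hQP : (Q.subgroupOf T).map ι ≤ (P : Subgroup H) := by
    rw [hP]
    rintro _ ⟨t, -, rfl⟩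
    exact ⟨t, rfl⟩
  have hcent : ∀ x ∈ (P : Subgroup H), (∀ q ∈ (Q.subgroupOf T).map ι, x * q = q * x) →
      x ∈ (Q.subgroupOf T).map ι := by
    intro x hx hcomm
    rw [hP] at hx
    obtain ⟨t, rfl⟩ := hx
    refine ⟨t, ?_, rfl⟩
    rw [SetLike.mem_coe, Subgroup.mem_subgroupOf]
    apply hQc
    refine ⟨t.2, ?_⟩
    show (t : Ω) ∈ Subgroup.centralizer (Q : Set Ω)
    rw [Subgroup.mem_centralizer_iff]
    intro q hq
    have h1 := hcomm (ι ⟨q, hQT hq⟩) ⟨⟨q, hQT hq⟩, by
      rw [SetLike.mem_coe, Subgroup.mem_subgroupOf]; exact hq, rfl⟩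
    rw [← map_mul, ← map_mul] at h1
    have h2 := hι.1 h1
    have h3 : (t : Ω) * q = q * (t : Ω) := congrArg (fun z : T => (z : Ω)) h2
    exact h3.symm
  obtain ⟨K, hKn, hKcop, hK⟩ := exists_pprime_normal p P ((Q.subgroupOf T).map ι) hQP hcent
  haveI := hKn
  refine ⟨K, hKn, hKcop, ?_⟩
  obtain ⟨h1, h2⟩ := Cfsg.Agent.Helper6.FusPSolv.isRealizedBy_quotient ι E hι P hP K hKcop
  exact ⟨inferInstance, h1, h2, hK⟩

end LocMod
end Cfsg.Agent.Lead
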