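import Mathlib
import Cfsg.Agent.Helper1.OmegaOdd

set_option autoImplicit false

namespace Cfsg.Agent.Lead

open Cfsg.Agent.Helper1

open scoped commutatorElement

universe u

variable {G : Type u} [Group G]

/-- In a finite `2`-group whose Frattini subgroup is central, `x ↦ x ^ 4` is multiplicative. -/
theorem mul_pow_four_of_frattini_le_center {P : Type u} [Group P] [Finite P]
    (hP : IsPGroup 2 P) (hF : frattini P ≤ Subgroup.center P) (x y : P) :
    (x * y) ^ 4 = x ^ 4 * y ^ 4 := by
  have h2 : ⁅commutator P, (⊤ : Subgroup P)⁆ = ⊥ := by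
    rw [Subgroup.commutator_eq_bot_iff_le_centralizer, Subgroup.coe_top, Subgroup.centralizer_univ]
    exact (IsPGroup.commutator_le_frattini hP).trans hF
  have hcen : ∀ z, Commute ⁅y, x⁆ z := commute_commutator_of_class_two h2 y x
  have hyx : y * x = ⁅y, x⁆ * x * y := by simp [commutatorElement_def]
  have hc2 : ⁅y, x⁆ ^ 2 = 1 := by
    rw [← commutator_pow_left_of_central hcen 2, commutatorElement_eq_one_iff_commute]
    have : y ^ 2 ∈ Subgroup.center P := hF (IsPGroup.pow_mem_frattini hP y)
    exact (Subgroup.mem_center_iff.1 this x).symm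
  rw [mul_pow_of_central hcen hyx 4]
  have h6 : Nat.choose 4 2 = 2 * 3 := by decide
  rw [h6, pow_mul, hc2, one_pow, mul_one]

/-- **The `Ω₂` theorem for `p = 2`.** An element `c` of odd order normalizing a `2`-group
`R` and centralizing all its elements of order dividing `4` centralizes `R`. -/
theorem centralizes_of_centralizes_order_four [Finite G]
    (c : G) (hc : (orderOf c).Coprime 2) :
    ∀ (R : Subgroup G), IsPGroup 2 R → c ∈ Subgroup.normalizer (R : Set G) →
      (∀ r ∈ R, r ^ 4 = 1 → c * r = r * c) → ∀ r ∈ R, c * r = r * c := by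
  intro R
  induction' hk : Nat.card R using Nat.strong_induction_on with k ih generalizing R
  intro hR hcR hcen
  by_cases hR1 : R = ⊥
  · intro r hr
    rw [hR1, Subgroup.mem_bot] at hr
    rw [hr, mul_one, one_mul]
  set A := Subgroup.zpowers c with hA
  have hAR : A ≤ Subgroup.normalizer (R : Set G) := by
    rw [hA, Subgroup.zpowers_le]; exact hcR
  have hcardA : Nat.card A = orderOf c := Nat.card_zpowers c
  obtain ⟨n, hn⟩ := IsPGroup.iff_card.1 hR
  have hcop : (Nat.card A).Coprime (Nat.card R) := by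
    rw [hcardA, hn]; exact Nat.Coprime.pow_right _ hc
  have hsolvA : Group.IsSolvable A := by
    have : IsMulCommutative A := inferInstance
    exact Group.isSolvable_of_comm (fun a b => mul_comm' a b)
  have hcomm_le : ⁅R, A⁆ ≤ R := Subgroup.le_normalizer_iff_commutator_le_left.1 hAR
  have hcentA : ∀ X : Subgroup G, (∀ r ∈ X, c * r = r * c) → X ≤ Subgroup.centralizer (A : Set G) := by
    intro X hX r hr
    rw [Subgroup.mem_centralizer_iff]
    intro a ha
    obtain ⟨k, rfl⟩ := Subgroup.mem_zpowers_iff.1 ha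
    exact ((Commute.zpow_left (show Commute c r from hX r hr) k)).eq
  have hcA : c ∈ A := Subgroup.mem_zpowers c
  have hIH : ∀ X : Subgroup G, X < R → c ∈ Subgroup.normalizer (X : Set G) →
      ∀ r ∈ X, c * r = r * c := by
    intro X hXR hcX
    have hlt : Nat.card X < k := by
      rw [← hk]
      exact card_lt_card_of_lt hXR
    exact ih (Nat.card X) hlt X rfl (hR.to_le hXR.le) hcX (fun r hr ho => hcen r (hXR.le hr) ho)
  by_cases hcase : ⁅R, A⁆ = R
  · set F := (frattini R).map R.subtype with hF
    have hFR : F < R := frattini_map_lt R hR1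
    have hcF : c ∈ Subgroup.normalizer (F : Set G) :=
      le_normalizer_map_of_characteristic R (frattini R) hcR
    have hFc : ∀ r ∈ F, c * r = r * c := hIH F hFR hcF
    have hFA : F ≤ Subgroup.centralizer (A : Set G) := hcentA F hFc
    have hRF : R ≤ Subgroup.normalizer (F : Set G) :=
      Subgroup.le_normalizer.trans (le_normalizer_map_of_characteristic R (frattini R))
    have h1 : ⁅⁅A, F⁆, R⁆ = ⊥ := by
      have : ⁅A, F⁆ = ⊥ := by
        rw [Subgroup.commutator_comm, Subgroup.commutator_eq_bot_iff_le_centralizer]; exact hFA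
      rw [this, Subgroup.commutator_bot_left]
    have h2 : ⁅⁅F, R⁆, A⁆ = ⊥ := by
      rw [Subgroup.commutator_eq_bot_iff_le_centralizer]
      exact (Subgroup.le_normalizer_iff_commutator_le_left.1 hRF).trans hFA
    have h3 : ⁅⁅R, A⁆, F⁆ = ⊥ := Subgroup.commutator_commutator_eq_bot_of_rotate h1 h2
    rw [hcase, Subgroup.commutator_eq_bot_iff_le_centralizer] at h3
    have hFcen : frattini R ≤ Subgroup.center R := by
      intro f hf
      rw [Subgroup.mem_center_iff]
      intro x
      apply Subtype.ext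
      have hfF : (f : G) ∈ F := Subgroup.mem_map_of_mem _ hf
      have := Subgroup.mem_centralizer_iff.1 (h3 x.2) (f : G) hfF
      simpa using this.symm
    have hpow := fun x y : R => mul_pow_four_of_frattini_le_center hR hFcen x y
    have hgen : ⁅R, A⁆ ≤ Subgroup.centralizer ({c} : Set G) := by
      rw [Subgroup.commutator_le]
      intro r hr a ha
      have hara : a * r⁻¹ * a⁻¹ ∈ R :=
        (Subgroup.mem_normalizer_iff.1 (hAR ha) r⁻¹).1 (R.inv_mem hr)
      have hz : ⁅r, a⁆ ∈ R := by
        have : ⁅r, a⁆ = r * (a * r⁻¹ * a⁻¹) := by rw [commutatorElement_def]; group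
        rw [this]; exact R.mul_mem hr hara
      have hrp : r ^ 4 ∈ F := by
        have h0 : (⟨r, hr⟩ : R) ^ 2 ∈ frattini R := IsPGroup.pow_mem_frattini hR _
        have h1 : ((⟨r, hr⟩ : R) ^ 2) ^ 2 ∈ frattini R := Subgroup.pow_mem _ h0 2
        refine ⟨((⟨r, hr⟩ : R) ^ 2) ^ 2, h1, ?_⟩
        simp [← pow_mul]
      have harp : a * r ^ 4 = r ^ 4 * a :=
        (Subgroup.mem_centralizer_iff.1 (hFA hrp) a ha)
      have hzp : ⁅r, a⁆ ^ 4 = 1 := by
        have h0 := hpow ⟨r, hr⟩ ⟨a * r⁻¹ * a⁻¹, hara⟩
        have h1 := congrArg Subtype.val h0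
        simp only [Subgroup.coe_pow, Subgroup.coe_mul] at h1
        have e : ⁅r, a⁆ = r * (a * r⁻¹ * a⁻¹) := by rw [commutatorElement_def]; group
        rw [e, h1, conj_pow, inv_pow]
        have : a * (r ^ 4)⁻¹ * a⁻¹ = (r ^ 4)⁻¹ := by
          rw [mul_inv_eq_iff_eq_mul]
          have := congrArg (fun t => (r ^ 4)⁻¹ * t * (r ^ 4)⁻¹) harp
          simpa [mul_assoc] using this.symm
        rw [this, mul_inv_cancel]
      rw [Subgroup.mem_centralizer_iff]
      intro g hg
      rw [Set.mem_singleton_iff] at hg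
      subst hg
      exact hcen _ hz hzp
    rw [hcase] at hgen
    intro r hr
    exact Subgroup.mem_centralizer_iff.1 (hgen hr) c rfl
  · have hlt : ⁅R, A⁆ < R := lt_of_le_of_ne hcomm_le hcase
    have hcX : c ∈ Subgroup.normalizer ((⁅R, A⁆ : Subgroup G) : Set G) :=
      le_normalizer_commutator hAR Subgroup.le_normalizer hcA
    have hXc := hIH _ hlt hcX
    have hXA := hcentA _ hXc
    have h0 : ⁅⁅R, A⁆, A⁆ = ⊥ := by
      rw [Subgroup.commutator_eq_bot_iff_le_centralizer]; exact hXA
    rw [coprime_commutator_commutator A R hAR hcop (Or.inl hsolvA),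
      Subgroup.commutator_eq_bot_iff_le_centralizer] at h0
    intro r hr
    exact (Subgroup.mem_centralizer_iff.1 (h0 hr) c hcA)

end Cfsg.Agent.Lead
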