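import Mathlib
import Cfsg.Agent.Lead.OmegaTwo
import Cfsg.Agent.Lead.FusionSat3
import Cfsg.Agent.Helper1.FrobPCompl2
import Cfsg.Agent.Helper1.NormalPCompl
import Cfsg.Prelude.Def_Transfer

set_option autoImplicit false

namespace Cfsg.Agent.Lead

open Cfsg.Agent.Helper1

open scoped commutatorElement

universe u

variable {G : Type u} [Group G]

/-- Combined `Ω`-lemma: a `p'`-element normalizing a `p`-group and centralizing its elements of
order dividing `p` (dividing `4` when `p = 2`) centralizes it. -/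
theorem centralizes_of_centralizes_omega [Finite G] {p : ℕ} [Fact p.Prime] (c : G)
    (hc : (orderOf c).Coprime p) (R : Subgroup G) (hR : IsPGroup p R)
    (hcR : c ∈ Subgroup.normalizer (R : Set G))
    (h : ∀ r ∈ R, (r ^ p = 1 ∨ (p = 2 ∧ r ^ 4 = 1)) → c * r = r * c) :
    ∀ r ∈ R, c * r = r * c := by
  by_cases hp2 : p = 2
  · subst hp2
    exact centralizes_of_centralizes_order_four c hc R hR hcR
      (fun r hr h4 => h r hr (Or.inr ⟨rfl, h4⟩))
  · exact centralizes_of_centralizes_order_p hp2 c hc R hR hcR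
      (fun r hr hord => h r hr (Or.inl (by rw [← hord]; exact pow_orderOf_eq_one r)))

/-- Commutators `⁅q, t⁆` with `q` in the closure of `S` lie in `Y`, provided the generators do and
`Y` is stable under conjugation by the closure. -/
theorem commutator_closure_le {S : Set G} {T Y : Subgroup G}
    (hgen : ∀ a ∈ S, ∀ t ∈ T, ⁅a, t⁆ ∈ Y)
    (hY : ∀ q ∈ Subgroup.closure S, ∀ y ∈ Y, q * y * q⁻¹ ∈ Y) :
    ⁅Subgroup.closure S, T⁆ ≤ Y := by
  rw [Subgroup.commutator_le]
  intro q hq t ht
  induction hq using Subgroup.closure_induction with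
  | mem a ha => exact hgen a ha t ht
  | one =>
    have : ⁅(1 : G), t⁆ = 1 := by rw [commutatorElement_def]; group
    rw [this]; exact Subgroup.one_mem _
  | mul a b ha hb iha ihb =>
    have : ⁅a * b, t⁆ = (a * ⁅b, t⁆ * a⁻¹) * ⁅a, t⁆ := by
      simp only [commutatorElement_def]; group
    rw [this]
    exact Y.mul_mem (hY a ha _ ihb) iha
  | inv a ha iha =>
    have : ⁅a⁻¹, t⁆ = a⁻¹ * (⁅a, t⁆)⁻¹ * a⁻¹⁻¹ := by
      simp only [commutatorElement_def]; group
    rw [this]
    exact hY a⁻¹ (Subgroup.inv_mem _ ha) _ (Y.inv_mem iha)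

variable [Finite G] {p : ℕ} [Fact p.Prime]

/-- `S1946`. -/
theorem hasNormalPComplement_iff_controls_omega_fusion (P : Sylow p G) :
    Cfsg.HasNormalPComplement p G ↔
      ∀ a ∈ (P : Subgroup G), (a ^ p = 1 ∨ (p = 2 ∧ a ^ 4 = 1)) → ∀ g : G,
        g * a * g⁻¹ ∈ (P : Subgroup G) → ∃ x ∈ (P : Subgroup G), g * a * g⁻¹ = x * a * x⁻¹ := by
  constructor
  · intro h a ha _ g hga
    obtain ⟨N, hNn, hNc⟩ := (hasNormalPComplement_iff P).mp h
    obtain ⟨⟨⟨n, hn⟩, ⟨x, hx⟩⟩, hnx, -⟩ := hNc.existsUnique g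
    have hg : n * x = g := hnx
    refine ⟨x, hx, ?_⟩
    have hb : x * a * x⁻¹ ∈ (P : Subgroup G) :=
      (P : Subgroup G).mul_mem ((P : Subgroup G).mul_mem hx ha) ((P : Subgroup G).inv_mem hx)
    have hnb : n * (x * a * x⁻¹) * n⁻¹ ∈ (P : Subgroup G) := by
      have : n * (x * a * x⁻¹) * n⁻¹ = g * a * g⁻¹ := by rw [← hg]; group
      rw [this]; exact hga
    have h1 : n * (x * a * x⁻¹) * n⁻¹ * (x * a * x⁻¹)⁻¹ ∈ (P : Subgroup G) :=
      (P : Subgroup G).mul_mem hnb ((P : Subgroup G).inv_mem hb)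
    have h2 : n * (x * a * x⁻¹) * n⁻¹ * (x * a * x⁻¹)⁻¹ ∈ N := by
      have : n * (x * a * x⁻¹) * n⁻¹ * (x * a * x⁻¹)⁻¹ =
          n * ((x * a * x⁻¹) * n⁻¹ * (x * a * x⁻¹)⁻¹) := by group
      rw [this]
      exact N.mul_mem hn (hNn.conj_mem _ (N.inv_mem hn) _)
    have hdisj : N ⊓ (P : Subgroup G) = ⊥ := hNc.disjoint.eq_bot
    have h3 : n * (x * a * x⁻¹) * n⁻¹ * (x * a * x⁻¹)⁻¹ = 1 := by
      have : n * (x * a * x⁻¹) * n⁻¹ * (x * a * x⁻¹)⁻¹ ∈ N ⊓ (P : Subgroup G) :=
        Subgroup.mem_inf.mpr ⟨h2, h1⟩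
      rw [hdisj] at this
      exact Subgroup.mem_bot.mp this
    have h4 : n * (x * a * x⁻¹) * n⁻¹ = x * a * x⁻¹ := mul_inv_eq_one.mp h3
    rw [← h4, ← hg]
    group
  · intro h
    rw [hasNormalPComplement_iff P, frobenius_normal_pcomplement_iff P]
    by_contra hcon
    push Not at hcon
    -- the set of bad subgroups
    set 𝒮 : Set (Subgroup G) := {Q | Q ≤ (P : Subgroup G) ∧
      ∃ g ∈ Subgroup.normalizer (Q : Set G), (orderOf g).Coprime p ∧
        g ∉ Subgroup.centralizer (Q : Set G)} with h𝒮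
    have hne : 𝒮.Nonempty := by
      obtain ⟨Q, hQP, g, hg, hcop, hgC⟩ := hcon
      exact ⟨Q, hQP, g, hg, hcop, hgC⟩
    obtain ⟨Q, hQ𝒮, hQmin⟩ := Set.exists_min_image 𝒮 (fun Q => Nat.card Q) (Set.toFinite 𝒮) hne
    obtain ⟨hQP, g, hgN, hcop, hgC⟩ := hQ𝒮
    have hQp : IsPGroup p Q := P.2.to_le hQP
    -- minimality
    have hmin : ∀ Q0 : Subgroup G, Q0 ≤ Q → Q0 ≠ Q → g ∈ Subgroup.normalizer (Q0 : Set G) →
        g ∈ Subgroup.centralizer (Q0 : Set G) := by
      intro Q0 hQ0 hne0 hgN0
      by_contra hgC0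
      have hmem : Q0 ∈ 𝒮 := ⟨hQ0.trans hQP, g, hgN0, hcop, hgC0⟩
      have h1 := hQmin Q0 hmem
      have hlt : Q0 < Q := lt_of_le_of_ne hQ0 hne0
      have h2 : Nat.card Q0 < Nat.card Q := card_lt_card_of_lt hlt
      exact absurd h1 (not_le.mpr h2)
    -- `g` does not commute with everything in `Q`
    have hgC' : ¬ ∀ r ∈ Q, g * r = r * g := by
      intro hall
      apply hgC
      rw [Subgroup.mem_centralizer_iff]
      intro r hr
      exact (hall r hr).symm
    -- `Q` is generated by its `Ω`-elements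
    set Ωs : Set G := {a | a ∈ Q ∧ (a ^ p = 1 ∨ (p = 2 ∧ a ^ 4 = 1))} with hΩs
    have hWQ : Subgroup.closure Ωs ≤ Q := (Subgroup.closure_le _).mpr (fun a ha => ha.1)
    have hconjΩ : ∀ a ∈ Ωs, g * a * g⁻¹ ∈ Ωs := by
      intro a ha
      refine ⟨(Subgroup.mem_normalizer_iff.mp hgN a).mp ha.1, ?_⟩
      rcases ha.2 with h1 | ⟨h1, h2⟩
      · left; rw [conj_pow, h1]; group
      · right; refine ⟨h1, ?_⟩; rw [conj_pow, h2]; group
    have hgW : g ∈ Subgroup.normalizer ((Subgroup.closure Ωs : Subgroup G) : Set G) := by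
      apply mem_normalizer_of_conj_mem_of_finite
      intro y hy
      induction hy using Subgroup.closure_induction with
      | mem a ha => exact Subgroup.subset_closure (hconjΩ a ha)
      | one => simp
      | mul a b _ _ iha ihb =>
        have : g * (a * b) * g⁻¹ = (g * a * g⁻¹) * (g * b * g⁻¹) := by group
        rw [this]; exact Subgroup.mul_mem _ iha ihb
      | inv a _ iha =>
        have : g * a⁻¹ * g⁻¹ = (g * a * g⁻¹)⁻¹ := by group
        rw [this]; exact Subgroup.inv_mem _ iha
    have hW : Subgroup.closure Ωs = Q := by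
      by_contra hWne
      have hgCW := hmin _ hWQ hWne hgW
      apply hgC'
      apply centralizes_of_centralizes_omega g hcop Q hQp hgN
      intro r hr hΩ
      have := Subgroup.mem_centralizer_iff.mp hgCW r (Subgroup.subset_closure ⟨hr, hΩ⟩)
      exact this.symm
    -- `[Q, T] = Q`
    set T := Subgroup.zpowers g with hT
    have hTN : T ≤ Subgroup.normalizer (Q : Set G) := by
      rw [hT, Subgroup.zpowers_le]; exact hgN
    have hgT : g ∈ T := Subgroup.mem_zpowers g
    have hKQ : ⁅Q, T⁆ ≤ Q := Subgroup.le_normalizer_iff_commutator_le_left.1 hTN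
    have hgK : g ∈ Subgroup.normalizer ((⁅Q, T⁆ : Subgroup G) : Set G) :=
      le_normalizer_commutator hTN Subgroup.le_normalizer hgT
    have hcardT : Nat.card T = orderOf g := Nat.card_zpowers g
    obtain ⟨n, hn⟩ := IsPGroup.iff_card.1 hQp
    have hcopTQ : (Nat.card T).Coprime (Nat.card Q) := by
      rw [hcardT, hn]; exact Nat.Coprime.pow_right _ hcop
    have hsolvT : Group.IsSolvable T := by
      have : IsMulCommutative T := inferInstance
      exact Group.isSolvable_of_comm (fun a b => mul_comm' a b)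
    have hK : ⁅Q, T⁆ = Q := by
      by_contra hKne
      have hgCK := hmin _ hKQ hKne hgK
      have hKT : ⁅Q, T⁆ ≤ Subgroup.centralizer (T : Set G) := by
        intro r hr
        rw [Subgroup.mem_centralizer_iff]
        intro t ht
        obtain ⟨k, rfl⟩ := Subgroup.mem_zpowers_iff.1 ht
        have hcomm : Commute g r := (Subgroup.mem_centralizer_iff.mp hgCK r hr).symm
        exact (hcomm.zpow_left k).eq
      have h0 : ⁅⁅Q, T⁆, T⁆ = ⊥ := by
        rw [Subgroup.commutator_eq_bot_iff_le_centralizer]; exact hKT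
      rw [coprime_commutator_commutator T Q hTN hcopTQ (Or.inl hsolvT),
        Subgroup.commutator_eq_bot_iff_le_centralizer] at h0
      apply hgC'
      intro r hr
      exact Subgroup.mem_centralizer_iff.mp (h0 hr) g hgT
    -- descent along the lower central series of `P`
    have hdesc : ∀ m : ℕ, Q ≤ (P : Subgroup G).lowerCentralSeries m := by
      intro m
      induction m with
      | zero =>
        rw [Subgroup.lowerCentralSeries_zero]
        exact hQP
      | succ m ih =>
        have hle : ⁅Subgroup.closure Ωs, T⁆ ≤ (P : Subgroup G).lowerCentralSeries (m + 1) := by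
          apply commutator_closure_le
          · intro a ha t ht
            have hta : t * a * t⁻¹ ∈ Q := (Subgroup.mem_normalizer_iff.mp (hTN ht) a).mp ha.1
            obtain ⟨x, hx, hxa⟩ := h a (hQP ha.1) ha.2 t (hQP hta)
            have e1 : ⁅a, t⁆ = ⁅a, x⁆ := by
              simp only [commutatorElement_def]
              have : a * t * a⁻¹ * t⁻¹ = a * (t * a * t⁻¹)⁻¹ := by group
              rw [this, hxa]
              group
            rw [e1, Subgroup.lowerCentralSeries_succ]
            exact Subgroup.commutator_mem_commutator (ih ha.1) hx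
          · intro q hq y hy
            have hqP : q ∈ (P : Subgroup G) := hQP (hWQ hq)
            have hqN := Subgroup.self_le_normalizer_lowerCentralSeries (S := (P : Subgroup G))
              (m + 1) hqP
            exact (Subgroup.mem_normalizer_iff.mp hqN y).mp hy
        rw [hW, hK] at hle
        exact hle
    have hnil : Group.IsNilpotent ↥(P : Subgroup G) := P.2.isNilpotent
    obtain ⟨m, hm⟩ := (Subgroup.isNilpotent_iff_lowerCentralSeries (S := (P : Subgroup G))).mp hnil
    have hQbot := hdesc m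
    rw [hm, le_bot_iff] at hQbot
    apply hgC'
    intro r hr
    rw [hQbot, Subgroup.mem_bot] at hr
    rw [hr, mul_one, one_mul]

end Cfsg.Agent.Lead
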