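import Mathlib
import Cfsg.Agent.Lead.OmegaFusionPNilpotent

set_option autoImplicit false

namespace Cfsg.Agent.Lead

open Cfsg.Agent.Helper1

open scoped commutatorElement

universe u

/-- `Ω`-lemma in automorphism form: an automorphism of order prime to `p` of a finite `p`-group
fixing all elements of order dividing `p` (dividing `4` when `p = 2`) is trivial. -/
theorem aut_eq_one_of_fix_omega {X : Type u} [Group X] [Finite X] {p : ℕ} [Fact p.Prime]
    (hX : IsPGroup p X) (ψ : MulAut X) (hcop : (orderOf ψ).Coprime p)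
    (hfix : ∀ g : X, (g ^ p = 1 ∨ (p = 2 ∧ g ^ 4 = 1)) → ψ g = g) :
    ψ = 1 := by
  let φ : MulAut X →* MulAut X := MonoidHom.id _
  haveI : Finite (X ⋊[φ] MulAut X) := Finite.of_equiv _ SemidirectProduct.equivProd.symm
  have hinl : Function.Injective (SemidirectProduct.inl : X →* X ⋊[φ] MulAut X) :=
    SemidirectProduct.inl_injective
  have hinr : Function.Injective (SemidirectProduct.inr : MulAut X →* X ⋊[φ] MulAut X) :=
    SemidirectProduct.inr_injective
  have hconj : ∀ (χ : MulAut X) (x : X),
      (SemidirectProduct.inr χ : X ⋊[φ] MulAut X) * SemidirectProduct.inl x *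
        (SemidirectProduct.inr χ)⁻¹ = SemidirectProduct.inl (χ x) := by
    intro χ x
    rw [← map_inv]
    exact (SemidirectProduct.inl_aut (φ := φ) χ x).symm
  have hc : (orderOf (SemidirectProduct.inr ψ : X ⋊[φ] MulAut X)).Coprime p := by
    rw [orderOf_injective _ hinr]
    exact hcop
  have hR : IsPGroup p (SemidirectProduct.inl : X →* X ⋊[φ] MulAut X).range :=
    IsPGroup.of_equiv hX (MonoidHom.ofInjective hinl)
  have hnorm : (SemidirectProduct.inr ψ : X ⋊[φ] MulAut X) ∈
      Subgroup.normalizer (((SemidirectProduct.inl : X →* X ⋊[φ] MulAut X).range :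
        Subgroup (X ⋊[φ] MulAut X)) : Set (X ⋊[φ] MulAut X)) := by
    rw [Subgroup.mem_normalizer_iff]
    intro y
    constructor
    · rintro ⟨x, rfl⟩
      exact ⟨ψ x, (hconj ψ x).symm⟩
    · rintro ⟨x, hx⟩
      refine ⟨ψ⁻¹ x, ?_⟩
      have h1 := hconj ψ (ψ⁻¹ x)
      rw [MulAut.apply_inv_self, hx] at h1
      exact mul_left_cancel (mul_right_cancel h1)
  have key := centralizes_of_centralizes_omega
    (SemidirectProduct.inr ψ : X ⋊[φ] MulAut X) hc _ hR hnorm (by
      rintro _ ⟨x, rfl⟩ hΩ
      have hxΩ : x ^ p = 1 ∨ (p = 2 ∧ x ^ 4 = 1) := by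
        rcases hΩ with h1 | ⟨h1, h2⟩
        · left
          apply hinl
          rw [map_pow, map_one]
          exact h1
        · right
          refine ⟨h1, ?_⟩
          apply hinl
          rw [map_pow, map_one]
          exact h2
      have h1 := hconj ψ x
      rw [hfix x hxΩ] at h1
      have := congrArg (fun z => z * (SemidirectProduct.inr ψ : X ⋊[φ] MulAut X)) h1
      simpa using this)
  ext x
  have h1 := key (SemidirectProduct.inl x) ⟨x, rfl⟩
  have h2 := hconj ψ x
  rw [h1, mul_inv_cancel_right] at h2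
  exact (hinl h2).symm

end Cfsg.Agent.Lead
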