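import Mathlib
import Cfsg.Agent.Lead.OmegaAut

set_option autoImplicit false

namespace Cfsg.Agent.Lead

variable {R : Type*} [Group R]

/-- The coprime-action step: if `ξ x = x q` with `ξ q = q`, `ξ ^ m = 1`, `q` a `p`-element and `m` prime
to `p`, then `q = 1`. -/
theorem coprime_step (p : ℕ) (ξ : MulAut R) (m : ℕ) (hm : m.Coprime p) (hξ : ξ ^ m = 1) (x q : R)
    (hx : ξ x = x * q) (hq : ξ q = q) (k : ℕ) (hqk : q ^ (p ^ k) = 1) : q = 1 := by
  have hpow : ∀ i : ℕ, (ξ ^ i) x = x * q ^ i := by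
    intro i
    induction i with
    | zero => simp
    | succ i ihi =>
      rw [pow_succ', MulAut.mul_apply, ihi, map_mul, map_pow, hq, hx, pow_succ', mul_assoc]
  have h3 := hpow m
  rw [hξ] at h3
  have hqm : q ^ m = 1 := by
    have : x = x * q ^ m := h3
    exact (mul_eq_left.mp this.symm)
  have hg : q ^ (Nat.gcd m (p ^ k)) = 1 := by
    rw [pow_gcd_eq_one]
    exact ⟨hqm, hqk⟩
  rw [Nat.Coprime.pow_right k hm, pow_one] at hg
  exact hg

variable [Finite R]

/-- The automorphisms stabilizing the chain `C 0 ≤ C 1 ≤ ⋯ ≤ C n` (acting trivially on each step) and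
acting trivially on `R / N`. -/
def chainStab (C : ℕ → Subgroup R) (hC : Monotone C) (n : ℕ) (N : Subgroup R) :
    Subgroup (MulAut R) where
  carrier := {α | (∀ i, i < n → ∀ x ∈ C (i + 1), x⁻¹ * α x ∈ C i) ∧ ∀ x, x⁻¹ * α x ∈ N}
  one_mem' := by
    refine ⟨fun i _ x _ => ?_, fun x => ?_⟩
    · simp
    · simp
  mul_mem' := by
    rintro α β ⟨hα1, hα2⟩ ⟨hβ1, hβ2⟩
    refine ⟨fun i hi x hx => ?_, fun x => ?_⟩
    · have h1 := hβ1 i hi x hx
      have hβx : β x ∈ C (i + 1) := by
        have : β x = x * (x⁻¹ * β x) := by group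
        rw [this]
        exact (C (i + 1)).mul_mem hx (hC (Nat.le_succ i) h1)
      have h2 := hα1 i hi (β x) hβx
      have : x⁻¹ * (α * β) x = (x⁻¹ * β x) * ((β x)⁻¹ * α (β x)) := by
        rw [MulAut.mul_apply]
        group
      rw [this]
      exact (C i).mul_mem h1 h2
    · have : x⁻¹ * (α * β) x = (x⁻¹ * β x) * ((β x)⁻¹ * α (β x)) := by
        rw [MulAut.mul_apply]
        group
      rw [this]
      exact N.mul_mem (hβ2 x) (hα2 (β x))
  inv_mem' := by
    rintro α ⟨hα1, hα2⟩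
    refine ⟨fun i hi x hx => ?_, fun x => ?_⟩
    · -- `α` maps `C (i+1)` bijectively onto itself
      have hmap : ∀ y ∈ C (i + 1), α y ∈ C (i + 1) := by
        intro y hy
        have : α y = y * (y⁻¹ * α y) := by group
        rw [this]
        exact (C (i + 1)).mul_mem hy (hC (Nat.le_succ i) (hα1 i hi y hy))
      have hinj : Function.Injective (fun y : C (i + 1) => (⟨α y, hmap y y.2⟩ : C (i + 1))) := by
        intro a b hab
        have : α a = α b := congrArg Subtype.val hab
        exact Subtype.ext (α.injective this)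
      obtain ⟨y, hy⟩ := (Finite.injective_iff_surjective.mp hinj) ⟨x, hx⟩
      have hyx : α y = x := congrArg Subtype.val hy
      have h1 := hα1 i hi y y.2
      rw [hyx] at h1
      have h2 : α⁻¹ x = y := by
        rw [← hyx]
        simp
      rw [h2]
      have : x⁻¹ * (y : R) = ((y : R)⁻¹ * x)⁻¹ := by group
      rw [this]
      exact (C i).inv_mem h1
    · have h1 := hα2 (α⁻¹ x)
      have h2 : α (α⁻¹ x) = x := by simp
      rw [h2] at h1
      have : x⁻¹ * α⁻¹ x = ((α⁻¹ x)⁻¹ * x)⁻¹ := by group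
      rw [this]
      exact N.inv_mem h1

theorem mem_chainStab (C : ℕ → Subgroup R) (hC : Monotone C) (n : ℕ) (N : Subgroup R)
    (α : MulAut R) : α ∈ chainStab C hC n N ↔
      (∀ i, i < n → ∀ x ∈ C (i + 1), x⁻¹ * α x ∈ C i) ∧ ∀ x, x⁻¹ * α x ∈ N := Iff.rfl

/-- An element of the chain stabilizer of order prime to `p` is trivial (`p` odd). -/
theorem eq_one_of_mem_chainStab_of_coprime (p : ℕ) [Fact p.Prime] (hp : p ≠ 2) (hR : IsPGroup p R)
    (C : ℕ → Subgroup R) (hC : Monotone C) (n : ℕ) (N : Subgroup R) (hC0 : C 0 = ⊥)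
    (hΩ : ∀ x ∈ N, x ^ p = 1 → x ∈ C n) (ξ : MulAut R) (hξ : ξ ∈ chainStab C hC n N)
    (m : ℕ) (hm : m.Coprime p) (hξm : ξ ^ m = 1) : ξ = 1 := by
  obtain ⟨h1, h2⟩ := hξ
  -- Step 1: `ξ` fixes each `C i`, `i ≤ n`
  have hstep1 : ∀ i, i ≤ n → ∀ x ∈ C i, ξ x = x := by
    intro i
    induction i with
    | zero =>
      intro _ x hx
      rw [hC0, Subgroup.mem_bot] at hx
      rw [hx, map_one]
    | succ i ih =>
      intro hi x hx
      have hq := h1 i (by omega) x hx
      have hqfix := ih (by omega) _ hq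
      obtain ⟨k, hk⟩ := hR (x⁻¹ * ξ x)
      have := coprime_step p ξ m hm hξm x (x⁻¹ * ξ x) (by group) hqfix k hk
      calc ξ x = x * (x⁻¹ * ξ x) := by group
        _ = x := by rw [this, mul_one]
  -- Step 3: `ξ` fixes `N`
  have hNmap : ∀ x ∈ N, ξ x ∈ N := by
    intro x hx
    have : ξ x = x * (x⁻¹ * ξ x) := by group
    rw [this]
    exact N.mul_mem hx (h2 x)
  have hNmap' : ∀ x ∈ N, ξ⁻¹ x ∈ N := by
    intro x hx
    have hinj : Function.Injective (fun y : N => (⟨ξ y, hNmap y y.2⟩ : N)) := by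
      intro a b hab
      have : ξ a = ξ b := congrArg Subtype.val hab
      exact Subtype.ext (ξ.injective this)
    obtain ⟨y, hy⟩ := (Finite.injective_iff_surjective.mp hinj) ⟨x, hx⟩
    have hyx : ξ y = x := congrArg Subtype.val hy
    have : ξ⁻¹ x = y := by
      rw [← hyx]
      simp
    rw [this]
    exact y.2
  have hstep3 : ∀ x ∈ N, ξ x = x := by
    let ψ : MulAut N :=
      { toFun := fun x => ⟨ξ x, hNmap x x.2⟩
        invFun := fun x => ⟨ξ⁻¹ x, hNmap' x x.2⟩
        left_inv := fun x => Subtype.ext (by simp)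
        right_inv := fun x => Subtype.ext (by simp)
        map_mul' := fun x y => Subtype.ext (by simp) }
    have hψpow : ∀ (j : ℕ) (x : N), (((ψ ^ j) x : N) : R) = (ξ ^ j) x := by
      intro j
      induction j with
      | zero => intro x; simp
      | succ j ih =>
        intro x
        rw [pow_succ', MulAut.mul_apply, pow_succ', MulAut.mul_apply]
        show ξ (((ψ ^ j) x : N) : R) = _
        rw [ih]
    have hψm : ψ ^ m = 1 := by
      ext x
      rw [hψpow, hξm]
      rfl
    have hcop : (orderOf ψ).Coprime p :=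
      Nat.Coprime.coprime_dvd_left (orderOf_dvd_of_pow_eq_one hψm) hm
    have hψ1 := aut_eq_one_of_fix_omega (hR.to_subgroup N) ψ hcop (by
      intro g hg
      rcases hg with hg | ⟨h2', -⟩
      · apply Subtype.ext
        show ξ g = g
        apply hstep1 n le_rfl
        apply hΩ g g.2
        have := congrArg Subtype.val hg
        simpa using this
      · exact absurd h2' hp)
    intro x hx
    have := congrArg (fun β : MulAut N => ((β ⟨x, hx⟩ : N) : R)) hψ1
    exact this
  -- Step 4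
  ext x
  have hq := h2 x
  have hqfix := hstep3 _ hq
  obtain ⟨k, hk⟩ := hR (x⁻¹ * ξ x)
  have := coprime_step p ξ m hm hξm x (x⁻¹ * ξ x) (by group) hqfix k hk
  calc ξ x = x * (x⁻¹ * ξ x) := by group
    _ = x := by rw [this, mul_one]

/-- The chain stabilizer is a `p`-group (`p` odd). -/
theorem isPGroup_chainStab (p : ℕ) [Fact p.Prime] (hp : p ≠ 2) (hR : IsPGroup p R)
    (C : ℕ → Subgroup R) (hC : Monotone C) (n : ℕ) (N : Subgroup R) (hC0 : C 0 = ⊥)
    (hΩ : ∀ x ∈ N, x ^ p = 1 → x ∈ C n) : IsPGroup p (chainStab C hC n N) := by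
  intro α
  have hp' : p.Prime := Fact.out
  have hpos : 0 < orderOf α := orderOf_pos α
  obtain ⟨a, m', hm', hm⟩ := Nat.exists_eq_pow_mul_and_not_dvd hpos.ne' p hp'.ne_one
  refine ⟨a, ?_⟩
  have hcop : m'.Coprime p := (hp'.coprime_iff_not_dvd.mpr hm').symm
  have h1 : ((α ^ p ^ a : chainStab C hC n N) : MulAut R) ^ m' = 1 := by
    have : (α ^ p ^ a) ^ m' = 1 := by
      rw [← pow_mul, ← hm, pow_orderOf_eq_one]
    exact congrArg Subtype.val this
  have := eq_one_of_mem_chainStab_of_coprime p hp hR C hC n N hC0 hΩ _ (α ^ p ^ a).2 m' hcop h1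
  exact Subtype.ext this

end Cfsg.Agent.Lead
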