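import Mathlib
import Cfsg.Prelude.Def_FusionSystem
import Cfsg.Prelude.Def_PLocal
import Cfsg.Agent.Lead.ChainStab
import Cfsg.Agent.Lead.FusionSeries
import Cfsg.Agent.Lead.FusionNormalCrit
import Cfsg.Agent.Helper1.StableNormalClosure
import Cfsg.Agent.Helper1.Coprime

set_option autoImplicit false

namespace Cfsg.Agent.Lead

open Cfsg Cfsg.FusionSystem
open scoped commutatorElement

variable {Ω : Type*} [Group Ω] {S : Subgroup Ω}

/-- A strongly closed subgroup is normalized by `S`. -/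
theorem Fusion.conj_mem_of_stronglyClosed (F : FusionSystem S) {P : Subgroup Ω}
    (hP : F.StronglyClosed P) {s x : Ω} (hs : s ∈ S) (hx : x ∈ P) : s * x * s⁻¹ ∈ P := by
  have h := hP.2 P le_rfl _ (F.conj_mem (P := P) (g := s) hP.1 hs) ⟨x, hx⟩
  exact h

/-- Forward direction: a subgroup normal in the system has an `Ω₁`-chain. -/
theorem Fusion.exists_omega_chain_of_isNormal [Finite S] (p : ℕ) [Fact p.Prime] (hS : IsPGroup p S)
    (F : FusionSystem S) (P : Subgroup Ω) (hPn : F.IsNormal P) :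
    ∃ (n : ℕ) (Q : Fin (n + 1) → Subgroup Ω), Q 0 = ⊥ ∧ Q (Fin.last n) = Cfsg.omegaOne p P ∧
      Monotone Q ∧ (∀ i : Fin (n + 1), F.StronglyClosed (Q i)) ∧
      ∀ i : Fin n, ⁅Q i.succ, P⁆ ≤ Q i.castSucc := by
  have hPS := hPn.1
  have : Finite P := Fusion.finite_of_le hPS
  have : Group.IsNilpotent P := (hS.to_le hPS).isNilpotent
  obtain ⟨W, hWdef⟩ : ∃ W : Subgroup P, W = Cfsg.omegaOne p (⊤ : Subgroup P) := ⟨_, rfl⟩
  have hWchar : W.Characteristic := by
    rw [hWdef]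
    constructor
    intro φ
    apply le_antisymm
    · intro x hx
      rw [Subgroup.mem_comap] at hx
      have h1 : φ.symm (φ x) ∈ (Cfsg.omegaOne p (⊤ : Subgroup P)).map φ.symm.toMonoidHom :=
        Subgroup.mem_map_of_mem _ hx
      rw [Cfsg.Agent.Helper1.omegaOne_map_of_injective p ⊤ φ.symm.toMonoidHom φ.symm.injective] at h1
      have h2 : (⊤ : Subgroup P).map φ.symm.toMonoidHom = ⊤ := by
        rw [← MonoidHom.range_eq_map]
        exact MonoidHom.range_eq_top.mpr φ.symm.surjective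
      rw [h2] at h1
      simpa using h1
    · intro x hx
      rw [Subgroup.mem_comap]
      have h1 : φ x ∈ (Cfsg.omegaOne p (⊤ : Subgroup P)).map φ.toMonoidHom :=
        Subgroup.mem_map_of_mem _ hx
      rw [Cfsg.Agent.Helper1.omegaOne_map_of_injective p ⊤ φ.toMonoidHom φ.injective] at h1
      have h2 : (⊤ : Subgroup P).map φ.toMonoidHom = ⊤ := by
        rw [← MonoidHom.range_eq_map]
        exact MonoidHom.range_eq_top.mpr φ.surjective
      rw [h2] at h1
      exact h1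
  have hWmap : W.map P.subtype = Cfsg.omegaOne p P := by
    rw [hWdef, Cfsg.Agent.Helper1.omegaOne_map_of_injective p ⊤ P.subtype Subtype.val_injective,
      ← MonoidHom.range_eq_map, Subgroup.range_subtype]
  refine ⟨Group.nilpotencyClass P,
    fun i => (W ⊓ Subgroup.upperCentralSeries P i).map P.subtype, ?_, ?_, ?_, ?_, ?_⟩
  · show (W ⊓ Subgroup.upperCentralSeries P 0).map P.subtype = ⊥
    rw [Subgroup.upperCentralSeries_zero, inf_bot_eq, Subgroup.map_bot]
  · show (W ⊓ Subgroup.upperCentralSeries P (Group.nilpotencyClass P)).map P.subtype = _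
    rw [Subgroup.upperCentralSeries_nilpotencyClass, inf_top_eq, hWmap]
  · intro i j hij
    exact Subgroup.map_mono (inf_le_inf_left _ (Subgroup.upperCentralSeries_mono P hij))
  · intro i
    haveI : (W ⊓ Subgroup.upperCentralSeries P (i : ℕ)).Characteristic := inferInstance
    exact Fusion.stronglyClosed_of_isNormal F
      (Fusion.isNormal_map_of_characteristic F hPn (W ⊓ Subgroup.upperCentralSeries P (i : ℕ)))
  · intro i
    rw [Subgroup.commutator_le]
    rintro _ ⟨z, hz, rfl⟩ g hg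
    have hz' : z ∈ Subgroup.upperCentralSeries P ((i : ℕ) + 1) := by
      have : ((i.succ : Fin (Group.nilpotencyClass P + 1)) : ℕ) = (i : ℕ) + 1 := Fin.val_succ i
      rw [← this]
      exact hz.2
    have h1 := (Subgroup.mem_upperCentralSeries_succ_iff.mp hz') ⟨g, hg⟩
    have hWn : W.Normal := inferInstance
    have h2 : ⁅z, (⟨g, hg⟩ : P)⁆ ∈ W := by
      rw [commutatorElement_def]
      have h3 : (⟨g, hg⟩ : P) * z⁻¹ * (⟨g, hg⟩ : P)⁻¹ ∈ W :=
        hWn.conj_mem _ (W.inv_mem hz.1) _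
      have h4 : z * (⟨g, hg⟩ : P) * z⁻¹ * (⟨g, hg⟩ : P)⁻¹ =
          z * ((⟨g, hg⟩ : P) * z⁻¹ * (⟨g, hg⟩ : P)⁻¹) := by group
      rw [h4]
      exact W.mul_mem hz.1 h3
    exact ⟨⁅z, ⟨g, hg⟩⁆, ⟨h2, h1⟩, rfl⟩

/-- Reverse direction: a strongly closed subgroup with an `Ω₁`-chain is normal (`p` odd). -/
theorem Fusion.isNormal_of_omega_chain [Finite S] (p : ℕ) [Fact p.Prime] (hS : IsPGroup p S)
    (F : FusionSystem S) (hF : F.IsSaturated p) (hp : p ≠ 2) (P : Subgroup Ω)
    (hP : F.StronglyClosed P) (n : ℕ) (Q : Fin (n + 1) → Subgroup Ω) (h0 : Q 0 = ⊥)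
    (hn : Q (Fin.last n) = Cfsg.omegaOne p P) (hmono : Monotone Q)
    (hsc : ∀ i : Fin (n + 1), F.StronglyClosed (Q i))
    (hcomm : ∀ i : Fin n, ⁅Q i.succ, P⁆ ≤ Q i.castSucc) : F.IsNormal P := by
  rw [Fusion.isNormal_iff_stronglyClosed p hS F hF]
  refine ⟨hP, fun R hc hr => ?_⟩
  by_contra hPR
  have hRS := hc.1
  have hPS := hP.1
  have : Finite R := Fusion.finite_of_le hRS
  have hRN : R ≤ Subgroup.normalizer (P : Set Ω) := by
    intro r hr'
    apply mem_normalizer_of_conj_mem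
    · intro x hx
      exact Fusion.conj_mem_of_stronglyClosed F hP (hRS hr') hx
    · intro x hx
      have := Fusion.conj_mem_of_stronglyClosed F hP (S.inv_mem (hRS hr')) hx
      rwa [inv_inv] at this
  have hRPS : R ⊔ P ≤ S := sup_le hRS hPS
  have hne : R ≠ R ⊔ P := by
    intro h
    apply hPR
    rw [h]
    exact le_sup_right
  have : Finite ↥(R ⊔ P) := Fusion.finite_of_le hRPS
  obtain ⟨g, hgT, hgR⟩ := Fusion.exists_mem_normalizerIn_not_mem (S := R ⊔ P) (hS.to_le hRPS)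
    le_sup_left hne
  have hgPR : g ∈ P ⊔ R := by
    rw [sup_comm]
    exact (Subgroup.mem_inf.mp hgT).1
  obtain ⟨y, hyP, r, hrR, hgyr⟩ := Cfsg.Agent.Helper1.mem_sup_of_le_normalizer hRN hgPR
  have hgN : g ∈ Subgroup.normalizer (R : Set Ω) := (Subgroup.mem_inf.mp hgT).2
  have hyN : y ∈ Subgroup.normalizer (R : Set Ω) := by
    have : y = g * r⁻¹ := by rw [hgyr]; group
    rw [this]
    exact Subgroup.mul_mem _ hgN (Subgroup.inv_mem _ (Subgroup.le_normalizer hrR))
  have hyR : y ∉ R := by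
    intro h
    apply hgR
    rw [hgyr]
    exact R.mul_mem h hrR
  have hyS : y ∈ S := hPS hyP
  -- the chain inside `R`
  obtain ⟨C, hCdef⟩ : ∃ C : ℕ → Subgroup R,
      C = fun i => (Q ⟨min i n, by omega⟩).subgroupOf R := ⟨_, rfl⟩
  have hCmono : Monotone C := by
    intro i j hij
    rw [hCdef]
    intro x hx
    rw [Subgroup.mem_subgroupOf] at hx ⊢
    refine hmono ?_ hx
    rw [Fin.le_def]
    show min i n ≤ min j n
    omega
  have hCmem : ∀ (i : ℕ) (hi : i ≤ n) (x : R), x ∈ C i ↔ (x : Ω) ∈ Q ⟨i, by omega⟩ := by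
    intro i hi x
    rw [hCdef]
    show (x : Ω) ∈ Q ⟨min i n, _⟩ ↔ _
    have : (⟨min i n, by omega⟩ : Fin (n + 1)) = ⟨i, by omega⟩ := by
      apply Fin.ext
      show min i n = i
      omega
    rw [this]
  have hC0 : C 0 = ⊥ := by
    rw [eq_bot_iff]
    intro x hx
    rw [hCmem 0 (Nat.zero_le _)] at hx
    have h0' : Q ⟨0, by omega⟩ = ⊥ := h0
    rw [h0', Subgroup.mem_bot] at hx
    rw [Subgroup.mem_bot]
    exact Subtype.ext hx
  have hΩ : ∀ x ∈ P.subgroupOf R, x ^ p = 1 → x ∈ C n := by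
    intro x hx hxp
    rw [hCmem n le_rfl]
    have hn' : Q ⟨n, by omega⟩ = Cfsg.omegaOne p P := hn
    rw [hn']
    apply Subgroup.subset_closure
    refine ⟨Subgroup.mem_subgroupOf.mp hx, ?_⟩
    have := congrArg Subtype.val hxp
    simpa using this
  have hRp : IsPGroup p R := hS.to_le hRS
  have hpg := isPGroup_chainStab p hp hRp C hCmono n (P.subgroupOf R) hC0 hΩ
  -- the conjugation by `y`
  have hcA : conjAutHom R ⟨y, hyN⟩ ∈ F.autGroup R := by
    apply Fusion.autInducedBy_le_autGroup F hRS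
    exact Subgroup.subset_closure ⟨y, hyS, fun _ => rfl⟩
  have hcX : conjAutHom R ⟨y, hyN⟩ ∈ chainStab C hCmono n (P.subgroupOf R) := by
    rw [mem_chainStab]
    refine ⟨fun i hi x hx => ?_, fun x => ?_⟩
    · rw [hCmem (i + 1) (by omega)] at hx
      rw [hCmem i (by omega)]
      show (x : Ω)⁻¹ * (y * (x : Ω) * y⁻¹) ∈ _
      have h1 : ⁅(x : Ω)⁻¹, y⁆ ∈ ⁅Q (⟨i, hi⟩ : Fin n).succ, P⁆ :=
        Subgroup.commutator_mem_commutator ((Q _).inv_mem hx) hyP
      have h2 := hcomm ⟨i, hi⟩ h1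
      have h3 : ⁅(x : Ω)⁻¹, y⁆ = (x : Ω)⁻¹ * (y * (x : Ω) * y⁻¹) := by
        rw [commutatorElement_def]
        group
      rw [h3] at h2
      exact h2
    · rw [Subgroup.mem_subgroupOf]
      show (x : Ω)⁻¹ * (y * (x : Ω) * y⁻¹) ∈ P
      have h1 : (x : Ω)⁻¹ * y * ((x : Ω)⁻¹)⁻¹ ∈ P :=
        Fusion.conj_mem_of_stronglyClosed F hP (S.inv_mem (hRS x.2)) hyP
      have h2 : (x : Ω)⁻¹ * (y * (x : Ω) * y⁻¹) = ((x : Ω)⁻¹ * y * ((x : Ω)⁻¹)⁻¹) * y⁻¹ := by group
      rw [h2]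
      exact P.mul_mem h1 (P.inv_mem hyP)
  -- normality of the chain stabilizer in `Aut_F(R)`
  have hnormal : ((chainStab C hCmono n (P.subgroupOf R)).subgroupOf (F.autGroup R)).Normal := by
    constructor
    intro α hα β
    rw [Subgroup.mem_subgroupOf] at hα ⊢
    obtain ⟨hα1, hα2⟩ := hα
    have hβinv : ((β⁻¹ : F.autGroup R) : MulAut R) ∈ F.autGroup R := (β⁻¹).2
    show (β : MulAut R) * (α : MulAut R) * ((β⁻¹ : F.autGroup R) : MulAut R) ∈ _
    rw [mem_chainStab]
    refine ⟨fun i hi x hx => ?_, fun x => ?_⟩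
    · have hu : ((β⁻¹ : F.autGroup R) : MulAut R) x ∈ C (i + 1) := by
        rw [hCmem (i + 1) (by omega)] at hx ⊢
        exact Fusion.aut_mem_of_stronglyClosed F hRS (hsc _) _ hβinv x hx
      have hq := hα1 i hi _ hu
      have hβq : (β : MulAut R) ((((β⁻¹ : F.autGroup R) : MulAut R) x)⁻¹ *
          (α : MulAut R) (((β⁻¹ : F.autGroup R) : MulAut R) x)) ∈ C i := by
        rw [hCmem i (by omega)] at hq ⊢
        exact Fusion.aut_mem_of_stronglyClosed F hRS (hsc _) _ β.2 _ hq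
      convert hβq using 1
      rw [MulAut.mul_apply, MulAut.mul_apply, map_mul, map_inv]
      congr 2
      show x = (β : MulAut R) (((β : MulAut R))⁻¹ x)
      simp
    · have hq := hα2 (((β⁻¹ : F.autGroup R) : MulAut R) x)
      have hβq : (β : MulAut R) ((((β⁻¹ : F.autGroup R) : MulAut R) x)⁻¹ *
          (α : MulAut R) (((β⁻¹ : F.autGroup R) : MulAut R) x)) ∈ P.subgroupOf R := by
        rw [Subgroup.mem_subgroupOf] at hq ⊢
        exact Fusion.aut_mem_of_stronglyClosed F hRS hP _ β.2 _ hq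
      convert hβq using 1
      rw [MulAut.mul_apply, MulAut.mul_apply, map_mul, map_inv]
      congr 2
      show x = (β : MulAut R) (((β : MulAut R))⁻¹ x)
      simp
  have hle : (chainStab C hCmono n (P.subgroupOf R)).subgroupOf (F.autGroup R) ≤
      pCore p (F.autGroup R) := le_sSup ⟨hnormal, hpg.comap_subtype⟩
  have hcInn : conjAutHom R ⟨y, hyN⟩ ∈ Inn R := by
    rw [← hr.2]
    exact ⟨⟨_, hcA⟩, hle (Subgroup.mem_subgroupOf.mpr hcX), rfl⟩
  exact hyR (Fusion.mem_of_conjAutHom_mem_inn F hc y hyS hyN hcInn)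

end Cfsg.Agent.Lead
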