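import Mathlib

set_option autoImplicit false

/-!
# Model theorem, part A: a wreath-type group

For a group `A` acting on a set `I` and a group `T`, the set of pairs `(f, a)`, `f : I → T`, `a : A`, with the
product `(f, a)(f', b) = (i ↦ f (b • i) * f' i, a * b)` is a group (the wreath product of `T` by `A` along `I`).
-/

namespace Cfsg.Agent.Lead.Model

universe u

/-- Pairs `(f, a)`. -/
@[ext] structure Wr (I T A : Type u) where
  f : I → T
  a : A

namespace Wr

variable {I T A : Type u} [Group T] [Group A] [MulAction A I]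

instance : Mul (Wr I T A) := ⟨fun w v => ⟨fun i => w.f (v.a • i) * v.f i, w.a * v.a⟩⟩
instance : One (Wr I T A) := ⟨⟨fun _ => 1, 1⟩⟩
instance : Inv (Wr I T A) := ⟨fun w => ⟨fun i => (w.f (w.a⁻¹ • i))⁻¹, w.a⁻¹⟩⟩

@[simp] theorem mul_f (w v : Wr I T A) (i : I) : (w * v).f i = w.f (v.a • i) * v.f i := rfl
@[simp] theorem mul_a (w v : Wr I T A) : (w * v).a = w.a * v.a := rfl
@[simp] theorem one_f (i : I) : (1 : Wr I T A).f i = 1 := rfl
@[simp] theorem one_a : (1 : Wr I T A).a = 1 := rfl
@[simp] theorem inv_f (w : Wr I T A) (i : I) : (w⁻¹).f i = (w.f (w.a⁻¹ • i))⁻¹ := rfl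
@[simp] theorem inv_a (w : Wr I T A) : (w⁻¹).a = w.a⁻¹ := rfl

instance : Group (Wr I T A) :=
  Group.ofLeftAxioms
    (by
      intro x y z
      ext i
      · simp only [mul_f, mul_a, mul_smul, mul_assoc]
      · simp only [mul_a, mul_assoc])
    (by
      intro x
      ext i
      · simp only [mul_f, one_f, one_mul]
      · simp only [mul_a, one_a, one_mul])
    (by
      intro x
      ext i
      · simp only [mul_f, inv_f, inv_a, inv_smul_smul, inv_mul_cancel, one_f]
      · simp only [mul_a, inv_a, inv_mul_cancel, one_a])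

/-- The projection to `A`. -/
def rho : Wr I T A →* A where
  toFun w := w.a
  map_one' := rfl
  map_mul' _ _ := rfl

@[simp] theorem rho_apply (w : Wr I T A) : rho w = w.a := rfl

instance [Finite I] [Finite T] [Finite A] : Finite (Wr I T A) := by
  have : Function.Injective (fun w : Wr I T A => (w.f, w.a)) := by
    intro w v h
    simp only [Prod.mk.injEq] at h
    exact Wr.ext h.1 h.2
  exact Finite.of_injective _ this

end Wr

end Cfsg.Agent.Lead.Model
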