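import Mathlib
import Cfsg.Agent.Lead.ModelA

set_option autoImplicit false

/-!
# Model theorem, part B: the setting, structured coset representatives, and the embedding `j`
-/

namespace Cfsg.Agent.Lead.Model

universe u

/-- The group-theoretic setting: a group `T` with a normal self-centralizing subgroup `Q`, a group `A` acting
faithfully on `Q`, and a homomorphism `π : T → A` through which `T` acts on `Q` by conjugation. -/
structure Setup (T A : Type u) [Group T] [Group A] where
  Q : Subgroup T
  hQn : Q.Normal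
  act : A →* MulAut Q
  act_inj : Function.Injective act
  π : T →* A
  hπ : ∀ (s : T) (q : Q), ((act (π s) q : Q) : T) = s * q * s⁻¹
  hC : Subgroup.centralizer (Q : Set T) ≤ Q

namespace Setup

variable {T A : Type u} [Group T] [Group A] (D : Setup T A)

/-- The index set: left cosets of the image of `T` in `A`. -/
abbrev I : Type u := A ⧸ D.π.range

/-- `N_b`: the elements `s` of `T` with `b π(s) b⁻¹ ∈ π(T)`. -/
def N (b : A) : Subgroup T := Subgroup.comap ((MulAut.conj b).toMonoidHom.comp D.π) D.π.range

theorem mem_N {b : A} {s : T} : s ∈ D.N b ↔ b * D.π s * b⁻¹ ∈ D.π.range := Iff.rfl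

theorem ker_le_Q : D.π.ker ≤ D.Q := by
  intro z hz
  apply D.hC
  rw [Subgroup.mem_centralizer_iff]
  intro q hq
  have h1 := D.hπ z ⟨q, hq⟩
  rw [MonoidHom.mem_ker.mp hz, map_one] at h1
  simp only [MulAut.one_apply] at h1
  have : z * q * z⁻¹ = q := h1.symm
  calc q * z = (z * q * z⁻¹) * z := by rw [this]
    _ = z * q := by group

theorem mem_ker_iff {z : T} : z ∈ D.π.ker ↔ z ∈ Subgroup.centralizer (D.Q : Set T) := by
  constructor
  · intro hz
    rw [Subgroup.mem_centralizer_iff]
    intro q hq
    have h1 := D.hπ z ⟨q, hq⟩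
    rw [MonoidHom.mem_ker.mp hz, map_one] at h1
    simp only [MulAut.one_apply] at h1
    have : z * q * z⁻¹ = q := h1.symm
    calc q * z = (z * q * z⁻¹) * z := by rw [this]
      _ = z * q := by group
  · intro hz
    rw [MonoidHom.mem_ker]
    apply D.act_inj
    rw [map_one]
    ext q
    rw [D.hπ, MulAut.one_apply]
    have := (Subgroup.mem_centralizer_iff.mp hz) q q.2
    rw [← this]; group

/-- The stabilizer of the coset `bP` in `T` is `N_{b⁻¹}`. -/
theorem mem_N_inv_iff (b : A) (s : T) :
    s ∈ D.N b⁻¹ ↔ D.π s • (QuotientGroup.mk b : D.I) = QuotientGroup.mk b := by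
  rw [mem_N, inv_inv]
  have h1 : D.π s • (QuotientGroup.mk b : D.I) = QuotientGroup.mk (D.π s * b) := rfl
  rw [h1, QuotientGroup.eq]
  constructor
  · intro h
    have := D.π.range.inv_mem h
    convert this using 1
    group
  · intro h
    have := D.π.range.inv_mem h
    convert this using 1
    group

/-! ### Structured coset representatives -/

/-- The orbit relation of `T` on the index set. -/
def orbSetoid : Setoid D.I where
  r i i' := ∃ s : T, D.π s • i = i'
  iseqv := by
    refine ⟨fun i => ⟨1, by rw [map_one, one_smul]⟩, ?_, ?_⟩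
    · rintro i i' ⟨s, rfl⟩
      exact ⟨s⁻¹, by rw [map_inv, inv_smul_smul]⟩
    · rintro i i' i'' ⟨s, rfl⟩ ⟨s', rfl⟩
      exact ⟨s' * s, by rw [map_mul, mul_smul]⟩

/-- The chosen representative of the `T`-orbit of `i`. -/
noncomputable def orb (i : D.I) : D.I := (Quotient.mk D.orbSetoid i).out

theorem orb_smul (s : T) (i : D.I) : D.orb (D.π s • i) = D.orb i := by
  unfold orb
  congr 1
  apply Quotient.sound
  exact ⟨s⁻¹, by rw [map_inv, inv_smul_smul]⟩

theorem exists_x (i : D.I) : ∃ s : T, D.π s • D.orb i = i :=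
  Quotient.exact (Quotient.out_eq (Quotient.mk D.orbSetoid i))

/-- An element of `T` carrying the orbit representative to `i`. -/
noncomputable def x (i : D.I) : T := Classical.choose (D.exists_x i)

theorem x_smul (i : D.I) : D.π (D.x i) • D.orb i = i := Classical.choose_spec (D.exists_x i)

/-- The representative in `A` of the orbit representative. -/
noncomputable def u (i : D.I) : A := (D.orb i).out

theorem mk_u (i : D.I) : (QuotientGroup.mk (D.u i) : D.I) = D.orb i := Quotient.out_eq' _

theorem u_smul (s : T) (i : D.I) : D.u (D.π s • i) = D.u i := by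
  unfold u
  rw [orb_smul]

/-- The structured coset representative of `i`. -/
noncomputable def t (i : D.I) : A := D.π (D.x i) * D.u i

theorem mk_t (i : D.I) : (QuotientGroup.mk (D.t i) : D.I) = i := by
  have h1 : (QuotientGroup.mk (D.t i) : D.I) = D.π (D.x i) • (QuotientGroup.mk (D.u i) : D.I) := rfl
  rw [h1, mk_u, x_smul]

/-- The basic element of `N_{u⁻¹}` attached to `s` and `i`. -/
theorem base_mem (s : T) (i : D.I) : (D.x (D.π s • i))⁻¹ * s * D.x i ∈ D.N (D.u i)⁻¹ := by
  rw [mem_N_inv_iff, mk_u, map_mul, map_mul, mul_smul, mul_smul, x_smul, map_inv]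
  rw [inv_smul_eq_iff]
  have := D.x_smul (D.π s • i)
  rw [orb_smul] at this
  exact this.symm

theorem smul_mk_t (a : A) (i : D.I) : (D.t (a • i))⁻¹ * a * D.t i ∈ D.π.range := by
  have h1 : (QuotientGroup.mk (a * D.t i) : D.I) = a • i := by
    have : (QuotientGroup.mk (a * D.t i) : D.I) = a • (QuotientGroup.mk (D.t i) : D.I) := rfl
    rw [this, mk_t]
  have h2 := D.mk_t (a • i)
  have h3 : (QuotientGroup.mk (D.t (a • i)) : D.I) = QuotientGroup.mk (a * D.t i) := by rw [h1, h2]
  have := QuotientGroup.eq.mp h3
  rwa [← mul_assoc] at this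

end Setup

end Cfsg.Agent.Lead.Model
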