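import Mathlib
import Cfsg.Agent.Lead.ModelB

set_option autoImplicit false

/-!
# Model theorem, part C: admissible maps, the group `Ĝ` and the embedding `j`
-/

namespace Cfsg.Agent.Lead.Model

universe u

variable {T A : Type u} [Group T] [Group A]

/-- The family of admissible partial maps (the maps of the fusion system defined on overgroups of `Q`),
with the chosen extensions `θ a` of the elements of `A`. -/
structure Datum (D : Setup T A) where
  Adm : Subgroup T → (T → T) → Prop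
  θ : A → T → T
  adm_le : ∀ {R : Subgroup T} {φ : T → T}, Adm R φ → D.Q ≤ R
  adm_mul : ∀ {R : Subgroup T} {φ : T → T}, Adm R φ → ∀ s ∈ R, ∀ s' ∈ R, φ (s * s') = φ s * φ s'
  adm_act : ∀ {R : Subgroup T} {φ : T → T}, Adm R φ → ∃ a : A, ∀ q : D.Q, φ q = (D.act a q : D.Q)
  adm_comp : ∀ {R R' : Subgroup T} {φ φ' : T → T}, Adm R φ → Adm R' φ' → (∀ s ∈ R, φ s ∈ R') →
    Adm R (φ' ∘ φ)
  adm_res : ∀ {R R₀ : Subgroup T} {φ : T → T}, Adm R φ → D.Q ≤ R₀ → R₀ ≤ R → Adm R₀ φ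
  adm_conj : ∀ (R : Subgroup T) (x : T), D.Q ≤ R → Adm R (fun s => x * s * x⁻¹)
  adm_congr : ∀ {R : Subgroup T} {φ φ' : T → T}, Adm R φ → (∀ s ∈ R, φ s = φ' s) → Adm R φ'
  adm_rigid : ∀ {R : Subgroup T} {φ φ' : T → T}, Adm R φ → Adm R φ' → (∀ q ∈ D.Q, φ q = φ' q) →
    ∃ z ∈ D.π.ker, ∀ s ∈ R, φ' s = φ (z * s * z⁻¹)
  adm_θ : ∀ a : A, Adm (D.N a) (θ a)
  θ_act : ∀ (a : A) (q : D.Q), θ a q = (D.act a q : D.Q)

namespace Datum

variable {D : Setup T A} (E : Datum D)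

theorem adm_one {R : Subgroup T} {φ : T → T} (h : E.Adm R φ) : φ 1 = 1 := by
  have := E.adm_mul h 1 R.one_mem 1 R.one_mem
  rw [mul_one] at this
  exact (left_eq_mul.mp this)

theorem adm_inv {R : Subgroup T} {φ : T → T} (h : E.Adm R φ) {s : T} (hs : s ∈ R) :
    φ s⁻¹ = (φ s)⁻¹ := by
  have := E.adm_mul h s hs s⁻¹ (R.inv_mem hs)
  rw [mul_inv_cancel, E.adm_one h] at this
  exact (inv_eq_of_mul_eq_one_right this.symm).symm

/-- An admissible map inducing `a` on `Q` intertwines the conjugation actions. -/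
theorem adm_π {R : Subgroup T} {φ : T → T} (h : E.Adm R φ) {a : A}
    (ha : ∀ q : D.Q, φ q = (D.act a q : D.Q)) {s : T} (hs : s ∈ R) :
    D.π (φ s) * a = a * D.π s := by
  apply D.act_inj
  ext q
  rw [map_mul, map_mul, MulAut.mul_apply, MulAut.mul_apply, D.hπ]
  have hq : (q : T) ∈ R := E.adm_le h q.2
  have hsq : s * (q : T) * s⁻¹ ∈ D.Q := D.hQn.conj_mem q q.2 s
  have h1 := ha ⟨s * (q : T) * s⁻¹, hsq⟩
  have h2 : φ (s * (q : T) * s⁻¹) = φ s * φ q * (φ s)⁻¹ := by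
    rw [E.adm_mul h _ (R.mul_mem hs hq) _ (R.inv_mem hs), E.adm_mul h _ hs _ hq, E.adm_inv h hs]
  rw [ha q] at h2
  rw [← h2]
  have h3 : (⟨s * (q : T) * s⁻¹, hsq⟩ : D.Q) = D.act (D.π s) q := by
    apply Subtype.ext
    rw [D.hπ]
  rw [← h3]
  exact h1

theorem Q_le_N (E : Datum D) (a : A) : D.Q ≤ D.N a := E.adm_le (E.adm_θ a)

theorem θ_mul (a : A) {s s' : T} (hs : s ∈ D.N a) (hs' : s' ∈ D.N a) :
    E.θ a (s * s') = E.θ a s * E.θ a s' := E.adm_mul (E.adm_θ a) s hs s' hs'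

theorem θ_π (a : A) {s : T} (hs : s ∈ D.N a) : D.π (E.θ a s) * a = a * D.π s :=
  E.adm_π (E.adm_θ a) (E.θ_act a) hs

theorem θ_π' (a : A) {s : T} (hs : s ∈ D.N a) : D.π (E.θ a s) = a * D.π s * a⁻¹ := by
  rw [← E.θ_π a hs]; group

/-! ### The components of `j` -/

/-- The `i`-th component of `j s`. -/
noncomputable def fS (s : T) (i : D.I) : T :=
  E.θ (D.u i)⁻¹ ((D.x (D.π s • i))⁻¹ * s * D.x i)

theorem fS_mul (s s' : T) (i : D.I) : E.fS (s * s') i = E.fS s (D.π s' • i) * E.fS s' i := by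
  unfold fS
  rw [D.u_smul, ← E.θ_mul _ (by have := D.base_mem s (D.π s' • i); rwa [D.u_smul] at this)
    (D.base_mem s' i)]
  congr 1
  rw [map_mul, mul_smul]
  group

theorem π_fS (s : T) (i : D.I) : D.π (E.fS s i) = (D.t (D.π s • i))⁻¹ * D.π s * D.t i := by
  unfold fS
  rw [E.θ_π' _ (D.base_mem s i)]
  unfold Setup.t
  rw [D.u_smul, map_mul, map_mul, map_inv]
  group

/-- The subgroup `Ĝ` of the wreath product. -/
def Ghat (D : Setup T A) : Subgroup (Wr D.I T A) where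
  carrier := {w | ∀ i, D.π (w.f i) = (D.t (w.a • i))⁻¹ * w.a * D.t i}
  mul_mem' := by
    intro w v hw hv i
    simp only [Wr.mul_f, Wr.mul_a, map_mul, mul_smul]
    rw [hw (v.a • i), hv i]
    group
  one_mem' := by
    intro i
    simp only [Wr.one_f, Wr.one_a, map_one, one_smul]
    group
  inv_mem' := by
    intro w hw i
    simp only [Wr.inv_f, Wr.inv_a, map_inv]
    rw [hw (w.a⁻¹ • i), smul_inv_smul]
    group

theorem mem_Ghat {w : Wr D.I T A} :
    w ∈ Ghat D ↔ ∀ i, D.π (w.f i) = (D.t (w.a • i))⁻¹ * w.a * D.t i := Iff.rfl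

/-- The embedding `j : T → Ĝ` (as a homomorphism into the wreath product). -/
noncomputable def j : T →* Wr D.I T A where
  toFun s := ⟨E.fS s, D.π s⟩
  map_one' := by
    apply Wr.ext
    · funext i
      have := E.fS_mul 1 1 i
      simp only [mul_one, map_one, one_smul] at this
      exact (left_eq_mul.mp this)
    · exact map_one _
  map_mul' s s' := by
    apply Wr.ext
    · funext i
      exact E.fS_mul s s' i
    · exact map_mul _ _ _

@[simp] theorem j_f (s : T) (i : D.I) : (E.j s).f i = E.fS s i := rfl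
@[simp] theorem j_a (s : T) : (E.j s).a = D.π s := rfl

theorem j_mem (s : T) : E.j s ∈ Ghat D := fun i => E.π_fS s i

/-- On `Q`, the components of `j` are given by the action of the coset representatives. -/
theorem fS_of_mem_Q (q : D.Q) (i : D.I) : E.fS q i = (D.act (D.t i)⁻¹ q : D.Q) := by
  have hfix : D.π (q : T) • i = i := by
    -- `π(q)` acts trivially on the cosets
    have h1 := D.mk_t i
    have h2 : D.π (q : T) • (QuotientGroup.mk (D.t i) : D.I) = QuotientGroup.mk (D.t i) := by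
      rw [← D.mem_N_inv_iff]
      exact E.Q_le_N _ q.2
    rwa [h1] at h2
  unfold fS
  rw [hfix]
  have hq' : (D.x i)⁻¹ * (q : T) * D.x i ∈ D.Q := by
    have := D.hQn.conj_mem q q.2 (D.x i)⁻¹
    rwa [inv_inv] at this
  have h3 := E.θ_act (D.u i)⁻¹ ⟨_, hq'⟩
  simp only at h3
  rw [h3]
  congr 1
  have h4 : (⟨(D.x i)⁻¹ * (q : T) * D.x i, hq'⟩ : D.Q) = D.act (D.π (D.x i))⁻¹ q := by
    apply Subtype.ext
    rw [← map_inv, D.hπ, inv_inv]
  rw [h4, ← MulAut.mul_apply, ← map_mul]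
  unfold Setup.t
  rw [mul_inv_rev]

end Datum

end Cfsg.Agent.Lead.Model
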