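import Mathlib
import Cfsg.Agent.Lead.ModelC

set_option autoImplicit false

/-!
# Model theorem, part D: the centre-valued trace, the subgroup `K` and the quotient group
-/

namespace Cfsg.Agent.Lead.Model

universe u

open scoped IsMulCommutative

variable {T A : Type u} [Group T] [Group A]

namespace Setup

variable (D : Setup T A)

/-- The action of `A` on the centre of `Q`. -/
def actZ (a : A) : Subgroup.center D.Q →* Subgroup.center D.Q where
  toFun z := ⟨D.act a z, by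
    rw [Subgroup.mem_center_iff]
    intro g
    have h1 : g = D.act a ((D.act a).symm g) := (MulEquiv.apply_symm_apply _ _).symm
    rw [h1, ← map_mul, ← map_mul]
    congr 1
    exact (Subgroup.mem_center_iff.mp z.2) _⟩
  map_one' := by
    apply Subtype.ext
    simp
  map_mul' z z' := by
    apply Subtype.ext
    simp

@[simp] theorem actZ_coe (a : A) (z : Subgroup.center D.Q) :
    ((D.actZ a z : Subgroup.center D.Q) : D.Q) = D.act a z := rfl

theorem actZ_mul (a b : A) (z : Subgroup.center D.Q) : D.actZ (a * b) z = D.actZ a (D.actZ b z) := by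
  apply Subtype.ext
  simp only [actZ_coe, map_mul, MulAut.mul_apply]

theorem actZ_one (z : Subgroup.center D.Q) : D.actZ 1 z = z := by
  apply Subtype.ext
  simp only [actZ_coe, map_one, MulAut.one_apply]

theorem actZ_inv_actZ (a : A) (z : Subgroup.center D.Q) : D.actZ a⁻¹ (D.actZ a z) = z := by
  rw [← actZ_mul, inv_mul_cancel, actZ_one]

theorem actZ_actZ_inv (a : A) (z : Subgroup.center D.Q) : D.actZ a (D.actZ a⁻¹ z) = z := by
  rw [← actZ_mul, mul_inv_cancel, actZ_one]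

theorem mem_center_of_ker {z : T} (hz : D.π z = 1) :
    (⟨z, D.ker_le_Q (MonoidHom.mem_ker.mpr hz)⟩ : D.Q) ∈ Subgroup.center D.Q := by
  rw [Subgroup.mem_center_iff]
  intro g
  apply Subtype.ext
  have := (Subgroup.mem_centralizer_iff.mp (D.mem_ker_iff.mp (MonoidHom.mem_ker.mpr hz))) g g.2
  exact this

open Classical in
/-- The element of the centre of `Q` attached to an element of the kernel of `π` (and `1` otherwise). -/
noncomputable def toZ (z : T) : Subgroup.center D.Q :=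
  if h : D.π z = 1 then ⟨⟨z, D.ker_le_Q (MonoidHom.mem_ker.mpr h)⟩, D.mem_center_of_ker h⟩ else 1

theorem toZ_coe {z : T} (h : D.π z = 1) : (((D.toZ z : Subgroup.center D.Q) : D.Q) : T) = z := by
  unfold toZ
  rw [dif_pos h]

theorem toZ_ext {c c' : Subgroup.center D.Q} (h : ((c : D.Q) : T) = ((c' : D.Q) : T)) : c = c' :=
  Subtype.ext (Subtype.ext h)

theorem toZ_one : D.toZ 1 = 1 := by
  apply D.toZ_ext
  rw [D.toZ_coe (map_one _)]
  rfl

theorem toZ_mul {z z' : T} (h : D.π z = 1) (h' : D.π z' = 1) :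
    D.toZ (z * z') = D.toZ z * D.toZ z' := by
  apply D.toZ_ext
  rw [D.toZ_coe (by rw [map_mul, h, h', one_mul])]
  simp only [Subgroup.coe_mul]
  rw [D.toZ_coe h, D.toZ_coe h']

theorem toZ_conj {z : T} (h : D.π z = 1) (s : T) :
    D.toZ (s * z * s⁻¹) = D.actZ (D.π s) (D.toZ z) := by
  apply D.toZ_ext
  rw [D.toZ_coe (by rw [map_mul, map_mul, h, mul_one, map_inv, mul_inv_cancel])]
  rw [actZ_coe, D.hπ, D.toZ_coe h]

theorem eq_one_of_toZ {z : T} (h : D.π z = 1) (h1 : D.toZ z = 1) : z = 1 := by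
  rw [← D.toZ_coe h, h1]
  rfl

/-- Every element of the centre of `Q` lies in the kernel of `π`. -/
theorem π_center (c : Subgroup.center D.Q) : D.π ((c : D.Q) : T) = 1 := by
  rw [← MonoidHom.mem_ker, D.mem_ker_iff, Subgroup.mem_centralizer_iff]
  intro q hq
  have := (Subgroup.mem_center_iff.mp c.2) ⟨q, hq⟩
  exact congrArg Subtype.val this

theorem toZ_center (c : Subgroup.center D.Q) : D.toZ ((c : D.Q) : T) = c := by
  apply D.toZ_ext
  rw [D.toZ_coe (D.π_center c)]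

/-- The trace. -/
noncomputable def tr (w : Wr D.I T A) : Subgroup.center D.Q :=
  ∏ᶠ i, D.actZ (D.t i) (D.toZ (w.f i))

theorem π_f_of_a_eq_one {w : Wr D.I T A} (hw : w ∈ Datum.Ghat D) (ha : w.a = 1) (i : D.I) :
    D.π (w.f i) = 1 := by
  rw [Datum.mem_Ghat.mp hw i, ha, one_smul, mul_one, inv_mul_cancel]

variable [Finite A]

theorem tr_one : D.tr 1 = 1 := by
  unfold tr
  simp only [Wr.one_f, toZ_one, map_one]
  exact finprod_one

theorem tr_mul {w v : Wr D.I T A} (hw : w ∈ Datum.Ghat D) (hwa : w.a = 1)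
    (hv : v ∈ Datum.Ghat D) (hva : v.a = 1) : D.tr (w * v) = D.tr w * D.tr v := by
  unfold tr
  rw [← finprod_mul_distrib (Set.toFinite _) (Set.toFinite _)]
  apply finprod_congr
  intro i
  rw [Wr.mul_f, hva, one_smul, D.toZ_mul (D.π_f_of_a_eq_one hw hwa i) (D.π_f_of_a_eq_one hv hva i),
    map_mul]

theorem tr_inv {w : Wr D.I T A} (hw : w ∈ Datum.Ghat D) (hwa : w.a = 1) :
    D.tr w⁻¹ = (D.tr w)⁻¹ := by
  have h1 := D.tr_mul hw hwa ((Datum.Ghat D).inv_mem hw) (by rw [Wr.inv_a, hwa, inv_one])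
  rw [mul_inv_cancel, tr_one] at h1
  exact (inv_eq_of_mul_eq_one_right h1.symm).symm

theorem tr_conj {g k : Wr D.I T A} (hg : g ∈ Datum.Ghat D) (hk : k ∈ Datum.Ghat D)
    (hka : k.a = 1) : D.tr (g * k * g⁻¹) = D.actZ g.a (D.tr k) := by
  unfold tr
  rw [MonoidHom.map_finprod _ (Set.toFinite _)]
  rw [← finprod_comp_equiv (MulAction.toPerm g.a⁻¹ : D.I ≃ D.I)
    (f := fun i => D.actZ g.a (D.actZ (D.t i) (D.toZ (k.f i))))]
  apply finprod_congr
  intro i
  simp only [MulAction.toPerm_apply]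
  have h1 : (g * k * g⁻¹).f i = g.f (g.a⁻¹ • i) * k.f (g.a⁻¹ • i) * (g.f (g.a⁻¹ • i))⁻¹ := by
    simp only [Wr.mul_f, Wr.inv_f, Wr.inv_a, hka, one_smul]
  rw [h1, D.toZ_conj (D.π_f_of_a_eq_one hk hka _), Datum.mem_Ghat.mp hg (g.a⁻¹ • i), smul_inv_smul,
    ← D.actZ_mul, ← D.actZ_mul]
  congr 2
  group

/-- The subgroup `K`: the elements of `Ĝ` over `1 ∈ A` with trivial trace. -/
noncomputable def K : Subgroup (Wr D.I T A) where
  carrier := {w | w ∈ Datum.Ghat D ∧ w.a = 1 ∧ D.tr w = 1}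
  mul_mem' := by
    rintro w v ⟨hw, hwa, hwt⟩ ⟨hv, hva, hvt⟩
    refine ⟨(Datum.Ghat D).mul_mem hw hv, by rw [Wr.mul_a, hwa, hva, one_mul], ?_⟩
    rw [D.tr_mul hw hwa hv hva, hwt, hvt, one_mul]
  one_mem' := ⟨(Datum.Ghat D).one_mem, rfl, D.tr_one⟩
  inv_mem' := by
    rintro w ⟨hw, hwa, hwt⟩
    refine ⟨(Datum.Ghat D).inv_mem hw, by rw [Wr.inv_a, hwa, inv_one], ?_⟩
    rw [D.tr_inv hw hwa, hwt, inv_one]

theorem mem_K {w : Wr D.I T A} : w ∈ D.K ↔ w ∈ Datum.Ghat D ∧ w.a = 1 ∧ D.tr w = 1 := Iff.rfl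

theorem K_le : D.K ≤ Datum.Ghat D := fun _ h => h.1

instance K_normal : (D.K.subgroupOf (Datum.Ghat D)).Normal := by
  constructor
  intro k hk g
  rw [Subgroup.mem_subgroupOf] at hk ⊢
  obtain ⟨hk1, hka, hkt⟩ := hk
  simp only [Subgroup.coe_mul, Subgroup.coe_inv]
  refine ⟨(Datum.Ghat D).mul_mem ((Datum.Ghat D).mul_mem g.2 hk1) ((Datum.Ghat D).inv_mem g.2), ?_, ?_⟩
  · simp only [Wr.mul_a, Wr.inv_a, hka, mul_one, mul_inv_cancel]
  · rw [D.tr_conj g.2 hk1 hka, hkt, map_one]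

/-- The model group. -/
abbrev Gm : Type u := ↥(Datum.Ghat D) ⧸ (D.K.subgroupOf (Datum.Ghat D))

end Setup

end Cfsg.Agent.Lead.Model
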