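import Mathlib
import Cfsg.Agent.Lead.ModelD

set_option autoImplicit false

/-!
# Model theorem, part E: every `a ∈ A` lifts to an element of `Ĝ` intertwining `j` and `j ∘ θ a`
-/

namespace Cfsg.Agent.Lead.Model

universe u

variable {T A : Type u} [Group T] [Group A]

namespace Datum

variable {D : Setup T A} (E : Datum D)

theorem smul_θ (a : A) {s : T} (hs : s ∈ D.N a) (i : D.I) :
    D.π (E.θ a s) • (a • i) = a • (D.π s • i) := by
  rw [smul_smul, smul_smul, E.θ_π a hs]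

theorem conj_mem_Q (x : T) {q : T} (hq : q ∈ D.Q) : x⁻¹ * q * x ∈ D.Q := by
  have := D.hQn.conj_mem q hq x⁻¹
  rwa [inv_inv] at this

theorem conj_coe (x : T) (q : D.Q) :
    x⁻¹ * (q : T) * x = ((D.act (D.π x)⁻¹ q : D.Q) : T) := by
  rw [← map_inv, D.hπ, inv_inv]

/-- The local comparison: near a coset `k`, the maps `θ c ∘ c_{x'⁻¹} ∘ θ a` and `θ b ∘ c_{x⁻¹}` differ by
conjugation by a suitable `y`. -/
theorem exists_y (a : A) (k : D.I) :
    ∃ y : T, D.π y = (D.t (a • k))⁻¹ * a * D.t k ∧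
      ∀ s ∈ D.N a, D.π s • k = k → E.fS (E.θ a s) (a • k) = y * E.fS s k * y⁻¹ := by
  obtain ⟨y₀, hy₀⟩ := D.smul_mk_t a k
  set b : A := (D.u k)⁻¹ with hb
  set c : A := (D.u (a • k))⁻¹ with hc
  set xk : T := D.x k with hxk
  set xk' : T := D.x (a • k) with hxk'
  have htk : D.t k = D.π xk * b⁻¹ := by rw [hb, inv_inv]; rfl
  have htk' : D.t (a • k) = D.π xk' * c⁻¹ := by rw [hc, inv_inv]; rfl
  -- the subgroup `R`
  set R : Subgroup T := D.N a ⊓ (D.N b).comap (MulAut.conj xk⁻¹).toMonoidHom with hR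
  have hmemR : ∀ s : T, s ∈ R ↔ s ∈ D.N a ∧ xk⁻¹ * s * xk ∈ D.N b := by
    intro s
    rw [hR, Subgroup.mem_inf, Subgroup.mem_comap]
    simp only [MulEquiv.coe_toMonoidHom, MulAut.conj_apply, inv_inv]
  have hQR : D.Q ≤ R := by
    intro q hq
    rw [hmemR]
    exact ⟨E.Q_le_N a hq, E.Q_le_N b (conj_mem_Q xk hq)⟩
  set R₁ : Subgroup T := (D.N c).comap (MulAut.conj xk'⁻¹).toMonoidHom with hR₁
  have hmemR₁ : ∀ s : T, s ∈ R₁ ↔ xk'⁻¹ * s * xk' ∈ D.N c := by
    intro s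
    rw [hR₁, Subgroup.mem_comap]
    simp only [MulEquiv.coe_toMonoidHom, MulAut.conj_apply, inv_inv]
  have hQR₁ : D.Q ≤ R₁ := by
    intro q hq
    rw [hmemR₁]
    exact E.Q_le_N c (conj_mem_Q xk' hq)
  -- `θ a` maps `R` into `R₁`
  have hmap : ∀ s ∈ R, E.θ a s ∈ R₁ := by
    intro s hs
    rw [hmemR] at hs
    rw [hmemR₁, D.mem_N, map_mul, map_mul, E.θ_π' a hs.1, map_inv]
    obtain ⟨r, hr⟩ := D.mem_N.mp hs.2
    rw [map_mul, map_mul, map_inv] at hr
    refine ⟨y₀ * r * y₀⁻¹, ?_⟩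
    rw [map_mul, map_mul, map_inv, hr, hy₀, htk, htk']
    group
  -- the two admissible maps
  have hφ₁ : E.Adm R (E.θ c ∘ ((fun s => xk'⁻¹ * s * xk'⁻¹⁻¹) ∘ E.θ a)) := by
    refine E.adm_comp (E.adm_comp (E.adm_res (E.adm_θ a) hQR inf_le_left)
      (E.adm_conj R₁ xk'⁻¹ hQR₁) hmap) (E.adm_θ c) ?_
    intro s hs
    have := (hmemR₁ _).mp (hmap s hs)
    simpa only [Function.comp_apply, inv_inv] using this
  have hφ₂ : E.Adm R ((fun s => y₀ * s * y₀⁻¹) ∘ (E.θ b ∘ (fun s => xk⁻¹ * s * xk⁻¹⁻¹))) := by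
    refine E.adm_comp (E.adm_comp (E.adm_conj R xk⁻¹ hQR) (E.adm_θ b) ?_)
      (E.adm_conj ⊤ y₀ le_top) (fun _ _ => Subgroup.mem_top _)
    intro s hs
    have := ((hmemR s).mp hs).2
    simpa only [inv_inv] using this
  -- agreement on `Q`
  have hagree : ∀ q ∈ D.Q, ((fun s => y₀ * s * y₀⁻¹) ∘ (E.θ b ∘ (fun s => xk⁻¹ * s * xk⁻¹⁻¹))) q =
      (E.θ c ∘ ((fun s => xk'⁻¹ * s * xk'⁻¹⁻¹) ∘ E.θ a)) q := by
    intro q hq
    simp only [Function.comp_apply, inv_inv]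
    have e1 := E.θ_act a ⟨q, hq⟩
    simp only at e1
    rw [e1, conj_coe, E.θ_act c]
    have e2 := conj_coe xk ⟨q, hq⟩
    simp only at e2
    rw [e2, E.θ_act b, ← D.hπ]
    rw [← MulAut.mul_apply, ← MulAut.mul_apply, ← MulAut.mul_apply, ← MulAut.mul_apply,
      ← map_mul, ← map_mul, ← map_mul, ← map_mul]
    congr 3
    rw [hy₀, htk, htk']
    group
  obtain ⟨z, hz, hzφ⟩ := E.adm_rigid hφ₂ hφ₁ hagree
  have hzπ : D.π z = 1 := MonoidHom.mem_ker.mp hz
  have hzQ : z ∈ D.Q := D.ker_le_Q hz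
  have hzN : xk⁻¹ * z * xk ∈ D.N b := E.Q_le_N b (conj_mem_Q xk hzQ)
  refine ⟨y₀ * E.θ b (xk⁻¹ * z * xk), ?_, ?_⟩
  · rw [map_mul, E.θ_π' b hzN, map_mul, map_mul, hzπ, hy₀, map_inv]
    group
  · intro s hs hsk
    have hsN : xk⁻¹ * s * xk ∈ D.N b := by
      have := D.base_mem s k
      rwa [hsk] at this
    have hsR : s ∈ R := (hmemR s).mpr ⟨hs, hsN⟩
    have h1 := hzφ s hsR
    simp only [Function.comp_apply, inv_inv] at h1
    have h2 : E.fS (E.θ a s) (a • k) = E.θ c (xk'⁻¹ * E.θ a s * xk') := by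
      unfold fS
      rw [E.smul_θ a hs, hsk]
    have h3 : E.fS s k = E.θ b (xk⁻¹ * s * xk) := by
      unfold fS
      rw [hsk]
    rw [h2, h3, h1]
    have h4 : xk⁻¹ * (z * s * z⁻¹) * xk = (xk⁻¹ * z * xk) * (xk⁻¹ * s * xk) * (xk⁻¹ * z * xk)⁻¹ := by
      group
    rw [h4, E.θ_mul b ((D.N b).mul_mem hzN hsN) ((D.N b).inv_mem hzN), E.θ_mul b hzN hsN,
      E.adm_inv (E.adm_θ b) hzN]
    group

/-- The chosen `y`. -/
noncomputable def yA (a : A) (k : D.I) : T := Classical.choose (E.exists_y a k)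

theorem π_yA (a : A) (k : D.I) : D.π (E.yA a k) = (D.t (a • k))⁻¹ * a * D.t k :=
  (Classical.choose_spec (E.exists_y a k)).1

theorem yA_spec (a : A) (k : D.I) {s : T} (hs : s ∈ D.N a) (hsk : D.π s • k = k) :
    E.fS (E.θ a s) (a • k) = E.yA a k * E.fS s k * (E.yA a k)⁻¹ :=
  (Classical.choose_spec (E.exists_y a k)).2 s hs hsk

/-- The auxiliary expression defining the lift along an orbit. -/
noncomputable def gA (a : A) (k : D.I) (n : T) : T :=
  E.fS (E.θ a n) (a • k) * E.yA a k * (E.fS n k)⁻¹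

theorem gA_mul_stab (a : A) (k : D.I) {n h : T} (hn : n ∈ D.N a) (hh : h ∈ D.N a)
    (hk : D.π h • k = k) : E.gA a k (n * h) = E.gA a k n := by
  unfold gA
  rw [E.θ_mul a hn hh, E.fS_mul, E.fS_mul, E.smul_θ a hh, hk, E.yA_spec a k hh hk]
  group

end Datum

namespace Setup

variable (D : Setup T A)

/-- The orbit relation of `N_a` on the index set. -/
def orbA (a : A) : Setoid D.I where
  r i i' := ∃ n ∈ D.N a, D.π n • i = i'
  iseqv := by
    refine ⟨fun i => ⟨1, (D.N a).one_mem, by rw [map_one, one_smul]⟩, ?_, ?_⟩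
    · rintro i i' ⟨s, hs, rfl⟩
      exact ⟨s⁻¹, (D.N a).inv_mem hs, by rw [map_inv, inv_smul_smul]⟩
    · rintro i i' i'' ⟨s, hs, rfl⟩ ⟨s', hs', rfl⟩
      exact ⟨s' * s, (D.N a).mul_mem hs' hs, by rw [map_mul, mul_smul]⟩

/-- The chosen representative of the `N_a`-orbit of `i`. -/
noncomputable def rA (a : A) (i : D.I) : D.I := (Quotient.mk (D.orbA a) i).out

theorem rA_smul (a : A) {s : T} (hs : s ∈ D.N a) (i : D.I) : D.rA a (D.π s • i) = D.rA a i := by
  unfold rA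
  congr 1
  apply Quotient.sound
  exact ⟨s⁻¹, (D.N a).inv_mem hs, by rw [map_inv, inv_smul_smul]⟩

theorem exists_nA (a : A) (i : D.I) : ∃ n ∈ D.N a, D.π n • D.rA a i = i :=
  Quotient.exact (Quotient.out_eq (Quotient.mk (D.orbA a) i))

/-- An element of `N_a` carrying the orbit representative to `i`. -/
noncomputable def nA (a : A) (i : D.I) : T := Classical.choose (D.exists_nA a i)

theorem nA_mem (a : A) (i : D.I) : D.nA a i ∈ D.N a := (Classical.choose_spec (D.exists_nA a i)).1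

theorem nA_smul (a : A) (i : D.I) : D.π (D.nA a i) • D.rA a i = i :=
  (Classical.choose_spec (D.exists_nA a i)).2

end Setup

namespace Datum

variable {D : Setup T A} (E : Datum D)

/-- The `f`-component of the lift of `a`. -/
noncomputable def f0 (a : A) (i : D.I) : T := E.gA a (D.rA a i) (D.nA a i)

theorem f0_eq (a : A) (i : D.I) {n : T} (hn : n ∈ D.N a) (hni : D.π n • D.rA a i = i) :
    E.f0 a i = E.gA a (D.rA a i) n := by
  unfold f0
  have h1 : n = D.nA a i * ((D.nA a i)⁻¹ * n) := by group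
  have h2 : (D.nA a i)⁻¹ * n ∈ D.N a := (D.N a).mul_mem ((D.N a).inv_mem (D.nA_mem a i)) hn
  have h3 : D.π ((D.nA a i)⁻¹ * n) • D.rA a i = D.rA a i := by
    rw [map_mul, mul_smul, hni, map_inv, inv_smul_eq_iff, D.nA_smul]
  rw [h1, E.gA_mul_stab a _ (D.nA_mem a i) h2 h3]

/-- The lift of `a`. -/
noncomputable def lift (a : A) : Wr D.I T A := ⟨E.f0 a, a⟩

theorem lift_a (a : A) : (E.lift a).a = a := rfl

theorem lift_mem (a : A) : E.lift a ∈ Ghat D := by
  intro i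
  show D.π (E.f0 a i) = (D.t (a • i))⁻¹ * a * D.t i
  have hn := D.nA_mem a i
  have hni := D.nA_smul a i
  unfold f0 gA
  rw [map_mul, map_mul, map_inv, E.π_fS, E.π_fS, E.π_yA, E.smul_θ a hn, hni, E.θ_π' a hn]
  group

theorem lift_spec (a : A) {s : T} (hs : s ∈ D.N a) :
    E.lift a * E.j s = E.j (E.θ a s) * E.lift a := by
  apply Wr.ext
  · funext i
    show E.f0 a (D.π s • i) * E.fS s i = E.fS (E.θ a s) (a • i) * E.f0 a i
    have hn := D.nA_mem a i
    have hni := D.nA_smul a i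
    have h1 : E.f0 a (D.π s • i) = E.gA a (D.rA a i) (s * D.nA a i) := by
      have := E.f0_eq a (D.π s • i) ((D.N a).mul_mem hs hn)
        (by rw [D.rA_smul a hs, map_mul, mul_smul, hni])
      rw [this, D.rA_smul a hs]
    rw [h1]
    unfold f0 gA
    rw [E.θ_mul a hs hn, E.fS_mul, E.fS_mul, E.smul_θ a hn, hni]
    group
  · show a * D.π s = D.π (E.θ a s) * a
    exact (E.θ_π a hs).symm

end Datum

end Cfsg.Agent.Lead.Model
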