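import Mathlib
import Cfsg.Agent.Lead.ModelE

set_option autoImplicit false

/-!
# Model theorem, part F: the model group and its properties
-/

namespace Cfsg.Agent.Lead.Model

universe u

open scoped IsMulCommutative

variable {T A : Type u} [Group T] [Group A]

namespace Datum

variable {D : Setup T A} (E : Datum D)

theorem π_Q_smul (E : Datum D) {q : T} (hq : q ∈ D.Q) (i : D.I) : D.π q • i = i := by
  have h1 := D.mk_t i
  have h2 : D.π q • (QuotientGroup.mk (D.t i) : D.I) = QuotientGroup.mk (D.t i) := by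
    rw [← D.mem_N_inv_iff]
    exact E.Q_le_N _ hq
  rwa [h1] at h2

theorem π_act (D : Setup T A) (a : A) (q : D.Q) :
    D.π ((D.act a q : D.Q) : T) = a * D.π q * a⁻¹ := by
  apply D.act_inj
  ext q'
  rw [D.hπ, map_mul, map_mul, MulAut.mul_apply, MulAut.mul_apply]
  have h1 : ∀ r : D.Q, D.act (D.π (q : T)) r = q * r * q⁻¹ := by
    intro r
    apply Subtype.ext
    rw [D.hπ]
    simp
  rw [h1, map_mul, map_mul, ← MulAut.mul_apply, ← map_mul, mul_inv_cancel, map_one, MulAut.one_apply,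
    map_inv]
  simp

/-- Conjugation by an element of `Ĝ` on `j(Q)`. -/
theorem conj_j (w : Wr D.I T A) (hw : w ∈ Ghat D) (q : D.Q) :
    w * E.j q * w⁻¹ = E.j ((D.act w.a q : D.Q) : T) := by
  apply Wr.ext
  · funext i
    simp only [Wr.mul_f, Wr.inv_f, Wr.inv_a, j_f, j_a]
    rw [E.π_Q_smul q.2, E.fS_of_mem_Q, E.fS_of_mem_Q, ← D.hπ, mem_Ghat.mp hw (w.a⁻¹ • i),
      smul_inv_smul, ← MulAut.mul_apply, ← map_mul, ← MulAut.mul_apply, ← map_mul]
    congr 3
    group
  · simp only [Wr.mul_a, Wr.inv_a, j_a]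
    rw [π_act]

/-- The trace of `j z` for `z` in the kernel of `π`. -/
theorem tr_j [Finite A] {z : T} (hz : D.π z = 1) : D.tr (E.j z) = D.toZ z ^ Nat.card D.I := by
  have hzQ : z ∈ D.Q := D.ker_le_Q (MonoidHom.mem_ker.mpr hz)
  have h1 : ∀ i : D.I, D.actZ (D.t i) (D.toZ ((E.j z).f i)) = D.toZ z := by
    intro i
    rw [j_f]
    have h2 := E.fS_of_mem_Q ⟨z, hzQ⟩ i
    simp only at h2
    have h3 : (⟨z, hzQ⟩ : D.Q) = ((D.toZ z : Subgroup.center D.Q) : D.Q) := by
      apply Subtype.ext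
      rw [D.toZ_coe hz]
    rw [h3, ← Setup.actZ_coe] at h2
    rw [h2, D.toZ_center, D.actZ_actZ_inv]
  unfold Setup.tr
  rw [finprod_congr h1]
  haveI : Fintype D.I := Fintype.ofFinite _
  rw [finprod_eq_prod_of_fintype, Finset.prod_const, Finset.card_univ, Nat.card_eq_fintype_card]

/-- `j` as a map into `Ĝ`. -/
noncomputable def jH : T →* ↥(Ghat D) := E.j.codRestrict (Ghat D) E.j_mem

@[simp] theorem jH_coe (s : T) : ((E.jH s : ↥(Ghat D)) : Wr D.I T A) = E.j s := rfl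

variable [Finite A]

/-- The embedding of `T` into the model group. -/
noncomputable def ι : T →* D.Gm := (QuotientGroup.mk' _).comp E.jH

theorem ι_apply (s : T) : E.ι s = QuotientGroup.mk (E.jH s) := rfl

/-- The projection of `Ĝ` to `A`. -/
def rhoH (D : Setup T A) : ↥(Ghat D) →* A := Wr.rho.comp (Ghat D).subtype

theorem K_le_ker (D : Setup T A) : D.K.subgroupOf (Ghat D) ≤ (rhoH D).ker := by
  intro k hk
  rw [Subgroup.mem_subgroupOf] at hk
  rw [MonoidHom.mem_ker]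
  exact hk.2.1

/-- The projection of the model group to `A`. -/
noncomputable def rhoBar (D : Setup T A) : D.Gm →* A := QuotientGroup.lift _ (rhoH D) (K_le_ker D)

theorem rhoBar_mk (w : ↥(Ghat D)) : rhoBar D (QuotientGroup.mk w) = (w : Wr D.I T A).a := rfl

theorem rhoBar_ι (s : T) : rhoBar D (E.ι s) = D.π s := rfl

variable [Finite T] (p : ℕ) [Fact p.Prime]

theorem isPGroup_center (hT : IsPGroup p T) : IsPGroup p (Subgroup.center D.Q) :=
  (hT.to_subgroup D.Q).to_subgroup _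

theorem coprime_card (hidx : ¬ p ∣ D.π.range.index) : p.Coprime (Nat.card D.I) := by
  rw [← Subgroup.index_eq_card]
  exact (Nat.Prime.coprime_iff_not_dvd Fact.out).mpr hidx

theorem ι_injective (hT : IsPGroup p T) (hidx : ¬ p ∣ D.π.range.index) :
    Function.Injective E.ι := by
  rw [injective_iff_map_eq_one]
  intro s hs
  rw [ι_apply, QuotientGroup.eq_one_iff, Subgroup.mem_subgroupOf, jH_coe, Setup.mem_K] at hs
  obtain ⟨-, hsa, hst⟩ := hs
  have hsπ : D.π s = 1 := hsa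
  rw [E.tr_j hsπ] at hst
  have hZp := isPGroup_center (D := D) p hT
  have h1 := (hZp.powEquiv (coprime_card (D := D) p hidx)).injective
  have h2 : D.toZ s = 1 := by
    apply h1
    simp only [IsPGroup.powEquiv_apply, one_pow]
    exact hst
  exact D.eq_one_of_toZ hsπ h2

/-- The kernel of the projection to `A` is the image of the kernel of `π`. -/
theorem exists_of_rhoBar_eq_one (hT : IsPGroup p T) (hidx : ¬ p ∣ D.π.range.index)
    {g : D.Gm} (hg : rhoBar D g = 1) : ∃ z : T, D.π z = 1 ∧ E.ι z = g := by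
  obtain ⟨w, rfl⟩ := QuotientGroup.mk_surjective g
  have hwa : (w : Wr D.I T A).a = 1 := hg
  have hZp := isPGroup_center (D := D) p hT
  set e := hZp.powEquiv (coprime_card (D := D) p hidx) with he
  set z₀ : Subgroup.center D.Q := e.symm (D.tr (w : Wr D.I T A)) with hz₀
  have hz₀pow : z₀ ^ Nat.card D.I = D.tr (w : Wr D.I T A) := by
    have := e.apply_symm_apply (D.tr (w : Wr D.I T A))
    rwa [he, IsPGroup.powEquiv_apply] at this
  have hzπ : D.π ((z₀ : D.Q) : T) = 1 := D.π_center z₀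
  refine ⟨((z₀ : D.Q) : T), hzπ, ?_⟩
  rw [ι_apply, eq_comm, QuotientGroup.eq, Subgroup.mem_subgroupOf]
  simp only [Subgroup.coe_mul, Subgroup.coe_inv, jH_coe]
  rw [Setup.mem_K]
  have hjm := E.j_mem ((z₀ : D.Q) : T)
  have hja : (E.j ((z₀ : D.Q) : T)).a = 1 := hzπ
  refine ⟨(Ghat D).mul_mem ((Ghat D).inv_mem w.2) hjm, ?_, ?_⟩
  · rw [Wr.mul_a, Wr.inv_a, hwa, hja, inv_one, one_mul]
  · rw [D.tr_mul ((Ghat D).inv_mem w.2) (by rw [Wr.inv_a, hwa, inv_one]) hjm hja, D.tr_inv w.2 hwa,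
      E.tr_j hzπ, D.toZ_center, hz₀pow, inv_mul_cancel]

theorem rhoBar_surjective (E : Datum D) : Function.Surjective (rhoBar D) := by
  intro a
  exact ⟨QuotientGroup.mk ⟨E.lift a, E.lift_mem a⟩, rfl⟩

theorem range_ι (hT : IsPGroup p T) (hidx : ¬ p ∣ D.π.range.index) :
    E.ι.range = D.π.range.comap (rhoBar D) := by
  ext g
  rw [Subgroup.mem_comap]
  constructor
  · rintro ⟨s, rfl⟩
    exact ⟨s, rfl⟩
  · rintro ⟨s, hs⟩
    have h1 : rhoBar D (g * (E.ι s)⁻¹) = 1 := by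
      rw [map_mul, map_inv, rhoBar_ι, ← hs, mul_inv_cancel]
    obtain ⟨z, -, hz⟩ := E.exists_of_rhoBar_eq_one p hT hidx h1
    refine ⟨z * s, ?_⟩
    rw [map_mul, hz]
    group

theorem index_range_ι (hT : IsPGroup p T) (hidx : ¬ p ∣ D.π.range.index) :
    E.ι.range.index = D.π.range.index := by
  rw [E.range_ι p hT hidx, Subgroup.index_comap_of_surjective _ E.rhoBar_surjective]

/-- Conjugation in the model group on the image of `Q`. -/
theorem conj_ι (w : ↥(Ghat D)) (q : D.Q) :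
    (QuotientGroup.mk w : D.Gm) * E.ι q * (QuotientGroup.mk w)⁻¹ =
      E.ι ((D.act (w : Wr D.I T A).a q : D.Q) : T) := by
  rw [ι_apply, ι_apply, ← QuotientGroup.mk_inv, ← QuotientGroup.mk_mul, ← QuotientGroup.mk_mul]
  congr 1
  apply Subtype.ext
  simp only [Subgroup.coe_mul, Subgroup.coe_inv, jH_coe]
  exact E.conj_j w w.2 q

theorem map_Q_normal : (D.Q.map E.ι).Normal := by
  constructor
  rintro _ ⟨q, hq, rfl⟩ g
  obtain ⟨w, rfl⟩ := QuotientGroup.mk_surjective g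
  have := E.conj_ι w ⟨q, hq⟩
  simp only at this
  rw [this]
  exact ⟨_, (D.act (w : Wr D.I T A).a ⟨q, hq⟩).2, rfl⟩

theorem centralizer_map_Q_le (hT : IsPGroup p T) (hidx : ¬ p ∣ D.π.range.index) :
    Subgroup.centralizer ((D.Q.map E.ι : Subgroup D.Gm) : Set D.Gm) ≤ D.Q.map E.ι := by
  intro g hg
  obtain ⟨w, rfl⟩ := QuotientGroup.mk_surjective g
  have h1 : ∀ q : D.Q, D.act (w : Wr D.I T A).a q = q := by
    intro q
    have h2 := E.conj_ι w q
    have h3 := (Subgroup.mem_centralizer_iff.mp hg) (E.ι q) ⟨q, q.2, rfl⟩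
    have h4 : (QuotientGroup.mk w : D.Gm) * E.ι q * (QuotientGroup.mk w)⁻¹ = E.ι q := by
      rw [← h3]; group
    rw [h4] at h2
    exact (Subtype.ext (E.ι_injective p hT hidx h2)).symm
  have h5 : (w : Wr D.I T A).a = 1 := by
    apply D.act_inj
    rw [map_one]
    ext q
    rw [h1, MulAut.one_apply]
  obtain ⟨z, hz, hzg⟩ := E.exists_of_rhoBar_eq_one p hT hidx (g := QuotientGroup.mk w) h5
  exact ⟨z, D.ker_le_Q (MonoidHom.mem_ker.mpr hz), hzg⟩

/-- Conjugation by the lift of `a` realizes `θ a`. -/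
theorem conj_lift (a : A) {s : T} (hs : s ∈ D.N a) :
    (QuotientGroup.mk ⟨E.lift a, E.lift_mem a⟩ : D.Gm) * E.ι s *
      (QuotientGroup.mk ⟨E.lift a, E.lift_mem a⟩)⁻¹ = E.ι (E.θ a s) := by
  rw [ι_apply, ι_apply, ← QuotientGroup.mk_inv, ← QuotientGroup.mk_mul, ← QuotientGroup.mk_mul]
  congr 1
  apply Subtype.ext
  simp only [Subgroup.coe_mul, Subgroup.coe_inv, jH_coe]
  rw [E.lift_spec a hs]
  group

/-- Realization: the admissible maps are exactly the conjugation maps of the model group. -/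
theorem adm_iff (hT : IsPGroup p T) (hidx : ¬ p ∣ D.π.range.index) (R : Subgroup T) (hQR : D.Q ≤ R)
    (φ : T → T) :
    E.Adm R φ ↔ ∃ g : D.Gm, ∀ s ∈ R, E.ι (φ s) = g * E.ι s * g⁻¹ := by
  constructor
  · intro hφ
    obtain ⟨a, ha⟩ := E.adm_act hφ
    have hRN : R ≤ D.N a := by
      intro s hs
      rw [D.mem_N]
      refine ⟨φ s, ?_⟩
      rw [← E.adm_π hφ ha hs]
      group
    have hθ : E.Adm R (E.θ a) := E.adm_res (E.adm_θ a) hQR hRN
    obtain ⟨z, hz, hzφ⟩ := E.adm_rigid hθ hφ (by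
      intro q hq
      rw [E.θ_act a ⟨q, hq⟩, ha ⟨q, hq⟩])
    have hzR : z ∈ R := hQR (D.ker_le_Q hz)
    refine ⟨QuotientGroup.mk ⟨E.lift a, E.lift_mem a⟩ * E.ι z, ?_⟩
    intro s hs
    have hzs : z * s * z⁻¹ ∈ D.N a := hRN (R.mul_mem (R.mul_mem hzR hs) (R.inv_mem hzR))
    rw [hzφ s hs, ← E.conj_lift a hzs, map_mul, map_mul, map_inv]
    group
  · rintro ⟨g, hg⟩
    obtain ⟨w, rfl⟩ := QuotientGroup.mk_surjective g
    set a : A := (w : Wr D.I T A).a with ha
    have hRN : R ≤ D.N a := by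
      intro s hs
      rw [D.mem_N]
      refine ⟨φ s, ?_⟩
      have := congrArg (rhoBar D) (hg s hs)
      rw [rhoBar_ι, map_mul, map_mul, map_inv, rhoBar_ι, rhoBar_mk] at this
      exact this
    have h1 : rhoBar D ((QuotientGroup.mk ⟨E.lift a, E.lift_mem a⟩ : D.Gm)⁻¹ * QuotientGroup.mk w)
        = 1 := by
      rw [map_mul, map_inv, rhoBar_mk, rhoBar_mk]
      show (E.lift a).a⁻¹ * a = 1
      rw [E.lift_a, inv_mul_cancel]
    obtain ⟨z, hz, hzg⟩ := E.exists_of_rhoBar_eq_one p hT hidx h1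
    have hzR : z ∈ R := hQR (D.ker_le_Q (MonoidHom.mem_ker.mpr hz))
    have hgw : (QuotientGroup.mk w : D.Gm) =
        QuotientGroup.mk ⟨E.lift a, E.lift_mem a⟩ * E.ι z := by
      rw [hzg]; group
    have hφ : ∀ s ∈ R, E.θ a (z * s * z⁻¹) = φ s := by
      intro s hs
      apply E.ι_injective p hT hidx
      have hzs : z * s * z⁻¹ ∈ D.N a := hRN (R.mul_mem (R.mul_mem hzR hs) (R.inv_mem hzR))
      rw [hg s hs, hgw, ← E.conj_lift a hzs, map_mul, map_mul, map_inv]
      group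
    have h2 : E.Adm R (E.θ a ∘ fun s => z * s * z⁻¹) := by
      refine E.adm_comp (E.adm_conj R z hQR) (E.adm_θ a) ?_
      intro s hs
      exact hRN (R.mul_mem (R.mul_mem hzR hs) (R.inv_mem hzR))
    exact E.adm_congr h2 hφ

end Datum

end Cfsg.Agent.Lead.Model
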