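import Mathlib
import Cfsg.Agent.Lead.ModelF

set_option autoImplicit false

/-!
# Model theorem, part G: the abstract existence theorem
-/

namespace Cfsg.Agent.Lead.Model

universe u

variable {T A : Type u} [Group T] [Group A]

/-- Abstract existence of a model. -/
theorem exists_model (D : Setup T A) (E : Datum D) [Finite T] [Finite A] (p : ℕ) [Fact p.Prime]
    (hT : IsPGroup p T) (hidx : ¬ p ∣ D.π.range.index) :
    ∃ (G : Type u) (_ : Group G) (_ : Finite G) (ι : T →* G), Function.Injective ι ∧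
      (∃ P : Sylow p G, (P : Subgroup G) = ι.range) ∧ (D.Q.map ι).Normal ∧
      Subgroup.centralizer ((D.Q.map ι : Subgroup G) : Set G) ≤ D.Q.map ι ∧
      ∀ (R : Subgroup T), D.Q ≤ R → ∀ φ : T → T,
        (E.Adm R φ ↔ ∃ g : G, ∀ s ∈ R, ι (φ s) = g * ι s * g⁻¹) := by
  refine ⟨D.Gm, inferInstance, inferInstance, E.ι, E.ι_injective p hT hidx, ?_, E.map_Q_normal,
    E.centralizer_map_Q_le p hT hidx, fun R hQR φ => E.adm_iff p hT hidx R hQR φ⟩
  have hp : IsPGroup p E.ι.range :=
    IsPGroup.of_surjective hT E.ι.rangeRestrict E.ι.rangeRestrict_surjective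
  have hi : ¬ p ∣ E.ι.range.index := by
    rw [E.index_range_ι p hT hidx]
    exact hidx
  exact ⟨hp.toSylow hi, IsPGroup.toSylow_coe hp hi⟩

end Cfsg.Agent.Lead.Model
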