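import Mathlib
import Cfsg.Prelude.Def_FusionSystem
import Cfsg.Agent.Lead.ModelG
import Cfsg.Agent.Lead.FusionSat3
import Cfsg.Agent.Lead.FusionNormalCrit
import Cfsg.Agent.Lead.FusionOmegaChain
import Cfsg.Agent.Lead.FusionCentric

set_option autoImplicit false

/-!
# Model theorem, part H: the setting attached to a normal centric subgroup of a fusion system
-/

namespace Cfsg.Agent.Lead.Model

universe u

open Cfsg Cfsg.FusionSystem

variable {Ω : Type u} [Group Ω] {S : Subgroup Ω}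

theorem le_normalizer_of_isNormal (F : FusionSystem S) {Q : Subgroup Ω} (hQn : F.IsNormal Q) :
    S ≤ Subgroup.normalizer (Q : Set Ω) := by
  have hsc := Fusion.stronglyClosed_of_isNormal F hQn
  intro s hs
  rw [Subgroup.mem_normalizer_iff]
  intro x
  constructor
  · intro hx
    exact Fusion.conj_mem_of_stronglyClosed F hsc hs hx
  · intro hx
    have := Fusion.conj_mem_of_stronglyClosed F hsc (S.inv_mem hs) hx
    convert this using 1
    group

/-- The subgroup `Q` inside `S`, as a subgroup of the group `S`. -/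
abbrev Qs (S Q : Subgroup Ω) : Subgroup ↥S := Q.subgroupOf S

theorem Qs_normal (F : FusionSystem S) {Q : Subgroup Ω} (hQn : F.IsNormal Q) : (Qs S Q).Normal := by
  constructor
  intro q hq s
  rw [Subgroup.mem_subgroupOf] at hq ⊢
  have := le_normalizer_of_isNormal F hQn s.2
  exact (Subgroup.mem_normalizer_iff.mp this q).mp hq

/-- The identification of `Q` with `Q` viewed inside `S`. -/
noncomputable def eQ {Q : Subgroup Ω} (hQS : Q ≤ S) : ↥Q ≃* ↥(Qs S Q) :=
  (Subgroup.subgroupOfEquivOfLe hQS).symm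

theorem eQ_coe {Q : Subgroup Ω} (hQS : Q ≤ S) (x : Q) : (((eQ hQS x : Qs S Q) : ↥S) : Ω) = x := rfl

theorem eQ_symm_coe {Q : Subgroup Ω} (hQS : Q ≤ S) (x : Qs S Q) :
    (((eQ hQS).symm x : Q) : Ω) = ((x : ↥S) : Ω) := rfl

/-- The action of `Aut_F(Q)` on `Q` viewed inside `S`. -/
noncomputable def actF (F : FusionSystem S) {Q : Subgroup Ω} (hQS : Q ≤ S) :
    ↥(F.autGroup Q) →* MulAut ↥(Qs S Q) :=
  (MulAut.congr (eQ hQS)).toMonoidHom.comp (F.autGroup Q).subtype

theorem actF_apply (F : FusionSystem S) {Q : Subgroup Ω} (hQS : Q ≤ S) (a : F.autGroup Q)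
    (q : Qs S Q) : (((actF F hQS a q : Qs S Q) : ↥S) : Ω) = ((a : MulAut Q) ((eQ hQS).symm q) : Q) :=
  rfl

theorem actF_injective (F : FusionSystem S) {Q : Subgroup Ω} (hQS : Q ≤ S) :
    Function.Injective (actF F hQS) := by
  intro a b h
  apply Subtype.ext
  exact (MulAut.congr (eQ hQS)).injective h

/-- The conjugation homomorphism from `S` to `Aut_F(Q)`. -/
noncomputable def piF (F : FusionSystem S) {Q : Subgroup Ω} (hQn : F.IsNormal Q) :
    ↥S →* ↥(F.autGroup Q) :=
  ((conjAutHom Q).comp (Subgroup.inclusion (le_normalizer_of_isNormal F hQn))).codRestrict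
    (F.autGroup Q) (fun s => Fusion.autInducedBy_le_autGroup F hQn.1
      (Fusion.conjAutHom_mem_autInducedBy Q _ s.2))

theorem piF_apply (F : FusionSystem S) {Q : Subgroup Ω} (hQn : F.IsNormal Q) (s : ↥S) (x : Q) :
    ((((piF F hQn s : F.autGroup Q) : MulAut Q) x : Q) : Ω) = (s : Ω) * x * (s : Ω)⁻¹ := rfl

/-- The setting attached to a normal centric subgroup. -/
noncomputable def setupF (F : FusionSystem S) {Q : Subgroup Ω} (hQn : F.IsNormal Q)
    (hQc : F.IsCentric Q) : Setup ↥S ↥(F.autGroup Q) where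
  Q := Qs S Q
  hQn := Qs_normal F hQn
  act := actF F hQn.1
  act_inj := actF_injective F hQn.1
  π := piF F hQn
  hπ := by
    intro s q
    apply Subtype.ext
    rw [actF_apply, piF_apply]
    rfl
  hC := by
    intro s hs
    rw [Subgroup.mem_subgroupOf]
    apply hQc.2 Q (Fusion.isConj_refl F hQn.1)
    refine Subgroup.mem_inf.mpr ⟨s.2, ?_⟩
    rw [Subgroup.mem_centralizer_iff]
    intro q hq
    have := (Subgroup.mem_centralizer_iff.mp hs) ⟨q, hQn.1 hq⟩ (by
      rw [SetLike.mem_coe, Subgroup.mem_subgroupOf]; exact hq)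
    exact congrArg Subtype.val this

@[simp] theorem setupF_Q (F : FusionSystem S) {Q : Subgroup Ω} (hQn : F.IsNormal Q)
    (hQc : F.IsCentric Q) : (setupF F hQn hQc).Q = Qs S Q := rfl

@[simp] theorem setupF_π (F : FusionSystem S) {Q : Subgroup Ω} (hQn : F.IsNormal Q)
    (hQc : F.IsCentric Q) : (setupF F hQn hQc).π = piF F hQn := rfl

@[simp] theorem setupF_act (F : FusionSystem S) {Q : Subgroup Ω} (hQn : F.IsNormal Q)
    (hQc : F.IsCentric Q) : (setupF F hQn hQc).act = actF F hQn.1 := rfl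

theorem range_piF (F : FusionSystem S) {Q : Subgroup Ω} (hQn : F.IsNormal Q) :
    (piF F hQn).range = (autInducedBy S Q).subgroupOf (F.autGroup Q) := by
  ext a
  rw [Subgroup.mem_subgroupOf, mem_autInducedBy_iff]
  constructor
  · rintro ⟨s, rfl⟩
    exact ⟨s, s.2, fun x => rfl⟩
  · rintro ⟨g, hg, h⟩
    refine ⟨⟨g, hg⟩, ?_⟩
    apply Subtype.ext
    ext x
    rw [piF_apply, h]

/-- A subgroup normal in the system is its only conjugate. -/
theorem eq_of_isConj_of_isNormal [Finite S] (F : FusionSystem S) {Q Q₁ : Subgroup Ω}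
    (hQn : F.IsNormal Q) (h : F.IsConj Q Q₁) : Q₁ = Q := by
  have hsc := Fusion.stronglyClosed_of_isNormal F hQn
  have hcard := Fusion.card_eq_of_isConj F h
  obtain ⟨φ, hφ, hr⟩ := h
  have h1 : Q₁ ≤ Q := by
    intro y hy
    rw [← hr] at hy
    obtain ⟨x, rfl⟩ := hy
    exact hsc.2 Q le_rfl φ hφ x
  have : Finite Q := Fusion.finite_of_le hQn.1
  exact Subgroup.eq_of_le_of_card_ge h1 hcard.le

theorem not_dvd_index_piF [Finite S] (p : ℕ) [Fact p.Prime] (F : FusionSystem S)
    (hsat : F.IsSaturated p) {Q : Subgroup Ω} (hQn : F.IsNormal Q) :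
    ¬ p ∣ (piF F hQn).range.index := by
  obtain ⟨Q₁, hc, ⟨_, R, hR⟩, _⟩ := hsat Q hQn.1
  have := eq_of_isConj_of_isNormal F hQn hc
  subst this
  rw [range_piF, ← hR]
  haveI : Finite Q₁ := Fusion.finite_of_le hQn.1
  exact R.not_dvd_index

theorem isReceptive_of_isNormal [Finite S] (p : ℕ) (F : FusionSystem S)
    (hsat : F.IsSaturated p) {Q : Subgroup Ω} (hQn : F.IsNormal Q) : F.IsReceptive Q := by
  obtain ⟨Q₁, hc, _, hrec⟩ := hsat Q hQn.1
  have := eq_of_isConj_of_isNormal F hQn hc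
  subst this
  exact hrec

end Cfsg.Agent.Lead.Model
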