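import Mathlib
import Cfsg.Prelude.Def_FusionSystem
import Cfsg.Agent.Lead.ModelH
import Cfsg.Agent.Lead.FusionExt

set_option autoImplicit false

/-!
# Model theorem, part I: the admissible maps of a fusion system with a normal centric subgroup
-/

namespace Cfsg.Agent.Lead.Model

universe u

open Cfsg Cfsg.FusionSystem

variable {Ω : Type u} [Group Ω] {S : Subgroup Ω}

/-- Admissible maps: total functions on `S` which on `R ≥ Q` are given by a map of the system. -/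
def AdmF (F : FusionSystem S) (Q : Subgroup Ω) (R : Subgroup ↥S) (φ : ↥S → ↥S) : Prop :=
  Qs S Q ≤ R ∧ ∃ (P : Subgroup Ω) (_ : P = R.map S.subtype) (ψ : P →* Ω), ψ ∈ F.Hom P ∧
    ∀ (s : ↥S) (_ : s ∈ R) (hx : (s : Ω) ∈ P), ψ ⟨s, hx⟩ = (φ s : Ω)

theorem mem_map_subtype {R : Subgroup ↥S} {s : ↥S} (hs : s ∈ R) : (s : Ω) ∈ R.map S.subtype :=
  ⟨s, hs, rfl⟩

theorem map_subtype_le (R : Subgroup ↥S) : R.map S.subtype ≤ S := by
  rintro _ ⟨s, _, rfl⟩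
  exact s.2

theorem mem_of_mem_map_subtype {R : Subgroup ↥S} {x : Ω} (hx : x ∈ R.map S.subtype) :
    (⟨x, map_subtype_le R hx⟩ : ↥S) ∈ R := by
  obtain ⟨s, hs, rfl⟩ := hx
  exact hs

theorem Q_le_map {Q : Subgroup Ω} (hQS : Q ≤ S) {R : Subgroup ↥S} (hQR : Qs S Q ≤ R) :
    Q ≤ R.map S.subtype := by
  intro q hq
  exact ⟨⟨q, hQS hq⟩, hQR (Subgroup.mem_subgroupOf.mpr hq), rfl⟩

variable (F : FusionSystem S) {Q : Subgroup Ω}

theorem admF_mul {R : Subgroup ↥S} {φ : ↥S → ↥S} (h : AdmF F Q R φ) (s : ↥S) (hs : s ∈ R)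
    (s' : ↥S) (hs' : s' ∈ R) : φ (s * s') = φ s * φ s' := by
  obtain ⟨_, P, rfl, ψ, _, hψφ⟩ := h
  apply Subtype.ext
  rw [Subgroup.coe_mul, ← hψφ s hs (mem_map_subtype hs), ← hψφ s' hs' (mem_map_subtype hs'),
    ← hψφ (s * s') (R.mul_mem hs hs') (mem_map_subtype (R.mul_mem hs hs')), ← map_mul]
  rfl

theorem admF_act [Finite S] (hQn : F.IsNormal Q) {R : Subgroup ↥S} {φ : ↥S → ↥S}
    (h : AdmF F Q R φ) :
    ∃ a : F.autGroup Q, ∀ q : Qs S Q, φ q = ((actF F hQn.1 a q : Qs S Q) : ↥S) := by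
  obtain ⟨hQR, P, rfl, ψ, hψ, hψφ⟩ := h
  have hQP : Q ≤ R.map S.subtype := Q_le_map hQn.1 hQR
  have hχ := Fusion.restrict_mem F hψ hQP
  have hr : (ψ.comp (Subgroup.inclusion hQP)).range = Q :=
    eq_of_isConj_of_isNormal F hQn ⟨_, hχ, rfl⟩
  obtain ⟨α, hα, hαx⟩ := Fusion.exists_aut_of_range_eq F hχ hr
  refine ⟨⟨α, hα⟩, fun q => ?_⟩
  apply Subtype.ext
  rw [actF_apply]
  show ((φ q : ↥S) : Ω) = ((α ((eQ hQn.1).symm q) : Q) : Ω)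
  rw [hαx, ← hψφ q (hQR q.2) (mem_map_subtype (hQR q.2))]
  rfl

theorem admF_comp {R R' : Subgroup ↥S} {φ φ' : ↥S → ↥S} (h : AdmF F Q R φ) (h' : AdmF F Q R' φ')
    (hmap : ∀ s ∈ R, φ s ∈ R') : AdmF F Q R (φ' ∘ φ) := by
  obtain ⟨hQR, P, rfl, ψ, hψ, hψφ⟩ := h
  obtain ⟨_, P', rfl, ψ', hψ', hψφ'⟩ := h'
  have hval : ∀ x : ↥(R.map S.subtype), ψ x ∈ R'.map S.subtype := by
    rintro ⟨_, s, hs, rfl⟩
    have := hψφ s hs (mem_map_subtype hs)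
    have h2 : ψ ⟨S.subtype s, ⟨s, hs, rfl⟩⟩ = (φ s : Ω) := this
    rw [h2]
    exact mem_map_subtype (hmap s hs)
  refine ⟨hQR, _, rfl, _, F.comp_mem hψ hψ' hval, ?_⟩
  intro s hs hx
  rw [MonoidHom.comp_apply]
  have h1 := hψφ s hs hx
  have h2 := hψφ' (φ s) (hmap s hs) (mem_map_subtype (hmap s hs))
  rw [Function.comp_apply, ← h2]
  congr 1
  apply Subtype.ext
  exact h1

theorem admF_res {R R₀ : Subgroup ↥S} {φ : ↥S → ↥S} (h : AdmF F Q R φ) (hQ : Qs S Q ≤ R₀)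
    (hle : R₀ ≤ R) : AdmF F Q R₀ φ := by
  obtain ⟨_, P, rfl, ψ, hψ, hψφ⟩ := h
  have hle' : R₀.map S.subtype ≤ R.map S.subtype := Subgroup.map_mono hle
  refine ⟨hQ, _, rfl, _, Fusion.restrict_mem F hψ hle', ?_⟩
  intro s hs hx
  exact hψφ s (hle hs) (hle' hx)

theorem admF_conj (R : Subgroup ↥S) (x : ↥S) (hQ : Qs S Q ≤ R) :
    AdmF F Q R (fun s => x * s * x⁻¹) := by
  refine ⟨hQ, _, rfl, _, F.conj_mem (P := R.map S.subtype) (g := (x : Ω)) (map_subtype_le R) x.2, ?_⟩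
  intro s hs hx
  rfl

theorem admF_congr {R : Subgroup ↥S} {φ φ' : ↥S → ↥S} (h : AdmF F Q R φ)
    (heq : ∀ s ∈ R, φ s = φ' s) : AdmF F Q R φ' := by
  obtain ⟨hQR, P, rfl, ψ, hψ, hψφ⟩ := h
  refine ⟨hQR, _, rfl, ψ, hψ, ?_⟩
  intro s hs hx
  rw [hψφ s hs hx, heq s hs]

theorem admF_rigid [Finite S] (p : ℕ) [Fact p.Prime] (hS : IsPGroup p S) (hsat : F.IsSaturated p)
    (hQn : F.IsNormal Q) (hQc : F.IsCentric Q) {R : Subgroup ↥S} {φ φ' : ↥S → ↥S}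
    (h : AdmF F Q R φ) (h' : AdmF F Q R φ') (hag : ∀ q ∈ Qs S Q, φ q = φ' q) :
    ∃ z ∈ (piF F hQn).ker, ∀ s ∈ R, φ' s = φ (z * s * z⁻¹) := by
  obtain ⟨hQR, P, rfl, ψ, hψ, hψφ⟩ := h
  obtain ⟨_, P', hP', ψ', hψ', hψφ'⟩ := h'
  subst hP'
  have hQP : Q ≤ R.map S.subtype := Q_le_map hQn.1 hQR
  have hagree : ∀ x : ↥(R.map S.subtype), (x : Ω) ∈ Q → ψ x = ψ' x := by
    intro x hx
    have hxR := mem_of_mem_map_subtype x.2
    have h1 := hψφ ⟨x, map_subtype_le R x.2⟩ hxR x.2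
    have h2 := hψφ' ⟨x, map_subtype_le R x.2⟩ hxR x.2
    have h3 := hag ⟨x, map_subtype_le R x.2⟩ (Subgroup.mem_subgroupOf.mpr hx)
    have h4 : ψ x = ψ ⟨((⟨x, map_subtype_le R x.2⟩ : ↥S) : Ω), x.2⟩ := rfl
    have h5 : ψ' x = ψ' ⟨((⟨x, map_subtype_le R x.2⟩ : ↥S) : Ω), x.2⟩ := rfl
    rw [h4, h5, h1, h2, h3]
  obtain ⟨z, hzQ, hzC, hz⟩ := Fusion.eq_conj_of_agree_centric p hS F hsat (R.map S.subtype) _ Q hQP hQc
    ψ ψ' hψ hψ' hagree rfl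
  have hzS : (z : Ω) ∈ S := map_subtype_le R z.2
  have hzR : (⟨z, hzS⟩ : ↥S) ∈ R := mem_of_mem_map_subtype z.2
  refine ⟨⟨z, hzS⟩, ?_, ?_⟩
  · rw [MonoidHom.mem_ker]
    apply Subtype.ext
    ext x
    rw [piF_apply]
    simp only [OneMemClass.coe_one, MulAut.one_apply]
    have := (Subgroup.mem_centralizer_iff.mp hzC) x x.2
    rw [← this]; group
  · intro s hs
    apply Subtype.ext
    have hzs : (⟨z, hzS⟩ : ↥S) * s * (⟨z, hzS⟩ : ↥S)⁻¹ ∈ R :=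
      R.mul_mem (R.mul_mem hzR hs) (R.inv_mem hzR)
    rw [← hψφ' s hs (mem_map_subtype hs), ← hψφ _ hzs (mem_map_subtype hzs)]
    have := hz ⟨s, mem_map_subtype hs⟩
    rw [this]
    rfl

end Cfsg.Agent.Lead.Model
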