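import Mathlib
import Cfsg.Prelude.Def_FusionSystem
import Cfsg.Agent.Lead.ModelI

set_option autoImplicit false

/-!
# Model theorem, part J: the chosen extensions and the datum of a constrained fusion system
-/

namespace Cfsg.Agent.Lead.Model

universe u

open Cfsg Cfsg.FusionSystem

variable {Ω : Type u} [Group Ω] {S : Subgroup Ω}

variable (F : FusionSystem S) {Q : Subgroup Ω}

theorem Qs_le_N (hQn : F.IsNormal Q) (hQc : F.IsCentric Q) (a : F.autGroup Q) :
    Qs S Q ≤ (setupF F hQn hQc).N a := by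
  intro q hq
  rw [Setup.mem_N]
  have hqQ : (q : Ω) ∈ Q := Subgroup.mem_subgroupOf.mp hq
  refine ⟨⟨((a : MulAut Q) ⟨q, hqQ⟩ : Q), hQn.1 ((a : MulAut Q) ⟨q, hqQ⟩).2⟩, ?_⟩
  apply Subtype.ext
  ext x
  have hy : ((piF F hQn q : F.autGroup Q) : MulAut Q) ((a : MulAut Q)⁻¹ x) =
      ⟨q, hqQ⟩ * ((a : MulAut Q)⁻¹ x) * (⟨q, hqQ⟩ : Q)⁻¹ := Subtype.ext (by rw [piF_apply]; rfl)
  show (((piF F hQn _ : F.autGroup Q) : MulAut Q) x : Ω) =
    (((a : MulAut Q) (((piF F hQn q : F.autGroup Q) : MulAut Q) ((a : MulAut Q)⁻¹ x)) : Q) : Ω)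
  rw [hy, map_mul, map_mul, map_inv, MulAut.apply_inv_self, piF_apply]
  rfl

/-- Every element of `Aut_F(Q)` extends to an admissible map on `N_a`. -/
theorem exists_θ [Finite S] (p : ℕ) (hsat : F.IsSaturated p) (hQn : F.IsNormal Q)
    (hQc : F.IsCentric Q) (a : F.autGroup Q) :
    ∃ θa : ↥S → ↥S, AdmF F Q ((setupF F hQn hQc).N a) θa ∧
      ∀ q : Qs S Q, θa q = ((actF F hQn.1 a q : Qs S Q) : ↥S) := by
  classical
  have hQS := hQn.1
  have hrec := isReceptive_of_isNormal p F hsat hQn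
  have hφ := (Fusion.mem_autGroup_iff F hQS (a : MulAut Q)).mp a.2
  set φ : Q →* Ω := Q.subtype.comp (a : MulAut Q).toMonoidHom with hφdef
  have hφx : ∀ x : Q, φ x = (((a : MulAut Q) x : Q) : Ω) := fun _ => rfl
  have hr : φ.range = Q := by
    ext y
    constructor
    · rintro ⟨x, rfl⟩
      exact ((a : MulAut Q) x).2
    · intro hy
      refine ⟨(a : MulAut Q).symm ⟨y, hy⟩, ?_⟩
      rw [hφx]
      simp
  obtain ⟨ψ₀, hψ₀, hext⟩ := hrec.2 Q φ hφ hr
  set D := setupF F hQn hQc with hD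
  have hle : (D.N a).map S.subtype ≤ extender S Q φ := by
    rintro _ ⟨s, hs, rfl⟩
    apply Subgroup.subset_closure
    refine ⟨s.2, le_normalizer_of_isNormal F hQn s.2, ?_⟩
    obtain ⟨s', hs'⟩ := D.mem_N.mp hs
    refine ⟨s', s'.2, fun x hx => ?_⟩
    rw [hφx, hφx]
    have h1 : D.π s' * a = a * D.π s := by rw [hs']; group
    have h2 := congrArg (fun b : F.autGroup Q => (((b : MulAut Q) x : Q) : Ω)) h1
    simp only [hD, setupF_π, Subgroup.coe_mul, MulAut.mul_apply] at h2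
    rw [piF_apply] at h2
    rw [h2]
    congr 2
  have hψ := Fusion.restrict_mem F hψ₀ hle
  set ψ : ↥((D.N a).map S.subtype) →* Ω := ψ₀.comp (Subgroup.inclusion hle) with hψdef
  refine ⟨fun s => if h : s ∈ D.N a then ⟨ψ ⟨s, mem_map_subtype h⟩, Fusion.map_mem F hψ _⟩ else 1,
    ⟨Qs_le_N F hQn hQc a, _, rfl, ψ, hψ, ?_⟩, ?_⟩
  · intro s hs hx
    simp only [dif_pos hs]
  · intro q
    have hq : (q : ↥S) ∈ D.N a := Qs_le_N F hQn hQc a q.2
    simp only [dif_pos hq]
    apply Subtype.ext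
    rw [actF_apply]
    have hqQ : ((q : ↥S) : Ω) ∈ Q := Subgroup.mem_subgroupOf.mp q.2
    have := hext ((q : ↥S) : Ω) hqQ (hle (mem_map_subtype hq))
    show ψ₀ _ = _
    rw [hφx] at this
    exact this

/-- The chosen extension of `a`. -/
noncomputable def thetaF [Finite S] (p : ℕ) (hsat : F.IsSaturated p) (hQn : F.IsNormal Q)
    (hQc : F.IsCentric Q) (a : F.autGroup Q) : ↥S → ↥S :=
  Classical.choose (exists_θ F p hsat hQn hQc a)

/-- The datum attached to a constrained saturated fusion system. -/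
noncomputable def datumF [Finite S] (p : ℕ) [Fact p.Prime] (hS : IsPGroup p S)
    (hsat : F.IsSaturated p) (hQn : F.IsNormal Q) (hQc : F.IsCentric Q) :
    Datum (setupF F hQn hQc) where
  Adm := AdmF F Q
  θ := thetaF F p hsat hQn hQc
  adm_le h := h.1
  adm_mul h := admF_mul F h
  adm_act h := admF_act F hQn h
  adm_comp h h' hmap := admF_comp F h h' hmap
  adm_res h hQ hle := admF_res F h hQ hle
  adm_conj R x hQ := admF_conj F R x hQ
  adm_congr h heq := admF_congr F h heq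
  adm_rigid h h' hag := admF_rigid F p hS hsat hQn hQc h h' hag
  adm_θ a := (Classical.choose_spec (exists_θ F p hsat hQn hQc a)).1
  θ_act a := (Classical.choose_spec (exists_θ F p hsat hQn hQc a)).2

end Cfsg.Agent.Lead.Model
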