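import Mathlib
import Cfsg.Prelude.Def_FusionSystem
import Cfsg.Agent.Lead.ModelJ

set_option autoImplicit false

/-!
# Model theorem: existence of a model of a constrained saturated fusion system
-/

namespace Cfsg.Agent.Lead.Model

universe u

open Cfsg Cfsg.FusionSystem

variable {Ω : Type u} [Group Ω] {S : Subgroup Ω}

/-- Model theorem, existence, together with the realizing data. -/
theorem exists_isModel [Finite S] (p : ℕ) [Fact p.Prime] (hS : IsPGroup p S) (F : FusionSystem S)
    (hF : F.IsConstrained p) :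
    ∃ (G : Type u) (_ : Group G) (ι : S →* G), F.IsModel p G ι := by
  classical
  obtain ⟨hsat, Q, hQn, hQc⟩ := hF
  have hQS : Q ≤ S := hQn.1
  haveI : Finite Q := Fusion.finite_of_le hQS
  haveI : Finite (MulAut Q) := inferInstance
  haveI : Finite ↥(F.autGroup Q) := inferInstance
  set D := setupF F hQn hQc with hD
  set E := datumF F p hS hsat hQn hQc with hE
  have hidx : ¬ p ∣ D.π.range.index := not_dvd_index_piF p F hsat hQn
  obtain ⟨G, instG, hfin, ι, hinj, hSyl, hnorm, hcent, hadm⟩ := exists_model D E p hS hidx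
  have hDQ : D.Q = Qs S Q := rfl
  have hAdm : ∀ R φ, E.Adm R φ ↔ AdmF F Q R φ := fun _ _ => Iff.rfl
  refine ⟨G, instG, ι, hfin, ⟨hinj, ?_⟩, hSyl, ?_⟩
  · intro P hP φ hφ
    have hPQS : P ⊔ Q ≤ S := sup_le hP hQS
    set R : Subgroup ↥S := (P ⊔ Q).subgroupOf S with hR
    have hRmap : P ⊔ Q = R.map S.subtype := (Subgroup.map_subgroupOf_eq_of_le hPQS).symm
    have hQR : D.Q ≤ R := by
      intro q hq
      rw [hDQ, Subgroup.mem_subgroupOf] at hq
      rw [hR, Subgroup.mem_subgroupOf]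
      exact (le_sup_right : Q ≤ P ⊔ Q) hq
    have hPR : ∀ x : P, (⟨x, hP x.2⟩ : ↥S) ∈ R := by
      intro x
      rw [hR, Subgroup.mem_subgroupOf]
      exact (le_sup_left : P ≤ P ⊔ Q) x.2
    constructor
    · intro hφF
      obtain ⟨ψ, hψ, hψP, -⟩ := hQn.2 P φ hφF
      have hadm1 : AdmF F Q R (fun s => if h : (s : Ω) ∈ P ⊔ Q then
          ⟨ψ ⟨s, h⟩, Fusion.map_mem F hψ _⟩ else 1) := by
        refine ⟨hQR, P ⊔ Q, hRmap, ψ, hψ, ?_⟩
        intro s hs hx
        simp only [dif_pos hx]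
      obtain ⟨g, hg⟩ := (hadm R hQR _).mp ((hAdm _ _).mpr hadm1)
      refine ⟨g, fun x => ?_⟩
      have h1 := hg ⟨x, hP x.2⟩ (hPR x)
      have hx : ((⟨x, hP x.2⟩ : ↥S) : Ω) ∈ P ⊔ Q := (le_sup_left : P ≤ P ⊔ Q) x.2
      simp only [dif_pos hx] at h1
      rw [← h1]
      congr 1
      apply Subtype.ext
      exact (hψP x).symm
    · rintro ⟨g, hg⟩
      -- the subgroup of `S` conjugated into the image of `S` by `g`
      set M : Subgroup ↥S := ι.range.comap ((MulAut.conj g).toMonoidHom.comp ι) with hM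
      have hmemM : ∀ s : ↥S, s ∈ M ↔ g * ι s * g⁻¹ ∈ ι.range := fun s => Iff.rfl
      have hPM : P.subgroupOf S ≤ M := by
        intro s hs
        rw [Subgroup.mem_subgroupOf] at hs
        rw [hmemM]
        exact ⟨⟨φ ⟨s, hs⟩, hφ _⟩, hg ⟨s, hs⟩⟩
      have hQM : Q.subgroupOf S ≤ M := by
        intro s hs
        rw [hmemM]
        have h1 : ι s ∈ D.Q.map ι := ⟨s, hs, rfl⟩
        have h2 := hnorm.conj_mem _ h1 g
        obtain ⟨s', -, hs'⟩ := h2
        exact ⟨s', hs'⟩
      have hRM : R ≤ M := by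
        rw [hR, Subgroup.subgroupOf_sup hP hQS]
        exact sup_le hPM hQM
      have hex : ∀ s : ↥S, s ∈ R → ∃ s' : ↥S, ι s' = g * ι s * g⁻¹ := fun s hs => hRM hs
      have hadm1 : E.Adm R (fun s => if h : s ∈ R then Classical.choose (hex s h) else 1) := by
        rw [hadm R hQR]
        refine ⟨g, fun s hs => ?_⟩
        simp only [dif_pos hs]
        exact Classical.choose_spec (hex s hs)
      obtain ⟨-, P₀, hP₀, ψ, hψ, hψφ⟩ := (hAdm _ _).mp hadm1
      subst hP₀
      have hle : P ≤ R.map S.subtype := by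
        rw [← hRmap]; exact le_sup_left
      have hres := Fusion.restrict_mem F hψ hle
      have heq : φ = ψ.comp (Subgroup.inclusion hle) := by
        ext x
        have hxR := hPR x
        have h1 := hψφ ⟨x, hP x.2⟩ hxR (hle x.2)
        simp only [dif_pos hxR] at h1
        have h2 := Classical.choose_spec (hex ⟨x, hP x.2⟩ hxR)
        have h3 := hinj (h2.trans (hg x).symm)
        rw [MonoidHom.comp_apply]
        have h4 : ψ (Subgroup.inclusion hle x) = ψ ⟨((⟨x, hP x.2⟩ : ↥S) : Ω), hle x.2⟩ := rfl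
        rw [h4, h1, h3]
      rw [heq]
      exact hres
  · have hp : IsPGroup p (D.Q.map ι) := (hS.to_subgroup D.Q).map ι
    have hle : D.Q.map ι ≤ pCore p G := le_sSup ⟨hnorm, hp⟩
    exact (Subgroup.centralizer_le hle).trans (hcent.trans hle)

end Cfsg.Agent.Lead.Model
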