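import Mathlib
import Cfsg.Agent.Lead.ModelG

set_option autoImplicit false

/-!
# Model theorem, part L: comparison of an arbitrary model with the constructed one
-/

namespace Cfsg.Agent.Lead.Model

universe u v

variable {T A : Type u} [Group T] [Group A] {D : Setup T A}

/-- The hypotheses on a second group realizing the same admissible maps. -/
structure Cmp (E : Datum D) {G' : Type v} [Group G'] (ι' : T →* G') : Prop where
  inj : Function.Injective ι'
  normal : (D.Q.map ι').Normal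
  cent : Subgroup.centralizer ((D.Q.map ι' : Subgroup G') : Set G') ≤ D.Q.map ι'
  real : ∀ (R : Subgroup T), D.Q ≤ R → ∀ φ : T → T,
    (E.Adm R φ ↔ ∃ g : G', ∀ s ∈ R, ι' (φ s) = g * ι' s * g⁻¹)

namespace Cmp

variable {E : Datum D} {G' : Type v} [Group G'] {ι' : T →* G'} (hc : Cmp E ι')

/-- Conjugation by `g` on the image of `Q`, transported to `Q`. -/
noncomputable def cQ (hc : Cmp E ι') : G' →* MulAut D.Q :=
  haveI := hc.normal
  (MulAut.congr (Subgroup.equivMapOfInjective D.Q ι' hc.inj).symm).toMonoidHom.comp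
    (MulAut.conjNormal (H := D.Q.map ι'))

theorem cQ_spec (g : G') (q : D.Q) : ι' ((hc.cQ g q : D.Q) : T) = g * ι' q * g⁻¹ := by
  haveI := hc.normal
  set e := Subgroup.equivMapOfInjective D.Q ι' hc.inj with he
  have h1 : hc.cQ g q = e.symm (MulAut.conjNormal g (e q)) := rfl
  rw [h1]
  have h2 : ι' ((e.symm (MulAut.conjNormal g (e q)) : D.Q) : T) =
      ((e (e.symm (MulAut.conjNormal g (e q))) : D.Q.map ι') : G') :=
    (Subgroup.coe_equivMapOfInjective_apply D.Q ι' hc.inj _).symm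
  rw [h2, MulEquiv.apply_symm_apply, MulAut.conjNormal_apply,
    Subgroup.coe_equivMapOfInjective_apply]

theorem cQ_mem_range (g : G') : hc.cQ g ∈ D.act.range := by
  classical
  have hadm : E.Adm D.Q (fun s => if h : s ∈ D.Q then ((hc.cQ g ⟨s, h⟩ : D.Q) : T) else 1) := by
    rw [hc.real D.Q le_rfl]
    refine ⟨g, fun s hs => ?_⟩
    simp only [dif_pos hs]
    exact hc.cQ_spec g ⟨s, hs⟩
  obtain ⟨a, ha⟩ := E.adm_act hadm
  refine ⟨a, ?_⟩
  ext q
  have := ha q
  simp only [dif_pos q.2] at this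
  exact this.symm

/-- The projection of the second group to `A`. -/
noncomputable def rho' (hc : Cmp E ι') : G' →* A :=
  (MonoidHom.ofInjective D.act_inj).symm.toMonoidHom.comp
    (hc.cQ.codRestrict D.act.range hc.cQ_mem_range)

theorem act_rho' (g : G') : D.act (hc.rho' g) = hc.cQ g := by
  have h1 := (MonoidHom.ofInjective D.act_inj).apply_symm_apply
    (hc.cQ.codRestrict D.act.range hc.cQ_mem_range g)
  have h2 := congrArg (fun z : D.act.range => (z : MulAut D.Q)) h1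
  simp only [MonoidHom.ofInjective_apply] at h2
  exact h2

theorem rho'_spec (g : G') (q : D.Q) :
    ι' ((D.act (hc.rho' g) q : D.Q) : T) = g * ι' q * g⁻¹ := by
  rw [hc.act_rho']
  exact hc.cQ_spec g q

theorem rho'_ι' (s : T) : hc.rho' (ι' s) = D.π s := by
  apply D.act_inj
  ext q
  apply hc.inj
  rw [hc.rho'_spec, D.hπ, map_mul, map_mul, map_inv]

theorem exists_of_rho'_eq_one {g : G'} (hg : hc.rho' g = 1) : ∃ z : T, D.π z = 1 ∧ ι' z = g := by
  have h1 : g ∈ Subgroup.centralizer ((D.Q.map ι' : Subgroup G') : Set G') := by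
    rw [Subgroup.mem_centralizer_iff]
    rintro _ ⟨q, hq, rfl⟩
    have h2 := hc.rho'_spec g ⟨q, hq⟩
    rw [hg, map_one, MulAut.one_apply] at h2
    simp only at h2
    have h3 : g * ι' q * g⁻¹ = ι' q := h2.symm
    calc ι' q * g = (g * ι' q * g⁻¹) * g := by rw [h3]
      _ = g * ι' q := by group
  obtain ⟨z, -, hz⟩ := hc.cent h1
  refine ⟨z, ?_, hz⟩
  rw [← hc.rho'_ι', hz, hg]

theorem mem_range_of_rho' {g : G'} (hg : hc.rho' g ∈ D.π.range) : g ∈ ι'.range := by
  obtain ⟨s, hs⟩ := hg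
  have h1 : hc.rho' (g * (ι' s)⁻¹) = 1 := by
    rw [map_mul, map_inv, hc.rho'_ι', hs, mul_inv_cancel]
  obtain ⟨z, -, hz⟩ := hc.exists_of_rho'_eq_one h1
  refine ⟨z * s, ?_⟩
  rw [map_mul, hz]
  group

theorem exists_vv (hc : Cmp E ι') (b : A) : ∃ v : G', ∀ s ∈ D.N b, ι' (E.θ b s) = v * ι' s * v⁻¹ :=
  (hc.real (D.N b) (E.Q_le_N b) (E.θ b)).mp (E.adm_θ b)

/-- An element of the second group realizing `θ b`. -/
noncomputable def vv (hc : Cmp E ι') (b : A) : G' := Classical.choose (hc.exists_vv b)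

theorem vv_spec (b : A) {s : T} (hs : s ∈ D.N b) :
    ι' (E.θ b s) = hc.vv b * ι' s * (hc.vv b)⁻¹ :=
  Classical.choose_spec (hc.exists_vv b) s hs

theorem rho'_vv (b : A) : hc.rho' (hc.vv b) = b := by
  apply D.act_inj
  ext q
  apply hc.inj
  rw [hc.rho'_spec, ← hc.vv_spec b (E.Q_le_N b q.2), E.θ_act]

/-- The lifts of the structured coset representatives. -/
noncomputable def that (hc : Cmp E ι') (i : D.I) : G' := ι' (D.x i) * (hc.vv (D.u i)⁻¹)⁻¹

theorem rho'_that (i : D.I) : hc.rho' (hc.that i) = D.t i := by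
  unfold that Setup.t
  rw [map_mul, map_inv, hc.rho'_ι', hc.rho'_vv, inv_inv]

theorem exists_fΦ (g : G') (i : D.I) :
    ∃ s : T, ι' s = (hc.that (hc.rho' g • i))⁻¹ * g * hc.that i := by
  apply hc.mem_range_of_rho'
  rw [map_mul, map_mul, map_inv, hc.rho'_that, hc.rho'_that]
  exact D.smul_mk_t (hc.rho' g) i

/-- The components of the comparison map. -/
noncomputable def fΦ (hc : Cmp E ι') (g : G') (i : D.I) : T := Classical.choose (hc.exists_fΦ g i)

theorem fΦ_spec (g : G') (i : D.I) :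
    ι' (hc.fΦ g i) = (hc.that (hc.rho' g • i))⁻¹ * g * hc.that i :=
  Classical.choose_spec (hc.exists_fΦ g i)

/-- The comparison map into the wreath product. -/
noncomputable def Φ (hc : Cmp E ι') : G' →* Wr D.I T A where
  toFun g := ⟨hc.fΦ g, hc.rho' g⟩
  map_one' := by
    apply Wr.ext
    · funext i
      apply hc.inj
      rw [hc.fΦ_spec]
      simp only [map_one, one_smul, Wr.one_f]
      group
    · exact map_one _
  map_mul' g h := by
    apply Wr.ext
    · funext i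
      apply hc.inj
      simp only [Wr.mul_f]
      rw [map_mul, hc.fΦ_spec, hc.fΦ_spec, hc.fΦ_spec, map_mul, mul_smul]
      group
    · exact map_mul _ _ _

@[simp] theorem Φ_f (g : G') (i : D.I) : (hc.Φ g).f i = hc.fΦ g i := rfl
@[simp] theorem Φ_a (g : G') : (hc.Φ g).a = hc.rho' g := rfl

theorem Φ_mem (g : G') : hc.Φ g ∈ Datum.Ghat D := by
  intro i
  rw [Φ_f, Φ_a, ← hc.rho'_ι', hc.fΦ_spec, map_mul, map_mul, map_inv, hc.rho'_that, hc.rho'_that]

theorem Φ_ι' (s : T) : hc.Φ (ι' s) = E.j s := by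
  apply Wr.ext
  · funext i
    apply hc.inj
    rw [Φ_f, hc.fΦ_spec, hc.rho'_ι', Datum.j_f]
    unfold that Datum.fS
    rw [D.u_smul, hc.vv_spec _ (D.base_mem s i), map_mul, map_mul, map_inv]
    group
  · exact hc.rho'_ι' s

variable [Finite T] [Finite A] (p : ℕ) [Fact p.Prime]

/-- The comparison map into the model group. -/
noncomputable def Ψ₀ (hc : Cmp E ι') : G' →* D.Gm :=
  (QuotientGroup.mk' _).comp (hc.Φ.codRestrict (Datum.Ghat D) hc.Φ_mem)

theorem Ψ₀_apply (g : G') :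
    hc.Ψ₀ g = QuotientGroup.mk (⟨hc.Φ g, hc.Φ_mem g⟩ : ↥(Datum.Ghat D)) := rfl

theorem Ψ₀_ι' (s : T) : hc.Ψ₀ (ι' s) = E.ι s := by
  rw [Ψ₀_apply, Datum.ι_apply]
  congr 1
  apply Subtype.ext
  exact hc.Φ_ι' s

theorem rhoBar_Ψ₀ (g : G') : Datum.rhoBar D (hc.Ψ₀ g) = hc.rho' g := rfl

theorem Ψ₀_injective (hT : IsPGroup p T) (hidx : ¬ p ∣ D.π.range.index) :
    Function.Injective hc.Ψ₀ := by
  rw [injective_iff_map_eq_one]
  intro g hg
  have h1 : hc.rho' g = 1 := by
    rw [← hc.rhoBar_Ψ₀, hg, map_one]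
  obtain ⟨z, -, hz⟩ := hc.exists_of_rho'_eq_one h1
  rw [← hz, hc.Ψ₀_ι'] at hg
  have h2 : z = 1 := E.ι_injective p hT hidx (hg.trans (map_one _).symm)
  rw [← hz, h2, map_one]

theorem Ψ₀_surjective (hT : IsPGroup p T) (hidx : ¬ p ∣ D.π.range.index) :
    Function.Surjective hc.Ψ₀ := by
  intro y
  set a : A := Datum.rhoBar D y with ha
  have h1 : Datum.rhoBar D ((hc.Ψ₀ (hc.vv a))⁻¹ * y) = 1 := by
    rw [map_mul, map_inv, hc.rhoBar_Ψ₀, hc.rho'_vv, inv_mul_cancel]
  obtain ⟨z, -, hz⟩ := E.exists_of_rhoBar_eq_one p hT hidx h1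
  refine ⟨hc.vv a * ι' z, ?_⟩
  rw [map_mul, hc.Ψ₀_ι', hz]
  group

/-- The comparison isomorphism. -/
theorem exists_equiv (hc : Cmp E ι') (hT : IsPGroup p T) (hidx : ¬ p ∣ D.π.range.index) :
    ∃ Ψ : G' ≃* D.Gm, ∀ s : T, Ψ (ι' s) = E.ι s :=
  ⟨MulEquiv.ofBijective hc.Ψ₀ ⟨hc.Ψ₀_injective p hT hidx, hc.Ψ₀_surjective p hT hidx⟩,
    fun s => hc.Ψ₀_ι' s⟩

end Cmp

end Cfsg.Agent.Lead.Model
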