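import Mathlib
import Cfsg.Prelude.Def_FusionSystem
import Cfsg.Agent.Lead.ModelK
import Cfsg.Agent.Lead.ModelL
import Cfsg.Agent.Lead.FusionModel
import Cfsg.Agent.Lead.FusionNormModel
import Cfsg.Agent.Lead.FusionNormal

set_option autoImplicit false

/-!
# Model theorem: uniqueness
-/

namespace Cfsg.Agent.Lead.Model

universe u v w

open Cfsg Cfsg.FusionSystem

variable {Ω : Type u} [Group Ω] {S : Subgroup Ω}

/-- In a model, the preimage of `O_p(G)` is normal in the system. -/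
theorem isNormal_preimage_pCore [Finite S] (p : ℕ) [Fact p.Prime] (F : FusionSystem S)
    {G : Type v} [Group G] (ι : S →* G) (hG : F.IsModel p G ι) :
    F.IsNormal (((pCore p G).comap ι).map S.subtype) := by
  obtain ⟨hfin, hι, ⟨T, hT⟩, hcent⟩ := hG
  haveI := hfin
  obtain ⟨hinj, hreal⟩ := hι
  have hOn : (pCore p G).Normal := Cfsg.Agent.Helper4.pCore_normal
  have hOT : pCore p G ≤ T := Cfsg.Agent.Helper4.pCore_le_sylow T
  set β := Fusion.invOfRange ι hinj hT with hβ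
  have hιβ : ∀ t : (T : Subgroup G), ι (β t) = t := Fusion.map_invOfRange ι hinj hT
  have hιT : ∀ s : S, ι s ∈ (T : Subgroup G) := fun s => hT ▸ ⟨s, rfl⟩
  set Q : Subgroup Ω := ((pCore p G).comap ι).map S.subtype with hQ
  have hQS : Q ≤ S := by rintro _ ⟨s, -, rfl⟩; exact s.2
  have hmemQ : ∀ (x : Ω) (hx : x ∈ S), x ∈ Q ↔ ι ⟨x, hx⟩ ∈ pCore p G := by
    intro x hx
    constructor
    · rintro ⟨s, hs, hsx⟩
      have : s = ⟨x, hx⟩ := Subtype.ext hsx
      rw [← this]; exact hs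
    · intro h; exact ⟨⟨x, hx⟩, h, rfl⟩
  refine ⟨hQS, fun P φ hφ => ?_⟩
  have hPS := Fusion.src_le F hφ
  have hφS := fun x => Fusion.map_mem F hφ x
  obtain ⟨g, hg⟩ := (hreal P hPS φ hφS).mp hφ
  have hPQS : P ⊔ Q ≤ S := sup_le hPS hQS
  set M : Subgroup Ω :=
    ((T : Subgroup G).comap ((MulAut.conj g).toMonoidHom.comp ι)).map S.subtype with hM
  have hPM : P ≤ M := by
    intro x hx
    refine ⟨⟨x, hPS hx⟩, ?_, rfl⟩
    show g * ι ⟨x, _⟩ * g⁻¹ ∈ (T : Subgroup G)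
    rw [← hg ⟨x, hx⟩]; exact hιT _
  have hQM : Q ≤ M := by
    rintro _ ⟨s, hs, rfl⟩
    refine ⟨s, ?_, rfl⟩
    show g * ι s * g⁻¹ ∈ (T : Subgroup G)
    exact hOT (hOn.conj_mem _ hs g)
  have hPQM : P ⊔ Q ≤ M := sup_le hPM hQM
  have hconjT : ∀ y : ↥(P ⊔ Q),
      ((MulAut.conj g).toMonoidHom.comp (ι.comp (Subgroup.inclusion hPQS))) y ∈
        (T : Subgroup G) := by
    intro y
    obtain ⟨s, hs, hsy⟩ := hPQM y.2
    have : s = ⟨y.1, hPQS y.2⟩ := Subtype.ext hsy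
    rw [this] at hs
    exact hs
  set ψ : ↥(P ⊔ Q) →* Ω := S.subtype.comp (β.toMonoidHom.comp
    (((MulAut.conj g).toMonoidHom.comp (ι.comp (Subgroup.inclusion hPQS))).codRestrict
      (T : Subgroup G) hconjT)) with hψ
  have hψS : ∀ y, ψ y ∈ S := fun y => (β _).2
  have hιψ : ∀ y : ↥(P ⊔ Q), ι ⟨ψ y, hψS y⟩ = g * ι ⟨y.1, hPQS y.2⟩ * g⁻¹ := by
    intro y
    have : (⟨ψ y, hψS y⟩ : S) = β ⟨_, hconjT y⟩ := rfl
    rw [this, hιβ]
    rfl
  refine ⟨ψ, (hreal _ hPQS ψ hψS).mpr ⟨g, hιψ⟩, fun x => ?_, ?_⟩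
  · have h1 : (⟨ψ (Subgroup.inclusion le_sup_left x), hψS _⟩ : S) = ⟨φ x, hφS x⟩ := by
      apply hinj
      rw [hιψ, hg]; rfl
    exact congrArg Subtype.val h1
  · ext q
    constructor
    · rintro ⟨y, hy, rfl⟩
      rw [SetLike.mem_coe, Subgroup.mem_subgroupOf] at hy
      rw [hmemQ _ (hψS y), hιψ]
      exact hOn.conj_mem _ ((hmemQ y.1 (hPQS y.2)).mp hy) g
    · intro hq
      have hqS := hQS hq
      have hqO := (hmemQ q hqS).mp hq
      have h1 : g⁻¹ * ι ⟨q, hqS⟩ * g ∈ pCore p G := by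
        simpa using hOn.conj_mem _ hqO g⁻¹
      set y₀ : S := β ⟨g⁻¹ * ι ⟨q, hqS⟩ * g, hOT h1⟩ with hy₀def
      have hy₀ : ι y₀ = g⁻¹ * ι ⟨q, hqS⟩ * g := hιβ _
      have hy₀Q : (y₀ : Ω) ∈ Q := (hmemQ y₀.1 y₀.2).mpr (by
        show ι y₀ ∈ pCore p G
        rw [hy₀]; exact h1)
      refine ⟨⟨y₀.1, (le_sup_right : Q ≤ P ⊔ Q) hy₀Q⟩, ?_, ?_⟩
      · rw [SetLike.mem_coe, Subgroup.mem_subgroupOf]; exact hy₀Q
      · have h2 : (⟨ψ ⟨y₀.1, (le_sup_right : Q ≤ P ⊔ Q) hy₀Q⟩, hψS _⟩ : S) = ⟨q, hqS⟩ := by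
          apply hinj
          rw [hιψ]
          show g * ι y₀ * g⁻¹ = ι ⟨q, hqS⟩
          rw [hy₀]; group
        exact congrArg Subtype.val h2

/-- In a model, the image of `O_p(F)` is `O_p(G)`. -/
theorem map_core_eq_pCore [Finite S] (p : ℕ) [Fact p.Prime] (hS : IsPGroup p S) (F : FusionSystem S)
    {G : Type v} [Group G] (ι : S →* G) (hG : F.IsModel p G ι) :
    (Qs S F.core).map ι = pCore p G := by
  have hcn := Fusion.core_isNormal F
  apply le_antisymm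
  · have hn := Fusion.map_normal_of_isNormal_of_isModel p F ι hG hcn
    have hp : IsPGroup p ((Qs S F.core).map ι) := (hS.to_subgroup _).map ι
    exact le_sSup ⟨hn, hp⟩
  · have h1 := isNormal_preimage_pCore p F ι hG
    have h2 : ((pCore p G).comap ι).map S.subtype ≤ F.core := le_sSup h1
    obtain ⟨hfin, hι, ⟨T, hT⟩, hcent⟩ := hG
    haveI := hfin
    intro x hx
    have hxT : x ∈ ι.range := hT ▸ Cfsg.Agent.Helper4.pCore_le_sylow T hx
    obtain ⟨s, rfl⟩ := hxT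
    refine ⟨s, ?_, rfl⟩
    rw [SetLike.mem_coe, Subgroup.mem_subgroupOf]
    exact h2 ⟨s, hx, rfl⟩

/-- A model satisfies the comparison hypotheses for `Q = O_p(F)`. -/
theorem cmp_of_isModel [Finite S] (p : ℕ) [Fact p.Prime] (hS : IsPGroup p S) (F : FusionSystem S)
    (hsat : F.IsSaturated p) (hQc : F.IsCentric F.core)
    {G : Type v} [Group G] (ι : S →* G) (hG : F.IsModel p G ι) :
    Cmp (datumF F p hS hsat (Fusion.core_isNormal F) hQc) ι := by
  have hmap := map_core_eq_pCore p hS F ι hG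
  have hnorm := Fusion.map_normal_of_isNormal_of_isModel p F ι hG (Fusion.core_isNormal F)
  obtain ⟨hfin, ⟨hinj, hreal⟩, ⟨T, hT⟩, hcent⟩ := hG
  refine ⟨hinj, hnorm, ?_, ?_⟩
  · show Subgroup.centralizer (((Qs S F.core).map ι : Subgroup G) : Set G) ≤ (Qs S F.core).map ι
    rw [hmap]
    exact hcent
  · intro R hQR φ
    show AdmF F F.core R φ ↔ _
    constructor
    · rintro ⟨-, P, rfl, ψ, hψ, hψφ⟩
      have hPS : R.map S.subtype ≤ S := map_subtype_le R
      obtain ⟨g, hg⟩ := (hreal _ hPS ψ (fun x => Fusion.map_mem F hψ x)).mp hψ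
      refine ⟨g, fun s hs => ?_⟩
      have h1 := hg ⟨s, mem_map_subtype hs⟩
      have h2 := hψφ s hs (mem_map_subtype hs)
      rw [← h1]
      congr 1
      apply Subtype.ext
      exact h2.symm
    · rintro ⟨g, hg⟩
      have hPS : R.map S.subtype ≤ S := map_subtype_le R
      -- `φ` is multiplicative on `R`
      have hmul : ∀ s ∈ R, ∀ s' ∈ R, φ (s * s') = φ s * φ s' := by
        intro s hs s' hs'
        apply hinj
        rw [hg _ (R.mul_mem hs hs'), map_mul, map_mul, hg s hs, hg s' hs']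
        group
      have hone : φ 1 = 1 := by
        have := hmul 1 R.one_mem 1 R.one_mem
        rw [mul_one] at this
        exact left_eq_mul.mp this
      set ψ : ↥(R.map S.subtype) →* Ω :=
        { toFun := fun x => (φ ⟨x, hPS x.2⟩ : Ω)
          map_one' := by
            show ((φ 1 : ↥S) : Ω) = 1
            rw [hone]; rfl
          map_mul' := by
            intro x y
            have := hmul ⟨x, hPS x.2⟩ (mem_of_mem_map_subtype x.2) ⟨y, hPS y.2⟩
              (mem_of_mem_map_subtype y.2)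
            exact congrArg Subtype.val this } with hψdef
      have hψS : ∀ x, ψ x ∈ S := fun x => (φ ⟨x, hPS x.2⟩).2
      have hψ : ψ ∈ F.Hom (R.map S.subtype) := by
        rw [hreal _ hPS ψ hψS]
        refine ⟨g, fun x => ?_⟩
        exact hg ⟨x, hPS x.2⟩ (mem_of_mem_map_subtype x.2)
      exact ⟨hQR, _, rfl, ψ, hψ, fun s hs hx => rfl⟩

/-- Model theorem, uniqueness. -/
theorem model_unique [Finite S] (p : ℕ) [Fact p.Prime] (hS : IsPGroup p S) (F : FusionSystem S)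
    (hF : F.IsConstrained p) {G₁ : Type v} {G₂ : Type w} [Group G₁] [Group G₂] (ι₁ : S →* G₁)
    (ι₂ : S →* G₂) (h₁ : F.IsModel p G₁ ι₁) (h₂ : F.IsModel p G₂ ι₂) :
    ∃ φ : G₁ ≃* G₂, ∀ x : S, φ (ι₁ x) = ι₂ x := by
  obtain ⟨hsat, Q, hQn, hQc⟩ := hF
  have hcn := Fusion.core_isNormal F
  have hcc : F.IsCentric F.core := Fusion.isCentric_of_le F (le_sSup hQn) hcn.1 hQc
  haveI : Finite F.core := Fusion.finite_of_le hcn.1
  haveI : Finite (MulAut F.core) := inferInstance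
  haveI : Finite ↥(F.autGroup F.core) := inferInstance
  have hidx := not_dvd_index_piF p F hsat hcn
  have c₁ := cmp_of_isModel p hS F hsat hcc ι₁ h₁
  have c₂ := cmp_of_isModel p hS F hsat hcc ι₂ h₂
  obtain ⟨Ψ₁, hΨ₁⟩ := c₁.exists_equiv p hS hidx
  obtain ⟨Ψ₂, hΨ₂⟩ := c₂.exists_equiv p hS hidx
  refine ⟨Ψ₁.trans Ψ₂.symm, fun x => ?_⟩
  rw [MulEquiv.trans_apply, hΨ₁, ← hΨ₂, MulEquiv.symm_apply_apply]

end Cfsg.Agent.Lead.Model
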