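import Mathlib
import Cfsg.Prelude.Def_FusionSystem
import Cfsg.Prelude.Def_LocalEven
import Cfsg.Agent.Lead.LocModB
import Cfsg.Agent.Lead.ModelM
import Cfsg.Agent.Lead.FusionModel
import Cfsg.Agent.Helper1.QuadFreeA

set_option autoImplicit false

/-!
Every group involved in a model of a fusion system is involved in any finite group realizing the system on a
Sylow subgroup and having a normal subgroup `Q` that contains its centralizer in the Sylow subgroup.
-/

namespace Cfsg.Agent.Lead
namespace LocMod

open Cfsg Cfsg.FusionSystem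

theorem involves_of_model {Ω : Type*} [Group Ω] {T : Subgroup Ω} [Finite T] (p : ℕ) [Fact p.Prime]
    (hT : IsPGroup p T) (E : FusionSystem T) {L : Type*} [Group L] (j : T →* L)
    (hL : E.IsModel p L j) {H : Type*} [Group H] [Finite H] (ι : T →* H) (hι : E.IsRealizedBy ι)
    (P : Sylow p H) (hP : (P : Subgroup H) = ι.range) (Q : Subgroup Ω) (hQT : Q ≤ T)
    (hQc : centralizerIn T Q ≤ Q) (hQn : ((Q.subgroupOf T).map ι).Normal)
    {X : Type*} [Group X] (hX : Cfsg.Involves X L) : Cfsg.Involves X H := by
  obtain ⟨K, hKn, -, hK⟩ := exists_model_quotient p E ι hι P hP Q hQT hQc hQn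
  haveI := hKn
  have hcon := Fusion.isConstrained_of_isModel p E j hL
  obtain ⟨φ, -⟩ := Model.model_unique p hT E hcon j ((QuotientGroup.mk' K).comp ι) hL hK
  have h1 : Cfsg.Involves X (H ⧸ K) :=
    Cfsg.Agent.Helper1.QuadFree.involves_of_injective φ.toMonoidHom φ.injective hX
  exact Cfsg.Agent.Helper1.QuadFree.involves_of_surjective (QuotientGroup.mk' K)
    (QuotientGroup.mk'_surjective K) h1

end LocMod
end Cfsg.Agent.Lead
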