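import Mathlib
import Cfsg.Prelude.Def_FusionSystem
import Cfsg.Agent.Lead.ModelH
import Cfsg.Agent.Lead.FusionExt
import Cfsg.Agent.Lead.ConjAutDef
import Cfsg.Agent.Lead.FusionSat2

set_option autoImplicit false

/-!
A saturated fusion system `𝒟` over `T` with a normal subgroup `Y`, mapped injectively into a group `G` so that
every map of `𝒟` is induced by conjugation in `G` and `C_G(ι Y) ≤ ι Y`: the subgroup of `G` of elements inducing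
on `ι Y` automorphisms of `𝒟` realizes `𝒟`.
-/

namespace Cfsg.Agent.Lead
namespace LocMod

open Cfsg Cfsg.FusionSystem

variable {Ω : Type*} [Group Ω] {T : Subgroup Ω} {G : Type*} [Group G]

/-- the elements of `G` inducing on `ι Y` an automorphism of the system -/
def autSub (𝒟 : FusionSystem T) (ι : T →* G) (Y : Subgroup Ω) (hYT : Y ≤ T) : Subgroup G where
  carrier := {g | ∃ α ∈ 𝒟.autGroup Y, ∀ y : Y, ι ⟨(α y : Y), hYT (α y).2⟩ = g * ι ⟨y, hYT y.2⟩ * g⁻¹}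
  one_mem' := ⟨1, Subgroup.one_mem _, fun y => by simp⟩
  mul_mem' := by
    rintro g h ⟨α, hα, hαg⟩ ⟨β, hβ, hβh⟩
    refine ⟨α * β, Subgroup.mul_mem _ hα hβ, fun y => ?_⟩
    rw [MulAut.mul_apply, hαg, hβh]
    group
  inv_mem' := by
    rintro g ⟨α, hα, hαg⟩
    refine ⟨α⁻¹, Subgroup.inv_mem _ hα, fun y => ?_⟩
    have := hαg (α⁻¹ y)
    rw [MulAut.apply_inv_self] at this
    rw [this]
    group

theorem mem_autSub (𝒟 : FusionSystem T) (ι : T →* G) (Y : Subgroup Ω) (hYT : Y ≤ T) (g : G) :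
    g ∈ autSub 𝒟 ι Y hYT ↔
      ∃ α ∈ 𝒟.autGroup Y, ∀ y : Y, ι ⟨(α y : Y), hYT (α y).2⟩ = g * ι ⟨y, hYT y.2⟩ * g⁻¹ := Iff.rfl

theorem map_mem_autSub (𝒟 : FusionSystem T) (ι : T →* G) (Y : Subgroup Ω) (hYT : Y ≤ T)
    (hYn : T ≤ Subgroup.normalizer (Y : Set Ω)) (t : T) : ι t ∈ autSub 𝒟 ι Y hYT := by
  refine ⟨conjAut Y t (hYn t.2), ?_, fun y => ?_⟩
  · apply Fusion.autInducedBy_le_autGroup 𝒟 hYT
    exact Subgroup.subset_closure ⟨t, t.2, fun x => rfl⟩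
  · rw [← map_inv, ← map_mul, ← map_mul]
    rfl

/-- `ι` with values in `autSub` -/
def autInc (𝒟 : FusionSystem T) (ι : T →* G) (Y : Subgroup Ω) (hYT : Y ≤ T)
    (hYn : T ≤ Subgroup.normalizer (Y : Set Ω)) : T →* ↥(autSub 𝒟 ι Y hYT) :=
  ι.codRestrict _ (map_mem_autSub 𝒟 ι Y hYT hYn)

theorem autInc_coe (𝒟 : FusionSystem T) (ι : T →* G) (Y : Subgroup Ω) (hYT : Y ≤ T)
    (hYn : T ≤ Subgroup.normalizer (Y : Set Ω)) (t : T) :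
    ((autInc 𝒟 ι Y hYT hYn t : ↥(autSub 𝒟 ι Y hYT)) : G) = ι t := rfl

theorem autSub_isRealizedBy [Finite T] (p : ℕ) (𝒟 : FusionSystem T) (h𝒟 : 𝒟.IsSaturated p)
    (Y : Subgroup Ω) (hYn : 𝒟.IsNormal Y) (ι : T →* G) (hinj : Function.Injective ι)
    (hR : ∀ (A : Subgroup Ω) (φ : A →* Ω) (hφ : φ ∈ 𝒟.Hom A), ∃ g : G, ∀ a : A,
      ι ⟨φ a, Fusion.map_mem 𝒟 hφ a⟩ = g * ι ⟨a, Fusion.src_le 𝒟 hφ a.2⟩ * g⁻¹)
    (hC : Subgroup.centralizer (((Y.subgroupOf T).map ι : Subgroup G) : Set G) ≤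
      (Y.subgroupOf T).map ι) :
    𝒟.IsRealizedBy (autInc 𝒟 ι Y hYn.1 (Model.le_normalizer_of_isNormal 𝒟 hYn)) := by
  have hYT := hYn.1
  have hYnorm : T ≤ Subgroup.normalizer (Y : Set Ω) := Model.le_normalizer_of_isNormal 𝒟 hYn
  refine ⟨fun a b hab => hinj (congrArg Subtype.val hab), fun A hAT φ hφT => ?_⟩
  constructor
  · intro hφ
    obtain ⟨ψ, hψ, hψext, hψY⟩ := hYn.2 A φ hφ
    obtain ⟨g, hg⟩ := hR (A ⊔ Y) ψ hψ
    have hAYT : A ⊔ Y ≤ T := Fusion.src_le 𝒟 hψ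
    have hgH : g ∈ autSub 𝒟 ι Y hYT := by
      have hle : Y ≤ A ⊔ Y := le_sup_right
      have hχ := Fusion.restrict_mem 𝒟 hψ hle
      have hr : (ψ.comp (Subgroup.inclusion hle)).range = Y := by
        apply le_antisymm
        · rintro _ ⟨x, rfl⟩
          apply hψY.le
          refine ⟨Subgroup.inclusion hle x, ?_, rfl⟩
          rw [SetLike.mem_coe, Subgroup.mem_subgroupOf]
          exact x.2
        · intro y hy
          obtain ⟨x, hx, hxy⟩ := hψY.ge hy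
          rw [SetLike.mem_coe, Subgroup.mem_subgroupOf] at hx
          exact ⟨⟨x, hx⟩, hxy⟩
      obtain ⟨α, hα, hαx⟩ := Fusion.exists_aut_of_range_eq 𝒟 hχ hr
      refine ⟨α, hα, fun y => ?_⟩
      have h1 := hg (Subgroup.inclusion hle y)
      have h2 : (⟨((α y : Y) : Ω), hYT (α y).2⟩ : T) =
          ⟨ψ (Subgroup.inclusion hle y), Fusion.map_mem 𝒟 hψ _⟩ := Subtype.ext (hαx y)
      rw [h2, h1]
      rfl
    refine ⟨⟨g, hgH⟩, fun a => ?_⟩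
    apply Subtype.ext
    show ι ⟨φ a, hφT a⟩ = g * ι ⟨a, hAT a.2⟩ * g⁻¹
    have h1 := hg (Subgroup.inclusion le_sup_left a)
    have h2 : (⟨ψ (Subgroup.inclusion le_sup_left a), Fusion.map_mem 𝒟 hψ _⟩ : T) = ⟨φ a, hφT a⟩ :=
      Subtype.ext (hψext a)
    rw [h2] at h1
    exact h1
  · rintro ⟨⟨g, hgH⟩, hg⟩
    have hg' : ∀ a : A, ι ⟨φ a, hφT a⟩ = g * ι ⟨a, hAT a.2⟩ * g⁻¹ := fun a =>
      congrArg Subtype.val (hg a)
    obtain ⟨α, hα, hαg⟩ := hgH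
    have hrec := Model.isReceptive_of_isNormal p 𝒟 h𝒟 hYn
    have hφ₀ := (Fusion.mem_autGroup_iff 𝒟 hYT α).mp hα
    set φ₀ : Y →* Ω := Y.subtype.comp α.toMonoidHom with hφ₀def
    have hφ₀x : ∀ x : Y, φ₀ x = ((α x : Y) : Ω) := fun _ => rfl
    have hr : φ₀.range = Y := by
      ext y
      constructor
      · rintro ⟨x, rfl⟩
        exact (α x).2
      · intro hy
        refine ⟨α.symm ⟨y, hy⟩, ?_⟩
        rw [hφ₀x]
        simp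
    obtain ⟨ψ₀, hψ₀, hext⟩ := hrec.2 Y φ₀ hφ₀ hr
    have hφ₀T : ∀ x : Y, φ₀ x ∈ T := fun x => hYT (α x).2
    have hle : A ⊔ Y ≤ extender T Y φ₀ := by
      apply sup_le
      · intro a ha
        apply Subgroup.subset_closure
        refine ⟨hAT ha, hYnorm (hAT ha), φ ⟨a, ha⟩, hφT ⟨a, ha⟩, fun x hx => ?_⟩
        rw [hφ₀x, hφ₀x]
        have h1 : ι ⟨((α ⟨a * (x : Ω) * a⁻¹, hx⟩ : Y) : Ω), hYT (α ⟨a * (x : Ω) * a⁻¹, hx⟩).2⟩ =
            ι (⟨φ ⟨a, ha⟩, hφT ⟨a, ha⟩⟩ * ⟨((α x : Y) : Ω), hYT (α x).2⟩ *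
              ⟨φ ⟨a, ha⟩, hφT ⟨a, ha⟩⟩⁻¹) := by
          rw [hαg, map_mul, map_mul, map_inv, hαg, hg' ⟨a, ha⟩]
          have h2 : (⟨((⟨a * (x : Ω) * a⁻¹, hx⟩ : Y) : Ω), hYT hx⟩ : T) =
              ⟨a, hAT ha⟩ * ⟨x, hYT x.2⟩ * ⟨a, hAT ha⟩⁻¹ := rfl
          rw [h2, map_mul, map_mul, map_inv]
          group
        exact congrArg (fun z : T => (z : Ω)) (hinj h1)
      · exact Fusion.le_extender Y hYT φ₀ hφ₀T
    have hα' := Fusion.restrict_mem 𝒟 hψ₀ hle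
    set α' : ↥(A ⊔ Y) →* Ω := ψ₀.comp (Subgroup.inclusion hle) with hα'def
    have hα'Y : ∀ y : Y, α' (Subgroup.inclusion le_sup_right y) = ((α y : Y) : Ω) := by
      intro y
      have := hext (y : Ω) y.2 (hle ((le_sup_right : Y ≤ A ⊔ Y) y.2))
      rw [hφ₀x] at this
      exact this
    obtain ⟨g₂, hg₂⟩ := hR (A ⊔ Y) α' hα'
    have hAYT : A ⊔ Y ≤ T := Fusion.src_le 𝒟 hα'
    -- `g₂⁻¹ g` centralizes the image of `Y`
    have hc : g₂⁻¹ * g ∈ Subgroup.centralizer (((Y.subgroupOf T).map ι : Subgroup G) : Set G) := by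
      rw [Subgroup.mem_centralizer_iff]
      rintro _ ⟨y, hy, rfl⟩
      rw [SetLike.mem_coe, Subgroup.mem_subgroupOf] at hy
      have h1 := hg₂ (Subgroup.inclusion le_sup_right ⟨y, hy⟩)
      have h2 : (⟨α' (Subgroup.inclusion le_sup_right ⟨y, hy⟩), Fusion.map_mem 𝒟 hα' _⟩ : T) =
          ⟨((α ⟨y, hy⟩ : Y) : Ω), hYT (α ⟨y, hy⟩).2⟩ := Subtype.ext (hα'Y ⟨y, hy⟩)
      rw [h2, hαg] at h1
      have h3 : (⟨((Subgroup.inclusion (le_sup_right : Y ≤ A ⊔ Y) ⟨y, hy⟩ : ↥(A ⊔ Y)) : Ω),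
          hAYT (Subgroup.inclusion (le_sup_right : Y ≤ A ⊔ Y) ⟨y, hy⟩).2⟩ : T) = y := rfl
      rw [h3] at h1
      have h4 : (⟨((⟨y, hy⟩ : Y) : Ω), hYT hy⟩ : T) = y := rfl
      rw [h4] at h1
      -- h1 : g * ι y * g⁻¹ = g₂ * ι y * g₂⁻¹
      calc ι y * (g₂⁻¹ * g) = g₂⁻¹ * (g₂ * ι y * g₂⁻¹) * g := by group
        _ = g₂⁻¹ * (g * ι y * g⁻¹) * g := by rw [h1]
        _ = g₂⁻¹ * g * ι y := by group
    obtain ⟨z, hz, hzc⟩ := hC hc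
    rw [SetLike.mem_coe, Subgroup.mem_subgroupOf] at hz
    have hgz : g = g₂ * ι z := by rw [hzc]; group
    -- `φ a = α' (z a z⁻¹)`
    have hzmem : ∀ a : A, (z : Ω) * a * (z : Ω)⁻¹ ∈ A ⊔ Y := fun a =>
      Subgroup.mul_mem _ (Subgroup.mul_mem _ ((le_sup_right : Y ≤ A ⊔ Y) hz)
        ((le_sup_left : A ≤ A ⊔ Y) a.2)) (Subgroup.inv_mem _ ((le_sup_right : Y ≤ A ⊔ Y) hz))
    have hconj := 𝒟.conj_mem (P := A) (g := (z : Ω)) hAT z.2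
    have hcomp := 𝒟.comp_mem hconj hα' (fun a => hzmem a)
    convert hcomp using 1
    ext a
    show φ a = α' ⟨(z : Ω) * a * (z : Ω)⁻¹, hzmem a⟩
    have h1 := hg₂ ⟨(z : Ω) * a * (z : Ω)⁻¹, hzmem a⟩
    have h2 : (⟨(z : Ω) * a * (z : Ω)⁻¹, hAYT (hzmem a)⟩ : T) = z * ⟨a, hAT a.2⟩ * z⁻¹ := rfl
    rw [h2, map_mul, map_mul, map_inv] at h1
    have h3 : ι ⟨φ a, hφT a⟩ = ι ⟨α' ⟨(z : Ω) * a * (z : Ω)⁻¹, hzmem a⟩, Fusion.map_mem 𝒟 hα' _⟩ := by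
      rw [h1, hg' a, hgz]
      group
    exact congrArg (fun z : T => (z : Ω)) (hinj h3)

end LocMod
end Cfsg.Agent.Lead
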