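import Mathlib
import Cfsg.Prelude.Def_FusionSystem
import Cfsg.Prelude.Def_LocalEven
import Cfsg.Agent.Lead.LocModI
import Cfsg.Agent.Lead.LocModE
import Cfsg.Agent.Helper6.FusPSolvA

set_option autoImplicit false

/-!
The subgroup `autSub` contains the image of `T` as a Sylow subgroup; consequence for involvement of models.
-/

namespace Cfsg.Agent.Lead
namespace LocMod

open Cfsg Cfsg.FusionSystem

variable {Ω : Type*} [Group Ω] {T : Subgroup Ω} {G : Type*} [Group G]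

theorem map_autInc_normal (𝒟 : FusionSystem T) (ι : T →* G) (Y : Subgroup Ω) (hYT : Y ≤ T)
    (hYn : T ≤ Subgroup.normalizer (Y : Set Ω)) :
    ((Y.subgroupOf T).map (autInc 𝒟 ι Y hYT hYn)).Normal := by
  constructor
  rintro _ ⟨y, hy, rfl⟩ ⟨g, α, hα, hαg⟩
  rw [SetLike.mem_coe, Subgroup.mem_subgroupOf] at hy
  refine ⟨⟨((α ⟨y, hy⟩ : Y) : Ω), hYT (α ⟨y, hy⟩).2⟩, ?_, ?_⟩
  · rw [SetLike.mem_coe, Subgroup.mem_subgroupOf]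
    exact (α ⟨y, hy⟩).2
  · apply Subtype.ext
    show ι ⟨((α ⟨y, hy⟩ : Y) : Ω), _⟩ = g * ι y * g⁻¹
    rw [hαg]

theorem autSub_sylow [Finite T] [Finite G] (p : ℕ) [Fact p.Prime] (hT : IsPGroup p T)
    (𝒟 : FusionSystem T) (h𝒟 : 𝒟.IsSaturated p)
    (Y : Subgroup Ω) (hYn : 𝒟.IsNormal Y) (hYc : centralizerIn T Y ≤ Y) (ι : T →* G)
    (hinj : Function.Injective ι)
    (hR : ∀ (A : Subgroup Ω) (φ : A →* Ω) (hφ : φ ∈ 𝒟.Hom A), ∃ g : G, ∀ a : A,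
      ι ⟨φ a, Fusion.map_mem 𝒟 hφ a⟩ = g * ι ⟨a, Fusion.src_le 𝒟 hφ a.2⟩ * g⁻¹)
    (hC : Subgroup.centralizer (((Y.subgroupOf T).map ι : Subgroup G) : Set G) ≤
      (Y.subgroupOf T).map ι) :
    ∃ P : Sylow p ↥(autSub 𝒟 ι Y hYn.1), (P : Subgroup ↥(autSub 𝒟 ι Y hYn.1)) =
      (autInc 𝒟 ι Y hYn.1 (Model.le_normalizer_of_isNormal 𝒟 hYn)).range := by
  have hYT := hYn.1
  have hYnorm : T ≤ Subgroup.normalizer (Y : Set Ω) := Model.le_normalizer_of_isNormal 𝒟 hYn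
  set H := autSub 𝒟 ι Y hYT with hH
  set ιH := autInc 𝒟 ι Y hYT hYnorm with hιH
  have hreal : 𝒟.IsRealizedBy ιH := autSub_isRealizedBy p 𝒟 h𝒟 Y hYn ι hinj hR hC
  have hn : ((Y.subgroupOf T).map ιH).Normal := map_autInc_normal 𝒟 ι Y hYT hYnorm
  set θ := Cfsg.Agent.Helper6.FusPSolv.autHom ιH 𝒟 hreal hYT hn with hθ
  have hθspec : ∀ (h : H) (x : Y), ιH ⟨((θ h : MulAut Y) x : Y), hYT ((θ h : MulAut Y) x).2⟩ =
      h * ιH ⟨x, hYT x.2⟩ * h⁻¹ := Cfsg.Agent.Helper6.FusPSolv.map_autHom ιH 𝒟 hreal hYT hn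
  have hXp : IsPGroup p ιH.range := hT.of_surjective ιH.rangeRestrict ιH.rangeRestrict_surjective
  obtain ⟨P, hXP⟩ := hXp.exists_le_sylow
  refine ⟨P, le_antisymm ?_ hXP⟩
  -- `Y` is fully automized in `𝒟`
  have hfn : 𝒟.IsFullyNormalized Y := by
    refine ⟨hYT, fun Q hQ => ?_⟩
    rw [Model.eq_of_isConj_of_isNormal 𝒟 hYn hQ]
  obtain ⟨-, -, R, hRa⟩ := Fusion.fullyCentralized_fullyAutomized_of_fullyNormalized p hT 𝒟 h𝒟 hfn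
  -- the image of `P` in `Aut_𝒟(Y)` is a `p`-group containing `R`
  have hPθ : IsPGroup p ((P : Subgroup H).map θ) := P.isPGroup'.map θ
  have hRle : (R : Subgroup (𝒟.autGroup Y)) ≤ (P : Subgroup H).map θ := by
    rw [hRa]
    intro β hβ
    rw [Subgroup.mem_subgroupOf, mem_autInducedBy_iff] at hβ
    obtain ⟨t, ht, htβ⟩ := hβ
    refine ⟨ιH ⟨t, ht⟩, hXP ⟨⟨t, ht⟩, rfl⟩, ?_⟩
    apply Subtype.ext
    apply MulEquiv.ext
    intro x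
    apply Subtype.ext
    have h1 := hθspec (ιH ⟨t, ht⟩) x
    rw [← map_inv, ← map_mul, ← map_mul] at h1
    have h2 := hreal.1 h1
    have h3 : (((θ (ιH ⟨t, ht⟩) : MulAut Y) x : Y) : Ω) = t * (x : Ω) * t⁻¹ :=
      congrArg (fun z : T => (z : Ω)) h2
    rw [h3, htβ x]
  have hPR : (P : Subgroup H).map θ = (R : Subgroup (𝒟.autGroup Y)) := R.is_maximal' hPθ hRle
  intro x hx
  have h1 : θ x ∈ (R : Subgroup (𝒟.autGroup Y)) := hPR ▸ ⟨x, hx, rfl⟩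
  rw [hRa, Subgroup.mem_subgroupOf, mem_autInducedBy_iff] at h1
  obtain ⟨t, ht, htx⟩ := h1
  -- `x⁻¹ ι(t)` centralizes the image of `Y`
  have hc : ((ιH ⟨t, ht⟩)⁻¹ * x : H).1 ∈
      Subgroup.centralizer (((Y.subgroupOf T).map ι : Subgroup G) : Set G) := by
    rw [Subgroup.mem_centralizer_iff]
    rintro _ ⟨y, hy, rfl⟩
    rw [SetLike.mem_coe, Subgroup.mem_subgroupOf] at hy
    have h2 := hθspec x ⟨y, hy⟩
    have h3 : (⟨(((θ x : MulAut Y) ⟨y, hy⟩ : Y) : Ω), hYT ((θ x : MulAut Y) ⟨y, hy⟩).2⟩ : T) =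
        ⟨t, ht⟩ * y * ⟨t, ht⟩⁻¹ := Subtype.ext (htx ⟨y, hy⟩)
    rw [h3, map_mul, map_mul, map_inv] at h2
    have h4 : (ι ⟨t, ht⟩ : G) * ι y * (ι ⟨t, ht⟩)⁻¹ = (x : G) * ι y * (x : G)⁻¹ :=
      congrArg Subtype.val h2
    show ι y * ((ι ⟨t, ht⟩)⁻¹ * (x : G)) = (ι ⟨t, ht⟩)⁻¹ * (x : G) * ι y
    calc ι y * ((ι ⟨t, ht⟩)⁻¹ * (x : G))
        = (ι ⟨t, ht⟩)⁻¹ * ((ι ⟨t, ht⟩ : G) * ι y * (ι ⟨t, ht⟩)⁻¹) * (x : G) := by group
      _ = (ι ⟨t, ht⟩)⁻¹ * ((x : G) * ι y * (x : G)⁻¹) * (x : G) := by rw [h4]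
      _ = (ι ⟨t, ht⟩)⁻¹ * (x : G) * ι y := by group
  obtain ⟨z, -, hz⟩ := hC hc
  refine ⟨⟨t, ht⟩ * z, ?_⟩
  apply Subtype.ext
  show ι (⟨t, ht⟩ * z) = (x : G)
  rw [map_mul, hz]
  show ι ⟨t, ht⟩ * ((ι ⟨t, ht⟩)⁻¹ * (x : G)) = (x : G)
  group

/-- every group involved in a model of `𝒟` is involved in `G` -/
theorem involves_of_sub [Finite T] [Finite G] (p : ℕ) [Fact p.Prime] (hT : IsPGroup p T)
    (𝒟 : FusionSystem T) (Y : Subgroup Ω) (hYn : 𝒟.IsNormal Y) (hYc : centralizerIn T Y ≤ Y)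
    (ι : T →* G) (hinj : Function.Injective ι)
    (hR : ∀ (A : Subgroup Ω) (φ : A →* Ω) (hφ : φ ∈ 𝒟.Hom A), ∃ g : G, ∀ a : A,
      ι ⟨φ a, Fusion.map_mem 𝒟 hφ a⟩ = g * ι ⟨a, Fusion.src_le 𝒟 hφ a.2⟩ * g⁻¹)
    (hC : Subgroup.centralizer (((Y.subgroupOf T).map ι : Subgroup G) : Set G) ≤
      (Y.subgroupOf T).map ι)
    {L : Type*} [Group L] (j : T →* L) (hL : 𝒟.IsModel p L j) {X : Type*} [Group X]
    (hX : Cfsg.Involves X L) : Cfsg.Involves X G := by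
  have h𝒟 : 𝒟.IsSaturated p := (Fusion.isConstrained_of_isModel p 𝒟 j hL).1
  have hYT := hYn.1
  have hYnorm : T ≤ Subgroup.normalizer (Y : Set Ω) := Model.le_normalizer_of_isNormal 𝒟 hYn
  have hreal := autSub_isRealizedBy p 𝒟 h𝒟 Y hYn ι hinj hR hC
  obtain ⟨P, hP⟩ := autSub_sylow p hT 𝒟 h𝒟 Y hYn hYc ι hinj hR hC
  have h1 := involves_of_model p hT 𝒟 j hL _ hreal P hP Y hYT hYc
    (map_autInc_normal 𝒟 ι Y hYT hYnorm) hX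
  exact Cfsg.Agent.Helper1.QuadFree.involves_of_injective (autSub 𝒟 ι Y hYT).subtype
    (Subgroup.subtype_injective _) h1

end LocMod
end Cfsg.Agent.Lead
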