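import Mathlib
import Cfsg.Prelude.Def_FusionSystem
import Cfsg.Prelude.Def_LocalEven
import Cfsg.Agent.Lead.LocModJ
import Cfsg.Agent.Lead.LocModH
import Cfsg.Agent.Lead.FusionNormModel
import Cfsg.Agent.Lead.FusionInvariant

set_option autoImplicit false

/-!
Embedding of models: a subsystem `𝒟 ⊆ F` over `T ≤ S` with a model, having a normal subgroup `Y` that is
`F`-centric.  Every group involved in the model of `𝒟` is involved in every model of the normalizer system of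
some fully normalized `F`-conjugate of `Y`.
-/

namespace Cfsg.Agent.Lead
namespace LocMod

open Cfsg Cfsg.FusionSystem

universe u w

variable {Ω : Type u} [Group Ω] {S : Subgroup Ω}

theorem involves_of_subsystem [Finite S] (p : ℕ) [Fact p.Prime] (hS : IsPGroup p S)
    (F : FusionSystem S) (hF : F.IsSaturated p) {T : Subgroup Ω} (𝒟 : FusionSystem T)
    (h𝒟F : ∀ P : Subgroup Ω, 𝒟.Hom P ⊆ F.Hom P) (Y : Subgroup Ω) (hYn : 𝒟.IsNormal Y)
    (hYc : F.IsCentric Y) {L : Type*} [Group L] (j : T →* L) (hL : 𝒟.IsModel p L j)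
    {X : Type*} [Group X] (hX : Cfsg.Involves X L) :
    ∃ Y' : Subgroup Ω, F.IsConj Y Y' ∧ F.IsFullyNormalized Y' ∧ F.IsCentric Y' ∧
      ∀ N' : FusionSystem (normalizerIn S Y'), F.IsNormalizerSystem Y' N' →
        ∀ (L' : Type w) [Group L'] (ι' : ↥(normalizerIn S Y') →* L'), N'.IsModel p L' ι' →
          Cfsg.Involves X L' := by
  have hYT : Y ≤ T := hYn.1
  have hTS : T ≤ S := Fusion.src_le F (h𝒟F T (Fusion.subtype_mem 𝒟 le_rfl))
  have hYS : Y ≤ S := hYT.trans hTS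
  haveI : Finite T := Fusion.finite_of_le hTS
  have hTp : IsPGroup p T := hS.to_le hTS
  obtain ⟨Y', hYY', hY'fn⟩ := Fusion.exists_isConj_fullyNormalized F hYS
  have hY'c : F.IsCentric Y' :=
    ⟨Fusion.isConj_tgt_le F hYY', fun R hR => hYc.2 R (Fusion.isConj_trans F hYY' hR)⟩
  refine ⟨Y', hYY', hY'fn, hY'c, fun N' hN' L' _ ι' hL' => ?_⟩
  have hY'S : Y' ≤ S := hY'fn.1
  obtain ⟨hfc, hfa⟩ := Fusion.fullyCentralized_fullyAutomized_of_fullyNormalized p hS F hF hY'fn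
  have hrec := Fusion.receptive_of_fullyCentralized p hS F hF hfc
  obtain ⟨ρ, hρ, hρN, hρY⟩ := Fusion.exists_hom_normalizerIn p hS F hfa hrec hYY'
  have hρinj := F.injective_of_mem hρ
  have hTnorm : T ≤ Subgroup.normalizer (Y : Set Ω) := Model.le_normalizer_of_isNormal 𝒟 hYn
  have hTR : T ≤ normalizerIn S Y := le_inf hTS hTnorm
  haveI : Finite L' := hL'.1
  have hι'inj : Function.Injective ι' := hL'.2.1.1
  -- the composite `T → N_S(Y') → L'`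
  set ρT : T →* ↥(normalizerIn S Y') :=
    (ρ.comp (Subgroup.inclusion hTR)).codRestrict _ (fun t => hρN _) with hρT
  have hρTx : ∀ t : T, ((ρT t : ↥(normalizerIn S Y')) : Ω) = ρ ⟨t, hTR t.2⟩ := fun _ => rfl
  set ι₁ : T →* L' := ι'.comp ρT with hι₁
  have hι₁inj : Function.Injective ι₁ := by
    intro a b hab
    have h1 : ρT a = ρT b := hι'inj hab
    have h2 : ρ ⟨a, hTR a.2⟩ = ρ ⟨b, hTR b.2⟩ := congrArg Subtype.val h1
    exact Subtype.ext (congrArg (fun z : ↥(normalizerIn S Y) => (z : Ω)) (hρinj h2))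
  have hY'N : Y' ≤ normalizerIn S Y' := le_inf hY'S Subgroup.le_normalizer
  -- images of `Y`
  have hYimg : (Y.subgroupOf T).map ι₁ = (Y'.subgroupOf (normalizerIn S Y')).map ι' := by
    apply le_antisymm
    · rintro _ ⟨t, ht, rfl⟩
      rw [SetLike.mem_coe, Subgroup.mem_subgroupOf] at ht
      refine ⟨ρT t, ?_, rfl⟩
      rw [SetLike.mem_coe, Subgroup.mem_subgroupOf, hρTx]
      apply hρY.le
      refine ⟨⟨t, hTR t.2⟩, ?_, rfl⟩
      rw [SetLike.mem_coe, Subgroup.mem_subgroupOf]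
      exact ht
    · rintro _ ⟨n, hn, rfl⟩
      rw [SetLike.mem_coe, Subgroup.mem_subgroupOf] at hn
      obtain ⟨x, hx, hxn⟩ := hρY.ge hn
      rw [SetLike.mem_coe, Subgroup.mem_subgroupOf] at hx
      refine ⟨⟨x, hYT hx⟩, ?_, ?_⟩
      · rw [SetLike.mem_coe, Subgroup.mem_subgroupOf]
        exact hx
      · show ι' (ρT ⟨x, hYT hx⟩) = ι' n
        congr 1
        exact Subtype.ext hxn
  haveI : Finite ↥(normalizerIn S Y') := Fusion.finite_of_le inf_le_left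
  have hN'n : N'.IsNormal Y' := Fusion.normalizerSystem_isNormal F hY'S N' hN'
  have hnorm' : ((Y'.subgroupOf (normalizerIn S Y')).map ι').Normal :=
    Fusion.map_normal_of_isNormal_of_isModel p N' ι' hL' hN'n
  have hcY' : centralizerIn (normalizerIn S Y') Y' ≤ Y' := by
    intro x hx
    exact hY'c.2 Y' (Fusion.isConj_refl F hY'S) ⟨hx.1.1, hx.2⟩
  have hC : Subgroup.centralizer (((Y.subgroupOf T).map ι₁ : Subgroup L') : Set L') ≤
      (Y.subgroupOf T).map ι₁ := by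
    rw [hYimg]
    exact centralizer_map_le_of_isModel p N' ι' hL' Y' hY'N hnorm' hcY'
  have hcY : centralizerIn T Y ≤ Y := by
    intro x hx
    exact hYc.2 Y (Fusion.isConj_refl F hYS) ⟨hTS hx.1, hx.2⟩
  have hreal' : N'.IsRealizedBy ι' := hL'.2.1
  -- every map of `𝒟` is induced by conjugation in `L'`
  have hR : ∀ (A : Subgroup Ω) (φ : A →* Ω) (hφ : φ ∈ 𝒟.Hom A), ∃ g : L', ∀ a : A,
      ι₁ ⟨φ a, Fusion.map_mem 𝒟 hφ a⟩ = g * ι₁ ⟨a, Fusion.src_le 𝒟 hφ a.2⟩ * g⁻¹ := by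
    intro A φ hφ
    obtain ⟨ψ, hψ, hψext, hψY⟩ := hYn.2 A φ hφ
    have hBT : A ⊔ Y ≤ T := Fusion.src_le 𝒟 hψ
    have hBR : A ⊔ Y ≤ normalizerIn S Y := hBT.trans hTR
    have hψF : ψ ∈ F.Hom (A ⊔ Y) := h𝒟F _ hψ
    have hψT : ∀ b, ψ b ∈ T := fun b => Fusion.map_mem 𝒟 hψ b
    have hρB := Fusion.restrict_mem F hρ hBR
    set ρB : ↥(A ⊔ Y) →* Ω := ρ.comp (Subgroup.inclusion hBR) with hρBdef
    have hρBx : ∀ b : ↥(A ⊔ Y), ρB b = ρ ⟨b, hBR b.2⟩ := fun _ => rfl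
    obtain ⟨σ, hσ, hσinv, hσr⟩ := Fusion.exists_inv F hρB rfl
    have hσB : ∀ x : ρB.range, σ x ∈ A ⊔ Y := fun x => hσr.le ⟨x, rfl⟩
    obtain ⟨χ₁, hχ₁, hχ₁x⟩ := Fusion.comp_mem' F hσ hψF hσB
    have hχ₁R : ∀ x : ρB.range, χ₁ x ∈ normalizerIn S Y := fun x => by
      rw [hχ₁x]; exact hTR (hψT _)
    obtain ⟨χ₂, hχ₂, hχ₂x⟩ := Fusion.comp_mem' F hχ₁ hρ hχ₁R
    -- value of `χ₂` on `ρ b`
    have hχ₂ρ : ∀ b : ↥(A ⊔ Y), χ₂ ⟨ρB b, ⟨b, rfl⟩⟩ = ρ ⟨ψ b, hTR (hψT b)⟩ := by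
      intro b
      rw [hχ₂x]
      congr 1
      apply Subtype.ext
      show χ₁ ⟨ρB b, ⟨b, rfl⟩⟩ = ψ b
      rw [hχ₁x]
      congr 1
      apply Subtype.ext
      exact hσinv b ⟨b, rfl⟩
    have hB'N : ρB.range ≤ normalizerIn S Y' := by
      rintro _ ⟨b, rfl⟩
      exact hρN _
    have hχ₂N : ∀ x : ρB.range, χ₂ x ∈ normalizerIn S Y' := by
      rintro ⟨_, b, rfl⟩
      rw [hχ₂ρ]
      exact hρN _
    have hY'B : Y' ≤ ρB.range := by
      intro y' hy'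
      obtain ⟨x, hx, rfl⟩ := hρY.ge hy'
      rw [SetLike.mem_coe, Subgroup.mem_subgroupOf] at hx
      exact ⟨⟨x, (le_sup_right : Y ≤ A ⊔ Y) hx⟩, rfl⟩
    have hmemY' : ∀ (y : Ω) (hy : y ∈ Y), ρ ⟨y, hBR ((le_sup_right : Y ≤ A ⊔ Y) hy)⟩ ∈ Y' := by
      intro y hy
      apply hρY.le
      refine ⟨⟨y, hBR ((le_sup_right : Y ≤ A ⊔ Y) hy)⟩, ?_, rfl⟩
      rw [SetLike.mem_coe, Subgroup.mem_subgroupOf]
      exact hy
    have hψYmem : ∀ (y : Ω) (hy : y ∈ Y), ψ ⟨y, (le_sup_right : Y ≤ A ⊔ Y) hy⟩ ∈ Y := by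
      intro y hy
      apply hψY.le
      refine ⟨⟨y, (le_sup_right : Y ≤ A ⊔ Y) hy⟩, ?_, rfl⟩
      rw [SetLike.mem_coe, Subgroup.mem_subgroupOf]
      exact hy
    -- `χ₂` is a map of the normalizer system
    have hχ₂N' : χ₂ ∈ N'.Hom ρB.range := by
      rw [hN' ρB.range]
      have heq : ρB.range = ρB.range ⊔ Y' := (sup_eq_left.mpr hY'B).symm
      obtain ⟨ψ', hψ', hψ'x⟩ := Fusion.exists_hom_of_eq F heq hχ₂
      refine ⟨hχ₂, hB'N, hχ₂N, ψ', hψ', fun x => hψ'x x x.2 _, ?_⟩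
      apply le_antisymm
      · rintro _ ⟨x, hx, rfl⟩
        rw [SetLike.mem_coe, Subgroup.mem_subgroupOf] at hx
        rw [hψ'x x (hY'B hx) x.2]
        obtain ⟨y, hy, hyx⟩ := hρY.ge hx
        rw [SetLike.mem_coe, Subgroup.mem_subgroupOf] at hy
        have h1 : (⟨(x : Ω), hY'B hx⟩ : ρB.range) =
            ⟨ρB ⟨y, (le_sup_right : Y ≤ A ⊔ Y) hy⟩, ⟨_, rfl⟩⟩ := Subtype.ext hyx.symm
        rw [h1, hχ₂ρ]
        exact hmemY' _ (hψYmem y hy)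
      · intro y' hy'
        obtain ⟨y₀, hy₀, hy₀y'⟩ := hρY.ge hy'
        rw [SetLike.mem_coe, Subgroup.mem_subgroupOf] at hy₀
        obtain ⟨y₁, hy₁, hy₁y₀⟩ := hψY.ge hy₀
        rw [SetLike.mem_coe, Subgroup.mem_subgroupOf] at hy₁
        have hmem : ρB y₁ ∈ Y' := hmemY' y₁ hy₁
        refine ⟨⟨ρB y₁, (le_sup_left : ρB.range ≤ ρB.range ⊔ Y') ⟨y₁, rfl⟩⟩, ?_, ?_⟩
        · rw [SetLike.mem_coe, Subgroup.mem_subgroupOf]
          exact hmem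
        · rw [hψ'x (ρB y₁) ⟨y₁, rfl⟩ _, hχ₂ρ, ← hy₀y']
          congr 1
          exact Subtype.ext hy₁y₀
    obtain ⟨g, hg⟩ := (hreal'.2 ρB.range hB'N χ₂ hχ₂N).mp hχ₂N'
    refine ⟨g, fun a => ?_⟩
    have h1 := hg ⟨ρB (Subgroup.inclusion le_sup_left a), ⟨_, rfl⟩⟩
    have h2 : (⟨χ₂ ⟨ρB (Subgroup.inclusion le_sup_left a), ⟨_, rfl⟩⟩, hχ₂N _⟩ :
        ↥(normalizerIn S Y')) = ρT ⟨φ a, Fusion.map_mem 𝒟 hφ a⟩ := by
      apply Subtype.ext
      rw [hρTx]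
      show χ₂ ⟨ρB (Subgroup.inclusion le_sup_left a), ⟨_, rfl⟩⟩ = _
      rw [hχ₂ρ]
      congr 1
      exact Subtype.ext (hψext a)
    have h3 : (⟨((⟨ρB (Subgroup.inclusion le_sup_left a), ⟨_, rfl⟩⟩ : ρB.range) : Ω), hB'N ⟨_, rfl⟩⟩ :
        ↥(normalizerIn S Y')) = ρT ⟨a, Fusion.src_le 𝒟 hφ a.2⟩ := by
      apply Subtype.ext
      rw [hρTx]
      rfl
    rw [h2, h3] at h1
    exact h1
  exact involves_of_sub p hTp 𝒟 Y hYn hcY ι₁ hι₁inj hR hC j hL hX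

end LocMod
end Cfsg.Agent.Lead
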