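import Mathlib
import Cfsg.Prelude.Def_FusionSystem
import Cfsg.Agent.Lead.LocModH
import Cfsg.Agent.Lead.ModelM
import Cfsg.Agent.Lead.FusionNormModel
import Cfsg.Agent.Helper6.FusPSolvA

set_option autoImplicit false

/-!
A centric subgroup `Q` whose normalizer system has `O_p = Q` is radical.
-/

namespace Cfsg.Agent.Lead
namespace LocMod

open Cfsg Cfsg.FusionSystem

theorem map_pCore_of_surjective {G A : Type*} [Group G] [Group A] (p : ℕ) [Fact p.Prime]
    (f : G →* A) (hf : Function.Surjective f) (hk : IsPGroup p f.ker) :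
    (pCore p G).map f = pCore p A := by
  apply le_antisymm
  · apply Cfsg.Agent.Helper4.le_pCore
    · exact Subgroup.Normal.map Cfsg.Agent.Helper4.pCore_normal f hf
    · exact Cfsg.Agent.Helper4.pCore_isPGroup.map f
  · have h1 : (pCore p A).comap f ≤ pCore p G := by
      apply Cfsg.Agent.Helper4.le_pCore
      · exact Subgroup.Normal.comap Cfsg.Agent.Helper4.pCore_normal f
      · exact Cfsg.Agent.Helper4.pCore_isPGroup.comap_of_ker_isPGroup f hk
    calc pCore p A = ((pCore p A).comap f).map f := (Subgroup.map_comap_eq_self_of_surjective hf _).symm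
      _ ≤ (pCore p G).map f := Subgroup.map_mono h1

variable {Ω : Type*} [Group Ω] {S : Subgroup Ω}

theorem isRadical_of_core_eq [Finite S] (p : ℕ) [Fact p.Prime] (hS : IsPGroup p S)
    (F : FusionSystem S) (Q : Subgroup Ω) (hQS : Q ≤ S) (hQc : centralizerIn S Q ≤ Q)
    (N : FusionSystem (normalizerIn S Q)) (hN : F.IsNormalizerSystem Q N) {L : Type*} [Group L]
    (ι : ↥(normalizerIn S Q) →* L) (hL : N.IsModel p L ι) (hcore : N.core = Q) :
    F.IsRadical p Q := by
  refine ⟨hQS, ?_⟩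
  haveI : Finite ↥(normalizerIn S Q) := Fusion.finite_of_le inf_le_left
  have hNp : IsPGroup p ↥(normalizerIn S Q) := hS.to_le inf_le_left
  have hQN : Q ≤ normalizerIn S Q := le_inf hQS Subgroup.le_normalizer
  have hNn : N.IsNormal Q := Fusion.normalizerSystem_isNormal F hQS N hN
  have hnormal : ((Q.subgroupOf (normalizerIn S Q)).map ι).Normal :=
    Fusion.map_normal_of_isNormal_of_isModel p N ι hL hNn
  have hreal : N.IsRealizedBy ι := hL.2.1
  have hinj := hreal.1
  have hcQ : centralizerIn (normalizerIn S Q) Q ≤ Q := fun x hx => hQc ⟨hx.1.1, hx.2⟩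
  have hC := centralizer_map_le_of_isModel p N ι hL Q hQN hnormal hcQ
  set θ := Cfsg.Agent.Helper6.FusPSolv.autHom ι N hreal hQN hnormal with hθ
  have hθs : Function.Surjective θ := Cfsg.Agent.Helper6.FusPSolv.autHom_surjective ι N hreal hQN hnormal
  have hker : IsPGroup p θ.ker := by
    have h1 : θ.ker ≤ (Q.subgroupOf (normalizerIn S Q)).map ι :=
      (Cfsg.Agent.Helper6.FusPSolv.ker_autHom_le ι N hreal hQN hnormal).trans hC
    exact ((hNp.to_subgroup _).map ι).to_le h1
  have h1 := map_pCore_of_surjective p θ hθs hker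
  have h2 : pCore p L = (Q.subgroupOf (normalizerIn S Q)).map ι := by
    rw [← Model.map_core_eq_pCore p hNp N ι hL, hcore]
  rw [h2] at h1
  rw [← Fusion.normalizerSystem_autGroup F hQS N hN, ← h1]
  have hθx : ∀ (q : Ω) (hq : q ∈ Q), ((θ (ι ⟨q, hQN hq⟩) : N.autGroup Q) : MulAut Q) =
      MulAut.conj (⟨q, hq⟩ : Q) := by
    intro q hq
    apply MulEquiv.ext
    intro x
    apply Subtype.ext
    have h3 := Cfsg.Agent.Helper6.FusPSolv.map_autHom ι N hreal hQN hnormal (ι ⟨q, hQN hq⟩) x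
    rw [← map_inv, ← map_mul, ← map_mul] at h3
    have h4 := hinj h3
    exact congrArg (fun z : ↥(normalizerIn S Q) => (z : Ω)) h4
  apply le_antisymm
  · rintro _ ⟨_, ⟨_, ⟨q, hq, rfl⟩, rfl⟩, rfl⟩
    rw [SetLike.mem_coe, Subgroup.mem_subgroupOf] at hq
    refine ⟨⟨q, hq⟩, ?_⟩
    exact (hθx q hq).symm
  · rintro _ ⟨q, rfl⟩
    refine ⟨θ (ι ⟨q, hQN q.2⟩), ⟨ι ⟨q, hQN q.2⟩, ⟨⟨q, hQN q.2⟩, ?_, rfl⟩, rfl⟩, hθx q q.2⟩
    rw [SetLike.mem_coe, Subgroup.mem_subgroupOf]
    exact q.2

end LocMod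
end Cfsg.Agent.Lead
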