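import Mathlib
import Cfsg.Prelude.Def_FusionReduction
import Cfsg.Agent.Lead.LocModK
import Cfsg.Agent.Lead.LocModL
import Cfsg.Agent.Lead.ModelK
import Cfsg.Agent.Lead.FusionKNorm6
import Cfsg.Agent.Lead.FusionNormal
import Cfsg.Agent.Lead.FusionCentric
import Cfsg.Agent.Lead.FusionInner
import Cfsg.Agent.S5096

set_option autoImplicit false

/-!
Section-freeness can be tested on the fully normalized centric radical subgroups.
-/

namespace Cfsg.Agent.Lead
namespace LocMod

open Cfsg Cfsg.FusionSystem

universe u

variable {Ω : Type u} [Group Ω] {S : Subgroup Ω}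

/-- existence of a model for the normalizer system of a fully normalized centric subgroup -/
theorem exists_normalizer_model [Finite S] (p : ℕ) [Fact p.Prime] (hS : IsPGroup p S)
    (F : FusionSystem S) (hF : F.IsSaturated p) (Q : Subgroup Ω) (hQn : F.IsFullyNormalized Q)
    (hQc : F.IsCentric Q) (N : FusionSystem (normalizerIn S Q)) (hN : F.IsNormalizerSystem Q N) :
    ∃ (L : Type u) (_ : Group L) (ι : ↥(normalizerIn S Q) →* L), N.IsModel p L ι := by
  haveI : Finite ↥(normalizerIn S Q) := Fusion.finite_of_le inf_le_left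
  have hNp : IsPGroup p ↥(normalizerIn S Q) := hS.to_le inf_le_left
  have hsat := Fusion.normalizerSystem_isSaturated p hS F hF Q hQn N hN
  have hnorm := Fusion.normalizerSystem_isNormal F hQn.1 N hN
  have hcen := Fusion.normalizerSystem_isCentric F hQc N hN
  exact Model.exists_isModel p hNp N ⟨hsat, Q, hnorm, hcen⟩

theorem sectionFree_of_radical [Finite S] (p : ℕ) [Fact p.Prime] (hS : IsPGroup p S)
    (F : FusionSystem S) (hF : F.IsSaturated p) {X : Type*} [Group X]
    (h : ∀ Q : Subgroup Ω, F.IsFullyNormalized Q → F.IsCentric Q → F.IsRadical p Q →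
      ∀ N : FusionSystem (normalizerIn S Q), F.IsNormalizerSystem Q N →
        ∀ (L : Type u) [Group L] (ι : ↥(normalizerIn S Q) →* L), N.IsModel p L ι →
          ¬ Cfsg.Involves X L) : F.IsSectionFree p X := by
  have key : ∀ n : ℕ, ∀ Q : Subgroup Ω, Nat.card S - Nat.card Q = n → F.IsFullyNormalized Q →
      F.IsCentric Q → ∀ N : FusionSystem (normalizerIn S Q), F.IsNormalizerSystem Q N →
        ∀ (L : Type u) [Group L] (ι : ↥(normalizerIn S Q) →* L), N.IsModel p L ι →
          ¬ Cfsg.Involves X L := by
    intro n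
    induction n using Nat.strong_induction_on with
    | _ n ih =>
      intro Q hn hQn hQc N hN L _ ι hL hXL
      by_cases hrad : F.IsRadical p Q
      · exact h Q hQn hQc hrad N hN L ι hL hXL
      have hQS := hQn.1
      haveI : Finite ↥(normalizerIn S Q) := Fusion.finite_of_le inf_le_left
      have hNn : N.IsNormal Q := Fusion.normalizerSystem_isNormal F hQS N hN
      have hcore : N.core ≠ Q := fun hc =>
        hrad (isRadical_of_core_eq p hS F Q hQS (hQc.2 Q (Fusion.isConj_refl F hQS)) N hN ι hL hc)
      have hQR : Q ≤ N.core := le_sSup hNn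
      have hRn : N.IsNormal N.core := Fusion.core_isNormal N
      have hRS : N.core ≤ S := hRn.1.trans inf_le_left
      have hRc : F.IsCentric N.core := Fusion.isCentric_of_le F hQR hRS hQc
      have h𝒟F : ∀ P : Subgroup Ω, N.Hom P ⊆ F.Hom P := by
        intro P φ hφ
        rw [hN P] at hφ
        exact hφ.1
      obtain ⟨R', hRR', hR'n, hR'c, hR'⟩ :=
        involves_of_subsystem.{u, u} p hS F hF N h𝒟F N.core hRn hRc ι hL hXL
      obtain ⟨N', hN'⟩ := Cfsg.Agent.S5096.result F R' hR'n.1
      obtain ⟨L', _, ι', hL'⟩ := exists_normalizer_model p hS F hF R' hR'n hR'c N' hN'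
      have hXL' := hR' N' hN' L' ι' hL'
      -- `R'` is larger than `Q`
      haveI : Finite ↥N.core := Fusion.finite_of_le hRS
      have hlt : Nat.card Q < Nat.card ↥N.core := by
        by_contra hnot
        rw [not_lt] at hnot
        exact hcore (Subgroup.eq_of_le_of_card_ge hQR hnot).symm
      have hcard : Nat.card ↥N.core = Nat.card R' := Fusion.card_eq_of_isConj F hRR'
      have hle : Nat.card R' ≤ Nat.card S := Subgroup.card_le_of_le hR'n.1
      exact ih (Nat.card S - Nat.card R') (by omega) R' rfl hR'n hR'c N' hN' L' ι' hL' hXL'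
  intro Q hQn hQc N hN L _ ι hL
  exact key _ Q rfl hQn hQc N hN L ι hL

end LocMod
end Cfsg.Agent.Lead
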