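import Mathlib
import Cfsg.Prelude.Def_FusionSystem
import Cfsg.Agent.Lead.FusionPStable
import Cfsg.Agent.Lead.LocModM
import Cfsg.Agent.Lead.FusionExt

set_option autoImplicit false

/-!
`p`-stability of a saturated fusion system can be tested on the normalizer systems of the fully
normalized centric radical subgroups (S5281).
-/

namespace Cfsg.Agent.Lead.PStab

open Cfsg Cfsg.FusionSystem Cfsg.Agent.Lead

universe u

variable {Ω : Type u} [Group Ω] {S : Subgroup Ω}

/-- The quadratic condition. -/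
def Quad {Q : Type*} [Group Q] (χ : MulAut Q) : Prop :=
  ∀ a : Q, (χ a⁻¹) * a * (χ a⁻¹) * (χ (χ a)) = 1

/-- Quadratic automorphisms in `Aut_F(Q)` lie in the `p`-core. -/
def GoodAt (p : ℕ) (F : FusionSystem S) (Q : Subgroup Ω) : Prop :=
  ∀ χ : MulAut ↥Q, χ ∈ F.autGroup Q → Quad χ →
    χ ∈ ((Cfsg.pCore p ↥(F.autGroup Q)).map (F.autGroup Q).subtype : Subgroup (MulAut ↥Q))

theorem quad_congr {Q Q' : Type*} [Group Q] [Group Q'] (e : Q ≃* Q') (χ : MulAut Q)
    (hquad : Quad χ) : Quad (MulAut.congr e χ) := by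
  intro b
  have h1 : ∀ y : Q', (MulAut.congr e χ) y = e (χ (e.symm y)) := fun y => rfl
  rw [h1, h1, h1]
  have h2 := hquad (e.symm b)
  have h3 := congrArg e h2
  rw [map_mul, map_mul, map_mul, map_one] at h3
  simpa using h3

theorem goodAt_of_isConj (p : ℕ) [Fact p.Prime] (F : FusionSystem S) {Q Q' : Subgroup Ω}
    (hc : F.IsConj Q Q') (h : GoodAt p F Q') : GoodAt p F Q := by
  intro χ hχF hquad
  obtain ⟨φ, hφ, hr⟩ := hc
  set e := Fusion.equivOfRange φ (F.injective_of_mem hφ) hr with he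
  have hχ' : MulAut.congr e χ ∈ F.autGroup Q' := Fusion.congr_mem_autGroup F hφ hr χ hχF
  have h6 := h _ hχ' (quad_congr e χ hquad)
  exact mem_pCore_of_map p (MulAut.congr e).toMonoidHom (MulAut.congr e).injective (F.autGroup Q)
      (F.autGroup Q') (fun a ha => Fusion.congr_mem_autGroup F hφ hr a ha) χ hχF h6

theorem goodAt_all [Finite S] (p : ℕ) [Fact p.Prime] (F : FusionSystem S)
    (h : ∀ Q : Subgroup Ω, F.IsFullyNormalized Q → GoodAt p F Q) (Q : Subgroup Ω) (hQ : Q ≤ S) :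
    GoodAt p F Q := by
  obtain ⟨Q', hc, hQ'fn⟩ := Fusion.exists_isConj_fullyNormalized F hQ
  exact goodAt_of_isConj p F hc (h Q' hQ'fn)

theorem goodAt_of_autGroup_eq (p : ℕ) {T : Subgroup Ω} (F : FusionSystem S) (N : FusionSystem T)
    (Q : Subgroup Ω) (hAut : N.autGroup Q = F.autGroup Q) (h : GoodAt p N Q) : GoodAt p F Q := by
  intro χ hχ hquad
  have h1 := h χ (hAut ▸ hχ) hquad
  have key : ∀ (A B : Subgroup (MulAut Q)), A = B →
      (Cfsg.pCore p A).map A.subtype = (Cfsg.pCore p B).map B.subtype := by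
    rintro A B rfl; rfl
  rw [← key _ _ hAut]
  exact h1

/-- A fully centralized subgroup containing its centralizer is centric. -/
theorem isCentric_of_fullyCentralized_of_le [Finite S] (F : FusionSystem S) {R : Subgroup Ω}
    (hfc : F.IsFullyCentralized R) (hc : centralizerIn S R ≤ R) : F.IsCentric R := by
  refine ⟨hfc.1, ?_⟩
  rintro R' ⟨φ, hφ, hr⟩
  have hR'S : R' ≤ S := hr ▸ Fusion.range_le F hφ
  have hcard := hfc.2 R' ⟨φ, hφ, hr⟩
  haveI : Finite (centralizerIn S R') := Fusion.finite_of_le inf_le_left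
  haveI : Finite (centralizerIn S R) := Fusion.finite_of_le inf_le_left
  obtain ⟨Z', hZ'⟩ : ∃ Z' : Subgroup Ω, Z' = R' ⊓ Subgroup.centralizer (R' : Set Ω) := ⟨_, rfl⟩
  have hZ'le : Z' ≤ centralizerIn S R' := by
    intro z hz
    rw [hZ'] at hz
    exact ⟨hR'S hz.1, hz.2⟩
  haveI : Finite Z' := Fusion.finite_of_le (hZ'le.trans inf_le_left)
  have hmem : ∀ x : centralizerIn S R, φ ⟨x.1, hc x.2⟩ ∈ Z' := by
    intro x
    rw [hZ']
    refine ⟨hr ▸ ⟨_, rfl⟩, Subgroup.mem_centralizer_iff.mpr ?_⟩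
    intro y hy
    have hy' : y ∈ φ.range := by rw [hr]; exact hy
    obtain ⟨r, rfl⟩ := hy'
    have h1 : (r : Ω) * x = x * r := x.2.2 r r.2
    rw [← map_mul, ← map_mul]
    congr 1
    exact Subtype.ext h1
  have hinj : Function.Injective
      (fun x : centralizerIn S R => (⟨φ ⟨x.1, hc x.2⟩, hmem x⟩ : Z')) := by
    intro x y hxy
    have h1 : φ ⟨x.1, hc x.2⟩ = φ ⟨y.1, hc y.2⟩ := congrArg Subtype.val hxy
    have h2 := F.injective_of_mem hφ h1
    exact Subtype.ext (congrArg (fun z : R => (z : Ω)) h2)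
  have hcard2 : Nat.card (centralizerIn S R) ≤ Nat.card Z' :=
    Nat.card_le_card_of_injective _ hinj
  have h3 : Z' = centralizerIn S R' := Subgroup.eq_of_le_of_card_ge hZ'le (hcard.trans hcard2)
  rw [← h3, hZ']
  exact inf_le_left

/-- Automorphisms of a receptive subgroup extend to `R C_S(R)`. -/
theorem exists_aut_sup_centralizerIn_extension [Finite S] (F : FusionSystem S) {R : Subgroup Ω}
    (h₂ : F.IsReceptive R) (α : MulAut R) (hα : α ∈ F.autGroup R) :
    ∃ γ ∈ F.autGroup (R ⊔ centralizerIn S R), ∀ x : R,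
      ((γ (Subgroup.inclusion le_sup_left x) : ↥(R ⊔ centralizerIn S R)) : Ω) = α x := by
  have hRS := h₂.1
  have hφ := (Fusion.mem_autGroup_iff F hRS α).mp hα
  obtain ⟨φ, hφdef⟩ : ∃ φ : R →* Ω, φ = R.subtype.comp α.toMonoidHom := ⟨_, rfl⟩
  rw [← hφdef] at hφ
  have hφx : ∀ x : R, φ x = ((α x : R) : Ω) := fun x => by rw [hφdef]; rfl
  have hr : φ.range = R := by
    ext y
    constructor
    · rintro ⟨x, rfl⟩
      rw [hφx]
      exact (α x).2
    · intro hy
      refine ⟨α.symm ⟨y, hy⟩, ?_⟩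
      rw [hφx]
      simp
  obtain ⟨ψ, hψ, hext⟩ := h₂.2 R φ hφ hr
  have hle : R ⊔ centralizerIn S R ≤ extender S R φ :=
    sup_le (Fusion.le_extender R hRS φ (fun x => Fusion.map_mem F hφ x))
      (Fusion.centralizerIn_le_extender R φ)
  have hTS : R ⊔ centralizerIn S R ≤ S := sup_le hRS inf_le_left
  have : Finite ↥(R ⊔ centralizerIn S R) := Fusion.finite_of_le hTS
  have hρ := Fusion.restrict_mem F hψ hle
  obtain ⟨ρ, hρdef⟩ : ∃ ρ : ↥(R ⊔ centralizerIn S R) →* Ω, ρ = ψ.comp (Subgroup.inclusion hle) :=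
    ⟨_, rfl⟩
  rw [← hρdef] at hρ
  have hρR : ∀ x : R, ρ (Subgroup.inclusion le_sup_left x) = φ x := by
    intro x
    rw [hρdef]
    exact hext x.1 x.2 (hle (le_sup_left (a := R) x.2))
  have hρC : ∀ c : centralizerIn S R, ρ (Subgroup.inclusion le_sup_right c) ∈ centralizerIn S R := by
    intro c
    refine ⟨Fusion.map_mem F hρ _, Subgroup.mem_centralizer_iff.mpr ?_⟩
    intro y hy
    have hy' : y ∈ φ.range := by rw [hr]; exact hy
    obtain ⟨r, rfl⟩ := hy'
    rw [← hρR r, ← map_mul, ← map_mul]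
    congr 1
    apply Subtype.ext
    exact c.2.2 r r.2
  have hmem : ∀ x, ρ x ∈ R ⊔ centralizerIn S R := by
    apply Fusion.sup_map_mem ρ
    · intro x
      rw [hρR, hφx]
      exact le_sup_left (a := R) (α x).2
    · intro c
      exact le_sup_right (a := R) (hρC c)
  have hr' : ρ.range = R ⊔ centralizerIn S R := by
    apply Subgroup.eq_of_le_of_card_ge
    · rintro _ ⟨x, rfl⟩
      exact hmem x
    · rw [← Fusion.card_eq_of_isConj F ⟨ρ, hρ, rfl⟩]
  obtain ⟨γ, hγ, hγx⟩ := Fusion.exists_aut_of_range_eq F hρ hr'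
  refine ⟨γ, hγ, fun x => ?_⟩
  rw [hγx, hρR, hφx]

/-- The extension property carried through the induction: every automorphism of `Q` in the system,
transported along `θ : Q → R`, is induced by an automorphism of `R` in the system. -/
def ExtProp (F : FusionSystem S) (Q R : Subgroup Ω) (θ : Q →* Ω) (hθR : ∀ x, θ x ∈ R) : Prop :=
  ∀ α ∈ F.autGroup Q, ∃ β ∈ F.autGroup R, ∀ x : Q, ((β ⟨θ x, hθR x⟩ : R) : Ω) = θ (α x)

theorem extProp_step (F : FusionSystem S) {Q R R2 R2' : Subgroup Ω} (θ : Q →* Ω)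
    (hθ : θ ∈ F.Hom Q) (hθR : ∀ x, θ x ∈ R) (hE : ExtProp F Q R θ hθR) (hRR2 : R ≤ R2)
    (hX : ∀ β ∈ F.autGroup R, ∃ γ ∈ F.autGroup R2, ∀ y : R,
      ((γ (Subgroup.inclusion hRR2 y) : R2) : Ω) = β y)
    (φ : R2 →* Ω) (hφ : φ ∈ F.Hom R2) (hr : φ.range = R2') :
    ∃ θ' : Q →* Ω, θ' ∈ F.Hom Q ∧ ∃ h' : ∀ x, θ' x ∈ R2', ExtProp F Q R2' θ' h' := by
  have hθR2 : ∀ x, θ x ∈ R2 := fun x => hRR2 (hθR x)
  refine ⟨φ.comp (θ.codRestrict R2 hθR2), F.comp_mem hθ hφ hθR2, ?_, ?_⟩
  · intro x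
    rw [← hr]
    exact ⟨_, rfl⟩
  · intro α hα
    obtain ⟨β, hβ, hβx⟩ := hE α hα
    obtain ⟨γ, hγ, hγx⟩ := hX β hβ
    set e := Fusion.equivOfRange φ (F.injective_of_mem hφ) hr with he
    refine ⟨MulAut.congr e γ, Fusion.congr_mem_autGroup F hφ hr γ hγ, fun x => ?_⟩
    have h1 : ∀ y : R2', (MulAut.congr e γ) y = e (γ (e.symm y)) := fun y => rfl
    rw [h1]
    have h2 : e.symm ⟨(φ.comp (θ.codRestrict R2 hθR2)) x, by rw [← hr]; exact ⟨_, rfl⟩⟩
        = ⟨θ x, hθR2 x⟩ := by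
      rw [MulEquiv.symm_apply_eq]
      apply Subtype.ext
      rw [he, Fusion.equivOfRange_coe]
      rfl
    rw [h2, he, Fusion.equivOfRange_coe]
    show φ (γ ⟨θ x, hθR2 x⟩) = φ ⟨θ (α x), hθR2 (α x)⟩
    congr 1
    apply Subtype.ext
    have h3 := hγx ⟨θ x, hθR x⟩
    have h4 : Subgroup.inclusion hRR2 ⟨θ x, hθR x⟩ = (⟨θ x, hθR2 x⟩ : R2) := rfl
    rw [h4] at h3
    rw [h3, hβx]

/-- A map from a subgroup of `R` induced by an automorphism of `R` in the system is a map of the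
normalizer system of `R`. -/
theorem mem_normalizerHom_of_aut (F : FusionSystem S) {R P : Subgroup Ω} (hRS : R ≤ S)
    (hPR : P ≤ R) (φ : P →* Ω) (hφ : φ ∈ F.Hom P) (β : MulAut R) (hβ : β ∈ F.autGroup R)
    (hβx : ∀ x : P, ((β (Subgroup.inclusion hPR x) : R) : Ω) = φ x) :
    φ ∈ F.normalizerHom R P := by
  have hRN : R ≤ normalizerIn S R := Fusion.le_normalizerIn hRS
  have hβhom := (Fusion.mem_autGroup_iff F hRS β).mp hβ
  have hle : P ⊔ R ≤ R := sup_le hPR le_rfl
  refine ⟨hφ, hPR.trans hRN, fun x => hRN ?_, (R.subtype.comp β.toMonoidHom).comp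
    (Subgroup.inclusion hle), Fusion.restrict_mem F hβhom hle, fun x => ?_, ?_⟩
  · rw [← hβx]
    exact (β _).2
  · rw [← hβx]
    rfl
  · ext y
    constructor
    · rintro ⟨z, -, rfl⟩
      exact (β _).2
    · intro hy
      refine ⟨Subgroup.inclusion (le_sup_right : R ≤ P ⊔ R) (β.symm ⟨y, hy⟩), ?_, ?_⟩
      · rw [SetLike.mem_coe, Subgroup.mem_subgroupOf]
        exact (β.symm ⟨y, hy⟩).2
      · show ((β (Subgroup.inclusion hle (Subgroup.inclusion (le_sup_right : R ≤ P ⊔ R)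
          (β.symm ⟨y, hy⟩))) : R) : Ω) = y
        have : Subgroup.inclusion hle (Subgroup.inclusion (le_sup_right : R ≤ P ⊔ R)
          (β.symm ⟨y, hy⟩)) = β.symm ⟨y, hy⟩ := rfl
        rw [this]
        simp

/-- The final step: `R` fully normalized, centric, equal to the core of its normalizer system. -/
theorem goodAt_final [Finite S] (p : ℕ) [Fact p.Prime] (hS : IsPGroup p S) (F : FusionSystem S)
    (hF : F.IsSaturated p)
    (h : ∀ R : Subgroup Ω, F.IsFullyNormalized R → F.IsCentric R → F.IsRadical p R →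
      ∀ N : FusionSystem (normalizerIn S R), F.IsNormalizerSystem R N →
        ∀ Q : Subgroup Ω, N.IsFullyNormalized Q → GoodAt p N Q)
    {Q R : Subgroup Ω} (θ : Q →* Ω) (hθ : θ ∈ F.Hom Q) (hθR : ∀ x, θ x ∈ R)
    (hRn : F.IsFullyNormalized R) (hE : ExtProp F Q R θ hθR)
    (N : FusionSystem (normalizerIn S R)) (hN : F.IsNormalizerSystem R N) (hcore : N.core = R)
    (hcen : centralizerIn S R ≤ R) : GoodAt p F Q := by
  have hRS := hRn.1
  have hQS : Q ≤ S := Fusion.src_le F hθ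
  haveI : Finite ↥(normalizerIn S R) := Fusion.finite_of_le inf_le_left
  have hRN : R ≤ normalizerIn S R := Fusion.le_normalizerIn hRS
  have hfc := (Fusion.fullyCentralized_fullyAutomized_of_fullyNormalized p hS F hF hRn).1
  have hRc : F.IsCentric R := isCentric_of_fullyCentralized_of_le F hfc hcen
  obtain ⟨L, _, ι, hL⟩ := LocMod.exists_normalizer_model p hS F hF R hRn hRc N hN
  have hrad : F.IsRadical p R := LocMod.isRadical_of_core_eq p hS F R hRS hcen N hN ι hL hcore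
  have hNgood := h R hRn hRc hrad N hN
  have hQ0R : θ.range ≤ R := by
    rintro _ ⟨x, rfl⟩
    exact hθR x
  have hQ0N : θ.range ≤ normalizerIn S R := hQ0R.trans hRN
  have hQ0S : θ.range ≤ S := hQ0R.trans hRS
  have hgoodN : GoodAt p N θ.range := goodAt_all p N hNgood θ.range hQ0N
  have hinj := F.injective_of_mem hθ
  set e0 := Fusion.equivOfRange θ hinj rfl with he0
  have hinv := Fusion.equivOfRange_symm_mem F hθ (rfl : θ.range = θ.range)
  have hAut : N.autGroup θ.range = F.autGroup θ.range := by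
    ext α0
    constructor
    · intro hα0
      exact autGroup_normSys_le F N hN hQ0N α0 hα0
    · intro hα0
      have hα0hom := (Fusion.mem_autGroup_iff F hQ0S α0).mp hα0
      -- the transported automorphism of `Q`
      have hα : MulAut.congr e0.symm α0 ∈ F.autGroup Q := by
        rw [Fusion.mem_autGroup_iff F hQS]
        have h2 := F.comp_mem hθ hα0hom (fun x => ⟨x, rfl⟩)
        have h3 := F.comp_mem h2 hinv (fun x => (α0 _).2)
        convert h3 using 1
        ext y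
        rfl
      obtain ⟨β, hβ, hβx⟩ := hE _ hα
      rw [Fusion.mem_autGroup_iff N hQ0N, hN]
      refine mem_normalizerHom_of_aut F hRS hQ0R _ hα0hom β hβ ?_
      rintro ⟨_, x, rfl⟩
      have h4 := hβx x
      have h5 : Subgroup.inclusion hQ0R ⟨θ x, ⟨x, rfl⟩⟩ = (⟨θ x, hθR x⟩ : R) := rfl
      rw [h5, h4]
      show θ (e0.symm (α0 (e0.symm.symm x))) = ((α0 ⟨θ x, ⟨x, rfl⟩⟩ : θ.range) : Ω)
      rw [MulEquiv.symm_symm]
      have h6 : e0 x = ⟨θ x, ⟨x, rfl⟩⟩ := rfl
      rw [h6]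
      exact Fusion.map_equivOfRange_symm θ hinj rfl _
  have hgoodF : GoodAt p F θ.range := goodAt_of_autGroup_eq p F N θ.range hAut hgoodN
  exact goodAt_of_isConj p F ⟨θ, hθ, rfl⟩ hgoodF

theorem backward_aux [Finite S] (p : ℕ) [Fact p.Prime] (hS : IsPGroup p S) (F : FusionSystem S)
    (hF : F.IsSaturated p)
    (h : ∀ R : Subgroup Ω, F.IsFullyNormalized R → F.IsCentric R → F.IsRadical p R →
      ∀ N : FusionSystem (normalizerIn S R), F.IsNormalizerSystem R N →
        ∀ Q : Subgroup Ω, N.IsFullyNormalized Q → GoodAt p N Q)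
    (Q : Subgroup Ω) :
    ∀ n : ℕ, ∀ (R : Subgroup Ω) (θ : Q →* Ω) (_ : θ ∈ F.Hom Q) (hθR : ∀ x, θ x ∈ R),
      F.IsFullyNormalized R → Nat.card S - Nat.card R = n → ExtProp F Q R θ hθR →
        GoodAt p F Q := by
  intro n
  induction n using Nat.strong_induction_on with
  | _ n ih =>
    intro R θ hθ hθR hRn hn hE
    have hRS := hRn.1
    haveI : Finite ↥(normalizerIn S R) := Fusion.finite_of_le inf_le_left
    obtain ⟨N, hN⟩ := Cfsg.Agent.S5096.result F R hRS
    have hNn : N.IsNormal R := Fusion.normalizerSystem_isNormal F hRS N hN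
    have hRcore : R ≤ N.core := le_sSup hNn
    have hcoreN : N.IsNormal N.core := Fusion.core_isNormal N
    have hcoreS : N.core ≤ S := hcoreN.1.trans inf_le_left
    -- general enlargement step
    have step : ∀ (R2 : Subgroup Ω) (hRR2 : R ≤ R2), R2 ≤ S → R2 ≠ R →
        (∀ β ∈ F.autGroup R, ∃ γ ∈ F.autGroup R2, ∀ y : R,
          ((γ (Subgroup.inclusion hRR2 y) : R2) : Ω) = β y) → GoodAt p F Q := by
      intro R2 hRR2 hR2S hne hX
      obtain ⟨R2', ⟨φ, hφ, hr⟩, hR2'n⟩ := Fusion.exists_isConj_fullyNormalized F hR2S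
      obtain ⟨θ', hθ', h', hE'⟩ := extProp_step F θ hθ hθR hE hRR2 hX φ hφ hr
      haveI : Finite R2 := Fusion.finite_of_le hR2S
      have hlt : Nat.card R < Nat.card R2 := by
        by_contra hnot
        rw [not_lt] at hnot
        exact hne (Subgroup.eq_of_le_of_card_ge hRR2 hnot).symm
      have hcard : Nat.card R2 = Nat.card R2' := Fusion.card_eq_of_isConj F ⟨φ, hφ, hr⟩
      have hle : Nat.card R2' ≤ Nat.card S := Subgroup.card_le_of_le hR2'n.1
      exact ih (Nat.card S - Nat.card R2') (by omega) R2' θ' hθ' h' hR2'n rfl hE'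
    by_cases hcore : N.core = R
    · by_cases hcen : centralizerIn S R ≤ R
      · exact goodAt_final p hS F hF h θ hθ hθR hRn hE N hN hcore hcen
      · -- enlarge to `R C_S(R)`
        have hfc := (Fusion.fullyCentralized_fullyAutomized_of_fullyNormalized p hS F hF hRn).1
        have hrec := Fusion.receptive_of_fullyCentralized p hS F hF hfc
        refine step (R ⊔ centralizerIn S R) le_sup_left (sup_le hRS inf_le_left) ?_ ?_
        · intro heq
          exact hcen (le_sup_right.trans heq.le)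
        · intro β hβ
          exact exists_aut_sup_centralizerIn_extension F hrec β hβ
    · -- enlarge to the core
      refine step N.core hRcore hcoreS hcore ?_
      intro β hβ
      have hβN : β ∈ N.autGroup R := by
        rw [Fusion.normalizerSystem_autGroup F hRS N hN]; exact hβ
      have hRN : R ≤ normalizerIn S R := Fusion.le_normalizerIn hRS
      have hφ := (Fusion.mem_autGroup_iff N hRN β).mp hβN
      obtain ⟨γ, hγ, hγx⟩ := Fusion.exists_aut_extension_of_isNormal N hcoreN R hRcore _ hφ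
      exact ⟨γ, autGroup_normSys_le F N hN hcoreN.1 γ hγ, fun y => hγx y⟩

/-- The statement of S5281. -/
theorem main_cr [Finite S] (p : ℕ) [Fact p.Prime] (hS : IsPGroup p S) (F : Cfsg.FusionSystem S)
    (hF : F.IsSaturated p) :
    (∀ Q : Subgroup Ω, F.IsFullyNormalized Q → ∀ χ : MulAut ↥Q, χ ∈ F.autGroup Q →
      (∀ a : ↥Q, (χ a⁻¹) * a * (χ a⁻¹) * (χ (χ a)) = 1) →
      χ ∈ ((Cfsg.pCore p ↥(F.autGroup Q)).map (F.autGroup Q).subtype : Subgroup (MulAut ↥Q))) ↔
    ∀ R : Subgroup Ω, F.IsFullyNormalized R → F.IsCentric R → F.IsRadical p R →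
      ∀ N : Cfsg.FusionSystem (Cfsg.FusionSystem.normalizerIn S R), F.IsNormalizerSystem R N →
      (∀ Q : Subgroup Ω, N.IsFullyNormalized Q → ∀ χ : MulAut ↥Q, χ ∈ N.autGroup Q →
        (∀ a : ↥Q, (χ a⁻¹) * a * (χ a⁻¹) * (χ (χ a)) = 1) →
        χ ∈ ((Cfsg.pCore p ↥(N.autGroup Q)).map (N.autGroup Q).subtype :
          Subgroup (MulAut ↥Q))) := by
  constructor
  · intro hst R _ _ _ N hN Q hQ χ hχ hquad
    exact forward p F hst N hN hQ.1 χ hχ hquad
  · intro h Q hQ χ hχ hquad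
    have hQS := hQ.1
    refine backward_aux p hS F hF h Q _ Q Q.subtype (Fusion.subtype_mem F hQS) (fun x => x.2) hQ rfl
      ?_ χ hχ hquad
    intro α hα
    exact ⟨α, hα, fun x => rfl⟩

end Cfsg.Agent.Lead.PStab
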