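import Mathlib
import Cfsg.Prelude.Def_FusionSystem
import Cfsg.Agent.Lead.FusionRealized
import Cfsg.Agent.Lead.FusionAut

set_option autoImplicit false

/-!
The fusion system over `T` consisting of the restrictions of a group `A` of automorphisms of `T`
containing the inner ones; saturation when `A` is generated by the inner automorphisms and an
automorphism of order prime to `p`.
-/

namespace Cfsg.Agent.Lead.AutSys

open Cfsg Cfsg.FusionSystem Cfsg.Agent.Lead

variable {Ω : Type*} [Group Ω]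

/-- the system over `T` of restrictions of elements of `A` -/
def autSys (T : Subgroup Ω) (A : Subgroup (MulAut T)) (hA : Inn T ≤ A) : FusionSystem T where
  Hom P := {φ | ∃ hP : P ≤ T, ∃ α ∈ A, ∀ x : P, φ x = ((α (Subgroup.inclusion hP x) : T) : Ω)}
  le_of_mem := by
    rintro P φ ⟨hP, α, -, h⟩
    exact ⟨hP, fun x => by rw [h x]; exact (α _).2⟩
  injective_of_mem := by
    rintro P φ ⟨hP, α, -, h⟩ a b hab
    rw [h a, h b] at hab
    exact Subgroup.inclusion_injective hP (α.injective (Subtype.ext hab))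
  conj_mem := by
    intro P g hP hg
    exact ⟨hP, MulAut.conj ⟨g, hg⟩, hA ⟨_, rfl⟩, fun x => rfl⟩
  comp_mem := by
    rintro P Q φ ψ ⟨hP, α, hα, h1⟩ ⟨hQ, α', hα', h2⟩ h
    refine ⟨hP, α' * α, A.mul_mem hα' hα, fun x => ?_⟩
    show ψ (φ.codRestrict Q h x) = _
    rw [h2, MulAut.mul_apply]
    have : Subgroup.inclusion hQ (φ.codRestrict Q h x) = α (Subgroup.inclusion hP x) :=
      Subtype.ext (h1 x)
    rw [this]
  inv_mem := by
    rintro P φ ⟨hP, α, hα, h1⟩
    have hr : φ.range ≤ T := by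
      rintro _ ⟨x, rfl⟩
      rw [h1]
      exact (α _).2
    refine ⟨T.subtype.comp ((α⁻¹ : MulAut T).toMonoidHom.comp (Subgroup.inclusion hr)),
      ⟨hr, α⁻¹, A.inv_mem hα, fun y => rfl⟩, ?_⟩
    intro x
    show ((α⁻¹ (Subgroup.inclusion hr ⟨φ x, ⟨x, rfl⟩⟩) : T) : Ω) = x
    have : Subgroup.inclusion hr ⟨φ x, ⟨x, rfl⟩⟩ = α (Subgroup.inclusion hP x) :=
      Subtype.ext (h1 x)
    rw [this, MulAut.inv_apply_self]
    rfl

theorem mem_autSys (T : Subgroup Ω) (A : Subgroup (MulAut T)) (hA : Inn T ≤ A) (P : Subgroup Ω)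
    (φ : P →* Ω) : φ ∈ (autSys T A hA).Hom P ↔
      ∃ hP : P ≤ T, ∃ α ∈ A, ∀ x : P, φ x = ((α (Subgroup.inclusion hP x) : T) : Ω) := Iff.rfl

theorem autSys_autGroup (T : Subgroup Ω) (A : Subgroup (MulAut T)) (hA : Inn T ≤ A) :
    (autSys T A hA).autGroup T = A := by
  ext α
  rw [Fusion.mem_autGroup_iff _ le_rfl, mem_autSys]
  constructor
  · rintro ⟨hP, α', hα', h⟩
    have : α = α' := by
      ext x
      exact h x
    rw [this]
    exact hα'
  · intro hα
    exact ⟨le_rfl, α, hα, fun x => rfl⟩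

theorem autSys_isSubsystemOf {S : Subgroup Ω} (F : FusionSystem S) (T : Subgroup Ω) (hTS : T ≤ S)
    (A : Subgroup (MulAut T)) (hA : Inn T ≤ A) (hAF : A ≤ F.autGroup T) :
    (autSys T A hA).IsSubsystemOf F := by
  rintro P φ ⟨hP, α, hα, h⟩
  have h1 := (Fusion.mem_autGroup_iff F hTS α).1 (hAF hα)
  have h2 := Fusion.restrict_mem F h1 hP
  convert h2 using 1
  ext x
  exact h x

theorem le_inn_of_inner (T : Subgroup Ω) (A : Subgroup (MulAut T)) (hA : Inn T ≤ A)
    (h : (autSys T A hA).Hom T = (innerFusionSystem T).Hom T) : A ≤ Inn T := by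
  intro α hα
  have h1 : T.subtype.comp α.toMonoidHom ∈ (autSys T A hA).Hom T :=
    ⟨le_rfl, α, hα, fun x => rfl⟩
  rw [h] at h1
  obtain ⟨-, g, hg, hgx⟩ := h1
  refine ⟨⟨g, hg⟩, ?_⟩
  ext x
  exact (hgx x).symm

theorem inn_normal (T : Type*) [Group T] : (Inn T).Normal := by
  constructor
  rintro _ ⟨n, rfl⟩ α
  refine ⟨α n, ?_⟩
  ext x
  simp [MulAut.conj_apply]

/-- realization by a semidirect product -/
theorem autSys_isRealizedBy (T : Subgroup Ω) (K : Subgroup (MulAut T)) :
    (autSys T (Inn T ⊔ K) le_sup_left).IsRealizedBy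
      (SemidirectProduct.inl : T →* T ⋊[K.subtype] K) := by
  haveI := inn_normal T
  refine ⟨SemidirectProduct.inl_injective, ?_⟩
  intro P hP φ hφ
  constructor
  · rintro ⟨_, α, hα, h⟩
    have hα' : α ∈ ((Inn T ⊔ K : Subgroup (MulAut T)) : Set (MulAut T)) := hα
    rw [Subgroup.normal_mul, Set.mem_mul] at hα'
    obtain ⟨i, ⟨n, rfl⟩, k, hk, rfl⟩ := hα'
    refine ⟨SemidirectProduct.inl n * SemidirectProduct.inr ⟨k, hk⟩, fun x => ?_⟩
    have e : (⟨φ x, hφ x⟩ : T) = n * k ⟨x, hP x.2⟩ * n⁻¹ := by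
      apply Subtype.ext
      show φ x = _
      rw [h x]
      rfl
    rw [e, mul_inv_rev, ← map_inv, map_mul, map_mul, map_inv]
    have := SemidirectProduct.inl_aut (φ := K.subtype) ⟨k, hk⟩ (⟨x, hP x.2⟩ : T)
    rw [show (K.subtype ⟨k, hk⟩) = k from rfl] at this
    rw [this]
    simp only [mul_assoc]
  · rintro ⟨g, hg⟩
    obtain ⟨n, k, rfl⟩ : ∃ (n : T) (k : K), SemidirectProduct.inl n * SemidirectProduct.inr k = g :=
      ⟨g.left, g.right, SemidirectProduct.inl_left_mul_inr_right g⟩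
    refine ⟨hP, MulAut.conj n * (k : MulAut T), ?_, fun x => ?_⟩
    · exact Subgroup.mul_mem _ (Subgroup.mem_sup_left ⟨n, rfl⟩) (Subgroup.mem_sup_right k.2)
    · have h1 := hg x
      have h2 := SemidirectProduct.inl_aut (φ := K.subtype) k (⟨x, hP x.2⟩ : T)
      have h3 : (SemidirectProduct.inl n * SemidirectProduct.inr k : T ⋊[K.subtype] K) *
          SemidirectProduct.inl (⟨x, hP x.2⟩ : T) *
          (SemidirectProduct.inl n * SemidirectProduct.inr k)⁻¹ =
          SemidirectProduct.inl (n * (k : MulAut T) ⟨x, hP x.2⟩ * n⁻¹) := by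
        rw [map_mul, map_mul, map_inv, mul_inv_rev, ← map_inv SemidirectProduct.inr]
        rw [show (K.subtype k) = (k : MulAut T) from rfl] at h2
        rw [h2]
        simp only [mul_assoc, map_inv]
      rw [h3] at h1
      have h4 := SemidirectProduct.inl_injective h1
      have h5 := congrArg Subtype.val h4
      exact h5

theorem autSys_saturated (T : Subgroup Ω) [Finite T] (p : ℕ) [Fact p.Prime] (hT : IsPGroup p T)
    (β : MulAut T) (hβ : (orderOf β).Coprime p) :
    (autSys T (Inn T ⊔ Subgroup.zpowers β) le_sup_left).IsSaturated p := by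
  haveI : Finite (MulAut T) := Finite.of_injective (fun α : MulAut T => (α : T → T))
    (fun a b h => DFunLike.coe_injective h)
  obtain ⟨K, hK⟩ : ∃ K : Subgroup (MulAut T), K = Subgroup.zpowers β := ⟨_, rfl⟩
  rw [← hK]
  haveI : Finite (T ⋊[K.subtype] K) := Finite.of_equiv _ SemidirectProduct.equivProd.symm
  have hcard : Nat.card (T ⋊[K.subtype] K) = Nat.card T * Nat.card K := by
    rw [Nat.card_congr SemidirectProduct.equivProd, Nat.card_prod]
  have hrange : Nat.card (SemidirectProduct.inl : T →* T ⋊[K.subtype] K).range = Nat.card T :=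
    Nat.card_congr (MonoidHom.ofInjective SemidirectProduct.inl_injective).symm.toEquiv
  have hidx : (SemidirectProduct.inl : T →* T ⋊[K.subtype] K).range.index = Nat.card K := by
    have := Subgroup.card_mul_index (SemidirectProduct.inl : T →* T ⋊[K.subtype] K).range
    rw [hcard, hrange] at this
    exact Nat.eq_of_mul_eq_mul_left Nat.card_pos this
  have hpg : IsPGroup p (SemidirectProduct.inl : T →* T ⋊[K.subtype] K).range :=
    hT.of_surjective _ (MonoidHom.rangeRestrict_surjective _)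
  have hnd : ¬ p ∣ (SemidirectProduct.inl : T →* T ⋊[K.subtype] K).range.index := by
    rw [hidx, hK, Nat.card_zpowers]
    exact fun h => (Nat.Prime.coprime_iff_not_dvd Fact.out).1 hβ.symm h
  exact Fusion.isSaturated_of_isRealizedBy p _ _ (autSys_isRealizedBy T K) (hpg.toSylow hnd)
    (IsPGroup.toSylow_coe hpg hnd)

end Cfsg.Agent.Lead.AutSys
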