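import Mathlib
import Cfsg.Prelude.Def_FusionSystem
import Cfsg.Agent.Lead.FusionSat3
import Cfsg.Agent.Lead.FusionExt
import Cfsg.Agent.Lead.FusionWeak
import Cfsg.Agent.Lead.FusionMorph
import Cfsg.Agent.Lead.FusionInvariant
import Cfsg.Agent.Lead.FusionAlperin
import Cfsg.Agent.Lead.SylowLemmas

set_option autoImplicit false

namespace Cfsg.Agent.Lead.StrongInv

open Cfsg Cfsg.FusionSystem Cfsg.Agent.Lead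

variable {Ω : Type*} [Group Ω] {S T : Subgroup Ω}

theorem app_congr {H : Subgroup Ω} {M : Type*} (f : H → M) {x y : Ω} (hx : x ∈ H) (hy : y ∈ H)
    (h : x = y) : f ⟨x, hx⟩ = f ⟨y, hy⟩ := by
  subst h; rfl

/-- The strong invariance condition. -/
def SI (F : FusionSystem S) (E : FusionSystem T) : Prop :=
  ∀ (P Q : Subgroup Ω) (hPQ : P ≤ Q) (_ : Q ≤ T) (φ : P →* Ω) (_ : φ ∈ E.Hom P)
    (hφQ : ∀ x : P, φ x ∈ Q) (ψ : Q →* Ω) (_ : ψ ∈ F.Hom Q),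
    ∃ χ ∈ E.Hom ((P.subgroupOf Q).map ψ),
      ∀ (x : P) (hx : ψ (Subgroup.inclusion hPQ x) ∈ (P.subgroupOf Q).map ψ),
        χ ⟨ψ (Subgroup.inclusion hPQ x), hx⟩ = ψ ⟨φ x, hφQ x⟩

theorem conj_of_SI (F : FusionSystem S) (E : FusionSystem T) (hSI : SI F E) {R : Subgroup Ω}
    (hRT : R ≤ T) {θ : R →* Ω} (hθ : θ ∈ E.Hom R) {γ : T →* Ω} (hγ : γ ∈ F.Hom T)
    (R' : Subgroup Ω)
    (hR' : ∀ z, z ∈ R' ↔ ∃ (r : Ω) (hr : r ∈ R), γ ⟨r, hRT hr⟩ = z) :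
    ∃ χ ∈ E.Hom R', ∀ (r : Ω) (hr : r ∈ R) (hr' : γ ⟨r, hRT hr⟩ ∈ R'),
      χ ⟨γ ⟨r, hRT hr⟩, hr'⟩ = γ ⟨θ ⟨r, hr⟩, (E.le_of_mem hθ).2 ⟨r, hr⟩⟩ := by
  obtain ⟨χ, hχ, hχv⟩ := hSI R T hRT le_rfl θ hθ (fun x => (E.le_of_mem hθ).2 x) γ hγ
  have heq : (R.subgroupOf T).map γ = R' := by
    ext z
    rw [hR']
    constructor
    · rintro ⟨t, ht, rfl⟩
      exact ⟨t.1, ht, rfl⟩
    · rintro ⟨r, hr, rfl⟩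
      exact ⟨⟨r, hRT hr⟩, hr, rfl⟩
  obtain ⟨χ', hχ', hχ'v⟩ := Fusion.exists_hom_of_eq E heq hχ
  refine ⟨χ', hχ', fun r hr hr' => ?_⟩
  have h1 : γ ⟨r, hRT hr⟩ ∈ (R.subgroupOf T).map γ := heq ▸ hr'
  rw [hχ'v _ h1 hr']
  exact hχv ⟨r, hr⟩ h1

/-- The maps of the form `α ∘ φ₀` with `α ∈ Aut_F(T)` and `φ₀` in `E`. -/
def Good (F : FusionSystem S) (E : FusionSystem T) (P : Subgroup Ω) (φ : P →* Ω) : Prop :=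
  ∃ (α : T →* Ω) (_ : α ∈ F.Hom T) (φ₀ : P →* Ω) (h₀ : φ₀ ∈ E.Hom P),
    ∀ x : P, φ x = α ⟨φ₀ x, (E.le_of_mem h₀).2 x⟩

theorem good_of_mem (F : FusionSystem S) (E : FusionSystem T) (hTS : T ≤ S) {P : Subgroup Ω}
    {φ : P →* Ω} (hφ : φ ∈ E.Hom P) : Good F E P φ :=
  ⟨T.subtype, Fusion.subtype_mem F hTS, φ, hφ, fun _ => rfl⟩

theorem good_restrict_top (F : FusionSystem S) (E : FusionSystem T) {α : T →* Ω}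
    (hα : α ∈ F.Hom T) {P : Subgroup Ω} (hPT : P ≤ T) :
    Good F E P (α.comp (Subgroup.inclusion hPT)) :=
  ⟨α, hα, P.subtype, Fusion.subtype_mem E hPT, fun _ => rfl⟩

theorem good_restrict (F : FusionSystem S) (E : FusionSystem T) {P R : Subgroup Ω} {φ : P →* Ω}
    (h : Good F E P φ) (hRP : R ≤ P) : Good F E R (φ.comp (Subgroup.inclusion hRP)) := by
  obtain ⟨α, hα, φ₀, h₀, hv⟩ := h
  exact ⟨α, hα, φ₀.comp (Subgroup.inclusion hRP), Fusion.restrict_mem E h₀ hRP, fun x => hv _⟩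

theorem good_congr (F : FusionSystem S) (E : FusionSystem T) {P : Subgroup Ω} {φ φ' : P →* Ω}
    (h : Good F E P φ) (heq : ∀ x, φ' x = φ x) : Good F E P φ' := by
  obtain ⟨α, hα, φ₀, h₀, hv⟩ := h
  exact ⟨α, hα, φ₀, h₀, fun x => (heq x).trans (hv x)⟩

theorem exists_top_inv [Finite S] (F : FusionSystem S) (hT : F.StronglyClosed T) {α : T →* Ω}
    (hα : α ∈ F.Hom T) :
    ∃ α' ∈ F.Hom T, (∀ t : T, ∀ h : α t ∈ T, α' ⟨α t, h⟩ = (t : Ω)) ∧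
      (∀ t : T, ∀ h : α' t ∈ T, α ⟨α' t, h⟩ = (t : Ω)) := by
  have hr : α.range = T := (Fusion.weaklyClosed_of_stronglyClosed F hT).2 α hα
  obtain ⟨α', hα', hinv, hr'⟩ := Fusion.exists_inv F hα hr
  refine ⟨α', hα', hinv, fun t h => ?_⟩
  have ht : (t : Ω) ∈ α.range := by rw [hr]; exact t.2
  obtain ⟨s, hs⟩ := ht
  have h1 : α s ∈ T := hs ▸ t.2
  have h2 : α' t = (s : Ω) := by
    rw [← hinv s h1]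
    exact app_congr α' t.2 h1 hs.symm
  rw [← hs]
  exact app_congr α h s.2 h2

theorem map_top_mem (F : FusionSystem S) (hT : F.StronglyClosed T) {α : T →* Ω}
    (hα : α ∈ F.Hom T) (t : T) : α t ∈ T := hT.2 T le_rfl α hα t

theorem good_comp [Finite S] (F : FusionSystem S) (E : FusionSystem T) (hSI : SI F E)
    (hT : F.StronglyClosed T) {P Q : Subgroup Ω} {φ : P →* Ω} {ψ : Q →* Ω} (hQT : Q ≤ T)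
    (hφ : Good F E P φ) (hψ : Good F E Q ψ) (h : ∀ x : P, φ x ∈ Q) :
    Good F E P (ψ.comp (φ.codRestrict Q h)) := by
  obtain ⟨α, hα, φ₀, h₀, hv⟩ := hφ
  obtain ⟨β, hβ, ψ₀, hψ₀, hw⟩ := hψ
  obtain ⟨α', hα', hinv1, hinv2⟩ := exists_top_inv F hT hα
  have hmr : ∀ x : P, φ x ∈ φ.range := fun x => ⟨x, rfl⟩
  have hmr₀ : ∀ x : P, φ₀ x ∈ φ₀.range := fun x => ⟨x, rfl⟩
  have hRQ : φ.range ≤ Q := by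
    rintro _ ⟨x, rfl⟩
    exact h x
  have hRT : φ.range ≤ T := hRQ.trans hQT
  have hθ : ψ₀.comp (Subgroup.inclusion hRQ) ∈ E.Hom φ.range := Fusion.restrict_mem E hψ₀ hRQ
  have hφ₀T : ∀ x : P, φ₀ x ∈ T := (E.le_of_mem h₀).2
  have hψ₀T : ∀ y : Q, ψ₀ y ∈ T := (E.le_of_mem hψ₀).2
  have hαT : ∀ t : T, α t ∈ T := map_top_mem F hT hα
  have hα'T : ∀ t : T, α' t ∈ T := map_top_mem F hT hα'
  -- `α' (φ x) = φ₀ x`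
  have hkey : ∀ x : P, α' ⟨φ x, hRT (hmr x)⟩ = φ₀ x := fun x =>
    (app_congr α' _ (hαT ⟨φ₀ x, hφ₀T x⟩) (hv x)).trans (hinv1 ⟨φ₀ x, hφ₀T x⟩ (hαT _))
  have hR' : ∀ z, z ∈ φ₀.range ↔ ∃ (r : Ω) (hr : r ∈ φ.range), α' ⟨r, hRT hr⟩ = z := by
    intro z
    constructor
    · rintro ⟨x, rfl⟩
      exact ⟨φ x, hmr x, hkey x⟩
    · rintro ⟨_, ⟨x, rfl⟩, rfl⟩
      exact ⟨x, (hkey x).symm⟩
  obtain ⟨χ, hχ, hχv⟩ := conj_of_SI F E hSI hRT hθ hα' φ₀.range hR'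
  have hχT : ∀ y : φ₀.range, χ y ∈ T := (E.le_of_mem hχ).2
  have hφ₀' := E.comp_mem h₀ hχ hmr₀
  have hα'' := F.comp_mem hα hβ hαT
  refine ⟨_, hα'', _, hφ₀', fun x => ?_⟩
  show ψ ⟨φ x, h x⟩ = β ⟨α ⟨χ ⟨φ₀ x, hmr₀ x⟩, _⟩, _⟩
  have h1 : χ ⟨α' ⟨φ x, hRT (hmr x)⟩, (hR' _).mpr ⟨φ x, hmr x, rfl⟩⟩ =
      α' ⟨ψ₀ ⟨φ x, h x⟩, hψ₀T _⟩ := hχv (φ x) (hmr x) ((hR' _).mpr ⟨φ x, hmr x, rfl⟩)
  have h2 : χ ⟨φ₀ x, hmr₀ x⟩ = α' ⟨ψ₀ ⟨φ x, h x⟩, hψ₀T _⟩ :=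
    (app_congr χ _ _ (hkey x).symm).trans h1
  have h3 : α ⟨χ ⟨φ₀ x, hmr₀ x⟩, hχT _⟩ = ψ₀ ⟨φ x, h x⟩ :=
    (app_congr α _ (hα'T ⟨ψ₀ ⟨φ x, h x⟩, hψ₀T _⟩) h2).trans
      (hinv2 ⟨ψ₀ ⟨φ x, h x⟩, hψ₀T _⟩ (hα'T _))
  exact (hw ⟨φ x, h x⟩).trans (app_congr β _ _ h3.symm)

theorem good_inv [Finite S] (F : FusionSystem S) (E : FusionSystem T) (hSI : SI F E)
    (hT : F.StronglyClosed T) {P Q : Subgroup Ω} {φ : P →* Ω} (hPT : P ≤ T)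
    (hφ : Good F E P φ) (hr : φ.range = Q) {ψ : Q →* Ω}
    (hψinv : ∀ x : P, ∀ h : φ x ∈ Q, ψ ⟨φ x, h⟩ = (x : Ω)) : Good F E Q ψ := by
  subst hr
  obtain ⟨α, hα, φ₀, h₀, hv⟩ := hφ
  obtain ⟨α', hα', hinv1, hinv2⟩ := exists_top_inv F hT hα
  obtain ⟨φ₀', hφ₀', hφ₀'inv⟩ := E.inv_mem h₀
  have hmr : ∀ x : P, φ x ∈ φ.range := fun x => ⟨x, rfl⟩
  have hmr₀ : ∀ x : P, φ₀ x ∈ φ₀.range := fun x => ⟨x, rfl⟩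
  have hφ₀T : ∀ x : P, φ₀ x ∈ T := (E.le_of_mem h₀).2
  have hφ₀'T : ∀ y : φ₀.range, φ₀' y ∈ T := (E.le_of_mem hφ₀').2
  have hαT : ∀ t : T, α t ∈ T := map_top_mem F hT hα
  have hR₀T : φ₀.range ≤ T := by
    rintro _ ⟨x, rfl⟩
    exact hφ₀T x
  have hR' : ∀ z, z ∈ φ.range ↔ ∃ (r : Ω) (hr : r ∈ φ₀.range), α ⟨r, hR₀T hr⟩ = z := by
    intro z
    constructor
    · rintro ⟨x, rfl⟩
      exact ⟨φ₀ x, hmr₀ x, (hv x).symm⟩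
    · rintro ⟨_, ⟨x, rfl⟩, rfl⟩
      exact ⟨x, hv x⟩
  obtain ⟨χ, hχ, hχv⟩ := conj_of_SI F E hSI hR₀T hφ₀' hα φ.range hR'
  have hχT : ∀ y : φ.range, χ y ∈ T := (E.le_of_mem hχ).2
  refine ⟨α', hα', χ, hχ, ?_⟩
  rintro ⟨_, x, rfl⟩
  have h0 : ψ ⟨φ x, hmr x⟩ = (x : Ω) := hψinv x (hmr x)
  have h1 : χ ⟨α ⟨φ₀ x, hR₀T (hmr₀ x)⟩, (hR' _).mpr ⟨φ₀ x, hmr₀ x, rfl⟩⟩ =
      α ⟨φ₀' ⟨φ₀ x, hmr₀ x⟩, hφ₀'T _⟩ :=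
    hχv (φ₀ x) (hmr₀ x) ((hR' _).mpr ⟨φ₀ x, hmr₀ x, rfl⟩)
  have h2 : χ ⟨φ x, hmr x⟩ = α ⟨(x : Ω), hPT x.2⟩ :=
    ((app_congr χ _ _ (hv x)).trans h1).trans (app_congr α _ _ (hφ₀'inv x))
  have h3 : α' ⟨χ ⟨φ x, hmr x⟩, hχT _⟩ = (x : Ω) :=
    (app_congr α' _ (hαT ⟨(x : Ω), hPT x.2⟩) h2).trans (hinv1 ⟨(x : Ω), hPT x.2⟩ (hαT _))
  exact h0.trans h3.symm

end Cfsg.Agent.Lead.StrongInv
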