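import Mathlib
import Cfsg.Agent.Lead.FusionStrongInvA
import Cfsg.Agent.Lead.FusionInner

set_option autoImplicit false

namespace Cfsg.Agent.Lead.StrongInv

open Cfsg Cfsg.FusionSystem Cfsg.Agent.Lead

variable {Ω : Type*} [Group Ω] {S T : Subgroup Ω}

theorem autGroup_le_of_subsystem (F : FusionSystem S) (E : FusionSystem T)
    (hsub : E.IsSubsystemOf F) (P : Subgroup Ω) : E.autGroup P ≤ F.autGroup P := by
  unfold FusionSystem.autGroup
  apply Subgroup.closure_mono
  intro α hα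
  exact hsub P hα

theorem range_aut (P : Subgroup Ω) (b : MulAut P) : (P.subtype.comp b.toMonoidHom).range = P := by
  ext y
  constructor
  · rintro ⟨x, rfl⟩
    exact (b x).2
  · intro hy
    refine ⟨b.symm ⟨y, hy⟩, ?_⟩
    show ((b (b.symm ⟨y, hy⟩) : P) : Ω) = y
    simp

/-- `Aut_E(P)` is normalized by `Aut_F(P)` under strong invariance. -/
theorem conj_mem_autGroup (F : FusionSystem S) (E : FusionSystem T) (hSI : SI F E) (hTS : T ≤ S)
    {P : Subgroup Ω} (hPT : P ≤ T) (b a : MulAut P) (hb : b ∈ F.autGroup P)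
    (ha : a ∈ E.autGroup P) : b * a * b⁻¹ ∈ E.autGroup P := by
  have hPS : P ≤ S := hPT.trans hTS
  have hφ := (Fusion.mem_autGroup_iff E hPT a).mp ha
  have hψ := (Fusion.mem_autGroup_iff F hPS b).mp hb
  obtain ⟨χ, hχ, hχv⟩ := hSI P P le_rfl hPT _ hφ (fun x => (a x).2) _ hψ
  have heq : (P.subgroupOf P).map (P.subtype.comp b.toMonoidHom) = P := by
    ext y
    constructor
    · rintro ⟨x, -, rfl⟩
      exact (b x).2
    · intro hy
      refine ⟨b.symm ⟨y, hy⟩, ?_, ?_⟩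
      · rw [SetLike.mem_coe, Subgroup.mem_subgroupOf]; exact (b.symm ⟨y, hy⟩).2
      · show ((b (b.symm ⟨y, hy⟩) : P) : Ω) = y
        simp
  obtain ⟨χ', hχ', hχ'v⟩ := Fusion.exists_hom_of_eq E heq hχ
  rw [Fusion.mem_autGroup_iff E hPT]
  convert hχ' using 1
  ext y
  show (((b * a * b⁻¹) y : P) : Ω) = χ' y
  have hmem : (P.subtype.comp b.toMonoidHom) (Subgroup.inclusion le_rfl (b⁻¹ y)) ∈
      (P.subgroupOf P).map (P.subtype.comp b.toMonoidHom) := by
    rw [heq]
    exact (b (b⁻¹ y)).2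
  have h1 := hχv (b⁻¹ y) hmem
  have h2 : χ' y = χ ⟨(P.subtype.comp b.toMonoidHom) (Subgroup.inclusion le_rfl (b⁻¹ y)), hmem⟩ := by
    have h3 : ((P.subtype.comp b.toMonoidHom) (Subgroup.inclusion le_rfl (b⁻¹ y)) : Ω) = (y : Ω) := by
      show ((b (b⁻¹ y) : P) : Ω) = y
      simp
    have := hχ'v _ hmem (h3 ▸ y.2)
    rw [← this]
    exact app_congr χ' _ _ h3.symm
  rw [h2, h1]
  rfl

theorem good_aut [Finite S] (p : ℕ) [Fact p.Prime] (hS : IsPGroup p S) (F : FusionSystem S)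
    (E : FusionSystem T) (hSI : SI F E) (hT : F.StronglyClosed T) (hsub : E.IsSubsystemOf F)
    {P : Subgroup Ω} (hPT : P ≤ T) (hne : P ≠ T) (hfa : F.IsFullyAutomized p P)
    (hrec : F.IsReceptive P)
    (IH : ∀ (R : Subgroup Ω) (ψ : R →* Ω), R ≤ T → ψ ∈ F.Hom R → Nat.card P < Nat.card R →
      Good F E R ψ)
    (b : MulAut P) (hb : b ∈ F.autGroup P) : Good F E P (P.subtype.comp b.toMonoidHom) := by
  have hTS : T ≤ S := hT.1
  have hPS : P ≤ S := hPT.trans hTS
  have hfinT : Finite T := Fusion.finite_of_le hTS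
  have hfinP : Finite P := Fusion.finite_of_le hPS
  have hTp : IsPGroup p T := hS.to_le hTS
  have hEF : E.autGroup P ≤ F.autGroup P := autGroup_le_of_subsystem F E hsub P
  have hUF : autInducedBy S P ≤ F.autGroup P := Fusion.autInducedBy_le_autGroup F hPS
  have hUp : IsPGroup p (autInducedBy S P) := Fusion.isPGroup_autInducedBy p hS P
  have hnorm : F.autGroup P ≤ Subgroup.normalizer ((E.autGroup P : Subgroup (MulAut P)) : Set (MulAut P)) := by
    intro c hc
    apply mem_normalizer_of_conj_mem_of_finite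
    intro a ha
    exact conj_mem_autGroup F E hSI hTS hPT c a hc ha
  have hUcard : Nat.card (autInducedBy S P) = p ^ (Nat.card (F.autGroup P)).factorization p :=
    (exists_sylow_eq_subgroupOf_iff (F.autGroup P) (autInducedBy S P) hUF).mp hfa.2
  have hVcard := card_inf_eq_ppart_of_normal hUF hEF hnorm hUp hUcard
  set V := autInducedBy S P ⊓ E.autGroup P with hV
  have hVp : IsPGroup p V := hUp.to_le inf_le_left
  have hVbE : V.map (MulAut.conj b).toMonoidHom ≤ E.autGroup P := by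
    rintro _ ⟨v, hv, rfl⟩
    exact conj_mem_autGroup F E hSI hTS hPT b v hb hv.2
  obtain ⟨m, hm, hmV⟩ := exists_conj_le_of_card_eq_ppart (inf_le_right : V ≤ E.autGroup P) hVcard
    hVbE (hVp.map _)
  -- `ν = m * b` normalizes `V`
  set ν := m * b with hν
  have hνF : ν ∈ F.autGroup P := Subgroup.mul_mem _ (hEF hm) hb
  have hνV : ∀ v ∈ V, ν * v * ν⁻¹ ∈ V := by
    intro v hv
    have h1 : m * (b * v * b⁻¹) * m⁻¹ ∈ V := hmV ⟨b * v * b⁻¹, ⟨v, hv, rfl⟩, rfl⟩
    have h2 : ν * v * ν⁻¹ = m * (b * v * b⁻¹) * m⁻¹ := by rw [hν]; group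
    rw [h2]; exact h1
  have hνhom := (Fusion.mem_autGroup_iff F hPS ν).mp hνF
  -- the extender contains `N_T(P)`
  have hle : normalizerIn T P ≤ extender S P (P.subtype.comp ν.toMonoidHom) := by
    intro g hg
    obtain ⟨hgT, hgN⟩ := Subgroup.mem_inf.mp hg
    apply Subgroup.subset_closure
    refine ⟨hTS hgT, hgN, ?_⟩
    have hcU : conjAutHom P ⟨g, hgN⟩ ∈ autInducedBy S P :=
      Fusion.conjAutHom_mem_autInducedBy P ⟨g, hgN⟩ (hTS hgT)
    have hcE : conjAutHom P ⟨g, hgN⟩ ∈ E.autGroup P := by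
      rw [Fusion.mem_autGroup_iff E hPT]
      have := E.conj_mem hPT hgT
      convert this using 1
      ext x
      rfl
    have h1 : ν * conjAutHom P ⟨g, hgN⟩ * ν⁻¹ ∈ autInducedBy S P := (hνV _ ⟨hcU, hcE⟩).1
    rw [mem_autInducedBy_iff] at h1
    obtain ⟨h, hhS, hh⟩ := h1
    refine ⟨h, hhS, fun x hx => ?_⟩
    have h2 := hh (ν x)
    show ((ν ⟨g * x * g⁻¹, hx⟩ : P) : Ω) = h * ((ν x : P) : Ω) * h⁻¹
    rw [← h2]
    simp only [MulAut.mul_apply, MulAut.inv_apply_self]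
    rfl
  obtain ⟨ψ', hψ', hext⟩ := hrec.2 P _ hνhom (range_aut P ν)
  have hνhat := Fusion.restrict_mem F hψ' hle
  have hcard : Nat.card P < Nat.card (normalizerIn T P) :=
    Fusion.card_lt_card_normalizerIn hTp hPT hne
  have hG1 := IH _ _ (inf_le_left : normalizerIn T P ≤ T) hνhat hcard
  have hPN : P ≤ normalizerIn T P := Fusion.le_normalizerIn hPT
  have hG2 := good_restrict F E hG1 hPN
  have hGν : Good F E P (P.subtype.comp ν.toMonoidHom) := by
    apply good_congr F E hG2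
    intro x
    exact (hext x.1 x.2 (hle (hPN x.2))).symm
  -- `b = m⁻¹ ν`
  have hm' : m⁻¹ ∈ E.autGroup P := Subgroup.inv_mem _ hm
  have hGm := good_of_mem F E hTS ((Fusion.mem_autGroup_iff E hPT m⁻¹).mp hm')
  have hG3 := good_comp F E hSI hT hPT hGν hGm (fun x => (ν x).2)
  apply good_congr F E hG3
  intro x
  show ((b x : P) : Ω) = ((m⁻¹ (ν x) : P) : Ω)
  rw [hν]
  simp

end Cfsg.Agent.Lead.StrongInv
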