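import Mathlib
import Cfsg.Agent.Lead.FusionStrongInvB

set_option autoImplicit false

namespace Cfsg.Agent.Lead.StrongInv

open Cfsg Cfsg.FusionSystem Cfsg.Agent.Lead

variable {Ω : Type*} [Group Ω] {S T : Subgroup Ω}

theorem exists_good_to_star [Finite S] (p : ℕ) [Fact p.Prime] (hS : IsPGroup p S)
    (F : FusionSystem S) (E : FusionSystem T) (hT : F.StronglyClosed T)
    {P Pstar : Subgroup Ω} (hPT : P ≤ T) (hne : P ≠ T) (hconj : F.IsConj P Pstar)
    (hfa : F.IsFullyAutomized p Pstar) (hrec : F.IsReceptive Pstar)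
    (IH : ∀ (R : Subgroup Ω) (ψ : R →* Ω), R ≤ T → ψ ∈ F.Hom R → Nat.card P < Nat.card R →
      Good F E R ψ) :
    ∃ σ ∈ F.Hom P, σ.range = Pstar ∧ Good F E P σ := by
  have hTS : T ≤ S := hT.1
  have hfinT : Finite T := Fusion.finite_of_le hTS
  have hTp : IsPGroup p T := hS.to_le hTS
  obtain ⟨ρ, hρ, -, hmap⟩ := Fusion.exists_hom_normalizerIn p hS F hfa hrec hconj
  have hle : normalizerIn T P ≤ normalizerIn S P := inf_le_inf_right _ hTS
  have hPN : P ≤ normalizerIn T P := Fusion.le_normalizerIn hPT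
  have hσ' := Fusion.restrict_mem F hρ hle
  have hcard : Nat.card P < Nat.card (normalizerIn T P) :=
    Fusion.card_lt_card_normalizerIn hTp hPT hne
  have hG1 := IH _ _ (inf_le_left : normalizerIn T P ≤ T) hσ' hcard
  have hσ := Fusion.restrict_mem F hσ' hPN
  have hG2 := good_restrict F E hG1 hPN
  refine ⟨_, hσ, ?_, hG2⟩
  rw [← hmap]
  ext y
  constructor
  · rintro ⟨x, rfl⟩
    refine ⟨⟨x.1, hle (hPN x.2)⟩, ?_, rfl⟩
    rw [SetLike.mem_coe, Subgroup.mem_subgroupOf]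
    exact x.2
  · rintro ⟨n, hn, rfl⟩
    rw [SetLike.mem_coe, Subgroup.mem_subgroupOf] at hn
    exact ⟨⟨n.1, hn⟩, rfl⟩

theorem card_eq_of_isConj (F : FusionSystem S) {P Q : Subgroup Ω} (h : F.IsConj P Q) :
    Nat.card Q = Nat.card P := by
  obtain ⟨φ, hφ, hr⟩ := h
  exact (Nat.card_congr (Fusion.equivOfRange φ (F.injective_of_mem hφ) hr).toEquiv).symm

theorem good_all [Finite S] (p : ℕ) [Fact p.Prime] (hS : IsPGroup p S)
    (F : FusionSystem S) (hF : F.IsSaturated p) (E : FusionSystem T) (hSI : SI F E)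
    (hT : F.StronglyClosed T) (hsub : E.IsSubsystemOf F) :
    ∀ (n : ℕ) (P : Subgroup Ω) (φ : P →* Ω), P ≤ T → φ ∈ F.Hom P →
      Nat.card T - Nat.card P = n → Good F E P φ := by
  have hTS : T ≤ S := hT.1
  have hfinT : Finite T := Fusion.finite_of_le hTS
  intro n
  induction n using Nat.strong_induction_on with
  | _ n ih =>
  intro P φ hPT hφ hn
  by_cases hPeq : P = T
  · subst hPeq
    exact ⟨φ, hφ, P.subtype, Fusion.subtype_mem E le_rfl, fun x => rfl⟩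
  · have hPS : P ≤ S := hPT.trans hTS
    have IH' : ∀ (R : Subgroup Ω) (ψ : R →* Ω), R ≤ T → ψ ∈ F.Hom R →
        Nat.card P < Nat.card R → Good F E R ψ := by
      intro R ψ hRT hψ hlt
      have h1 : Nat.card R ≤ Nat.card T := Subgroup.card_le_of_le hRT
      exact ih (Nat.card T - Nat.card R) (by omega) R ψ hRT hψ rfl
    obtain ⟨Pstar, hconj, hfa, hrec⟩ := hF P hPS
    have hPsT : Pstar ≤ T := by
      obtain ⟨φ₁, hφ₁, hr₁⟩ := hconj
      rw [← hr₁]
      rintro _ ⟨x, rfl⟩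
      exact hT.2 P hPT φ₁ hφ₁ x
    have hcs : Nat.card Pstar = Nat.card P := card_eq_of_isConj F hconj
    have hP'T : φ.range ≤ T := by
      rintro _ ⟨x, rfl⟩
      exact hT.2 P hPT φ hφ x
    have hconjP' : F.IsConj P φ.range := ⟨φ, hφ, rfl⟩
    have hcP' : Nat.card φ.range = Nat.card P := card_eq_of_isConj F hconjP'
    have hconj2 : F.IsConj φ.range Pstar :=
      Fusion.isConj_trans F (Fusion.isConj_symm F hconjP') hconj
    have hcardPT : Nat.card P < Nat.card T := by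
      have h1 : Nat.card P ≤ Nat.card T := Subgroup.card_le_of_le hPT
      rcases Nat.lt_or_ge (Nat.card P) (Nat.card T) with h | h
      · exact h
      · exact absurd (Subgroup.eq_of_le_of_card_ge hPT h) hPeq
    have hP'ne : φ.range ≠ T := by
      intro h
      rw [h] at hcP'
      omega
    have hPsne : Pstar ≠ T := by
      intro h
      rw [h] at hcs
      omega
    obtain ⟨σ₁, hσ₁, hr₁, hG₁⟩ := exists_good_to_star p hS F E hT hPT hPeq hconj hfa hrec IH'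
    obtain ⟨σ₂, hσ₂, hr₂, hG₂⟩ := exists_good_to_star p hS F E hT hP'T hP'ne hconj2 hfa hrec
      (fun R ψ hRT hψ hlt => IH' R ψ hRT hψ (hcP' ▸ hlt))
    have hmr : ∀ x : P, φ x ∈ φ.range := fun x => ⟨x, rfl⟩
    -- `τ = σ₂ ∘ φ`
    have hτ := F.comp_mem hφ hσ₂ hmr
    set τ : P →* Ω := σ₂.comp (φ.codRestrict φ.range hmr) with hτdef
    have hτv : ∀ x : P, τ x = σ₂ ⟨φ x, hmr x⟩ := fun x => rfl
    obtain ⟨σ₁', hσ₁', hinv₁, hr₁'⟩ := Fusion.exists_inv F hσ₁ hr₁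
    have hσ₁'P : ∀ y : Pstar, σ₁' y ∈ P := by
      intro y
      rw [← hr₁']
      exact ⟨y, rfl⟩
    have hβ := F.comp_mem hσ₁' hτ hσ₁'P
    set β : Pstar →* Ω := τ.comp (σ₁'.codRestrict P hσ₁'P) with hβdef
    have hβv : ∀ y : Pstar, β y = τ ⟨σ₁' y, hσ₁'P y⟩ := fun y => rfl
    have hσ₁s : ∀ x : P, σ₁ x ∈ Pstar := fun x => hr₁ ▸ ⟨x, rfl⟩
    have hβσ : ∀ x : P, β ⟨σ₁ x, hσ₁s x⟩ = τ x := by
      intro x
      rw [hβv]
      exact app_congr τ _ _ (hinv₁ x (hσ₁s x))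
    have hτs : ∀ x : P, τ x ∈ Pstar := fun x => hr₂ ▸ ⟨_, rfl⟩
    have hrβ : β.range = Pstar := by
      ext y
      constructor
      · rintro ⟨z, rfl⟩
        rw [hβv]
        exact hτs _
      · intro hy
        rw [← hr₂] at hy
        obtain ⟨⟨_, x, rfl⟩, rfl⟩ := hy
        exact ⟨⟨σ₁ x, hσ₁s x⟩, hβσ x⟩
    obtain ⟨b, hb, hbv⟩ := Fusion.exists_aut_of_range_eq F hβ hrβ
    have hGb := good_aut p hS F E hSI hT hsub hPsT hPsne hfa hrec
      (fun R ψ hRT hψ hlt => IH' R ψ hRT hψ (hcs ▸ hlt)) b hb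
    have hGβ : Good F E Pstar β := good_congr F E hGb (fun y => (hbv y).symm)
    have hGτ : Good F E P τ := by
      have h1 := good_comp F E hSI hT hPsT hG₁ hGβ hσ₁s
      exact good_congr F E h1 (fun x => (hβσ x).symm)
    obtain ⟨σ₂', hσ₂', hinv₂, -⟩ := Fusion.exists_inv F hσ₂ hr₂
    have hGσ₂' : Good F E Pstar σ₂' := good_inv F E hSI hT hP'T hG₂ hr₂ hinv₂
    have h2 := good_comp F E hSI hT hPsT hGτ hGσ₂' hτs
    apply good_congr F E h2
    intro x
    show φ x = σ₂' ⟨τ x, hτs x⟩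
    exact (hinv₂ ⟨φ x, hmr x⟩ (hτs x)).symm

end Cfsg.Agent.Lead.StrongInv
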