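import Mathlib
import Cfsg.Agent.Lead.FusionStrongInvC

set_option autoImplicit false

namespace Cfsg.Agent.Lead.StrongInv

open Cfsg Cfsg.FusionSystem Cfsg.Agent.Lead

variable {Ω : Type*} [Group Ω] {S T : Subgroup Ω}

theorem invariant_of_SI [Finite S] (p : ℕ) [Fact p.Prime] (hS : IsPGroup p S)
    (F : FusionSystem S) (hF : F.IsSaturated p) (E : FusionSystem T) (hsub : E.IsSubsystemOf F)
    (hT : F.StronglyClosed T) (hSI : SI F E) : E.IsInvariantIn F := by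
  have hTS : T ≤ S := hT.1
  refine ⟨hsub, hT, ?_, ?_⟩
  · intro P hPT φ hφ α hα
    obtain ⟨χ, hχ, hχv⟩ := hSI P T hPT le_rfl φ hφ (fun x => (E.le_of_mem hφ).2 x)
      (T.subtype.comp α.toMonoidHom) ((Fusion.mem_autGroup_iff F hTS α).mp hα)
    exact ⟨χ, hχ, fun x hφx hαx => hχv x hαx⟩
  · intro P hPT φ hφ
    obtain ⟨α, hα, φ₀, h₀, hv⟩ := good_all p hS F hF E hSI hT hsub _ P φ hPT hφ rfl
    have hr : α.range = T := by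
      have : Finite T := Fusion.finite_of_le hTS
      exact (Fusion.weaklyClosed_of_stronglyClosed F hT).2 α hα
    obtain ⟨a, ha, hav⟩ := Fusion.exists_aut_of_range_eq F hα hr
    refine ⟨a, ha, φ₀, h₀, fun x hx => ?_⟩
    rw [hav]
    exact hv x

theorem SI_of_invariant (F : FusionSystem S) (E : FusionSystem T) (h : E.IsInvariantIn F) :
    SI F E := by
  obtain ⟨hsub, hT, hinv, hfrat⟩ := h
  intro P Q hPQ hQT φ hφ hφQ ψ hψ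
  obtain ⟨α, hα, ψ₀, hψ₀, hψv⟩ := hfrat Q hQT ψ hψ
  have hψ₀T : ∀ y : Q, ψ₀ y ∈ T := (E.le_of_mem hψ₀).2
  have hψ₀P := Fusion.restrict_mem E hψ₀ hPQ
  set ψ₀P : P →* Ω := ψ₀.comp (Subgroup.inclusion hPQ) with hψ₀Pdef
  obtain ⟨ψ', hψ', hψ'inv⟩ := E.inv_mem hψ₀P
  have hmr : ∀ x : P, ψ₀P x ∈ ψ₀P.range := fun x => ⟨x, rfl⟩
  have hψ'P : ∀ y : ψ₀P.range, ψ' y ∈ P := by
    rintro ⟨_, x, rfl⟩
    rw [hψ'inv x]
    exact x.2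
  have hc1 := E.comp_mem hψ' hφ hψ'P
  have hc1Q : ∀ y : ψ₀P.range, (φ.comp (ψ'.codRestrict P hψ'P)) y ∈ Q := fun y => hφQ _
  have hθ := E.comp_mem hc1 hψ₀ hc1Q
  set θ : ψ₀P.range →* Ω :=
    ψ₀.comp ((φ.comp (ψ'.codRestrict P hψ'P)).codRestrict Q hc1Q) with hθdef
  have hθv : ∀ x : P, θ ⟨ψ₀P x, hmr x⟩ = ψ₀ ⟨φ x, hφQ x⟩ := by
    intro x
    show ψ₀ ⟨φ ⟨ψ' ⟨ψ₀P x, hmr x⟩, _⟩, _⟩ = ψ₀ ⟨φ x, hφQ x⟩
    apply app_congr ψ₀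
    exact congrArg φ (Subtype.ext (hψ'inv x))
  have hP₁T : ψ₀P.range ≤ T := by
    rintro _ ⟨x, rfl⟩
    exact hψ₀T _
  obtain ⟨χ, hχ, hχv⟩ := hinv ψ₀P.range hP₁T θ hθ α hα
  have hαψ : ∀ x : P, ((α ⟨ψ₀P x, hP₁T (hmr x)⟩ : T) : Ω) = ψ (Subgroup.inclusion hPQ x) :=
    fun x => (hψv (Subgroup.inclusion hPQ x) (hψ₀T _)).symm
  have heq : (ψ₀P.range.subgroupOf T).map (T.subtype.comp α.toMonoidHom) =
      (P.subgroupOf Q).map ψ := by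
    ext z
    constructor
    · rintro ⟨t, ht, rfl⟩
      rw [SetLike.mem_coe, Subgroup.mem_subgroupOf] at ht
      obtain ⟨x, hx⟩ := ht
      refine ⟨Subgroup.inclusion hPQ x, ?_, ?_⟩
      · rw [SetLike.mem_coe, Subgroup.mem_subgroupOf]; exact x.2
      · rw [← hαψ x]
        show ((α ⟨ψ₀P x, hP₁T (hmr x)⟩ : T) : Ω) = ((α t : T) : Ω)
        congr 2
        exact Subtype.ext hx
    · rintro ⟨q, hq, rfl⟩
      rw [SetLike.mem_coe, Subgroup.mem_subgroupOf] at hq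
      refine ⟨⟨ψ₀P ⟨q.1, hq⟩, hP₁T (hmr _)⟩, ?_, ?_⟩
      · rw [SetLike.mem_coe, Subgroup.mem_subgroupOf]; exact hmr _
      · exact hαψ ⟨q.1, hq⟩
  obtain ⟨χ', hχ', hχ'v⟩ := Fusion.exists_hom_of_eq E heq hχ
  refine ⟨χ', hχ', fun x hx => ?_⟩
  have hθT : θ ⟨ψ₀P x, hmr x⟩ ∈ T := (E.le_of_mem hθ).2 _
  have hmem : ((α ⟨ψ₀P x, hP₁T (hmr x)⟩ : T) : Ω) ∈
      (ψ₀P.range.subgroupOf T).map (T.subtype.comp α.toMonoidHom) := by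
    rw [heq, hαψ x]; exact hx
  have h1 := hχv ⟨ψ₀P x, hmr x⟩ hθT hmem
  have h2 : χ' ⟨ψ (Subgroup.inclusion hPQ x), hx⟩ =
      χ ⟨((α ⟨ψ₀P x, hP₁T (hmr x)⟩ : T) : Ω), hmem⟩ := by
    rw [← hχ'v _ hmem (by rw [hαψ x]; exact hx)]
    exact app_congr χ' _ _ (hαψ x).symm
  rw [h2, h1]
  rw [hψv ⟨φ x, hφQ x⟩ (hψ₀T _)]
  show ((α ⟨θ ⟨ψ₀P x, hmr x⟩, hθT⟩ : T) : Ω) = ((α ⟨ψ₀ ⟨φ x, hφQ x⟩, _⟩ : T) : Ω)
  congr 2
  exact Subtype.ext (hθv x)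

theorem s5119 {Ω : Type*} [Group Ω] {S : Subgroup Ω} [Finite S] (p : ℕ) [Fact p.Prime]
    (hS : IsPGroup p S) (F : Cfsg.FusionSystem S) (hF : F.IsSaturated p) {T : Subgroup Ω}
    (E : Cfsg.FusionSystem T) (hE : E.IsSubsystemOf F) (hT : F.StronglyClosed T) :
    E.IsInvariantIn F ↔ ∀ (P Q : Subgroup Ω) (hPQ : P ≤ Q) (_ : Q ≤ T) (φ : P →* Ω)
      (_ : φ ∈ E.Hom P) (hφQ : ∀ x : P, φ x ∈ Q) (ψ : Q →* Ω) (_ : ψ ∈ F.Hom Q),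
      ∃ χ ∈ E.Hom ((P.subgroupOf Q).map ψ),
        ∀ (x : P) (hx : ψ (Subgroup.inclusion hPQ x) ∈ (P.subgroupOf Q).map ψ),
          χ ⟨ψ (Subgroup.inclusion hPQ x), hx⟩ = ψ ⟨φ x, hφQ x⟩ :=
  ⟨fun h => SI_of_invariant F E h, fun h => invariant_of_SI p hS F hF E hE hT h⟩

end Cfsg.Agent.Lead.StrongInv
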