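import Mathlib
import Cfsg.Prelude.Def_FusionSystem
import Cfsg.Agent.Lead.FusionCentric
import Cfsg.Agent.Lead.FusionAlperin

set_option autoImplicit false

namespace Cfsg.Agent.Lead

open Cfsg Cfsg.FusionSystem

variable {Ω : Type*} [Group Ω] {S : Subgroup Ω}

/-- A centric subgroup is fully centralized. -/
theorem Fusion.fullyCentralized_of_isCentric [Finite S] (F : FusionSystem S) {P : Subgroup Ω}
    (hP : F.IsCentric P) : F.IsFullyCentralized P := by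
  refine ⟨hP.1, fun Q hPQ => ?_⟩
  have hPS := hP.1
  obtain ⟨φ, hφ, hr⟩ := hPQ
  obtain ⟨ψ, hψ, hinv, hrψ⟩ := Fusion.exists_inv F hφ hr
  have hQS : Q ≤ S := Fusion.src_le F hψ
  have hCQ : centralizerIn S Q ≤ Q := hP.2 Q ⟨φ, hφ, hr⟩
  have : Finite (centralizerIn S P) := Fusion.finite_of_le (inf_le_left : centralizerIn S P ≤ S)
  have hmem : ∀ z : centralizerIn S Q, ψ ⟨z.1, hCQ z.2⟩ ∈ centralizerIn S P := by
    intro z
    refine Subgroup.mem_inf.mpr ⟨Fusion.map_mem F hψ _, ?_⟩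
    rw [Subgroup.mem_centralizer_iff]
    intro y hy
    have hyr : y ∈ ψ.range := by rw [hrψ]; exact hy
    obtain ⟨w, rfl⟩ := hyr
    have hz := (Subgroup.mem_inf.mp z.2).2
    rw [Subgroup.mem_centralizer_iff] at hz
    have h1 := hz w.1 w.2
    have h2 : w * ⟨z.1, hCQ z.2⟩ = ⟨z.1, hCQ z.2⟩ * w := Subtype.ext h1
    rw [← map_mul, ← map_mul, h2]
  apply Nat.card_le_card_of_injective (fun z : centralizerIn S Q =>
    (⟨ψ ⟨z.1, hCQ z.2⟩, hmem z⟩ : centralizerIn S P))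
  intro a b hab
  have h1 : ψ ⟨a.1, hCQ a.2⟩ = ψ ⟨b.1, hCQ b.2⟩ :=
    congrArg (fun z : centralizerIn S P => (z : Ω)) hab
  have h2 := F.injective_of_mem hψ h1
  exact Subtype.ext (congrArg (fun z : Q => (z : Ω)) h2)

/-- Being centric passes to subsystems. -/
theorem Fusion.isCentric_of_le_system {F F' : FusionSystem S} (hle : F' ≤ F) {P : Subgroup Ω}
    (hP : F.IsCentric P) : F'.IsCentric P :=
  ⟨hP.1, fun Q ⟨φ, hφ, hr⟩ => hP.2 Q ⟨φ, hle P hφ, hr⟩⟩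

theorem Fusion.isCentric_of_isConj (F : FusionSystem S) {P Q : Subgroup Ω} (hP : F.IsCentric P)
    (hPQ : F.IsConj P Q) : F.IsCentric Q :=
  ⟨Fusion.isConj_tgt_le F hPQ, fun R hQR => hP.2 R (Fusion.isConj_trans F hPQ hQR)⟩

/-- BCGLO: a map of `F` on `R` whose restriction to an `F`-centric subgroup `Q ≤ R` lies in the
saturated subsystem `F'` lies in `F'`. -/
theorem Fusion.mem_of_restrict_centric_mem [Finite S] (p : ℕ) [Fact p.Prime] (hS : IsPGroup p S)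
    (F : FusionSystem S) (hF : F.IsSaturated p) (F' : FusionSystem S) (hF' : F'.IsSaturated p)
    (hle : F' ≤ F) (R : Subgroup Ω) (ψ : R →* Ω) (hψ : ψ ∈ F.Hom R) :
    ∀ (n : ℕ) (Q : Subgroup Ω) (hQR : Q ≤ R), F.IsCentric Q →
      ψ.comp (Subgroup.inclusion hQR) ∈ F'.Hom Q → Nat.card R - Nat.card Q = n →
      ψ ∈ F'.Hom R := by
  have hRS := Fusion.src_le F hψ
  have : Finite R := Fusion.finite_of_le hRS
  intro n
  induction n using Nat.strong_induction_on with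
  | _ n ih =>
  intro Q hQR hQ hψQ hn
  by_cases hQeq : Q = R
  · subst hQeq
    convert hψQ using 1
    ext y
    rfl
  have hRp : IsPGroup p R := hS.to_le hRS
  have hlt := Fusion.card_lt_card_normalizerIn hRp hQR hQeq
  set Q₁ := normalizerIn R Q with hQ₁
  have hQQ₁ : Q ≤ Q₁ := Fusion.le_normalizerIn hQR
  have hQ₁R : Q₁ ≤ R := inf_le_left
  have hQ₁N : Q₁ ≤ Subgroup.normalizer (Q : Set Ω) := inf_le_right
  have hQS := hQ.1
  set ψ₀ : Q →* Ω := ψ.comp (Subgroup.inclusion hQR) with hψ₀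
  -- the image of `Q` is centric, hence receptive in `F'`
  have hQ'c : F.IsCentric ψ₀.range := Fusion.isCentric_of_isConj F hQ ⟨ψ₀, hle Q hψQ, rfl⟩
  have hQ'rec : F'.IsReceptive ψ₀.range :=
    Fusion.receptive_of_fullyCentralized p hS F' hF'
      (Fusion.fullyCentralized_of_isCentric F' (Fusion.isCentric_of_le_system hle hQ'c))
  obtain ⟨ψ₁, hψ₁, hψ₁ext⟩ := hQ'rec.2 Q ψ₀ hψQ rfl
  have hQ₁ext : Q₁ ≤ extender S Q ψ₀ := by
    intro g hg
    apply Subgroup.subset_closure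
    refine ⟨hRS (hQ₁R hg), hQ₁N hg, ψ ⟨g, hQ₁R hg⟩, Fusion.map_mem F hψ _, fun x hx => ?_⟩
    show ψ ⟨g * x * g⁻¹, _⟩ = ψ ⟨g, hQ₁R hg⟩ * ψ ⟨x, _⟩ * (ψ ⟨g, hQ₁R hg⟩)⁻¹
    rw [← map_inv, ← map_mul, ← map_mul]
    rfl
  -- restrictions to `Q₁`
  have hχ' : ψ₁.comp (Subgroup.inclusion hQ₁ext) ∈ F'.Hom Q₁ := Fusion.restrict_mem F' hψ₁ hQ₁ext
  have hχ : ψ.comp (Subgroup.inclusion hQ₁R) ∈ F.Hom Q₁ := Fusion.restrict_mem F hψ hQ₁R
  have hagree : ∀ x : Q₁, (x : Ω) ∈ Q →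
      (ψ₁.comp (Subgroup.inclusion hQ₁ext)) x = (ψ.comp (Subgroup.inclusion hQ₁R)) x := by
    intro x hx
    exact hψ₁ext x.1 hx (hQ₁ext x.2)
  obtain ⟨z, hzQ, -, hz⟩ := Fusion.eq_conj_of_agree_centric p hS F hF Q₁ _ Q hQQ₁ hQ _ _
    (hle Q₁ hχ') hχ hagree rfl
  -- so the restriction of `ψ` to `Q₁` is in `F'`
  have hQ₁S : Q₁ ≤ S := hQ₁R.trans hRS
  have hc := F'.conj_mem (P := Q₁) (g := z.1) hQ₁S (hQ₁S z.2)
  have hcQ₁ : ∀ x : Q₁, conjHom Q₁ z.1 x ∈ Q₁ := fun x =>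
    Q₁.mul_mem (Q₁.mul_mem z.2 x.2) (Q₁.inv_mem z.2)
  have hcomp := F'.comp_mem hc hχ' hcQ₁
  have hχ'' : ψ.comp (Subgroup.inclusion hQ₁R) ∈ F'.Hom Q₁ := by
    convert hcomp using 1
    ext y
    rw [hz y]
    rfl
  have hQ₁c : F.IsCentric Q₁ := Fusion.isCentric_of_le F hQQ₁ hQ₁S hQ
  have hcard : Nat.card R - Nat.card Q₁ < n := by
    have h1 : Nat.card Q₁ ≤ Nat.card R := Subgroup.card_le_of_le hQ₁R
    omega
  exact ih _ hcard Q₁ hQ₁R hQ₁c hχ'' rfl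

/-- Two-out-of-three for maps between centric subgroups. -/
theorem Fusion.two_of_three_centric [Finite S] (p : ℕ) [Fact p.Prime] (hS : IsPGroup p S)
    (F : FusionSystem S) (hF : F.IsSaturated p) (F' : FusionSystem S) (hF' : F'.IsSaturated p)
    (hle : F' ≤ F) (Q R : Subgroup Ω) (hQ : F.IsCentric Q) (hR : F.IsCentric R) (φ : ↥Q →* Ω)
    (hφ : φ ∈ F.Hom Q) (hφR : ∀ x : Q, φ x ∈ R) (ψ : ↥R →* Ω) (hψ : ψ ∈ F.Hom R) :
    (φ ∈ F'.Hom Q → ψ ∈ F'.Hom R → ψ.comp (φ.codRestrict R hφR) ∈ F'.Hom Q) ∧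
    (ψ ∈ F'.Hom R → ψ.comp (φ.codRestrict R hφR) ∈ F'.Hom Q → φ ∈ F'.Hom Q) ∧
    (φ ∈ F'.Hom Q → ψ.comp (φ.codRestrict R hφR) ∈ F'.Hom Q → ψ ∈ F'.Hom R) := by
  refine ⟨fun h1 h2 => F'.comp_mem h1 h2 hφR, fun h2 h3 => ?_, fun h1 h3 => ?_⟩
  · obtain ⟨ψi, hψi, hinv⟩ := F'.inv_mem h2
    have hval : ∀ x : Q, (ψ.comp (φ.codRestrict R hφR)) x ∈ ψ.range := fun x => ⟨_, rfl⟩
    have := F'.comp_mem h3 hψi hval
    convert this using 1
    ext x
    exact (hinv (φ.codRestrict R hφR x)).symm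
  · obtain ⟨φi, hφi, hinv⟩ := F'.inv_mem h1
    have hQ'R : φ.range ≤ R := by
      rintro _ ⟨x, rfl⟩
      exact hφR x
    have hQ'c : F.IsCentric φ.range := Fusion.isCentric_of_isConj F hQ ⟨φ, hφ, rfl⟩
    have hφiQ : ∀ y : φ.range, φi y ∈ Q := by
      rintro ⟨_, x, rfl⟩
      rw [hinv x]
      exact x.2
    have hcomp := F'.comp_mem hφi h3 hφiQ
    have hres : ψ.comp (Subgroup.inclusion hQ'R) ∈ F'.Hom φ.range := by
      convert hcomp using 1
      ext y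
      obtain ⟨_, x, rfl⟩ := y
      show ψ ⟨φ x, _⟩ = ψ (φ.codRestrict R hφR ⟨φi ⟨φ x, _⟩, _⟩)
      congr 1
      apply Subtype.ext
      show φ x = φ ⟨φi ⟨φ x, _⟩, _⟩
      congr 1
      apply Subtype.ext
      exact (hinv x).symm
    exact Fusion.mem_of_restrict_centric_mem p hS F hF F' hF' hle R ψ hψ _ φ.range hQ'R hQ'c hres rfl

theorem Fusion.top_isCentric [Finite S] (F : FusionSystem S) : F.IsCentric S := by
  refine ⟨le_rfl, fun Q hQ => ?_⟩
  have := Fusion.isConj_top_eq F hQ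
  rw [← this]
  exact inf_le_left

/-- Every centric subgroup contains a minimal centric subgroup. -/
theorem Fusion.exists_minimal_centric [Finite S] (F : FusionSystem S) :
    ∀ (n : ℕ) (P : Subgroup Ω), F.IsCentric P → Nat.card P = n →
      ∃ Q : Subgroup Ω, Q ≤ P ∧ F.IsCentric Q ∧ ∀ R : Subgroup Ω, R < Q → ¬ F.IsCentric R := by
  intro n
  induction n using Nat.strong_induction_on with
  | _ n ih =>
  intro P hP hn
  by_cases hmin : ∀ R : Subgroup Ω, R < P → ¬ F.IsCentric R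
  · exact ⟨P, le_rfl, hP, hmin⟩
  · push Not at hmin
    obtain ⟨R, hRP, hR⟩ := hmin
    have : Finite P := Fusion.finite_of_le hP.1
    have hlt : Nat.card R < n := by
      rw [← hn]
      exact card_lt_of_lt hRP
    obtain ⟨Q, hQR, hQ, hQmin⟩ := ih _ hlt R hR rfl
    exact ⟨Q, hQR.trans hRP.le, hQ, hQmin⟩

/-- A saturated subsystem agreeing with `F` on minimal centric subgroups is `F`. -/
theorem Fusion.eq_of_minimal_centric [Finite S] (p : ℕ) [Fact p.Prime] (hS : IsPGroup p S)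
    (F : FusionSystem S) (hF : F.IsSaturated p) (F' : FusionSystem S) (hF' : F'.IsSaturated p)
    (hle : F' ≤ F)
    (hmin : ∀ Q : Subgroup Ω, F.IsCentric Q → (∀ R : Subgroup Ω, R < Q → ¬ F.IsCentric R) →
      F.Hom Q = F'.Hom Q) (P : Subgroup Ω) : F.Hom P = F'.Hom P := by
  apply Set.Subset.antisymm _ (hle P)
  have hFF' : F ≤ F' := by
    apply Fusion.alperin p hS F hF F'
    intro P hP α hα
    have hPc : F.IsCentric P := by
      rcases hP with rfl | hess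
      · exact Fusion.top_isCentric F
      · exact hess.1
    have hPS := hPc.1
    obtain ⟨Q, hQP, hQ, hQmin⟩ := Fusion.exists_minimal_centric F _ P hPc rfl
    rw [Fusion.mem_autGroup_iff F' hPS]
    have hαF := (Fusion.mem_autGroup_iff F hPS α).mp hα
    have hres := Fusion.restrict_mem F hαF hQP
    rw [hmin Q hQ hQmin] at hres
    exact Fusion.mem_of_restrict_centric_mem p hS F hF F' hF' hle P _ hαF _ Q hQP hQ hres rfl
  exact hFF' P

end Cfsg.Agent.Lead
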