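import Mathlib
import Cfsg.Prelude.Def_FusionSystem
import Cfsg.Agent.Lead.FusionStrongInvA

set_option autoImplicit false

namespace Cfsg.Agent.Lead.PrimeIdx

open Cfsg Cfsg.FusionSystem Cfsg.Agent.Lead Cfsg.Agent.Lead.StrongInv

variable {Ω : Type*} [Group Ω] {S T : Subgroup Ω}

/-- Invariance of `E` under the `F`-automorphisms of `T`. -/
def SItop (F : FusionSystem S) (E : FusionSystem T) : Prop :=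
  ∀ (P : Subgroup Ω) (hPT : P ≤ T) (φ : P →* Ω) (_ : φ ∈ E.Hom P)
    (hφT : ∀ x : P, φ x ∈ T) (ψ : T →* Ω) (_ : ψ ∈ F.Hom T),
    ∃ χ ∈ E.Hom ((P.subgroupOf T).map ψ),
      ∀ (x : P) (hx : ψ (Subgroup.inclusion hPT x) ∈ (P.subgroupOf T).map ψ),
        χ ⟨ψ (Subgroup.inclusion hPT x), hx⟩ = ψ ⟨φ x, hφT x⟩

theorem conj_of_SItop (F : FusionSystem S) (E : FusionSystem T) (hSI : SItop F E) {R : Subgroup Ω}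
    (hRT : R ≤ T) {θ : R →* Ω} (hθ : θ ∈ E.Hom R) {γ : T →* Ω} (hγ : γ ∈ F.Hom T)
    (R' : Subgroup Ω)
    (hR' : ∀ z, z ∈ R' ↔ ∃ (r : Ω) (hr : r ∈ R), γ ⟨r, hRT hr⟩ = z) :
    ∃ χ ∈ E.Hom R', ∀ (r : Ω) (hr : r ∈ R) (hr' : γ ⟨r, hRT hr⟩ ∈ R'),
      χ ⟨γ ⟨r, hRT hr⟩, hr'⟩ = γ ⟨θ ⟨r, hr⟩, (E.le_of_mem hθ).2 ⟨r, hr⟩⟩ := by
  obtain ⟨χ, hχ, hχv⟩ := hSI R hRT θ hθ (fun x => (E.le_of_mem hθ).2 x) γ hγ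
  have heq : (R.subgroupOf T).map γ = R' := by
    ext z
    rw [hR']
    constructor
    · rintro ⟨t, ht, rfl⟩
      exact ⟨t.1, ht, rfl⟩
    · rintro ⟨r, hr, rfl⟩
      exact ⟨⟨r, hRT hr⟩, hr, rfl⟩
  obtain ⟨χ', hχ', hχ'v⟩ := Fusion.exists_hom_of_eq E heq hχ
  refine ⟨χ', hχ', fun r hr hr' => ?_⟩
  have h1 : γ ⟨r, hRT hr⟩ ∈ (R.subgroupOf T).map γ := heq ▸ hr'
  rw [hχ'v _ h1 hr']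
  exact hχv ⟨r, hr⟩ h1


theorem good_comp_top [Finite S] (F : FusionSystem S) (E : FusionSystem T) (hSI : SItop F E)
    (hT : F.StronglyClosed T) {P Q : Subgroup Ω} {φ : P →* Ω} {ψ : Q →* Ω} (hQT : Q ≤ T)
    (hφ : Good F E P φ) (hψ : Good F E Q ψ) (h : ∀ x : P, φ x ∈ Q) :
    Good F E P (ψ.comp (φ.codRestrict Q h)) := by
  obtain ⟨α, hα, φ₀, h₀, hv⟩ := hφ
  obtain ⟨β, hβ, ψ₀, hψ₀, hw⟩ := hψ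
  obtain ⟨α', hα', hinv1, hinv2⟩ := exists_top_inv F hT hα
  have hmr : ∀ x : P, φ x ∈ φ.range := fun x => ⟨x, rfl⟩
  have hmr₀ : ∀ x : P, φ₀ x ∈ φ₀.range := fun x => ⟨x, rfl⟩
  have hRQ : φ.range ≤ Q := by
    rintro _ ⟨x, rfl⟩
    exact h x
  have hRT : φ.range ≤ T := hRQ.trans hQT
  have hθ : ψ₀.comp (Subgroup.inclusion hRQ) ∈ E.Hom φ.range := Fusion.restrict_mem E hψ₀ hRQ
  have hφ₀T : ∀ x : P, φ₀ x ∈ T := (E.le_of_mem h₀).2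
  have hψ₀T : ∀ y : Q, ψ₀ y ∈ T := (E.le_of_mem hψ₀).2
  have hαT : ∀ t : T, α t ∈ T := map_top_mem F hT hα
  have hα'T : ∀ t : T, α' t ∈ T := map_top_mem F hT hα'
  -- `α' (φ x) = φ₀ x`
  have hkey : ∀ x : P, α' ⟨φ x, hRT (hmr x)⟩ = φ₀ x := fun x =>
    (app_congr α' _ (hαT ⟨φ₀ x, hφ₀T x⟩) (hv x)).trans (hinv1 ⟨φ₀ x, hφ₀T x⟩ (hαT _))
  have hR' : ∀ z, z ∈ φ₀.range ↔ ∃ (r : Ω) (hr : r ∈ φ.range), α' ⟨r, hRT hr⟩ = z := by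
    intro z
    constructor
    · rintro ⟨x, rfl⟩
      exact ⟨φ x, hmr x, hkey x⟩
    · rintro ⟨_, ⟨x, rfl⟩, rfl⟩
      exact ⟨x, (hkey x).symm⟩
  obtain ⟨χ, hχ, hχv⟩ := conj_of_SItop F E hSI hRT hθ hα' φ₀.range hR'
  have hχT : ∀ y : φ₀.range, χ y ∈ T := (E.le_of_mem hχ).2
  have hφ₀' := E.comp_mem h₀ hχ hmr₀
  have hα'' := F.comp_mem hα hβ hαT
  refine ⟨_, hα'', _, hφ₀', fun x => ?_⟩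
  show ψ ⟨φ x, h x⟩ = β ⟨α ⟨χ ⟨φ₀ x, hmr₀ x⟩, _⟩, _⟩
  have h1 : χ ⟨α' ⟨φ x, hRT (hmr x)⟩, (hR' _).mpr ⟨φ x, hmr x, rfl⟩⟩ =
      α' ⟨ψ₀ ⟨φ x, h x⟩, hψ₀T _⟩ := hχv (φ x) (hmr x) ((hR' _).mpr ⟨φ x, hmr x, rfl⟩)
  have h2 : χ ⟨φ₀ x, hmr₀ x⟩ = α' ⟨ψ₀ ⟨φ x, h x⟩, hψ₀T _⟩ :=
    (app_congr χ _ _ (hkey x).symm).trans h1
  have h3 : α ⟨χ ⟨φ₀ x, hmr₀ x⟩, hχT _⟩ = ψ₀ ⟨φ x, h x⟩ :=
    (app_congr α _ (hα'T ⟨ψ₀ ⟨φ x, h x⟩, hψ₀T _⟩) h2).trans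
      (hinv2 ⟨ψ₀ ⟨φ x, h x⟩, hψ₀T _⟩ (hα'T _))
  exact (hw ⟨φ x, h x⟩).trans (app_congr β _ _ h3.symm)


theorem good_inv_top [Finite S] (F : FusionSystem S) (E : FusionSystem T) (hSI : SItop F E)
    (hT : F.StronglyClosed T) {P Q : Subgroup Ω} {φ : P →* Ω} (hPT : P ≤ T)
    (hφ : Good F E P φ) (hr : φ.range = Q) {ψ : Q →* Ω}
    (hψinv : ∀ x : P, ∀ h : φ x ∈ Q, ψ ⟨φ x, h⟩ = (x : Ω)) : Good F E Q ψ := by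
  subst hr
  obtain ⟨α, hα, φ₀, h₀, hv⟩ := hφ
  obtain ⟨α', hα', hinv1, hinv2⟩ := exists_top_inv F hT hα
  obtain ⟨φ₀', hφ₀', hφ₀'inv⟩ := E.inv_mem h₀
  have hmr : ∀ x : P, φ x ∈ φ.range := fun x => ⟨x, rfl⟩
  have hmr₀ : ∀ x : P, φ₀ x ∈ φ₀.range := fun x => ⟨x, rfl⟩
  have hφ₀T : ∀ x : P, φ₀ x ∈ T := (E.le_of_mem h₀).2
  have hφ₀'T : ∀ y : φ₀.range, φ₀' y ∈ T := (E.le_of_mem hφ₀').2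
  have hαT : ∀ t : T, α t ∈ T := map_top_mem F hT hα
  have hR₀T : φ₀.range ≤ T := by
    rintro _ ⟨x, rfl⟩
    exact hφ₀T x
  have hR' : ∀ z, z ∈ φ.range ↔ ∃ (r : Ω) (hr : r ∈ φ₀.range), α ⟨r, hR₀T hr⟩ = z := by
    intro z
    constructor
    · rintro ⟨x, rfl⟩
      exact ⟨φ₀ x, hmr₀ x, (hv x).symm⟩
    · rintro ⟨_, ⟨x, rfl⟩, rfl⟩
      exact ⟨x, hv x⟩
  obtain ⟨χ, hχ, hχv⟩ := conj_of_SItop F E hSI hR₀T hφ₀' hα φ.range hR'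
  have hχT : ∀ y : φ.range, χ y ∈ T := (E.le_of_mem hχ).2
  refine ⟨α', hα', χ, hχ, ?_⟩
  rintro ⟨_, x, rfl⟩
  have h0 : ψ ⟨φ x, hmr x⟩ = (x : Ω) := hψinv x (hmr x)
  have h1 : χ ⟨α ⟨φ₀ x, hR₀T (hmr₀ x)⟩, (hR' _).mpr ⟨φ₀ x, hmr₀ x, rfl⟩⟩ =
      α ⟨φ₀' ⟨φ₀ x, hmr₀ x⟩, hφ₀'T _⟩ :=
    hχv (φ₀ x) (hmr₀ x) ((hR' _).mpr ⟨φ₀ x, hmr₀ x, rfl⟩)
  have h2 : χ ⟨φ x, hmr x⟩ = α ⟨(x : Ω), hPT x.2⟩ :=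
    ((app_congr χ _ _ (hv x)).trans h1).trans (app_congr α _ _ (hφ₀'inv x))
  have h3 : α' ⟨χ ⟨φ x, hmr x⟩, hχT _⟩ = (x : Ω) :=
    (app_congr α' _ (hαT ⟨(x : Ω), hPT x.2⟩) h2).trans (hinv1 ⟨(x : Ω), hPT x.2⟩ (hαT _))
  exact h0.trans h3.symm


end Cfsg.Agent.Lead.PrimeIdx
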