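import Mathlib
import Cfsg.Prelude.Def_FusionSystem
import Cfsg.Agent.Lead.PrimeIdxA
import Cfsg.Agent.Lead.FusionSubsys

set_option autoImplicit false

namespace Cfsg.Agent.Lead.PrimeIdx

open Cfsg Cfsg.FusionSystem Cfsg.Agent.Lead Cfsg.Agent.Lead.StrongInv

variable {Ω : Type*} [Group Ω] {S : Subgroup Ω}

/-- All twists of `φ` by the `F`-automorphisms of `S` lie in `E`. -/
def Tw (F E : FusionSystem S) (P : Subgroup Ω) (φ : P →* Ω) : Prop :=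
  ∀ (hPS : P ≤ S) (hφS : ∀ x : P, φ x ∈ S) (γ : S →* Ω), γ ∈ F.Hom S →
    ∃ χ ∈ E.Hom ((P.subgroupOf S).map γ),
      ∀ (x : P) (hx : γ (Subgroup.inclusion hPS x) ∈ (P.subgroupOf S).map γ),
        χ ⟨γ (Subgroup.inclusion hPS x), hx⟩ = γ ⟨φ x, hφS x⟩

theorem mem_img {P : Subgroup Ω} (hPS : P ≤ S) (γ : S →* Ω) (x : P) :
    γ (Subgroup.inclusion hPS x) ∈ (P.subgroupOf S).map γ :=
  ⟨Subgroup.inclusion hPS x, by rw [SetLike.mem_coe, Subgroup.mem_subgroupOf]; exact x.2, rfl⟩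

theorem exists_of_mem_img {P : Subgroup Ω} (hPS : P ≤ S) (γ : S →* Ω) {y : Ω}
    (hy : y ∈ (P.subgroupOf S).map γ) : ∃ x : P, γ (Subgroup.inclusion hPS x) = y := by
  obtain ⟨s, hs, rfl⟩ := hy
  rw [SetLike.mem_coe, Subgroup.mem_subgroupOf] at hs
  exact ⟨⟨s.1, hs⟩, rfl⟩

/-- The largest subsystem of `E` (inside `F`) invariant under the `F`-automorphisms of `S`. -/
def coreSys (F E : FusionSystem S) : FusionSystem S where
  Hom P := {φ | φ ∈ F.Hom P ∧ Tw F E P φ}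
  le_of_mem h := F.le_of_mem h.1
  injective_of_mem h := F.injective_of_mem h.1
  conj_mem := by
    intro P g hP hg
    refine ⟨F.conj_mem hP hg, ?_⟩
    intro hPS hφS γ hγ
    have hγS : ∀ s : S, γ s ∈ S := (F.le_of_mem hγ).2
    have hle : (P.subgroupOf S).map γ ≤ S := by
      rintro _ ⟨s, -, rfl⟩
      exact hγS s
    refine ⟨conjHom _ (γ ⟨g, hg⟩), E.conj_mem hle (hγS _), ?_⟩
    intro x hx
    show γ ⟨g, hg⟩ * γ (Subgroup.inclusion hPS x) * (γ ⟨g, hg⟩)⁻¹ = γ ⟨g * x * g⁻¹, _⟩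
    rw [← map_inv, ← map_mul, ← map_mul]
    rfl
  comp_mem := by
    intro P Q φ ψ hφ hψ h
    refine ⟨F.comp_mem hφ.1 hψ.1 h, ?_⟩
    intro hPS hcS γ hγ
    have hQS : Q ≤ S := (F.le_of_mem hψ.1).1
    have hφS : ∀ x : P, φ x ∈ S := (F.le_of_mem hφ.1).2
    have hψS : ∀ y : Q, ψ y ∈ S := (F.le_of_mem hψ.1).2
    obtain ⟨χ₁, hχ₁, hv₁⟩ := hφ.2 hPS hφS γ hγ
    obtain ⟨χ₂, hχ₂, hv₂⟩ := hψ.2 hQS hψS γ hγ
    have h12 : ∀ y : ((P.subgroupOf S).map γ : Subgroup Ω), χ₁ y ∈ (Q.subgroupOf S).map γ := by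
      rintro ⟨y, hy⟩
      obtain ⟨x, rfl⟩ := exists_of_mem_img hPS γ hy
      rw [hv₁ x hy]
      exact mem_img hQS γ ⟨φ x, h x⟩
    refine ⟨_, E.comp_mem hχ₁ hχ₂ h12, ?_⟩
    intro x hx
    show χ₂ ⟨χ₁ ⟨γ (Subgroup.inclusion hPS x), hx⟩, _⟩ = γ ⟨ψ ⟨φ x, h x⟩, _⟩
    have e1 := hv₁ x hx
    have e2 := hv₂ ⟨φ x, h x⟩ (mem_img hQS γ _)
    rw [← e2]
    exact app_congr χ₂ _ _ e1
  inv_mem := by
    intro P φ hφ
    obtain ⟨ψ, hψ, hinv⟩ := F.inv_mem hφ.1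
    refine ⟨ψ, ⟨hψ, ?_⟩, hinv⟩
    intro hRS hψS γ hγ
    have hPS : P ≤ S := (F.le_of_mem hφ.1).1
    have hφS : ∀ x : P, φ x ∈ S := (F.le_of_mem hφ.1).2
    obtain ⟨χ₁, hχ₁, hv₁⟩ := hφ.2 hPS hφS γ hγ
    have heq : χ₁.range = (φ.range.subgroupOf S).map γ := by
      ext z
      constructor
      · rintro ⟨⟨y, hy⟩, rfl⟩
        obtain ⟨x, rfl⟩ := exists_of_mem_img hPS γ hy
        rw [hv₁ x hy]
        exact mem_img hRS γ ⟨φ x, ⟨x, rfl⟩⟩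
      · intro hz
        obtain ⟨⟨_, x, rfl⟩, rfl⟩ := exists_of_mem_img hRS γ hz
        exact ⟨⟨γ (Subgroup.inclusion hPS x), mem_img hPS γ x⟩, hv₁ x _⟩
    obtain ⟨χ', hχ', hχ'inv⟩ := E.inv_mem hχ₁
    obtain ⟨χ'', hχ'', hχ''v⟩ := Fusion.exists_hom_of_eq E heq hχ'
    refine ⟨χ'', hχ'', ?_⟩
    rintro ⟨_, x, rfl⟩ hx
    have e1 := hv₁ x (mem_img hPS γ x)
    have e2 := hχ'inv ⟨γ (Subgroup.inclusion hPS x), mem_img hPS γ x⟩
    have e3 : γ ⟨ψ ⟨φ x, ⟨x, rfl⟩⟩, hψS _⟩ = γ (Subgroup.inclusion hPS x) :=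
      app_congr γ _ _ (hinv x)
    have hm : γ ⟨φ x, hφS x⟩ ∈ χ₁.range := ⟨_, e1⟩
    have e4 : χ'' ⟨γ ⟨φ x, hφS x⟩, hx⟩ = χ' ⟨γ ⟨φ x, hφS x⟩, hm⟩ := hχ''v _ hm hx
    have e5 : χ' ⟨γ ⟨φ x, hφS x⟩, hm⟩ =
        χ' ⟨χ₁ ⟨γ (Subgroup.inclusion hPS x), mem_img hPS γ x⟩, ⟨_, rfl⟩⟩ :=
      app_congr χ' _ _ e1.symm
    exact (e4.trans (e5.trans e2)).trans e3.symm

theorem coreSys_sub (F E : FusionSystem S) (P : Subgroup Ω) :
    (coreSys F E).Hom P ⊆ E.Hom P := by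
  intro φ hφ
  have hPS : P ≤ S := (F.le_of_mem hφ.1).1
  have hφS := (F.le_of_mem hφ.1).2
  obtain ⟨χ, hχ, hv⟩ := hφ.2 hPS hφS S.subtype (Fusion.subtype_mem F le_rfl)
  have heq : (P.subgroupOf S).map S.subtype = P := by
    rw [Subgroup.subgroupOf_map_subtype]
    exact inf_eq_left.mpr hPS
  obtain ⟨χ', hχ', hχ'v⟩ := Fusion.exists_hom_of_eq E heq hχ
  convert hχ' using 1
  ext x
  have h1 := hv x (mem_img hPS _ x)
  have h2 := hχ'v x.1 (mem_img hPS S.subtype x) x.2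
  exact (h2.trans h1).symm

theorem coreSys_sub_F (F E : FusionSystem S) (P : Subgroup Ω) :
    (coreSys F E).Hom P ⊆ F.Hom P := fun _ h => h.1

theorem range_restrict {P : Subgroup Ω} (hPS : P ≤ S) (γ : S →* Ω) :
    (γ.comp (Subgroup.inclusion hPS)).range = (P.subgroupOf S).map γ := by
  ext z
  constructor
  · rintro ⟨x, rfl⟩
    exact mem_img hPS γ x
  · intro hz
    obtain ⟨x, rfl⟩ := exists_of_mem_img hPS γ hz
    exact ⟨x, rfl⟩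

theorem SItop_coreSys (F E : FusionSystem S) (hEF : E.IsSubsystemOf F) :
    SItop F (coreSys F E) := by
  intro P hPS φ hφ hφS ψ hψ
  have hψS : ∀ s : S, ψ s ∈ S := (F.le_of_mem hψ).2
  obtain ⟨χ, hχ, hv⟩ := hφ.2 hPS hφS ψ hψ
  refine ⟨χ, ⟨hEF _ hχ, ?_⟩, hv⟩
  intro hP'S hχS γ hγ
  have hγ' := F.comp_mem hψ hγ hψS
  set γ' : S →* Ω := γ.comp (ψ.codRestrict S hψS) with hγ'def
  obtain ⟨χ₃, hχ₃, hv₃⟩ := hφ.2 hPS hφS γ' hγ'
  have heq : (P.subgroupOf S).map γ' = (((P.subgroupOf S).map ψ).subgroupOf S).map γ := by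
    ext z
    constructor
    · intro hz
      obtain ⟨x, rfl⟩ := exists_of_mem_img hPS γ' hz
      exact mem_img hP'S γ ⟨ψ (Subgroup.inclusion hPS x), mem_img hPS ψ x⟩
    · intro hz
      obtain ⟨⟨y, hy⟩, rfl⟩ := exists_of_mem_img hP'S γ hz
      obtain ⟨x, rfl⟩ := exists_of_mem_img hPS ψ hy
      exact mem_img hPS γ' x
  obtain ⟨χ₂, hχ₂, hχ₂v⟩ := Fusion.exists_hom_of_eq E heq hχ₃
  refine ⟨χ₂, hχ₂, ?_⟩
  rintro ⟨y, hy⟩ hx
  obtain ⟨x, rfl⟩ := exists_of_mem_img hPS ψ hy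
  have e1 := hv x hy
  have e2 := hv₃ x (mem_img hPS γ' x)
  have e3 := hχ₂v _ (mem_img hPS γ' x) hx
  have e4 : γ ⟨χ ⟨ψ (Subgroup.inclusion hPS x), hy⟩, hχS _⟩ = γ ⟨ψ ⟨φ x, hφS x⟩, hψS _⟩ :=
    app_congr γ _ _ e1
  exact (e3.trans e2).trans e4.symm

theorem pElement_mem_coreSys (p : ℕ) (F E : FusionSystem S)
    (h : ∀ P : Subgroup Ω, F.IsCentric P →
      (Subgroup.closure {α : ↥(F.autGroup P) | ∃ k : ℕ, orderOf α = p ^ k}).map
        (F.autGroup P).subtype ≤ E.autGroup P)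
    {P : Subgroup Ω} (hP : F.IsCentric P) (α : MulAut P) (hα : α ∈ F.autGroup P) (k : ℕ)
    (hk : orderOf α = p ^ k) : α ∈ (coreSys F E).autGroup P := by
  have hPS : P ≤ S := hP.1
  rw [Fusion.mem_autGroup_iff (coreSys F E) hPS]
  refine ⟨(Fusion.mem_autGroup_iff F hPS α).mp hα, ?_⟩
  intro hPS' hφS γ hγ
  have hres := Fusion.restrict_mem F hγ hPS
  have hr := range_restrict hPS γ
  have hP'S : (P.subgroupOf S).map γ ≤ S := by
    rw [← hr]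
    exact Fusion.range_le F hres
  set e := Fusion.equivOfRange (γ.comp (Subgroup.inclusion hPS)) (F.injective_of_mem hres) hr
    with he
  have hα' : MulAut.congr e α ∈ F.autGroup ((P.subgroupOf S).map γ) :=
    Fusion.congr_mem_autGroup F hres hr α hα
  have hord : orderOf (MulAut.congr e α) = p ^ k := by
    rw [MulEquiv.orderOf_eq, hk]
  have hP' : F.IsCentric ((P.subgroupOf S).map γ) := Fusion.isCentric_of_isConj F hP ⟨_, hres, hr⟩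
  have hmem : MulAut.congr e α ∈ E.autGroup ((P.subgroupOf S).map γ) := by
    apply h _ hP'
    refine ⟨⟨MulAut.congr e α, hα'⟩, Subgroup.subset_closure ⟨k, ?_⟩, rfl⟩
    rw [Subgroup.orderOf_mk, hord]
  rw [Fusion.mem_autGroup_iff E hP'S] at hmem
  refine ⟨_, hmem, ?_⟩
  intro x hx
  show (((MulAut.congr e α) ⟨γ (Subgroup.inclusion hPS x), hx⟩ : _) : Ω) = γ ⟨(α x : P), hφS x⟩
  have h1 : (⟨γ (Subgroup.inclusion hPS x), hx⟩ : ((P.subgroupOf S).map γ : Subgroup Ω)) = e x :=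
    rfl
  rw [h1]
  have h2 : (MulAut.congr e α) (e x) = e (α x) := by
    simp [MulAut.congr]
  rw [h2]
  rfl

theorem closure_le_coreSys (p : ℕ) (F E : FusionSystem S)
    (h : ∀ P : Subgroup Ω, F.IsCentric P →
      (Subgroup.closure {α : ↥(F.autGroup P) | ∃ k : ℕ, orderOf α = p ^ k}).map
        (F.autGroup P).subtype ≤ E.autGroup P)
    {P : Subgroup Ω} (hP : F.IsCentric P) :
    (Subgroup.closure {α : ↥(F.autGroup P) | ∃ k : ℕ, orderOf α = p ^ k}).map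
        (F.autGroup P).subtype ≤ (coreSys F E).autGroup P := by
  rw [Subgroup.map_le_iff_le_comap, Subgroup.closure_le]
  rintro ⟨α, hα⟩ ⟨k, hk⟩
  show α ∈ (coreSys F E).autGroup P
  apply pElement_mem_coreSys p F E h hP α hα k
  rw [← hk, Subgroup.orderOf_mk]

end Cfsg.Agent.Lead.PrimeIdx
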