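import Mathlib
import Cfsg.Prelude.Def_FusionSystem
import Cfsg.Agent.Lead.PrimeIdxB
import Cfsg.Agent.Lead.FusionAlperin2
import Cfsg.Agent.Lead.FusionStrongInvB

set_option autoImplicit false

namespace Cfsg.Agent.Lead.PrimeIdx

open Cfsg Cfsg.FusionSystem Cfsg.Agent.Lead Cfsg.Agent.Lead.StrongInv

variable {Ω : Type*} [Group Ω] {S : Subgroup Ω}

theorem stronglyClosed_top (F : FusionSystem S) : F.StronglyClosed S :=
  ⟨le_rfl, fun _ _ _ hφ x => (F.le_of_mem hφ).2 x⟩

/-- The maps of `F` of the form `α ∘ φ₀`. -/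
def goodSys [Finite S] (F E : FusionSystem S) (hSI : SItop F E) : FusionSystem S where
  Hom P := {φ | φ ∈ F.Hom P ∧ Good F E P φ}
  le_of_mem h := F.le_of_mem h.1
  injective_of_mem h := F.injective_of_mem h.1
  conj_mem hP hg := ⟨F.conj_mem hP hg, good_of_mem F E le_rfl (E.conj_mem hP hg)⟩
  comp_mem hφ hψ h := ⟨F.comp_mem hφ.1 hψ.1 h,
    good_comp_top F E hSI (stronglyClosed_top F) (F.le_of_mem hψ.1).1 hφ.2 hψ.2 h⟩
  inv_mem := by
    intro P φ hφ
    obtain ⟨ψ, hψ, hinv⟩ := F.inv_mem hφ.1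
    exact ⟨ψ, ⟨hψ, good_inv_top F E hSI (stronglyClosed_top F) (F.le_of_mem hφ.1).1 hφ.2 rfl
      (fun x _ => hinv x)⟩, hinv⟩

theorem exists_orderOf_of_isPGroup {G : Type*} [Group G] (p : ℕ) [Fact p.Prime] {U : Subgroup G}
    (hU : IsPGroup p U) {u : G} (hu : u ∈ U) : ∃ k : ℕ, orderOf u = p ^ k := by
  obtain ⟨k, hk⟩ := hU ⟨u, hu⟩
  have h1 : u ^ p ^ k = 1 := by
    have := congrArg Subtype.val hk
    simpa using this
  obtain ⟨j, -, hj⟩ := (Nat.dvd_prime_pow Fact.out).mp (orderOf_dvd_of_pow_eq_one h1)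
  exact ⟨j, hj⟩

theorem good_all_top [Finite S] (p : ℕ) [Fact p.Prime] (hS : IsPGroup p S)
    (F : FusionSystem S) (hF : F.IsSaturated p) (E : FusionSystem S) (hEF : E.IsSubsystemOf F)
    (hSI : SItop F E)
    (h : ∀ P : Subgroup Ω, F.IsCentric P →
      (Subgroup.closure {α : ↥(F.autGroup P) | ∃ k : ℕ, orderOf α = p ^ k}).map
        (F.autGroup P).subtype ≤ E.autGroup P) :
    F ≤ goodSys F E hSI := by
  apply Fusion.alperin_ind p hS F hF
  intro P hP IH
  by_cases hPeq : P = S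
  · subst hPeq
    intro b hb
    rw [Fusion.mem_autGroup_iff _ le_rfl] at hb ⊢
    exact ⟨hb, _, hb, P.subtype, Fusion.subtype_mem E le_rfl, fun x => rfl⟩
  · obtain ⟨hcen, hfn, -⟩ := hP.resolve_left hPeq
    have hPS : P ≤ S := hcen.1
    have hfinP : Finite P := Fusion.finite_of_le hPS
    obtain ⟨hfc, hfa⟩ := Fusion.fullyCentralized_fullyAutomized_of_fullyNormalized p hS F hF hfn
    have hrec := Fusion.receptive_of_fullyCentralized p hS F hF hfc
    intro b hb
    set N : Subgroup (MulAut P) :=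
      (Subgroup.closure {α : ↥(F.autGroup P) | ∃ k : ℕ, orderOf α = p ^ k}).map
        (F.autGroup P).subtype with hN
    have hNF : N ≤ F.autGroup P := by
      rintro _ ⟨a, -, rfl⟩
      exact a.2
    have hNE : N ≤ E.autGroup P := h P hcen
    have hpel : ∀ a ∈ F.autGroup P, (∃ k : ℕ, orderOf a = p ^ k) → a ∈ N := by
      rintro a ha ⟨k, hk⟩
      refine ⟨⟨a, ha⟩, Subgroup.subset_closure ⟨k, ?_⟩, rfl⟩
      rw [Subgroup.orderOf_mk, hk]
    have hUF : autInducedBy S P ≤ F.autGroup P := Fusion.autInducedBy_le_autGroup F hPS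
    have hUp : IsPGroup p (autInducedBy S P) := Fusion.isPGroup_autInducedBy p hS P
    have hUN : autInducedBy S P ≤ N := fun u hu =>
      hpel u (hUF hu) (exists_orderOf_of_isPGroup p hUp hu)
    have hUcardF : Nat.card (autInducedBy S P) = p ^ (Nat.card (F.autGroup P)).factorization p :=
      (exists_sylow_eq_subgroupOf_iff (F.autGroup P) (autInducedBy S P) hUF).mp hfa.2
    have hUcardN := card_eq_ppart_of_le hUN hNF hUp hUcardF
    have hbU : (autInducedBy S P).map (MulAut.conj b).toMonoidHom ≤ N := by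
      rintro _ ⟨u, hu, rfl⟩
      apply hpel
      · exact Subgroup.mul_mem _ (Subgroup.mul_mem _ hb (hUF hu)) (Subgroup.inv_mem _ hb)
      · obtain ⟨j, hj⟩ := exists_orderOf_of_isPGroup p hUp hu
        refine ⟨j, ?_⟩
        rw [← hj]
        exact MulEquiv.orderOf_eq (MulAut.conj b) u
    obtain ⟨m, hm, hmU⟩ := exists_conj_le_of_card_eq_ppart hUN hUcardN hbU (hUp.map _)
    set ν := m * b with hν
    have hνF : ν ∈ F.autGroup P := Subgroup.mul_mem _ (hNF hm) hb
    have hνV : ∀ v ∈ autInducedBy S P, ν * v * ν⁻¹ ∈ autInducedBy S P := by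
      intro v hv
      have h1 : m * (b * v * b⁻¹) * m⁻¹ ∈ autInducedBy S P :=
        hmU ⟨b * v * b⁻¹, ⟨v, hv, rfl⟩, rfl⟩
      have h2 : ν * v * ν⁻¹ = m * (b * v * b⁻¹) * m⁻¹ := by rw [hν]; group
      rw [h2]; exact h1
    have hνhom := (Fusion.mem_autGroup_iff F hPS ν).mp hνF
    have hle : normalizerIn S P ≤ extender S P (P.subtype.comp ν.toMonoidHom) := by
      intro g hg
      obtain ⟨hgS, hgN⟩ := Subgroup.mem_inf.mp hg
      apply Subgroup.subset_closure
      refine ⟨hgS, hgN, ?_⟩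
      have hcU : conjAutHom P ⟨g, hgN⟩ ∈ autInducedBy S P :=
        Fusion.conjAutHom_mem_autInducedBy P ⟨g, hgN⟩ hgS
      have h1 : ν * conjAutHom P ⟨g, hgN⟩ * ν⁻¹ ∈ autInducedBy S P := hνV _ hcU
      rw [mem_autInducedBy_iff] at h1
      obtain ⟨h, hhS, hh⟩ := h1
      refine ⟨h, hhS, fun x hx => ?_⟩
      have h2 := hh (ν x)
      show ((ν ⟨g * x * g⁻¹, hx⟩ : P) : Ω) = h * ((ν x : P) : Ω) * h⁻¹
      rw [← h2]
      simp only [MulAut.mul_apply, MulAut.inv_apply_self]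
      rfl
    obtain ⟨ψ', hψ', hext⟩ := hrec.2 P _ hνhom (range_aut P ν)
    have hνhat := Fusion.restrict_mem F hψ' hle
    have hcard : Nat.card P < Nat.card (normalizerIn S P) :=
      Fusion.card_lt_card_normalizerIn hS hPS hPeq
    have hG1 := IH _ _ hνhat hcard
    have hPN : P ≤ normalizerIn S P := Fusion.le_normalizerIn hPS
    have hG2 := Fusion.restrict_mem (goodSys F E hSI) hG1 hPN
    have hνG : ν ∈ (goodSys F E hSI).autGroup P := by
      rw [Fusion.mem_autGroup_iff _ hPS]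
      convert hG2 using 1
      ext x
      exact (hext x.1 x.2 (hle (hPN x.2))).symm
    have hmG : m ∈ (goodSys F E hSI).autGroup P := by
      have h1 := hNE hm
      rw [Fusion.mem_autGroup_iff E hPS] at h1
      rw [Fusion.mem_autGroup_iff _ hPS]
      exact ⟨hEF _ h1, good_of_mem F E le_rfl h1⟩
    have hb' : b = m⁻¹ * ν := by rw [hν]; group
    rw [hb']
    exact Subgroup.mul_mem _ (Subgroup.inv_mem _ hmG) hνG

end Cfsg.Agent.Lead.PrimeIdx
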