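import Mathlib
import Cfsg.Prelude.Def_FusionSystem
import Cfsg.Agent.Lead.PrimeIdxC

set_option autoImplicit false

namespace Cfsg.Agent.Lead.PrimeIdx

open Cfsg Cfsg.FusionSystem Cfsg.Agent.Lead Cfsg.Agent.Lead.StrongInv

variable {Ω : Type*} [Group Ω] {S : Subgroup Ω}

/-- A `p`-element of `Aut_F(R)` becomes conjugation by an element of `S` after transport along a
suitable isomorphism of the system. -/
theorem exists_conj_pElement [Finite S] (p : ℕ) [Fact p.Prime] (hS : IsPGroup p S)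
    (F : FusionSystem S) (hF : F.IsSaturated p) {R : Subgroup Ω} (hRS : R ≤ S) (θ : MulAut R)
    (hθ : θ ∈ F.autGroup R) (k : ℕ) (hk : orderOf θ = p ^ k) :
    ∃ χ ∈ F.Hom R, ∃ g ∈ S, ∀ x : R, χ (θ x) = g * χ x * g⁻¹ := by
  obtain ⟨R₂, hRR₂, hR₂fn⟩ := Fusion.exists_isConj_fullyNormalized F hRS
  obtain ⟨χ, hχ, hrχ⟩ := hRR₂
  have hR₂fa := (Fusion.fullyCentralized_fullyAutomized_of_fullyNormalized p hS F hF hR₂fn).2
  have hR₂S : R₂ ≤ S := hR₂fn.1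
  set e := Fusion.equivOfRange χ (F.injective_of_mem hχ) hrχ with he
  have : Finite R₂ := Fusion.finite_of_le hR₂S
  have : Finite (MulAut R₂) := inferInstance
  have hθ₂ : MulAut.congr e θ ∈ F.autGroup R₂ := Fusion.congr_mem_autGroup F hχ hrχ _ hθ
  have hord : orderOf (MulAut.congr e θ) = p ^ k := by
    rw [MulEquiv.orderOf_eq, hk]
  have hU'A := Fusion.autInducedBy_le_autGroup F hR₂S
  have hU'card := (exists_sylow_eq_subgroupOf_iff (p := p) _ _ hU'A).mp hR₂fa.2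
  have hzp : IsPGroup p (Subgroup.zpowers (MulAut.congr e θ)) := by
    apply IsPGroup.of_card (n := k)
    rw [Nat.card_zpowers, hord]
  obtain ⟨β, hβA, hβ⟩ := exists_conj_le_of_card_eq_ppart (p := p) hU'A hU'card
    ((Subgroup.zpowers_le).mpr hθ₂) hzp
  have hδ : (MulAut.conj β) (MulAut.congr e θ) ∈ autInducedBy S R₂ :=
    hβ ⟨_, Subgroup.mem_zpowers _, rfl⟩
  rw [mem_autInducedBy_iff] at hδ
  obtain ⟨g, hgS, hg⟩ := hδ
  set e' : R ≃* R₂ := e.trans β with he'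
  have hkey : ∀ x : R, (MulAut.conj β (MulAut.congr e θ)) (e' x) = e' (θ x) := by
    intro x
    rw [MulAut.conj_apply]
    simp [he', MulAut.mul_apply]
  have hconj : ∀ x : R, ((e' (θ x) : R₂) : Ω) = g * (e' x : R₂) * g⁻¹ := fun x => by
    rw [← hkey, hg]
  have hβF := (Fusion.mem_autGroup_iff F hR₂S β).mp hβA
  have hχ' := F.comp_mem hχ hβF (fun x => (e x).2)
  exact ⟨_, hχ', g, hgS, hconj⟩

/-- Every `p`-element of `Aut_F(R)` lies in `Aut_E(R)`, if all maps of `F` are good. -/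
theorem pElement_mem_all [Finite S] (p : ℕ) [Fact p.Prime] (hS : IsPGroup p S)
    (F : FusionSystem S) (hF : F.IsSaturated p) (E : FusionSystem S)
    (hG : ∀ (P : Subgroup Ω) (φ : P →* Ω), φ ∈ F.Hom P → Good F E P φ)
    {R : Subgroup Ω} (hRS : R ≤ S) (θ : MulAut R)
    (hθ : θ ∈ F.autGroup R) (k : ℕ) (hk : orderOf θ = p ^ k) : θ ∈ E.autGroup R := by
  obtain ⟨χ, hχ, g, hgS, hconj⟩ := exists_conj_pElement p hS F hF hRS θ hθ k hk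
  obtain ⟨γ, hγ, χ₀, hχ₀, hv⟩ := hG R χ hχ
  have hχ₀S : ∀ x : R, χ₀ x ∈ S := (E.le_of_mem hχ₀).2
  obtain ⟨γ', hγ', hinv1, hinv2⟩ := exists_top_inv F (stronglyClosed_top F) hγ
  have hγ'S : ∀ s : S, γ' s ∈ S := (F.le_of_mem hγ').2
  have hγS : ∀ s : S, γ s ∈ S := (F.le_of_mem hγ).2
  set g' : Ω := γ' ⟨g, hgS⟩ with hg'
  have hg'S : g' ∈ S := hγ'S _
  have hγg' : γ ⟨g', hg'S⟩ = g := hinv2 ⟨g, hgS⟩ hg'S
  have hc : ∀ x : R, χ₀ (θ x) = g' * χ₀ x * g'⁻¹ := by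
    intro x
    have hmem : g' * χ₀ x * g'⁻¹ ∈ S := S.mul_mem (S.mul_mem hg'S (hχ₀S x)) (S.inv_mem hg'S)
    have h1 : γ ⟨χ₀ (θ x), hχ₀S _⟩ = γ ⟨g' * χ₀ x * g'⁻¹, hmem⟩ := by
      have h2 : (⟨g' * χ₀ x * g'⁻¹, hmem⟩ : S) = ⟨g', hg'S⟩ * ⟨χ₀ x, hχ₀S x⟩ * ⟨g', hg'S⟩⁻¹ := rfl
      rw [h2, map_mul, map_mul, map_inv, hγg', ← hv x, ← hv (θ x)]
      exact hconj x
    have h3 := F.injective_of_mem hγ h1
    exact congrArg Subtype.val h3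
  have hmr : ∀ x : R, χ₀ x ∈ χ₀.range := fun x => ⟨x, rfl⟩
  have hR₀S : χ₀.range ≤ S := Fusion.range_le E hχ₀
  have hcj := E.conj_mem hR₀S hg'S
  obtain ⟨χi, hχi, hχiv⟩ := E.inv_mem hχ₀
  have h1 := E.comp_mem hχ₀ hcj hmr
  have h1r : ∀ x : R, ((conjHom χ₀.range g').comp (χ₀.codRestrict χ₀.range hmr)) x ∈ χ₀.range := by
    intro x
    show g' * χ₀ x * g'⁻¹ ∈ χ₀.range
    rw [← hc x]
    exact hmr _
  have h2 := E.comp_mem h1 hχi h1r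
  rw [Fusion.mem_autGroup_iff E hRS]
  convert h2 using 1
  ext x
  show ((θ x : R) : Ω) = χi ⟨g' * χ₀ x * g'⁻¹, h1r x⟩
  rw [← hχiv (θ x)]
  exact app_congr χi _ _ (hc x)

theorem main [Finite S] (p : ℕ) [Fact p.Prime] (hS : IsPGroup p S)
    (F : FusionSystem S) (hF : F.IsSaturated p) (E : FusionSystem S) (hEF : E.IsSubsystemOf F)
    (h : ∀ P : Subgroup Ω, F.IsCentric P →
      (Subgroup.closure {α : ↥(F.autGroup P) | ∃ k : ℕ, orderOf α = p ^ k}).map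
        (F.autGroup P).subtype ≤ E.autGroup P) :
    E.HasPrimeToPIndexIn F p ∧
    (∀ (P : Subgroup Ω) (φ : P →* Ω), φ ∈ F.Hom P → ∃ α ∈ F.autGroup S, ∃ φ₀ ∈ E.Hom P,
      ∀ (x : P) (hx : φ₀ x ∈ S), φ x = ((α ⟨φ₀ x, hx⟩ : S) : Ω)) ∧
    ∀ P : Subgroup Ω, E.IsCentric P ↔ F.IsCentric P := by
  have hE'E : ∀ P, (coreSys F E).Hom P ⊆ E.Hom P := coreSys_sub F E
  have hE'F : (coreSys F E).IsSubsystemOf F := coreSys_sub_F F E
  have hSI : SItop F (coreSys F E) := SItop_coreSys F E hEF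
  have h' := fun P hP => closure_le_coreSys p F E h (P := P) hP
  have hgood := good_all_top p hS F hF (coreSys F E) hE'F hSI h'
  have hG' : ∀ (P : Subgroup Ω) (φ : P →* Ω), φ ∈ F.Hom P → Good F (coreSys F E) P φ :=
    fun P φ hφ => (hgood P hφ).2
  have hG : ∀ (P : Subgroup Ω) (φ : P →* Ω), φ ∈ F.Hom P → Good F E P φ := by
    intro P φ hφ
    obtain ⟨α, hα, φ₀, h₀, hv⟩ := hG' P φ hφ
    exact ⟨α, hα, φ₀, hE'E P h₀, hv⟩
  refine ⟨⟨hEF, ?_⟩, ?_, ?_⟩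
  · intro P hPS
    rw [Subgroup.map_le_iff_le_comap, Subgroup.closure_le]
    rintro ⟨α, hα⟩ ⟨k, hk⟩
    show α ∈ E.autGroup P
    apply pElement_mem_all p hS F hF E hG hPS α hα k
    rw [← hk, Subgroup.orderOf_mk]
  · intro P φ hφ
    obtain ⟨α, hα, φ₀, h₀, hv⟩ := hG P φ hφ
    have hr : α.range = S := (Fusion.weaklyClosed_of_stronglyClosed F (stronglyClosed_top F)).2 α hα
    obtain ⟨a, ha, hav⟩ := Fusion.exists_aut_of_range_eq F hα hr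
    refine ⟨a, ha, φ₀, h₀, fun x hx => ?_⟩
    rw [hav]
    exact hv x
  · intro P
    constructor
    · intro hP
      refine ⟨hP.1, ?_⟩
      rintro Q ⟨φ, hφ, rfl⟩
      obtain ⟨γ, hγ, φ₀, h₀, hv⟩ := hG P φ hφ
      have hφ₀S : ∀ x : P, φ₀ x ∈ S := (E.le_of_mem h₀).2
      obtain ⟨γ', hγ', hinv1, hinv2⟩ := exists_top_inv F (stronglyClosed_top F) hγ
      have hγ'S : ∀ s : S, γ' s ∈ S := (F.le_of_mem hγ').2
      have hγS : ∀ s : S, γ s ∈ S := (F.le_of_mem hγ).2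
      intro c hc
      obtain ⟨hcS, hcC⟩ := Subgroup.mem_inf.mp hc
      set c₀ : Ω := γ' ⟨c, hcS⟩ with hc₀
      have hc₀S : c₀ ∈ S := hγ'S _
      have hγc₀ : γ ⟨c₀, hc₀S⟩ = c := hinv2 ⟨c, hcS⟩ hc₀S
      have hcen : c₀ ∈ centralizerIn S φ₀.range := by
        refine Subgroup.mem_inf.mpr ⟨hc₀S, ?_⟩
        rw [Subgroup.mem_centralizer_iff]
        rintro _ ⟨x, rfl⟩
        have hm1 : φ₀ x * c₀ ∈ S := S.mul_mem (hφ₀S x) hc₀S
        have hm2 : c₀ * φ₀ x ∈ S := S.mul_mem hc₀S (hφ₀S x)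
        have h1 : γ ⟨φ₀ x * c₀, hm1⟩ = γ ⟨c₀ * φ₀ x, hm2⟩ := by
          have e1 : (⟨φ₀ x * c₀, hm1⟩ : S) = ⟨φ₀ x, hφ₀S x⟩ * ⟨c₀, hc₀S⟩ := rfl
          have e2 : (⟨c₀ * φ₀ x, hm2⟩ : S) = ⟨c₀, hc₀S⟩ * ⟨φ₀ x, hφ₀S x⟩ := rfl
          rw [e1, e2, map_mul, map_mul, hγc₀, ← hv x]
          exact (Subgroup.mem_centralizer_iff.mp hcC) (φ x) ⟨x, rfl⟩
        exact congrArg Subtype.val (F.injective_of_mem hγ h1)
      have hc₀R : c₀ ∈ φ₀.range := hP.2 φ₀.range ⟨φ₀, h₀, rfl⟩ hcen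
      obtain ⟨x, hx⟩ := hc₀R
      refine ⟨x, ?_⟩
      rw [hv x, ← hγc₀]
      exact app_congr γ _ _ hx
    · intro hP
      exact Fusion.isCentric_of_le_system (F := F) (F' := E) hEF hP

end Cfsg.Agent.Lead.PrimeIdx
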