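import Mathlib
import Cfsg.Prelude.Def_FusionSystem
import Cfsg.Agent.Lead.Fusion
import Cfsg.Agent.Lead.FusionAut
import Cfsg.Agent.Lead.FusionConj
import Cfsg.Agent.Lead.FusionInner

set_option autoImplicit false

namespace Cfsg.Agent.Lead

open Cfsg Cfsg.FusionSystem

variable {Ω : Type*} [Group Ω] {S : Subgroup Ω}

/-- A family of maps of `F` on a class `C` of subgroups closed under `F`-conjugacy, containing the
conjugations by `S` and closed under composition and inverses. -/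
structure Fusion.Groupoid (F : FusionSystem S) (C : Subgroup Ω → Prop) where
  G : (P : Subgroup Ω) → Set (P →* Ω)
  conj : ∀ {P : Subgroup Ω} {g : Ω}, C P → P ≤ S → g ∈ S → conjHom P g ∈ G P
  comp : ∀ {P : Subgroup Ω} {φ : P →* Ω} {ψ : φ.range →* Ω}, C P → φ ∈ F.Hom P → φ ∈ G P →
    ψ ∈ G φ.range → ψ.comp (φ.codRestrict φ.range (fun x => ⟨x, rfl⟩)) ∈ G P
  inv : ∀ {P : Subgroup Ω} {φ : P →* Ω}, C P → φ ∈ F.Hom P → φ ∈ G P →
    ∃ ψ ∈ G φ.range, ∀ x : P, ψ ⟨φ x, ⟨x, rfl⟩⟩ = (x : Ω)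

theorem Fusion.Groupoid.exists_inv {F : FusionSystem S} {C : Subgroup Ω → Prop}
    (𝓖 : Fusion.Groupoid F C) {P Q : Subgroup Ω} {φ : P →* Ω} (hC : C P) (hφF : φ ∈ F.Hom P)
    (hφ : φ ∈ 𝓖.G P) (hr : φ.range = Q) :
    ∃ ψ ∈ 𝓖.G Q, ∀ x : P, ∀ h : φ x ∈ Q, ψ ⟨φ x, h⟩ = (x : Ω) := by
  subst hr
  obtain ⟨ψ, hψ, hinv⟩ := 𝓖.inv hC hφF hφ
  exact ⟨ψ, hψ, fun x h => hinv x⟩

/-- The maps of `F` whose restrictions to the subgroups in the class `C` lie in the groupoid. -/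
def Fusion.filterSysG (F : FusionSystem S) (C : Subgroup Ω → Prop)
    (hC : ∀ P P' : Subgroup Ω, C P → F.IsConj P P' → C P') (𝓖 : Fusion.Groupoid F C) :
    FusionSystem S where
  Hom P := {φ | φ ∈ F.Hom P ∧ ∀ (P₀ : Subgroup Ω) (h : P₀ ≤ P), C P₀ →
    φ.comp (Subgroup.inclusion h) ∈ 𝓖.G P₀}
  le_of_mem := fun h => F.le_of_mem h.1
  injective_of_mem := fun h => F.injective_of_mem h.1
  conj_mem := by
    intro P g hP hg
    refine ⟨F.conj_mem hP hg, fun P₀ h hc => ?_⟩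
    have := 𝓖.conj (P := P₀) (g := g) hc (h.trans hP) hg
    convert this using 1
    ext x
    rfl
  comp_mem := by
    rintro P Q φ ψ ⟨hφ, hφ'⟩ ⟨hψ, hψ'⟩ h
    refine ⟨F.comp_mem hφ hψ h, fun P₀ hP₀ hc => ?_⟩
    have h1 := hφ' P₀ hP₀ hc
    have hF1 := Fusion.restrict_mem F hφ hP₀
    have hQ₀ : (φ.comp (Subgroup.inclusion hP₀)).range ≤ Q := by
      rintro _ ⟨x, rfl⟩
      exact h _
    have hc' : C (φ.comp (Subgroup.inclusion hP₀)).range := hC _ _ hc ⟨_, hF1, rfl⟩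
    have h2 := hψ' _ hQ₀ hc'
    have h3 := 𝓖.comp hc hF1 h1 h2
    convert h3 using 1
    ext x
    rfl
  inv_mem := by
    rintro P φ ⟨hφ, hφ'⟩
    obtain ⟨ψ, hψ, hinv⟩ := F.inv_mem hφ
    refine ⟨ψ, ⟨hψ, fun Q₀ hQ₀ hc => ?_⟩, hinv⟩
    have hψ0 := Fusion.restrict_mem F hψ hQ₀
    obtain ⟨P₀, hP₀def⟩ : ∃ P₀ : Subgroup Ω, P₀ = (ψ.comp (Subgroup.inclusion hQ₀)).range :=
      ⟨_, rfl⟩
    have hP₀P : P₀ ≤ P := by
      rw [hP₀def]
      rintro _ ⟨y, rfl⟩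
      obtain ⟨x, hx⟩ := hQ₀ y.2
      have : ψ (Subgroup.inclusion hQ₀ y) = (x : Ω) := by
        rw [← hinv x]
        congr 1
        exact Subtype.ext hx.symm
      show ψ (Subgroup.inclusion hQ₀ y) ∈ P
      rw [this]
      exact x.2
    have hcP₀ : C P₀ := hC _ _ hc ⟨_, hψ0, hP₀def.symm⟩
    have hφ0 := hφ' P₀ hP₀P hcP₀
    have hφ0F := Fusion.restrict_mem F hφ hP₀P
    have hr : (φ.comp (Subgroup.inclusion hP₀P)).range = Q₀ := by
      ext y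
      constructor
      · rintro ⟨x, rfl⟩
        have hx : (x : Ω) ∈ (ψ.comp (Subgroup.inclusion hQ₀)).range := hP₀def ▸ x.2
        obtain ⟨q, hq⟩ := hx
        obtain ⟨x', hx'⟩ := hQ₀ q.2
        have h1 : ψ (Subgroup.inclusion hQ₀ q) = (x' : Ω) := by
          rw [← hinv x']
          congr 1
          exact Subtype.ext hx'.symm
        have h2 : (x' : Ω) = (x : Ω) := by
          rw [← h1]
          exact hq
        have h3 : Subgroup.inclusion hP₀P x = x' := Subtype.ext h2.symm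
        show φ (Subgroup.inclusion hP₀P x) ∈ Q₀
        rw [h3, hx']
        exact q.2
      · intro hy
        obtain ⟨x', hx'⟩ := hQ₀ hy
        have h1 : ψ (Subgroup.inclusion hQ₀ ⟨y, hy⟩) = (x' : Ω) := by
          rw [← hinv x']
          congr 1
          exact Subtype.ext hx'.symm
        have hx'P₀ : (x' : Ω) ∈ P₀ := by
          rw [hP₀def, ← h1]
          exact ⟨⟨y, hy⟩, rfl⟩
        refine ⟨⟨x', hx'P₀⟩, ?_⟩
        rw [← hx']
        rfl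
    obtain ⟨ψ₀, hψ₀, hinv₀⟩ := 𝓖.exists_inv hcP₀ hφ0F hφ0 hr
    convert hψ₀ using 1
    ext q
    obtain ⟨x', hx'⟩ := hQ₀ q.2
    have h1 : ψ (Subgroup.inclusion hQ₀ q) = (x' : Ω) := by
      rw [← hinv x']
      congr 1
      exact Subtype.ext hx'.symm
    have hx'P₀ : (x' : Ω) ∈ P₀ := by
      rw [hP₀def, ← h1]
      exact ⟨q, rfl⟩
    have h2 := hinv₀ ⟨x', hx'P₀⟩ (by
      show φ (Subgroup.inclusion hP₀P ⟨x', hx'P₀⟩) ∈ Q₀
      have : Subgroup.inclusion hP₀P ⟨x', hx'P₀⟩ = x' := Subtype.ext rfl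
      rw [this, hx']
      exact q.2)
    show ψ (Subgroup.inclusion hQ₀ q) = ψ₀ q
    rw [h1]
    rw [← h2]
    congr 1
    apply Subtype.ext
    show φ (Subgroup.inclusion hP₀P ⟨x', hx'P₀⟩) = (q : Ω)
    have : Subgroup.inclusion hP₀P ⟨x', hx'P₀⟩ = x' := Subtype.ext rfl
    rw [this, hx']

theorem Fusion.mem_filterSysG (F : FusionSystem S) (C : Subgroup Ω → Prop)
    (hC : ∀ P P' : Subgroup Ω, C P → F.IsConj P P' → C P') (𝓖 : Fusion.Groupoid F C)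
    (P : Subgroup Ω) (φ : P →* Ω) :
    φ ∈ (Fusion.filterSysG F C hC 𝓖).Hom P ↔ φ ∈ F.Hom P ∧ ∀ (P₀ : Subgroup Ω) (h : P₀ ≤ P),
      C P₀ → φ.comp (Subgroup.inclusion h) ∈ 𝓖.G P₀ := Iff.rfl

end Cfsg.Agent.Lead
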