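import Mathlib
import Cfsg.Prelude.Def_FusionSystem
import Cfsg.Agent.Lead.FusionExtT
import Cfsg.Agent.Lead.FusionExt
import Cfsg.Agent.Lead.FusionRestrict

set_option autoImplicit false

namespace Cfsg.Agent.Lead

open Cfsg Cfsg.FusionSystem

/-- A power of `γ` of order prime to `p`, with exponent congruent to `1` modulo a number prime to
`p`. -/
theorem exists_pow_coprime {Γ : Type*} [Group Γ] [Finite Γ] (p : ℕ) [Fact p.Prime] (γ : Γ) (m : ℕ)
    (hm : m.Coprime p) : ∃ k : ℕ, (orderOf (γ ^ k)).Coprime p ∧ k ≡ 1 [MOD m] := by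
  have hp : p.Prime := Fact.out
  have hpos : 0 < orderOf γ := orderOf_pos γ
  obtain ⟨a, m', hm', hγ⟩ := Nat.exists_eq_pow_mul_and_not_dvd hpos.ne' p hp.ne_one
  have hcop : (p ^ a).Coprime m := Nat.Coprime.pow_left a hm.symm
  obtain ⟨k, hk0, hk1⟩ := Nat.chineseRemainder hcop 0 1
  refine ⟨k, ?_, hk1⟩
  have hdvd : orderOf (γ ^ k) ∣ m' := by
    apply orderOf_dvd_of_pow_eq_one
    rw [← pow_mul]
    apply orderOf_dvd_iff_pow_eq_one.mp
    rw [hγ]
    exact Nat.mul_dvd_mul ((Nat.modEq_zero_iff_dvd).mp hk0) dvd_rfl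
  exact Nat.Coprime.coprime_dvd_left hdvd ((hp.coprime_iff_not_dvd.mpr hm').symm)

variable {Ω : Type*} [Group Ω] {S : Subgroup Ω}

/-- The range of an extension modulo `T`. -/
theorem Fusion.extT_range [Finite S] (F : FusionSystem S) {T : Subgroup Ω} (hT : F.StronglyClosed T)
    {P : Subgroup Ω} {φ : P →* Ω} {φh : ↥(P ⊔ T) →* Ω} (hφh : φh ∈ F.Hom (P ⊔ T))
    (hφx : ∀ x : P, (φ x)⁻¹ * φh (Subgroup.inclusion le_sup_left x) ∈ T) :
    φh.range = φ.range ⊔ T := by
  have hTle : T ≤ P ⊔ T := le_sup_right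
  apply le_antisymm
  · rintro _ ⟨y, rfl⟩
    revert y
    apply Fusion.sup_map_mem
    · intro x
      have h2 : φh (Subgroup.inclusion le_sup_left x) = φ x * ((φ x)⁻¹ *
          φh (Subgroup.inclusion le_sup_left x)) := by group
      rw [h2]
      exact Subgroup.mul_mem _ ((le_sup_left : φ.range ≤ _) ⟨x, rfl⟩)
        ((le_sup_right : T ≤ φ.range ⊔ T) (hφx x))
    · intro x
      exact (le_sup_right : T ≤ φ.range ⊔ T) (Fusion.map_mem_of_stronglyClosed F hT hφh _ x.2)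
  · have hTr : T ≤ φh.range := by
      intro t ht
      obtain ⟨t', ht', htt'⟩ := Fusion.exists_preimage_of_stronglyClosed F hT hTle hφh t ht
      exact ⟨_, htt'⟩
    apply sup_le _ hTr
    rintro _ ⟨x, rfl⟩
    have h2 : φ x = φh (Subgroup.inclusion le_sup_left x) *
        ((φ x)⁻¹ * φh (Subgroup.inclusion le_sup_left x))⁻¹ := by group
    rw [h2]
    exact Subgroup.mul_mem _ ⟨_, rfl⟩ (Subgroup.inv_mem _ (hTr (hφx x)))

/-- An automorphism in `Aut_F(P)` extends modulo `T` to an automorphism in `Aut_F(P ⊔ T)`. -/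
theorem Fusion.exists_aut_extT [Finite S] (p : ℕ) [Fact p.Prime] (hS : IsPGroup p S)
    (F : FusionSystem S) (hF : F.IsSaturated p) {T : Subgroup Ω} (hT : F.StronglyClosed T)
    {P : Subgroup Ω} (hPS : P ≤ S) (β : MulAut P) (hβ : β ∈ F.autGroup P) :
    ∃ βh ∈ F.autGroup (P ⊔ T), ∀ x : P,
      ((β x : P) : Ω)⁻¹ * ((βh (Subgroup.inclusion le_sup_left x) : ↥(P ⊔ T)) : Ω) ∈ T := by
  have hφ := (Fusion.mem_autGroup_iff F hPS β).mp hβ
  obtain ⟨φh, hφh, hφx⟩ := Fusion.extT_all p hS F hF hT hφ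
  have hr : (P.subtype.comp β.toMonoidHom).range = P := by
    ext y
    constructor
    · rintro ⟨x, rfl⟩
      exact (β x).2
    · intro hy
      refine ⟨β.symm ⟨y, hy⟩, ?_⟩
      show ((β (β.symm ⟨y, hy⟩) : P) : Ω) = y
      rw [MulEquiv.apply_symm_apply]
  have hrange : φh.range = P ⊔ T := by
    rw [Fusion.extT_range F hT hφh hφx, hr]
  obtain ⟨βh, hβh, hβhx⟩ := Fusion.exists_aut_of_range_eq F hφh hrange
  refine ⟨βh, hβh, fun x => ?_⟩
  rw [hβhx]
  exact hφx x

/-- Powers of an extension modulo `T` are extensions modulo `T` of the powers. -/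
theorem Fusion.extT_pow (F : FusionSystem S) {T : Subgroup Ω} (hT : F.StronglyClosed T)
    {P : Subgroup Ω} (hPS : P ≤ S) (β : MulAut P) (βh : MulAut ↥(P ⊔ T))
    (hβh : βh ∈ F.autGroup (P ⊔ T))
    (h : ∀ x : P, ((β x : P) : Ω)⁻¹ * ((βh (Subgroup.inclusion le_sup_left x) : ↥(P ⊔ T)) : Ω) ∈ T)
    (j : ℕ) (x : P) :
    (((β ^ j) x : P) : Ω)⁻¹ * (((βh ^ j) (Subgroup.inclusion le_sup_left x) : ↥(P ⊔ T)) : Ω) ∈ T := by
  have hPTS : P ⊔ T ≤ S := sup_le hPS hT.1
  induction j generalizing x with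
  | zero =>
    simp
  | succ j ih =>
    rw [pow_succ', pow_succ', MulAut.mul_apply, MulAut.mul_apply]
    set z : P := (β ^ j) x with hz
    set t : Ω := (z : Ω)⁻¹ * (((βh ^ j) (Subgroup.inclusion le_sup_left x) : ↥(P ⊔ T)) : Ω) with ht
    have htT : t ∈ T := ih x
    have htPT : t ∈ P ⊔ T := (le_sup_right : T ≤ P ⊔ T) htT
    have h1 : (βh ^ j) (Subgroup.inclusion le_sup_left x) =
        Subgroup.inclusion le_sup_left z * ⟨t, htPT⟩ := by
      apply Subtype.ext
      show _ = (z : Ω) * t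
      rw [ht]; group
    rw [h1, map_mul]
    have h2 := h z
    have h3 : ((βh ⟨t, htPT⟩ : ↥(P ⊔ T)) : Ω) ∈ T :=
      Fusion.aut_mem_of_stronglyClosed F hPTS hT βh hβh ⟨t, htPT⟩ htT
    have h4 : ((β z : P) : Ω)⁻¹ * ((βh (Subgroup.inclusion le_sup_left z) * βh ⟨t, htPT⟩ :
        ↥(P ⊔ T)) : Ω) = (((β z : P) : Ω)⁻¹ *
        ((βh (Subgroup.inclusion le_sup_left z) : ↥(P ⊔ T)) : Ω)) * ((βh ⟨t, htPT⟩ : ↥(P ⊔ T)) : Ω) := by
      push_cast
      group
    rw [h4]
    exact T.mul_mem h2 h3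

end Cfsg.Agent.Lead

namespace Cfsg.Agent.Lead

open Cfsg Cfsg.FusionSystem

variable {Ω : Type*} [Group Ω] {S : Subgroup Ω}

/-- The predicate: conjugation by `x` on `T` is induced by an element of `O^p(Aut_F(T)) Inn(T)`. -/
def Fusion.ActsInB (F : FusionSystem S) (p : ℕ) (T : Subgroup Ω) (x : Ω) : Prop :=
  ∃ α ∈ ((pResidual p ↥(F.autGroup T)).map (F.autGroup T).subtype ⊔ Inn ↥T : Subgroup (MulAut ↥T)),
    ∀ t : ↥T, ((α t : ↥T) : Ω) = x * (t : Ω) * x⁻¹

theorem Fusion.actsInB_one (F : FusionSystem S) (p : ℕ) (T : Subgroup Ω) : Fusion.ActsInB F p T 1 :=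
  ⟨1, Subgroup.one_mem _, fun t => by simp⟩

theorem Fusion.actsInB_mul (F : FusionSystem S) (p : ℕ) (T : Subgroup Ω) {x y : Ω}
    (hx : Fusion.ActsInB F p T x) (hy : Fusion.ActsInB F p T y) : Fusion.ActsInB F p T (x * y) := by
  obtain ⟨α, hα, hαx⟩ := hx
  obtain ⟨β, hβ, hβy⟩ := hy
  refine ⟨α * β, Subgroup.mul_mem _ hα hβ, fun t => ?_⟩
  rw [MulAut.mul_apply, hαx, hβy]
  group

theorem Fusion.actsInB_inv (F : FusionSystem S) (p : ℕ) (T : Subgroup Ω) {x : Ω}
    (hx : Fusion.ActsInB F p T x) : Fusion.ActsInB F p T x⁻¹ := by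
  obtain ⟨α, hα, hαx⟩ := hx
  refine ⟨α⁻¹, Subgroup.inv_mem _ hα, fun t => ?_⟩
  have h1 := hαx (α⁻¹ t)
  rw [MulAut.apply_inv_self] at h1
  rw [h1]
  group

/-- The hyperfocal subgroup acts on a strongly closed subgroup through `O^p(Aut_F(T)) Inn(T)`. -/
theorem Fusion.hyperfocal_actsInB [Finite S] (p : ℕ) [Fact p.Prime] (hS : IsPGroup p S)
    (F : FusionSystem S) (hF : F.IsSaturated p) (T : Subgroup Ω) (hT : F.StronglyClosed T) :
    ∀ x ∈ F.hyperfocalSubgroup p, Fusion.ActsInB F p T x := by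
  have hp : p.Prime := Fact.out
  have hTS := hT.1
  have hTn := Fusion.le_normalizer_of_stronglyClosed F hT
  have : Finite T := Fusion.finite_of_le hTS
  intro x hx
  unfold FusionSystem.hyperfocalSubgroup at hx
  induction hx using Subgroup.closure_induction with
  | one => exact Fusion.actsInB_one F p T
  | mul a b _ _ ha hb => exact Fusion.actsInB_mul F p T ha hb
  | inv a _ ha => exact Fusion.actsInB_inv F p T ha
  | mem x hx =>
    obtain ⟨P, β', y, hPS, hβ', rfl⟩ := hx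
    have : Finite P := Fusion.finite_of_le hPS
    have : Finite (MulAut P) := inferInstance
    revert y
    unfold pResidual at hβ'
    induction hβ' using Subgroup.closure_induction with
    | one =>
      intro y
      have : (y : Ω)⁻¹ * ((((1 : F.autGroup P) : MulAut P) y : P) : Ω) = 1 := by
        show (y : Ω)⁻¹ * (y : Ω) = 1
        group
      rw [this]
      exact Fusion.actsInB_one F p T
    | mul β₁ β₂ _ _ h₁ h₂ =>
      intro y
      have : (y : Ω)⁻¹ * ((((β₁ * β₂ : F.autGroup P) : MulAut P) y : P) : Ω) =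
          ((y : Ω)⁻¹ * ((((β₂ : F.autGroup P) : MulAut P) y : P) : Ω)) *
          (((((β₂ : F.autGroup P) : MulAut P) y : P) : Ω)⁻¹ *
            ((((β₁ : F.autGroup P) : MulAut P) (((β₂ : F.autGroup P) : MulAut P) y) : P) : Ω)) := by
        show (y : Ω)⁻¹ * ((((β₁ : F.autGroup P) : MulAut P)
          (((β₂ : F.autGroup P) : MulAut P) y) : P) : Ω) = _
        group
      rw [this]
      exact Fusion.actsInB_mul F p T (h₂ y) (h₁ _)
    | inv β₁ _ h₁ =>
      intro y
      set z : P := ((β₁⁻¹ : F.autGroup P) : MulAut P) y with hz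
      have hzy : ((β₁ : F.autGroup P) : MulAut P) z = y := by
        rw [hz]
        show ((β₁ : F.autGroup P) : MulAut P) ((((β₁ : F.autGroup P) : MulAut P))⁻¹ y) = y
        rw [MulAut.apply_inv_self]
      have : (y : Ω)⁻¹ * (z : Ω) = ((z : Ω)⁻¹ * ((((β₁ : F.autGroup P) : MulAut P) z : P) : Ω))⁻¹ := by
        rw [hzy]; group
      rw [this]
      exact Fusion.actsInB_inv F p T (h₁ z)
    | mem β' hβ'ord =>
      intro y
      -- the main case: `β'` has order prime to `p`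
      set β : MulAut P := (β' : MulAut P) with hβdef
      have hβA : β ∈ F.autGroup P := β'.2
      have hord : (orderOf β).Coprime p := by
        have : orderOf β = orderOf β' := Subgroup.orderOf_coe β'
        rw [this]; exact hβ'ord
      obtain ⟨βh, hβh, hβhx⟩ := Fusion.exists_aut_extT p hS F hF hT hPS β hβA
      have hPTS : P ⊔ T ≤ S := sup_le hPS hTS
      have : Finite ↥(P ⊔ T) := Fusion.finite_of_le hPTS
      have : Finite (MulAut ↥(P ⊔ T)) := inferInstance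
      obtain ⟨k, hkord, hk1⟩ := exists_pow_coprime p βh (orderOf β) hord
      set βt : MulAut ↥(P ⊔ T) := βh ^ k with hβt
      have hβtA : βt ∈ F.autGroup (P ⊔ T) := Subgroup.pow_mem _ hβh k
      have hβk : β ^ k = β := by
        have := (pow_eq_pow_iff_modEq (x := β)).mpr hk1
        rw [this, pow_one]
      have hβty : ∀ w : P, ((β w : P) : Ω)⁻¹ *
          ((βt (Subgroup.inclusion le_sup_left w) : ↥(P ⊔ T)) : Ω) ∈ T := by
        intro w
        have := Fusion.extT_pow F hT hPS β βh hβh hβhx k w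
        rwa [hβk] at this
      -- restriction to `T`
      have hTle : T ≤ P ⊔ T := le_sup_right
      obtain ⟨γ, hγA, hγx⟩ := Fusion.exists_restrict_aut F hPTS hTle βt hβtA
        (fun w hw => Fusion.aut_mem_of_stronglyClosed F hPTS hT βt hβtA w hw)
      have hγord : (orderOf γ).Coprime p := by
        apply Nat.Coprime.coprime_dvd_left _ hkord
        apply orderOf_dvd_of_pow_eq_one
        ext t
        have := Fusion.restrict_aut_pow hTle βt γ hγx (orderOf βt) t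
        rw [pow_orderOf_eq_one] at this
        exact this
      set A := F.autGroup T with hA
      have hγres : (⟨γ, hγA⟩ : A) ∈ pResidual p A := by
        apply Subgroup.subset_closure
        show (orderOf (⟨γ, hγA⟩ : A)).Coprime p
        rw [Subgroup.orderOf_mk]
        exact hγord
      have hresN : (pResidual p A).Normal := pResidual_normal' p
      -- conjugation by `y` on `T`
      have hyN : (y : Ω) ∈ Subgroup.normalizer (T : Set Ω) := hTn (hPS y.2)
      set cy : MulAut T := conjAutHom T ⟨y, hyN⟩ with hcy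
      have hcyA : cy ∈ A :=
        Fusion.autInducedBy_le_autGroup F hTS (Fusion.conjAutHom_mem_autInducedBy T _ (hPS y.2))
      have hδ : cy⁻¹ * γ * cy * γ⁻¹ ∈ (pResidual p A).map A.subtype := by
        have h1 : (⟨cy, hcyA⟩ : A)⁻¹ * ⟨γ, hγA⟩ * (⟨cy, hcyA⟩ : A)⁻¹⁻¹ ∈ pResidual p A :=
          hresN.conj_mem _ hγres _
        have h2 : (⟨cy, hcyA⟩ : A)⁻¹ * ⟨γ, hγA⟩ * (⟨cy, hcyA⟩ : A)⁻¹⁻¹ * (⟨γ, hγA⟩ : A)⁻¹ ∈
            pResidual p A := Subgroup.mul_mem _ h1 (Subgroup.inv_mem _ hγres)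
        refine ⟨_, h2, ?_⟩
        show cy⁻¹ * γ * cy⁻¹⁻¹ * γ⁻¹ = cy⁻¹ * γ * cy * γ⁻¹
        rw [inv_inv]
      -- the element `t₁`
      set t₁ : Ω := ((β y : P) : Ω)⁻¹ * ((βt (Subgroup.inclusion le_sup_left y) : ↥(P ⊔ T)) : Ω)
        with ht₁
      have ht₁T : t₁ ∈ T := hβty y
      refine ⟨cy⁻¹ * γ * cy * γ⁻¹ * (MulAut.conj (⟨t₁, ht₁T⟩ : T))⁻¹, ?_, fun t => ?_⟩
      · apply Subgroup.mul_mem
        · exact (le_sup_left : (pResidual p A).map A.subtype ≤ _) hδ
        · exact (le_sup_right : Inn ↥T ≤ _) (Subgroup.inv_mem _ ⟨⟨t₁, ht₁T⟩, rfl⟩)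
      · -- compute
        set u : T := (MulAut.conj (⟨t₁, ht₁T⟩ : T))⁻¹ t with hu
        have hu' : (u : Ω) = t₁⁻¹ * (t : Ω) * t₁ := by
          rw [hu, MulAut.conj_inv_apply]
          rfl
        set v : T := γ⁻¹ u with hv
        have hγv : γ v = u := by rw [hv, MulAut.apply_inv_self]
        set w : T := cy v with hw
        have hw' : (w : Ω) = (y : Ω) * (v : Ω) * (y : Ω)⁻¹ := rfl
        -- `γ w = βt(y) * u * βt(y)⁻¹`
        have hwPT : (⟨(w : Ω), hTle w.2⟩ : ↥(P ⊔ T)) =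
            Subgroup.inclusion le_sup_left y * ⟨(v : Ω), hTle v.2⟩ *
              (Subgroup.inclusion le_sup_left y)⁻¹ := Subtype.ext hw'
        have hγw : ((γ w : T) : Ω) =
            ((βt (Subgroup.inclusion le_sup_left y) : ↥(P ⊔ T)) : Ω) * (u : Ω) *
              ((βt (Subgroup.inclusion le_sup_left y) : ↥(P ⊔ T)) : Ω)⁻¹ := by
          rw [hγx w, hwPT, map_mul, map_mul, map_inv]
          have h5 : ((βt ⟨(v : Ω), hTle v.2⟩ : ↥(P ⊔ T)) : Ω) = (u : Ω) := by
            rw [← hγx v, hγv]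
          push_cast
          rw [h5]
        have hfinal : ((cy⁻¹ (γ w) : T) : Ω) = (y : Ω)⁻¹ * ((γ w : T) : Ω) * (y : Ω) := by
          have h6 : cy (cy⁻¹ (γ w)) = γ w := MulAut.apply_inv_self _ _ _
          have h7 : ((cy (cy⁻¹ (γ w)) : T) : Ω) = (y : Ω) * ((cy⁻¹ (γ w) : T) : Ω) * (y : Ω)⁻¹ := rfl
          rw [h6] at h7
          rw [h7]
          group
        show ((cy⁻¹ (γ (cy (γ⁻¹ ((MulAut.conj (⟨t₁, ht₁T⟩ : T))⁻¹ t)))) : T) : Ω) = _
        rw [← hu, ← hv, ← hw, hfinal, hγw, hu', ht₁]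
        group
  
end Cfsg.Agent.Lead
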