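import Mathlib
import Cfsg.Prelude.Def_FusionComponents
import Cfsg.Agent.Lead.FusionMorph3
import Cfsg.Agent.Lead.FusionFocal
import Cfsg.Agent.Lead.FusionHypAct

set_option autoImplicit false

namespace Cfsg.Agent.Lead

open Cfsg Cfsg.FusionSystem

variable {Ω : Type*} [Group Ω] {S : Subgroup Ω} {Ω' : Type*} [Group Ω'] {S' : Subgroup Ω'}

/-- The map from `P ≤ S` onto its image. -/
def Fusion.toImg (α : S →* Ω') (P : Subgroup Ω) (hP : P ≤ S) : P →* imageAlong α P :=
  (α.comp (Subgroup.inclusion hP)).codRestrict (imageAlong α P)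
    (fun x => (Fusion.mem_imageAlong α P _).mpr ⟨x.1, x.2, hP x.2, rfl⟩)

theorem Fusion.toImg_coe (α : S →* Ω') (P : Subgroup Ω) (hP : P ≤ S) (x : P) :
    ((Fusion.toImg α P hP x : imageAlong α P) : Ω') = α ⟨x.1, hP x.2⟩ := rfl

theorem Fusion.toImg_surjective (α : S →* Ω') (P : Subgroup Ω) (hP : P ≤ S) :
    Function.Surjective (Fusion.toImg α P hP) := by
  intro y
  obtain ⟨x, hx, hxS, hxy⟩ := (Fusion.mem_imageAlong α P y.1).mp y.2
  exact ⟨⟨x, hx⟩, Subtype.ext hxy⟩

/-- The elements of a group of automorphisms whose commutators with `P` lie in a subgroup `H`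
form a subgroup. -/
def Fusion.commSub {G : Type*} [Group G] {P : Subgroup G} (A : Subgroup (MulAut P)) (H : Subgroup G) :
    Subgroup A where
  carrier := {γ | ∀ x : P, (x : G)⁻¹ * (((γ : MulAut P) x : P) : G) ∈ H}
  one_mem' := fun x => by simp
  mul_mem' := by
    intro a b ha hb x
    have h1 := hb x
    have h2 := ha ((b : MulAut P) x)
    have := H.mul_mem h1 h2
    simpa [mul_assoc] using this
  inv_mem' := by
    intro a ha x
    have h1 := ha ((a : MulAut P)⁻¹ x)
    have := H.inv_mem h1
    simpa using this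

/-- The hyperfocal subgroup of the image lies in the image of the hyperfocal subgroup. -/
theorem Fusion.hyperfocal_image_le [Finite S] (p : ℕ) [Fact p.Prime] (F : FusionSystem S)
    (F' : FusionSystem S') (α : S →* Ω') (hα : F.IsSurjectiveMorphism F' α) :
    F'.hyperfocalSubgroup p ≤ ((F.hyperfocalSubgroup p).subgroupOf S).map α := by
  set H' := ((F.hyperfocalSubgroup p).subgroupOf S).map α with hH'
  unfold FusionSystem.hyperfocalSubgroup
  rw [Subgroup.closure_le]
  rintro y ⟨P', γ', y', hP'S', hγ', rfl⟩
  have key : pResidual p (F'.autGroup P') ≤ Fusion.commSub (F'.autGroup P') H' := by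
    unfold pResidual
    rw [Subgroup.closure_le]
    intro γ' hγ'
    have hγ'c : (orderOf γ').Coprime p := hγ'
    intro y'
    have hfinP : Finite ↥(preimageAlong α P') := Fusion.finite_of_le (Fusion.preimageAlong_le α P')
    have : Finite (MulAut ↥(preimageAlong α P')) := inferInstance
    obtain ⟨γ, hγA, hlift⟩ := Fusion.exists_liftsAut F F' α hα hP'S' (γ' : MulAut P') γ'.2
    have hord : orderOf (γ' : MulAut P') = orderOf γ' := Subgroup.orderOf_coe γ'
    obtain ⟨k, hk, hk1⟩ := exists_pow_coprime p γ (orderOf (γ' : MulAut P')) (hord ▸ hγ'c)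
    have hγk : (γ' : MulAut P') ^ k = γ' := by
      have := pow_eq_pow_iff_modEq.mpr hk1
      simpa using this
    have hlk := Fusion.liftsAut_pow α P' hlift k
    rw [hγk] at hlk
    obtain ⟨x, rfl⟩ := Fusion.toImage_surjective α hα.2.1 hP'S' y'
    rw [← hlk x]
    set a : F.autGroup (preimageAlong α P') := ⟨γ ^ k, Subgroup.pow_mem _ hγA k⟩ with ha
    have haR : a ∈ pResidual p (F.autGroup (preimageAlong α P')) := by
      apply mem_pResidual_of_coprime'
      rw [← Subgroup.orderOf_coe]
      exact hk
    have hmem := Fusion.mem_hyperfocal F p (Fusion.preimageAlong_le α P') a haR x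
    refine ⟨⟨_, Fusion.hyperfocal_le F p hmem⟩, Subgroup.mem_subgroupOf.mpr hmem, ?_⟩
    rw [Fusion.toImage_coe, Fusion.toImage_coe, ← map_inv, ← map_mul]
    rfl
  exact key hγ' y'

/-- The image of the hyperfocal subgroup lies in the hyperfocal subgroup of the image. -/
theorem Fusion.image_hyperfocal_le [Finite S] (p : ℕ) [Fact p.Prime] (F : FusionSystem S)
    (F' : FusionSystem S') (α : S →* Ω') (hα : F.IsMorphism F' α) :
    ((F.hyperfocalSubgroup p).subgroupOf S).map α ≤ F'.hyperfocalSubgroup p := by
  rw [Subgroup.map_le_iff_le_comap]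
  intro s hs
  rw [Subgroup.mem_subgroupOf] at hs
  rw [Subgroup.mem_comap]
  have hle : F.hyperfocalSubgroup p ≤ preimageAlong α (F'.hyperfocalSubgroup p) := by
    set H' := F'.hyperfocalSubgroup p with hH'
    unfold FusionSystem.hyperfocalSubgroup
    rw [Subgroup.closure_le]
    rintro y ⟨P, γ, x, hPS, hγ, rfl⟩
    have key : pResidual p (F.autGroup P) ≤
        Fusion.commSub (F.autGroup P) (preimageAlong α H') := by
      unfold pResidual
      rw [Subgroup.closure_le]
      intro γ hγ
      have hγc : (orderOf γ).Coprime p := hγ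
      intro x
      have hφ := (Fusion.mem_autGroup_iff F hPS (γ : MulAut P)).mp γ.2
      obtain ⟨φ', hφ', hPS', hφS, hPP', hind⟩ := hα.2 P _ hφ
      have himgS' : imageAlong α P ≤ S' := Fusion.src_le F' hφ'
      have hr : φ'.range = imageAlong α P := by
        ext y
        constructor
        · rintro ⟨z, rfl⟩
          obtain ⟨x₀, rfl⟩ := Fusion.toImg_surjective α P hPS z
          have := hind x₀
          rw [Fusion.mem_imageAlong]
          exact ⟨((γ : MulAut P) x₀ : P), ((γ : MulAut P) x₀).2, hPS ((γ : MulAut P) x₀).2,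
            this.symm⟩
        · intro hy
          obtain ⟨x₀, hx₀, hx₀S, rfl⟩ := (Fusion.mem_imageAlong α P y).mp hy
          refine ⟨Fusion.toImg α P hPS ((γ : MulAut P)⁻¹ ⟨x₀, hx₀⟩), ?_⟩
          have := hind ((γ : MulAut P)⁻¹ ⟨x₀, hx₀⟩)
          refine this.trans ?_
          congr 1
          apply Subtype.ext
          simp
      set γ' : MulAut ↥(imageAlong α P) :=
        Fusion.equivOfRange φ' (F'.injective_of_mem hφ') hr with hγ'
      have hγ'A : γ' ∈ F'.autGroup (imageAlong α P) := by
        rw [Fusion.mem_autGroup_iff F' himgS']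
        convert hφ' using 1
        ext y
        rfl
      have hlift : ∀ x : P, Fusion.toImg α P hPS ((γ : MulAut P) x) =
          γ' (Fusion.toImg α P hPS x) := by
        intro x
        apply Subtype.ext
        exact (hind x).symm
      have hpow : ∀ (k : ℕ) (x : P), Fusion.toImg α P hPS (((γ : MulAut P) ^ k) x) =
          (γ' ^ k) (Fusion.toImg α P hPS x) := by
        intro k
        induction k with
        | zero => intro x; simp
        | succ k ih =>
          intro x
          rw [pow_succ, pow_succ, MulAut.mul_apply, MulAut.mul_apply, ih, hlift]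
      have hord : orderOf γ' ∣ orderOf (γ : MulAut P) := by
        apply orderOf_dvd_of_pow_eq_one
        ext y
        obtain ⟨x₀, rfl⟩ := Fusion.toImg_surjective α P hPS y
        rw [← hpow, pow_orderOf_eq_one]
        rfl
      set a' : F'.autGroup (imageAlong α P) := ⟨γ', hγ'A⟩ with ha'
      have ha'R : a' ∈ pResidual p (F'.autGroup (imageAlong α P)) := by
        apply mem_pResidual_of_coprime'
        rw [← Subgroup.orderOf_coe]
        apply Nat.Coprime.coprime_dvd_left hord
        rw [Subgroup.orderOf_coe]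
        exact hγc
      have hmem := Fusion.mem_hyperfocal F' p himgS' a' ha'R (Fusion.toImg α P hPS x)
      show (x : Ω)⁻¹ * (((γ : MulAut P) x : P) : Ω) ∈ preimageAlong α H'
      rw [Fusion.mem_preimageAlong]
      refine ⟨S.mul_mem (S.inv_mem (hPS x.2)) (hPS ((γ : MulAut P) x).2), ?_⟩
      have h1 : (a' : MulAut ↥(imageAlong α P)) (Fusion.toImg α P hPS x) =
          Fusion.toImg α P hPS ((γ : MulAut P) x) := (hlift x).symm
      rw [h1, Fusion.toImg_coe, Fusion.toImg_coe, ← map_inv, ← map_mul] at hmem
      exact hmem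
    exact key hγ x
  obtain ⟨_, h⟩ := (Fusion.mem_preimageAlong α _ s.1).mp (hle hs)
  exact h

/-- The hyperfocal subgroup of a factor system. -/
theorem Fusion.hyperfocal_factor [Finite S] (p : ℕ) [Fact p.Prime] (hS : IsPGroup p S)
    (F : FusionSystem S) (hF : F.IsSaturated p) (T : Subgroup Ω) (hT : F.StronglyClosed T)
    (θ : S →* Ω') (E : FusionSystem S') (hE : F.IsFactorSystem T θ E) :
    E.hyperfocalSubgroup p = ((F.hyperfocalSubgroup p).subgroupOf S).map θ := by
  have hα := Fusion.isSurjectiveMorphism_of_isFactorSystem p hS F hF T hT θ E hE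
  exact le_antisymm (Fusion.hyperfocal_image_le p F E θ hα) (Fusion.image_hyperfocal_le p F E θ hα.1)

end Cfsg.Agent.Lead
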