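import Mathlib
import Cfsg.Prelude.Def_FusionComponents
import Cfsg.Agent.Lead.FusionMorph
import Cfsg.Agent.Lead.FusionInvariant

set_option autoImplicit false

namespace Cfsg.Agent.Lead

open Cfsg Cfsg.FusionSystem

variable {Ω : Type*} [Group Ω] {S : Subgroup Ω} {Ω' : Type*} [Group Ω'] {S' : Subgroup Ω'}

/-- The range of a lift, for a strongly closed kernel. -/
theorem Fusion.range_lift' [Finite S] (F : FusionSystem S) (θ : S →* Ω') {T : Subgroup Ω}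
    (hT : F.StronglyClosed T) (hker : ∀ s : S, θ s = 1 ↔ (s : Ω) ∈ T) (hr : θ.range = S')
    {P' : Subgroup Ω'} (hP' : P' ≤ S') {φ' : P' →* Ω'}
    {φ : ↥(preimageAlong θ P') →* Ω} (hφ : φ ∈ F.Hom (preimageAlong θ P'))
    (hind : InducedAlong θ φ φ') : φ.range = preimageAlong θ φ'.range := by
  obtain ⟨hPS, hφS, hPP', hind⟩ := hind
  have hTpre : T ≤ preimageAlong θ P' := by
    intro t ht
    rw [Fusion.mem_preimageAlong]
    refine ⟨hT.1 ht, ?_⟩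
    rw [(hker ⟨t, hT.1 ht⟩).mpr ht]
    exact Subgroup.one_mem _
  ext y
  constructor
  · rintro ⟨x, rfl⟩
    rw [Fusion.mem_preimageAlong]
    refine ⟨hφS x, ?_⟩
    rw [← hind x]
    exact ⟨_, rfl⟩
  · intro hy
    obtain ⟨hyS, hyQ⟩ := (Fusion.mem_preimageAlong θ _ y).mp hy
    obtain ⟨z, hz⟩ := hyQ
    have hzr : (z : Ω') ∈ θ.range := hr ▸ hP' z.2
    obtain ⟨s, hs⟩ := hzr
    have hsP : (s : Ω) ∈ preimageAlong θ P' :=
      (Fusion.mem_preimageAlong θ P' s.1).mpr ⟨s.2, hs ▸ z.2⟩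
    set x : ↥(preimageAlong θ P') := ⟨s.1, hsP⟩ with hx
    have hzx : z = ⟨θ ⟨x.1, hPS x.2⟩, hPP' x⟩ := Subtype.ext hs.symm
    have h1 : θ ⟨φ x, hφS x⟩ = θ ⟨y, hyS⟩ := by
      rw [← hind x, ← hzx, hz]
    have h2 : (φ x)⁻¹ * y ∈ T := by
      have h3 : θ (⟨φ x, hφS x⟩⁻¹ * ⟨y, hyS⟩) = 1 := by
        rw [map_mul, map_inv, h1, inv_mul_cancel]
      exact (hker _).mp h3
    obtain ⟨t', ht', ht⟩ := Fusion.exists_preimage_of_stronglyClosed F hT hTpre hφ _ h2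
    refine ⟨x * ⟨t', hTpre ht'⟩, ?_⟩
    rw [map_mul, ht]
    group

/-- The factor system of `F` modulo a strongly closed subgroup, read through `θ`. -/
def Fusion.factorSystem [Finite S] (F : FusionSystem S) (θ : S →* Ω') {T : Subgroup Ω}
    (hT : F.StronglyClosed T) (hker : ∀ s : S, θ s = 1 ↔ (s : Ω) ∈ T) (hr : θ.range = S') :
    FusionSystem S' where
  Hom P' := {φ' | P' ≤ S' ∧ ∃ φ ∈ F.Hom (preimageAlong θ P'), InducedAlong θ φ φ'}
  le_of_mem := by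
    rintro P' φ' ⟨hP', φ, hφ, hPS, hφS, hPP', hind⟩
    refine ⟨hP', fun x => ?_⟩
    have hxr : (x : Ω') ∈ θ.range := hr ▸ hP' x.2
    obtain ⟨s, hs⟩ := hxr
    have hsP : (s : Ω) ∈ preimageAlong θ P' :=
      (Fusion.mem_preimageAlong θ P' s.1).mpr ⟨s.2, hs ▸ x.2⟩
    have hx : x = ⟨θ ⟨s.1, hPS hsP⟩, hPP' ⟨s.1, hsP⟩⟩ := Subtype.ext hs.symm
    rw [hx, hind ⟨s.1, hsP⟩, ← hr]
    exact ⟨_, rfl⟩
  injective_of_mem := by
    rintro P' φ' ⟨hP', φ, hφ, hPS, hφS, hPP', hind⟩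
    rw [injective_iff_map_eq_one]
    intro x hx1
    have hxr : (x : Ω') ∈ θ.range := hr ▸ hP' x.2
    obtain ⟨s, hs⟩ := hxr
    have hsP : (s : Ω) ∈ preimageAlong θ P' :=
      (Fusion.mem_preimageAlong θ P' s.1).mpr ⟨s.2, hs ▸ x.2⟩
    have hx : x = ⟨θ ⟨s.1, hPS hsP⟩, hPP' ⟨s.1, hsP⟩⟩ := Subtype.ext hs.symm
    have hTpre : T ≤ preimageAlong θ P' := by
      intro t ht
      rw [Fusion.mem_preimageAlong]
      refine ⟨hT.1 ht, ?_⟩
      rw [(hker ⟨t, hT.1 ht⟩).mpr ht]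
      exact Subgroup.one_mem _
    rw [hx, hind ⟨s.1, hsP⟩] at hx1
    have h1 : φ ⟨s.1, hsP⟩ ∈ T := (hker _).mp hx1
    obtain ⟨t', ht', ht⟩ := Fusion.exists_preimage_of_stronglyClosed F hT hTpre hφ _ h1
    have h2 : (⟨t', hTpre ht'⟩ : ↥(preimageAlong θ P')) = ⟨s.1, hsP⟩ := F.injective_of_mem hφ ht
    have h3 : (s : Ω) ∈ T := by
      have := congrArg Subtype.val h2
      simp only at this
      rw [← this]; exact ht'
    apply Subtype.ext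
    rw [← hs]
    exact (hker s).mpr h3
  conj_mem := by
    intro P' g' hP' hg'
    have hgr : g' ∈ θ.range := hr ▸ hg'
    obtain ⟨g, rfl⟩ := hgr
    have hPS := Fusion.preimageAlong_le θ P'
    refine ⟨hP', conjHom (preimageAlong θ P') g, F.conj_mem hPS g.2, hPS, ?_, ?_, ?_⟩
    · intro x
      exact S.mul_mem (S.mul_mem g.2 (hPS x.2)) (S.inv_mem g.2)
    · intro x
      exact ((Fusion.mem_preimageAlong θ P' x.1).mp x.2).2
    · intro x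
      show θ g * θ ⟨x.1, hPS x.2⟩ * (θ g)⁻¹ = θ ⟨(g : Ω) * x.1 * (g : Ω)⁻¹, _⟩
      rw [← map_inv, ← map_mul, ← map_mul]
      rfl
  comp_mem := by
    rintro P' Q' φ' ψ' ⟨hP', φ, hφ, hPS, hφS, hPP', hind⟩ ⟨hQ', ψ, hψ, hQS, hψS, hQQ', hindψ⟩ h
    have h₂ : ∀ s : ↥(preimageAlong θ P'), φ s ∈ preimageAlong θ Q' := by
      intro s
      rw [Fusion.mem_preimageAlong]
      refine ⟨hφS s, ?_⟩
      rw [← hind s]
      exact h _
    refine ⟨hP', ψ.comp (φ.codRestrict _ h₂), F.comp_mem hφ hψ h₂, hPS, fun x => hψS _, hPP', ?_⟩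
    intro x
    show ψ' ⟨φ' ⟨θ ⟨x.1, hPS x.2⟩, hPP' x⟩, h _⟩ = θ ⟨ψ ⟨φ x, h₂ x⟩, _⟩
    rw [← hindψ ⟨φ x, h₂ x⟩]
    congr 1
    apply Subtype.ext
    exact hind x
  inv_mem := by
    rintro P' φ' ⟨hP', φ, hφ, hind⟩
    have hr' := Fusion.range_lift' F θ hT hker hr hP' hφ hind
    obtain ⟨hPS, hφS, hPP', hind⟩ := hind
    have hφ'inj : Function.Injective φ' := by
      -- reuse the injectivity argument through a helper statement below
      rw [injective_iff_map_eq_one]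
      intro x hx1
      have hxr : (x : Ω') ∈ θ.range := hr ▸ hP' x.2
      obtain ⟨s, hs⟩ := hxr
      have hsP : (s : Ω) ∈ preimageAlong θ P' :=
        (Fusion.mem_preimageAlong θ P' s.1).mpr ⟨s.2, hs ▸ x.2⟩
      have hx : x = ⟨θ ⟨s.1, hPS hsP⟩, hPP' ⟨s.1, hsP⟩⟩ := Subtype.ext hs.symm
      have hTpre : T ≤ preimageAlong θ P' := by
        intro t ht
        rw [Fusion.mem_preimageAlong]
        refine ⟨hT.1 ht, ?_⟩
        rw [(hker ⟨t, hT.1 ht⟩).mpr ht]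
        exact Subgroup.one_mem _
      rw [hx, hind ⟨s.1, hsP⟩] at hx1
      have h1 : φ ⟨s.1, hsP⟩ ∈ T := (hker _).mp hx1
      obtain ⟨t', ht', ht⟩ := Fusion.exists_preimage_of_stronglyClosed F hT hTpre hφ _ h1
      have h2 : (⟨t', hTpre ht'⟩ : ↥(preimageAlong θ P')) = ⟨s.1, hsP⟩ :=
        F.injective_of_mem hφ ht
      have h3 : (s : Ω) ∈ T := by
        have := congrArg Subtype.val h2
        simp only at this
        rw [← this]; exact ht'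
      apply Subtype.ext
      rw [← hs]
      exact (hker s).mpr h3
    obtain ⟨ψ, hψ, hψinv⟩ := F.inv_mem hφ
    obtain ⟨χ, hχ, hχψ⟩ := Fusion.exists_hom_of_eq F hr' hψ
    set ψ' : ↥φ'.range →* Ω' :=
      P'.subtype.comp (MonoidHom.ofInjective hφ'inj).symm.toMonoidHom with hψ'
    have hψ'inv : ∀ x : P', ψ' ⟨φ' x, ⟨x, rfl⟩⟩ = x := by
      intro x
      have : (MonoidHom.ofInjective hφ'inj).symm ⟨φ' x, ⟨x, rfl⟩⟩ = x := by
        apply (MonoidHom.ofInjective hφ'inj).injective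
        rw [MulEquiv.apply_symm_apply]
        rfl
      show (((MonoidHom.ofInjective hφ'inj).symm ⟨φ' x, ⟨x, rfl⟩⟩ : P') : Ω') = x
      rw [this]
    have hrangeS' : φ'.range ≤ S' := by
      rintro _ ⟨x, rfl⟩
      have hxr : (x : Ω') ∈ θ.range := hr ▸ hP' x.2
      obtain ⟨s, hs⟩ := hxr
      have hsP : (s : Ω) ∈ preimageAlong θ P' :=
        (Fusion.mem_preimageAlong θ P' s.1).mpr ⟨s.2, hs ▸ x.2⟩
      have hx : x = ⟨θ ⟨s.1, hPS hsP⟩, hPP' ⟨s.1, hsP⟩⟩ := Subtype.ext hs.symm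
      rw [hx, hind ⟨s.1, hsP⟩, ← hr]
      exact ⟨_, rfl⟩
    have hpreS := Fusion.preimageAlong_le θ φ'.range
    refine ⟨ψ', ⟨hrangeS', χ, hχ, hpreS, fun y => Fusion.map_mem F hχ y,
      fun y => ((Fusion.mem_preimageAlong θ _ y.1).mp y.2).2, ?_⟩, hψ'inv⟩
    intro y
    have hy : (y : Ω) ∈ φ.range := hr'.ge y.2
    obtain ⟨s₀, hs₀⟩ := id hy
    have h1 : χ y = s₀ := by
      have := hχψ y.1 hy y.2
      rw [this]
      have h2 : (⟨(y : Ω), hy⟩ : ↥φ.range) = ⟨φ s₀, ⟨s₀, rfl⟩⟩ := Subtype.ext hs₀.symm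
      rw [h2, hψinv]
    have h3 : (⟨θ ⟨y.1, hpreS y.2⟩, ((Fusion.mem_preimageAlong θ _ y.1).mp y.2).2⟩ : ↥φ'.range) =
        ⟨φ' ⟨θ ⟨s₀.1, hPS s₀.2⟩, hPP' s₀⟩, ⟨_, rfl⟩⟩ := by
      apply Subtype.ext
      show θ ⟨y.1, hpreS y.2⟩ = φ' ⟨θ ⟨s₀.1, hPS s₀.2⟩, hPP' s₀⟩
      rw [hind s₀]
      congr 1
      exact Subtype.ext hs₀.symm
    rw [h3, hψ'inv]
    show θ ⟨s₀.1, hPS s₀.2⟩ = θ ⟨χ y, _⟩
    congr 1
    exact Subtype.ext h1.symm

theorem Fusion.factorSystem_isFactorSystem [Finite S] (F : FusionSystem S) (θ : S →* Ω')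
    {T : Subgroup Ω} (hT : F.StronglyClosed T) (hker : ∀ s : S, θ s = 1 ↔ (s : Ω) ∈ T)
    (hr : θ.range = S') : F.IsFactorSystem T θ (Fusion.factorSystem F θ hT hker hr) :=
  ⟨hT.1, hker, hr, fun _ _ => Iff.rfl⟩

end Cfsg.Agent.Lead
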