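import Mathlib

set_option autoImplicit false

namespace Cfsg.Agent.Lead

open scoped Classical

variable {V : Type*} [CommGroup V]

/-- The fixed points of a group of automorphisms. -/
def fixedSubgroup (A : Subgroup (MulAut V)) : Subgroup V where
  carrier := {v | ∀ α ∈ A, α v = v}
  one_mem' := fun α _ => map_one α
  mul_mem' := by
    intro a b ha hb α hα
    rw [map_mul, ha α hα, hb α hα]
  inv_mem' := by
    intro a ha α hα
    rw [map_inv, ha α hα]

theorem mem_fixedSubgroup (A : Subgroup (MulAut V)) (v : V) :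
    v ∈ fixedSubgroup A ↔ ∀ α ∈ A, α v = v := Iff.rfl

/-- The commutator `[V, A]`. -/
def commSubgroup (A : Subgroup (MulAut V)) : Subgroup V :=
  Subgroup.closure {w | ∃ v : V, ∃ α ∈ A, w = v⁻¹ * α v}

/-- The norm map of a finite group of automorphisms of a commutative group. -/
noncomputable def normHom (A : Subgroup (MulAut V)) [Fintype A] : V →* V :=
  ∏ α : A, (α : MulAut V).toMonoidHom

theorem normHom_apply (A : Subgroup (MulAut V)) [Fintype A] (v : V) :
    normHom A v = ∏ α : A, (α : MulAut V) v := by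
  rw [normHom, MonoidHom.finsetProd_apply]
  rfl

theorem normHom_map (A : Subgroup (MulAut V)) [Fintype A] (β : MulAut V) (hβ : β ∈ A) (v : V) :
    normHom A (β v) = normHom A v := by
  rw [normHom_apply, normHom_apply]
  apply Fintype.prod_equiv (Equiv.mulRight (⟨β, hβ⟩ : A))
  intro α
  rfl

theorem map_normHom (A : Subgroup (MulAut V)) [Fintype A] (β : MulAut V) (hβ : β ∈ A) (v : V) :
    β (normHom A v) = normHom A v := by
  rw [normHom_apply, map_prod]
  apply Fintype.prod_equiv (Equiv.mulLeft (⟨β, hβ⟩ : A))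
  intro α
  rfl

theorem normHom_mem_fixed (A : Subgroup (MulAut V)) [Fintype A] (v : V) :
    normHom A v ∈ fixedSubgroup A := fun β hβ => map_normHom A β hβ v

theorem normHom_of_fixed (A : Subgroup (MulAut V)) [Fintype A] (v : V) (hv : v ∈ fixedSubgroup A) :
    normHom A v = v ^ Fintype.card A := by
  rw [normHom_apply]
  rw [Finset.prod_congr rfl (fun α _ => hv α.1 α.2)]
  simp

theorem commSubgroup_le_ker (A : Subgroup (MulAut V)) [Fintype A] :
    commSubgroup A ≤ (normHom A).ker := by
  rw [commSubgroup, Subgroup.closure_le]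
  rintro w ⟨v, α, hα, rfl⟩
  rw [SetLike.mem_coe, MonoidHom.mem_ker, map_mul, map_inv, normHom_map A α hα]
  simp

theorem pow_card_mem_sup (A : Subgroup (MulAut V)) [Fintype A] (v : V) :
    v ^ Fintype.card A ∈ fixedSubgroup A ⊔ commSubgroup A := by
  have h1 : v ^ Fintype.card A = normHom A v * (∏ α : A, (v⁻¹ * (α : MulAut V) v))⁻¹ := by
    rw [normHom_apply, Finset.prod_mul_distrib, Finset.prod_const]
    simp
  rw [h1]
  apply Subgroup.mul_mem_sup (normHom_mem_fixed A v)
  apply Subgroup.inv_mem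
  apply Subgroup.prod_mem
  intro α _
  exact Subgroup.subset_closure ⟨v, α.1, α.2, rfl⟩

theorem fixed_inf_comm_eq_bot [Finite V] (A : Subgroup (MulAut V)) [Finite A]
    (hcop : (Nat.card A).Coprime (Nat.card V)) : fixedSubgroup A ⊓ commSubgroup A = ⊥ := by
  have := Fintype.ofFinite A
  rw [eq_bot_iff]
  intro v hv
  rw [Subgroup.mem_bot]
  obtain ⟨hvC, hvW⟩ := Subgroup.mem_inf.mp hv
  have h1 := normHom_of_fixed A v hvC
  have h2 : normHom A v = 1 := commSubgroup_le_ker A hvW
  rw [h2] at h1
  have h3 : orderOf v ∣ Fintype.card A := orderOf_dvd_of_pow_eq_one h1.symm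
  have h4 : orderOf v ∣ Nat.card V := orderOf_dvd_natCard v
  rw [← Nat.card_eq_fintype_card] at h3
  have h5 : orderOf v ∣ 1 := by
    have := Nat.dvd_gcd h3 h4
    rwa [hcop] at this
  exact orderOf_eq_one_iff.mp (Nat.dvd_one.mp h5)

theorem fixed_sup_comm_eq_top [Finite V] (A : Subgroup (MulAut V)) [Finite A]
    (hcop : (Nat.card A).Coprime (Nat.card V)) : fixedSubgroup A ⊔ commSubgroup A = ⊤ := by
  have := Fintype.ofFinite A
  rw [eq_top_iff]
  intro v _
  have hcop' : (Nat.card V).Coprime (Fintype.card A) := by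
    rw [← Nat.card_eq_fintype_card]; exact hcop.symm
  obtain ⟨w, hw⟩ := (powCoprime hcop').surjective v
  rw [← hw]
  exact pow_card_mem_sup A w

end Cfsg.Agent.Lead
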