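import Mathlib
import Cfsg.Prelude.Def_FusionSystem
import Cfsg.Agent.Lead.Fusion
import Cfsg.Agent.Lead.FusionConj
import Cfsg.Agent.Lead.FusionSat
import Cfsg.Agent.Lead.FusionSat2

set_option autoImplicit false

namespace Cfsg.Agent.Lead

open Cfsg Cfsg.FusionSystem

variable {Ω : Type*} [Group Ω] {S : Subgroup Ω}

/-- The image of `x` under a map of the system is conjugate to `x` in the system. -/
theorem Fusion.isConjElt_map (F : FusionSystem S) {P : Subgroup Ω} {φ : P →* Ω} (hφ : φ ∈ F.Hom P)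
    (x : P) : F.IsConjElt (x : Ω) (φ x) := by
  have hle : Subgroup.zpowers (x : Ω) ≤ P := by
    rw [Subgroup.zpowers_le]; exact x.2
  exact ⟨_, Fusion.restrict_mem F hφ hle, rfl⟩

/-- A subgroup of `S` whose elements have trivial conjugacy classes in the system is central
in `S`. -/
theorem Fusion.le_centralizerIn_of_conjElt (F : FusionSystem S) {Q : Subgroup Ω} (hQS : Q ≤ S)
    (hQ : ∀ x ∈ Q, ∀ y : Ω, F.IsConjElt x y → y = x) (T : Subgroup Ω) (hT : T ≤ S) :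
    Q ≤ centralizerIn S T := by
  intro x hx
  refine Subgroup.mem_inf.mpr ⟨hQS hx, ?_⟩
  rw [Subgroup.mem_centralizer_iff]
  intro g hg
  have h1 := F.conj_mem (P := Q) (g := g) hQS (hT hg)
  have h2 := hQ x hx _ (Fusion.isConjElt_map F h1 ⟨x, hx⟩)
  have h3 : g * x * g⁻¹ = x := h2
  calc g * x = g * x * g⁻¹ * g := by group
    _ = x * g := by rw [h3]

theorem Fusion.isCentral_iff [Finite S] (p : ℕ) [Fact p.Prime]
    (hS : IsPGroup p S) (F : FusionSystem S) (hF : F.IsSaturated p) (Q : Subgroup Ω) :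
    F.IsCentral Q ↔ (Q ≤ S ∧ ∀ x ∈ Q, ∀ y : Ω, F.IsConjElt x y → y = x) := by
  constructor
  · rintro ⟨hQS, hQ⟩
    refine ⟨hQS, ?_⟩
    rintro x hx y ⟨φ, hφ, rfl⟩
    obtain ⟨ψ, -, hψP, hψQ⟩ := hQ _ φ hφ
    have h1 := hψP ⟨x, Subgroup.mem_zpowers x⟩
    have h2 := hψQ ⟨x, hx⟩
    rw [← h1]
    exact h2
  · rintro ⟨hQS, hQ⟩
    refine ⟨hQS, ?_⟩
    -- Step 1: maps onto a receptive subgroup
    have step1 : ∀ (P' : Subgroup Ω) (φ' : P' →* Ω), φ' ∈ F.Hom P' → F.IsReceptive φ'.range →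
        ∃ ψ ∈ F.Hom (P' ⊔ Q), (∀ x : P', ψ (Subgroup.inclusion le_sup_left x) = φ' x) ∧
          ∀ x : Q, ψ (Subgroup.inclusion le_sup_right x) = x := by
      intro P' φ' hφ' hrec
      have hP'S := Fusion.src_le F hφ'
      obtain ⟨ψ', hψ', hext⟩ := hrec.2 P' φ' hφ' rfl
      have hle : P' ⊔ Q ≤ extender S P' φ' := by
        apply sup_le
        · exact Fusion.le_extender P' hP'S φ' (Fusion.map_mem F hφ')
        · exact (Fusion.le_centralizerIn_of_conjElt F hQS hQ P' hP'S).trans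
            (Fusion.centralizerIn_le_extender P' φ')
      have hψ := Fusion.restrict_mem F hψ' hle
      refine ⟨_, hψ, ?_, ?_⟩
      · intro x
        exact hext x.1 x.2 _
      · intro x
        exact hQ x.1 x.2 _ (Fusion.isConjElt_map F hψ (Subgroup.inclusion le_sup_right x))
    intro P φ hφ
    have hPS := Fusion.src_le F hφ
    have hRS : φ.range ≤ S := Fusion.range_le F hφ
    obtain ⟨R', hRR', hR'₁, hR'₂⟩ := hF φ.range hRS
    obtain ⟨ρ, hρ, hρN, hρR⟩ := Fusion.exists_hom_normalizerIn p hS F hR'₁ hR'₂ hRR'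
    have hRN := Fusion.le_normalizerIn hRS
    have hφN : ∀ x : P, φ x ∈ normalizerIn S φ.range := fun x => hRN ⟨x, rfl⟩
    have hφ' := F.comp_mem hφ hρ hφN
    set φ' : P →* Ω := ρ.comp (φ.codRestrict _ hφN) with hφ'def
    have hr' : φ'.range = R' := by
      ext y
      constructor
      · rintro ⟨x, rfl⟩
        rw [← hρR]
        refine ⟨⟨φ x, hφN x⟩, ?_, rfl⟩
        rw [SetLike.mem_coe, Subgroup.mem_subgroupOf]
        exact ⟨x, rfl⟩
      · intro hy
        rw [← hρR] at hy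
        obtain ⟨m, hm, rfl⟩ := hy
        rw [SetLike.mem_coe, Subgroup.mem_subgroupOf] at hm
        obtain ⟨x, hx⟩ := hm
        refine ⟨x, ?_⟩
        show ρ ⟨φ x, hφN x⟩ = ρ m
        congr 1
        exact Subtype.ext hx
    obtain ⟨ψ', hψ', hψ'P, hψ'Q⟩ := step1 P φ' hφ' (hr' ▸ hR'₂)
    have hQN : Q ≤ normalizerIn S φ.range :=
      (Fusion.le_centralizerIn_of_conjElt F hQS hQ _ hRS).trans
        (Fusion.centralizerIn_le_normalizerIn _)
    have hρQ : ∀ x : Q, ρ ⟨x.1, hQN x.2⟩ = x := fun x =>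
      hQ x.1 x.2 _ (Fusion.isConjElt_map F hρ ⟨x.1, hQN x.2⟩)
    have hval : ∀ z : ↥(P ⊔ Q), ψ' z ∈ ρ.range := by
      apply Fusion.sup_map_mem
      · intro x
        rw [hψ'P]
        exact ⟨_, rfl⟩
      · intro x
        rw [hψ'Q, ← hρQ x]
        exact ⟨_, rfl⟩
    obtain ⟨σ, hσ, hσinv, -⟩ := Fusion.exists_inv F hρ rfl
    have hψ := F.comp_mem hψ' hσ hval
    refine ⟨_, hψ, ?_, ?_⟩
    · intro x
      show σ ⟨ψ' (Subgroup.inclusion le_sup_left x), hval _⟩ = φ x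
      have h1 : ψ' (Subgroup.inclusion le_sup_left x) = ρ ⟨φ x, hφN x⟩ := hψ'P x
      have h2 : (⟨ψ' (Subgroup.inclusion le_sup_left x), hval _⟩ : ρ.range) =
          ⟨ρ ⟨φ x, hφN x⟩, ⟨_, rfl⟩⟩ := Subtype.ext h1
      rw [h2]
      exact hσinv _ _
    · intro x
      show σ ⟨ψ' (Subgroup.inclusion le_sup_right x), hval _⟩ = x
      have h1 : ψ' (Subgroup.inclusion le_sup_right x) = ρ ⟨x.1, hQN x.2⟩ := by
        rw [hψ'Q, hρQ]
      have h2 : (⟨ψ' (Subgroup.inclusion le_sup_right x), hval _⟩ : ρ.range) =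
          ⟨ρ ⟨x.1, hQN x.2⟩, ⟨_, rfl⟩⟩ := Subtype.ext h1
      rw [h2]
      exact hσinv _ _

end Cfsg.Agent.Lead
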