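import Mathlib
import Cfsg.Prelude.Def_FusionSystem
import Cfsg.Agent.Lead.Fusion
import Cfsg.Agent.Lead.FusionAut
import Cfsg.Agent.Lead.FusionConj
import Cfsg.Agent.Lead.FusionNormal
import Cfsg.Agent.Lead.FusionSat
import Cfsg.Agent.Lead.FusionSat2
import Cfsg.Agent.Lead.FusionInner
import Cfsg.Agent.Lead.FusionCentral
import Cfsg.Agent.Lead.CoprimeAbelian

set_option autoImplicit false

namespace Cfsg.Agent.Lead

open Cfsg Cfsg.FusionSystem

variable {Ω : Type*} [Group Ω] {S : Subgroup Ω}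

theorem Fusion.centralizerIn_eq_of_abelian (hab : ∀ x ∈ S, ∀ y ∈ S, x * y = y * x) {P : Subgroup Ω}
    (hP : P ≤ S) : centralizerIn S P = S := by
  apply le_antisymm inf_le_left
  intro x hx
  refine Subgroup.mem_inf.mpr ⟨hx, ?_⟩
  rw [Subgroup.mem_centralizer_iff]
  intro y hy
  exact hab y (hP hy) x hx

/-- Over an abelian `S`, every map of a saturated system extends to an element of `Aut_F(S)`. -/
theorem Fusion.exists_aut_extension_of_abelian [Finite S] (p : ℕ) [Fact p.Prime] (hS : IsPGroup p S)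
    (F : FusionSystem S) (hF : F.IsSaturated p) (hab : ∀ x ∈ S, ∀ y ∈ S, x * y = y * x)
    {P : Subgroup Ω} {φ : P →* Ω} (hφ : φ ∈ F.Hom P) :
    ∃ α ∈ F.autGroup S, ∀ (x : P), ((α ⟨x.1, Fusion.src_le F hφ x.2⟩ : S) : Ω) = φ x := by
  have hPS := Fusion.src_le F hφ
  have hRS : φ.range ≤ S := Fusion.range_le F hφ
  have hfc : F.IsFullyCentralized φ.range := by
    refine ⟨hRS, fun Q hQ => ?_⟩
    rw [Fusion.centralizerIn_eq_of_abelian hab hRS,
      Fusion.centralizerIn_eq_of_abelian hab (Fusion.isConj_tgt_le F hQ)]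
  have hrec := Fusion.receptive_of_fullyCentralized p hS F hF hfc
  obtain ⟨ψ', hψ', hext⟩ := hrec.2 P φ hφ rfl
  have hle : S ≤ extender S P φ := by
    have := Fusion.centralizerIn_le_extender (S := S) P φ
    rwa [Fusion.centralizerIn_eq_of_abelian hab hPS] at this
  have hψ := Fusion.restrict_mem F hψ' hle
  set ψ : S →* Ω := ψ'.comp (Subgroup.inclusion hle) with hψdef
  have hr : ψ.range = S := Fusion.isConj_top_eq F ⟨ψ, hψ, rfl⟩
  set α : MulAut S := Fusion.equivOfRange ψ (F.injective_of_mem hψ) hr with hα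
  refine ⟨α, ?_, fun x => ?_⟩
  · rw [Fusion.mem_autGroup_iff F le_rfl]
    convert hψ using 1
    ext y
    rfl
  · show ψ ⟨x.1, hPS x.2⟩ = φ x
    exact hext x.1 x.2 (hle (hPS x.2))

theorem Fusion.autInducedBy_top_eq_bot_of_abelian (hab : ∀ x ∈ S, ∀ y ∈ S, x * y = y * x) :
    autInducedBy S S = ⊥ := by
  rw [eq_bot_iff, autInducedBy, Subgroup.closure_le]
  rintro α ⟨g, hg, h⟩
  rw [SetLike.mem_coe, Subgroup.mem_bot]
  ext x
  rw [h x, hab g hg x x.2]
  simp

/-- Over an abelian `S`, `Aut_F(S)` has order prime to `p`. -/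
theorem Fusion.card_autGroup_top_coprime_of_abelian [Finite S] (p : ℕ) [Fact p.Prime]
    (F : FusionSystem S) (hF : F.IsSaturated p) (hab : ∀ x ∈ S, ∀ y ∈ S, x * y = y * x) :
    (Nat.card (F.autGroup S)).Coprime p := by
  have : Finite (MulAut S) := inferInstance
  obtain ⟨-, R, hR⟩ := Fusion.top_fullyAutomized p F hF
  rw [Fusion.autInducedBy_top_eq_bot_of_abelian hab] at hR
  have h1 : Nat.card R = 1 := by
    have : Nat.card (R : Subgroup (F.autGroup S)) = 1 := by
      rw [hR]
      simp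
    exact this
  have h2 := R.card_eq_multiplicity
  rw [h1] at h2
  have hp : p.Prime := Fact.out
  have h3 : (Nat.card (F.autGroup S)).factorization p = 0 := by
    by_contra hne
    have : 1 < p ^ (Nat.card (F.autGroup S)).factorization p :=
      Nat.one_lt_pow hne hp.one_lt
    omega
  rw [Nat.factorization_eq_zero_iff] at h3
  rcases h3 with h3 | h3 | h3
  · exact absurd hp h3
  · exact (hp.coprime_iff_not_dvd.mpr h3).symm
  · exact absurd h3 Nat.card_pos.ne'

/-- Over an abelian `S`, `S = Z(F) × foc(F)` for a saturated system. -/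
theorem Fusion.abelian_decomp [Finite S] (p : ℕ) [Fact p.Prime] (hS : IsPGroup p S)
    (F : FusionSystem S) (hF : F.IsSaturated p) (hab : ∀ x ∈ S, ∀ y ∈ S, x * y = y * x) :
    F.center ⊓ F.focalSubgroup = ⊥ ∧ F.center ⊔ F.focalSubgroup = S := by
  letI : CommGroup S :=
    { (inferInstance : Group S) with
      mul_comm := fun a b => Subtype.ext (hab a.1 a.2 b.1 b.2) }
  have : Finite (MulAut S) := inferInstance
  have hcop : (Nat.card (F.autGroup S)).Coprime (Nat.card S) := by
    obtain ⟨n, hn⟩ := IsPGroup.iff_card.mp hS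
    rw [hn]
    exact Nat.Coprime.pow_right n (Fusion.card_autGroup_top_coprime_of_abelian p F hF hab)
  have hC : F.center = (fixedSubgroup (F.autGroup S)).map S.subtype := by
    apply le_antisymm
    · have hZ := (Fusion.isCentral_iff p hS F hF F.center).mp (Fusion.center_isCentral F)
      intro x hx
      refine ⟨⟨x, hZ.1 hx⟩, ?_, rfl⟩
      intro α hα
      have hαF := (Fusion.mem_autGroup_iff F le_rfl α).mp hα
      have h1 := hZ.2 x hx _ (Fusion.isConjElt_map F hαF ⟨x, hZ.1 hx⟩)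
      exact Subtype.ext h1
    · apply le_sSup
      show F.IsCentral _
      rw [Fusion.isCentral_iff p hS F hF]
      refine ⟨?_, ?_⟩
      · rintro _ ⟨v, -, rfl⟩
        exact v.2
      · rintro _ ⟨v, hv, rfl⟩ y ⟨φ, hφ, rfl⟩
        obtain ⟨α, hα, hαφ⟩ := Fusion.exists_aut_extension_of_abelian p hS F hF hab hφ
        rw [← hαφ ⟨(S.subtype v), Subgroup.mem_zpowers _⟩]
        have h1 : (⟨((⟨(S.subtype v), Subgroup.mem_zpowers _⟩ : Subgroup.zpowers (S.subtype v)) : Ω),
            Fusion.src_le F hφ (Subgroup.mem_zpowers _)⟩ : S) = v := Subtype.ext rfl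
        rw [h1, hv α hα]
        rfl
  have hW : F.focalSubgroup = (commSubgroup (F.autGroup S)).map S.subtype := by
    apply le_antisymm
    · rw [focalSubgroup, Subgroup.closure_le]
      rintro y ⟨P, φ, x, hφ, rfl⟩
      obtain ⟨α, hα, hαφ⟩ := Fusion.exists_aut_extension_of_abelian p hS F hF hab hφ
      refine ⟨(⟨x.1, Fusion.src_le F hφ x.2⟩ : S)⁻¹ * α ⟨x.1, Fusion.src_le F hφ x.2⟩, ?_, ?_⟩
      · exact Subgroup.subset_closure ⟨_, α, hα, rfl⟩
      · rw [map_mul, map_inv]
        show (x : Ω)⁻¹ * ((α ⟨x.1, Fusion.src_le F hφ x.2⟩ : S) : Ω) = _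
        rw [hαφ x]
    · rw [Subgroup.map_le_iff_le_comap, commSubgroup, Subgroup.closure_le]
      rintro w ⟨v, α, hα, rfl⟩
      rw [SetLike.mem_coe, Subgroup.mem_comap]
      have hαF := (Fusion.mem_autGroup_iff F le_rfl α).mp hα
      apply Subgroup.subset_closure
      refine ⟨S, S.subtype.comp α.toMonoidHom, v, hαF, ?_⟩
      rw [map_mul, map_inv]
      rfl
  rw [hC, hW]
  constructor
  · rw [← Subgroup.map_inf _ _ S.subtype S.subtype_injective,
      fixed_inf_comm_eq_bot (F.autGroup S) hcop, Subgroup.map_bot]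
  · rw [← Subgroup.map_sup, fixed_sup_comm_eq_top (F.autGroup S) hcop, ← MonoidHom.range_eq_map,
      Subgroup.range_subtype]

end Cfsg.Agent.Lead
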