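import Mathlib
import Cfsg.Prelude.Def_FusionSystem
import Cfsg.Agent.Lead.FusionExt

set_option autoImplicit false

namespace Cfsg.Agent.Lead

open Cfsg Cfsg.FusionSystem

variable {Ω : Type*} [Group Ω]

theorem Fusion.inner_autGroup_le (Q P : Subgroup Ω) :
    (innerFusionSystem Q).autGroup P ≤ autInducedBy Q P := by
  unfold FusionSystem.autGroup autInducedBy
  apply Subgroup.closure_mono
  rintro α ⟨-, g, hg, h⟩
  exact ⟨g, hg, fun x => (h x)⟩

/-- The inner fusion system of a finite `p`-group is saturated. -/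
theorem Fusion.inner_isSaturated (p : ℕ) [Fact p.Prime] (Q : Subgroup Ω) [Finite Q]
    (hQ : IsPGroup p Q) : (innerFusionSystem Q).IsSaturated p := by
  intro P hP
  refine ⟨P, Fusion.isConj_refl _ hP, ⟨hP, ?_⟩, hP, ?_⟩
  · have htop : (autInducedBy Q P).subgroupOf ((innerFusionSystem Q).autGroup P) = ⊤ := by
      rw [Subgroup.subgroupOf_eq_top]
      exact Fusion.inner_autGroup_le Q P
    have hp : IsPGroup p ((innerFusionSystem Q).autGroup P) :=
      (Fusion.isPGroup_autInducedBy p hQ P).to_le (Fusion.inner_autGroup_le Q P)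
    refine ⟨⟨⊤, ?_, ?_⟩, ?_⟩
    · exact (IsPGroup.of_equiv hp Subgroup.topEquiv.symm)
    · intro R _ hR
      exact top_le_iff.mp hR
    · exact htop.symm
  · rintro P' φ ⟨hP'Q, g, hgQ, hg⟩ -
    have hle : extender Q P' φ ≤ Q := by
      unfold extender
      rw [Subgroup.closure_le]
      rintro x ⟨hx, -⟩
      exact hx
    refine ⟨conjHom _ g, ⟨hle, g, hgQ, fun x => rfl⟩, fun x hxP hxN => ?_⟩
    rw [hg]
    rfl

/-- `Q` is normal in the saturated system `F` iff the inner system of `Q` is weakly normal in `F`. -/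
theorem Fusion.isNormal_iff_inner_weaklyNormal {S : Subgroup Ω} [Finite S] (p : ℕ) [Fact p.Prime]
    (hS : IsPGroup p S) (F : FusionSystem S) (hF : F.IsSaturated p) (Q : Subgroup Ω) (hQ : Q ≤ S) :
    F.IsNormal Q ↔ (innerFusionSystem Q).IsWeaklyNormalIn F p := by
  have : Finite Q := Fusion.finite_of_le hQ
  have hQp : IsPGroup p Q := hS.to_le hQ
  constructor
  · intro hN
    have hsc := Fusion.stronglyClosed_of_isNormal F hN
    refine ⟨Fusion.inner_isSaturated p Q hQp, hF, ?_, hsc, ?_, ?_⟩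
    · rintro P φ ⟨hPQ, g, hgQ, hg⟩
      have := F.conj_mem (P := P) (g := g) (hPQ.trans hQ) (hQ hgQ)
      convert this using 1
      ext x
      exact hg x
    · rintro P hPQ φ ⟨-, g, hgQ, hg⟩ α hα
      refine ⟨conjHom _ ((α ⟨g, hgQ⟩ : Q) : Ω), ⟨?_, _, (α ⟨g, hgQ⟩).2, fun x => rfl⟩, ?_⟩
      · rintro _ ⟨x, -, rfl⟩
        exact (α x).2
      · intro x hφx hαx
        show ((α ⟨g, hgQ⟩ : Q) : Ω) * ((α ⟨x, hPQ x.2⟩ : Q) : Ω) * ((α ⟨g, hgQ⟩ : Q) : Ω)⁻¹ = _
        have h1 : (⟨φ x, hφx⟩ : Q) = ⟨g, hgQ⟩ * ⟨x, hPQ x.2⟩ * ⟨g, hgQ⟩⁻¹ := Subtype.ext (hg x)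
        rw [h1, map_mul, map_mul, map_inv]
        rfl
    · intro P hPQ φ hφ
      obtain ⟨α, hα, hαx⟩ := Fusion.exists_aut_extension_of_isNormal F hN P hPQ φ hφ
      refine ⟨α, hα, P.subtype, ⟨hPQ, 1, Q.one_mem, fun x => by simp⟩, fun x hx => ?_⟩
      rw [← hαx x]
      rfl
  · rintro ⟨-, -, -, hsc, -, hFr⟩
    apply Fusion.isNormal_of_forall_extension p hS F hF Q hQ
    intro P hPQ φ hφ
    obtain ⟨α, hα, φ₀, ⟨-, g, hgQ, hg⟩, h⟩ := hFr P hPQ φ hφ
    have hgN : g ∈ Subgroup.normalizer (Q : Set Ω) := Subgroup.le_normalizer hgQ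
    have hc : conjAutHom Q ⟨g, hgN⟩ ∈ F.autGroup Q :=
      Fusion.autInducedBy_le_autGroup F hQ (Fusion.conjAutHom_mem_autInducedBy Q _ (hQ hgQ))
    refine ⟨α * conjAutHom Q ⟨g, hgN⟩, Subgroup.mul_mem _ hα hc, fun x => ?_⟩
    have hx : φ₀ x ∈ Q := by
      rw [hg]
      exact Q.mul_mem (Q.mul_mem hgQ (hPQ x.2)) (Q.inv_mem hgQ)
    rw [h x hx, MulAut.mul_apply]
    congr 2
    apply Subtype.ext
    rw [conjAutHom_apply]
    exact (hg x).symm

end Cfsg.Agent.Lead
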