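import Mathlib
import Cfsg.Prelude.Def_FusionSystem
import Cfsg.Agent.Lead.FusionInnerSat
import Cfsg.Agent.Lead.FusionAbelian

set_option autoImplicit false

namespace Cfsg.Agent.Lead

open Cfsg Cfsg.FusionSystem

variable {Ω : Type*} [Group Ω] {S : Subgroup Ω}

theorem Fusion.top_isNormal_of_abelian [Finite S] (p : ℕ) [Fact p.Prime] (hS : IsPGroup p S)
    (F : FusionSystem S) (hF : F.IsSaturated p) (hab : ∀ x ∈ S, ∀ y ∈ S, x * y = y * x) :
    F.IsNormal S := by
  apply Fusion.isNormal_of_forall_extension p hS F hF S le_rfl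
  intro P hPS φ hφ
  obtain ⟨α, hα, hαx⟩ := Fusion.exists_aut_extension_of_abelian p hS F hF hab hφ
  exact ⟨α, hα, fun x => hαx x⟩

theorem Fusion.inner_autGroup_eq_one_of_abelian {T : Subgroup Ω}
    (hab : ∀ x ∈ T, ∀ y ∈ T, x * y = y * x) (α : MulAut T)
    (hα : α ∈ (innerFusionSystem T).autGroup T) : α = 1 := by
  have h1 := Fusion.inner_autGroup_le T T hα
  rw [Fusion.autInducedBy_top_eq_bot_of_abelian hab, Subgroup.mem_bot] at h1
  exact h1

/-- The inner system of an abelian subgroup normal in a saturated system is a normal subsystem. -/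
theorem Fusion.inner_isNormalIn_of_abelian [Finite S] (p : ℕ) [Fact p.Prime] (hS : IsPGroup p S)
    (F : FusionSystem S) (hF : F.IsSaturated p) {T : Subgroup Ω} (hT : F.IsNormal T)
    (hab : ∀ x ∈ T, ∀ y ∈ T, x * y = y * x) : (innerFusionSystem T).IsNormalIn F p := by
  refine ⟨(Fusion.isNormal_iff_inner_weaklyNormal p hS F hF T hT.1).mp hT, fun α hα => ?_⟩
  have h1 := Fusion.inner_autGroup_eq_one_of_abelian hab α hα
  subst h1
  refine ⟨1, Subgroup.one_mem _, fun x => rfl, fun c _ => ?_⟩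
  have : (c : Ω)⁻¹ * (((1 : MulAut ↥(T ⊔ centralizerIn S T)) c : ↥(T ⊔ centralizerIn S T)) : Ω) = 1 := by
    show (c : Ω)⁻¹ * (c : Ω) = 1
    group
  rw [this]
  exact Subgroup.one_mem _

/-- In the inner fusion system of an abelian group every subgroup is normal. -/
theorem Fusion.inner_isNormal_of_abelian (hab : ∀ x ∈ S, ∀ y ∈ S, x * y = y * x)
    {T : Subgroup Ω} (hTS : T ≤ S) : (innerFusionSystem S).IsNormal T := by
  refine ⟨hTS, ?_⟩
  rintro P φ ⟨hPS, g, hg, hφ⟩
  have hPT : P ⊔ T ≤ S := sup_le hPS hTS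
  refine ⟨conjHom (P ⊔ T) g, ⟨hPT, g, hg, fun x => rfl⟩, fun x => (hφ x).symm, ?_⟩
  ext y
  constructor
  · rintro ⟨x, hx, rfl⟩
    rw [SetLike.mem_coe, Subgroup.mem_subgroupOf] at hx
    show g * (x : Ω) * g⁻¹ ∈ T
    rw [hab g hg x (hTS hx), mul_inv_cancel_right]
    exact hx
  · intro hy
    refine ⟨⟨y, (le_sup_right : T ≤ P ⊔ T) hy⟩, ?_, ?_⟩
    · rw [SetLike.mem_coe, Subgroup.mem_subgroupOf]
      exact hy
    · show g * y * g⁻¹ = y
      rw [hab g hg y (hTS hy), mul_inv_cancel_right]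

theorem Fusion.isNormal_congr {F F' : FusionSystem S} (h : ∀ P, F.Hom P = F'.Hom P) {T : Subgroup Ω}
    (hT : F'.IsNormal T) : F.IsNormal T := by
  refine ⟨hT.1, fun P φ hφ => ?_⟩
  rw [h P] at hφ
  obtain ⟨ψ, hψ, h1, h2⟩ := hT.2 P φ hφ
  exact ⟨ψ, by rw [h]; exact hψ, h1, h2⟩

/-- A saturated fusion system over an abelian `p`-group is simple iff the group has order `p` and the
system is the inner one. -/
theorem Fusion.isSimple_iff_of_abelian [Finite S] (p : ℕ) [Fact p.Prime] (hS : IsPGroup p S)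
    (F : FusionSystem S) (hF : F.IsSaturated p) (hab : ∀ x ∈ S, ∀ y ∈ S, x * y = y * x) :
    F.IsSimple p ↔ (Nat.card S = p ∧ ∀ P : Subgroup Ω, F.Hom P = (innerFusionSystem S).Hom P) := by
  have hp : p.Prime := Fact.out
  constructor
  · rintro ⟨-, hne, hsimple⟩
    have hSn := Fusion.top_isNormal_of_abelian p hS F hF hab
    have h1 := Fusion.inner_isNormalIn_of_abelian p hS F hF hSn hab
    have hinner : ∀ P : Subgroup Ω, F.Hom P = (innerFusionSystem S).Hom P := by
      rcases hsimple S _ h1 with h | ⟨-, h⟩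
      · exact absurd h hne
      · exact fun P => (h P).symm
    refine ⟨?_, hinner⟩
    -- a subgroup of order `p`
    have hnt : Nontrivial S := (Subgroup.nontrivial_iff_ne_bot S).mpr hne
    have hdvd : p ∣ Nat.card S := by
      obtain ⟨n, hn0, hn⟩ := hS.nontrivial_iff_card.mp hnt
      rw [hn]
      exact dvd_pow_self p (Nat.pos_iff_ne_zero.mp hn0)
    obtain ⟨x, hx⟩ := exists_prime_orderOf_dvd_card' p hdvd
    set T : Subgroup Ω := Subgroup.zpowers (x : Ω) with hTdef
    have hTS : T ≤ S := by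
      rw [hTdef, Subgroup.zpowers_le]
      exact x.2
    have hTcard : Nat.card T = p := by
      rw [hTdef, Nat.card_zpowers, Subgroup.orderOf_coe, hx]
    have hTn : F.IsNormal T :=
      Fusion.isNormal_congr hinner (Fusion.inner_isNormal_of_abelian hab hTS)
    have hTab : ∀ a ∈ T, ∀ b ∈ T, a * b = b * a := fun a ha b hb => hab a (hTS ha) b (hTS hb)
    have h2 := Fusion.inner_isNormalIn_of_abelian p hS F hF hTn hTab
    rcases hsimple T _ h2 with h | ⟨h, -⟩
    · exfalso
      rw [h] at hTcard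
      rw [Subgroup.card_bot] at hTcard
      exact hp.one_lt.ne hTcard
    · rw [← h]
      exact hTcard
  · rintro ⟨hcard, hinner⟩
    have hne : S ≠ ⊥ := by
      intro h
      rw [h, Subgroup.card_bot] at hcard
      exact hp.one_lt.ne hcard
    refine ⟨hF, hne, fun T E hE => ?_⟩
    have hTS : T ≤ S := hE.1.2.2.2.1.1
    have hsub : E.IsSubsystemOf F := hE.1.2.2.1
    have : Fact (Nat.card S).Prime := ⟨hcard ▸ hp⟩
    rcases (T.subgroupOf S).eq_bot_or_eq_top_of_prime_card with h | h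
    · left
      rw [Subgroup.subgroupOf_eq_bot] at h
      rw [eq_bot_iff]
      intro t ht
      exact h.le_bot ⟨ht, hTS ht⟩
    · right
      rw [Subgroup.subgroupOf_eq_top] at h
      have hTeq : T = S := le_antisymm hTS h
      refine ⟨hTeq, fun P => ?_⟩
      apply Set.Subset.antisymm (hsub P)
      intro φ hφ
      rw [hinner P] at hφ
      obtain ⟨hPS, g, hg, hφx⟩ := hφ
      have := E.conj_mem (P := P) (g := g) (hTeq ▸ hPS) (hTeq ▸ hg)
      convert this using 1
      ext x
      exact hφx x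

end Cfsg.Agent.Lead
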