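import Mathlib
import Cfsg.Prelude.Def_FusionComponents
import Cfsg.Agent.Lead.FusionFactorSys
import Cfsg.Agent.Lead.FusionHypQuot
import Cfsg.Agent.Lead.FusionAbSimple
import Cfsg.Agent.Lead.FusionCentral
import Cfsg.Agent.Lead.FusionNormal
import Cfsg.Agent.Lead.FusionFocal

set_option autoImplicit false

namespace Cfsg.Agent.Lead

open Cfsg Cfsg.FusionSystem

variable {Ω : Type*} [Group Ω] {S : Subgroup Ω}

/-- The centre of a saturated system is strongly closed. -/
theorem Fusion.center_stronglyClosed [Finite S] (p : ℕ) [Fact p.Prime] (hS : IsPGroup p S)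
    (F : FusionSystem S) (hF : F.IsSaturated p) : F.StronglyClosed F.center := by
  have hZ := (Fusion.isCentral_iff p hS F hF F.center).mp (Fusion.center_isCentral F)
  refine ⟨hZ.1, fun R hR φ hφ x => ?_⟩
  have h1 := hZ.2 x (hR x.2) _ (Fusion.isConjElt_map F hφ x)
  rw [h1]
  exact hR x.2

/-- The hyperfocal subgroup of the inner system of an abelian group is trivial. -/
theorem Fusion.hyperfocal_eq_bot_of_inner_abelian (p : ℕ) (F : FusionSystem S)
    (hab : ∀ x ∈ S, ∀ y ∈ S, x * y = y * x)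
    (hinner : ∀ P : Subgroup Ω, F.Hom P = (innerFusionSystem S).Hom P) :
    F.hyperfocalSubgroup p = ⊥ := by
  unfold FusionSystem.hyperfocalSubgroup
  rw [Subgroup.closure_eq_bot_iff]
  rintro y ⟨P, α, x, hPS, -, rfl⟩
  have hα := (Fusion.mem_autGroup_iff F hPS α.1).mp α.2
  rw [hinner P] at hα
  obtain ⟨-, g, hg, hgx⟩ := hα
  have h1 : (((α : MulAut P) x : P) : Ω) = g * x * g⁻¹ := hgx x
  rw [Set.mem_singleton_iff, h1, hab g hg x (hPS x.2)]
  group

theorem Fusion.not_commutative_of_quasisimple [Finite S] (p : ℕ) [Fact p.Prime]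
    (hS : IsPGroup p S) (F : FusionSystem S) (hq : F.Quasisimple p) : ¬ IsMulCommutative S := by
  obtain ⟨hF, hhyp, hsimple⟩ := hq
  intro hcomm
  have hZ := Fusion.center_stronglyClosed p hS F hF
  set N := (F.center).subgroupOf S with hN
  have hker : ∀ s : S, (QuotientGroup.mk' N) s = 1 ↔ (s : Ω) ∈ F.center := by
    intro s
    rw [QuotientGroup.mk'_apply, QuotientGroup.eq_one_iff, hN, Subgroup.mem_subgroupOf]
  have hr : (QuotientGroup.mk' N).range = ⊤ :=
    MonoidHom.range_eq_top.mpr (QuotientGroup.mk'_surjective N)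
  have hE := Fusion.factorSystem_isFactorSystem F (QuotientGroup.mk' N) hZ hker hr
  set E := Fusion.factorSystem F (QuotientGroup.mk' N) hZ hker hr with hEdef
  have hEs := hsimple E hE
  have hS' : IsPGroup p (⊤ : Subgroup (S ⧸ N)) := by
    have h1 : IsPGroup p (S ⧸ N) := hS.to_quotient N
    exact h1.to_subgroup _
  have hab : ∀ x ∈ (⊤ : Subgroup (S ⧸ N)), ∀ y ∈ (⊤ : Subgroup (S ⧸ N)), x * y = y * x := by
    intro x _ y _
    obtain ⟨a, rfl⟩ := QuotientGroup.mk_surjective x
    obtain ⟨b, rfl⟩ := QuotientGroup.mk_surjective y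
    rw [← QuotientGroup.mk_mul, ← QuotientGroup.mk_mul, hcomm.is_comm.comm a b]
  have h2 := (Fusion.isSimple_iff_of_abelian p hS' E hEs.1 hab).mp hEs
  have h3 := Fusion.hyperfocal_eq_bot_of_inner_abelian p E hab h2.2
  have h4 := Fusion.hyperfocal_factor p hS F hF F.center hZ (QuotientGroup.mk' N) E hE
  rw [h3, hhyp] at h4
  have h5 : (S.subgroupOf S).map (QuotientGroup.mk' N) = ⊤ := by
    rw [Subgroup.subgroupOf_self, ← MonoidHom.range_eq_map, hr]
  rw [h5] at h4
  exact hEs.2.1 h4.symm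

end Cfsg.Agent.Lead
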