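import Mathlib
import Cfsg.Prelude.Def_FusionSystem
import Cfsg.Agent.Lead.Fusion
import Cfsg.Agent.Lead.FusionConj
import Cfsg.Agent.Lead.FusionSat
import Cfsg.Agent.Lead.FusionSat2

set_option autoImplicit false

namespace Cfsg.Agent.Lead

open Cfsg Cfsg.FusionSystem

variable {Ω : Type*} [Group Ω] {S : Subgroup Ω}

/-- If `P` is receptive and `Q` is conjugate to `P`, there is a map `C_S(Q) → C_S(P)` of the system. -/
theorem Fusion.exists_hom_centralizerIn (F : FusionSystem S) {P Q : Subgroup Ω}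
    (h₂ : F.IsReceptive P) (hQ : F.IsConj Q P) :
    ∃ ρ ∈ F.Hom (centralizerIn S Q), ∀ x, ρ x ∈ centralizerIn S P := by
  obtain ⟨φ, hφ, hr⟩ := hQ
  obtain ⟨ψ', hψ', hext⟩ := h₂.2 Q φ hφ hr
  have hQS := Fusion.src_le F hφ
  have hQN : Q ≤ extender S Q φ := Fusion.le_extender Q hQS φ (Fusion.map_mem F hφ)
  have hCN : centralizerIn S Q ≤ extender S Q φ := Fusion.centralizerIn_le_extender Q φ
  have hρ := Fusion.restrict_mem F hψ' hCN
  refine ⟨_, hρ, fun c => ?_⟩
  refine Subgroup.mem_inf.mpr ⟨Fusion.map_mem F hρ c, ?_⟩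
  rw [Subgroup.mem_centralizer_iff]
  intro y hy
  rw [SetLike.mem_coe, ← hr] at hy
  obtain ⟨q, rfl⟩ := hy
  rw [← hext q.1 q.2 (hQN q.2)]
  show ψ' ⟨q.1, hQN q.2⟩ * ψ' ⟨c.1, hCN c.2⟩ = ψ' ⟨c.1, hCN c.2⟩ * ψ' ⟨q.1, hQN q.2⟩
  rw [← map_mul, ← map_mul]
  congr 1
  apply Subtype.ext
  have hc := (Subgroup.mem_inf.mp c.2).2
  rw [Subgroup.mem_centralizer_iff] at hc
  exact hc q.1 q.2

theorem Fusion.isConj_of_subsystem {T : Subgroup Ω} {F' : FusionSystem T} {F : FusionSystem S}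
    (hsub : F'.IsSubsystemOf F) {P Q : Subgroup Ω} (h : F'.IsConj P Q) : F.IsConj P Q := by
  obtain ⟨φ, hφ, hr⟩ := h
  exact ⟨φ, hsub P hφ, hr⟩

/-- Full centralization and full normalization pass to subsystems over strongly closed subgroups. -/
theorem Fusion.fully_of_subsystem [Finite S] (p : ℕ) [Fact p.Prime] (hS : IsPGroup p S)
    (F : FusionSystem S) (hF : F.IsSaturated p) (T : Subgroup Ω) (hT : F.StronglyClosed T)
    (F' : FusionSystem T) (hsub : F'.IsSubsystemOf F) (Q : Subgroup Ω) (hQT : Q ≤ T) :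
    (F.IsFullyCentralized Q → F'.IsFullyCentralized Q) ∧
      (F.IsFullyNormalized Q → F'.IsFullyNormalized Q) := by
  have hTS : T ≤ S := hT.1
  have : Finite T := Fusion.finite_of_le hTS
  constructor
  · intro hQ
    have hrec := Fusion.receptive_of_fullyCentralized p hS F hF hQ
    refine ⟨hQT, fun Q' hQQ' => ?_⟩
    have hconj : F.IsConj Q' Q := Fusion.isConj_symm F (Fusion.isConj_of_subsystem hsub hQQ')
    obtain ⟨ρ, hρ, hρC⟩ := Fusion.exists_hom_centralizerIn F hrec hconj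
    have hle : centralizerIn T Q' ≤ centralizerIn S Q' := inf_le_inf_right _ hTS
    have hρ' := Fusion.restrict_mem F hρ hle
    have hinj := F.injective_of_mem hρ'
    have hmem : ∀ x : centralizerIn T Q', ρ ⟨x.1, hle x.2⟩ ∈ centralizerIn T Q := by
      intro x
      refine Subgroup.mem_inf.mpr ⟨?_, (Subgroup.mem_inf.mp (hρC _)).2⟩
      exact hT.2 (centralizerIn T Q') inf_le_left _ hρ' x
    have : Finite (centralizerIn T Q) := Fusion.finite_of_le (inf_le_left.trans hTS)
    apply Nat.card_le_card_of_injective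
      (fun x : centralizerIn T Q' => (⟨ρ ⟨x.1, hle x.2⟩, hmem x⟩ : centralizerIn T Q))
    intro x y hxy
    exact hinj (congrArg (fun z : ↥(centralizerIn T Q) => (z : Ω)) hxy)
  · intro hQ
    obtain ⟨hQc, hQa⟩ := Fusion.fullyCentralized_fullyAutomized_of_fullyNormalized p hS F hF hQ
    have hrec := Fusion.receptive_of_fullyCentralized p hS F hF hQc
    refine ⟨hQT, fun Q' hQQ' => ?_⟩
    have hconj : F.IsConj Q' Q := Fusion.isConj_symm F (Fusion.isConj_of_subsystem hsub hQQ')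
    obtain ⟨ρ, hρ, hρN, -⟩ := Fusion.exists_hom_normalizerIn p hS F hQa hrec hconj
    have hle : normalizerIn T Q' ≤ normalizerIn S Q' := inf_le_inf_right _ hTS
    have hρ' := Fusion.restrict_mem F hρ hle
    have hinj := F.injective_of_mem hρ'
    have hmem : ∀ x : normalizerIn T Q', ρ ⟨x.1, hle x.2⟩ ∈ normalizerIn T Q := by
      intro x
      refine Subgroup.mem_inf.mpr ⟨?_, (Subgroup.mem_inf.mp (hρN _)).2⟩
      exact hT.2 (normalizerIn T Q') inf_le_left _ hρ' x
    have : Finite (normalizerIn T Q) := Fusion.finite_of_le (inf_le_left.trans hTS)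
    apply Nat.card_le_card_of_injective
      (fun x : normalizerIn T Q' => (⟨ρ ⟨x.1, hle x.2⟩, hmem x⟩ : normalizerIn T Q))
    intro x y hxy
    exact hinj (congrArg (fun z : ↥(normalizerIn T Q) => (z : Ω)) hxy)

end Cfsg.Agent.Lead
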