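import Mathlib
import Cfsg.Prelude.Def_FusionSystem
import Cfsg.Prelude.Def_FusionComponents
import Cfsg.Agent.Lead.FusionSub

set_option autoImplicit false

namespace Cfsg.Agent.Lead

open Cfsg Cfsg.FusionSystem

variable {Ω : Type*} [Group Ω]

theorem Fusion.le_of_isSubnormalIn {T S : Subgroup Ω} {E : FusionSystem T} {F : FusionSystem S} {p : ℕ}
    (hE : E.IsSubnormalIn F p) : T ≤ S := by
  induction hE with
  | refl F p => exact le_rfl
  | step _ hDF ih => exact ih.trans hDF.1.2.2.2.1.1

theorem Fusion.fullyNormalized_of_isSubnormalIn {T S : Subgroup Ω} {E : FusionSystem T}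
    {F : FusionSystem S} {p : ℕ} (hE : E.IsSubnormalIn F p) :
    ∀ [Fact p.Prime] [Finite S], IsPGroup p S → F.IsSaturated p → ∀ P : Subgroup Ω, P ≤ T →
      F.IsFullyNormalized P → E.IsFullyNormalized P := by
  induction hE with
  | refl F p =>
    intro _ _ _ _ P _ hP
    exact hP
  | step hED hDF ih =>
    intro _ _ hS hF P hPT hP
    have hDsat := hDF.1.1
    have hsub := hDF.1.2.2.1
    have hU := hDF.1.2.2.2.1
    have hTU := Fusion.le_of_isSubnormalIn hED
    have := Fusion.finite_of_le hU.1
    have h1 := (Fusion.fully_of_subsystem _ hS _ hF _ hU _ hsub P (hPT.trans hTU)).2 hP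
    exact ih (hS.to_le hU.1) hDsat P hPT h1

end Cfsg.Agent.Lead
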