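import Mathlib
import Cfsg.Prelude.Def_FusionSystem
import Cfsg.Prelude.Def_Transfer
import Cfsg.Agent.Lead.FusionFocal
import Cfsg.Agent.Lead.FusionHypAct
import Cfsg.Agent.Lead.FusionNormalSub
import Cfsg.Agent.Lead.FusionStab
import Cfsg.Agent.Lead.SylowLemmas

set_option autoImplicit false

namespace Cfsg.Agent.Lead

open Cfsg Cfsg.FusionSystem
open scoped commutatorElement

section Part1

variable {G : Type*} [Group G] [Finite G] (p : ℕ) [Fact p.Prime] (S : Subgroup G)

theorem aut_pow_conj {P : Subgroup G} (α : MulAut P) (g : G)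
    (h : ∀ x : P, ((α x : P) : G) = g * x * g⁻¹) (k : ℕ) (x : P) :
    (((α ^ k) x : P) : G) = g ^ k * x * (g ^ k)⁻¹ := by
  induction k generalizing x with
  | zero => simp
  | succ k ih =>
    rw [pow_succ, MulAut.mul_apply, ih, h, pow_succ]
    group

/-- Every element of `O^p(Aut_G(P))` is induced by an element of `O^p(G)`. -/
theorem Fusion.exists_pResidual_conj {P : Subgroup G} (hPS : P ≤ S)
    (α : (groupFusionSystem S).autGroup P)
    (hα : α ∈ Cfsg.pResidual p ((groupFusionSystem S).autGroup P)) :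
    ∃ g ∈ Cfsg.pResidual p G, ∀ x : P, (((α : MulAut P) x : P) : G) = g * x * g⁻¹ := by
  unfold Cfsg.pResidual at hα
  induction hα using Subgroup.closure_induction with
  | mem β hβ =>
    have hβ' := (Fusion.mem_autGroup_iff (groupFusionSystem S) hPS β.1).mp β.2
    obtain ⟨-, -, g, hg⟩ := hβ'
    have : Finite P := Finite.of_injective _ Subtype.val_injective
    have : Finite (MulAut P) := inferInstance
    obtain ⟨k, hk1, hk2⟩ := exists_pow_coprime p g (orderOf β) hβ
    refine ⟨g ^ k, mem_pResidual_of_coprime' hk1, fun x => ?_⟩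
    have h1 := aut_pow_conj (β : MulAut P) g hg k x
    rw [← h1]
    have h2 : β ^ k = β := by
      have := (pow_eq_pow_iff_modEq (x := β) (n := k) (m := 1)).mpr hk2
      rwa [pow_one] at this
    have h3 : ((β : MulAut P)) ^ k = (β : MulAut P) := by
      have := congrArg Subtype.val h2
      simpa using this
    rw [h3]
  | one => exact ⟨1, Subgroup.one_mem _, fun x => by simp⟩
  | mul a b _ _ iha ihb =>
    obtain ⟨g, hg, hga⟩ := iha
    obtain ⟨h, hh, hhb⟩ := ihb
    refine ⟨g * h, Subgroup.mul_mem _ hg hh, fun x => ?_⟩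
    show ((((a : MulAut P) * (b : MulAut P)) x : P) : G) = _
    rw [MulAut.mul_apply, hga, hhb]
    group
  | inv a _ iha =>
    obtain ⟨g, hg, hga⟩ := iha
    refine ⟨g⁻¹, Subgroup.inv_mem _ hg, fun x => ?_⟩
    have h1 := hga ((a : MulAut P)⁻¹ x)
    rw [MulAut.apply_inv_self] at h1
    show ((((a : MulAut P)⁻¹) x : P) : G) = _
    rw [h1]
    group

theorem Fusion.hyperfocal_group_le :
    (groupFusionSystem S).hyperfocalSubgroup p ≤ S ⊓ Cfsg.pResidual p G := by
  apply le_inf (Fusion.hyperfocal_le _ p)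
  unfold FusionSystem.hyperfocalSubgroup
  rw [Subgroup.closure_le]
  rintro y ⟨P, α, x, hPS, hα, rfl⟩
  obtain ⟨g, hg, hgα⟩ := Fusion.exists_pResidual_conj p S hPS α hα
  rw [hgα, SetLike.mem_coe]
  have hn := pResidual_normal' (G := G) p
  have h1 : (x : G)⁻¹ * g * ((x : G)⁻¹)⁻¹ ∈ Cfsg.pResidual p G := hn.conj_mem g hg _
  have h2 : (x : G)⁻¹ * (g * x * g⁻¹) = ((x : G)⁻¹ * g * ((x : G)⁻¹)⁻¹) * g⁻¹ := by group
  rw [h2]
  exact Subgroup.mul_mem _ h1 (Subgroup.inv_mem _ hg)

end Part1

/-- A normal subgroup `N` of a finite `p`-group `T` with `T = N [T, T]` is all of `T`. -/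
theorem eq_top_of_sup_commutator {T : Type*} [Group T] [Finite T] (p : ℕ) [Fact p.Prime]
    (hT : IsPGroup p T) (N : Subgroup T) [N.Normal] (h : N ⊔ commutator T = ⊤) : N = ⊤ := by
  have hQ : IsPGroup p (T ⧸ N) := hT.to_quotient N
  have hnil : Group.IsNilpotent (T ⧸ N) := hQ.isNilpotent
  have hsol : Group.IsSolvable (T ⧸ N) := inferInstance
  by_contra hne
  have hnt : Nontrivial (T ⧸ N) := by
    rw [← not_subsingleton_iff_nontrivial]
    intro hss
    exact hne (QuotientGroup.subgroup_eq_top_of_subsingleton N hss)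
  have hlt := Group.IsSolvable.commutator_lt_top_of_nontrivial (T ⧸ N)
  apply hlt.ne
  rw [eq_top_iff]
  intro q _
  obtain ⟨t, rfl⟩ := QuotientGroup.mk_surjective q
  have ht : t ∈ N ⊔ commutator T := h ▸ Subgroup.mem_top t
  rw [sup_comm, Subgroup.mem_sup_of_normal_right] at ht
  obtain ⟨c, hc, n, hn, rfl⟩ := ht
  have h1 : ((c * n : T) : T ⧸ N) = (c : T ⧸ N) := by
    rw [QuotientGroup.mk_mul, (QuotientGroup.eq_one_iff n).mpr hn, mul_one]
  rw [h1]
  have h2 : (commutator T).map (QuotientGroup.mk' N) ≤ commutator (T ⧸ N) := by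
    rw [commutator_def, commutator_def, Subgroup.map_commutator]
    exact Subgroup.commutator_mono le_top le_top
  exact h2 ⟨c, hc, rfl⟩

theorem pResidual_pResidual {G : Type*} [Group G] (p : ℕ) :
    Cfsg.pResidual p ↥(Cfsg.pResidual p G) = ⊤ := by
  have h := Subgroup.closure_closure_coe_preimage (k := {g : G | Nat.Coprime (orderOf g) p})
  unfold Cfsg.pResidual
  convert h using 2
  ext k
  simp only [Set.mem_setOf_eq, Set.mem_preimage]
  rw [Subgroup.orderOf_coe]

open scoped IsMulCommutative in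
/-- If `O^p(K) = K` then a Sylow `p`-subgroup of `K` equals its focal subgroup. -/
theorem focalSubgroupOf_eq_top_of_pResidual {K : Type*} [Group K] [Finite K] (p : ℕ) [Fact p.Prime]
    (T' : Sylow p K) (h : Cfsg.pResidual p K = ⊤) : (T' : Subgroup K).focalSubgroupOf = ⊤ := by
  have hp : p.Prime := Fact.out
  have hQ : IsPGroup p (↥(T' : Subgroup K) ⧸ (T' : Subgroup K).focalSubgroupOf) :=
    T'.2.to_quotient _
  have htriv : ∀ k : K, (T' : Subgroup K).transferFocal k = 1 := by
    intro k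
    have hk : k ∈ Cfsg.pResidual p K := h ▸ Subgroup.mem_top k
    unfold Cfsg.pResidual at hk
    induction hk using Subgroup.closure_induction with
    | mem g hg =>
      obtain ⟨j, hj⟩ := hQ ((T' : Subgroup K).transferFocal g)
      have h1 : orderOf ((T' : Subgroup K).transferFocal g) ∣ p ^ j := orderOf_dvd_of_pow_eq_one hj
      have h2 : orderOf ((T' : Subgroup K).transferFocal g) ∣ orderOf g := orderOf_map_dvd _ g
      have h3 : (orderOf g).Coprime (p ^ j) := Nat.Coprime.pow_right j hg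
      have h4 : orderOf ((T' : Subgroup K).transferFocal g) = 1 :=
        Nat.eq_one_of_dvd_coprimes h3 h2 h1
      exact orderOf_eq_one_iff.mp h4
    | one => exact map_one _
    | mul a b _ _ iha ihb => rw [map_mul, iha, ihb, mul_one]
    | inv a _ iha => rw [map_inv, iha, inv_one]
  rw [eq_top_iff]
  intro x _
  obtain ⟨k, hk⟩ := Subgroup.transferFocal_surjective T' (QuotientGroup.mk x)
  rw [htriv k] at hk
  exact (QuotientGroup.eq_one_iff x).mp hk.symm

section Part2

variable {G : Type*} [Group G] [Finite G] (p : ℕ) [Fact p.Prime] (S : Sylow p G)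

/-- The hyperfocal subgroup of a subsystem lies in that of the system. -/
theorem Fusion.hyperfocal_mono {Ω : Type*} [Group Ω] {S₁ T₁ : Subgroup Ω} (hTS : T₁ ≤ S₁)
    (E : FusionSystem T₁) (F : FusionSystem S₁) (hEF : E.IsSubsystemOf F) :
    E.hyperfocalSubgroup p ≤ F.hyperfocalSubgroup p := by
  unfold FusionSystem.hyperfocalSubgroup
  rw [Subgroup.closure_le]
  rintro y ⟨P, α, x, hPT, hα, rfl⟩
  have hle : E.autGroup P ≤ F.autGroup P := by
    unfold FusionSystem.autGroup
    apply Subgroup.closure_mono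
    intro β hβ
    exact hEF P hβ
  have h1 := pResidual_map_le p (Subgroup.inclusion hle) ⟨α, hα, rfl⟩
  exact Subgroup.subset_closure ⟨P, Subgroup.inclusion hle α, x, hPT.trans hTS, h1, rfl⟩

theorem Fusion.le_hyperfocal_group :
    (S : Subgroup G) ⊓ Cfsg.pResidual p G ≤
      (groupFusionSystem (S : Subgroup G)).hyperfocalSubgroup p := by
  haveI hKn : (Cfsg.pResidual p G).Normal := pResidual_normal' p
  have hcardT := Fusion.card_sylow_inf_normal p S (Cfsg.pResidual p G)
  have hEsat := Fusion.fusionSystemOfSubgroup_isSaturated p (Cfsg.pResidual p G)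
    ((S : Subgroup G) ⊓ Cfsg.pResidual p G) inf_le_right hcardT
  have hTp : IsPGroup p ↥((S : Subgroup G) ⊓ Cfsg.pResidual p G) := S.2.to_le inf_le_left
  have hcardT' : Nat.card (((S : Subgroup G) ⊓ Cfsg.pResidual p G).subgroupOf (Cfsg.pResidual p G)) =
      p ^ (Nat.card (Cfsg.pResidual p G)).factorization p := by
    rw [card_subgroupOf_of_le inf_le_right]; exact hcardT
  have hfoc := focalSubgroupOf_eq_top_of_pResidual p (Sylow.ofCard _ hcardT') (pResidual_pResidual p)
  rw [Sylow.coe_ofCard] at hfoc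
  -- the focal subgroup of `T` in `K` lies in the focal subgroup of the fusion system
  have h2c : ∀ g : ↥(Cfsg.pResidual p G),
      g ∈ (((S : Subgroup G) ⊓ Cfsg.pResidual p G).subgroupOf (Cfsg.pResidual p G)).focalSubgroup →
      (g : G) ∈ (fusionSystemOfSubgroup (Cfsg.pResidual p G)
        ((S : Subgroup G) ⊓ Cfsg.pResidual p G) inf_le_right).focalSubgroup := by
    intro g hg
    rw [Subgroup.focalSubgroup_def] at hg
    induction hg using Subgroup.closure_induction with
    | mem g hg =>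
      obtain ⟨hgT, x, hxT, u, rfl⟩ := hg
      rw [Subgroup.mem_subgroupOf] at hgT hxT
      apply Subgroup.subset_closure
      have hxinv : ((x : G))⁻¹ ∈ (S : Subgroup G) ⊓ Cfsg.pResidual p G := Subgroup.inv_mem _ hxT
      have hconj : (u : G) * (x : G)⁻¹ * (u : G)⁻¹ ∈ (S : Subgroup G) ⊓ Cfsg.pResidual p G := by
        have : (u : G) * (x : G)⁻¹ * (u : G)⁻¹ = (x : G)⁻¹ * ((⁅x, u⁆ : ↥(Cfsg.pResidual p G)) : G) := by
          rw [commutatorElement_def]
          push_cast
          group
        rw [this]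
        exact Subgroup.mul_mem _ hxinv hgT
      refine ⟨Subgroup.zpowers ((x : G)⁻¹), conjHom _ (u : G),
        ⟨(x : G)⁻¹, Subgroup.mem_zpowers _⟩, ⟨?_, ?_, (u : G), u.2, fun z => rfl⟩, ?_⟩
      · rw [Subgroup.zpowers_le]; exact hxinv
      · intro z
        obtain ⟨k, hk⟩ := Subgroup.mem_zpowers_iff.mp z.2
        show (u : G) * (z : G) * (u : G)⁻¹ ∈ _
        rw [← hk, ← conj_zpow]
        exact Subgroup.zpow_mem _ hconj k
      · show ((⁅x, u⁆ : ↥(Cfsg.pResidual p G)) : G) = (((x : G))⁻¹)⁻¹ * ((u : G) * (x : G)⁻¹ * (u : G)⁻¹)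
        rw [commutatorElement_def]
        push_cast
        group
    | one => exact Subgroup.one_mem _
    | mul a b _ _ iha ihb => exact Subgroup.mul_mem _ iha ihb
    | inv a _ iha => exact Subgroup.inv_mem _ iha
  have hfe := Fusion.focal_eq p hTp _ hEsat
  set E := fusionSystemOfSubgroup (Cfsg.pResidual p G)
    ((S : Subgroup G) ⊓ Cfsg.pResidual p G) inf_le_right with hE
  have hTfin : Finite ↥((S : Subgroup G) ⊓ Cfsg.pResidual p G) := inferInstance
  have hsc := Fusion.hyperfocal_stronglyClosed p hTp E hEsat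
  have hnorm := Fusion.le_normalizer_of_stronglyClosed E hsc
  have hhypT := Fusion.hyperfocal_le E p
  haveI hNn : ((E.hyperfocalSubgroup p).subgroupOf ((S : Subgroup G) ⊓ Cfsg.pResidual p G)).Normal :=
    (Subgroup.normal_subgroupOf_iff_le_normalizer hhypT).mpr hnorm
  have hsup : (E.hyperfocalSubgroup p).subgroupOf ((S : Subgroup G) ⊓ Cfsg.pResidual p G) ⊔
      commutator ↥((S : Subgroup G) ⊓ Cfsg.pResidual p G) = ⊤ := by
    rw [eq_top_iff]
    intro t _
    have h1 : (⟨(t : G), t.2.2⟩ : ↥(Cfsg.pResidual p G)) ∈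
        (((S : Subgroup G) ⊓ Cfsg.pResidual p G).subgroupOf (Cfsg.pResidual p G)).focalSubgroup := by
      rw [← Subgroup.map_focalSubgroupOf, hfoc]
      exact ⟨⟨⟨(t : G), t.2.2⟩, Subgroup.mem_subgroupOf.mpr t.2⟩, Subgroup.mem_top _, rfl⟩
    have h2 := h2c _ h1
    rw [hfe] at h2
    have h3 : t ∈ (E.hyperfocalSubgroup p ⊔ ⁅((S : Subgroup G) ⊓ Cfsg.pResidual p G),
        ((S : Subgroup G) ⊓ Cfsg.pResidual p G)⁆).subgroupOf
          ((S : Subgroup G) ⊓ Cfsg.pResidual p G) := Subgroup.mem_subgroupOf.mpr h2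
    rw [Subgroup.subgroupOf_sup hhypT (Subgroup.commutator_le_self _)] at h3
    have h4 : (⁅((S : Subgroup G) ⊓ Cfsg.pResidual p G),
        ((S : Subgroup G) ⊓ Cfsg.pResidual p G)⁆).subgroupOf
          ((S : Subgroup G) ⊓ Cfsg.pResidual p G) =
        commutator ↥((S : Subgroup G) ⊓ Cfsg.pResidual p G) := by
      rw [← Subgroup.map_subtype_commutator, Subgroup.subgroupOf,
        Subgroup.comap_map_eq_self_of_injective (Subgroup.subtype_injective _)]
    rw [h4] at h3
    exact h3
  have htop := eq_top_of_sup_commutator p hTp _ hsup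
  have hTle : (S : Subgroup G) ⊓ Cfsg.pResidual p G ≤ E.hyperfocalSubgroup p := by
    intro t ht
    have : (⟨t, ht⟩ : ↥((S : Subgroup G) ⊓ Cfsg.pResidual p G)) ∈
        (E.hyperfocalSubgroup p).subgroupOf ((S : Subgroup G) ⊓ Cfsg.pResidual p G) :=
      htop ▸ Subgroup.mem_top _
    exact Subgroup.mem_subgroupOf.mp this
  exact hTle.trans (Fusion.hyperfocal_mono p inf_le_left E _
    (Fusion.normalSub_isSubsystemOf p S (Cfsg.pResidual p G)))

end Part2

/-- Hyperfocal subgroup theorem. -/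
theorem Fusion.hyperfocal_group_eq {G : Type*} [Group G] [Finite G] (p : ℕ) [Fact p.Prime]
    (S : Sylow p G) :
    (groupFusionSystem (S : Subgroup G)).hyperfocalSubgroup p =
      (S : Subgroup G) ⊓ Cfsg.pResidual p G :=
  le_antisymm (Fusion.hyperfocal_group_le p (S : Subgroup G)) (Fusion.le_hyperfocal_group p S)

end Cfsg.Agent.Lead
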