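import Mathlib
import Cfsg.Prelude.Def_FusionComponents
import Cfsg.Agent.Lead.HyperfocalGroup
import Cfsg.Agent.Lead.FusionAlperin

set_option autoImplicit false

namespace Cfsg.Agent.Lead

open Cfsg Cfsg.FusionSystem

variable {Ω : Type*} [Group Ω] {S : Subgroup Ω}

theorem Fusion.le_of_isSubsystemOf {T : Subgroup Ω} (E : FusionSystem T) (F : FusionSystem S)
    (h : E.IsSubsystemOf F) : T ≤ S :=
  Fusion.src_le F (h T (Fusion.subtype_mem E le_rfl))

/-- A saturated subsystem of `p`-power index over `T` lies in every subsystem of `p`-power index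
over `T`. -/
theorem Fusion.ppower_index_le {T : Subgroup Ω} [Finite S] (p : ℕ) [Fact p.Prime]
    (hS : IsPGroup p S) (F : FusionSystem S) (E E' : FusionSystem T) (hEs : E.IsSaturated p)
    (hEi : E.HasPPowerIndexIn F p) (hE'i : E'.HasPPowerIndexIn F p) : E ≤ E' := by
  have hTS : T ≤ S := Fusion.le_of_isSubsystemOf E F hEi.1
  have hTfin : Finite T := Fusion.finite_of_le hTS
  have hT : IsPGroup p T := hS.to_le hTS
  apply Fusion.alperin p hT E hEs E'
  intro P hP
  have hfa : E.IsFullyAutomized p P := by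
    rcases hP with rfl | hess
    · exact Fusion.top_fullyAutomized p E hEs
    · exact (Fusion.fullyCentralized_fullyAutomized_of_fullyNormalized p hT E hEs hess.2.1).2
  obtain ⟨hPT, R, hR⟩ := hfa
  have : Finite P := Fusion.finite_of_le hPT
  have : Finite (E.autGroup P) := inferInstance
  have hsup := pResidual_sup_sylow' R
  have hEF : E.autGroup P ≤ F.autGroup P := by
    unfold FusionSystem.autGroup
    apply Subgroup.closure_mono
    intro β hβ
    exact hEi.1 P hβ
  have h1 : pResidual p (E.autGroup P) ≤ (E'.autGroup P).subgroupOf (E.autGroup P) := by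
    intro β hβ
    rw [Subgroup.mem_subgroupOf]
    have h2 := pResidual_map_le p (Subgroup.inclusion hEF) ⟨β, hβ, rfl⟩
    exact hE'i.2.2 P hPT ⟨_, h2, rfl⟩
  have h2 : (R : Subgroup (E.autGroup P)) ≤ (E'.autGroup P).subgroupOf (E.autGroup P) := by
    rw [hR]
    intro β hβ
    rw [Subgroup.mem_subgroupOf] at hβ ⊢
    exact Fusion.autInducedBy_le_autGroup E' hPT hβ
  have h3 : (⊤ : Subgroup (E.autGroup P)) ≤ (E'.autGroup P).subgroupOf (E.autGroup P) := by
    rw [← hsup]
    exact sup_le h1 h2
  intro α hα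
  have := h3 (Subgroup.mem_top (⟨α, hα⟩ : E.autGroup P))
  rwa [Subgroup.mem_subgroupOf] at this

/-- Uniqueness of the saturated subsystem of `p`-power index over a given subgroup. -/
theorem Fusion.ppower_index_unique [Finite S] (p : ℕ) [Fact p.Prime]
    (hS : IsPGroup p S) (F : FusionSystem S) {T T' : Subgroup Ω} (h : T = T')
    (E : FusionSystem T) (E' : FusionSystem T') (hEs : E.IsSaturated p) (hE's : E'.IsSaturated p)
    (hEi : E.HasPPowerIndexIn F p) (hE'i : E'.HasPPowerIndexIn F p) (P : Subgroup Ω) :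
    E.Hom P = E'.Hom P := by
  subst h
  exact Set.Subset.antisymm (Fusion.ppower_index_le p hS F E E' hEs hEi hE'i P)
    (Fusion.ppower_index_le p hS F E' E hE's hE'i hEi P)

/-- `F_{S ∩ O^p(G)}(O^p(G))` has `p`-power index in `F_S(G)`. -/
theorem Fusion.pResidual_group_hasPPowerIndex {G : Type*} [Group G] [Finite G] (p : ℕ) [Fact p.Prime]
    (S : Sylow p G) :
    (fusionSystemOfSubgroup (Cfsg.pResidual p G) ((S : Subgroup G) ⊓ Cfsg.pResidual p G)
      inf_le_right).HasPPowerIndexIn (groupFusionSystem (S : Subgroup G)) p := by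
  haveI hKn : (Cfsg.pResidual p G).Normal := pResidual_normal' p
  refine ⟨Fusion.normalSub_isSubsystemOf p S _, Fusion.hyperfocal_group_le p (S : Subgroup G), ?_⟩
  rintro P hPT _ ⟨α, hα, rfl⟩
  have hPS : P ≤ (S : Subgroup G) := hPT.trans inf_le_left
  obtain ⟨g, hg, hgα⟩ := Fusion.exists_pResidual_conj p (S : Subgroup G) hPS α hα
  rw [Fusion.mem_autGroup_iff _ hPT]
  exact ⟨hPT, fun x => hPT ((α : MulAut P) x).2, g, hg, hgα⟩

theorem Fusion.pResidual_group {G : Type*} [Group G] [Finite G] (p : ℕ) [Fact p.Prime]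
    (S : Sylow p G)
    (E : FusionSystem ((groupFusionSystem (S : Subgroup G)).hyperfocalSubgroup p))
    (hE : (groupFusionSystem (S : Subgroup G)).IsPResidual p E) :
    ∃ h : (S : Subgroup G) ⊓ Cfsg.pResidual p G ≤ Cfsg.pResidual p G, ∀ P : Subgroup G,
      E.Hom P = (fusionSystemOfSubgroup (Cfsg.pResidual p G)
        ((S : Subgroup G) ⊓ Cfsg.pResidual p G) h).Hom P := by
  haveI hKn : (Cfsg.pResidual p G).Normal := pResidual_normal' p
  refine ⟨inf_le_right, fun P => ?_⟩
  have hsat := Fusion.fusionSystemOfSubgroup_isSaturated p (Cfsg.pResidual p G)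
    ((S : Subgroup G) ⊓ Cfsg.pResidual p G) inf_le_right
    (Fusion.card_sylow_inf_normal p S (Cfsg.pResidual p G))
  exact Fusion.ppower_index_unique p S.2 _ (Fusion.hyperfocal_group_eq p S) E _ hE.1 hsat hE.2
    (Fusion.pResidual_group_hasPPowerIndex p S) P

end Cfsg.Agent.Lead
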