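import Mathlib
import Cfsg.Prelude.Def_FusionComponents
import Cfsg.Agent.Lead.Fusion
import Cfsg.Agent.Lead.FusionInvariant

set_option autoImplicit false

namespace Cfsg.Agent.Lead

open Cfsg Cfsg.FusionSystem

variable {Ω₁ Ω₂ : Type*} [Group Ω₁] [Group Ω₂]

/-- The componentwise condition defining maps of the product system. -/
def Fusion.IsProdOf (P : Subgroup (Ω₁ × Ω₂)) (φ : P →* Ω₁ × Ω₂)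
    (φ₁ : ↥(P.map (MonoidHom.fst Ω₁ Ω₂)) →* Ω₁) (φ₂ : ↥(P.map (MonoidHom.snd Ω₁ Ω₂)) →* Ω₂) : Prop :=
  ∀ (x : P) (h₁ : (x : Ω₁ × Ω₂).1 ∈ P.map (MonoidHom.fst Ω₁ Ω₂))
    (h₂ : (x : Ω₁ × Ω₂).2 ∈ P.map (MonoidHom.snd Ω₁ Ω₂)),
    φ x = (φ₁ ⟨(x : Ω₁ × Ω₂).1, h₁⟩, φ₂ ⟨(x : Ω₁ × Ω₂).2, h₂⟩)

theorem Fusion.fst_mem_map (P : Subgroup (Ω₁ × Ω₂)) (x : P) :
    (x : Ω₁ × Ω₂).1 ∈ P.map (MonoidHom.fst Ω₁ Ω₂) := ⟨x, x.2, rfl⟩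

theorem Fusion.snd_mem_map (P : Subgroup (Ω₁ × Ω₂)) (x : P) :
    (x : Ω₁ × Ω₂).2 ∈ P.map (MonoidHom.snd Ω₁ Ω₂) := ⟨x, x.2, rfl⟩

/-- The product homomorphism. -/
def Fusion.prodHom (P : Subgroup (Ω₁ × Ω₂))
    (φ₁ : ↥(P.map (MonoidHom.fst Ω₁ Ω₂)) →* Ω₁) (φ₂ : ↥(P.map (MonoidHom.snd Ω₁ Ω₂)) →* Ω₂) :
    P →* Ω₁ × Ω₂ :=
  MonoidHom.prod (φ₁.comp ((MonoidHom.fst Ω₁ Ω₂).subgroupMap P))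
    (φ₂.comp ((MonoidHom.snd Ω₁ Ω₂).subgroupMap P))

theorem Fusion.prodHom_isProdOf (P : Subgroup (Ω₁ × Ω₂))
    (φ₁ : ↥(P.map (MonoidHom.fst Ω₁ Ω₂)) →* Ω₁) (φ₂ : ↥(P.map (MonoidHom.snd Ω₁ Ω₂)) →* Ω₂) :
    Fusion.IsProdOf P (Fusion.prodHom P φ₁ φ₂) φ₁ φ₂ := fun _ _ _ => rfl

variable {S₁ : Subgroup Ω₁} {S₂ : Subgroup Ω₂}

/-- The direct product of two fusion systems. -/
def Fusion.productSystem (F₁ : FusionSystem S₁) (F₂ : FusionSystem S₂) :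
    FusionSystem (S₁.prod S₂) where
  Hom P := {φ | P ≤ S₁.prod S₂ ∧
    ∃ φ₁ ∈ F₁.Hom (P.map (MonoidHom.fst Ω₁ Ω₂)), ∃ φ₂ ∈ F₂.Hom (P.map (MonoidHom.snd Ω₁ Ω₂)),
      Fusion.IsProdOf P φ φ₁ φ₂}
  le_of_mem := by
    rintro P φ ⟨hP, φ₁, hφ₁, φ₂, hφ₂, h⟩
    refine ⟨hP, fun x => ?_⟩
    rw [h x (Fusion.fst_mem_map P x) (Fusion.snd_mem_map P x)]
    exact ⟨Fusion.map_mem F₁ hφ₁ _, Fusion.map_mem F₂ hφ₂ _⟩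
  injective_of_mem := by
    rintro P φ ⟨hP, φ₁, hφ₁, φ₂, hφ₂, h⟩ x y hxy
    rw [h x (Fusion.fst_mem_map P x) (Fusion.snd_mem_map P x),
      h y (Fusion.fst_mem_map P y) (Fusion.snd_mem_map P y)] at hxy
    have h1 := F₁.injective_of_mem hφ₁ (congrArg Prod.fst hxy)
    have h2 := F₂.injective_of_mem hφ₂ (congrArg Prod.snd hxy)
    apply Subtype.ext
    exact Prod.ext (congrArg Subtype.val h1) (congrArg Subtype.val h2)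
  conj_mem := by
    intro P g hP hg
    have hP₁ : P.map (MonoidHom.fst Ω₁ Ω₂) ≤ S₁ := by
      rintro _ ⟨x, hx, rfl⟩
      exact (hP hx).1
    have hP₂ : P.map (MonoidHom.snd Ω₁ Ω₂) ≤ S₂ := by
      rintro _ ⟨x, hx, rfl⟩
      exact (hP hx).2
    exact ⟨hP, conjHom _ g.1, F₁.conj_mem hP₁ hg.1, conjHom _ g.2, F₂.conj_mem hP₂ hg.2,
      fun x _ _ => rfl⟩
  comp_mem := by
    rintro P Q φ ψ ⟨hP, φ₁, hφ₁, φ₂, hφ₂, hφ⟩ ⟨hQ, ψ₁, hψ₁, ψ₂, hψ₂, hψ⟩ h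
    have h₁ : ∀ x : ↥(P.map (MonoidHom.fst Ω₁ Ω₂)), φ₁ x ∈ Q.map (MonoidHom.fst Ω₁ Ω₂) := by
      rintro ⟨_, x, hx, rfl⟩
      refine ⟨φ ⟨x, hx⟩, h _, ?_⟩
      rw [hφ ⟨x, hx⟩ (Fusion.fst_mem_map P _) (Fusion.snd_mem_map P _)]
      rfl
    have h₂ : ∀ x : ↥(P.map (MonoidHom.snd Ω₁ Ω₂)), φ₂ x ∈ Q.map (MonoidHom.snd Ω₁ Ω₂) := by
      rintro ⟨_, x, hx, rfl⟩
      refine ⟨φ ⟨x, hx⟩, h _, ?_⟩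
      rw [hφ ⟨x, hx⟩ (Fusion.fst_mem_map P _) (Fusion.snd_mem_map P _)]
      rfl
    refine ⟨hP, ψ₁.comp (φ₁.codRestrict _ h₁), F₁.comp_mem hφ₁ hψ₁ h₁,
      ψ₂.comp (φ₂.codRestrict _ h₂), F₂.comp_mem hφ₂ hψ₂ h₂, ?_⟩
    intro x hx₁ hx₂
    show ψ ⟨φ x, h x⟩ = (ψ₁ ⟨φ₁ ⟨_, hx₁⟩, h₁ _⟩, ψ₂ ⟨φ₂ ⟨_, hx₂⟩, h₂ _⟩)
    rw [hψ ⟨φ x, h x⟩ (Fusion.fst_mem_map Q _) (Fusion.snd_mem_map Q _)]
    have e := hφ x hx₁ hx₂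
    congr 1
    · congr 1
      apply Subtype.ext
      show (φ x).1 = _
      rw [e]
    · congr 1
      apply Subtype.ext
      show (φ x).2 = _
      rw [e]
  inv_mem := by
    rintro P φ ⟨hP, φ₁, hφ₁, φ₂, hφ₂, hφ⟩
    obtain ⟨χ₁, hχ₁, hinv₁⟩ := F₁.inv_mem hφ₁
    obtain ⟨χ₂, hχ₂, hinv₂⟩ := F₂.inv_mem hφ₂
    have hr₁ : φ₁.range = φ.range.map (MonoidHom.fst Ω₁ Ω₂) := by
      ext y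
      constructor
      · rintro ⟨⟨_, x, hx, rfl⟩, rfl⟩
        refine ⟨φ ⟨x, hx⟩, ⟨_, rfl⟩, ?_⟩
        rw [hφ ⟨x, hx⟩ (Fusion.fst_mem_map P _) (Fusion.snd_mem_map P _)]
        rfl
      · rintro ⟨_, ⟨x, rfl⟩, rfl⟩
        refine ⟨⟨_, Fusion.fst_mem_map P x⟩, ?_⟩
        rw [hφ x (Fusion.fst_mem_map P _) (Fusion.snd_mem_map P _)]
        rfl
    have hr₂ : φ₂.range = φ.range.map (MonoidHom.snd Ω₁ Ω₂) := by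
      ext y
      constructor
      · rintro ⟨⟨_, x, hx, rfl⟩, rfl⟩
        refine ⟨φ ⟨x, hx⟩, ⟨_, rfl⟩, ?_⟩
        rw [hφ ⟨x, hx⟩ (Fusion.fst_mem_map P _) (Fusion.snd_mem_map P _)]
        rfl
      · rintro ⟨_, ⟨x, rfl⟩, rfl⟩
        refine ⟨⟨_, Fusion.snd_mem_map P x⟩, ?_⟩
        rw [hφ x (Fusion.fst_mem_map P _) (Fusion.snd_mem_map P _)]
        rfl
    obtain ⟨ψ₁, hψ₁, hψχ₁⟩ := Fusion.exists_hom_of_eq F₁ hr₁ hχ₁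
    obtain ⟨ψ₂, hψ₂, hψχ₂⟩ := Fusion.exists_hom_of_eq F₂ hr₂ hχ₂
    have hrS : φ.range ≤ S₁.prod S₂ := by
      rintro _ ⟨x, rfl⟩
      rw [hφ x (Fusion.fst_mem_map P _) (Fusion.snd_mem_map P _)]
      exact ⟨Fusion.map_mem F₁ hφ₁ _, Fusion.map_mem F₂ hφ₂ _⟩
    refine ⟨Fusion.prodHom φ.range ψ₁ ψ₂, ⟨hrS, ψ₁, hψ₁, ψ₂, hψ₂,
      Fusion.prodHom_isProdOf _ ψ₁ ψ₂⟩, ?_⟩
    intro x
    have e := hφ x (Fusion.fst_mem_map P _) (Fusion.snd_mem_map P _)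
    have e₁ : (φ x).1 = φ₁ ⟨(x : Ω₁ × Ω₂).1, Fusion.fst_mem_map P x⟩ := by rw [e]
    have e₂ : (φ x).2 = φ₂ ⟨(x : Ω₁ × Ω₂).2, Fusion.snd_mem_map P x⟩ := by rw [e]
    have hm₁ : (φ x).1 ∈ φ.range.map (MonoidHom.fst Ω₁ Ω₂) := ⟨φ x, ⟨x, rfl⟩, rfl⟩
    have hm₂ : (φ x).2 ∈ φ.range.map (MonoidHom.snd Ω₁ Ω₂) := ⟨φ x, ⟨x, rfl⟩, rfl⟩
    have h1 : (φ x).1 ∈ φ₁.range := hr₁.ge hm₁
    have h2 : (φ x).2 ∈ φ₂.range := hr₂.ge hm₂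
    have k1 : ψ₁ ⟨(φ x).1, hm₁⟩ = (x : Ω₁ × Ω₂).1 := by
      rw [hψχ₁ _ h1 hm₁]
      have h3 : (⟨(φ x).1, h1⟩ : φ₁.range) =
          ⟨φ₁ ⟨(x : Ω₁ × Ω₂).1, Fusion.fst_mem_map P x⟩, ⟨_, rfl⟩⟩ := Subtype.ext e₁
      rw [h3, hinv₁]
    have k2 : ψ₂ ⟨(φ x).2, hm₂⟩ = (x : Ω₁ × Ω₂).2 := by
      rw [hψχ₂ _ h2 hm₂]
      have h3 : (⟨(φ x).2, h2⟩ : φ₂.range) =
          ⟨φ₂ ⟨(x : Ω₁ × Ω₂).2, Fusion.snd_mem_map P x⟩, ⟨_, rfl⟩⟩ := Subtype.ext e₂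
      rw [h3, hinv₂]
    exact Prod.ext k1 k2

theorem Fusion.productSystem_isProductSystem (F₁ : FusionSystem S₁) (F₂ : FusionSystem S₂) :
    IsProductSystem F₁ F₂ (Fusion.productSystem F₁ F₂) :=
  fun _ _ => Iff.rfl

end Cfsg.Agent.Lead
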