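import Mathlib
import Cfsg.Prelude.Def_FusionComponents
import Cfsg.Agent.Lead.Fusion
import Cfsg.Agent.Lead.FusionConj
import Cfsg.Agent.Lead.FusionAut
import Cfsg.Agent.Lead.FusionSat
import Cfsg.Agent.Lead.FusionSat2
import Cfsg.Agent.Lead.FusionSat3
import Cfsg.Agent.Lead.FusionProduct
import Cfsg.Agent.Lead.FusionInner

set_option autoImplicit false

namespace Cfsg.Agent.Lead

open Cfsg Cfsg.FusionSystem

namespace ProdSat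

variable {Ω₁ Ω₂ : Type*} [Group Ω₁] [Group Ω₂] {S₁ : Subgroup Ω₁} {S₂ : Subgroup Ω₂}

theorem map_fst_le {R : Subgroup (Ω₁ × Ω₂)} (hR : R ≤ S₁.prod S₂) :
    R.map (MonoidHom.fst Ω₁ Ω₂) ≤ S₁ := by
  rintro _ ⟨x, hx, rfl⟩
  exact (hR hx).1

theorem map_snd_le {R : Subgroup (Ω₁ × Ω₂)} (hR : R ≤ S₁.prod S₂) :
    R.map (MonoidHom.snd Ω₁ Ω₂) ≤ S₂ := by
  rintro _ ⟨x, hx, rfl⟩
  exact (hR hx).2

/-- Product of two maps defined on overgroups of the projections is a map of the product. -/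
theorem prod_mem_of_hom {F₁ : FusionSystem S₁} {F₂ : FusionSystem S₂}
    {E : FusionSystem (S₁.prod S₂)} (hE : IsProductSystem F₁ F₂ E)
    {R : Subgroup (Ω₁ × Ω₂)} (hR : R ≤ S₁.prod S₂) {N₁ : Subgroup Ω₁} {N₂ : Subgroup Ω₂}
    (h₁ : R.map (MonoidHom.fst Ω₁ Ω₂) ≤ N₁) (h₂ : R.map (MonoidHom.snd Ω₁ Ω₂) ≤ N₂)
    {ψ₁ : N₁ →* Ω₁} {ψ₂ : N₂ →* Ω₂} (hψ₁ : ψ₁ ∈ F₁.Hom N₁) (hψ₂ : ψ₂ ∈ F₂.Hom N₂) :
    ∃ ψ ∈ E.Hom R, ∀ (x : R) (hx1 : (x : Ω₁ × Ω₂).1 ∈ N₁) (hx2 : (x : Ω₁ × Ω₂).2 ∈ N₂),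
      ψ x = (ψ₁ ⟨(x : Ω₁ × Ω₂).1, hx1⟩, ψ₂ ⟨(x : Ω₁ × Ω₂).2, hx2⟩) := by
  refine ⟨Fusion.prodHom R (ψ₁.comp (Subgroup.inclusion h₁)) (ψ₂.comp (Subgroup.inclusion h₂)),
    (hE R _).mpr ⟨hR, _, Fusion.restrict_mem F₁ hψ₁ h₁, _, Fusion.restrict_mem F₂ hψ₂ h₂,
      Fusion.prodHom_isProdOf _ _ _⟩, ?_⟩
  intro x hx1 hx2
  rfl

/-- Every map of the product is a product map. -/
theorem exists_components {F₁ : FusionSystem S₁} {F₂ : FusionSystem S₂}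
    {E : FusionSystem (S₁.prod S₂)} (hE : IsProductSystem F₁ F₂ E)
    {R : Subgroup (Ω₁ × Ω₂)} {φ : R →* Ω₁ × Ω₂} (hφ : φ ∈ E.Hom R) :
    ∃ φ₁ ∈ F₁.Hom (R.map (MonoidHom.fst Ω₁ Ω₂)), ∃ φ₂ ∈ F₂.Hom (R.map (MonoidHom.snd Ω₁ Ω₂)),
      (∀ x : R, φ x = (φ₁ ⟨(x : Ω₁ × Ω₂).1, Fusion.fst_mem_map R x⟩,
        φ₂ ⟨(x : Ω₁ × Ω₂).2, Fusion.snd_mem_map R x⟩)) ∧
      φ₁.range = φ.range.map (MonoidHom.fst Ω₁ Ω₂) ∧
      φ₂.range = φ.range.map (MonoidHom.snd Ω₁ Ω₂) := by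
  obtain ⟨-, φ₁, hφ₁, φ₂, hφ₂, h⟩ := (hE R φ).mp hφ
  have h' : ∀ x : R, φ x = (φ₁ ⟨(x : Ω₁ × Ω₂).1, Fusion.fst_mem_map R x⟩,
        φ₂ ⟨(x : Ω₁ × Ω₂).2, Fusion.snd_mem_map R x⟩) := fun x => h x _ _
  refine ⟨φ₁, hφ₁, φ₂, hφ₂, h', ?_, ?_⟩
  · ext y
    constructor
    · rintro ⟨⟨_, x, hx, rfl⟩, rfl⟩
      refine ⟨φ ⟨x, hx⟩, ⟨_, rfl⟩, ?_⟩
      rw [h' ⟨x, hx⟩]
      rfl
    · rintro ⟨_, ⟨x, rfl⟩, rfl⟩
      refine ⟨⟨_, Fusion.fst_mem_map R x⟩, ?_⟩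
      rw [h' x]
      rfl
  · ext y
    constructor
    · rintro ⟨⟨_, x, hx, rfl⟩, rfl⟩
      refine ⟨φ ⟨x, hx⟩, ⟨_, rfl⟩, ?_⟩
      rw [h' ⟨x, hx⟩]
      rfl
    · rintro ⟨_, ⟨x, rfl⟩, rfl⟩
      refine ⟨⟨_, Fusion.snd_mem_map R x⟩, ?_⟩
      rw [h' x]
      rfl

/-- The centralizer of a subgroup of the product is the product of the centralizers of its
projections. -/
theorem centralizerIn_prod (P : Subgroup (Ω₁ × Ω₂)) :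
    centralizerIn (S₁.prod S₂) P =
      (centralizerIn S₁ (P.map (MonoidHom.fst Ω₁ Ω₂))).prod
        (centralizerIn S₂ (P.map (MonoidHom.snd Ω₁ Ω₂))) := by
  ext ⟨a, b⟩
  simp only [centralizerIn, Subgroup.mem_inf, Subgroup.mem_prod, Subgroup.mem_centralizer_iff]
  constructor
  · rintro ⟨⟨ha, hb⟩, hc⟩
    refine ⟨⟨ha, ?_⟩, ⟨hb, ?_⟩⟩
    · rintro _ ⟨x, hx, rfl⟩
      exact congrArg Prod.fst (hc x hx)
    · rintro _ ⟨x, hx, rfl⟩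
      exact congrArg Prod.snd (hc x hx)
  · rintro ⟨⟨ha, hca⟩, ⟨hb, hcb⟩⟩
    refine ⟨⟨ha, hb⟩, ?_⟩
    intro x hx
    exact Prod.ext (hca _ ⟨x, hx, rfl⟩) (hcb _ ⟨x, hx, rfl⟩)

theorem card_prod_subgroup (H : Subgroup Ω₁) (K : Subgroup Ω₂) :
    Nat.card (H.prod K) = Nat.card H * Nat.card K := by
  rw [Nat.card_congr (Subgroup.prodEquiv H K).toEquiv, Nat.card_prod]

theorem normalizerIn_le_prod (P : Subgroup (Ω₁ × Ω₂)) :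
    normalizerIn (S₁.prod S₂) P ≤
      (normalizerIn S₁ (P.map (MonoidHom.fst Ω₁ Ω₂))).prod
        (normalizerIn S₂ (P.map (MonoidHom.snd Ω₁ Ω₂))) := by
  rintro ⟨a, b⟩ hg
  obtain ⟨⟨ha, hb⟩, hn⟩ := Subgroup.mem_inf.mp hg
  rw [Subgroup.mem_normalizer_iff] at hn
  refine ⟨Subgroup.mem_inf.mpr ⟨ha, ?_⟩, Subgroup.mem_inf.mpr ⟨hb, ?_⟩⟩
  · rw [Subgroup.mem_normalizer_iff]
    intro n
    constructor
    · rintro ⟨x, hx, rfl⟩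
      exact ⟨_, (hn x).mp hx, rfl⟩
    · rintro ⟨y, hy, hy1⟩
      refine ⟨(a, b)⁻¹ * y * (a, b), (hn _).mpr ?_, ?_⟩
      · have : (a, b) * ((a, b)⁻¹ * y * (a, b)) * (a, b)⁻¹ = y := by group
        rw [this]; exact hy
      · change a⁻¹ * y.1 * a = n
        change y.1 = a * n * a⁻¹ at hy1
        rw [hy1]; group
  · rw [Subgroup.mem_normalizer_iff]
    intro n
    constructor
    · rintro ⟨x, hx, rfl⟩
      exact ⟨_, (hn x).mp hx, rfl⟩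
    · rintro ⟨y, hy, hy1⟩
      refine ⟨(a, b)⁻¹ * y * (a, b), (hn _).mpr ?_, ?_⟩
      · have : (a, b) * ((a, b)⁻¹ * y * (a, b)) * (a, b)⁻¹ = y := by group
        rw [this]; exact hy
      · change b⁻¹ * y.2 * b = n
        change y.2 = b * n * b⁻¹ at hy1
        rw [hy1]; group

theorem extender_le (S P : Subgroup Ω₁) (φ : P →* Ω₁) : extender S P φ ≤ S := by
  unfold extender
  rw [Subgroup.closure_le]
  rintro g ⟨hg, -⟩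
  exact hg

theorem extender_le' {Ω : Type*} [Group Ω] (S P : Subgroup Ω) (φ : P →* Ω) : extender S P φ ≤ S := by
  unfold extender
  rw [Subgroup.closure_le]
  rintro g ⟨hg, -⟩
  exact hg

/-- The projections of the extender of a product map lie in the extenders of the components. -/
theorem extender_map_fst_le {R : Subgroup (Ω₁ × Ω₂)} (φ : R →* Ω₁ × Ω₂)
    (φ₁ : ↥(R.map (MonoidHom.fst Ω₁ Ω₂)) →* Ω₁) (φ₂ : ↥(R.map (MonoidHom.snd Ω₁ Ω₂)) →* Ω₂)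
    (h' : ∀ x : R, φ x = (φ₁ ⟨(x : Ω₁ × Ω₂).1, Fusion.fst_mem_map R x⟩,
        φ₂ ⟨(x : Ω₁ × Ω₂).2, Fusion.snd_mem_map R x⟩)) :
    (extender (S₁.prod S₂) R φ).map (MonoidHom.fst Ω₁ Ω₂) ≤
      extender S₁ (R.map (MonoidHom.fst Ω₁ Ω₂)) φ₁ := by
  rw [Subgroup.map_le_iff_le_comap]
  unfold extender
  rw [Subgroup.closure_le]
  rintro g ⟨hgS, hgN, h, hhS, hh⟩
  rw [SetLike.mem_coe, Subgroup.mem_comap]
  apply Subgroup.subset_closure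
  have hgN' := normalizerIn_le_prod (S₁ := S₁) (S₂ := S₂) R (Subgroup.mem_inf.mpr ⟨hgS, hgN⟩)
  refine ⟨hgS.1, (Subgroup.mem_inf.mp hgN'.1).2, h.1, hhS.1, ?_⟩
  rintro ⟨_, x, hx, rfl⟩ hx1
  have hx' : g * x * g⁻¹ ∈ R := (Subgroup.mem_normalizer_iff.mp hgN x).mp hx
  have e := hh ⟨x, hx⟩ hx'
  rw [h' ⟨g * x * g⁻¹, hx'⟩, h' ⟨x, hx⟩] at e
  exact congrArg Prod.fst e

theorem extender_map_snd_le {R : Subgroup (Ω₁ × Ω₂)} (φ : R →* Ω₁ × Ω₂)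
    (φ₁ : ↥(R.map (MonoidHom.fst Ω₁ Ω₂)) →* Ω₁) (φ₂ : ↥(R.map (MonoidHom.snd Ω₁ Ω₂)) →* Ω₂)
    (h' : ∀ x : R, φ x = (φ₁ ⟨(x : Ω₁ × Ω₂).1, Fusion.fst_mem_map R x⟩,
        φ₂ ⟨(x : Ω₁ × Ω₂).2, Fusion.snd_mem_map R x⟩)) :
    (extender (S₁.prod S₂) R φ).map (MonoidHom.snd Ω₁ Ω₂) ≤
      extender S₂ (R.map (MonoidHom.snd Ω₁ Ω₂)) φ₂ := by
  rw [Subgroup.map_le_iff_le_comap]
  unfold extender
  rw [Subgroup.closure_le]
  rintro g ⟨hgS, hgN, h, hhS, hh⟩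
  rw [SetLike.mem_coe, Subgroup.mem_comap]
  apply Subgroup.subset_closure
  have hgN' := normalizerIn_le_prod (S₁ := S₁) (S₂ := S₂) R (Subgroup.mem_inf.mpr ⟨hgS, hgN⟩)
  refine ⟨hgS.2, (Subgroup.mem_inf.mp hgN'.2).2, h.2, hhS.2, ?_⟩
  rintro ⟨_, x, hx, rfl⟩ hx1
  have hx' : g * x * g⁻¹ ∈ R := (Subgroup.mem_normalizer_iff.mp hgN x).mp hx
  have e := hh ⟨x, hx⟩ hx'
  rw [h' ⟨g * x * g⁻¹, hx'⟩, h' ⟨x, hx⟩] at e
  exact congrArg Prod.snd e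

/-- A subgroup whose projections are receptive is receptive in the product. -/
theorem receptive_of_components {F₁ : FusionSystem S₁} {F₂ : FusionSystem S₂}
    {E : FusionSystem (S₁.prod S₂)} (hE : IsProductSystem F₁ F₂ E)
    {P : Subgroup (Ω₁ × Ω₂)} (hP : P ≤ S₁.prod S₂)
    (h₁ : F₁.IsReceptive (P.map (MonoidHom.fst Ω₁ Ω₂)))
    (h₂ : F₂.IsReceptive (P.map (MonoidHom.snd Ω₁ Ω₂))) : E.IsReceptive P := by
  refine ⟨hP, fun R φ hφ hr => ?_⟩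
  obtain ⟨φ₁, hφ₁, φ₂, hφ₂, h', hr₁, hr₂⟩ := exists_components hE hφ
  rw [hr] at hr₁ hr₂
  obtain ⟨ψ₁, hψ₁, hext₁⟩ := h₁.2 _ φ₁ hφ₁ hr₁
  obtain ⟨ψ₂, hψ₂, hext₂⟩ := h₂.2 _ φ₂ hφ₂ hr₂
  have hN₁ := extender_map_fst_le (S₁ := S₁) (S₂ := S₂) φ φ₁ φ₂ h'
  have hN₂ := extender_map_snd_le (S₁ := S₁) (S₂ := S₂) φ φ₁ φ₂ h'
  obtain ⟨ψ, hψ, hψeq⟩ := prod_mem_of_hom hE (extender_le' _ R φ) hN₁ hN₂ hψ₁ hψ₂
  refine ⟨ψ, hψ, fun x hxR hxN => ?_⟩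
  rw [hψeq ⟨x, hxN⟩ (hN₁ ⟨x, hxN, rfl⟩) (hN₂ ⟨x, hxN, rfl⟩), h' ⟨x, hxR⟩]
  exact Prod.ext (hext₁ x.1 _ _) (hext₂ x.2 _ _)

theorem nat_eq_of_mul_le {a a' b b' : ℕ} (ha : a ≤ a') (hb : b ≤ b') (h : a' * b' ≤ a * b)
    (ha0 : 0 < a) (hb0 : 0 < b) : a = a' ∧ b = b' := by
  constructor
  · by_contra hne
    have hlt : a < a' := lt_of_le_of_ne ha hne
    have : a * b < a' * b' := Nat.mul_lt_mul_of_lt_of_le hlt hb (by omega)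
    omega
  · by_contra hne
    have hlt : b < b' := lt_of_le_of_ne hb hne
    have : a * b < a' * b' := Nat.mul_lt_mul_of_le_of_lt ha hlt (by omega)
    omega

/-- The projections of a fully normalized subgroup of the product are fully centralized. -/
theorem components_fullyCentralized [Finite S₁] [Finite S₂] (p : ℕ) [Fact p.Prime]
    (h₁ : IsPGroup p S₁) (h₂ : IsPGroup p S₂)
    {F₁ : FusionSystem S₁} {F₂ : FusionSystem S₂} {E : FusionSystem (S₁.prod S₂)}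
    (hF₁ : F₁.IsSaturated p) (hF₂ : F₂.IsSaturated p) (hE : IsProductSystem F₁ F₂ E)
    {P : Subgroup (Ω₁ × Ω₂)} (hP : E.IsFullyNormalized P) :
    F₁.IsFullyCentralized (P.map (MonoidHom.fst Ω₁ Ω₂)) ∧
      F₂.IsFullyCentralized (P.map (MonoidHom.snd Ω₁ Ω₂)) := by
  have hPS : P ≤ S₁.prod S₂ := hP.1
  haveI : Finite ↥(S₁.prod S₂) := Finite.of_equiv _ (Subgroup.prodEquiv S₁ S₂).symm.toEquiv
  obtain ⟨Q₁, hc₁, ha₁, hr₁⟩ := hF₁ _ (map_fst_le hPS)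
  obtain ⟨Q₂, hc₂, ha₂, hr₂⟩ := hF₂ _ (map_snd_le hPS)
  obtain ⟨ρ₁, hρ₁, hρN₁, hρQ₁⟩ := Fusion.exists_hom_normalizerIn p h₁ F₁ ha₁ hr₁ hc₁
  obtain ⟨ρ₂, hρ₂, hρN₂, hρQ₂⟩ := Fusion.exists_hom_normalizerIn p h₂ F₂ ha₂ hr₂ hc₂
  have hNle := normalizerIn_le_prod (S₁ := S₁) (S₂ := S₂) P
  have hN₁ : (normalizerIn (S₁.prod S₂) P).map (MonoidHom.fst Ω₁ Ω₂) ≤
      normalizerIn S₁ (P.map (MonoidHom.fst Ω₁ Ω₂)) := by
    rintro _ ⟨x, hx, rfl⟩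
    exact (hNle hx).1
  have hN₂ : (normalizerIn (S₁.prod S₂) P).map (MonoidHom.snd Ω₁ Ω₂) ≤
      normalizerIn S₂ (P.map (MonoidHom.snd Ω₁ Ω₂)) := by
    rintro _ ⟨x, hx, rfl⟩
    exact (hNle hx).2
  have hNS : normalizerIn (S₁.prod S₂) P ≤ S₁.prod S₂ := inf_le_left
  obtain ⟨ψ, hψ, hψeq⟩ := prod_mem_of_hom hE hNS hN₁ hN₂ hρ₁ hρ₂
  have hinj := E.injective_of_mem hψ
  have hPN : P ≤ normalizerIn (S₁.prod S₂) P := Fusion.le_normalizerIn hPS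
  obtain ⟨P', hP'⟩ : ∃ P', P' = (P.subgroupOf (normalizerIn (S₁.prod S₂) P)).map ψ := ⟨_, rfl⟩
  have hmemP' : ∀ y, y ∈ P' ↔ ∃ (q : Ω₁ × Ω₂) (hq : q ∈ P), ψ ⟨q, hPN hq⟩ = y := by
    intro y
    rw [hP']
    constructor
    · rintro ⟨⟨q, hqN⟩, hq, rfl⟩
      exact ⟨q, hq, rfl⟩
    · rintro ⟨q, hq, rfl⟩
      exact ⟨⟨q, hPN hq⟩, hq, rfl⟩
  have hconj : E.IsConj P P' := by
    refine ⟨ψ.comp (Subgroup.inclusion hPN), Fusion.restrict_mem E hψ hPN, ?_⟩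
    ext y
    rw [hmemP']
    constructor
    · rintro ⟨⟨q, hq⟩, rfl⟩
      exact ⟨q, hq, rfl⟩
    · rintro ⟨q, hq, rfl⟩
      exact ⟨⟨q, hq⟩, rfl⟩
  have hP'S : P' ≤ S₁.prod S₂ := Fusion.isConj_tgt_le E hconj
  haveI : Finite P' := Fusion.finite_of_le hP'S
  have hψN : ∀ x, ψ x ∈ normalizerIn (S₁.prod S₂) P' := by
    intro x
    refine Subgroup.mem_inf.mpr ⟨Fusion.map_mem E hψ x, ?_⟩
    apply mem_normalizer_of_conj_mem_of_finite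
    intro y hy
    obtain ⟨q, hq, rfl⟩ := (hmemP' y).mp hy
    have hxN := (Subgroup.mem_inf.mp x.2).2
    have hq' : (x : Ω₁ × Ω₂) * q * (x : Ω₁ × Ω₂)⁻¹ ∈ P :=
      (Subgroup.mem_normalizer_iff.mp hxN q).mp hq
    rw [hmemP']
    refine ⟨_, hq', ?_⟩
    rw [← map_inv, ← map_mul, ← map_mul]
    rfl
  haveI : Finite ↥(normalizerIn (S₁.prod S₂) P') :=
    Fusion.finite_of_le (inf_le_left : normalizerIn (S₁.prod S₂) P' ≤ S₁.prod S₂)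
  have hbij : Function.Bijective
      (fun x => (⟨ψ x, hψN x⟩ : ↥(normalizerIn (S₁.prod S₂) P'))) := by
    apply Function.Injective.bijective_of_nat_card_le
    · intro x y hxy
      exact hinj (congrArg Subtype.val hxy)
    · exact hP.2 P' hconj
  -- centralizer of `P'` is the image of the centralizer of `P`
  have hCle : centralizerIn (S₁.prod S₂) P' ≤
      ((centralizerIn (S₁.prod S₂) P).subgroupOf (normalizerIn (S₁.prod S₂) P)).map ψ := by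
    intro c hc
    obtain ⟨n, hn⟩ := hbij.2 ⟨c, Fusion.centralizerIn_le_normalizerIn P' hc⟩
    have hn' : ψ n = c := congrArg Subtype.val hn
    refine ⟨n, ?_, hn'⟩
    rw [SetLike.mem_coe, Subgroup.mem_subgroupOf]
    refine Subgroup.mem_inf.mpr ⟨hNS n.2, ?_⟩
    rw [Subgroup.mem_centralizer_iff]
    intro q hq
    have hcc := (Subgroup.mem_inf.mp hc).2
    rw [Subgroup.mem_centralizer_iff] at hcc
    have h3 := hcc (ψ ⟨q, hPN hq⟩) ((hmemP' _).mpr ⟨q, hq, rfl⟩)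
    rw [← hn', ← map_mul, ← map_mul] at h3
    exact congrArg Subtype.val (hinj h3)
  have hcard : Nat.card (centralizerIn (S₁.prod S₂) P') ≤
      Nat.card (centralizerIn (S₁.prod S₂) P) := by
    haveI : Finite ↥(((centralizerIn (S₁.prod S₂) P).subgroupOf
        (normalizerIn (S₁.prod S₂) P)).map ψ) := by
      apply Fusion.finite_of_le (S := S₁.prod S₂)
      rintro _ ⟨x, -, rfl⟩
      exact Fusion.map_mem E hψ x
    calc Nat.card (centralizerIn (S₁.prod S₂) P')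
        ≤ Nat.card (((centralizerIn (S₁.prod S₂) P).subgroupOf
            (normalizerIn (S₁.prod S₂) P)).map ψ) := Subgroup.card_le_of_le hCle
      _ = Nat.card ((centralizerIn (S₁.prod S₂) P).subgroupOf
            (normalizerIn (S₁.prod S₂) P)) := Subgroup.card_map_of_injective hinj
      _ = Nat.card (centralizerIn (S₁.prod S₂) P) :=
          Nat.card_congr (Subgroup.subgroupOfEquivOfLe
            (Fusion.centralizerIn_le_normalizerIn P)).toEquiv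
  -- the projections of `P'`
  have hP'₁ : P'.map (MonoidHom.fst Ω₁ Ω₂) = Q₁ := by
    rw [← hρQ₁]
    ext y
    constructor
    · rintro ⟨z, hz, rfl⟩
      obtain ⟨q, hq, rfl⟩ := (hmemP' z).mp hz
      refine ⟨⟨q.1, hN₁ ⟨q, hPN hq, rfl⟩⟩, ?_, ?_⟩
      · rw [SetLike.mem_coe, Subgroup.mem_subgroupOf]
        exact ⟨q, hq, rfl⟩
      · rw [hψeq ⟨q, hPN hq⟩ (hN₁ ⟨q, hPN hq, rfl⟩) (hN₂ ⟨q, hPN hq, rfl⟩)]
        rfl
    · rintro ⟨⟨y₁, hy₁N⟩, hy₁, rfl⟩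
      rw [SetLike.mem_coe, Subgroup.mem_subgroupOf] at hy₁
      obtain ⟨q, hq, hq1⟩ := hy₁
      refine ⟨ψ ⟨q, hPN hq⟩, (hmemP' _).mpr ⟨q, hq, rfl⟩, ?_⟩
      rw [hψeq ⟨q, hPN hq⟩ (hN₁ ⟨q, hPN hq, rfl⟩) (hN₂ ⟨q, hPN hq, rfl⟩)]
      change ρ₁ ⟨q.1, _⟩ = ρ₁ ⟨y₁, hy₁N⟩
      congr 1
      exact Subtype.ext hq1
  have hP'₂ : P'.map (MonoidHom.snd Ω₁ Ω₂) = Q₂ := by
    rw [← hρQ₂]
    ext y
    constructor
    · rintro ⟨z, hz, rfl⟩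
      obtain ⟨q, hq, rfl⟩ := (hmemP' z).mp hz
      refine ⟨⟨q.2, hN₂ ⟨q, hPN hq, rfl⟩⟩, ?_, ?_⟩
      · rw [SetLike.mem_coe, Subgroup.mem_subgroupOf]
        exact ⟨q, hq, rfl⟩
      · rw [hψeq ⟨q, hPN hq⟩ (hN₁ ⟨q, hPN hq, rfl⟩) (hN₂ ⟨q, hPN hq, rfl⟩)]
        rfl
    · rintro ⟨⟨y₂, hy₂N⟩, hy₂, rfl⟩
      rw [SetLike.mem_coe, Subgroup.mem_subgroupOf] at hy₂
      obtain ⟨q, hq, hq2⟩ := hy₂
      refine ⟨ψ ⟨q, hPN hq⟩, (hmemP' _).mpr ⟨q, hq, rfl⟩, ?_⟩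
      rw [hψeq ⟨q, hPN hq⟩ (hN₁ ⟨q, hPN hq, rfl⟩) (hN₂ ⟨q, hPN hq, rfl⟩)]
      change ρ₂ ⟨q.2, _⟩ = ρ₂ ⟨y₂, hy₂N⟩
      congr 1
      exact Subtype.ext hq2
  rw [centralizerIn_prod, centralizerIn_prod, card_prod_subgroup, card_prod_subgroup, hP'₁,
    hP'₂] at hcard
  have hle₁ := (Fusion.card_le_of_FAR p h₁ F₁ ha₁ hr₁ hc₁).2
  have hle₂ := (Fusion.card_le_of_FAR p h₂ F₂ ha₂ hr₂ hc₂).2
  haveI : Finite ↥(centralizerIn S₁ (P.map (MonoidHom.fst Ω₁ Ω₂))) :=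
    Fusion.finite_of_le (inf_le_left : centralizerIn S₁ _ ≤ S₁)
  haveI : Finite ↥(centralizerIn S₂ (P.map (MonoidHom.snd Ω₁ Ω₂))) :=
    Fusion.finite_of_le (inf_le_left : centralizerIn S₂ _ ≤ S₂)
  obtain ⟨e₁, e₂⟩ := nat_eq_of_mul_le hle₁ hle₂ hcard Nat.card_pos Nat.card_pos
  refine ⟨⟨map_fst_le hPS, fun R hR => ?_⟩, ⟨map_snd_le hPS, fun R hR => ?_⟩⟩
  · rw [e₁]
    exact (Fusion.card_le_of_FAR p h₁ F₁ ha₁ hr₁
      (Fusion.isConj_trans F₁ (Fusion.isConj_symm F₁ hR) hc₁)).2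
  · rw [e₂]
    exact (Fusion.card_le_of_FAR p h₂ F₂ ha₂ hr₂
      (Fusion.isConj_trans F₂ (Fusion.isConj_symm F₂ hR) hc₂)).2

/-! ### Automorphisms of the full product -/

theorem map_fst_prod_eq (S₁ : Subgroup Ω₁) (S₂ : Subgroup Ω₂) :
    (S₁.prod S₂).map (MonoidHom.fst Ω₁ Ω₂) = S₁ := by
  ext y
  constructor
  · rintro ⟨x, hx, rfl⟩
    exact hx.1
  · intro hy
    exact ⟨(y, 1), ⟨hy, S₂.one_mem⟩, rfl⟩

theorem map_snd_prod_eq (S₁ : Subgroup Ω₁) (S₂ : Subgroup Ω₂) :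
    (S₁.prod S₂).map (MonoidHom.snd Ω₁ Ω₂) = S₂ := by
  ext y
  constructor
  · rintro ⟨x, hx, rfl⟩
    exact hx.2
  · intro hy
    exact ⟨(1, y), ⟨S₁.one_mem, hy⟩, rfl⟩

/-- The product of two automorphisms. -/
def prodAut (α₁ : MulAut S₁) (α₂ : MulAut S₂) : MulAut ↥(S₁.prod S₂) :=
  ((Subgroup.prodEquiv S₁ S₂).trans (MulEquiv.prodCongr α₁ α₂)).trans
    (Subgroup.prodEquiv S₁ S₂).symm

theorem prodAut_apply (α₁ : MulAut S₁) (α₂ : MulAut S₂) (x : ↥(S₁.prod S₂)) :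
    ((prodAut α₁ α₂ x : ↥(S₁.prod S₂)) : Ω₁ × Ω₂) =
      ((α₁ ⟨(x : Ω₁ × Ω₂).1, x.2.1⟩ : Ω₁), (α₂ ⟨(x : Ω₁ × Ω₂).2, x.2.2⟩ : Ω₂)) := rfl

/-- The product of automorphisms as a homomorphism. -/
def prodAutHom (S₁ : Subgroup Ω₁) (S₂ : Subgroup Ω₂) :
    MulAut S₁ × MulAut S₂ →* MulAut ↥(S₁.prod S₂) where
  toFun a := prodAut a.1 a.2
  map_one' := by
    ext x <;> rfl
  map_mul' a b := by
    ext x <;> rfl

theorem prodAutHom_injective : Function.Injective (prodAutHom S₁ S₂) := by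
  rintro ⟨a₁, a₂⟩ ⟨b₁, b₂⟩ h
  have h' : ∀ x : ↥(S₁.prod S₂), prodAut a₁ a₂ x = prodAut b₁ b₂ x := fun x =>
    congrArg (fun α : MulAut ↥(S₁.prod S₂) => α x) h
  apply Prod.ext
  · ext x
    have := congrArg (fun z : ↥(S₁.prod S₂) => (z : Ω₁ × Ω₂).1)
      (h' ⟨((x : Ω₁), 1), ⟨x.2, S₂.one_mem⟩⟩)
    exact this
  · ext y
    have := congrArg (fun z : ↥(S₁.prod S₂) => (z : Ω₁ × Ω₂).2)
      (h' ⟨(1, (y : Ω₂)), ⟨S₁.one_mem, y.2⟩⟩)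
    exact this

theorem prodAut_mem_autGroup {F₁ : FusionSystem S₁} {F₂ : FusionSystem S₂}
    {E : FusionSystem (S₁.prod S₂)} (hE : IsProductSystem F₁ F₂ E)
    {α₁ : MulAut S₁} {α₂ : MulAut S₂} (h₁ : α₁ ∈ F₁.autGroup S₁) (h₂ : α₂ ∈ F₂.autGroup S₂) :
    prodAut α₁ α₂ ∈ E.autGroup (S₁.prod S₂) := by
  rw [Fusion.mem_autGroup_iff F₁ le_rfl] at h₁
  rw [Fusion.mem_autGroup_iff F₂ le_rfl] at h₂
  rw [Fusion.mem_autGroup_iff E le_rfl]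
  obtain ⟨ψ, hψ, hψeq⟩ := prod_mem_of_hom hE (le_refl (S₁.prod S₂))
    (map_fst_prod_eq S₁ S₂).le (map_snd_prod_eq S₁ S₂).le h₁ h₂
  convert hψ using 1
  ext x
  · rw [hψeq x x.2.1 x.2.2]
    rfl
  · rw [hψeq x x.2.1 x.2.2]
    rfl

theorem exists_prodAut [Finite S₁] [Finite S₂] {F₁ : FusionSystem S₁} {F₂ : FusionSystem S₂}
    {E : FusionSystem (S₁.prod S₂)} (hE : IsProductSystem F₁ F₂ E)
    {α : MulAut ↥(S₁.prod S₂)} (hα : α ∈ E.autGroup (S₁.prod S₂)) :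
    ∃ α₁ ∈ F₁.autGroup S₁, ∃ α₂ ∈ F₂.autGroup S₂, α = prodAut α₁ α₂ := by
  rw [Fusion.mem_autGroup_iff E le_rfl] at hα
  obtain ⟨φ₁, hφ₁, φ₂, hφ₂, h', -, -⟩ := exists_components hE hα
  obtain ⟨ψ₁, hψ₁, hψφ₁⟩ := Fusion.exists_hom_of_eq F₁ (map_fst_prod_eq S₁ S₂) hφ₁
  obtain ⟨ψ₂, hψ₂, hψφ₂⟩ := Fusion.exists_hom_of_eq F₂ (map_snd_prod_eq S₁ S₂) hφ₂
  have hb₁ : Function.Bijective (ψ₁.codRestrict S₁ (fun x => Fusion.map_mem F₁ hψ₁ x)) := by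
    rw [← Finite.injective_iff_bijective]
    intro x y hxy
    exact F₁.injective_of_mem hψ₁ (congrArg Subtype.val hxy)
  have hb₂ : Function.Bijective (ψ₂.codRestrict S₂ (fun x => Fusion.map_mem F₂ hψ₂ x)) := by
    rw [← Finite.injective_iff_bijective]
    intro x y hxy
    exact F₂.injective_of_mem hψ₂ (congrArg Subtype.val hxy)
  refine ⟨MulEquiv.ofBijective _ hb₁, ?_, MulEquiv.ofBijective _ hb₂, ?_, ?_⟩
  · rw [Fusion.mem_autGroup_iff F₁ le_rfl]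
    convert hψ₁ using 1
    ext x
    rfl
  · rw [Fusion.mem_autGroup_iff F₂ le_rfl]
    convert hψ₂ using 1
    ext x
    rfl
  · ext x
    · have e := h' x
      have e1 : ((α x : ↥(S₁.prod S₂)) : Ω₁ × Ω₂).1 =
          φ₁ ⟨(x : Ω₁ × Ω₂).1, Fusion.fst_mem_map _ x⟩ := congrArg Prod.fst e
      rw [e1, prodAut_apply]
      exact (hψφ₁ _ _ x.2.1).symm
    · have e := h' x
      have e2 : ((α x : ↥(S₁.prod S₂)) : Ω₁ × Ω₂).2 =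
          φ₂ ⟨(x : Ω₁ × Ω₂).2, Fusion.snd_mem_map _ x⟩ := congrArg Prod.snd e
      rw [e2, prodAut_apply]
      exact (hψφ₂ _ _ x.2.2).symm

theorem prodAut_mem_autInducedBy {β₁ : MulAut S₁} {β₂ : MulAut S₂}
    (h₁ : β₁ ∈ autInducedBy S₁ S₁) (h₂ : β₂ ∈ autInducedBy S₂ S₂) :
    prodAut β₁ β₂ ∈ autInducedBy (S₁.prod S₂) (S₁.prod S₂) := by
  rw [mem_autInducedBy_iff] at h₁ h₂ ⊢
  obtain ⟨g₁, hg₁, e₁⟩ := h₁
  obtain ⟨g₂, hg₂, e₂⟩ := h₂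
  refine ⟨(g₁, g₂), ⟨hg₁, hg₂⟩, fun x => ?_⟩
  rw [prodAut_apply, e₁, e₂]
  rfl

/-- `S₁ × S₂` is fully automized in the product of two saturated systems. -/
theorem top_fullyAutomized [Finite S₁] [Finite S₂] (p : ℕ) [Fact p.Prime]
    (h₁ : IsPGroup p S₁) (h₂ : IsPGroup p S₂)
    {F₁ : FusionSystem S₁} {F₂ : FusionSystem S₂} {E : FusionSystem (S₁.prod S₂)}
    (hF₁ : F₁.IsSaturated p) (hF₂ : F₂.IsSaturated p) (hE : IsProductSystem F₁ F₂ E)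
    (hS : IsPGroup p ↥(S₁.prod S₂)) :
    E.IsFullyAutomized p (S₁.prod S₂) := by
  obtain ⟨-, R₁, hR₁⟩ := Fusion.top_fullyAutomized p F₁ hF₁
  obtain ⟨-, R₂, hR₂⟩ := Fusion.top_fullyAutomized p F₂ hF₂
  have hIA : autInducedBy (S₁.prod S₂) (S₁.prod S₂) ≤ E.autGroup (S₁.prod S₂) :=
    Fusion.autInducedBy_le_autGroup E le_rfl
  have hIp : IsPGroup p ↥((autInducedBy (S₁.prod S₂) (S₁.prod S₂)).subgroupOf
      (E.autGroup (S₁.prod S₂))) :=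
    (Fusion.isPGroup_autInducedBy p hS (S₁.prod S₂)).comap_subtype
  refine ⟨le_rfl, ⟨⟨_, hIp, ?_⟩, rfl⟩⟩
  intro Q hQ hle
  apply le_antisymm _ hle
  -- the preimage of `Q` in the product of the automorphism groups
  obtain ⟨J', hJ'⟩ : ∃ J' : Subgroup (MulAut S₁ × MulAut S₂),
      J' = (Q.map (E.autGroup (S₁.prod S₂)).subtype).comap (prodAutHom S₁ S₂) := ⟨_, rfl⟩
  have hJ'p : IsPGroup p J' := by
    rw [hJ']
    exact (hQ.map _).comap_of_injective _ prodAutHom_injective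
  have hmemJ' : ∀ a : MulAut S₁ × MulAut S₂, a ∈ J' ↔
      ∃ (h : prodAut a.1 a.2 ∈ E.autGroup (S₁.prod S₂)), (⟨_, h⟩ : E.autGroup (S₁.prod S₂)) ∈ Q := by
    intro a
    rw [hJ', Subgroup.mem_comap]
    constructor
    · rintro ⟨q, hq, hqa⟩
      have : (q : MulAut ↥(S₁.prod S₂)) = prodAut a.1 a.2 := hqa
      refine ⟨this ▸ q.2, ?_⟩
      have hqe : (⟨prodAut a.1 a.2, this ▸ q.2⟩ : E.autGroup (S₁.prod S₂)) = q := by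
        apply Subtype.ext
        exact this.symm
      rw [hqe]
      exact hq
    · rintro ⟨h, hq⟩
      exact ⟨⟨_, h⟩, hq, rfl⟩
  have hJ'A : ∀ a ∈ J', a.1 ∈ F₁.autGroup S₁ ∧ a.2 ∈ F₂.autGroup S₂ := by
    intro a ha
    obtain ⟨h, -⟩ := (hmemJ' a).mp ha
    obtain ⟨α₁, hα₁, α₂, hα₂, e⟩ := exists_prodAut hE h
    have : a = (α₁, α₂) := prodAutHom_injective e
    rw [this]
    exact ⟨hα₁, hα₂⟩
  have hInnJ' : ∀ β₁ ∈ autInducedBy S₁ S₁, ∀ β₂ ∈ autInducedBy S₂ S₂, (β₁, β₂) ∈ J' := by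
    intro β₁ hβ₁ β₂ hβ₂
    rw [hmemJ']
    have hm := prodAut_mem_autInducedBy hβ₁ hβ₂
    refine ⟨hIA hm, hle ?_⟩
    rw [Subgroup.mem_subgroupOf]
    exact hm
  -- first projection
  have hJ₁ : J'.map (MonoidHom.fst _ _) ≤ autInducedBy S₁ S₁ := by
    have hp : IsPGroup p ↥((J'.map (MonoidHom.fst (MulAut S₁) (MulAut S₂))).subgroupOf
        (F₁.autGroup S₁)) := (hJ'p.map _).comap_subtype
    have hge : (R₁ : Subgroup (F₁.autGroup S₁)) ≤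
        (J'.map (MonoidHom.fst (MulAut S₁) (MulAut S₂))).subgroupOf (F₁.autGroup S₁) := by
      rw [hR₁]
      intro x hx
      rw [Subgroup.mem_subgroupOf] at hx ⊢
      exact ⟨(x.1, 1), hInnJ' _ hx _ (Subgroup.one_mem _), rfl⟩
    have heq := R₁.is_maximal' hp hge
    rintro _ ⟨a, ha, rfl⟩
    have hmem : (⟨a.1, (hJ'A a ha).1⟩ : F₁.autGroup S₁) ∈
        (J'.map (MonoidHom.fst (MulAut S₁) (MulAut S₂))).subgroupOf (F₁.autGroup S₁) := by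
      rw [Subgroup.mem_subgroupOf]
      exact ⟨a, ha, rfl⟩
    rw [heq] at hmem
    have hmem' : (⟨a.1, (hJ'A a ha).1⟩ : F₁.autGroup S₁) ∈ (R₁ : Subgroup (F₁.autGroup S₁)) :=
      hmem
    rw [hR₁, Subgroup.mem_subgroupOf] at hmem'
    exact hmem'
  have hJ₂ : J'.map (MonoidHom.snd _ _) ≤ autInducedBy S₂ S₂ := by
    have hp : IsPGroup p ↥((J'.map (MonoidHom.snd (MulAut S₁) (MulAut S₂))).subgroupOf
        (F₂.autGroup S₂)) := (hJ'p.map _).comap_subtype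
    have hge : (R₂ : Subgroup (F₂.autGroup S₂)) ≤
        (J'.map (MonoidHom.snd (MulAut S₁) (MulAut S₂))).subgroupOf (F₂.autGroup S₂) := by
      rw [hR₂]
      intro x hx
      rw [Subgroup.mem_subgroupOf] at hx ⊢
      exact ⟨(1, x.1), hInnJ' _ (Subgroup.one_mem _) _ hx, rfl⟩
    have heq := R₂.is_maximal' hp hge
    rintro _ ⟨a, ha, rfl⟩
    have hmem : (⟨a.2, (hJ'A a ha).2⟩ : F₂.autGroup S₂) ∈
        (J'.map (MonoidHom.snd (MulAut S₁) (MulAut S₂))).subgroupOf (F₂.autGroup S₂) := by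
      rw [Subgroup.mem_subgroupOf]
      exact ⟨a, ha, rfl⟩
    rw [heq] at hmem
    have hmem' : (⟨a.2, (hJ'A a ha).2⟩ : F₂.autGroup S₂) ∈ (R₂ : Subgroup (F₂.autGroup S₂)) :=
      hmem
    rw [hR₂, Subgroup.mem_subgroupOf] at hmem'
    exact hmem'
  -- conclusion
  intro q hq
  obtain ⟨α₁, hα₁, α₂, hα₂, e⟩ := exists_prodAut hE q.2
  have ha : (α₁, α₂) ∈ J' := by
    rw [hmemJ']
    have h : prodAut α₁ α₂ ∈ E.autGroup (S₁.prod S₂) := e ▸ q.2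
    refine ⟨h, ?_⟩
    have hqe : (⟨prodAut α₁ α₂, h⟩ : E.autGroup (S₁.prod S₂)) = q := by
      apply Subtype.ext
      exact e.symm
    rw [hqe]
    exact hq
  rw [Subgroup.mem_subgroupOf, e]
  exact prodAut_mem_autInducedBy (hJ₁ ⟨_, ha, rfl⟩) (hJ₂ ⟨_, ha, rfl⟩)

/-- The direct product of two saturated fusion systems is saturated. -/
theorem main [Finite S₁] [Finite S₂] (p : ℕ) [Fact p.Prime]
    (h₁ : IsPGroup p S₁) (h₂ : IsPGroup p S₂)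
    (F₁ : FusionSystem S₁) (F₂ : FusionSystem S₂) (hF₁ : F₁.IsSaturated p) (hF₂ : F₂.IsSaturated p)
    (E : FusionSystem (S₁.prod S₂)) (hE : IsProductSystem F₁ F₂ E) : E.IsSaturated p := by
  haveI : Finite ↥(S₁.prod S₂) := Finite.of_equiv _ (Subgroup.prodEquiv S₁ S₂).symm.toEquiv
  have hS : IsPGroup p ↥(S₁.prod S₂) := by
    obtain ⟨a, ha⟩ := IsPGroup.iff_card.mp h₁
    obtain ⟨b, hb⟩ := IsPGroup.iff_card.mp h₂
    apply IsPGroup.of_card (n := a + b)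
    rw [card_prod_subgroup, ha, hb, pow_add]
  rw [Fusion.isSaturated_iff' p hS]
  refine ⟨top_fullyAutomized p h₁ h₂ hF₁ hF₂ hE hS, fun P hP => ?_⟩
  obtain ⟨hc₁, hc₂⟩ := components_fullyCentralized p h₁ h₂ hF₁ hF₂ hE hP
  exact receptive_of_components hE hP.1
    (Fusion.receptive_of_fullyCentralized p h₁ F₁ hF₁ hc₁)
    (Fusion.receptive_of_fullyCentralized p h₂ F₂ hF₂ hc₂)

end ProdSat

end Cfsg.Agent.Lead
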