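import Mathlib
import Cfsg.Prelude.Def_FusionSystem
import Cfsg.Agent.Lead.FusionStab
import Cfsg.Agent.Helper5.CharP

set_option autoImplicit false

/-!
Centric subgroups meeting a normal subsystem in a non-centric subgroup are not radical.
-/

namespace Cfsg.Agent.Lead

open Cfsg Cfsg.FusionSystem
open scoped Pointwise

variable {Ω : Type*} [Group Ω] {S : Subgroup Ω}

theorem Fusion.mem_normalizer_inf_of_mem {H₁ H₂ : Subgroup Ω} {g : Ω}
    (h1 : g ∈ Subgroup.normalizer (H₁ : Set Ω)) (h2 : g ∈ Subgroup.normalizer (H₂ : Set Ω)) :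
    g ∈ Subgroup.normalizer ((H₁ ⊓ H₂ : Subgroup Ω) : Set Ω) := by
  rw [Subgroup.mem_normalizer_iff] at h1 h2 ⊢
  intro h
  rw [Subgroup.mem_inf, Subgroup.mem_inf, ← h1 h, ← h2 h]

theorem Fusion.mem_normalizer_centralizer_of_mem {H : Subgroup Ω} {g : Ω}
    (hg : g ∈ Subgroup.normalizer (H : Set Ω)) :
    g ∈ Subgroup.normalizer ((Subgroup.centralizer (H : Set Ω) : Subgroup Ω) : Set Ω) := by
  have hginv : g⁻¹ ∈ Subgroup.normalizer (H : Set Ω) := Subgroup.inv_mem _ hg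
  rw [Subgroup.mem_normalizer_iff]
  intro z
  rw [Subgroup.mem_centralizer_iff, Subgroup.mem_centralizer_iff]
  constructor
  · intro hz h hh
    have h1 : g⁻¹ * h * g⁻¹⁻¹ ∈ H := (Subgroup.mem_normalizer_iff.1 hginv h).1 hh
    have h2 := hz _ h1
    calc h * (g * z * g⁻¹) = g * ((g⁻¹ * h * g⁻¹⁻¹) * z) * g⁻¹ := by group
      _ = g * (z * (g⁻¹ * h * g⁻¹⁻¹)) * g⁻¹ := by rw [h2]
      _ = g * z * g⁻¹ * h := by group
  · intro hz h hh
    have h1 : g * h * g⁻¹ ∈ H := (Subgroup.mem_normalizer_iff.1 hg h).1 hh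
    have h2 := hz _ h1
    calc h * z = g⁻¹ * ((g * h * g⁻¹) * (g * z * g⁻¹)) * g := by group
      _ = g⁻¹ * ((g * z * g⁻¹) * (g * h * g⁻¹)) * g := by rw [h2]
      _ = z * h := by group

/-- The chain `1 ≤ Q ≤ ⊤`. -/
def Fusion.chain3 (Q : Subgroup Ω) : ℕ → Subgroup Ω :=
  fun i => if i = 0 then ⊥ else if i = 1 then Q else ⊤

theorem Fusion.chain3_zero (Q : Subgroup Ω) : Fusion.chain3 Q 0 = ⊥ := rfl
theorem Fusion.chain3_one (Q : Subgroup Ω) : Fusion.chain3 Q 1 = Q := rfl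
theorem Fusion.chain3_two (Q : Subgroup Ω) : Fusion.chain3 Q 2 = ⊤ := rfl
theorem Fusion.chain3_add_two (Q : Subgroup Ω) (i : ℕ) : Fusion.chain3 Q (i + 2) = ⊤ := by
  unfold Fusion.chain3
  rw [if_neg (by omega), if_neg (by omega)]

/-- An element of `C_T(P ∩ T)` outside `P` (with `T` strongly closed) produces an element of
`N_S(P)` outside `P` inducing an element of `O_p(Aut_F(P))`. -/
theorem Fusion.exists_pCore_conj_of_centralizer [Finite S] (p : ℕ) [Fact p.Prime] (hS : IsPGroup p S)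
    (F : FusionSystem S) {T P : Subgroup Ω} (hT : F.StronglyClosed T) (hPS : P ≤ S)
    (c : Ω) (hcT : c ∈ T) (hcC : c ∈ Subgroup.centralizer ((P ⊓ T : Subgroup Ω) : Set Ω))
    (hcP : c ∉ P) :
    ∃ x ∈ S ⊓ Subgroup.normalizer (P : Set Ω), x ∉ P ∧
      ∃ α ∈ ((pCore p ↥(F.autGroup P)).map (F.autGroup P).subtype : Subgroup (MulAut ↥P)),
        ∀ y : ↥P, ((α y : ↥P) : Ω) = x * (y : Ω) * x⁻¹ := by
  have hTS : T ≤ S := hT.1
  have hSNT : S ≤ Subgroup.normalizer (T : Set Ω) := Fusion.le_normalizer_of_stronglyClosed F hT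
  have : Finite P := Fusion.finite_of_le hPS
  obtain ⟨D, hD⟩ : ∃ D : Subgroup Ω, D = T ⊓ Subgroup.centralizer ((P ⊓ T : Subgroup Ω) : Set Ω) :=
    ⟨_, rfl⟩
  have hDS : D ≤ S := by rw [hD]; exact inf_le_left.trans hTS
  have hcD : c ∈ D := by rw [hD]; exact Subgroup.mem_inf.2 ⟨hcT, hcC⟩
  have hPND : P ≤ Subgroup.normalizer (D : Set Ω) := by
    intro u hu
    rw [hD]
    have huT : u ∈ Subgroup.normalizer (T : Set Ω) := hSNT (hPS hu)
    have huP : u ∈ Subgroup.normalizer (P : Set Ω) := Subgroup.le_normalizer hu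
    exact Fusion.mem_normalizer_inf_of_mem huT
      (Fusion.mem_normalizer_centralizer_of_mem (Fusion.mem_normalizer_inf_of_mem huP huT))
  have hRS : P ⊔ D ≤ S := sup_le hPS hDS
  have hne : P ≠ P ⊔ D := by
    intro h
    apply hcP
    rw [h]
    exact (le_sup_right : D ≤ P ⊔ D) hcD
  have : Finite ↥(P ⊔ D) := Fusion.finite_of_le hRS
  obtain ⟨g, hgT, hgP⟩ := Fusion.exists_mem_normalizerIn_not_mem (S := P ⊔ D) (hS.to_le hRS)
    le_sup_left hne
  have hgPD : g ∈ P ⊔ D := (Subgroup.mem_inf.mp hgT).1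
  have hgN : g ∈ Subgroup.normalizer (P : Set Ω) := (Subgroup.mem_inf.mp hgT).2
  have hmul : g ∈ (P : Set Ω) * (D : Set Ω) := by
    rw [← Subgroup.coe_mul_of_left_le_normalizer_right P D hPND]
    exact hgPD
  obtain ⟨u, hu, x, hx, hux⟩ := Set.mem_mul.mp hmul
  have hxN : x ∈ Subgroup.normalizer (P : Set Ω) := by
    have : x = u⁻¹ * g := by rw [← hux]; group
    rw [this]
    exact Subgroup.mul_mem _ (Subgroup.inv_mem _ (Subgroup.le_normalizer hu)) hgN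
  have hxP : x ∉ P := by
    intro h
    apply hgP
    rw [← hux]
    exact P.mul_mem hu h
  have hxS : x ∈ S := hDS hx
  have hxT : x ∈ T := by rw [hD] at hx; exact (Subgroup.mem_inf.1 hx).1
  have hxC : x ∈ Subgroup.centralizer ((P ⊓ T : Subgroup Ω) : Set Ω) := by
    rw [hD] at hx; exact (Subgroup.mem_inf.1 hx).2
  refine ⟨x, Subgroup.mem_inf.2 ⟨hxS, hxN⟩, hxP, ?_⟩
  -- the chain stabilizer
  have hinv : ∀ i, ∀ α ∈ F.autGroup P, ∀ y : P, (y : Ω) ∈ Fusion.chain3 (P ⊓ T) i →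
      ((α y : P) : Ω) ∈ Fusion.chain3 (P ⊓ T) i := by
    intro i α hα y hy
    rcases Nat.lt_or_ge i 2 with hi | hi
    · interval_cases i
      · rw [Fusion.chain3_zero, Subgroup.mem_bot] at hy ⊢
        have : y = 1 := Subtype.ext hy
        rw [this, map_one]; rfl
      · rw [Fusion.chain3_one] at hy ⊢
        exact Subgroup.mem_inf.2 ⟨(α y).2,
          Fusion.aut_mem_of_stronglyClosed F hPS hT α hα y (Subgroup.mem_inf.1 hy).2⟩
    · obtain ⟨j, rfl⟩ : ∃ j, i = j + 2 := ⟨i - 2, by omega⟩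
      rw [Fusion.chain3_add_two]; exact Subgroup.mem_top _
  obtain ⟨B, hB⟩ : ∃ B : Subgroup (MulAut P),
      B = Fusion.stabSubgroup F P (Fusion.chain3 (P ⊓ T)) hinv := ⟨_, rfl⟩
  have hBA : B ≤ F.autGroup P := by
    intro β hβ
    rw [hB, Fusion.mem_stabSubgroup] at hβ
    exact hβ.1
  have hBp : IsPGroup p B := by
    rintro ⟨β, hβmem⟩
    have hβ : β ∈ Fusion.stabSet F P (Fusion.chain3 (P ⊓ T)) := by
      rw [hB, Fusion.mem_stabSubgroup] at hβmem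
      exact hβmem
    obtain ⟨k, hk⟩ := Fusion.stabSet_pow_eq_one F P (Fusion.chain3 (P ⊓ T)) hinv p (hS.to_le hPS) 2
      (fun y => by rw [Fusion.chain3_two]; exact Subgroup.mem_top _)
      (fun β' _ => ⟨0, fun y hy => by
        rw [Fusion.chain3_zero, Subgroup.mem_bot] at hy
        have : y = 1 := Subtype.ext hy
        rw [this, map_one]⟩) hβ
    exact ⟨k, Subtype.ext hk⟩
  have hBn : ∀ α ∈ F.autGroup P, ∀ b ∈ B, α * b * α⁻¹ ∈ B := by
    intro α hα b hb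
    rw [hB, Fusion.mem_stabSubgroup] at hb ⊢
    exact Fusion.stabSet_conj F P (Fusion.chain3 (P ⊓ T)) hinv hα hb
  have hBnormal : (B.subgroupOf (F.autGroup P)).Normal := by
    constructor
    intro n hn a
    rw [Subgroup.mem_subgroupOf] at hn ⊢
    exact hBn a.1 a.2 n.1 hn
  have hBle : B.subgroupOf (F.autGroup P) ≤ pCore p (F.autGroup P) :=
    le_sSup ⟨hBnormal, hBp.comap_subtype⟩
  -- conjugation by x lies in B
  have hcx : conjAutHom P ⟨x, hxN⟩ ∈ B := by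
    rw [hB, Fusion.mem_stabSubgroup]
    refine ⟨Fusion.autInducedBy_le_autGroup F hPS
      (Fusion.conjAutHom_mem_autInducedBy P ⟨x, hxN⟩ hxS), ?_⟩
    intro i y hy
    rcases Nat.lt_or_ge i 2 with hi | hi
    · interval_cases i
      · rw [Fusion.chain3_one] at hy
        rw [Fusion.chain3_zero, Subgroup.mem_bot]
        rw [Subgroup.mem_centralizer_iff] at hxC
        have h1 := hxC (y : Ω) hy
        show (y : Ω)⁻¹ * (x * (y : Ω) * x⁻¹) = 1
        rw [← h1]; group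
      · rw [Fusion.chain3_one]
        refine Subgroup.mem_inf.2 ⟨(y⁻¹ * conjAutHom P ⟨x, hxN⟩ y).2, ?_⟩
        show (y : Ω)⁻¹ * (x * (y : Ω) * x⁻¹) ∈ T
        have hyS : (y : Ω)⁻¹ ∈ S := S.inv_mem (hPS y.2)
        have h1 : (y : Ω)⁻¹ * x * (y : Ω)⁻¹⁻¹ ∈ T :=
          (Subgroup.mem_normalizer_iff.1 (hSNT hyS) x).1 hxT
        have h2 : (y : Ω)⁻¹ * (x * (y : Ω) * x⁻¹) = ((y : Ω)⁻¹ * x * (y : Ω)⁻¹⁻¹) * x⁻¹ := by group
        rw [h2]
        exact T.mul_mem h1 (T.inv_mem hxT)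
    · obtain ⟨j, rfl⟩ : ∃ j, i = j + 2 := ⟨i - 2, by omega⟩
      rw [Fusion.chain3_add_two]; exact Subgroup.mem_top _
  refine ⟨conjAutHom P ⟨x, hxN⟩, ?_, fun y => rfl⟩
  exact ⟨⟨_, hBA hcx⟩, hBle (Subgroup.mem_subgroupOf.mpr hcx), rfl⟩


/-- Strongly closed subgroups absorb images of single elements. -/
theorem Fusion.map_mem_of_stronglyClosed (F : FusionSystem S) {T R : Subgroup Ω}
    (hT : F.StronglyClosed T) {ρ : R →* Ω} (hρ : ρ ∈ F.Hom R) (x : R) (hx : (x : Ω) ∈ T) :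
    ρ x ∈ T := by
  have hle : Subgroup.zpowers (x : Ω) ≤ R := by
    rw [Subgroup.zpowers_le]; exact x.2
  have hle' : Subgroup.zpowers (x : Ω) ≤ T := by
    rw [Subgroup.zpowers_le]; exact hx
  exact hT.2 _ hle' _ (Fusion.restrict_mem F hρ hle) ⟨x, Subgroup.mem_zpowers _⟩

/-- If `P ∩ T` is not centric in a subsystem `E` over the strongly closed `T`, some `F`-conjugate
`P*` of `P` has `C_T(P* ∩ T) ≰ P*`. -/
theorem Fusion.exists_conj_centralizer_not_le [Finite S] (p : ℕ) [Fact p.Prime] (hS : IsPGroup p S)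
    (F : FusionSystem S) (hF : F.IsSaturated p) {T : Subgroup Ω} (hT : F.StronglyClosed T)
    (E : FusionSystem T) (hEF : E.IsSubsystemOf F) {P : Subgroup Ω} (hPS : P ≤ S)
    (hPT : ¬ E.IsCentric (P ⊓ T)) :
    ∃ φ ∈ F.Hom P, ∃ c ∈ T, c ∈ Subgroup.centralizer ((φ.range ⊓ T : Subgroup Ω) : Set Ω) ∧
      c ∉ φ.range := by
  have hTS : T ≤ S := hT.1
  have hSNT : S ≤ Subgroup.normalizer (T : Set Ω) := Fusion.le_normalizer_of_stronglyClosed F hT
  obtain ⟨Q, hQ⟩ : ∃ Q : Subgroup Ω, Q = P ⊓ T := ⟨_, rfl⟩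
  rw [← hQ] at hPT
  have hQT : Q ≤ T := by rw [hQ]; exact inf_le_right
  have hQP : Q ≤ P := by rw [hQ]; exact inf_le_left
  have hQS : Q ≤ S := hQT.trans hTS
  unfold FusionSystem.IsCentric at hPT
  push Not at hPT
  obtain ⟨Q', hQQ', hQ'not⟩ := hPT hQT
  have hFQQ' : F.IsConj Q Q' := by
    obtain ⟨χ, hχ, hr⟩ := hQQ'
    exact ⟨χ, hEF Q hχ, hr⟩
  obtain ⟨Q₁, hQQ₁, hfa, hrec⟩ := hF Q hQS
  have hQ'Q₁ : F.IsConj Q' Q₁ := Fusion.isConj_trans F (Fusion.isConj_symm F hFQQ') hQQ₁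
  obtain ⟨ρ, hρ, hρN, hρQ⟩ := Fusion.exists_hom_normalizerIn p hS F hfa hrec hQQ₁
  obtain ⟨ρ', hρ', hρ'N, hρ'Q⟩ := Fusion.exists_hom_normalizerIn p hS F hfa hrec hQ'Q₁
  -- P normalizes Q
  have hPN : P ≤ normalizerIn S Q := by
    intro u hu
    refine Subgroup.mem_inf.2 ⟨hPS hu, ?_⟩
    rw [hQ]
    exact Fusion.mem_normalizer_inf_of_mem (Subgroup.le_normalizer hu) (hSNT (hPS hu))
  have hφ := Fusion.restrict_mem F hρ hPN
  refine ⟨ρ.comp (Subgroup.inclusion hPN), hφ, ?_⟩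
  -- φ.range ⊓ T ≤ Q₁
  have hsub : (ρ.comp (Subgroup.inclusion hPN)).range ⊓ T ≤ Q₁ := by
    intro y hy
    obtain ⟨⟨u, hu⟩, hyT⟩ := Subgroup.mem_inf.1 hy
    -- u ∈ T via the inverse map
    obtain ⟨ψ, hψ, hψinv⟩ := F.inv_mem hφ
    have h1 := Fusion.map_mem_of_stronglyClosed F hT hψ ⟨y, ⟨u, hu⟩⟩ hyT
    have h2 : ψ ⟨y, ⟨u, hu⟩⟩ = (u : Ω) := by
      have := hψinv u
      rw [← this]
      congr 1
      exact Subtype.ext hu.symm
    rw [h2] at h1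
    have huQ : (u : Ω) ∈ Q := by rw [hQ]; exact Subgroup.mem_inf.2 ⟨u.2, h1⟩
    rw [← hρQ, ← hu]
    refine ⟨⟨(u : Ω), hPN u.2⟩, ?_, rfl⟩
    rw [SetLike.mem_coe, Subgroup.mem_subgroupOf]
    exact huQ
  -- an element of C_T(Q₁) outside Q₁
  obtain ⟨c', hc'C, hc'Q⟩ := SetLike.not_le_iff_exists.1 hQ'not
  have hc'T : c' ∈ T := (Subgroup.mem_inf.1 hc'C).1
  have hc'S : c' ∈ centralizerIn S Q' :=
    Subgroup.mem_inf.2 ⟨hTS hc'T, (Subgroup.mem_inf.1 hc'C).2⟩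
  have hc'N : c' ∈ normalizerIn S Q' := Fusion.centralizerIn_le_normalizerIn Q' hc'S
  have hc1 := Fusion.map_centralizerIn_mem F hρ' hρ'Q c' hc'S
  have hc2 : ρ' ⟨c', hc'N⟩ ∈ T := Fusion.map_mem_of_stronglyClosed F hT hρ' ⟨c', hc'N⟩ hc'T
  have hc3 : ρ' ⟨c', hc'N⟩ ∉ Q₁ := by
    intro h
    rw [← hρ'Q] at h
    obtain ⟨q, hq, hqc⟩ := h
    rw [SetLike.mem_coe, Subgroup.mem_subgroupOf] at hq
    have h3 := F.injective_of_mem hρ' hqc
    apply hc'Q
    have h4 : (q : Ω) = c' := congrArg Subtype.val h3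
    rw [← h4]
    exact hq
  refine ⟨ρ' ⟨c', hc'N⟩, hc2, ?_, ?_⟩
  · exact Subgroup.centralizer_le (by exact_mod_cast hsub) (Subgroup.mem_inf.1 hc1).2
  · intro h
    exact hc3 (hsub (Subgroup.mem_inf.2 ⟨h, hc2⟩))

theorem Fusion.isCentric_of_isConj (F : FusionSystem S) {P Q : Subgroup Ω} (hc : F.IsCentric P)
    (h : F.IsConj P Q) : F.IsCentric Q :=
  ⟨Fusion.isConj_tgt_le F h, fun R hR => hc.2 R (Fusion.isConj_trans F h hR)⟩


theorem Fusion.congr_conj {P Q : Type*} [Group P] [Group Q] (e : P ≃* Q) (u : P) :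
    MulAut.congr e (MulAut.conj u) = MulAut.conj (e u) := by
  ext y
  simp [MulAut.congr, MulAut.conj_apply]

/-- Radicality is invariant under conjugacy in the system. -/
theorem Fusion.isRadical_of_isConj [Finite S] (p : ℕ) (F : FusionSystem S) {P Q : Subgroup Ω}
    (h : F.IsConj P Q) (hr : F.IsRadical p P) : F.IsRadical p Q := by
  obtain ⟨φ, hφ, hrange⟩ := h
  have hPS := hr.1
  have hQS : Q ≤ S := hrange ▸ Fusion.range_le F hφ
  refine ⟨hQS, ?_⟩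
  have : Finite P := Fusion.finite_of_le hPS
  have : Finite Q := Fusion.finite_of_le hQS
  have : Finite (MulAut Q) := inferInstance
  obtain ⟨e, he⟩ : ∃ e : P ≃* Q, e = Fusion.equivOfRange φ (F.injective_of_mem hφ) hrange :=
    ⟨_, rfl⟩
  have hmap : (F.autGroup P).map (MulAut.congr e).toMonoidHom = F.autGroup Q := by
    apply Subgroup.eq_of_le_of_card_ge
    · rintro _ ⟨α, hα, rfl⟩
      rw [he]
      exact Fusion.congr_mem_autGroup F hφ hrange α hα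
    · rw [Subgroup.card_map_of_injective (MulAut.congr e).injective]
      exact (Fusion.card_autGroup_eq_of_isConj F ⟨φ, hφ, hrange⟩).ge
  obtain ⟨Ψ, hΨ⟩ : ∃ Ψ : F.autGroup P ≃* F.autGroup Q,
      ∀ a : F.autGroup P, ((Ψ a : F.autGroup Q) : MulAut Q) = MulAut.congr e (a : MulAut P) :=
    ⟨((MulAut.congr e).subgroupMap (F.autGroup P)).trans (MulEquiv.subgroupCongr hmap),
      fun a => rfl⟩
  have hcore := Cfsg.Agent.Helper5.map_pCore_equiv p Ψ
  ext β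
  constructor
  · rintro ⟨b, hb, rfl⟩
    rw [SetLike.mem_coe, ← hcore] at hb
    obtain ⟨a, ha, rfl⟩ := hb
    have ha' : (a : MulAut P) ∈ (pCore p (F.autGroup P)).map (F.autGroup P).subtype :=
      ⟨a, ha, rfl⟩
    rw [hr.2] at ha'
    obtain ⟨u, hu⟩ := ha'
    refine ⟨e u, ?_⟩
    show MulAut.conj (e u) = ((Ψ a : F.autGroup Q) : MulAut Q)
    rw [hΨ, ← hu, Fusion.congr_conj]
  · rintro ⟨v, rfl⟩
    have h1 : MulAut.conj (e.symm v) ∈ Inn P := ⟨e.symm v, rfl⟩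
    rw [← hr.2] at h1
    obtain ⟨a, ha, hau⟩ := h1
    refine ⟨Ψ a, ?_, ?_⟩
    · rw [SetLike.mem_coe, ← hcore]
      exact ⟨a, ha, rfl⟩
    · show ((Ψ a : F.autGroup Q) : MulAut Q) = MulAut.conj v
      have hau' : (a : MulAut P) = MulAut.conj (e.symm v) := hau
      rw [hΨ, hau', Fusion.congr_conj, MulEquiv.apply_symm_apply]

/-- **S5251.** -/
theorem Fusion.s5251 {Ω : Type*} [Group Ω] {S : Subgroup Ω} [Finite S] (p : ℕ) [Fact p.Prime]
    (hS : IsPGroup p S) (F : Cfsg.FusionSystem S) (hF : F.IsSaturated p) {T : Subgroup Ω}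
    (E : Cfsg.FusionSystem T) (hE : E.IsNormalIn F p) (P : Subgroup Ω) (hP : F.IsCentric P)
    (hPT : ¬ E.IsCentric (P ⊓ T)) :
    (∃ φ ∈ F.Hom P, ∃ x ∈ S ⊓ Subgroup.normalizer (φ.range : Set Ω), x ∉ φ.range ∧
      ∃ α ∈ ((Cfsg.pCore p ↥(F.autGroup φ.range)).map (F.autGroup φ.range).subtype :
        Subgroup (MulAut ↥φ.range)),
        ∀ y : ↥φ.range, ((α y : ↥φ.range) : Ω) = x * (y : Ω) * x⁻¹) ∧ ¬ F.IsRadical p P := by
  have hEF : E.IsSubsystemOf F := hE.1.2.2.1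
  have hT : F.StronglyClosed T := hE.1.2.2.2.1
  have hPS : P ≤ S := hP.1
  obtain ⟨φ, hφ, c, hcT, hcC, hcP⟩ :=
    Fusion.exists_conj_centralizer_not_le p hS F hF hT E hEF hPS hPT
  have hrS : φ.range ≤ S := Fusion.range_le F hφ
  obtain ⟨x, hx, hxP, α, hα, hαx⟩ :=
    Fusion.exists_pCore_conj_of_centralizer p hS F hT hrS c hcT hcC hcP
  refine ⟨⟨φ, hφ, x, hx, hxP, α, hα, hαx⟩, ?_⟩
  intro hr
  have hconj : F.IsConj P φ.range := ⟨φ, hφ, rfl⟩
  have hr' := Fusion.isRadical_of_isConj p F hconj hr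
  have hc' := Fusion.isCentric_of_isConj F hP hconj
  rw [hr'.2] at hα
  have hxN : x ∈ Subgroup.normalizer (φ.range : Set Ω) := (Subgroup.mem_inf.1 hx).2
  have hxS : x ∈ S := (Subgroup.mem_inf.1 hx).1
  have hαeq : conjAutHom φ.range ⟨x, hxN⟩ = α := by
    ext y
    rw [hαx]; rfl
  rw [← hαeq] at hα
  exact hxP (Fusion.mem_of_conjAutHom_mem_inn F hc' x hxS hxN hα)

end Cfsg.Agent.Lead
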