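import Mathlib
import Cfsg.Prelude.Def_FusionComponents
import Cfsg.Agent.Lead.FusionFactor
import Cfsg.Agent.Lead.FusionMorph3
import Cfsg.Agent.Lead.FusionCentral
import Cfsg.Agent.Lead.FusionNormal
import Cfsg.Agent.Lead.FusionSat2
import Cfsg.Agent.Lead.FusionConj
import Cfsg.Agent.Lead.FusionExt

set_option autoImplicit false

namespace Cfsg.Agent.Lead

open Cfsg Cfsg.FusionSystem

variable {Ω : Type*} [Group Ω] {S : Subgroup Ω} {Ω' : Type*} [Group Ω'] {S' : Subgroup Ω'}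

/-- A subgroup in the centre of `S` is fully normalized. -/
theorem Fusion.fullyNormalized_of_central [Finite S] (F : FusionSystem S) {A : Subgroup Ω}
    (hAS : A ≤ S) (hA : ∀ a ∈ A, ∀ s ∈ S, s * a = a * s) : F.IsFullyNormalized A := by
  refine ⟨hAS, fun Q _ => ?_⟩
  have h1 : normalizerIn S A = S := by
    unfold normalizerIn
    apply inf_eq_left.mpr
    intro s hs
    rw [Subgroup.mem_normalizer_iff]
    intro a
    constructor
    · intro ha
      have : s * a * s⁻¹ = a := by rw [hA a ha s hs]; group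
      rw [this]; exact ha
    · intro ha
      have h2 : s⁻¹ * (s * a * s⁻¹) * s = a := by group
      have h3 := hA _ ha s⁻¹ (S.inv_mem hs)
      rw [← h2, h3]
      have : s * a * s⁻¹ * s⁻¹ * s = s * a * s⁻¹ := by group
      rw [this]; exact ha
  rw [h1]
  have : normalizerIn S Q ≤ S := inf_le_left
  exact Nat.card_le_card_of_injective (Subgroup.inclusion this) (Subgroup.inclusion_injective this)

theorem Fusion.autInducedBy_eq_bot_of_central {A : Subgroup Ω}
    (hA : ∀ a ∈ A, ∀ s ∈ S, s * a = a * s) : autInducedBy S A = ⊥ := by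
  rw [eq_bot_iff, autInducedBy, Subgroup.closure_le]
  rintro α ⟨g, hg, h⟩
  rw [SetLike.mem_coe, Subgroup.mem_bot]
  ext x
  rw [h x, hA x x.2 g hg]
  simp

/-- In a saturated system, a subgroup in the centre of `S` has automizer of order prime to `p`. -/
theorem Fusion.card_autGroup_coprime_of_central [Finite S] (p : ℕ) [Fact p.Prime]
    (hS : IsPGroup p S) (F : FusionSystem S) (hF : F.IsSaturated p) {A : Subgroup Ω}
    (hAS : A ≤ S) (hA : ∀ a ∈ A, ∀ s ∈ S, s * a = a * s) :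
    (Nat.card (F.autGroup A)).Coprime p := by
  have : Finite A := Fusion.finite_of_le hAS
  have : Finite (MulAut A) := inferInstance
  obtain ⟨-, R, hR⟩ := (Fusion.fullyCentralized_fullyAutomized_of_fullyNormalized p hS F hF
    (Fusion.fullyNormalized_of_central F hAS hA)).2
  rw [Fusion.autInducedBy_eq_bot_of_central hA] at hR
  have h1 : Nat.card R = 1 := by
    have : Nat.card (R : Subgroup (F.autGroup A)) = 1 := by
      rw [hR]
      simp
    exact this
  have h2 := R.card_eq_multiplicity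
  rw [h1] at h2
  have hp : p.Prime := Fact.out
  have h3 : (Nat.card (F.autGroup A)).factorization p = 0 := by
    by_contra hne
    have : 1 < p ^ (Nat.card (F.autGroup A)).factorization p :=
      Nat.one_lt_pow hne hp.one_lt
    omega
  rw [Nat.factorization_eq_zero_iff] at h3
  rcases h3 with h3 | h3 | h3
  · exact absurd hp h3
  · exact (hp.coprime_iff_not_dvd.mpr h3).symm
  · exact absurd h3 Nat.card_pos.ne'

/-- A central subgroup of a saturated system is strongly closed. -/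
theorem Fusion.stronglyClosed_of_isCentral [Finite S] (p : ℕ) [Fact p.Prime] (hS : IsPGroup p S)
    (F : FusionSystem S) (hF : F.IsSaturated p) {T : Subgroup Ω} (hT : F.IsCentral T) :
    F.StronglyClosed T := by
  have hZ := (Fusion.isCentral_iff p hS F hF T).mp hT
  refine ⟨hZ.1, fun R hR φ hφ x => ?_⟩
  have h1 := hZ.2 x (hR x.2) _ (Fusion.isConjElt_map F hφ x)
  rw [h1]
  exact hR x.2

/-- Maps of the system fix the elements of a central subgroup. -/
theorem Fusion.map_eq_of_isCentral [Finite S] (p : ℕ) [Fact p.Prime] (hS : IsPGroup p S)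
    (F : FusionSystem S) (hF : F.IsSaturated p) {T : Subgroup Ω} (hT : F.IsCentral T)
    {P : Subgroup Ω} {φ : P →* Ω} (hφ : φ ∈ F.Hom P) (x : P) (hx : (x : Ω) ∈ T) : φ x = x :=
  ((Fusion.isCentral_iff p hS F hF T).mp hT).2 x hx _ (Fusion.isConjElt_map F hφ x)

/-- A central subgroup lies in the centre of `S`. -/
theorem Fusion.comm_of_isCentral [Finite S] (p : ℕ) [Fact p.Prime] (hS : IsPGroup p S)
    (F : FusionSystem S) (hF : F.IsSaturated p) {T : Subgroup Ω} (hT : F.IsCentral T)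
    {t : Ω} (ht : t ∈ T) {s : Ω} (hs : s ∈ S) : s * t = t * s := by
  have h1 := Fusion.map_eq_of_isCentral p hS F hF hT (F.conj_mem hT.1 hs) ⟨t, ht⟩ ht
  have h2 : s * t * s⁻¹ = t := h1
  calc s * t = s * t * s⁻¹ * s := by group
    _ = t * s := by rw [h2]

section Grun

variable [Finite S] (p : ℕ) [Fact p.Prime] (hS : IsPGroup p S) (F : FusionSystem S)
  (hF : F.IsSaturated p) {T : Subgroup Ω} (hT : F.IsCentral T) (θ : S →* Ω')
  (E : FusionSystem S') (hE : F.IsFactorSystem T θ E)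

include hS hF hT hE

/-- Maps of `F` move the elements of the second centre within their cosets of `T`. -/
theorem Fusion.grun_coset {z : Ω} (hz : z ∈ preimageAlong θ E.center) {P : Subgroup Ω}
    {φ : P →* Ω} (hφ : φ ∈ F.Hom P) (hzP : z ∈ P) : z⁻¹ * φ ⟨z, hzP⟩ ∈ T := by
  have hTsc := Fusion.stronglyClosed_of_isCentral p hS F hF hT
  have hα := Fusion.isSurjectiveMorphism_of_isFactorSystem p hS F hF T hTsc θ E hE
  have hEsat := Fusion.isSaturated_image p hS F hF E θ hα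
  have hfin' : Finite S' := Fusion.finite_of_range θ hα.2.1
  have hS' : IsPGroup p S' := by
    have hr := hα.2.1
    subst hr
    exact hS.of_surjective θ.rangeRestrict θ.rangeRestrict_surjective
  have hZE := (Fusion.isCentral_iff p hS' E hEsat E.center).mp (Fusion.center_isCentral E)
  obtain ⟨φ', hφ', hPS, hφS, hPP', hind⟩ := hα.1.2 P φ hφ
  obtain ⟨hzS, hzc⟩ := (Fusion.mem_preimageAlong θ _ z).mp hz
  have h1 := hZE.2 _ hzc _ (Fusion.isConjElt_map E hφ' ⟨θ ⟨z, hzS⟩, hPP' ⟨z, hzP⟩⟩)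
  have h2 := hind ⟨z, hzP⟩
  have h3 : θ ⟨φ ⟨z, hzP⟩, hφS _⟩ = θ ⟨z, hzS⟩ := by
    rw [← h2]; exact h1
  have h4 : θ (⟨z, hzS⟩⁻¹ * ⟨φ ⟨z, hzP⟩, hφS _⟩) = 1 := by
    rw [map_mul, map_inv, h3, inv_mul_cancel]
  exact (hE.2.1 _).mp h4

/-- The second centre centralizes the focal generators. -/
theorem Fusion.grun_commute {z : Ω} (hz : z ∈ preimageAlong θ E.center) {P : Subgroup Ω}
    {φ : P →* Ω} (hφ : φ ∈ F.Hom P) (x : P) :
    z * ((x : Ω)⁻¹ * φ x) = ((x : Ω)⁻¹ * φ x) * z := by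
  have hTsc := Fusion.stronglyClosed_of_isCentral p hS F hF hT
  have hα := Fusion.isSurjectiveMorphism_of_isFactorSystem p hS F hF T hTsc θ E hE
  have hfin' : Finite S' := Fusion.finite_of_range θ hα.2.1
  have hcen := Fusion.center_isCentral E
  obtain ⟨φ', hφ', hPS, hφS, hPP', hind⟩ := hα.1.2 P φ hφ
  obtain ⟨ψ', hψ', hψ'1, -⟩ := hcen.2 _ φ' hφ'
  obtain ⟨-, β, hβ, hRS, hβS, hRR', hindβ⟩ := (hE.2.2.2 _ ψ').mp hψ'
  obtain ⟨hzS, hzc⟩ := (Fusion.mem_preimageAlong θ _ z).mp hz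
  have hxS : (x : Ω) ∈ S := hPS x.2
  have hxR : (x : Ω) ∈ preimageAlong θ (imageAlong θ P ⊔ E.center) :=
    (Fusion.mem_preimageAlong θ _ _).mpr ⟨hxS, (le_sup_left : imageAlong θ P ≤ _) (hPP' x)⟩
  have hzR : z ∈ preimageAlong θ (imageAlong θ P ⊔ E.center) :=
    (Fusion.mem_preimageAlong θ _ _).mpr ⟨hzS, (le_sup_right : E.center ≤ _) hzc⟩
  have hTR : T ≤ preimageAlong θ (imageAlong θ P ⊔ E.center) := by
    intro t ht
    refine (Fusion.mem_preimageAlong θ _ _).mpr ⟨hT.1 ht, ?_⟩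
    rw [(hE.2.1 ⟨t, hT.1 ht⟩).mpr ht]
    exact Subgroup.one_mem _
  -- the three central correction terms
  have hd : ((φ x : Ω))⁻¹ * β ⟨x, hxR⟩ ∈ T := by
    have h1 := hindβ ⟨x, hxR⟩
    have h2 := hψ'1 ⟨θ ⟨x, hxS⟩, hPP' x⟩
    have h3 := hind x
    have h4 : θ ⟨β ⟨x, hxR⟩, hβS _⟩ = θ ⟨φ x, hφS x⟩ := by
      rw [← h1, ← h3, ← h2]
      rfl
    have h5 : θ (⟨φ x, hφS x⟩⁻¹ * ⟨β ⟨x, hxR⟩, hβS _⟩) = 1 := by
      rw [map_mul, map_inv, h4, inv_mul_cancel]
    exact (hE.2.1 _).mp h5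
  have hd' : z⁻¹ * β ⟨z, hzR⟩ ∈ T := Fusion.grun_coset p hS F hF hT θ E hE hz hβ hzR
  have hc : z⁻¹ * ((x : Ω) * z * (x : Ω)⁻¹) ∈ T :=
    Fusion.grun_coset p hS F hF hT θ E hE hz (F.conj_mem le_rfl hxS) hzS
  set d := ((φ x : Ω))⁻¹ * β ⟨x, hxR⟩ with hd_def
  set d' := z⁻¹ * β ⟨z, hzR⟩ with hd'_def
  set c := z⁻¹ * ((x : Ω) * z * (x : Ω)⁻¹) with hc_def
  have hβc : β ⟨c, hTR hc⟩ = c :=
    Fusion.map_eq_of_isCentral p hS F hF hT hβ ⟨c, hTR hc⟩ hc
  have hcomm : ∀ {t : Ω}, t ∈ T → ∀ {s : Ω}, s ∈ S → s * t = t * s :=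
    fun ht _ hs => Fusion.comm_of_isCentral p hS F hF hT ht hs
  have hbx : β ⟨x, hxR⟩ = φ x * d := by rw [hd_def]; group
  have hbz : β ⟨z, hzR⟩ = z * d' := by rw [hd'_def]; group
  have hxz : (x : Ω) * z * (x : Ω)⁻¹ = z * c := by rw [hc_def]; group
  have h1 : β ⟨x, hxR⟩ * β ⟨z, hzR⟩ * (β ⟨x, hxR⟩)⁻¹ = β ⟨z, hzR⟩ * c := by
    have e1 : (⟨x, hxR⟩ : ↥(preimageAlong θ (imageAlong θ P ⊔ E.center))) * ⟨z, hzR⟩ *
        (⟨x, hxR⟩ : ↥(preimageAlong θ (imageAlong θ P ⊔ E.center)))⁻¹ = ⟨z, hzR⟩ * ⟨c, hTR hc⟩ :=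
      Subtype.ext hxz
    have e2 := congrArg β e1
    rw [map_mul, map_mul, map_inv, map_mul, hβc] at e2
    exact e2
  have hφxS : (φ x : Ω) ∈ S := hφS x
  -- simplify the left side
  have h2 : β ⟨x, hxR⟩ * β ⟨z, hzR⟩ * (β ⟨x, hxR⟩)⁻¹ = φ x * z * (φ x)⁻¹ * d' := by
    rw [hbx, hbz]
    have e1 : d * (z * d') = (z * d') * d :=
      (hcomm hd (S.mul_mem hzS (hT.1 hd'))).symm
    have e2 : d' * (φ x)⁻¹ = (φ x)⁻¹ * d' := (hcomm hd' (S.inv_mem hφxS)).symm
    calc φ x * d * (z * d') * (φ x * d)⁻¹ = φ x * (d * (z * d')) * d⁻¹ * (φ x)⁻¹ := by group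
      _ = φ x * ((z * d') * d) * d⁻¹ * (φ x)⁻¹ := by rw [e1]
      _ = φ x * z * (d' * (φ x)⁻¹) := by group
      _ = φ x * z * ((φ x)⁻¹ * d') := by rw [e2]
      _ = φ x * z * (φ x)⁻¹ * d' := by group
  have h3 : β ⟨z, hzR⟩ * c = z * c * d' := by
    rw [hbz]
    have e1 : d' * c = c * d' := hcomm hc (hT.1 hd')
    calc z * d' * c = z * (d' * c) := by group
      _ = z * (c * d') := by rw [e1]
      _ = z * c * d' := by group
  have h4 : φ x * z * (φ x)⁻¹ = z * c := by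
    have : φ x * z * (φ x)⁻¹ * d' = z * c * d' := by rw [← h2, h1, h3]
    exact mul_right_cancel this
  have h5 : φ x * z * (φ x)⁻¹ = (x : Ω) * z * (x : Ω)⁻¹ := by rw [h4, hxz]
  calc z * ((x : Ω)⁻¹ * φ x) = (x : Ω)⁻¹ * ((x : Ω) * z * (x : Ω)⁻¹) * φ x := by group
    _ = (x : Ω)⁻¹ * (φ x * z * (φ x)⁻¹) * φ x := by rw [h5]
    _ = ((x : Ω)⁻¹ * φ x) * z := by group

/-- With `hyp(F) = S`, the second centre lies in the centre of `S`. -/
theorem Fusion.grun_central_in_S (hperf : F.hyperfocalSubgroup p = S) {z : Ω}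
    (hz : z ∈ preimageAlong θ E.center) {s : Ω} (hs : s ∈ S) : s * z = z * s := by
  have hle : F.hyperfocalSubgroup p ≤ Subgroup.centralizer {z} := by
    unfold FusionSystem.hyperfocalSubgroup
    rw [Subgroup.closure_le]
    rintro y ⟨P, α, x, hPS, -, rfl⟩
    have hα := (Fusion.mem_autGroup_iff F hPS α.1).mp α.2
    have h1 := Fusion.grun_commute p hS F hF hT θ E hE hz hα x
    rw [SetLike.mem_coe, Subgroup.mem_centralizer_iff]
    intro h hh
    rw [Set.mem_singleton_iff] at hh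
    subst hh
    exact h1
  rw [hperf] at hle
  have h2 := hle hs
  rw [Subgroup.mem_centralizer_iff] at h2
  exact (h2 z rfl).symm

omit hS hF hT hE in
theorem Fusion.range_eq_of_le' {A : Subgroup Ω} [Finite A] {ψ : A →* Ω}
    (hinj : Function.Injective ψ) (h : ψ.range ≤ A) : ψ.range = A := by
  apply Subgroup.eq_of_le_of_card_ge h
  exact (Nat.card_congr (MonoidHom.ofInjective hinj).toEquiv).le

/-- A map of the system on a subgroup `A` between `T` and the second centre, with `A` central in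
`S`, is the identity. -/
theorem Fusion.grun_aut_trivial {A : Subgroup Ω} (hAZ : A ≤ preimageAlong θ E.center)
    (hcentS : ∀ a ∈ A, ∀ s ∈ S, s * a = a * s) {ψ : A →* Ω} (hψ : ψ ∈ F.Hom A)
    (hψT : ∀ a : A, (a : Ω) ∈ T → ψ a = a) (hTA : T ≤ A) (a : A) : ψ a = a := by
  have hp : p.Prime := Fact.out
  have hAS : A ≤ S := Fusion.src_le F hψ
  have : Finite A := Fusion.finite_of_le hAS
  have hcos : ∀ a : A, (a : Ω)⁻¹ * ψ a ∈ T := fun a =>
    Fusion.grun_coset p hS F hF hT θ E hE (hAZ a.2) hψ a.2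
  have hr : ψ.range = A := by
    apply Fusion.range_eq_of_le' (F.injective_of_mem hψ)
    rintro _ ⟨a, rfl⟩
    have : ψ a = (a : Ω) * ((a : Ω)⁻¹ * ψ a) := by group
    rw [this]
    exact A.mul_mem a.2 (hTA (hcos a))
  obtain ⟨α, hα, hαψ⟩ := Fusion.exists_aut_of_range_eq F hψ hr
  -- powers of α
  have hpow : ∀ (k : ℕ) (a : A), (((α ^ k) a : A) : Ω) = (a : Ω) * ((a : Ω)⁻¹ * ψ a) ^ k := by
    intro k
    induction k with
    | zero => intro a; simp
    | succ k ih =>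
      intro a
      rw [pow_succ', MulAut.mul_apply, hαψ]
      set d : Ω := (a : Ω)⁻¹ * ψ a with hd
      have hdT : d ∈ T := hcos a
      have e1 : (α ^ k) a = a * ⟨d ^ k, hTA (T.pow_mem hdT k)⟩ := Subtype.ext (ih a)
      rw [e1, map_mul]
      have e2 : ψ ⟨d ^ k, hTA (T.pow_mem hdT k)⟩ = d ^ k := hψT _ (T.pow_mem hdT k)
      rw [e2, pow_succ']
      have : ψ a = (a : Ω) * d := by rw [hd]; group
      rw [this]
      group
  have hαk : α ^ (Nat.card S) = 1 := by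
    ext a
    rw [hpow, MulAut.one_apply]
    have h1 : ((a : Ω)⁻¹ * ψ a) ^ Nat.card S = 1 := by
      have hmem : (a : Ω)⁻¹ * ψ a ∈ S := hT.1 (hcos a)
      have := pow_card_eq_one' (G := S) (x := ⟨_, hmem⟩)
      exact congrArg Subtype.val this
    rw [h1, mul_one]
  have hcop := Fusion.card_autGroup_coprime_of_central p hS F hF hAS hcentS
  have h2 : (⟨α, hα⟩ : F.autGroup A) ^ Nat.card (F.autGroup A) = 1 := pow_card_eq_one'
  have h3 : α ^ Nat.card (F.autGroup A) = 1 := congrArg Subtype.val h2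
  obtain ⟨n, hn⟩ := IsPGroup.iff_card.mp hS
  have hcop' : (Nat.card S).Coprime (Nat.card (F.autGroup A)) := by
    rw [hn]
    exact (Nat.Coprime.pow_right n hcop).symm
  have h4 : α = 1 := by
    have := pow_gcd_eq_one.mpr ⟨hαk, h3⟩
    rwa [hcop', pow_one] at this
  have h5 := hαψ a
  rw [h4, MulAut.one_apply] at h5
  exact h5.symm

/-- With `hyp(F) = S`, the second centre is central in `F`. -/
theorem Fusion.grun_isCentral (hperf : F.hyperfocalSubgroup p = S) :
    F.IsCentral (preimageAlong θ E.center) := by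
  rw [Fusion.isCentral_iff p hS F hF]
  refine ⟨Fusion.preimageAlong_le θ _, ?_⟩
  rintro x hx y ⟨φ, hφ, rfl⟩
  obtain ⟨ψ, hψ, hψ1, hψ2⟩ := hT.2 _ φ hφ
  have hTle : T ≤ preimageAlong θ E.center := by
    intro t ht
    refine (Fusion.mem_preimageAlong θ _ _).mpr ⟨hT.1 ht, ?_⟩
    rw [(hE.2.1 ⟨t, hT.1 ht⟩).mpr ht]
    exact Subgroup.one_mem _
  have hAZ : Subgroup.zpowers x ⊔ T ≤ preimageAlong θ E.center :=
    sup_le (by rw [Subgroup.zpowers_le]; exact hx) hTle
  have h1 := Fusion.grun_aut_trivial p hS F hF hT θ E hE hAZ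
    (fun a ha s hs => Fusion.grun_central_in_S p hS F hF hT θ E hE hperf (hAZ ha) hs) hψ
    (fun a ha => by
      have := hψ2 ⟨a, ha⟩
      convert this using 2
      exact Subtype.ext rfl)
    le_sup_right (Subgroup.inclusion le_sup_left ⟨x, Subgroup.mem_zpowers x⟩)
  rw [hψ1] at h1
  exact h1

end Grun

/-- Grün's lemma for fusion systems. -/
theorem Fusion.grun [Finite S] (p : ℕ) [Fact p.Prime] (hS : IsPGroup p S) (F : FusionSystem S)
    (hF : F.IsSaturated p) (hperf : F.hyperfocalSubgroup p = S) (θ : S →* Ω')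
    (E : FusionSystem S') (hE : F.IsFactorSystem F.center θ E) : E.center = ⊥ := by
  have hT := Fusion.center_isCentral F
  have h1 := Fusion.grun_isCentral p hS F hF hT θ E hE hperf
  have h2 : preimageAlong θ E.center ≤ F.center := le_sSup h1
  have hfin' : Finite S' := Fusion.finite_of_range θ hE.2.2.1
  have hcS' : E.center ≤ S' := (Fusion.center_isCentral E).1
  rw [eq_bot_iff]
  intro x' hx'
  have hx'r : x' ∈ θ.range := hE.2.2.1 ▸ hcS' hx'
  obtain ⟨s, rfl⟩ := hx'r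
  have h3 : (s : Ω) ∈ preimageAlong θ E.center :=
    (Fusion.mem_preimageAlong θ _ _).mpr ⟨s.2, hx'⟩
  rw [Subgroup.mem_bot]
  exact (hE.2.1 s).mpr (h2 h3)

end Cfsg.Agent.Lead
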