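import Mathlib

set_option autoImplicit false

namespace Cfsg.Agent.Lead

/-- Trace argument: for an action of a finite group `Γ` on a finite abelian group `V` and a subgroup
`P` of index prime to `|V|`, the fixed points of `Γ` are a direct factor of the fixed points of `P`. -/
theorem exists_complement_fixedPoints {Γ V : Type*} [Group Γ] [Finite Γ] [CommGroup V] [Finite V]
    (ρ : Γ →* MulAut V) (P : Subgroup Γ) (hcop : (Nat.card V).Coprime P.index)
    (VP VΓ : Subgroup V) (hVP : ∀ v, v ∈ VP ↔ ∀ g ∈ P, ρ g v = v)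
    (hVΓ : ∀ v, v ∈ VΓ ↔ ∀ g, ρ g v = v) :
    ∃ K : Subgroup V, K ≤ VP ∧ VΓ ⊓ K = ⊥ ∧ VΓ ⊔ K = VP := by
  classical
  haveI : Fintype (Γ ⧸ P) := Fintype.ofFinite _
  have hΓP : VΓ ≤ VP := fun v hv => (hVP v).mpr (fun g _ => (hVΓ v).mp hv g)
  -- the coset function
  have hwd : ∀ (v : VP) (a b : Γ), a⁻¹ * b ∈ P → ρ a (v : V) = ρ b (v : V) := by
    intro v a b hab
    have h1 := (hVP v).mp v.2 _ hab
    have h2 : ρ b (v : V) = ρ a (ρ (a⁻¹ * b) (v : V)) := by
      rw [← MulAut.mul_apply, ← map_mul]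
      congr 2
      group
    rw [h2, h1]
  let f : VP → Γ ⧸ P → V := fun v q =>
    Quotient.liftOn' q (fun g => ρ g (v : V))
      (fun a b hab => hwd v a b (QuotientGroup.leftRel_apply.mp hab))
  have hf_mk : ∀ (v : VP) (g : Γ), f v (QuotientGroup.mk g) = ρ g (v : V) := fun v g => rfl
  have hf_smul : ∀ (v : VP) (h : Γ) (q : Γ ⧸ P), f v (h • q) = ρ h (f v q) := by
    intro v h q
    induction q using Quotient.inductionOn' with
    | h g =>
      change f v (h • (QuotientGroup.mk g : Γ ⧸ P)) = ρ h (f v (QuotientGroup.mk g))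
      rw [MulAction.Quotient.smul_mk, hf_mk, hf_mk, smul_eq_mul, map_mul, MulAut.mul_apply]
  let Tr : VP →* V :=
    { toFun := fun v => ∏ q : Γ ⧸ P, f v q
      map_one' := by
        apply Finset.prod_eq_one
        intro q _
        induction q using Quotient.inductionOn' with
        | h g =>
          change f 1 (QuotientGroup.mk g) = 1
          rw [hf_mk]
          simp
      map_mul' := by
        intro v w
        rw [← Finset.prod_mul_distrib]
        apply Finset.prod_congr rfl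
        intro q _
        induction q using Quotient.inductionOn' with
        | h g =>
          change f (v * w) (QuotientGroup.mk g) = f v (QuotientGroup.mk g) * f w (QuotientGroup.mk g)
          rw [hf_mk, hf_mk, hf_mk, Subgroup.coe_mul, map_mul] }
  have hTr_def : ∀ v : VP, Tr v = ∏ q : Γ ⧸ P, f v q := fun v => rfl
  have hTr_fix : ∀ (v : VP), Tr v ∈ VΓ := by
    intro v
    rw [hVΓ]
    intro h
    rw [hTr_def, map_prod]
    calc ∏ q : Γ ⧸ P, ρ h (f v q) = ∏ q : Γ ⧸ P, f v (h • q) :=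
          Finset.prod_congr rfl (fun q _ => (hf_smul v h q).symm)
      _ = ∏ q : Γ ⧸ P, f v q := Equiv.prod_comp (MulAction.toPerm h) (f v)
  set m : ℕ := Fintype.card (Γ ⧸ P) with hm
  have hmidx : m = P.index := by
    rw [hm, Subgroup.index, Nat.card_eq_fintype_card]
  have hTr_pow : ∀ v : VP, (v : V) ∈ VΓ → Tr v = (v : V) ^ m := by
    intro v hv
    rw [hTr_def]
    have : ∀ q : Γ ⧸ P, f v q = (v : V) := by
      intro q
      induction q using Quotient.inductionOn' with
      | h g =>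
        change f v (QuotientGroup.mk g) = (v : V)
        rw [hf_mk]
        exact (hVΓ _).mp hv g
    rw [Finset.prod_congr rfl (fun q _ => this q), Finset.prod_const, Finset.card_univ]
  have hcop' : (Nat.card V).Coprime m := by rw [hmidx]; exact hcop
  have hpow_inj : ∀ v : V, v ^ m = 1 → v = 1 := by
    intro v hv
    have h1 : orderOf v ∣ m := orderOf_dvd_of_pow_eq_one hv
    have h2 : orderOf v ∣ Nat.card V := orderOf_dvd_natCard v
    have h3 : orderOf v = 1 := Nat.eq_one_of_dvd_coprimes hcop' h2 h1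
    exact orderOf_eq_one_iff.mp h3
  refine ⟨Tr.ker.map VP.subtype, ?_, ?_, ?_⟩
  · rintro _ ⟨v, -, rfl⟩
    exact v.2
  · rw [eq_bot_iff]
    rintro x ⟨hx1, v, hv, rfl⟩
    rw [Subgroup.mem_bot]
    have h1 : Tr v = 1 := hv
    rw [hTr_pow v hx1] at h1
    exact hpow_inj _ h1
  · apply le_antisymm
    · apply sup_le hΓP
      rintro _ ⟨v, -, rfl⟩
      exact v.2
    · intro v hv
      have ht := hTr_fix ⟨v, hv⟩
      have hcopΓ : (Nat.card VΓ).Coprime m :=
        Nat.Coprime.coprime_dvd_left (Subgroup.card_subgroup_dvd_card VΓ) hcop'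
      set w : VΓ := (powCoprime hcopΓ).symm ⟨Tr ⟨v, hv⟩, ht⟩ with hw
      have hwm : w ^ m = ⟨Tr ⟨v, hv⟩, ht⟩ := by
        have := (powCoprime hcopΓ).apply_symm_apply ⟨Tr ⟨v, hv⟩, ht⟩
        rwa [powCoprime_apply] at this
      have hwm' : (w : V) ^ m = Tr ⟨v, hv⟩ := by
        have := congrArg Subtype.val hwm
        simpa using this
      have hwP : (w : V) ∈ VP := hΓP w.2
      have h1 : v = (w : V) * ((w : V)⁻¹ * v) := by group
      rw [h1]
      apply Subgroup.mul_mem_sup w.2
      refine ⟨⟨(w : V), hwP⟩⁻¹ * ⟨v, hv⟩, ?_, rfl⟩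
      show Tr (⟨(w : V), hwP⟩⁻¹ * ⟨v, hv⟩) = 1
      rw [map_mul, map_inv, hTr_pow ⟨(w : V), hwP⟩ w.2]
      show ((w : V) ^ m)⁻¹ * Tr ⟨v, hv⟩ = 1
      rw [hwm', inv_mul_cancel]

end Cfsg.Agent.Lead
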