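import Mathlib
import Cfsg.Prelude.Def_FusionSystem
import Cfsg.Agent.Lead.TraceComplement
import Cfsg.Agent.Lead.FusionGrun
import Cfsg.Agent.Lead.FusionWeak
import Cfsg.Agent.Lead.FusionNormalCrit
import Cfsg.Agent.Lead.FusionStab
import Cfsg.Agent.Lead.FusionExt
import Cfsg.Agent.Lead.ConjAutDef

set_option autoImplicit false

namespace Cfsg.Agent.Lead

open Cfsg Cfsg.FusionSystem
open scoped IsMulCommutative

/-- The action of automorphisms on the centre. -/
def centerAutHom (Q : Type*) [Group Q] : MulAut Q →* MulAut (Subgroup.center Q) where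
  toFun α := Subgroup.centerCongr α
  map_one' := by
    ext x
    rfl
  map_mul' := by
    intro α β
    ext x
    rfl

theorem centerAutHom_apply (Q : Type*) [Group Q] (α : MulAut Q) (x : Subgroup.center Q) :
    ((centerAutHom Q α x : Subgroup.center Q) : Q) = α x := rfl

variable {Ω : Type*} [Group Ω] {S : Subgroup Ω}

theorem Fusion.fullyNormalized_of_weaklyClosed [Finite S] (F : FusionSystem S) {Q : Subgroup Ω}
    (hQ : F.WeaklyClosed Q) : F.IsFullyNormalized Q := by
  refine ⟨hQ.1, ?_⟩
  rintro Q' ⟨φ, hφ, hr⟩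
  rw [← hr, hQ.2 φ hφ]

/-- If `Z(S) ≤ O_p(F)` then `Z(F)` is a direct factor of `Z(S)`. -/
theorem Fusion.center_direct_factor [Finite S] (p : ℕ) [Fact p.Prime] (hS : IsPGroup p S)
    (F : FusionSystem S) (hF : F.IsSaturated p)
    (hZ : (S ⊓ Subgroup.centralizer (S : Set Ω)) ≤ F.core) :
    ∃ K : Subgroup Ω, K ≤ (S ⊓ Subgroup.centralizer (S : Set Ω)) ∧ F.center ⊓ K = ⊥ ∧
      F.center ⊔ K = (S ⊓ Subgroup.centralizer (S : Set Ω)) := by
  have hp : p.Prime := Fact.out
  have hQn : F.IsNormal F.core := Fusion.core_isNormal F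
  have hQS : F.core ≤ S := hQn.1
  have hQsc := Fusion.stronglyClosed_of_isNormal F hQn
  have hQfn := Fusion.fullyNormalized_of_weaklyClosed F (Fusion.weaklyClosed_of_stronglyClosed F hQsc)
  obtain ⟨-, R, hR⟩ := (Fusion.fullyCentralized_fullyAutomized_of_fullyNormalized p hS F hF hQfn).2
  have hSnorm := Fusion.le_normalizer_of_stronglyClosed F hQsc
  have hcenC := Fusion.center_isCentral F
  have : Finite F.core := Fusion.finite_of_le hQS
  have : Finite (MulAut F.core) := inferInstance
  set ρ : F.autGroup F.core →* MulAut (Subgroup.center F.core) :=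
    (centerAutHom F.core).comp (F.autGroup F.core).subtype with hρ
  have hρ_apply : ∀ (g : F.autGroup F.core) (v : Subgroup.center F.core),
      (((ρ g v : Subgroup.center F.core) : F.core) : Ω) = ((g : MulAut F.core) (v : F.core) : F.core) :=
    fun g v => rfl
  set ι : Subgroup.center F.core →* Ω := F.core.subtype.comp (Subgroup.center F.core).subtype with hι
  have hι_inj : Function.Injective ι := by
    intro a b hab
    exact Subtype.ext (Subtype.ext hab)
  have hι_apply : ∀ v : Subgroup.center F.core, ι v = ((v : F.core) : Ω) := fun v => rfl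
  have hVp : IsPGroup p (Subgroup.center F.core) := (hS.to_le hQS).to_subgroup _
  have hcop : (Nat.card (Subgroup.center F.core)).Coprime (R : Subgroup (F.autGroup F.core)).index := by
    obtain ⟨k, hk⟩ := hVp.exists_card_eq
    rw [hk]
    exact Nat.Coprime.pow_left k ((Nat.Prime.coprime_iff_not_dvd hp).mpr R.not_dvd_index)
  -- centre of S lies in centre of the core
  have hZS_mem : ∀ x ∈ S ⊓ Subgroup.centralizer (S : Set Ω), ∃ v : Subgroup.center F.core, ι v = x := by
    intro x hx
    have hxQ : x ∈ F.core := hZ hx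
    refine ⟨⟨⟨x, hxQ⟩, ?_⟩, rfl⟩
    rw [Subgroup.mem_center_iff]
    intro g
    apply Subtype.ext
    have := (Subgroup.mem_centralizer_iff.mp hx.2) g (hQS g.2)
    exact this
  have hVP : ∀ v, v ∈ (S ⊓ Subgroup.centralizer (S : Set Ω)).comap ι ↔
      ∀ g ∈ (R : Subgroup (F.autGroup F.core)), ρ g v = v := by
    intro v
    rw [Subgroup.mem_comap]
    constructor
    · intro hv g hg
      rw [hR, Subgroup.mem_subgroupOf, mem_autInducedBy_iff] at hg
      obtain ⟨s, hs, hgs⟩ := hg
      apply Subtype.ext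
      apply Subtype.ext
      rw [hρ_apply, hgs]
      have := (Subgroup.mem_centralizer_iff.mp hv.2) s hs
      rw [hι_apply] at this
      rw [this]
      group
    · intro hv
      refine ⟨hQS (v : F.core).2, Subgroup.mem_centralizer_iff.mpr ?_⟩
      intro s hs
      have hg1 : conjAutHom F.core ⟨s, hSnorm hs⟩ ∈ autInducedBy S F.core :=
        Fusion.conjAutHom_mem_autInducedBy F.core ⟨s, hSnorm hs⟩ hs
      have hg2 : conjAutHom F.core ⟨s, hSnorm hs⟩ ∈ F.autGroup F.core :=
        Fusion.autInducedBy_le_autGroup F hQS hg1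
      have hg3 : (⟨_, hg2⟩ : F.autGroup F.core) ∈ (R : Subgroup (F.autGroup F.core)) := by
        rw [hR, Subgroup.mem_subgroupOf]
        exact hg1
      have h1 := hv _ hg3
      have h2 : (((ρ ⟨_, hg2⟩ v : Subgroup.center F.core) : F.core) : Ω) = ((v : F.core) : Ω) := by
        rw [h1]
      rw [hρ_apply] at h2
      have h3 : s * ((v : F.core) : Ω) * s⁻¹ = ((v : F.core) : Ω) := h2
      rw [hι_apply]
      calc s * ((v : F.core) : Ω) = s * ((v : F.core) : Ω) * s⁻¹ * s := by group
        _ = ((v : F.core) : Ω) * s := by rw [h3]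
  have hVΓ : ∀ v, v ∈ F.center.comap ι ↔ ∀ g, ρ g v = v := by
    intro v
    rw [Subgroup.mem_comap]
    constructor
    · intro hv g
      apply Subtype.ext
      apply Subtype.ext
      rw [hρ_apply]
      have hg := (Fusion.mem_autGroup_iff F hQS g.1).mp g.2
      exact Fusion.map_eq_of_isCentral p hS F hF hcenC hg (v : F.core) hv
    · intro hv
      -- the fixed points form a central subgroup
      have hclaim : ∀ w : Subgroup.center F.core, (∀ g, ρ g w = w) →
          ∀ y : Ω, F.IsConjElt (ι w) y → y = ι w := by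
        rintro w hw y ⟨φ, hφ, rfl⟩
        have hle : Subgroup.zpowers (ι w) ≤ F.core := by
          rw [Subgroup.zpowers_le]; exact (w : F.core).2
        obtain ⟨α, hα, hαφ⟩ := Fusion.exists_aut_extension_of_isNormal F hQn _ hle φ hφ
        have h1 := hαφ ⟨ι w, Subgroup.mem_zpowers _⟩
        rw [← h1]
        have h2 := hw ⟨α, hα⟩
        have h3 : (((ρ ⟨α, hα⟩ w : Subgroup.center F.core) : F.core) : Ω) = ((w : F.core) : Ω) := by
          rw [h2]
        rw [hρ_apply] at h3
        exact h3
      have hcentral : F.IsCentral (Subgroup.zpowers (ι v)) := by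
        rw [Fusion.isCentral_iff p hS F hF]
        refine ⟨by rw [Subgroup.zpowers_le]; exact hQS (v : F.core).2, ?_⟩
        rintro x ⟨k, rfl⟩ y hy
        have hk : ∀ g, ρ g (v ^ k) = v ^ k := by
          intro g
          rw [map_zpow, hv g]
        have := hclaim (v ^ k) hk y
        rw [map_zpow] at this
        exact this hy
      have : Subgroup.zpowers (ι v) ≤ F.center := le_sSup hcentral
      exact this (Subgroup.mem_zpowers _)
  obtain ⟨K, hK1, hK2, hK3⟩ := exists_complement_fixedPoints ρ (R : Subgroup (F.autGroup F.core))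
    hcop _ _ hVP hVΓ
  have hcenZ : F.center ≤ S ⊓ Subgroup.centralizer (S : Set Ω) := by
    intro x hx
    refine ⟨hcenC.1 hx, Subgroup.mem_centralizer_iff.mpr ?_⟩
    intro s hs
    exact Fusion.comm_of_isCentral p hS F hF hcenC hx hs
  have hKZ : K.map ι ≤ S ⊓ Subgroup.centralizer (S : Set Ω) := by
    rintro _ ⟨k, hk, rfl⟩
    exact hK1 hk
  refine ⟨K.map ι, hKZ, ?_, ?_⟩
  · rw [eq_bot_iff]
    rintro x ⟨hx1, k, hk, rfl⟩
    have h1 : k ∈ F.center.comap ι ⊓ K := ⟨hx1, hk⟩
    rw [hK2, Subgroup.mem_bot] at h1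
    rw [h1, map_one]
    exact Subgroup.one_mem _
  · apply le_antisymm (sup_le hcenZ hKZ)
    intro x hx
    obtain ⟨v, rfl⟩ := hZS_mem x hx
    have h1 : v ∈ (S ⊓ Subgroup.centralizer (S : Set Ω)).comap ι := hx
    rw [← hK3, Subgroup.mem_sup] at h1
    obtain ⟨a, ha, b, hb, rfl⟩ := h1
    rw [map_mul]
    exact Subgroup.mul_mem_sup ha ⟨b, hb, rfl⟩
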