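import Mathlib
import Cfsg.Prelude.Def_FusionSystem
import Cfsg.Agent.Lead.FusionExtT

set_option autoImplicit false

namespace Cfsg.Agent.Lead

open Cfsg Cfsg.FusionSystem
open scoped Pointwise

variable {Ω : Type*} [Group Ω] {S : Subgroup Ω}

/-- The product of two strongly closed subgroups is strongly closed. -/
theorem Fusion.sup_stronglyClosed [Finite S] (p : ℕ) [Fact p.Prime] (hS : IsPGroup p S)
    (F : FusionSystem S) (hF : F.IsSaturated p) (T₁ T₂ : Subgroup Ω) (h₁ : F.StronglyClosed T₁)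
    (h₂ : F.StronglyClosed T₂) : F.StronglyClosed (T₁ ⊔ T₂) := by
  refine ⟨sup_le h₁.1 h₂.1, fun R hR φ hφ x => ?_⟩
  obtain ⟨φh, hφh, hφx⟩ := Fusion.extT_all p hS F hF h₁ hφ
  have hn₂ := Fusion.le_normalizer_of_stronglyClosed F h₂
  have hmul := Subgroup.coe_mul_of_left_le_normalizer_right T₁ T₂ (h₁.1.trans hn₂)
  have hx : (x : Ω) ∈ ((T₁ ⊔ T₂ : Subgroup Ω) : Set Ω) := hR x.2
  rw [hmul] at hx
  obtain ⟨t₁, ht₁, t₂, ht₂, hxt⟩ := hx
  have hRle : R ≤ R ⊔ T₁ := le_sup_left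
  have hTle : T₁ ≤ R ⊔ T₁ := le_sup_right
  have ht₂' : t₂ ∈ R ⊔ T₁ := by
    have : t₂ = t₁⁻¹ * (x : Ω) := by rw [← hxt]; group
    rw [this]
    exact Subgroup.mul_mem _ (Subgroup.inv_mem _ (hTle ht₁)) (hRle x.2)
  have h3 : Subgroup.inclusion le_sup_left x = (⟨t₁, hTle ht₁⟩ : ↥(R ⊔ T₁)) * ⟨t₂, ht₂'⟩ :=
    Subtype.ext hxt.symm
  have h4 : φh (Subgroup.inclusion le_sup_left x) ∈ T₁ ⊔ T₂ := by
    rw [h3, map_mul]
    exact Subgroup.mul_mem _
      ((le_sup_left : T₁ ≤ T₁ ⊔ T₂) (Fusion.map_mem_of_stronglyClosed F h₁ hφh _ ht₁))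
      ((le_sup_right : T₂ ≤ T₁ ⊔ T₂) (Fusion.map_mem_of_stronglyClosed F h₂ hφh _ ht₂))
  have h5 : φ x = φh (Subgroup.inclusion le_sup_left x) *
      ((φ x)⁻¹ * φh (Subgroup.inclusion le_sup_left x))⁻¹ := by group
  rw [h5]
  exact Subgroup.mul_mem _ h4 (Subgroup.inv_mem _ ((le_sup_left : T₁ ≤ T₁ ⊔ T₂) (hφx x)))

/-- `T · C_S(T)` is strongly closed when `T` is. -/
theorem Fusion.sup_centralizerIn_stronglyClosed [Finite S] (p : ℕ) [Fact p.Prime]
    (hS : IsPGroup p S) (F : FusionSystem S) (hF : F.IsSaturated p) (T : Subgroup Ω)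
    (hT : F.StronglyClosed T) : F.StronglyClosed (T ⊔ centralizerIn S T) := by
  have hCS : centralizerIn S T ≤ S := inf_le_left
  refine ⟨sup_le hT.1 hCS, fun R hR φ hφ x => ?_⟩
  obtain ⟨φh, hφh, hφx⟩ := Fusion.extT_all p hS F hF hT hφ
  have hn := Fusion.le_normalizer_of_stronglyClosed F hT
  have hmul := Subgroup.coe_mul_of_right_le_normalizer_left T (centralizerIn S T) (hCS.trans hn)
  have hx : (x : Ω) ∈ ((T ⊔ centralizerIn S T : Subgroup Ω) : Set Ω) := hR x.2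
  rw [hmul] at hx
  obtain ⟨t, ht, c, hc, hxt⟩ := hx
  have hRle : R ≤ R ⊔ T := le_sup_left
  have hTle : T ≤ R ⊔ T := le_sup_right
  have hc' : c ∈ R ⊔ T := by
    have : c = t⁻¹ * (x : Ω) := by rw [← hxt]; group
    rw [this]
    exact Subgroup.mul_mem _ (Subgroup.inv_mem _ (hTle ht)) (hRle x.2)
  have h3 : Subgroup.inclusion le_sup_left x = (⟨t, hTle ht⟩ : ↥(R ⊔ T)) * ⟨c, hc'⟩ :=
    Subtype.ext hxt.symm
  have hcC : φh ⟨c, hc'⟩ ∈ centralizerIn S T := by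
    refine Subgroup.mem_inf.mpr ⟨Fusion.map_mem F hφh _, ?_⟩
    rw [Subgroup.mem_centralizer_iff]
    intro t' ht'
    obtain ⟨t'', ht'', htt⟩ := Fusion.exists_preimage_of_stronglyClosed F hT hTle hφh t' ht'
    rw [← htt, ← map_mul, ← map_mul]
    congr 1
    apply Subtype.ext
    have := (Subgroup.mem_inf.mp hc).2
    rw [Subgroup.mem_centralizer_iff] at this
    exact this t'' ht''
  have h4 : φh (Subgroup.inclusion le_sup_left x) ∈ T ⊔ centralizerIn S T := by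
    rw [h3, map_mul]
    exact Subgroup.mul_mem _
      ((le_sup_left : T ≤ T ⊔ centralizerIn S T) (Fusion.map_mem_of_stronglyClosed F hT hφh _ ht))
      ((le_sup_right : centralizerIn S T ≤ T ⊔ centralizerIn S T) hcC)
  have h5 : φ x = φh (Subgroup.inclusion le_sup_left x) *
      ((φ x)⁻¹ * φh (Subgroup.inclusion le_sup_left x))⁻¹ := by group
  rw [h5]
  exact Subgroup.mul_mem _ h4 (Subgroup.inv_mem _
    ((le_sup_left : T ≤ T ⊔ centralizerIn S T) (hφx x)))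

end Cfsg.Agent.Lead
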