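import Mathlib
import Cfsg.Prelude.Def_FusionSystem
import Cfsg.Agent.Lead.FusionNormModel
import Cfsg.Agent.Lead.FusionSat3

set_option autoImplicit false

/-!
If `G` realizes `F` through `ι`, then `N_G(ι Q)` realizes the normalizer system `N_F(Q)`.
-/

namespace Cfsg.Agent.Lead
namespace LocMod

open Cfsg Cfsg.FusionSystem

variable {Ω : Type*} [Group Ω] {S : Subgroup Ω} {G : Type*} [Group G]

theorem map_mem_normalizer (ι : S →* G) (Q : Subgroup Ω) (x : ↥(normalizerIn S Q)) :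
    ι ⟨x, x.2.1⟩ ∈ Subgroup.normalizer (((Q.subgroupOf S).map ι : Subgroup G) : Set G) := by
  have hxN : (x : Ω) ∈ Subgroup.normalizer (Q : Set Ω) := x.2.2
  rw [Subgroup.mem_normalizer_iff]
  intro h
  constructor
  · rintro ⟨q, hq, rfl⟩
    rw [SetLike.mem_coe, Subgroup.mem_subgroupOf] at hq
    refine ⟨⟨x, x.2.1⟩ * q * ⟨x, x.2.1⟩⁻¹, ?_, by rw [map_mul, map_mul, map_inv]⟩
    rw [SetLike.mem_coe, Subgroup.mem_subgroupOf]
    exact (Subgroup.mem_normalizer_iff.mp hxN q).mp hq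
  · rintro ⟨q, hq, hqh⟩
    rw [SetLike.mem_coe, Subgroup.mem_subgroupOf] at hq
    refine ⟨⟨x, x.2.1⟩⁻¹ * q * ⟨x, x.2.1⟩, ?_, ?_⟩
    · rw [SetLike.mem_coe, Subgroup.mem_subgroupOf]
      have := (Subgroup.mem_normalizer_iff.mp (Subgroup.inv_mem _ hxN) q).mp hq
      simpa using this
    · rw [map_mul, map_mul, map_inv, hqh]
      group

/-- the inclusion of `N_S(Q)` into `N_G(ι Q)` -/
def normInc (ι : S →* G) (Q : Subgroup Ω) :
    ↥(normalizerIn S Q) →* ↥(Subgroup.normalizer (((Q.subgroupOf S).map ι : Subgroup G) : Set G)) where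
  toFun x := ⟨ι ⟨x, x.2.1⟩, map_mem_normalizer ι Q x⟩
  map_one' := by
    apply Subtype.ext
    show ι ⟨((1 : ↥(normalizerIn S Q)) : Ω), _⟩ = 1
    have : (⟨((1 : ↥(normalizerIn S Q)) : Ω), (1 : ↥(normalizerIn S Q)).2.1⟩ : S) = 1 := rfl
    rw [this, map_one]
  map_mul' a b := by
    apply Subtype.ext
    show ι ⟨((a * b : ↥(normalizerIn S Q)) : Ω), _⟩ = ι ⟨a, a.2.1⟩ * ι ⟨b, b.2.1⟩
    have : (⟨((a * b : ↥(normalizerIn S Q)) : Ω), (a * b).2.1⟩ : S) = ⟨a, a.2.1⟩ * ⟨b, b.2.1⟩ := rfl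
    rw [this, map_mul]

theorem normInc_coe (ι : S →* G) (Q : Subgroup Ω) (x : ↥(normalizerIn S Q)) :
    ((normInc ι Q x : ↥(Subgroup.normalizer (((Q.subgroupOf S).map ι : Subgroup G) : Set G))) : G) =
      ι ⟨x, x.2.1⟩ := rfl

theorem normalizer_isRealizedBy [Finite S] (F : FusionSystem S) (ι : S →* G) (hι : F.IsRealizedBy ι)
    (Q : Subgroup Ω) (hQS : Q ≤ S) (N : FusionSystem (normalizerIn S Q))
    (hN : F.IsNormalizerSystem Q N) : N.IsRealizedBy (normInc ι Q) := by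
  have hinj := hι.1
  refine ⟨fun a b hab => ?_, fun A hA φ hφ => ?_⟩
  · have h1 : ι ⟨a, a.2.1⟩ = ι ⟨b, b.2.1⟩ := congrArg Subtype.val hab
    have h2 := hinj h1
    exact Subtype.ext (congrArg (fun z : S => (z : Ω)) h2)
  have hAS : A ≤ S := hA.trans inf_le_left
  have hφS : ∀ x : A, φ x ∈ S := fun x => (hφ x).1
  haveI : Finite ↥((Q.subgroupOf S).map ι) :=
    Finite.of_surjective (fun q : Q.subgroupOf S => (⟨ι q, ⟨q, q.2, rfl⟩⟩ : ↥((Q.subgroupOf S).map ι)))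
      (by rintro ⟨_, q, hq, rfl⟩; exact ⟨⟨q, hq⟩, rfl⟩)
  rw [hN A]
  constructor
  · rintro ⟨hφF, -, -, ψ, hψ, hψext, hψQ⟩
    have hAQS : A ⊔ Q ≤ S := sup_le hAS hQS
    have hψS := fun y => Fusion.map_mem F hψ y
    obtain ⟨g, hg⟩ := (hι.2 (A ⊔ Q) hAQS ψ hψS).mp hψ
    have hgN : g ∈ Subgroup.normalizer (((Q.subgroupOf S).map ι : Subgroup G) : Set G) := by
      apply mem_normalizer_of_conj_mem_of_finite
      rintro _ ⟨q, hq, rfl⟩
      rw [SetLike.mem_coe, Subgroup.mem_subgroupOf] at hq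
      have h1 := hg ⟨q, (le_sup_right : Q ≤ A ⊔ Q) hq⟩
      have h2 : ψ ⟨q, (le_sup_right : Q ≤ A ⊔ Q) hq⟩ ∈ Q := by
        have h2' : ψ ⟨q, (le_sup_right : Q ≤ A ⊔ Q) hq⟩ ∈ (Q.subgroupOf (A ⊔ Q)).map ψ := by
          refine ⟨⟨q, (le_sup_right : Q ≤ A ⊔ Q) hq⟩, ?_, rfl⟩
          rw [SetLike.mem_coe, Subgroup.mem_subgroupOf]
          exact hq
        exact hψQ.le h2'
      have h3 : (⟨(q : Ω), hAQS ((le_sup_right : Q ≤ A ⊔ Q) hq)⟩ : S) = q := rfl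
      rw [h3] at h1
      rw [← h1]
      refine ⟨⟨ψ ⟨q, (le_sup_right : Q ≤ A ⊔ Q) hq⟩, hψS _⟩, ?_, rfl⟩
      rw [SetLike.mem_coe, Subgroup.mem_subgroupOf]
      exact h2
    refine ⟨⟨g, hgN⟩, fun x => ?_⟩
    apply Subtype.ext
    show ι ⟨φ x, _⟩ = g * ι ⟨x, _⟩ * g⁻¹
    have h1 := hg (Subgroup.inclusion le_sup_left x)
    have h2 : (⟨ψ (Subgroup.inclusion le_sup_left x), hψS _⟩ : S) = ⟨φ x, hφS x⟩ :=
      Subtype.ext (hψext x)
    rw [h2] at h1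
    exact h1
  · rintro ⟨⟨g, hgN⟩, hg⟩
    have hg' : ∀ x : A, ι ⟨φ x, hφS x⟩ = g * ι ⟨x, hAS x.2⟩ * g⁻¹ := fun x =>
      congrArg Subtype.val (hg x)
    have hφF : φ ∈ F.Hom A := (hι.2 A hAS φ hφS).mpr ⟨g, hg'⟩
    refine ⟨hφF, hA, hφ, ?_⟩
    -- conjugation by `g` on `A ⊔ Q`
    have hAQS : A ⊔ Q ≤ S := sup_le hAS hQS
    set D : Subgroup Ω := ((ι.range.comap ((MulAut.conj g).toMonoidHom.comp ι))).map S.subtype with hD
    have hDmem : ∀ (y : Ω) (hy : y ∈ S), y ∈ D ↔ g * ι ⟨y, hy⟩ * g⁻¹ ∈ ι.range := by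
      intro y hy
      constructor
      · rintro ⟨s, hs, hsy⟩
        have : s = ⟨y, hy⟩ := Subtype.ext hsy
        rw [← this]
        exact hs
      · intro h
        exact ⟨⟨y, hy⟩, h, rfl⟩
    have hAD : A ≤ D := fun a ha => (hDmem a (hAS ha)).mpr ⟨⟨φ ⟨a, ha⟩, hφS ⟨a, ha⟩⟩, hg' ⟨a, ha⟩⟩
    have hQD : Q ≤ D := by
      intro q hq
      refine (hDmem q (hQS hq)).mpr ?_
      have h1 : ι ⟨q, hQS hq⟩ ∈ (Q.subgroupOf S).map ι := ⟨⟨q, hQS hq⟩, by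
        rw [SetLike.mem_coe, Subgroup.mem_subgroupOf]; exact hq, rfl⟩
      obtain ⟨q', -, hq'⟩ := (Subgroup.mem_normalizer_iff.mp hgN _).mp h1
      exact ⟨q', hq'⟩
    have hgAQ : ∀ y : ↥(A ⊔ Q), g * ι ⟨y, hAQS y.2⟩ * g⁻¹ ∈ ι.range := fun y =>
      (hDmem y (hAQS y.2)).mp ((sup_le hAD hQD) y.2)
    obtain ⟨ψ, hψ, hψS, hιψ⟩ := Fusion.exists_hom_of_conj_mem_range F ι hι hAQS g hgAQ
    refine ⟨ψ, hψ, fun x => ?_, ?_⟩
    · have h1 := hιψ (Subgroup.inclusion le_sup_left x)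
      have h2 : ι ⟨ψ (Subgroup.inclusion le_sup_left x), hψS _⟩ = ι ⟨φ x, hφS x⟩ := by
        rw [h1, hg' x]
        rfl
      exact congrArg (fun z : S => (z : Ω)) (hinj h2)
    · -- the image of `Q` is `Q`
      have hsub : (Q.subgroupOf (A ⊔ Q)).map ψ ≤ Q := by
        rintro _ ⟨y, hy, rfl⟩
        rw [SetLike.mem_coe, Subgroup.mem_subgroupOf] at hy
        have h1 := hιψ y
        have h2 : ι ⟨y, hAQS y.2⟩ ∈ (Q.subgroupOf S).map ι := ⟨⟨y, hAQS y.2⟩, by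
          rw [SetLike.mem_coe, Subgroup.mem_subgroupOf]; exact hy, rfl⟩
        obtain ⟨q', hq', hq'eq⟩ := (Subgroup.mem_normalizer_iff.mp hgN _).mp h2
        rw [SetLike.mem_coe, Subgroup.mem_subgroupOf] at hq'
        rw [← hq'eq] at h1
        have h3 := hinj h1
        have h4 : ψ y = (q' : Ω) := congrArg (fun z : S => (z : Ω)) h3
        rw [h4]
        exact hq'
      haveI : Finite Q := Fusion.finite_of_le hQS
      have hinjψ := F.injective_of_mem hψ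
      have hcard : Nat.card ↥((Q.subgroupOf (A ⊔ Q)).map ψ) = Nat.card Q := by
        rw [Nat.card_congr ((Q.subgroupOf (A ⊔ Q)).equivMapOfInjective ψ hinjψ).symm.toEquiv]
        exact Nat.card_congr (Subgroup.subgroupOfEquivOfLe (le_sup_right : Q ≤ A ⊔ Q)).toEquiv
      exact Subgroup.eq_of_le_of_card_ge hsub (le_of_eq hcard.symm)

end LocMod
end Cfsg.Agent.Lead
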