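import Mathlib
import Cfsg.Prelude.Def_FusionSystem
import Cfsg.Agent.Lead.LocModC
import Cfsg.Agent.Lead.SylowLemmas

set_option autoImplicit false

/-!
If `G` realizes `F` on a Sylow `p`-subgroup and `Q` is fully normalized, `N_S(Q)` maps onto a Sylow `p`-subgroup of
`N_G(ι Q)`.
-/

namespace Cfsg.Agent.Lead
namespace LocMod

open Cfsg Cfsg.FusionSystem

variable {Ω : Type*} [Group Ω] {S : Subgroup Ω} {G : Type*} [Group G]

theorem normInc_range_sylow [Finite S] [Finite G] (p : ℕ) [Fact p.Prime] (F : FusionSystem S)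
    (ι : S →* G) (hι : F.IsRealizedBy ι) (T : Sylow p G) (hT : (T : Subgroup G) = ι.range)
    (Q : Subgroup Ω) (hQ : F.IsFullyNormalized Q) :
    ∃ R : Sylow p ↥(Subgroup.normalizer (((Q.subgroupOf S).map ι : Subgroup G) : Set G)),
      (R : Subgroup ↥(Subgroup.normalizer (((Q.subgroupOf S).map ι : Subgroup G) : Set G))) =
        (normInc ι Q).range := by
  have hinj := hι.1
  have hQS : Q ≤ S := hQ.1
  set H := Subgroup.normalizer (((Q.subgroupOf S).map ι : Subgroup G) : Set G) with hH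
  set X : Subgroup H := (normInc ι Q).range with hX
  -- `S` is a `p`-group
  have hSp : IsPGroup p S := by
    have h1 : IsPGroup p ι.range := hT ▸ T.isPGroup'
    exact h1.of_injective ι.rangeRestrict
      (fun a b hab => hinj (show ι a = ι b from congrArg Subtype.val hab))
  have hNinj : Function.Injective (normInc ι Q) := by
    intro a b hab
    have h1 : ι ⟨a, a.2.1⟩ = ι ⟨b, b.2.1⟩ := congrArg Subtype.val hab
    exact Subtype.ext (congrArg (fun z : S => (z : Ω)) (hinj h1))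
  have hXp : IsPGroup p X := by
    have h1 : IsPGroup p ↥(normalizerIn S Q) := hSp.to_le inf_le_left
    exact h1.of_surjective (normInc ι Q).rangeRestrict (normInc ι Q).rangeRestrict_surjective
  obtain ⟨R, hXR⟩ := hXp.exists_le_sylow
  refine ⟨R, ?_⟩
  -- conjugate `R` into the image of `S`
  obtain ⟨g, hg⟩ := exists_conj_le_sylow T ((R : Subgroup H).map H.subtype)
    (R.isPGroup'.map H.subtype)
  have hgR : ∀ r : H, r ∈ (R : Subgroup H) → g * (r : G) * g⁻¹ ∈ ι.range := by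
    intro r hr
    rw [← hT]
    exact hg ⟨(r : G), ⟨r, hr, rfl⟩, rfl⟩
  -- the image of `Q` lies in `R`
  have hQR : ∀ x : Q, ∃ r : H, r ∈ (R : Subgroup H) ∧ (r : G) = ι ⟨x, hQS x.2⟩ := by
    intro x
    have hxN : (x : Ω) ∈ normalizerIn S Q := ⟨hQS x.2, Subgroup.le_normalizer x.2⟩
    exact ⟨normInc ι Q ⟨x, hxN⟩, hXR ⟨_, rfl⟩, rfl⟩
  have hgQ : ∀ x : Q, g * ι ⟨x, hQS x.2⟩ * g⁻¹ ∈ ι.range := by
    intro x
    obtain ⟨r, hr, hrx⟩ := hQR x
    rw [← hrx]
    exact hgR r hr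
  obtain ⟨φ, hφ, hφS, hιφ⟩ := Fusion.exists_hom_of_conj_mem_range F ι hι hQS g hgQ
  have hconj : F.IsConj Q φ.range := ⟨φ, hφ, rfl⟩
  have hcard := hQ.2 φ.range hconj
  -- `g R g⁻¹` lies in the image of `N_S(φ Q)`
  set Y : Subgroup G := ((normalizerIn S φ.range).subgroupOf S).map ι with hY
  haveI : Finite φ.range := Fusion.finite_of_le (Fusion.range_le F hφ)
  have hsub : ((R : Subgroup H).map H.subtype).map (MulAut.conj g).toMonoidHom ≤ Y := by
    rintro _ ⟨_, ⟨r, hr, rfl⟩, rfl⟩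
    obtain ⟨s, hs⟩ := hgR r hr
    refine ⟨s, ?_, hs⟩
    rw [SetLike.mem_coe, Subgroup.mem_subgroupOf]
    refine ⟨s.2, ?_⟩
    apply mem_normalizer_of_conj_mem_of_finite
    rintro _ ⟨x, rfl⟩
    -- `r` normalizes the image of `Q`
    have h1 : ι ⟨x, hQS x.2⟩ ∈ (Q.subgroupOf S).map ι := ⟨⟨x, hQS x.2⟩, by
      rw [SetLike.mem_coe, Subgroup.mem_subgroupOf]; exact x.2, rfl⟩
    obtain ⟨x', hx', hx'eq⟩ := (Subgroup.mem_normalizer_iff.mp r.2 _).mp h1
    rw [SetLike.mem_coe, Subgroup.mem_subgroupOf] at hx'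
    refine ⟨⟨x', hx'⟩, ?_⟩
    have h2 : ι ⟨φ ⟨x', hx'⟩, hφS _⟩ = ι (s * ⟨φ x, hφS x⟩ * s⁻¹) := by
      rw [hιφ, map_mul, map_mul, map_inv, hιφ, hs]
      have h3 : (⟨((⟨x', hx'⟩ : Q) : Ω), hQS hx'⟩ : S) = x' := rfl
      rw [h3, hx'eq]
      show g * ((r : G) * ι ⟨x, hQS x.2⟩ * (r : G)⁻¹) * g⁻¹ = _
      group
    exact congrArg (fun z : S => (z : Ω)) (hinj h2)
  -- cardinalities
  have hc1 : Nat.card (R : Subgroup H) =
      Nat.card ↥(((R : Subgroup H).map H.subtype).map (MulAut.conj g).toMonoidHom) := by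
    rw [Nat.card_congr (((R : Subgroup H).map H.subtype).equivMapOfInjective _
      (MulAut.conj g).injective).symm.toEquiv]
    exact Nat.card_congr ((R : Subgroup H).equivMapOfInjective _ H.subtype_injective).toEquiv
  have hc2 : Nat.card Y = Nat.card ↥(normalizerIn S φ.range) := by
    rw [hY, Nat.card_congr (((normalizerIn S φ.range).subgroupOf S).equivMapOfInjective ι
      hinj).symm.toEquiv]
    exact Nat.card_congr (Subgroup.subgroupOfEquivOfLe (inf_le_left :
      normalizerIn S φ.range ≤ S)).toEquiv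
  have hc3 : Nat.card X = Nat.card ↥(normalizerIn S Q) := by
    rw [hX]
    exact Nat.card_congr (MonoidHom.ofInjective hNinj).symm.toEquiv
  have hc4 : Nat.card ↥(((R : Subgroup H).map H.subtype).map (MulAut.conj g).toMonoidHom) ≤
      Nat.card Y := Subgroup.card_le_of_le hsub
  exact (Subgroup.eq_of_le_of_card_ge hXR (by omega)).symm

end LocMod
end Cfsg.Agent.Lead
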