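import Mathlib
import Cfsg.Prelude.Def_FusionComponents
import Cfsg.Agent.Lead.FusionSeries
import Cfsg.Agent.Lead.FusionStab
import Cfsg.Agent.Lead.FusionWeak
import Cfsg.Agent.Lead.FusionNormalCrit

set_option autoImplicit false

namespace Cfsg.Agent.Lead

open Cfsg Cfsg.FusionSystem
open scoped commutatorElement

variable {Ω : Type*} [Group Ω] {S : Subgroup Ω}

/-- Extending a normal subgroup `R` by a strongly closed `X = C_X(R) R` with `X / R` abelian. -/
theorem Fusion.isNormal_of_centralizer_mul [Finite S] (p : ℕ) [Fact p.Prime] (hS : IsPGroup p S)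
    (F : FusionSystem S) (hF : F.IsSaturated p) {R X : Subgroup Ω}
    (hR : F.IsNormal R) (hX : F.StronglyClosed X)
    (hdec : ∀ x ∈ X, ∃ d ∈ Subgroup.centralizer (R : Set Ω), ∃ r ∈ R, x = d * r)
    (hab : ⁅X, X⁆ ≤ R) : F.IsNormal X := by
  obtain ⟨n, Qs, h0, hlast, hmono, hstep⟩ := (Fusion.isNormal_iff_chain p hS F hF R).mp hR
  apply Fusion.isNormal_of_fin_chain p hS F hF X (n + 1)
    (Fin.snoc (α := fun _ => Subgroup Ω) Qs X)
  · have : (0 : Fin (n + 1 + 1)) = Fin.castSucc (0 : Fin (n + 1)) := rfl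
    rw [this, Fin.snoc_castSucc]
    exact h0
  · exact Fin.snoc_last (α := fun _ => Subgroup Ω) X Qs
  · intro i
    induction i using Fin.lastCases with
    | last =>
      rw [Fin.succ_last, Fin.snoc_last, Fin.snoc_castSucc, hlast]
      exact ⟨hX, hab⟩
    | cast j =>
      rw [Fin.succ_castSucc, Fin.snoc_castSucc, Fin.snoc_castSucc]
      refine ⟨(hstep j).1, ?_⟩
      rw [Subgroup.commutator_le]
      intro x hx y hy
      obtain ⟨d, hd, r, hr, rfl⟩ := hdec x hx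
      have hyR : y ∈ R := by
        rw [← hlast]
        exact hmono (Fin.le_last _) hy
      have hry : ⁅r, y⁆ ∈ Qs j.castSucc :=
        (Subgroup.commutator_le.mp (hstep j).2) r hr y hy
      have hry' : ⁅r, y⁆ ∈ R := by
        rw [← hlast]
        exact hmono (Fin.le_last _) hry
      have hdy : y * d = d * y := (Subgroup.mem_centralizer_iff.mp hd) y hyR
      have hdc : ⁅r, y⁆ * d = d * ⁅r, y⁆ := (Subgroup.mem_centralizer_iff.mp hd) _ hry'
      have : ⁅d * r, y⁆ = ⁅r, y⁆ := by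
        have e1 : ⁅d * r, y⁆ = d * ⁅r, y⁆ * (y * d⁻¹ * y⁻¹) := by
          simp only [commutatorElement_def]; group
        have e2 : y * d⁻¹ * y⁻¹ = d⁻¹ := by
          have : y * d⁻¹ = d⁻¹ * y := by
            calc y * d⁻¹ = d⁻¹ * (d * y) * d⁻¹ := by group
              _ = d⁻¹ * (y * d) * d⁻¹ := by rw [hdy]
              _ = d⁻¹ * y := by group
          rw [this]; group
        rw [e1, e2, ← hdc]; group
      rw [this]
      exact hry

/-- A saturated subsystem over a strongly closed subgroup of a constrained system is constrained. -/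
theorem Fusion.isConstrained_of_subsystem [Finite S] (p : ℕ) [Fact p.Prime] (hS : IsPGroup p S)
    (F : FusionSystem S) (hF : F.IsConstrained p) {T : Subgroup Ω} (E : FusionSystem T)
    (hEsat : E.IsSaturated p) (hsub : E.IsSubsystemOf F) (hT : F.StronglyClosed T) :
    E.IsConstrained p := by
  obtain ⟨hFsat, Q, hQn, hQc⟩ := hF
  have hTS := hT.1
  have hTfin : Finite T := Fusion.finite_of_le hTS
  have hTp : IsPGroup p T := hS.to_le hTS
  have hQsc := Fusion.stronglyClosed_of_isNormal F hQn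
  have hQS := hQn.1
  have hRsc : F.StronglyClosed (Q ⊓ T) :=
    ⟨inf_le_left.trans hQS, fun P hP φ hφ x => Subgroup.mem_inf.mpr
      ⟨hQsc.2 P (hP.trans inf_le_left) φ hφ x, hT.2 P (hP.trans inf_le_right) φ hφ x⟩⟩
  have hnormR := Fusion.le_normalizer_of_stronglyClosed F hRsc
  have hnormQ := Fusion.le_normalizer_of_stronglyClosed F hQsc
  have hnormT := Fusion.le_normalizer_of_stronglyClosed F hT
  have hconj : ∀ {N : Subgroup Ω}, S ≤ Subgroup.normalizer (N : Set Ω) → ∀ s ∈ S, ∀ y ∈ N,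
      s * y * s⁻¹ ∈ N := fun hN s hs y hy => (Subgroup.mem_normalizer_iff.mp (hN hs) y).mp hy
  -- `R = Q ∩ T` is normal in `E`
  have hRE : E.IsNormal (Q ⊓ T) := by
    obtain ⟨n, Qs, h0, hlast, hmono, hstep⟩ := (Fusion.isNormal_iff_chain p hS F hFsat Q).mp hQn
    apply Fusion.isNormal_of_fin_chain p hTp E hEsat (Q ⊓ T) n (fun i => Qs i ⊓ T)
    · show Qs 0 ⊓ T = ⊥
      rw [h0, bot_inf_eq]
    · show Qs (Fin.last n) ⊓ T = Q ⊓ T
      rw [hlast]
    · intro i
      refine ⟨⟨inf_le_right, fun P hP φ hφ x => Subgroup.mem_inf.mpr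
        ⟨(hstep i).1.2 P (hP.trans inf_le_left) φ (hsub P hφ) x,
          hT.2 P (hP.trans inf_le_right) φ (hsub P hφ) x⟩⟩, ?_⟩
      apply le_inf
      · exact (Subgroup.commutator_mono inf_le_left inf_le_left).trans (hstep i).2
      · rw [Subgroup.commutator_le]
        intro a ha b hb
        have haT := (Subgroup.mem_inf.mp ha).2
        have hbT := (Subgroup.mem_inf.mp hb).2
        rw [commutatorElement_def]
        exact T.mul_mem (T.mul_mem (T.mul_mem haT hbT) (T.inv_mem haT)) (T.inv_mem hbT)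
  set R : Subgroup Ω := Q ⊓ T with hR
  set D : Subgroup Ω := centralizerIn T R with hD
  have hDT : D ≤ T := inf_le_left
  have hDC : D ≤ Subgroup.centralizer (R : Set Ω) := inf_le_right
  have hRT : R ≤ T := inf_le_right
  have hRS : R ≤ S := hRT.trans hTS
  have hDS : D ≤ S := hDT.trans hTS
  have hDnormR : D ≤ Subgroup.normalizer (R : Set Ω) := hDS.trans hnormR
  have hXT : D ⊔ R ≤ T := sup_le hDT hRT
  have hdec : ∀ x ∈ D ⊔ R, ∃ d ∈ D, ∃ r ∈ R, x = d * r := by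
    intro x hx
    have hx' : x ∈ ((D ⊔ R : Subgroup Ω) : Set Ω) := hx
    rw [Subgroup.coe_mul_of_left_le_normalizer_right D R hDnormR] at hx'
    obtain ⟨d, hd, r, hr, rfl⟩ := Set.mem_mul.mp hx'
    exact ⟨d, hd, r, hr, rfl⟩
  -- `X = D R` is strongly closed in `E`
  have hXsc : E.StronglyClosed (D ⊔ R) := by
    refine ⟨hXT, fun P hPX φ hφ x => ?_⟩
    obtain ⟨φh, hφh, hext, hmap⟩ := hRE.2 P φ hφ
    obtain ⟨d, hd, r, hr, hxdr⟩ := hdec x.1 (hPX x.2)
    set r' : ↥(P ⊔ R) := ⟨r, (le_sup_right : R ≤ P ⊔ R) hr⟩ with hr'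
    set x' : ↥(P ⊔ R) := Subgroup.inclusion le_sup_left x with hx'
    have hφr : φh r' ∈ R := by
      apply hmap.le
      refine ⟨r', ?_, rfl⟩
      rw [SetLike.mem_coe, Subgroup.mem_subgroupOf]
      exact hr
    have hmemD : (φh r')⁻¹ * φh x' ∈ D := by
      refine Subgroup.mem_inf.mpr ⟨T.mul_mem (T.inv_mem (hRT hφr)) (Fusion.map_mem E hφh x'), ?_⟩
      rw [Subgroup.mem_centralizer_iff]
      intro y hy
      have hy' : y ∈ Subgroup.map φh (R.subgroupOf (P ⊔ R)) := hmap.ge hy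
      obtain ⟨y₀, hy₀, rfl⟩ := hy'
      rw [SetLike.mem_coe, Subgroup.mem_subgroupOf] at hy₀
      have hdc := (Subgroup.mem_centralizer_iff.mp (hDC hd))
      have h1 : x' * y₀ * x'⁻¹ = r' * y₀ * r'⁻¹ := by
        apply Subtype.ext
        show (x : Ω) * (y₀ : Ω) * (x : Ω)⁻¹ = r * (y₀ : Ω) * r⁻¹
        rw [hxdr]
        have h2 : r * (y₀ : Ω) * r⁻¹ ∈ R := R.mul_mem (R.mul_mem hr hy₀) (R.inv_mem hr)
        have h3 := hdc _ h2
        calc d * r * (y₀ : Ω) * (d * r)⁻¹ = d * (r * (y₀ : Ω) * r⁻¹) * d⁻¹ := by group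
          _ = (r * (y₀ : Ω) * r⁻¹) * d * d⁻¹ := by rw [h3]
          _ = r * (y₀ : Ω) * r⁻¹ := by group
      have h4 := congrArg φh h1
      rw [map_mul, map_mul, map_inv, map_mul, map_mul, map_inv] at h4
      calc φh y₀ * ((φh r')⁻¹ * φh x')
          = (φh r')⁻¹ * (φh r' * φh y₀ * (φh r')⁻¹) * φh x' := by group
        _ = (φh r')⁻¹ * (φh x' * φh y₀ * (φh x')⁻¹) * φh x' := by rw [h4]
        _ = (φh r')⁻¹ * φh x' * φh y₀ := by group
    have h5 : φ x = φh r' * ((φh r')⁻¹ * φh x') := by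
      rw [mul_inv_cancel_left]; exact (hext x).symm
    rw [h5]
    exact Subgroup.mul_mem _ ((le_sup_right : R ≤ D ⊔ R) hφr) ((le_sup_left : D ≤ D ⊔ R) hmemD)
  -- `[D, D] ≤ R`
  have hDQ : ⁅D, Q⁆ ≤ R := by
    rw [Subgroup.commutator_le]
    intro d hd q hq
    have hdS := hDS hd
    have hqS := hQS hq
    rw [commutatorElement_def]
    refine Subgroup.mem_inf.mpr ⟨?_, ?_⟩
    · exact Q.mul_mem (hconj hnormQ d hdS q hq) (Q.inv_mem hq)
    · have : d * q * d⁻¹ * q⁻¹ = d * (q * d⁻¹ * q⁻¹) := by group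
      rw [this]
      exact T.mul_mem (hDT hd) (hconj hnormT q hqS d⁻¹ (T.inv_mem (hDT hd)))
  have hRD : ⁅R, D⁆ = ⊥ := by
    rw [Subgroup.commutator_eq_bot_iff_le_centralizer]
    intro r hr
    rw [Subgroup.mem_centralizer_iff]
    intro d hd
    exact ((Subgroup.mem_centralizer_iff.mp (hDC hd)) r hr).symm
  have h1 : ⁅⁅D, Q⁆, D⁆ = ⊥ := le_bot_iff.mp (hRD ▸ Subgroup.commutator_mono hDQ le_rfl)
  have h2 : ⁅⁅Q, D⁆, D⁆ = ⊥ := by rw [Subgroup.commutator_comm Q D]; exact h1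
  have h3 : ⁅⁅D, D⁆, Q⁆ = ⊥ := Subgroup.commutator_commutator_eq_bot_of_rotate h1 h2
  have hDDT : ⁅D, D⁆ ≤ T := by
    rw [Subgroup.commutator_le]
    intro a ha b hb
    rw [commutatorElement_def]
    exact T.mul_mem (T.mul_mem (T.mul_mem (hDT ha) (hDT hb)) (T.inv_mem (hDT ha)))
      (T.inv_mem (hDT hb))
  have hDDR : ⁅D, D⁆ ≤ R := by
    apply le_inf _ hDDT
    have h4 : ⁅D, D⁆ ≤ centralizerIn S Q :=
      le_inf (hDDT.trans hTS) (Subgroup.commutator_eq_bot_iff_le_centralizer.mp h3)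
    exact h4.trans (hQc.2 Q (Fusion.isConj_refl F hQS))
  have hab : ⁅D ⊔ R, D ⊔ R⁆ ≤ R := by
    rw [Subgroup.commutator_le]
    intro g₁ hg₁ g₂ hg₂
    obtain ⟨d₁, hd₁, r₁, hr₁, rfl⟩ := hdec g₁ hg₁
    obtain ⟨d₂, hd₂, r₂, hr₂, rfl⟩ := hdec g₂ hg₂
    have hg₂S : d₂ * r₂ ∈ S := S.mul_mem (hDS hd₂) (hRS hr₂)
    have e1 : ⁅d₁ * r₁, d₂ * r₂⁆ =
        d₁ * (r₁ * ((d₂ * r₂) * r₁⁻¹ * (d₂ * r₂)⁻¹)) * d₁⁻¹ *
          (⁅d₁, d₂⁆ * (d₂ * ((d₁ * r₂ * d₁⁻¹) * r₂⁻¹) * d₂⁻¹)) := by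
      simp only [commutatorElement_def]; group
    rw [e1]
    apply R.mul_mem
    · apply hconj hnormR d₁ (hDS hd₁)
      exact R.mul_mem hr₁ (hconj hnormR _ hg₂S _ (R.inv_mem hr₁))
    · apply R.mul_mem
      · exact hDDR (Subgroup.commutator_mem_commutator hd₁ hd₂)
      · apply hconj hnormR d₂ (hDS hd₂)
        exact R.mul_mem (hconj hnormR d₁ (hDS hd₁) r₂ hr₂) (R.inv_mem hr₂)
  have hXn : E.IsNormal (D ⊔ R) :=
    Fusion.isNormal_of_centralizer_mul p hTp E hEsat hRE hXsc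
      (fun x hx => by
        obtain ⟨d, hd, r, hr, h⟩ := hdec x hx
        exact ⟨d, hDC hd, r, hr, h⟩) hab
  refine ⟨hEsat, D ⊔ R, hXn, hXT, fun X' hX' => ?_⟩
  obtain ⟨φ, hφ, hr⟩ := hX'
  have hX'eq : X' = D ⊔ R := by
    rw [← hr]
    exact (Fusion.weaklyClosed_of_stronglyClosed E hXsc).2 φ hφ
  rw [hX'eq]
  intro c hc
  obtain ⟨hcT, hcC⟩ := Subgroup.mem_inf.mp hc
  apply (le_sup_left : D ≤ D ⊔ R)
  refine Subgroup.mem_inf.mpr ⟨hcT, ?_⟩
  rw [Subgroup.mem_centralizer_iff]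
  intro y hy
  exact (Subgroup.mem_centralizer_iff.mp hcC) y ((le_sup_right : R ≤ D ⊔ R) hy)

/-- Subnormal subsystems of constrained systems are constrained. -/
theorem Fusion.isConstrained_of_isSubnormalIn (p : ℕ) {T : Subgroup Ω}
    (E : FusionSystem T) (F : FusionSystem S) (hE : E.IsSubnormalIn F p) :
    Fact p.Prime → Finite S → IsPGroup p S → F.IsConstrained p → E.IsConstrained p := by
  induction hE with
  | refl F => intro _ _ _ h; exact h
  | @step U S E D F q hED hDF ih =>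
    intro hq hfin hS hF
    haveI := hq
    obtain ⟨⟨hDsat, -, hsub, hU, -, -⟩, -⟩ := hDF
    have hUS := hU.1
    have hD : D.IsConstrained q := Fusion.isConstrained_of_subsystem q hS F hF D hDsat hsub hU
    have hUfin : Finite U := Fusion.finite_of_le hUS
    exact ih hq hUfin (hS.to_le hUS) hD

end Cfsg.Agent.Lead
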