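import Mathlib
import Cfsg.Prelude.Def_FusionSystem
import Cfsg.Agent.Lead.FusionSeries
import Cfsg.Agent.Lead.FusionStab
import Cfsg.Agent.Lead.FusionNormal
import Cfsg.Agent.Lead.FusionNormalCrit

set_option autoImplicit false

namespace Cfsg.Agent.Lead

open Cfsg Cfsg.FusionSystem
open scoped commutatorElement

variable {Ω : Type*} [Group Ω] {S T : Subgroup Ω}

/-- The image of `Y ∩ T` under an automorphism of `T`. -/
def Fusion.autMap (α : MulAut T) (Y : Subgroup Ω) : Subgroup Ω :=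
  (Y.subgroupOf T).map (T.subtype.comp α.toMonoidHom)

theorem Fusion.mem_autMap (α : MulAut T) (Y : Subgroup Ω) (z : Ω) :
    z ∈ Fusion.autMap α Y ↔ ∃ y : T, (y : Ω) ∈ Y ∧ ((α y : T) : Ω) = z := by
  unfold Fusion.autMap
  constructor
  · rintro ⟨y, hy, rfl⟩; exact ⟨y, Subgroup.mem_subgroupOf.mp hy, rfl⟩
  · rintro ⟨y, hy, rfl⟩; exact ⟨y, Subgroup.mem_subgroupOf.mpr hy, rfl⟩

theorem Fusion.autMap_le (α : MulAut T) (Y : Subgroup Ω) : Fusion.autMap α Y ≤ T := by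
  intro z hz
  obtain ⟨y, -, rfl⟩ := (Fusion.mem_autMap α Y z).mp hz
  exact (α y).2

theorem Fusion.autMap_bot (α : MulAut T) : Fusion.autMap α ⊥ = ⊥ := by
  ext z
  rw [Fusion.mem_autMap, Subgroup.mem_bot]
  constructor
  · rintro ⟨y, hy, rfl⟩
    rw [Subgroup.mem_bot] at hy
    have : y = 1 := Subtype.ext hy
    rw [this, map_one]; rfl
  · rintro rfl
    exact ⟨1, Subgroup.one_mem _, by rw [map_one]; rfl⟩

/-- Images of strongly closed subgroups of an invariant subsystem under `Aut_F(T)`. -/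
theorem Fusion.autMap_stronglyClosed (F : FusionSystem S) (E : FusionSystem T)
    (hinv : E.IsInvariantIn F) {Y : Subgroup Ω} (hY : E.StronglyClosed Y) (α : MulAut T)
    (hα : α ∈ F.autGroup T) : E.StronglyClosed (Fusion.autMap α Y) := by
  obtain ⟨hsub, hTsc, hinv', hfrat⟩ := hinv
  refine ⟨Fusion.autMap_le α Y, fun P hP φ hφ x => ?_⟩
  have hPT : P ≤ T := hP.trans (Fusion.autMap_le α Y)
  obtain ⟨χ, hχ, hχspec⟩ := hinv' P hPT φ hφ α⁻¹ (Subgroup.inv_mem _ hα)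
  have hle : Fusion.autMap α⁻¹ P ≤ Y := by
    intro z hz
    obtain ⟨y, hy, rfl⟩ := (Fusion.mem_autMap α⁻¹ P z).mp hz
    obtain ⟨y₀, hy₀, hy₀y⟩ := (Fusion.mem_autMap α Y y).mp (hP hy)
    have : α y₀ = y := Subtype.ext hy₀y
    rw [← this, MulAut.inv_apply_self]
    exact hy₀
  have hφxT : φ x ∈ T := Fusion.map_mem E hφ x
  have hαx : ((α⁻¹ ⟨x, hPT x.2⟩ : T) : Ω) ∈ Fusion.autMap α⁻¹ P :=
    (Fusion.mem_autMap α⁻¹ P _).mpr ⟨⟨x, hPT x.2⟩, x.2, rfl⟩
  have h1 := hχspec x hφxT hαx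
  have h2 := hY.2 (Fusion.autMap α⁻¹ P) hle χ hχ ⟨_, hαx⟩
  have h3 : ((α⁻¹ ⟨φ x, hφxT⟩ : T) : Ω) ∈ Y := by
    have h4 : χ ⟨_, hαx⟩ = ((α⁻¹ ⟨φ x, hφxT⟩ : T) : Ω) := h1
    rw [← h4]; exact h2
  rw [Fusion.mem_autMap]
  exact ⟨α⁻¹ ⟨φ x, hφxT⟩, h3, by rw [MulAut.apply_inv_self]⟩

/-- An `Aut_F(T)`-invariant strongly closed subgroup of an invariant subsystem is strongly closed
in `F`. -/
theorem Fusion.stronglyClosed_of_invariant (F : FusionSystem S) (E : FusionSystem T)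
    (hinv : E.IsInvariantIn F) {Y : Subgroup Ω} (hY : E.StronglyClosed Y)
    (hYinv : ∀ α ∈ F.autGroup T, Fusion.autMap α Y ≤ Y) : F.StronglyClosed Y := by
  obtain ⟨hsub, hTsc, hinv', hfrat⟩ := hinv
  refine ⟨hY.1.trans hTsc.1, fun P hP φ hφ x => ?_⟩
  obtain ⟨α, hα, φ₀, hφ₀, hspec⟩ := hfrat P (hP.trans hY.1) φ hφ
  have hx₀ := Fusion.map_mem E hφ₀ x
  rw [hspec x hx₀]
  apply hYinv α hα
  rw [Fusion.mem_autMap]
  exact ⟨⟨φ₀ x, hx₀⟩, hY.2 P hP φ₀ hφ₀ x, rfl⟩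

/-- Images of normal subgroups of an invariant saturated subsystem under `Aut_F(T)`. -/
theorem Fusion.autMap_isNormal [Finite T] (p : ℕ) [Fact p.Prime] (hT : IsPGroup p T)
    (F : FusionSystem S) (E : FusionSystem T) (hEsat : E.IsSaturated p)
    (hinv : E.IsInvariantIn F) {R : Subgroup Ω} (hR : E.IsNormal R) (α : MulAut T)
    (hα : α ∈ F.autGroup T) : E.IsNormal (Fusion.autMap α R) := by
  obtain ⟨n, Qs, h0, hlast, hmono, hstep⟩ := (Fusion.isNormal_iff_chain p hT E hEsat R).mp hR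
  apply Fusion.isNormal_of_fin_chain p hT E hEsat _ n (fun i => Fusion.autMap α (Qs i))
  · show Fusion.autMap α (Qs 0) = ⊥
    rw [h0, Fusion.autMap_bot]
  · show Fusion.autMap α (Qs (Fin.last n)) = Fusion.autMap α R
    rw [hlast]
  · intro i
    refine ⟨Fusion.autMap_stronglyClosed F E hinv (hstep i).1 α hα, ?_⟩
    rw [Subgroup.commutator_le]
    intro a ha b hb
    obtain ⟨a₀, ha₀, rfl⟩ := (Fusion.mem_autMap α R a).mp ha
    obtain ⟨b₀, hb₀, rfl⟩ := (Fusion.mem_autMap α (Qs i.succ) b).mp hb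
    rw [Fusion.mem_autMap]
    refine ⟨⁅a₀, b₀⁆, ?_, ?_⟩
    · have : ((⁅a₀, b₀⁆ : T) : Ω) = ⁅(a₀ : Ω), (b₀ : Ω)⁆ := rfl
      rw [this]
      exact (hstep i).2 (Subgroup.commutator_mem_commutator ha₀ hb₀)
    · rw [map_commutatorElement]
      rfl

/-- Characteristic subgroups of an invariant subgroup are invariant. -/
theorem Fusion.autMap_characteristic_le {X : Subgroup Ω} (hXT : X ≤ T) (α : MulAut T)
    (h1 : Fusion.autMap α X ≤ X) (h2 : Fusion.autMap α⁻¹ X ≤ X) (H : Subgroup X)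
    [hH : H.Characteristic] : Fusion.autMap α (H.map X.subtype) ≤ H.map X.subtype := by
  have hα : ∀ x : X, ((α ⟨x, hXT x.2⟩ : T) : Ω) ∈ X := fun x =>
    h1 ((Fusion.mem_autMap α X _).mpr ⟨⟨x, hXT x.2⟩, x.2, rfl⟩)
  have hα' : ∀ x : X, ((α⁻¹ ⟨x, hXT x.2⟩ : T) : Ω) ∈ X := fun x =>
    h2 ((Fusion.mem_autMap α⁻¹ X _).mpr ⟨⟨x, hXT x.2⟩, x.2, rfl⟩)
  let αX : X ≃* X :=
    { toFun := fun x => ⟨α ⟨x, hXT x.2⟩, hα x⟩
      invFun := fun x => ⟨α⁻¹ ⟨x, hXT x.2⟩, hα' x⟩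
      left_inv := by
        intro x
        apply Subtype.ext
        show ((α⁻¹ (α ⟨x, hXT x.2⟩) : T) : Ω) = x
        rw [MulAut.inv_apply_self]
      right_inv := by
        intro x
        apply Subtype.ext
        show ((α (α⁻¹ ⟨x, hXT x.2⟩) : T) : Ω) = x
        rw [MulAut.apply_inv_self]
      map_mul' := by
        intro x y
        apply Subtype.ext
        show ((α (⟨x, hXT x.2⟩ * ⟨y, hXT y.2⟩) : T) : Ω) = _
        rw [map_mul]
        rfl }
  intro z hz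
  obtain ⟨y, hy, rfl⟩ := (Fusion.mem_autMap α _ z).mp hz
  obtain ⟨w, hw, hwy⟩ := hy
  have hyw : y = ⟨w, hXT w.2⟩ := Subtype.ext hwy.symm
  have h3 : αX w ∈ H := (Subgroup.characteristic_iff_map_le.mp hH αX) ⟨w, hw, rfl⟩
  refine ⟨αX w, h3, ?_⟩
  rw [hyw]
  rfl

/-- AKO-type result: the subgroup generated by the `F`-images of a subgroup `R` normal in a weakly
normal subsystem is normal in `F`. -/
theorem Fusion.weakNormal_closure_isNormal [Finite S] (p : ℕ) [Fact p.Prime] (hS : IsPGroup p S)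
    (F : FusionSystem S) (hF : F.IsSaturated p) (E : FusionSystem T)
    (hE : E.IsWeaklyNormalIn F p) (R : Subgroup Ω) (hR : E.IsNormal R) :
    F.IsNormal (Subgroup.closure {x : Ω | ∃ φ ∈ F.Hom R, ∃ r : R, x = φ r}) := by
  obtain ⟨hEsat, -, hinv⟩ := hE
  have hinv' := hinv
  obtain ⟨hsub, hTsc, hinvA, hfrat⟩ := hinv
  have hTS := hTsc.1
  have hTfin : Finite T := Fusion.finite_of_le hTS
  have hTp : IsPGroup p T := hS.to_le hTS
  have hRT : R ≤ T := hR.1
  have hRsc := Fusion.stronglyClosed_of_isNormal E hR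
  have hgenT : ∀ φ ∈ F.Hom R, ∀ r : R, φ r ∈ T := fun φ hφ r => hTsc.2 R hRT φ hφ r
  set X : Subgroup Ω := Subgroup.closure {x : Ω | ∃ φ ∈ F.Hom R, ∃ r : R, x = φ r} with hX
  have hXT : X ≤ T := by
    rw [hX, Subgroup.closure_le]
    rintro x ⟨φ, hφ, r, rfl⟩
    exact hgenT φ hφ r
  have hαR : ∀ α ∈ F.autGroup T, Fusion.autMap α R ≤ X := by
    intro α hα z hz
    obtain ⟨y, hy, rfl⟩ := (Fusion.mem_autMap α R z).mp hz
    apply Subgroup.subset_closure
    have h1 := (Fusion.mem_autGroup_iff F hTS α).mp hα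
    have h2 := Fusion.restrict_mem F h1 hRT
    exact ⟨_, h2, ⟨y, hy⟩, rfl⟩
  have hXE : E.IsNormal X := by
    obtain ⟨M, ⟨hMn, hMX⟩, hmax⟩ := exists_max_card_subgroup (S := T)
      {M | E.IsNormal M ∧ M ≤ X} ⟨⊥, Fusion.bot_isNormal E, bot_le⟩ (fun M hM => hM.1.1)
    have hXM : X ≤ M := by
      rw [hX, Subgroup.closure_le]
      rintro x ⟨φ, hφ, r, rfl⟩
      obtain ⟨α, hα, φ₀, hφ₀, hspec⟩ := hfrat R hRT φ hφ
      have hr₀ := Fusion.map_mem E hφ₀ r
      have hxα : φ r ∈ Fusion.autMap α R := by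
        rw [hspec r hr₀, Fusion.mem_autMap]
        exact ⟨⟨φ₀ r, hr₀⟩, hRsc.2 R le_rfl φ₀ hφ₀ r, rfl⟩
      have hn := Fusion.autMap_isNormal p hTp F E hEsat hinv' hR α hα
      have hsup : E.IsNormal (M ⊔ Fusion.autMap α R) := Fusion.sup_isNormal E hMn hn
      have hle : M ⊔ Fusion.autMap α R ≤ X := sup_le hMX (hαR α hα)
      have hcard := hmax _ ⟨hsup, hle⟩
      have : Finite ↥(M ⊔ Fusion.autMap α R) := Fusion.finite_of_le (S := T) hsup.1
      have heq : M = M ⊔ Fusion.autMap α R := Subgroup.eq_of_le_of_card_ge le_sup_left hcard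
      rw [SetLike.mem_coe, heq]
      exact (le_sup_right : Fusion.autMap α R ≤ M ⊔ Fusion.autMap α R) hxα
    have : X = M := le_antisymm hXM hMX
    rw [this]; exact hMn
  have hXinv : ∀ α ∈ F.autGroup T, Fusion.autMap α X ≤ X := by
    intro α hα
    set K : Subgroup Ω := (X.comap (T.subtype.comp α.toMonoidHom)).map T.subtype with hK
    have hXK : X ≤ K := by
      rw [hX, Subgroup.closure_le]
      rintro x ⟨φ, hφ, r, rfl⟩
      have hφT := hgenT φ hφ
      refine ⟨⟨φ r, hφT r⟩, ?_, rfl⟩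
      show (T.subtype.comp α.toMonoidHom) ⟨φ r, hφT r⟩ ∈ X
      apply Subgroup.subset_closure
      have h1 := (Fusion.mem_autGroup_iff F hTS α).mp hα
      have h2 := F.comp_mem hφ h1 hφT
      exact ⟨_, h2, r, rfl⟩
    intro z hz
    obtain ⟨y, hy, rfl⟩ := (Fusion.mem_autMap α X z).mp hz
    obtain ⟨t, ht, hty⟩ := hXK hy
    have : t = y := Subtype.ext hty
    rw [← this]; exact ht
  have hXS : X ≤ S := hXT.trans hTS
  have : Finite X := Fusion.finite_of_le hXS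
  have : Group.IsNilpotent X := (hS.to_le hXS).isNilpotent
  apply Fusion.isNormal_of_fin_chain p hS F hF X (Group.nilpotencyClass X)
    (fun i => (Subgroup.upperCentralSeries X i).map X.subtype)
  · show (Subgroup.upperCentralSeries X 0).map X.subtype = ⊥
    rw [Subgroup.upperCentralSeries_zero, Subgroup.map_bot]
  · show (Subgroup.upperCentralSeries X (Group.nilpotencyClass X)).map X.subtype = X
    rw [Subgroup.upperCentralSeries_nilpotencyClass, ← MonoidHom.range_eq_map, Subgroup.range_subtype]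
  · intro i
    constructor
    · apply Fusion.stronglyClosed_of_invariant F E hinv'
        (Fusion.stronglyClosed_of_isNormal E
          (Fusion.isNormal_map_of_characteristic E hXE (Subgroup.upperCentralSeries X (i.succ : ℕ))))
      intro α hα
      exact Fusion.autMap_characteristic_le hXT α (hXinv α hα)
        (hXinv α⁻¹ (Subgroup.inv_mem _ hα)) _
    · rw [Subgroup.commutator_le]
      rintro g hg _ ⟨z, hz, rfl⟩
      have hz' : z ∈ Subgroup.upperCentralSeries X ((i : ℕ) + 1) := by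
        have : ((i.succ : Fin (Group.nilpotencyClass X + 1)) : ℕ) = (i : ℕ) + 1 := Fin.val_succ i
        rw [← this]
        exact hz
      have h1 := (Subgroup.mem_upperCentralSeries_succ_iff.mp hz') ⟨g, hg⟩
      refine ⟨(⁅z, ⟨g, hg⟩⁆)⁻¹, Subgroup.inv_mem _ h1, ?_⟩
      rw [commutatorElement_inv]
      rfl

end Cfsg.Agent.Lead
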