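import Mathlib
import Cfsg.Prelude.Def_FusionComponents
import Cfsg.Agent.Lead.FusionFactorSys
import Cfsg.Agent.Lead.FusionSeries
import Cfsg.Agent.Lead.FusionMorph3
import Cfsg.Agent.Lead.FusionStab

set_option autoImplicit false

namespace Cfsg.Agent.Lead

open Cfsg Cfsg.FusionSystem
open scoped commutatorElement

variable {Ω : Type*} [Group Ω] {S : Subgroup Ω} {Ω' : Type*} [Group Ω'] {S' : Subgroup Ω'}

/-- The image of a strongly closed subgroup in a factor system is strongly closed. -/
theorem Fusion.imageAlong_stronglyClosed (F : FusionSystem S) {R : Subgroup Ω} (θ : S →* Ω')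
    (E : FusionSystem S') (hE : F.IsFactorSystem R θ E) {T : Subgroup Ω}
    (hT : F.StronglyClosed T) : E.StronglyClosed (imageAlong θ T) := by
  obtain ⟨hRS, hker, hrange, hHom⟩ := hE
  refine ⟨?_, ?_⟩
  · rintro _ ⟨s, -, rfl⟩
    rw [← hrange]
    exact ⟨s, rfl⟩
  · intro P' hP' φ' hφ' x'
    obtain ⟨-, φ, hφ, hPS, hφS, hPP', hind⟩ := (hHom P' φ').mp hφ'
    obtain ⟨t, ht, htS, htx⟩ := (Fusion.mem_imageAlong θ T _).mp (hP' x'.2)
    have htP : t ∈ preimageAlong θ P' :=
      (Fusion.mem_preimageAlong θ P' t).mpr ⟨htS, htx ▸ x'.2⟩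
    have h1 := hind ⟨t, htP⟩
    have h2 : (⟨θ ⟨t, hPS htP⟩, hPP' ⟨t, htP⟩⟩ : P') = x' := Subtype.ext htx
    rw [h2] at h1
    rw [h1]
    have hle : Subgroup.zpowers t ≤ preimageAlong θ P' := by
      rw [Subgroup.zpowers_le]; exact htP
    have hle' : Subgroup.zpowers t ≤ T := by
      rw [Subgroup.zpowers_le]; exact ht
    have h3 := hT.2 _ hle' _ (Fusion.restrict_mem F hφ hle) ⟨t, Subgroup.mem_zpowers t⟩
    exact (Fusion.mem_imageAlong θ T _).mpr ⟨_, h3, hφS _, rfl⟩

/-- The preimage of a strongly closed subgroup under a morphism is strongly closed. -/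
theorem Fusion.preimageAlong_stronglyClosed (F : FusionSystem S) (θ : S →* Ω')
    (E : FusionSystem S') (hα : F.IsMorphism E θ) {Q' : Subgroup Ω'}
    (hQ' : E.StronglyClosed Q') : F.StronglyClosed (preimageAlong θ Q') := by
  refine ⟨Fusion.preimageAlong_le θ Q', ?_⟩
  intro P hP φ hφ x
  obtain ⟨φ', hφ', hPS, hφS, hPP', hind⟩ := hα.2 P φ hφ
  have hle : imageAlong θ P ≤ Q' := by
    intro y hy
    obtain ⟨t, ht, htS, rfl⟩ := (Fusion.mem_imageAlong θ P _).mp hy
    exact ((Fusion.mem_preimageAlong θ Q' t).mp (hP ht)).2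
  have h1 := hQ'.2 _ hle φ' hφ' ⟨θ ⟨x, hPS x.2⟩, hPP' x⟩
  rw [hind x] at h1
  exact (Fusion.mem_preimageAlong θ Q' _).mpr ⟨hφS x, h1⟩

/-- A chain of strongly closed subgroups with abelian quotients makes the system solvable. -/
theorem Fusion.solvable_of_chain [Finite S] (p : ℕ) [Fact p.Prime] (hS : IsPGroup p S)
    (F : FusionSystem S) (hF : F.IsSaturated p) (n : ℕ) (T : Fin (n + 1) → Subgroup Ω)
    (h0 : T 0 = ⊥) (hn : T (Fin.last n) = S) (hsc : ∀ i, F.StronglyClosed (T i))
    (hab : ∀ i : Fin n, ⁅T i.succ, T i.succ⁆ ≤ T (Fin.castSucc i)) : F.IsSolvableSystem := by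
  intro R hR hRS _ E hE
  have hEsm := Fusion.isSurjectiveMorphism_of_isFactorSystem p hS F hF R hR _ E hE
  have hEsat := Fusion.isSaturated_image p hS F hF E _ hEsm
  have hfin' : Finite (⊤ : Subgroup (S ⧸ R.subgroupOf S)) := inferInstance
  have hS' : IsPGroup p (⊤ : Subgroup (S ⧸ R.subgroupOf S)) :=
    (hS.to_quotient _).to_subgroup _
  rw [Fusion.core_ne_bot_iff p hS' E hEsat]
  -- find the first member of the chain not inside `R`
  have hex : ∃ i : Fin n, T (Fin.castSucc i) ≤ R ∧ ¬ T i.succ ≤ R := by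
    by_contra hcon
    push Not at hcon
    have hall : ∀ i : Fin (n + 1), T i ≤ R := by
      intro i
      induction i using Fin.induction with
      | zero => rw [h0]; exact bot_le
      | succ i ih => exact hcon i ih
    have := hall (Fin.last n)
    rw [hn] at this
    exact hRS (le_antisymm hR.1 this)
  obtain ⟨i, hi1, hi2⟩ := hex
  obtain ⟨hRS', hker, hrange, hHom⟩ := hE
  refine ⟨imageAlong _ (T i.succ), ?_, ?_,
    Fusion.imageAlong_stronglyClosed F _ E ⟨hRS', hker, hrange, hHom⟩ (hsc _)⟩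
  · intro hbot
    apply hi2
    intro t ht
    have htS : t ∈ S := (hsc i.succ).1 ht
    have h1 : (QuotientGroup.mk' (R.subgroupOf S)) ⟨t, htS⟩ ∈
        imageAlong (QuotientGroup.mk' (R.subgroupOf S)) (T i.succ) :=
      (Fusion.mem_imageAlong _ _ _).mpr ⟨t, ht, htS, rfl⟩
    rw [hbot, Subgroup.mem_bot] at h1
    exact (hker ⟨t, htS⟩).mp h1
  · constructor
    constructor
    rintro ⟨a, ha⟩ ⟨b, hb⟩
    obtain ⟨x, hx, hxS, rfl⟩ := (Fusion.mem_imageAlong _ _ _).mp ha
    obtain ⟨y, hy, hyS, rfl⟩ := (Fusion.mem_imageAlong _ _ _).mp hb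
    apply Subtype.ext
    show (QuotientGroup.mk' (R.subgroupOf S)) ⟨x, hxS⟩ * (QuotientGroup.mk' (R.subgroupOf S)) ⟨y, hyS⟩ =
      (QuotientGroup.mk' (R.subgroupOf S)) ⟨y, hyS⟩ * (QuotientGroup.mk' (R.subgroupOf S)) ⟨x, hxS⟩
    have h1 : ⁅x, y⁆ ∈ R := hi1 (hab i (Subgroup.commutator_mem_commutator hx hy))
    have h2 : (QuotientGroup.mk' (R.subgroupOf S)) (⁅(⟨x, hxS⟩ : S), ⟨y, hyS⟩⁆) = 1 :=
      (hker _).mpr h1
    rw [map_commutatorElement, commutatorElement_eq_one_iff_mul_comm] at h2
    exact h2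

/-- In a solvable saturated system every strongly closed subgroup is the start of a chain of
strongly closed subgroups reaching `S` with abelian quotients. -/
theorem Fusion.chain_of_solvable [Finite S] (p : ℕ) [Fact p.Prime] (hS : IsPGroup p S)
    (F : FusionSystem S) (hF : F.IsSaturated p) (h : F.IsSolvableSystem) :
    ∀ (k : ℕ) (R : Subgroup Ω), F.StronglyClosed R → Nat.card S - Nat.card R = k →
      ∃ (n : ℕ) (T : Fin (n + 1) → Subgroup Ω), T 0 = R ∧ T (Fin.last n) = S ∧
        (∀ i : Fin n, T (Fin.castSucc i) ≤ T i.succ) ∧ (∀ i, F.StronglyClosed (T i)) ∧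
        ∀ i : Fin n, ⁅T i.succ, T i.succ⁆ ≤ T (Fin.castSucc i) := by
  intro k
  induction k using Nat.strong_induction_on with
  | _ k ih =>
    intro R hR hk
    by_cases hRS : R = S
    · refine ⟨0, fun _ => R, rfl, hRS, fun i => i.elim0, fun _ => hR, fun i => i.elim0⟩
    · haveI hRn : (R.subgroupOf S).Normal :=
        (Subgroup.normal_subgroupOf_iff_le_normalizer hR.1).mpr
          (Fusion.le_normalizer_of_stronglyClosed F hR)
      have hker : ∀ s : S, (QuotientGroup.mk' (R.subgroupOf S)) s = 1 ↔ (s : Ω) ∈ R := by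
        intro s
        rw [QuotientGroup.mk'_apply, QuotientGroup.eq_one_iff, Subgroup.mem_subgroupOf]
      have hr : (QuotientGroup.mk' (R.subgroupOf S)).range = ⊤ :=
        MonoidHom.range_eq_top.mpr (QuotientGroup.mk'_surjective _)
      have hE := Fusion.factorSystem_isFactorSystem F _ hR hker hr
      have hcore := h R hR hRS _ hE
      have hEsm := Fusion.isSurjectiveMorphism_of_isFactorSystem p hS F hF R hR _ _ hE
      have hEsat := Fusion.isSaturated_image p hS F hF _ _ hEsm
      have hS' : IsPGroup p (⊤ : Subgroup (S ⧸ R.subgroupOf S)) :=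
        (hS.to_quotient _).to_subgroup _
      rw [Fusion.core_ne_bot_iff p hS' _ hEsat] at hcore
      obtain ⟨Q', hQ'ne, hQ'ab, hQ'sc⟩ := hcore
      have hR'sc := Fusion.preimageAlong_stronglyClosed F _ _ hEsm.1 hQ'sc
      set R' := preimageAlong (QuotientGroup.mk' (R.subgroupOf S)) Q' with hR'
      have hRR' : R ≤ R' := by
        intro t ht
        refine (Fusion.mem_preimageAlong _ _ _).mpr ⟨hR.1 ht, ?_⟩
        rw [(hker ⟨t, hR.1 ht⟩).mpr ht]
        exact Subgroup.one_mem _
      have hne : ¬ R' ≤ R := by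
        intro hle
        apply hQ'ne
        rw [eq_bot_iff]
        intro q hq
        have hq' : q ∈ (QuotientGroup.mk' (R.subgroupOf S)).range := hr ▸ Subgroup.mem_top q
        obtain ⟨s, rfl⟩ := hq'
        have hs : (s : Ω) ∈ R' := (Fusion.mem_preimageAlong _ _ _).mpr ⟨s.2, hq⟩
        rw [Subgroup.mem_bot]
        exact (hker s).mpr (hle hs)
      have hR'S : R' ≤ S := hR'sc.1
      have hfinR' : Finite R' := Fusion.finite_of_le hR'S
      have hcard1 : Nat.card R < Nat.card R' := by
        by_contra hcon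
        push Not at hcon
        have := Subgroup.eq_of_le_of_card_ge hRR' hcon
        exact hne this.ge
      have hcard2 : Nat.card R' ≤ Nat.card S :=
        Nat.card_le_card_of_injective (Subgroup.inclusion hR'S) (Subgroup.inclusion_injective hR'S)
      obtain ⟨n, T, hT0, hTn, hTmono, hTsc, hTab⟩ :=
        ih (Nat.card S - Nat.card R') (by omega) R' hR'sc rfl
      have hcomm : ⁅R', R'⁆ ≤ R := by
        rw [Subgroup.commutator_le]
        intro a ha b hb
        obtain ⟨haS, haQ⟩ := (Fusion.mem_preimageAlong _ _ _).mp ha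
        obtain ⟨hbS, hbQ⟩ := (Fusion.mem_preimageAlong _ _ _).mp hb
        have h1 : (QuotientGroup.mk' (R.subgroupOf S)) (⁅(⟨a, haS⟩ : S), ⟨b, hbS⟩⁆) = 1 := by
          rw [map_commutatorElement, commutatorElement_eq_one_iff_mul_comm]
          have := hQ'ab.is_comm.comm ⟨_, haQ⟩ ⟨_, hbQ⟩
          exact congrArg Subtype.val this
        exact (hker _).mp h1
      refine ⟨n + 1, Fin.cons (α := fun _ => Subgroup Ω) R T, ?_, ?_, ?_, ?_, ?_⟩
      · rfl
      · rw [← Fin.succ_last, Fin.cons_succ]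
        exact hTn
      · intro i
        induction i using Fin.cases with
        | zero =>
          rw [Fin.castSucc_zero, Fin.cons_zero, Fin.cons_succ, hT0]
          exact hRR'
        | succ j =>
          rw [← Fin.succ_castSucc, Fin.cons_succ, Fin.cons_succ]
          exact hTmono j
      · intro i
        induction i using Fin.cases with
        | zero => rw [Fin.cons_zero]; exact hR
        | succ j => rw [Fin.cons_succ]; exact hTsc j
      · intro i
        induction i using Fin.cases with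
        | zero =>
          rw [Fin.castSucc_zero, Fin.cons_zero, Fin.cons_succ, hT0]
          exact hcomm
        | succ j =>
          rw [← Fin.succ_castSucc, Fin.cons_succ, Fin.cons_succ]
          exact hTab j

/-- Solvable iff a chain of strongly closed subgroups with abelian quotients. -/
theorem Fusion.solvable_iff_chain [Finite S] (p : ℕ) [Fact p.Prime] (hS : IsPGroup p S)
    (F : FusionSystem S) (hF : F.IsSaturated p) :
    F.IsSolvableSystem ↔ ∃ (n : ℕ) (T : Fin (n + 1) → Subgroup Ω), T 0 = ⊥ ∧ T (Fin.last n) = S ∧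
      Monotone T ∧ (∀ i, F.StronglyClosed (T i)) ∧
      ∀ i : Fin n, ⁅T i.succ, T i.succ⁆ ≤ T (Fin.castSucc i) := by
  constructor
  · intro h
    obtain ⟨n, T, h0, hn, hmono, hsc, hab⟩ :=
      Fusion.chain_of_solvable p hS F hF h _ ⊥ (Fusion.bot_stronglyClosed F) rfl
    exact ⟨n, T, h0, hn, Fin.monotone_iff_le_succ.mpr hmono, hsc, hab⟩
  · rintro ⟨n, T, h0, hn, -, hsc, hab⟩
    exact Fusion.solvable_of_chain p hS F hF n T h0 hn hsc hab

end Cfsg.Agent.Lead
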