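import Mathlib
import Cfsg.Prelude.Def_FusionComponents
import Cfsg.Agent.Lead.FusionSolvable
import Cfsg.Agent.Lead.FusionNormalCrit
import Cfsg.Agent.Lead.FusionConstrSub
import Cfsg.Agent.Lead.FusionWeak

set_option autoImplicit false

namespace Cfsg.Agent.Lead

open Cfsg Cfsg.FusionSystem
open scoped commutatorElement

variable {Ω : Type*} [Group Ω] {S : Subgroup Ω}

/-- Elements of a product `T Q` with `Q` normalized by `T`. -/
theorem mem_sup_iff_of_le_normalizer {T Q : Subgroup Ω}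
    (h : T ≤ Subgroup.normalizer (Q : Set Ω)) (x : Ω) :
    x ∈ T ⊔ Q ↔ ∃ t ∈ T, ∃ q ∈ Q, x = t * q := by
  have h1 := Subgroup.coe_mul_of_left_le_normalizer_right T Q h
  have h2 : x ∈ T ⊔ Q ↔ x ∈ ((T ⊔ Q : Subgroup Ω) : Set Ω) := Iff.rfl
  rw [h2, h1, Set.mem_mul]
  constructor
  · rintro ⟨t, ht, q, hq, rfl⟩
    exact ⟨t, ht, q, hq, rfl⟩
  · rintro ⟨t, ht, q, hq, rfl⟩
    exact ⟨t, ht, q, hq, rfl⟩

/-- If `Q` is normal in the system and `T` is strongly closed, then `T Q` is strongly closed. -/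
theorem Fusion.sup_stronglyClosed_of_isNormal [Finite S] (F : FusionSystem S) {Q T : Subgroup Ω}
    (hQ : F.IsNormal Q) (hT : F.StronglyClosed T) : F.StronglyClosed (T ⊔ Q) := by
  have hQsc := Fusion.stronglyClosed_of_isNormal F hQ
  have hSQ := Fusion.le_normalizer_of_stronglyClosed F hQsc
  have hTQ : T ≤ Subgroup.normalizer (Q : Set Ω) := hT.1.trans hSQ
  refine ⟨sup_le hT.1 hQ.1, ?_⟩
  intro P hP φ hφ x
  obtain ⟨ψ, hψ, hψP, hψQ⟩ := hQ.2 P φ hφ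
  obtain ⟨t, ht, q, hq, hx⟩ := (mem_sup_iff_of_le_normalizer hTQ _).mp (hP x.2)
  have hqPQ : q ∈ P ⊔ Q := (le_sup_right : Q ≤ P ⊔ Q) hq
  have hxPQ : (x : Ω) ∈ P ⊔ Q := (le_sup_left : P ≤ P ⊔ Q) x.2
  have htPQ : t ∈ P ⊔ Q := by
    have : t = (x : Ω) * q⁻¹ := by rw [hx]; group
    rw [this]
    exact Subgroup.mul_mem _ hxPQ (Subgroup.inv_mem _ hqPQ)
  have h1 : φ x = ψ ⟨t, htPQ⟩ * ψ ⟨q, hqPQ⟩ := by
    rw [← hψP x, ← map_mul]
    congr 1
    exact Subtype.ext hx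
  rw [h1]
  have hle : Subgroup.zpowers t ≤ P ⊔ Q := by rw [Subgroup.zpowers_le]; exact htPQ
  have hle' : Subgroup.zpowers t ≤ T := by rw [Subgroup.zpowers_le]; exact ht
  have h2 : ψ ⟨t, htPQ⟩ ∈ T :=
    hT.2 _ hle' _ (Fusion.restrict_mem F hψ hle) ⟨t, Subgroup.mem_zpowers t⟩
  have h3 : ψ ⟨q, hqPQ⟩ ∈ Q :=
    hψQ.le ⟨⟨q, hqPQ⟩, Subgroup.mem_subgroupOf.mpr hq, rfl⟩
  exact Subgroup.mul_mem_sup h2 h3

/-- If `Q` is normal in the system then `Q C_S(Q)` is strongly closed. -/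
theorem Fusion.sup_centralizerIn_stronglyClosed [Finite S] (F : FusionSystem S) {Q : Subgroup Ω}
    (hQ : F.IsNormal Q) : F.StronglyClosed (centralizerIn S Q ⊔ Q) := by
  have hQsc := Fusion.stronglyClosed_of_isNormal F hQ
  have hSQ := Fusion.le_normalizer_of_stronglyClosed F hQsc
  have hCS : centralizerIn S Q ≤ S := inf_le_left
  have hCQ : centralizerIn S Q ≤ Subgroup.normalizer (Q : Set Ω) := hCS.trans hSQ
  refine ⟨sup_le hCS hQ.1, ?_⟩
  intro P hP φ hφ x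
  obtain ⟨ψ, hψ, hψP, hψQ⟩ := hQ.2 P φ hφ
  obtain ⟨c, hc, q, hq, hx⟩ := (mem_sup_iff_of_le_normalizer hCQ _).mp (hP x.2)
  have hqPQ : q ∈ P ⊔ Q := (le_sup_right : Q ≤ P ⊔ Q) hq
  have hxPQ : (x : Ω) ∈ P ⊔ Q := (le_sup_left : P ≤ P ⊔ Q) x.2
  have hcPQ : c ∈ P ⊔ Q := by
    have : c = (x : Ω) * q⁻¹ := by rw [hx]; group
    rw [this]
    exact Subgroup.mul_mem _ hxPQ (Subgroup.inv_mem _ hqPQ)
  have h1 : φ x = ψ ⟨c, hcPQ⟩ * ψ ⟨q, hqPQ⟩ := by
    rw [← hψP x, ← map_mul]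
    congr 1
    exact Subtype.ext hx
  rw [h1]
  have h3 : ψ ⟨q, hqPQ⟩ ∈ Q :=
    hψQ.le ⟨⟨q, hqPQ⟩, Subgroup.mem_subgroupOf.mpr hq, rfl⟩
  have h2 : ψ ⟨c, hcPQ⟩ ∈ centralizerIn S Q := by
    refine ⟨Fusion.map_mem F hψ _, Subgroup.mem_centralizer_iff.mpr ?_⟩
    intro y hy
    have hy' : y ∈ (Q.subgroupOf (P ⊔ Q)).map ψ := hψQ.ge hy
    obtain ⟨y', hy'Q, rfl⟩ := hy'
    rw [SetLike.mem_coe, Subgroup.mem_subgroupOf] at hy'Q
    have hcomm : (y' : Ω) * c = c * (y' : Ω) := (Subgroup.mem_centralizer_iff.mp hc.2) _ hy'Q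
    rw [← map_mul, ← map_mul]
    congr 1
    exact Subtype.ext hcomm
  exact Subgroup.mul_mem_sup h2 h3

theorem Fusion.inf_stronglyClosed (F : FusionSystem S) {A B : Subgroup Ω}
    (hA : F.StronglyClosed A) (hB : F.StronglyClosed B) : F.StronglyClosed (A ⊓ B) :=
  ⟨inf_le_left.trans hA.1, fun R hR φ hφ x =>
    ⟨hA.2 R (hR.trans inf_le_left) φ hφ x, hB.2 R (hR.trans inf_le_right) φ hφ x⟩⟩

/-- Commutators in `T' Q` modulo `T Q`. -/
theorem commutator_sup_le {S T' T Q : Subgroup Ω} (hT'S : T' ≤ S) (hQS : Q ≤ S)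
    (hSQ : S ≤ Subgroup.normalizer (Q : Set Ω)) (hab : ⁅T', T'⁆ ≤ T) :
    ⁅T' ⊔ Q, T' ⊔ Q⁆ ≤ T ⊔ Q := by
  have hT'Q : T' ≤ Subgroup.normalizer (Q : Set Ω) := hT'S.trans hSQ
  have hconj : ∀ s ∈ S, ∀ q ∈ Q, s * q * s⁻¹ ∈ Q := fun s hs q hq =>
    (Subgroup.mem_normalizer_iff.mp (hSQ hs) q).mp hq
  rw [Subgroup.commutator_le]
  intro x hx y hy
  obtain ⟨t, ht, q, hq, rfl⟩ := (mem_sup_iff_of_le_normalizer hT'Q _).mp hx
  obtain ⟨t', ht', q', hq', rfl⟩ := (mem_sup_iff_of_le_normalizer hT'Q _).mp hy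
  have htS := hT'S ht
  have ht'S := hT'S ht'
  have h1 : ⁅t, t'⁆ ∈ T := hab (Subgroup.commutator_mem_commutator ht ht')
  have h2 : (t' * t * t'⁻¹) * q * (t' * t * t'⁻¹)⁻¹ ∈ Q :=
    hconj _ (S.mul_mem (S.mul_mem ht'S htS) (S.inv_mem ht'S)) q hq
  have h3 : (t' * t) * (q' * q⁻¹) * (t' * t)⁻¹ ∈ Q :=
    hconj _ (S.mul_mem ht'S htS) _ (Q.mul_mem hq' (Q.inv_mem hq))
  have h4 : t' * q'⁻¹ * t'⁻¹ ∈ Q := hconj _ ht'S _ (Q.inv_mem hq')
  have e : ⁅t * q, t' * q'⁆ = ⁅t, t'⁆ * (((t' * t * t'⁻¹) * q * (t' * t * t'⁻¹)⁻¹) *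
      ((t' * t) * (q' * q⁻¹) * (t' * t)⁻¹) * (t' * q'⁻¹ * t'⁻¹)) := by
    simp only [commutatorElement_def]
    group
  rw [e]
  exact Subgroup.mul_mem_sup h1 (Q.mul_mem (Q.mul_mem h2 h3) h4)

/-- A solvable saturated system is constrained. -/
theorem Fusion.isConstrained_of_solvable [Finite S] (p : ℕ) [Fact p.Prime] (hS : IsPGroup p S)
    (F : FusionSystem S) (hF : F.IsSaturated p) (h : F.IsSolvableSystem) : F.IsConstrained p := by
  have hQn : F.IsNormal F.core := Fusion.core_isNormal F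
  have hQS : F.core ≤ S := hQn.1
  have hQsc := Fusion.stronglyClosed_of_isNormal F hQn
  have hSQ := Fusion.le_normalizer_of_stronglyClosed F hQsc
  have hCS : centralizerIn S F.core ≤ S := inf_le_left
  have hCQ : centralizerIn S F.core ≤ Subgroup.normalizer (F.core : Set Ω) := hCS.trans hSQ
  refine ⟨hF, F.core, hQn, hQS, ?_⟩
  rintro Q' ⟨φ, hφ, hr⟩
  have hQ'eq : Q' = F.core := by
    rw [← hr]
    exact (Fusion.weaklyClosed_of_stronglyClosed F hQsc).2 φ hφ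
  rw [hQ'eq]
  by_contra hcon
  obtain ⟨n, T, h0, hn, hmono, hsc, hab⟩ := (Fusion.solvable_iff_chain p hS F hF).mp h
  -- the chain `A i`
  have hA0 : (centralizerIn S F.core ⊔ F.core) ⊓ (T 0 ⊔ F.core) ≤ F.core := by
    rw [h0, bot_sup_eq]
    exact inf_le_right
  have hAlast : ¬ (centralizerIn S F.core ⊔ F.core) ⊓ (T (Fin.last n) ⊔ F.core) ≤ F.core := by
    rw [hn]
    intro hle
    apply hcon
    intro c hc
    exact hle ⟨(le_sup_left : centralizerIn S F.core ≤ _) hc,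
      (le_sup_left : S ≤ S ⊔ F.core) (hCS hc)⟩
  have hex : ∃ i : Fin n,
      (centralizerIn S F.core ⊔ F.core) ⊓ (T (Fin.castSucc i) ⊔ F.core) ≤ F.core ∧
      ¬ (centralizerIn S F.core ⊔ F.core) ⊓ (T i.succ ⊔ F.core) ≤ F.core := by
    by_contra hno
    push Not at hno
    have hall : ∀ i : Fin (n + 1),
        (centralizerIn S F.core ⊔ F.core) ⊓ (T i ⊔ F.core) ≤ F.core := by
      intro i
      induction i using Fin.induction with
      | zero => exact hA0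
      | succ i ih => exact hno i ih
    exact hAlast (hall _)
  obtain ⟨i, hi1, hi2⟩ := hex
  apply hi2
  have hXsc : F.StronglyClosed ((centralizerIn S F.core ⊔ F.core) ⊓ (T i.succ ⊔ F.core)) :=
    Fusion.inf_stronglyClosed F (Fusion.sup_centralizerIn_stronglyClosed F hQn)
      (Fusion.sup_stronglyClosed_of_isNormal F hQn (hsc _))
  have hXn : F.IsNormal ((centralizerIn S F.core ⊔ F.core) ⊓ (T i.succ ⊔ F.core)) := by
    apply Fusion.isNormal_of_centralizer_mul p hS F hF hQn hXsc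
    · intro x hx
      obtain ⟨c, hc, q, hq, rfl⟩ := (mem_sup_iff_of_le_normalizer hCQ _).mp hx.1
      exact ⟨c, hc.2, q, hq, rfl⟩
    · refine le_trans ?_ hi1
      apply le_inf
      · exact (Subgroup.commutator_mono inf_le_left inf_le_left).trans
          (Subgroup.commutator_le_self _)
      · exact (Subgroup.commutator_mono inf_le_right inf_le_right).trans
          (commutator_sup_le (hsc i.succ).1 hQS hSQ (hab i))
  exact le_sSup hXn

end Cfsg.Agent.Lead
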