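import Mathlib
import Cfsg.Agent.Helper7.ExchangeWords

set_option autoImplicit false

/-!
Combinatorics of a group generated by involutions with the exchange property:
right exchange, minimal double coset representatives, suffixes and the longest element.
-/

namespace Cfsg.Agent.Lead.CoxComb

open Cfsg.Agent.Helper7.InvWords

variable {W : Type*} [Group W]

/-- `R` is a set of involutions generating `W`, with the exchange property. -/
structure Sys (R : Set W) : Prop where
  invol : Invol R
  exch : Exchange R
  one_not_mem : (1 : W) ∉ R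
  gen : Subgroup.closure R = ⊤

variable {R : Set W}

theorem Sys.mem (h : Sys R) (w : W) : w ∈ Subgroup.closure R := by
  rw [h.gen]
  exact Subgroup.mem_top w

theorem Sys.len_inv (h : Sys R) (w : W) : len R w⁻¹ = len R w :=
  Helper7.InvWords.len_inv h.invol (h.mem w)

theorem Sys.len_mul_le (h : Sys R) (a b : W) : len R (a * b) ≤ len R a + len R b :=
  Helper7.InvWords.len_mul_le h.invol (h.mem a) (h.mem b)

theorem Sys.len_eq_zero_iff (h : Sys R) {w : W} : len R w = 0 ↔ w = 1 :=
  Helper7.InvWords.len_eq_zero_iff h.invol (h.mem w)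

theorem Sys.exists_reduced (h : Sys R) (w : W) :
    ∃ l : List W, IsWord R l ∧ l.prod = w ∧ l.length = len R w :=
  exists_reduced_word h.invol (h.mem w)

theorem Sys.len_gen_mul_ne (h : Sys R) {r : W} (hr : r ∈ R) (w : W) :
    len R (r * w) ≠ len R w := by
  intro heq
  obtain ⟨l, hl, hlw, hlen⟩ := h.exists_reduced w
  subst hlw
  obtain ⟨i, hi, he⟩ := h.exch l r hl hr hlen (le_of_eq heq)
  have h1 : len R (r * l.prod) ≤ (l.eraseIdx i).length := by
    rw [he]
    exact len_le_of_word (IsWord.sublist (List.eraseIdx_sublist l i) hl)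
  rw [List.length_eraseIdx_of_lt hi] at h1
  omega

theorem Sys.len_mul_gen_ne (h : Sys R) {r : W} (hr : r ∈ R) (w : W) :
    len R (w * r) ≠ len R w := by
  have := h.len_gen_mul_ne hr w⁻¹
  have e1 : len R (w * r) = len R (r * w⁻¹) := by
    rw [← h.len_inv (w * r), mul_inv_rev, h.invol.inv_eq hr]
  rw [e1, ← h.len_inv w]
  exact this

theorem Sys.len_gen_mul (h : Sys R) {r : W} (hr : r ∈ R) (w : W) :
    len R (r * w) = len R w + 1 ∨ len R (r * w) + 1 = len R w := by
  have h1 := len_gen_mul_le h.invol hr (h.mem w)
  have h2 := len_le_gen_mul h.invol hr (h.mem w)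
  have h3 := h.len_gen_mul_ne hr w
  omega

theorem Sys.len_mul_gen (h : Sys R) {r : W} (hr : r ∈ R) (w : W) :
    len R (w * r) = len R w + 1 ∨ len R (w * r) + 1 = len R w := by
  have h1 := len_mul_gen_le h.invol hr (h.mem w)
  have h2 := len_le_mul_gen h.invol hr (h.mem w)
  have h3 := h.len_mul_gen_ne hr w
  omega

/-- Right exchange, in sublist form. -/
theorem Sys.right_exchange (h : Sys R) {l : List W} (hl : IsWord R l)
    (hred : l.length = len R l.prod) {r : W} (hr : r ∈ R)
    (hle : len R (l.prod * r) ≤ len R l.prod) :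
    ∃ l' : List W, l'.Sublist l ∧ l'.length + 1 = l.length ∧ l'.prod = l.prod * r := by
  have hrev : IsWord R l.reverse := isWord_reverse.mpr hl
  have hprod : l.reverse.prod = l.prod⁻¹ := prod_reverse_of_invol h.invol hl
  have hred' : l.reverse.length = len R l.reverse.prod := by
    rw [List.length_reverse, hprod, h.len_inv]
    exact hred
  have hle' : len R (r * l.reverse.prod) ≤ len R l.reverse.prod := by
    rw [hprod, h.len_inv]
    have e : r * l.prod⁻¹ = (l.prod * r)⁻¹ := by rw [mul_inv_rev, h.invol.inv_eq hr]
    rw [e, h.len_inv]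
    exact hle
  obtain ⟨i, hi, he⟩ := h.exch l.reverse r hrev hr hred' hle'
  refine ⟨(l.reverse.eraseIdx i).reverse, ?_, ?_, ?_⟩
  · have := (List.eraseIdx_sublist l.reverse i).reverse
    rwa [List.reverse_reverse] at this
  · rw [List.length_reverse, List.length_eraseIdx_of_lt hi, List.length_reverse]
    rw [List.length_reverse] at hi
    omega
  · have hw' : IsWord R (l.reverse.eraseIdx i) :=
      IsWord.sublist (List.eraseIdx_sublist _ _) hrev
    rw [prod_reverse_of_invol h.invol hw', ← he, hprod, mul_inv_rev, inv_inv,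
      h.invol.inv_eq hr]

/-- A reduced word (over `R`) of an element of the subgroup generated by `J ⊆ R`, with letters in `J`. -/
theorem Sys.exists_reduced_sub (h : Sys R) {J : Set W} (hJ : J ⊆ R) {a : W}
    (ha : a ∈ Subgroup.closure J) :
    ∃ l : List W, IsWord J l ∧ l.prod = a ∧ l.length = len R a := by
  have hJi : Invol J := fun r hr => h.invol r (hJ hr)
  obtain ⟨l, hl, hla, hlen⟩ := exists_reduced_word hJi ha
  exact ⟨l, hl, hla, by rw [hlen, len_sub_eq h.invol h.exch hJ ha]⟩

theorem exists_min_len (S : Set W) (hS : S.Nonempty) (f : W → ℕ) :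
    ∃ w ∈ S, ∀ w' ∈ S, f w ≤ f w' := by
  obtain ⟨w, hw, hmin⟩ := (measure f).wf.has_min S hS
  refine ⟨w, hw, fun w' hw' => ?_⟩
  have : ¬ (f w' < f w) := hmin w' hw'
  omega

/-- Additivity of lengths in a double coset relative to an element of minimal length. -/
theorem Sys.double_coset_add (h : Sys R) {J K : Set W} (hJ : J ⊆ R) (hK : K ⊆ R) {w : W}
    (hmin : ∀ a ∈ Subgroup.closure J, ∀ b ∈ Subgroup.closure K, len R w ≤ len R (a * w * b)) :
    ∀ (n : ℕ) (a b : W), a ∈ Subgroup.closure J → b ∈ Subgroup.closure K →
      len R a + len R b = n →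
      ∃ a' ∈ Subgroup.closure J, ∃ b' ∈ Subgroup.closure K, a * w * b = a' * w * b' ∧
        len R (a * w * b) = len R a' + len R w + len R b' := by
  intro n
  induction n using Nat.strong_induction_on with
  | _ n ih =>
    intro a b ha hb hn
    by_cases hadd : len R (a * w * b) = len R a + len R w + len R b
    · exact ⟨a, ha, b, hb, rfl, hadd⟩
    · obtain ⟨la, hla, hpa, hlena⟩ := h.exists_reduced_sub hJ ha
      obtain ⟨lw, hlw, hpw, hlenw⟩ := h.exists_reduced w
      obtain ⟨lb, hlb, hpb, hlenb⟩ := h.exists_reduced_sub hK hb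
      have hword : IsWord R (la ++ lw ++ lb) :=
        isWord_append.mpr ⟨isWord_append.mpr ⟨hla.mono hJ, hlw⟩, hlb.mono hK⟩
      have hprod : (la ++ lw ++ lb).prod = a * w * b := by
        rw [List.prod_append, List.prod_append, hpa, hpw, hpb]
      have hlt : len R (la ++ lw ++ lb).prod < (la ++ lw ++ lb).length := by
        have h1 := len_le_of_word hword
        rw [hprod] at h1 ⊢
        rw [List.length_append, List.length_append, hlena, hlenw, hlenb] at h1 ⊢
        omega
      obtain ⟨l', hsub, hlen', hprod'⟩ := deletion h.invol h.exch _ hword hlt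
      obtain ⟨l12, l3, rfl, h12, h3⟩ := List.sublist_append_iff.mp hsub
      obtain ⟨l1, l2, rfl, h1, h2⟩ := List.sublist_append_iff.mp h12
      have hw1 : IsWord J l1 := IsWord.sublist h1 hla
      have hw3 : IsWord K l3 := IsWord.sublist h3 hlb
      have hw2 : IsWord R l2 := IsWord.sublist h2 hlw
      have ha1 : l1.prod ∈ Subgroup.closure J := hw1.prod_mem_closure
      have hb1 : l3.prod ∈ Subgroup.closure K := hw3.prod_mem_closure
      have hp : l1.prod * l2.prod * l3.prod = a * w * b := by
        rw [← hprod, ← hprod', List.prod_append, List.prod_append]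
      have hl2 : l2.prod = (l1.prod⁻¹ * a) * w * (b * l3.prod⁻¹) := by
        have : l2.prod = l1.prod⁻¹ * (l1.prod * l2.prod * l3.prod) * l3.prod⁻¹ := by group
        rw [this, hp]
        group
      have hge : len R w ≤ len R l2.prod := by
        rw [hl2]
        exact hmin _ (Subgroup.mul_mem _ (Subgroup.inv_mem _ ha1) ha) _
          (Subgroup.mul_mem _ hb (Subgroup.inv_mem _ hb1))
      have hle2 : len R l2.prod ≤ l2.length := len_le_of_word hw2
      have hle2' : l2.length ≤ lw.length := h2.length_le
      have heq2 : l2 = lw := h2.eq_of_length (by omega)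
      subst heq2
      have hlens : l1.length + l3.length + 2 = la.length + lb.length := by
        simp only [List.length_append] at hlen'
        omega
      have hl1 : len R l1.prod ≤ l1.length := len_le_of_word (hw1.mono hJ)
      have hl3 : len R l3.prod ≤ l3.length := len_le_of_word (hw3.mono hK)
      have hlt' : len R l1.prod + len R l3.prod < n := by omega
      obtain ⟨a', ha', b', hb', he, hadd'⟩ := ih _ hlt' l1.prod l3.prod ha1 hb1 rfl
      rw [hpw] at hp
      rw [hp] at he hadd'
      exact ⟨a', ha', b', hb', he, hadd'⟩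

end Cfsg.Agent.Lead.CoxComb
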