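import Mathlib
import Cfsg.Agent.Lead.CoxCombA

set_option autoImplicit false

/-!
Distinguished double coset representatives, suffixes and the longest element.
-/

namespace Cfsg.Agent.Lead.CoxComb

open Cfsg.Agent.Helper7.InvWords

variable {W : Type*} [Group W] {R : Set W}

/-- The elements with no left descent in `J` and no right descent in `K`. -/
def DD (R J K : Set W) : Set W :=
  {w | (∀ r ∈ J, len R w < len R (r * w)) ∧ (∀ r ∈ K, len R w < len R (w * r))}

/-- An element of `DD` lying in the double coset of an element of minimal length equals it. -/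
theorem Sys.eq_of_mem_DD_of_min (h : Sys R) {J K : Set W} (hJ : J ⊆ R) (hK : K ⊆ R) {m v : W}
    (hmin : ∀ a ∈ Subgroup.closure J, ∀ b ∈ Subgroup.closure K, len R m ≤ len R (a * m * b))
    (hv : v ∈ DD R J K) {a b : W} (ha : a ∈ Subgroup.closure J) (hb : b ∈ Subgroup.closure K)
    (hvm : v = a * m * b) : v = m := by
  obtain ⟨a', ha', b', hb', he, hadd⟩ := h.double_coset_add hJ hK hmin _ a b ha hb rfl
  rw [← hvm] at he hadd
  have ha1 : a' = 1 := by
    by_contra hne
    obtain ⟨l, hl, hpl, hlen⟩ := h.exists_reduced_sub hJ ha'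
    rcases l with _ | ⟨r, l⟩
    · exact hne (by rw [← hpl, List.prod_nil])
    · rw [isWord_cons] at hl
      have hrv : r * v = l.prod * m * b' := by
        rw [he, ← hpl, List.prod_cons]
        have : r * r = 1 := h.invol r (hJ hl.1)
        calc r * (r * l.prod * m * b') = (r * r) * l.prod * m * b' := by group
          _ = l.prod * m * b' := by rw [this, one_mul]
      have h1 : len R (r * v) ≤ len R l.prod + len R m + len R b' := by
        rw [hrv]
        have := h.len_mul_le (l.prod * m) b'
        have := h.len_mul_le l.prod m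
        omega
      have h2 : len R l.prod ≤ l.length := len_le_of_word (hl.2.mono hJ)
      have h3 := hv.1 r hl.1
      simp only [List.length_cons] at hlen
      omega
  have hb1 : b' = 1 := by
    by_contra hne
    obtain ⟨l, hl, hpl, hlen⟩ := h.exists_reduced_sub hK hb'
    rcases List.eq_nil_or_concat l with rfl | ⟨l0, r, rfl⟩
    · exact hne (by rw [← hpl, List.prod_nil])
    · rw [List.concat_eq_append, isWord_append] at hl
      have hr : r ∈ K := hl.2 r (by simp)
      have hvr : v * r = a' * m * l0.prod := by
        rw [he, ← hpl, List.concat_eq_append, List.prod_append, List.prod_singleton]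
        have : r * r = 1 := h.invol r (hK hr)
        calc a' * m * (l0.prod * r) * r = a' * m * l0.prod * (r * r) := by group
          _ = a' * m * l0.prod := by rw [this, mul_one]
      have h1 : len R (v * r) ≤ len R a' + len R m + len R l0.prod := by
        rw [hvr]
        have := h.len_mul_le (a' * m) l0.prod
        have := h.len_mul_le a' m
        omega
      have h2 : len R l0.prod ≤ l0.length := len_le_of_word (hl.1.mono hK)
      have h3 := hv.2 r hr
      rw [List.concat_eq_append, List.length_append, List.length_singleton] at hlen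
      omega
  rw [he, ha1, hb1, one_mul, mul_one]

/-- Every double coset contains an element of minimal length, which lies in `DD`. -/
theorem Sys.exists_min_mem_DD (h : Sys R) {J K : Set W} (hJ : J ⊆ R) (hK : K ⊆ R) (x : W) :
    ∃ m : W, m ∈ DD R J K ∧
      (∃ a ∈ Subgroup.closure J, ∃ b ∈ Subgroup.closure K, x = a * m * b) ∧
      ∀ a ∈ Subgroup.closure J, ∀ b ∈ Subgroup.closure K, len R m ≤ len R (a * m * b) := by
  set S : Set W := {y | ∃ a ∈ Subgroup.closure J, ∃ b ∈ Subgroup.closure K, y = a * x * b} with hS
  have hne : S.Nonempty := ⟨x, 1, one_mem _, 1, one_mem _, by group⟩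
  obtain ⟨m, hm, hmin⟩ := exists_min_len S hne (len R)
  obtain ⟨a0, ha0, b0, hb0, hm0⟩ := hm
  have hmin' : ∀ a ∈ Subgroup.closure J, ∀ b ∈ Subgroup.closure K,
      len R m ≤ len R (a * m * b) := by
    intro a ha b hb
    apply hmin
    refine ⟨a * a0, Subgroup.mul_mem _ ha ha0, b0 * b, Subgroup.mul_mem _ hb0 hb, ?_⟩
    rw [hm0]
    group
  refine ⟨m, ⟨?_, ?_⟩, ?_, hmin'⟩
  · intro r hr
    have h1 := hmin' r (Subgroup.subset_closure hr) 1 (one_mem _)
    rw [mul_one] at h1
    have h2 := h.len_gen_mul_ne (hJ hr) m
    omega
  · intro r hr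
    have h1 := hmin' 1 (one_mem _) r (Subgroup.subset_closure hr)
    rw [one_mul] at h1
    have h2 := h.len_mul_gen_ne (hK hr) m
    omega
  · refine ⟨a0⁻¹, Subgroup.inv_mem _ ha0, b0⁻¹, Subgroup.inv_mem _ hb0, ?_⟩
    rw [hm0]
    group

/-- Two elements of `DD` in the same double coset are equal. -/
theorem Sys.eq_of_mem_DD (h : Sys R) {J K : Set W} (hJ : J ⊆ R) (hK : K ⊆ R) {w w' : W}
    (hw : w ∈ DD R J K) (hw' : w' ∈ DD R J K) {a b : W} (ha : a ∈ Subgroup.closure J)
    (hb : b ∈ Subgroup.closure K) (he : w' = a * w * b) : w = w' := by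
  obtain ⟨m, -, ⟨a0, ha0, b0, hb0, hm0⟩, hmin⟩ := h.exists_min_mem_DD hJ hK w
  have e1 : w = m := h.eq_of_mem_DD_of_min hJ hK hmin hw ha0 hb0 hm0
  have e2 : w' = m := by
    apply h.eq_of_mem_DD_of_min hJ hK hmin hw' (a := a * a0) (b := b0 * b)
      (Subgroup.mul_mem _ ha ha0) (Subgroup.mul_mem _ hb0 hb)
    rw [he, hm0]
    group
  rw [e1, e2]

/-- An element of `DD` has minimal length in its double coset. -/
theorem Sys.min_of_mem_DD (h : Sys R) {J K : Set W} (hJ : J ⊆ R) (hK : K ⊆ R) {w : W}
    (hw : w ∈ DD R J K) :
    ∀ a ∈ Subgroup.closure J, ∀ b ∈ Subgroup.closure K, len R w ≤ len R (a * w * b) := by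
  obtain ⟨m, -, ⟨a0, ha0, b0, hb0, hm0⟩, hmin⟩ := h.exists_min_mem_DD hJ hK w
  have e1 : w = m := h.eq_of_mem_DD_of_min hJ hK hmin hw ha0 hb0 hm0
  rw [e1]
  exact hmin

/-- Lengths add for a distinguished right coset representative. -/
theorem Sys.len_mul_of_mem_DD (h : Sys R) {K : Set W} (hK : K ⊆ R) {d : W}
    (hd : d ∈ DD R ∅ K) {b : W} (hb : b ∈ Subgroup.closure K) :
    len R (d * b) = len R d + len R b := by
  have hmin := h.min_of_mem_DD (Set.empty_subset R) hK hd
  obtain ⟨a', ha', b', hb', he, hadd⟩ :=
    h.double_coset_add (Set.empty_subset R) hK hmin _ 1 b (one_mem _) hb rfl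
  have ha1 : a' = 1 := by
    rw [Subgroup.closure_empty, Subgroup.mem_bot] at ha'
    exact ha'
  subst ha1
  simp only [one_mul] at he
  have hbb : b = b' := mul_left_cancel he
  subst hbb
  rw [one_mul] at hadd
  rw [hadd, len_one, zero_add]

/-- If every element of `K` is a right descent of `e`, every element of the subgroup generated
by `K` is a suffix of `e`. -/
theorem Sys.suffix_of_descents (h : Sys R) {K : Set W} (hK : K ⊆ R) {e : W}
    (hdesc : ∀ r ∈ K, len R (e * r) < len R e) :
    ∀ (n : ℕ) (c : W), c ∈ Subgroup.closure K → len R c = n →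
      len R e = len R (e * c⁻¹) + len R c := by
  intro n
  induction n with
  | zero =>
    intro c _ hc
    rw [h.len_eq_zero_iff] at hc
    subst hc
    rw [inv_one, mul_one, len_one, add_zero]
  | succ n ih =>
    intro c hcK hc
    obtain ⟨l, hl, hpl, hlen⟩ := h.exists_reduced_sub hK hcK
    rcases List.eq_nil_or_concat l with rfl | ⟨l0, x, rfl⟩
    · rw [List.length_nil] at hlen
      omega
    · rw [List.concat_eq_append, isWord_append] at hl
      rw [List.concat_eq_append, List.length_append, List.length_singleton] at hlen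
      rw [List.concat_eq_append, List.prod_append, List.prod_singleton] at hpl
      have hx : x ∈ K := hl.2 x (by simp)
      have hc0K : l0.prod ∈ Subgroup.closure K := hl.1.prod_mem_closure
      have hl0le : len R l0.prod ≤ l0.length := len_le_of_word (hl.1.mono hK)
      have hc0 : len R l0.prod = n := by
        have h1 := len_mul_gen_le h.invol (hK hx) (h.mem l0.prod)
        rw [hpl, hc] at h1
        omega
      have hIH := ih l0.prod hc0K hc0
      obtain ⟨V, hV, hpV, hlenV⟩ := h.exists_reduced (e * l0.prod⁻¹)
      have hLword : IsWord R (V ++ l0) := isWord_append.mpr ⟨hV, hl.1.mono hK⟩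
      have hLprod : (V ++ l0).prod = e := by
        rw [List.prod_append, hpV]
        group
      have hLred : (V ++ l0).length = len R (V ++ l0).prod := by
        rw [hLprod, List.length_append, hlenV, hIH]
        omega
      have hle : len R ((V ++ l0).prod * x) ≤ len R (V ++ l0).prod := by
        rw [hLprod]
        exact (hdesc x hx).le
      obtain ⟨L', hsub, hlen', hprod'⟩ := h.right_exchange hLword hLred (hK hx) hle
      obtain ⟨V', C', rfl, hV', hC'⟩ := List.sublist_append_iff.mp hsub
      rw [hLprod, List.prod_append] at hprod'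
      simp only [List.length_append] at hlen'
      have hVle := hV'.length_le
      have hCle := hC'.length_le
      have hxx : x * x = 1 := h.invol x (hK hx)
      by_cases hcase : C'.length = l0.length
      · have hCeq : C' = l0 := hC'.eq_of_length hcase
        subst hCeq
        have hec : e * c⁻¹ = V'.prod := by
          rw [← hpl, mul_inv_rev, h.invol.inv_eq (hK hx)]
          have : e = V'.prod * C'.prod * x := by
            rw [hprod', mul_assoc, hxx, mul_one]
          calc e * (x * C'.prod⁻¹) = (V'.prod * C'.prod * x) * (x * C'.prod⁻¹) := by rw [← this]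
            _ = V'.prod * C'.prod * (x * x) * C'.prod⁻¹ := by group
            _ = V'.prod := by rw [hxx]; group
        have h1 : len R (e * c⁻¹) ≤ V'.length := by
          rw [hec]
          exact len_le_of_word (IsWord.sublist hV' hV)
        have h2 : len R e ≤ len R (e * c⁻¹) + len R c := by
          have := h.len_mul_le (e * c⁻¹) c
          rwa [inv_mul_cancel_right] at this
        omega
      · exfalso
        have hVeq : V' = V := hV'.eq_of_length (by omega)
        subst hVeq
        have hcx : l0.prod * x = C'.prod := by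
          have : V'.prod * (l0.prod * x) = V'.prod * C'.prod := by
            rw [hprod', hpV]
            group
          exact mul_left_cancel this
        have h1 : len R c ≤ C'.length := by
          rw [← hpl, hcx]
          exact len_le_of_word (IsWord.sublist hC' (hl.1.mono hK))
        omega

/-- The longest element of a finite group with the exchange property, and its uniqueness. -/
theorem Sys.exists_longest (h : Sys R) [Finite W] :
    ∃ w0 : W, (∀ r ∈ R, len R (w0 * r) < len R w0) ∧ (∀ r ∈ R, len R (r * w0) < len R w0) ∧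
      (∀ w : W, len R w ≤ len R w0) ∧
      ∀ w : W, (∀ r ∈ R, len R (w * r) < len R w) → w = w0 := by
  obtain ⟨w0, hmax⟩ := Finite.exists_max (len R : W → ℕ)
  refine ⟨w0, ?_, ?_, hmax, ?_⟩
  · intro r hr
    have h1 := hmax (w0 * r)
    have h2 := h.len_mul_gen_ne hr w0
    omega
  · intro r hr
    have h1 := hmax (r * w0)
    have h2 := h.len_gen_mul_ne hr w0
    omega
  · intro w hw
    have h1 := h.suffix_of_descents (le_refl R) hw _ w0 (h.mem w0) rfl
    have h2 := hmax w
    have h3 : len R (w * w0⁻¹) = 0 := by omega
    rw [h.len_eq_zero_iff] at h3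
    exact mul_inv_eq_one.mp h3

end Cfsg.Agent.Lead.CoxComb
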