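import Mathlib
import Cfsg.Agent.Helper7.BNIndex
import Cfsg.Agent.Lead.CoxCombB

set_option autoImplicit false

/-!
Double cosets of parabolic subgroups in a group with a (B,N)-pair.
-/

namespace Cfsg.Agent.Lead.SteinBN

open Cfsg Cfsg.Agent.Helper7.BN Cfsg.Agent.Helper7.InvWords Cfsg.Agent.Lead.CoxComb

variable {G : Type*} [Group G] (P : Cfsg.BNPair G)

theorem sys_RS : Sys (RS P) :=
  ⟨invol_RS P, exchange_RS P, one_not_mem_RS P, closure_RS P⟩

/-- If lengths add then `C(w) C(v) ⊆ C(w v)`. -/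
theorem CW_mul_of_add : ∀ (n : ℕ) (w v : W P), len (RS P) w = n →
    len (RS P) (w * v) = len (RS P) w + len (RS P) v →
    ∀ x ∈ CW P w, ∀ y ∈ CW P v, x * y ∈ CW P (w * v) := by
  intro n
  induction n with
  | zero =>
    intro w v hw _ x hx y hy
    have hw1 : w = 1 := (sys_RS P).len_eq_zero_iff.mp hw
    subst hw1
    rw [CW_one] at hx
    rw [one_mul]
    exact B_mul_CW P hy hx
  | succ n ih =>
    intro w v hw hadd x hx y hy
    obtain ⟨r, hr, w', _, hlen, rfl⟩ :=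
      exists_left_decomp (invol_RS P) (mem_closure_RS P w) hw
    have h1 := len_gen_mul_le (invol_RS P) hr (mem_closure_RS P (w' * v))
    have h2 := (sys_RS P).len_mul_le w' v
    rw [mul_assoc] at hadd
    have hadd' : len (RS P) (w' * v) = len (RS P) w' + len (RS P) v := by omega
    obtain ⟨x1, hx1, x2, hx2, rfl⟩ := CW_mul_decomp P hx
    have h3 := ih w' v hlen hadd' x2 hx2 y hy
    have hgood : Good P r (w' * v) := good_of_le P hr (by omega)
    have := hgood x1 hx1 _ h3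
    rwa [mul_assoc, mul_assoc]

/-- `C(a) C(w) ⊆ ⋃ C(a' w)` with `a'` in the subgroup generated by `RJ`. -/
theorem left_union {RJ : Set (W P)} (hRJ : RJ ⊆ RS P) : ∀ (n : ℕ) (a : W P),
    a ∈ Subgroup.closure RJ → len (RS P) a = n → ∀ (w : W P) (x y : G), x ∈ CW P a → y ∈ CW P w →
    ∃ a' ∈ Subgroup.closure RJ, x * y ∈ CW P (a' * w) := by
  intro n
  induction n with
  | zero =>
    intro a _ ha w x y hx hy
    have ha1 : a = 1 := (sys_RS P).len_eq_zero_iff.mp ha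
    subst ha1
    rw [CW_one] at hx
    exact ⟨1, one_mem _, by rw [one_mul]; exact B_mul_CW P hy hx⟩
  | succ n ih =>
    intro a haJ ha w x y hx hy
    obtain ⟨l, hl, hpl, hlen⟩ := (sys_RS P).exists_reduced_sub hRJ haJ
    rcases l with _ | ⟨r, l⟩
    · rw [List.length_nil] at hlen
      omega
    · rw [isWord_cons] at hl
      rw [List.prod_cons] at hpl
      simp only [List.length_cons] at hlen
      have hrR : r ∈ RS P := hRJ hl.1
      have hlJ : l.prod ∈ Subgroup.closure RJ := hl.2.prod_mem_closure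
      have hl1 : len (RS P) l.prod = n := by
        have h1 := len_le_of_word (hl.2.mono hRJ)
        have h2 := len_gen_mul_le (invol_RS P) hrR (mem_closure_RS P l.prod)
        rw [hpl] at h2
        omega
      rw [← hpl] at hx
      obtain ⟨x1, hx1, x2, hx2, rfl⟩ := CW_mul_decomp P hx
      obtain ⟨a1, ha1, h3⟩ := ih l.prod hlJ hl1 w x2 y hx2 hy
      have h4 := CW_T3_left P hrR hx1 h3
      rw [← mul_assoc x1 x2 y] at h4
      rcases h4 with h4 | h4
      · refine ⟨r * a1, Subgroup.mul_mem _ (Subgroup.subset_closure hl.1) ha1, ?_⟩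
        rwa [mul_assoc r a1 w]
      · exact ⟨a1, ha1, h4⟩

/-- `C(w) C(b) ⊆ ⋃ C(w b')` with `b'` in the subgroup generated by `RK`. -/
theorem right_union {RK : Set (W P)} (hRK : RK ⊆ RS P) : ∀ (n : ℕ) (b : W P),
    b ∈ Subgroup.closure RK → len (RS P) b = n → ∀ (w : W P) (x y : G), x ∈ CW P w → y ∈ CW P b →
    ∃ b' ∈ Subgroup.closure RK, x * y ∈ CW P (w * b') := by
  intro n b hbK hb w x y hx hy
  have hxi : x⁻¹ ∈ CW P w⁻¹ := CW_inv P hx
  have hyi : y⁻¹ ∈ CW P b⁻¹ := CW_inv P hy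
  obtain ⟨a', ha', h1⟩ := left_union P hRK n b⁻¹ (Subgroup.inv_mem _ hbK)
    (by rw [(sys_RS P).len_inv]; exact hb) w⁻¹ y⁻¹ x⁻¹ hyi hxi
  refine ⟨a'⁻¹, Subgroup.inv_mem _ ha', ?_⟩
  have := CW_inv P h1
  simpa using this

variable {J K : Set G}

/-- Elements of `P_J g P_K` lie in `C(a w b)` with `a ∈ W_J`, `b ∈ W_K`. -/
theorem double_union (hJ : J ⊆ P.S) (hK : K ⊆ P.S) {w : W P} {g p p' : G} (hg : g ∈ CW P w)
    (hp : p ∈ P.parabolic J) (hp' : p' ∈ P.parabolic K) :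
    ∃ a ∈ Subgroup.closure (Rset P J), ∃ b ∈ Subgroup.closure (Rset P K),
      p * g * p' ∈ CW P (a * w * b) := by
  obtain ⟨a0, ha0⟩ := exists_mem_CW P p
  obtain ⟨b0, hb0⟩ := exists_mem_CW P p'
  have ha0J := (mem_parabolic_iff_CW P hJ ha0).mp hp
  have hb0K := (mem_parabolic_iff_CW P hK hb0).mp hp'
  obtain ⟨a, ha, h1⟩ := left_union P (Rset_mono P hJ) _ a0 ha0J rfl w p g ha0 hg
  obtain ⟨b, hb, h2⟩ := right_union P (Rset_mono P hK) _ b0 hb0K rfl (a * w) (p * g) p' h1 hb0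
  exact ⟨a, ha, b, hb, h2⟩

/-- Every element of `C(a w b)` with `a ∈ W_J`, `b ∈ W_K` lies in `P_J g P_K` for `g ∈ C(w)`. -/
theorem mem_double_of_CW (hJ : J ⊆ P.S) (hK : K ⊆ P.S) {w a b : W P} {g x : G} (hg : g ∈ CW P w)
    (ha : a ∈ Subgroup.closure (Rset P J)) (hb : b ∈ Subgroup.closure (Rset P K))
    (hx : x ∈ CW P (a * w * b)) :
    ∃ p ∈ P.parabolic J, ∃ p' ∈ P.parabolic K, x = p * g * p' := by
  obtain ⟨y, hy, z, hz, rfl⟩ := CW_mul_decomp P hx
  obtain ⟨y1, hy1, y2, hy2, rfl⟩ := CW_mul_decomp P hy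
  have hy1J : y1 ∈ P.parabolic J := (mem_parabolic_iff_CW P hJ hy1).mpr ha
  have hzK : z ∈ P.parabolic K := (mem_parabolic_iff_CW P hK hz).mpr hb
  -- `y2` and `g` lie in the same double coset of `B`
  have hC : y2 ∈ C P g := by
    have h1 : CW P w = C P g := by
      unfold CW at hg ⊢
      exact (C_eq_of_mem P hg).symm
    rw [← h1]
    exact hy2
  rw [mem_C] at hC
  obtain ⟨b1, hb1, b2, hb2, rfl⟩ := hC
  refine ⟨y1 * b1, Subgroup.mul_mem _ hy1J (B_le_parabolic P J hb1), b2 * z,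
    Subgroup.mul_mem _ (B_le_parabolic P K hb2) hzK, ?_⟩
  group

/-- The stabiliser computation: for `w` a distinguished right coset representative and `g ∈ C(w)`,
`g⁻¹ b g ∈ P_K` with `b ∈ B` forces `g⁻¹ b g ∈ B`. -/
theorem conj_mem_B_of_mem_parabolic (hK : K ⊆ P.S) {w : W P}
    (hw : w ∈ DD (RS P) ∅ (Rset P K)) {g b : G} (hg : g ∈ CW P w) (hb : b ∈ P.B)
    (h : g⁻¹ * b * g ∈ P.parabolic K) : g⁻¹ * b * g ∈ P.B := by
  obtain ⟨v, hv⟩ := exists_mem_CW P (g⁻¹ * b * g)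
  have hvK := (mem_parabolic_iff_CW P hK hv).mp h
  have hadd := (sys_RS P).len_mul_of_mem_DD (Rset_mono P hK) hw hvK
  have h1 := CW_mul_of_add P _ w v rfl hadd g hg _ hv
  have h2 : g * (g⁻¹ * b * g) ∈ CW P w := by
    have : g * (g⁻¹ * b * g) = b * g := by group
    rw [this]
    exact B_mul_CW P hg hb
  have h3 := eq_of_mem_CW P h2 h1
  have hv1 : v = 1 := by
    have := congrArg (w⁻¹ * ·) h3
    simpa using this.symm
  rw [hv1, CW_one] at hv
  exact hv

end Cfsg.Agent.Lead.SteinBN
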