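import Mathlib
import Cfsg.Agent.Lead.SteinBNA

set_option autoImplicit false

/-!
Orbits of a parabolic subgroup on the cosets of another, and fixed points on the orbits of `B`.
-/

namespace Cfsg.Agent.Lead.SteinBN

open Cfsg Cfsg.Agent.Helper7.BN Cfsg.Agent.Helper7.InvWords Cfsg.Agent.Lead.CoxComb MulAction

/-- Fixed points in an orbit correspond to fixed points on the cosets of the stabiliser. -/
theorem card_fixed_in_orbit {α β : Type*} [Group α] [MulAction α β] (x0 : β) (b : α) :
    Nat.card {x : β // x ∈ orbit α x0 ∧ b • x = x} =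
      Nat.card (fixedBy (α ⧸ stabilizer α x0) b) := by
  symm
  apply Nat.card_congr
  refine Equiv.ofBijective
    (fun q => ⟨ofQuotientStabilizer α x0 q.1, ofQuotientStabilizer_mem_orbit α x0 q.1, ?_⟩) ⟨?_, ?_⟩
  · rw [← ofQuotientStabilizer_smul]
    congr 1
    exact q.2
  · intro q q' h
    apply Subtype.ext
    apply injective_ofQuotientStabilizer α x0
    exact congrArg Subtype.val h
  · rintro ⟨x, ⟨g, rfl⟩, hx⟩
    refine ⟨⟨(g : α ⧸ stabilizer α x0), ?_⟩, ?_⟩
    · rw [mem_fixedBy]
      apply injective_ofQuotientStabilizer α x0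
      rw [ofQuotientStabilizer_smul, ofQuotientStabilizer_mk]
      exact hx
    · apply Subtype.ext
      exact ofQuotientStabilizer_mk α x0 g

variable {G : Type*} [Group G] (P : Cfsg.BNPair G)

/-- The chosen representative in `N` of an element of the Weyl group. -/
noncomputable def rep (w : W P) : G := ((Quotient.out w : P.N) : G)

theorem rep_mem_CW (w : W P) : rep P w ∈ CW P w := self_mem_C P _

variable {J K : Set G}

/-- Uniqueness of the distinguished element of a double coset, at the level of the group. -/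
theorem eq_of_double (hJ : J ⊆ P.S) (hK : K ⊆ P.S) {w w' : W P}
    (hw : w ∈ DD (RS P) (Rset P J) (Rset P K)) (hw' : w' ∈ DD (RS P) (Rset P J) (Rset P K))
    {p p' : G} (hp : p ∈ P.parabolic J) (hp' : p' ∈ P.parabolic K)
    (h : rep P w' = p * rep P w * p') : w = w' := by
  obtain ⟨a, ha, b, hb, hab⟩ := double_union P hJ hK (rep_mem_CW P w) hp hp'
  rw [← h] at hab
  have he := eq_of_mem_CW P (rep_mem_CW P w') hab
  exact (sys_RS P).eq_of_mem_DD (Rset_mono P hJ) (Rset_mono P hK) hw hw' ha hb he

/-- Existence of the distinguished element of a double coset, at the level of the group. -/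
theorem exists_double (hJ : J ⊆ P.S) (hK : K ⊆ P.S) (g : G) :
    ∃ m ∈ DD (RS P) (Rset P J) (Rset P K), ∃ p ∈ P.parabolic J, ∃ p' ∈ P.parabolic K,
      g = p * rep P m * p' := by
  obtain ⟨v, hv⟩ := exists_mem_CW P g
  obtain ⟨m, hm, ⟨a, ha, b, hb, hvm⟩, -⟩ :=
    (sys_RS P).exists_min_mem_DD (Rset_mono P hJ) (Rset_mono P hK) v
  rw [hvm] at hv
  obtain ⟨p, hp, p', hp', he⟩ := mem_double_of_CW P hJ hK (rep_mem_CW P m) ha hb hv
  exact ⟨m, hm, p, hp, p', hp', he⟩

/-- The orbits of `Q = P_J` on `G / P_K` are parametrised by the distinguished double coset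
representatives. -/
theorem card_orbits (hJ : J ⊆ P.S) (hK : K ⊆ P.S) (Q : Subgroup G) (hQ : Q = P.parabolic J) :
    Nat.card (orbitRel.Quotient Q (G ⧸ P.parabolic K)) =
      Nat.card (DD (RS P) (Rset P J) (Rset P K)) := by
  subst hQ
  symm
  apply Nat.card_congr
  refine Equiv.ofBijective
    (fun m => (Quotient.mk'' ((rep P m.1 : G) : G ⧸ P.parabolic K) :
      orbitRel.Quotient (P.parabolic J) (G ⧸ P.parabolic K))) ⟨?_, ?_⟩
  · rintro ⟨w, hw⟩ ⟨w', hw'⟩ h
    apply Subtype.ext
    have h1 := Quotient.eq''.mp h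
    rw [orbitRel_apply, mem_orbit_iff] at h1
    obtain ⟨p, hp⟩ := h1
    have h2 : (((p : G) * rep P w' : G) : G ⧸ P.parabolic K) = (rep P w : G) := hp
    rw [QuotientGroup.eq] at h2
    symm
    apply eq_of_double P hJ hK hw' hw (p := (p : G)) (p' := ((p : G) * rep P w')⁻¹ * rep P w)
      p.2 h2
    group
  · intro ω
    induction ω using Quotient.inductionOn' with
    | h x =>
      induction x using QuotientGroup.induction_on with
      | H g =>
        obtain ⟨m, hm, p, hp, p', hp', he⟩ := exists_double P hJ hK g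
        refine ⟨⟨m, hm⟩, ?_⟩
        apply Quotient.sound'
        rw [orbitRel_apply, mem_orbit_iff]
        refine ⟨⟨p, hp⟩⁻¹, ?_⟩
        change (((p : G)⁻¹ * g : G) : G ⧸ P.parabolic K) = (rep P m : G)
        rw [QuotientGroup.eq, he]
        have : ((p : G)⁻¹ * (p * rep P m * p'))⁻¹ * rep P m = p'⁻¹ := by group
        rw [this]
        exact Subgroup.inv_mem _ hp'

end Cfsg.Agent.Lead.SteinBN
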