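import Mathlib
import Cfsg.Agent.Lead.SteinBNB

set_option autoImplicit false

/-!
The restriction to `B` of the permutation character on the cosets of a parabolic subgroup.
-/

namespace Cfsg.Agent.Lead.SteinBN

open Cfsg Cfsg.Agent.Helper7.BN Cfsg.Agent.Helper7.InvWords Cfsg.Agent.Lead.CoxComb MulAction

variable {G : Type*} [Group G] (P : Cfsg.BNPair G)

theorem parabolic_empty : P.parabolic ∅ = P.B := by
  unfold Cfsg.BNPair.parabolic
  rw [Subgroup.closure_empty, sup_bot_eq]

theorem Rset_empty : Rset P ∅ = ∅ := by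
  unfold Rset
  simp

/-- The stabiliser in `B` of the coset `ẇ B`. -/
noncomputable def stab (w : W P) : Subgroup P.B where
  carrier := {b | (rep P w)⁻¹ * (b : G) * rep P w ∈ P.B}
  one_mem' := by
    change (rep P w)⁻¹ * ((1 : P.B) : G) * rep P w ∈ P.B
    rw [Subgroup.coe_one, mul_one, inv_mul_cancel]
    exact P.B.one_mem
  mul_mem' := by
    intro a b ha hb
    change (rep P w)⁻¹ * ((a * b : P.B) : G) * rep P w ∈ P.B
    have : (rep P w)⁻¹ * ((a * b : P.B) : G) * rep P w =
        ((rep P w)⁻¹ * (a : G) * rep P w) * ((rep P w)⁻¹ * (b : G) * rep P w) := by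
      rw [Subgroup.coe_mul]
      group
    rw [this]
    exact P.B.mul_mem ha hb
  inv_mem' := by
    intro a ha
    change (rep P w)⁻¹ * ((a⁻¹ : P.B) : G) * rep P w ∈ P.B
    have : (rep P w)⁻¹ * ((a⁻¹ : P.B) : G) * rep P w = ((rep P w)⁻¹ * (a : G) * rep P w)⁻¹ := by
      rw [Subgroup.coe_inv]
      group
    rw [this]
    exact P.B.inv_mem ha

theorem mem_stab {w : W P} {b : P.B} : b ∈ stab P w ↔ (rep P w)⁻¹ * (b : G) * rep P w ∈ P.B :=
  Iff.rfl

variable {K : Set G}

theorem stabilizer_eq (hK : K ⊆ P.S) {w : W P} (hw : w ∈ DD (RS P) ∅ (Rset P K)) :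
    stabilizer P.B ((rep P w : G) : G ⧸ P.parabolic K) = stab P w := by
  ext b
  rw [mem_stabilizer_iff, mem_stab]
  have e : b • ((rep P w : G) : G ⧸ P.parabolic K) = (((b : G) * rep P w : G) : G ⧸ P.parabolic K) :=
    rfl
  rw [e, eq_comm, QuotientGroup.eq, ← mul_assoc]
  constructor
  · intro h
    exact conj_mem_B_of_mem_parabolic P hK hw (rep_mem_CW P w) b.2 h
  · intro h
    exact B_le_parabolic P K h

/-- The fixed points of `b ∈ B` on `G / P_K`, counted along the orbits of `B`. -/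
theorem card_fixedBy_eq_sum [Finite G] (hK : K ⊆ P.S) (b : P.B)
    [Fintype (DD (RS P) ∅ (Rset P K))] :
    Nat.card (fixedBy (G ⧸ P.parabolic K) (b : G)) =
      ∑ m : DD (RS P) ∅ (Rset P K), Nat.card (fixedBy (P.B ⧸ stab P m.1) b) := by
  have hE : (∅ : Set G) ⊆ P.S := Set.empty_subset _
  have hstep : ∀ m : DD (RS P) ∅ (Rset P K), Nat.card (fixedBy (P.B ⧸ stab P m.1) b) =
      Nat.card {x : G ⧸ P.parabolic K //
        x ∈ orbit P.B ((rep P m.1 : G) : G ⧸ P.parabolic K) ∧ b • x = x} := by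
    intro m
    rw [card_fixed_in_orbit, stabilizer_eq P hK m.2]
  simp_rw [hstep]
  rw [← Nat.card_sigma]
  symm
  apply Nat.card_congr
  refine Equiv.ofBijective (fun q => ⟨q.2.1, q.2.2.2⟩) ⟨?_, ?_⟩
  · rintro ⟨⟨w, hw⟩, x, hx, hbx⟩ ⟨⟨w', hw'⟩, x', hx', hbx'⟩ h
    have hxx : x = x' := congrArg Subtype.val h
    subst hxx
    have hww : w = w' := by
      obtain ⟨c, hc⟩ := hx
      obtain ⟨c', hc'⟩ := hx'
      have h1 : (((c : G) * rep P w : G) : G ⧸ P.parabolic K) = (((c' : G) * rep P w' : G)) := by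
        rw [← hc'] at hc
        exact hc
      rw [QuotientGroup.eq] at h1
      rw [← Rset_empty P] at hw hw'
      apply eq_of_double P hE hK hw hw' (p := (c' : G)⁻¹ * c)
        (p' := ((c : G) * rep P w)⁻¹ * ((c' : G) * rep P w'))
      · rw [parabolic_empty]
        exact P.B.mul_mem (P.B.inv_mem c'.2) c.2
      · exact h1
      · group
    subst hww
    rfl
  · rintro ⟨x, hx⟩
    induction x using QuotientGroup.induction_on with
    | H g =>
      obtain ⟨m, hm, p, hp, p', hp', he⟩ := exists_double P hE hK g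
      rw [parabolic_empty] at hp
      rw [Rset_empty] at hm
      refine ⟨⟨⟨m, hm⟩, (g : G ⧸ P.parabolic K), ?_, hx⟩, rfl⟩
      rw [mem_orbit_iff]
      refine ⟨⟨p, hp⟩, ?_⟩
      change (((p : G) * rep P m : G) : G ⧸ P.parabolic K) = (g : G)
      rw [QuotientGroup.eq, he]
      have : (p * rep P m)⁻¹ * (p * rep P m * p') = p' := by group
      rw [this]
      exact hp'

end Cfsg.Agent.Lead.SteinBN
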