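import Mathlib
import Cfsg.Prelude.Def_ParabolicCharacters
import Cfsg.Agent.Helper6.Induced
import Cfsg.Agent.Helper6.ClassInner
import Cfsg.Agent.Helper4.PermCharOrbits
import Cfsg.Agent.Helper8.GL2Perm

set_option autoImplicit false

/-!
Permutation characters on cosets: they are characters, and the inner product of two of them
counts orbits.
-/

namespace Cfsg.Agent.Lead.SteinChar

open Cfsg Cfsg.Agent.Helper6 MulAction
open scoped ComplexConjugate

universe u

variable {G : Type u} [Group G] [Fintype G]

theorem fixedPointCharacter_eq (H : Subgroup G) :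
    Cfsg.fixedPointCharacter H = Cfsg.indFun H (fun _ => (1 : ℂ)) := by
  funext g
  exact Cfsg.Agent.Helper8.GL2C.fixedPointCharacter_eq_indFun H g

theorem isCharacter_fixedPointCharacter (H : Subgroup G) :
    Cfsg.IsCharacter G (Cfsg.fixedPointCharacter H) := by
  rw [fixedPointCharacter_eq]
  exact isCharacter_indFun H _ isCharacter_one

theorem isClassFunction_fixedPointCharacter (H : Subgroup G) :
    Cfsg.IsClassFunction G (Cfsg.fixedPointCharacter H) :=
  IsCharacter.isClassFunction (isCharacter_fixedPointCharacter H)

/-- The inner product of two permutation characters counts the orbits of one subgroup on the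
cosets of the other. -/
theorem classInner_fixedPointCharacter (Q H : Subgroup G) :
    Cfsg.classInner (Cfsg.fixedPointCharacter Q) (Cfsg.fixedPointCharacter H) =
      (Nat.card (orbitRel.Quotient Q (G ⧸ H)) : ℂ) := by
  classical
  haveI : Fintype Q := Fintype.ofFinite Q
  rw [fixedPointCharacter_eq Q, frobenius_reciprocity Q _ _ (isClassFunction_fixedPointCharacter H)]
  have := Cfsg.Agent.Helper4.classInner_one_permChar (K := Q) (G ⧸ H)
  rw [← this]
  rfl

end Cfsg.Agent.Lead.SteinChar
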