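import Mathlib
import Cfsg.Agent.Lead.SteinCharA
import Cfsg.Agent.Lead.SteinBNC

set_option autoImplicit false

/-!
Indexing the distinguished generators of a (B,N)-pair, ascent sets and the sign sums.
-/

namespace Cfsg.Agent.Lead.SteinChar

open Cfsg Cfsg.Agent.Helper7.BN Cfsg.Agent.Helper7.InvWords Cfsg.Agent.Lead.CoxComb
  Cfsg.Agent.Lead.SteinBN

universe u

variable {G : Type u} [Group G] (P : Cfsg.BNPair G)
variable {ι : Type*} [DecidableEq ι] (I : Finset ι) (s : ι → G)

open Classical in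
/-- The image in the Weyl group of the `i`-th distinguished generator. -/
noncomputable def rr (i : ι) : W P :=
  if h : s i ∈ P.N then proj P ⟨s i, h⟩ else 1

variable {I s}

theorem rr_eq {i : ι} (h : s i ∈ P.N) : rr P s i = proj P ⟨s i, h⟩ := by
  unfold rr
  rw [dif_pos h]

theorem Rset_image (himg : s '' (I : Set ι) = P.S) {J : Finset ι} (hJ : J ⊆ I) :
    Rset P (s '' (J : Set ι)) = rr P s '' (J : Set ι) := by
  have hN : ∀ i ∈ I, s i ∈ P.N := by
    intro i hi
    apply P.subset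
    rw [← himg]
    exact ⟨i, hi, rfl⟩
  ext w
  constructor
  · rintro ⟨n, ⟨i, hi, hin⟩, rfl⟩
    refine ⟨i, hi, ?_⟩
    rw [rr_eq P (hN i (hJ hi))]
    congr 1
    exact Subtype.ext hin
  · rintro ⟨i, hi, rfl⟩
    rw [rr_eq P (hN i (hJ hi))]
    exact ⟨⟨s i, hN i (hJ hi)⟩, ⟨i, hi, rfl⟩, rfl⟩

theorem image_subset_S (himg : s '' (I : Set ι) = P.S) {J : Finset ι} (hJ : J ⊆ I) :
    s '' (J : Set ι) ⊆ P.S := by
  rw [← himg]
  exact Set.image_mono (by exact_mod_cast hJ)

theorem RS_eq_image (himg : s '' (I : Set ι) = P.S) : RS P = rr P s '' (I : Set ι) := by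
  rw [← Rset_image P himg (le_refl I), himg]

theorem rr_mem_RS (himg : s '' (I : Set ι) = P.S) {i : ι} (hi : i ∈ I) : rr P s i ∈ RS P := by
  rw [RS_eq_image P himg]
  exact ⟨i, hi, rfl⟩

variable (I s)

open Classical in
/-- Left ascents of `w`. -/
noncomputable def ascL (w : W P) : Finset ι :=
  I.filter (fun i => len (RS P) w < len (RS P) (rr P s i * w))

open Classical in
/-- Right ascents of `w`. -/
noncomputable def ascR (w : W P) : Finset ι :=
  I.filter (fun i => len (RS P) w < len (RS P) (w * rr P s i))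

variable {I s}

theorem ascL_subset (w : W P) : ascL P I s w ⊆ I := Finset.filter_subset _ _

theorem ascR_subset (w : W P) : ascR P I s w ⊆ I := Finset.filter_subset _ _

theorem mem_DD_iff (himg : s '' (I : Set ι) = P.S) {J K : Finset ι} (hJ : J ⊆ I) (hK : K ⊆ I)
    (w : W P) :
    w ∈ DD (RS P) (Rset P (s '' (J : Set ι))) (Rset P (s '' (K : Set ι))) ↔
      J ⊆ ascL P I s w ∧ K ⊆ ascR P I s w := by
  rw [Rset_image P himg hJ, Rset_image P himg hK]
  unfold DD ascL ascR
  constructor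
  · rintro ⟨h1, h2⟩
    constructor
    · intro i hi
      rw [Finset.mem_filter]
      exact ⟨hJ hi, h1 _ ⟨i, hi, rfl⟩⟩
    · intro i hi
      rw [Finset.mem_filter]
      exact ⟨hK hi, h2 _ ⟨i, hi, rfl⟩⟩
  · rintro ⟨h1, h2⟩
    constructor
    · rintro _ ⟨i, hi, rfl⟩
      exact (Finset.mem_filter.mp (h1 hi)).2
    · rintro _ ⟨i, hi, rfl⟩
      exact (Finset.mem_filter.mp (h2 hi)).2

theorem mem_DD_iff_right (himg : s '' (I : Set ι) = P.S) {K : Finset ι} (hK : K ⊆ I) (w : W P) :
    w ∈ DD (RS P) ∅ (Rset P (s '' (K : Set ι))) ↔ K ⊆ ascR P I s w := by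
  have := mem_DD_iff P himg (Finset.empty_subset I) hK w
  rw [Finset.coe_empty, Set.image_empty, Rset_empty] at this
  rw [this]
  simp

/-- The alternating sum over the subsets of `I` contained in `A ⊆ I`. -/
theorem sum_signs (A : Finset ι) (hA : A ⊆ I) :
    (∑ J ∈ I.powerset, (-1 : ℂ) ^ J.card * (if J ⊆ A then 1 else 0)) =
      if A = ∅ then 1 else 0 := by
  have h1 : (∑ J ∈ I.powerset, (-1 : ℂ) ^ J.card * (if J ⊆ A then 1 else 0)) =
      ∑ J ∈ A.powerset, (-1 : ℂ) ^ J.card := by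
    simp only [mul_ite, mul_one, mul_zero]
    rw [← Finset.sum_filter]
    apply Finset.sum_congr _ (fun _ _ => rfl)
    ext J
    rw [Finset.mem_filter, Finset.mem_powerset, Finset.mem_powerset]
    exact ⟨fun h => h.2, fun h => ⟨h.trans hA, h⟩⟩
  rw [h1]
  have h2 := Finset.sum_powerset_neg_one_pow_card (x := A)
  have h3 : ((∑ m ∈ A.powerset, (-1 : ℤ) ^ m.card : ℤ) : ℂ) = ∑ J ∈ A.powerset, (-1 : ℂ) ^ J.card := by
    push_cast
    rfl
  rw [← h3, h2]
  split_ifs <;> simp

/-- The longest element, characterised by its ascent sets. -/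
theorem exists_longest [Finite G] (himg : s '' (I : Set ι) = P.S) :
    ∃ w0 : W P, ascL P I s w0 = ∅ ∧ ascR P I s w0 = ∅ ∧ ∀ w : W P, ascR P I s w = ∅ → w = w0 := by
  have : Finite (W P) := by
    unfold W
    infer_instance
  obtain ⟨w0, h1, h2, -, h4⟩ := (sys_RS P).exists_longest
  refine ⟨w0, ?_, ?_, ?_⟩
  · unfold ascL
    rw [Finset.filter_eq_empty_iff]
    intro i hi
    have := h2 _ (rr_mem_RS P himg hi)
    omega
  · unfold ascR
    rw [Finset.filter_eq_empty_iff]
    intro i hi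
    have := h1 _ (rr_mem_RS P himg hi)
    omega
  · intro w hw
    apply h4
    intro r hr
    rw [RS_eq_image P himg] at hr
    obtain ⟨i, hi, rfl⟩ := hr
    unfold ascR at hw
    rw [Finset.filter_eq_empty_iff] at hw
    have h5 := hw (Finset.mem_coe.mp hi)
    have h6 := (sys_RS P).len_mul_gen_ne (rr_mem_RS P himg (Finset.mem_coe.mp hi)) w
    omega

end Cfsg.Agent.Lead.SteinChar
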