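import Mathlib
import Cfsg.Agent.Lead.SteinCharB
import Cfsg.Agent.Helper6.NormOne
import Cfsg.Agent.Helper6.Brauer8
import Cfsg.Agent.Helper6.IrrDegree

set_option autoImplicit false

/-!
The alternating sum of the permutation characters on the parabolic subgroups of a finite group
with a (B,N)-pair is an irreducible character (the Steinberg character), whose restriction to `B`
is a transitive permutation character.
-/

namespace Cfsg.Agent.Lead.SteinChar

open Cfsg Cfsg.Agent.Helper6 Cfsg.Agent.Helper7.BN Cfsg.Agent.Helper7.InvWords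
  Cfsg.Agent.Lead.CoxComb Cfsg.Agent.Lead.SteinBN MulAction
open scoped ComplexConjugate

universe u

variable {G : Type u} [Group G] [Fintype G] (P : Cfsg.BNPair G)
variable {ι : Type*} [DecidableEq ι] (I : Finset ι) (s : ι → G) (par : Finset ι → Subgroup G)

/-- The alternating sum of permutation characters. -/
noncomputable def St : G → ℂ :=
  fun g => ∑ J ∈ I.powerset, (-1 : ℂ) ^ J.card * Cfsg.fixedPointCharacter (par J) g

theorem St_eq_sum :
    St I par = ∑ J ∈ I.powerset, ((-1 : ℂ) ^ J.card) • Cfsg.fixedPointCharacter (par J) := by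
  funext g
  unfold St
  rw [Finset.sum_apply]
  rfl

theorem isGeneralizedCharacter_signed_sum (T : Finset (Finset ι)) :
    Cfsg.IsGeneralizedCharacter G
      (∑ J ∈ T, ((-1 : ℂ) ^ J.card) • Cfsg.fixedPointCharacter (par J)) := by
  classical
  induction T using Finset.induction_on with
  | empty =>
    rw [Finset.sum_empty]
    exact IsGeneralizedCharacter.zero
  | insert a T ha ih =>
    rw [Finset.sum_insert ha]
    apply IsGeneralizedCharacter.add _ ih
    rcases Nat.even_or_odd a.card with he | ho
    · rw [he.neg_one_pow, one_smul]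
      exact IsGeneralizedCharacter.of_isCharacter (isCharacter_fixedPointCharacter _)
    · rw [ho.neg_one_pow, neg_smul, one_smul]
      exact IsGeneralizedCharacter.neg
        (IsGeneralizedCharacter.of_isCharacter (isCharacter_fixedPointCharacter _))

theorem isGeneralizedCharacter_St : Cfsg.IsGeneralizedCharacter G (St I par) := by
  rw [St_eq_sum]
  exact isGeneralizedCharacter_signed_sum par _

variable {I s par}

open Classical in
/-- The inner product of two of the permutation characters, as a sum over the Weyl group. -/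
theorem classInner_par [Fintype (W P)] (himg : s '' (I : Set ι) = P.S)
    (hpar : ∀ J, J ⊆ I → par J = P.parabolic (s '' (J : Set ι))) {J K : Finset ι}
    (hJ : J ⊆ I) (hK : K ⊆ I) :
    Cfsg.classInner (Cfsg.fixedPointCharacter (par J)) (Cfsg.fixedPointCharacter (par K)) =
      ∑ w : W P, (if J ⊆ ascL P I s w then (1 : ℂ) else 0) *
        (if K ⊆ ascR P I s w then (1 : ℂ) else 0) := by
  rw [classInner_fixedPointCharacter, hpar K hK,
    card_orbits P (image_subset_S P himg hJ) (image_subset_S P himg hK) (par J) (hpar J hJ)]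
  have h1 : ∀ w : W P, (if J ⊆ ascL P I s w then (1 : ℂ) else 0) *
      (if K ⊆ ascR P I s w then (1 : ℂ) else 0) =
      if w ∈ DD (RS P) (Rset P (s '' (J : Set ι))) (Rset P (s '' (K : Set ι))) then 1 else 0 := by
    intro w
    rw [mem_DD_iff P himg hJ hK w]
    by_cases h1 : J ⊆ ascL P I s w <;> by_cases h2 : K ⊆ ascR P I s w <;> simp [h1, h2]
  simp_rw [h1]
  rw [Finset.sum_boole, Nat.card_eq_fintype_card, Fintype.card_subtype]

open Classical in
/-- The norm of the alternating sum is `1`. -/
theorem classInner_St (himg : s '' (I : Set ι) = P.S)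
    (hpar : ∀ J, J ⊆ I → par J = P.parabolic (s '' (J : Set ι))) :
    Cfsg.classInner (St I par) (St I par) = 1 := by
  haveI : Fintype (W P) := Fintype.ofFinite _
  rw [St_eq_sum, classInner_sum_left]
  have h1 : ∀ J ∈ I.powerset, Cfsg.classInner (((-1 : ℂ) ^ J.card) • Cfsg.fixedPointCharacter (par J))
      (∑ K ∈ I.powerset, ((-1 : ℂ) ^ K.card) • Cfsg.fixedPointCharacter (par K)) =
      ∑ K ∈ I.powerset, ∑ w : W P,
        ((-1 : ℂ) ^ J.card * (if J ⊆ ascL P I s w then (1 : ℂ) else 0)) *
        ((-1 : ℂ) ^ K.card * (if K ⊆ ascR P I s w then (1 : ℂ) else 0)) := by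
    intro J hJ
    rw [classInner_smul_left, classInner_sum_right, Finset.mul_sum]
    apply Finset.sum_congr rfl
    intro K hK
    rw [classInner_smul_right, classInner_par P himg hpar (Finset.mem_powerset.mp hJ)
      (Finset.mem_powerset.mp hK), map_pow, map_neg, map_one, Finset.mul_sum, Finset.mul_sum]
    apply Finset.sum_congr rfl
    intro w _
    ring
  rw [Finset.sum_congr rfl h1]
  have h2 : (∑ J ∈ I.powerset, ∑ K ∈ I.powerset, ∑ w : W P,
      ((-1 : ℂ) ^ J.card * (if J ⊆ ascL P I s w then (1 : ℂ) else 0)) *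
        ((-1 : ℂ) ^ K.card * (if K ⊆ ascR P I s w then (1 : ℂ) else 0))) =
      ∑ w : W P, (∑ J ∈ I.powerset, (-1 : ℂ) ^ J.card * (if J ⊆ ascL P I s w then (1 : ℂ) else 0)) *
        (∑ K ∈ I.powerset, (-1 : ℂ) ^ K.card * (if K ⊆ ascR P I s w then (1 : ℂ) else 0)) := by
    simp_rw [Finset.sum_mul_sum]
    symm
    rw [Finset.sum_comm]
    apply Finset.sum_congr rfl
    intro J _
    rw [Finset.sum_comm]
  rw [h2]
  simp_rw [sum_signs _ (ascL_subset P _), sum_signs _ (ascR_subset P _)]
  obtain ⟨w0, h3, h4, h5⟩ := exists_longest (I := I) (s := s) P himg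
  rw [Finset.sum_eq_single w0]
  · rw [if_pos h3, if_pos h4, mul_one]
  · intro w _ hw
    have : ascR P I s w ≠ ∅ := fun h => hw (h5 w h)
    rw [if_neg this, mul_zero]
  · intro h
    exact absurd (Finset.mem_univ w0) h

end Cfsg.Agent.Lead.SteinChar
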