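import Mathlib
import Cfsg.Agent.Lead.SteinCharC

set_option autoImplicit false

/-!
The restriction of the Steinberg character to `B`, and its irreducibility.
-/

namespace Cfsg.Agent.Lead.SteinChar

open Cfsg Cfsg.Agent.Helper6 Cfsg.Agent.Helper7.BN Cfsg.Agent.Helper7.InvWords
  Cfsg.Agent.Lead.CoxComb Cfsg.Agent.Lead.SteinBN MulAction
open scoped ComplexConjugate

universe u

variable {G : Type u} [Group G] [Fintype G] (P : Cfsg.BNPair G)
variable {ι : Type*} [DecidableEq ι] {I : Finset ι} {s : ι → G} {par : Finset ι → Subgroup G}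

open Classical in
/-- The value at `b ∈ B` of a permutation character on a parabolic subgroup, as a sum over
the Weyl group. -/
theorem fixedPointCharacter_par_apply [Fintype (W P)] (himg : s '' (I : Set ι) = P.S)
    (hpar : ∀ J, J ⊆ I → par J = P.parabolic (s '' (J : Set ι))) {K : Finset ι} (hK : K ⊆ I)
    (b : P.B) :
    Cfsg.fixedPointCharacter (par K) (b : G) =
      ∑ w : W P, (if K ⊆ ascR P I s w then Cfsg.fixedPointCharacter (stab P w) b else 0) := by
  haveI : Fintype (DD (RS P) ∅ (Rset P (s '' (K : Set ι)))) := Fintype.ofFinite _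
  unfold Cfsg.fixedPointCharacter
  rw [hpar K hK, card_fixedBy_eq_sum P (image_subset_S P himg hK) b, Nat.cast_sum]
  rw [← Finset.sum_subtype (Finset.univ.filter
    (fun w : W P => w ∈ DD (RS P) ∅ (Rset P (s '' (K : Set ι)))))
    (by intro x; simp) (fun w => (Nat.card (fixedBy (P.B ⧸ stab P w) b) : ℂ))]
  rw [Finset.sum_filter]
  apply Finset.sum_congr rfl
  intro w _
  have hiff := mem_DD_iff_right P himg hK w
  by_cases h : K ⊆ ascR P I s w
  · rw [if_pos h, if_pos (hiff.mpr h)]
  · rw [if_neg h, if_neg (fun h' => h (hiff.mp h'))]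

open Classical in
/-- The restriction of the alternating sum to `B` is the permutation character on the cosets of
the stabiliser attached to the longest element. -/
theorem St_apply_B (himg : s '' (I : Set ι) = P.S)
    (hpar : ∀ J, J ⊆ I → par J = P.parabolic (s '' (J : Set ι))) {w0 : W P}
    (h0 : ascR P I s w0 = ∅) (huniq : ∀ w : W P, ascR P I s w = ∅ → w = w0) (b : P.B) :
    St I par (b : G) = Cfsg.fixedPointCharacter (stab P w0) b := by
  haveI : Fintype (W P) := Fintype.ofFinite _
  unfold St
  have h1 : ∀ J ∈ I.powerset, (-1 : ℂ) ^ J.card * Cfsg.fixedPointCharacter (par J) (b : G) =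
      ∑ w : W P, Cfsg.fixedPointCharacter (stab P w) b *
        ((-1 : ℂ) ^ J.card * (if J ⊆ ascR P I s w then (1 : ℂ) else 0)) := by
    intro J hJ
    rw [fixedPointCharacter_par_apply P himg hpar (Finset.mem_powerset.mp hJ) b, Finset.mul_sum]
    apply Finset.sum_congr rfl
    intro w _
    split_ifs <;> ring
  rw [Finset.sum_congr rfl h1, Finset.sum_comm]
  simp_rw [← Finset.mul_sum, sum_signs _ (ascR_subset P _)]
  rw [Finset.sum_eq_single w0]
  · rw [if_pos h0, mul_one]
  · intro w _ hw
    have : ascR P I s w ≠ ∅ := fun h => hw (huniq w h)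
    rw [if_neg this, mul_zero]
  · intro h
    exact absurd (Finset.mem_univ w0) h

/-- The value at `1`: the index of the stabiliser. -/
theorem fixedPointCharacter_one {H : Type*} [Group H] (Q : Subgroup H) :
    Cfsg.fixedPointCharacter Q 1 = (Q.index : ℂ) := by
  unfold Cfsg.fixedPointCharacter
  congr 1
  rw [Subgroup.index]
  apply Nat.card_congr
  refine ⟨fun x => x.1, fun x => ⟨x, by rw [mem_fixedBy, one_smul]⟩, fun _ => rfl, fun _ => rfl⟩

/-- The Steinberg character is irreducible. -/
theorem isIrrCharacter_St (himg : s '' (I : Set ι) = P.S)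
    (hpar : ∀ J, J ⊆ I → par J = P.parabolic (s '' (J : Set ι))) :
    Cfsg.IsIrrCharacter G (St I par) := by
  obtain ⟨w0, -, h0, huniq⟩ := exists_longest (I := I) (s := s) P himg
  obtain ⟨χ, hχ, h | h⟩ := exists_signed_irr_of_norm_one (isGeneralizedCharacter_St I par)
    (classInner_St P himg hpar)
  · rw [h]
    exact hχ
  · exfalso
    have h1 := St_apply_B P himg hpar h0 huniq 1
    rw [Subgroup.coe_one, fixedPointCharacter_one, h] at h1
    obtain ⟨n, hn, hn1⟩ := IsIrrCharacter.apply_one_pos hχ
    rw [Pi.neg_apply, hn1] at h1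
    have h2 : ((n + (stab P w0).index : ℕ) : ℂ) = 0 := by
      push_cast
      rw [← h1]
      ring
    have h3 : n + (stab P w0).index = 0 := by exact_mod_cast h2
    omega

end Cfsg.Agent.Lead.SteinChar
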