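import Mathlib
import Cfsg.Agent.Lead.SteinCharD

set_option autoImplicit false

/-!
Identification of the longest element through a representative, and the stabiliser attached to it.
-/

namespace Cfsg.Agent.Lead.SteinChar

open Cfsg Cfsg.Agent.Helper6 Cfsg.Agent.Helper7.BN Cfsg.Agent.Helper7.InvWords
  Cfsg.Agent.Lead.CoxComb Cfsg.Agent.Lead.SteinBN MulAction
open scoped ComplexConjugate

universe u

section abstract

variable {G : Type*} [Group G] (P : Cfsg.BNPair G)

/-- The multiplication rule for double cosets can be checked on representatives. -/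
theorem good_of_rep (a n : P.N)
    (h : ∀ b ∈ P.B, (a : G) * b * (n : G) ∈ C P ((a : G) * (n : G))) :
    Good P (proj P a) (proj P n) := by
  intro x hx y hy
  rw [CW_proj] at hx hy
  rw [← map_mul, CW_proj, Subgroup.coe_mul]
  obtain ⟨b1, hb1, b2, hb2, rfl⟩ := (mem_C P).mp hx
  obtain ⟨b3, hb3, b4, hb4, rfl⟩ := (mem_C P).mp hy
  obtain ⟨b5, hb5, b6, hb6, e⟩ := (mem_C P).mp (h (b2 * b3) (P.B.mul_mem hb2 hb3))
  refine (mem_C P).mpr ⟨b1 * b5, P.B.mul_mem hb1 hb5, b6 * b4, P.B.mul_mem hb6 hb4, ?_⟩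
  calc b1 * (a : G) * b2 * (b3 * (n : G) * b4)
      = b1 * ((a : G) * (b2 * b3) * (n : G)) * b4 := by group
    _ = b1 * (b5 * ((a : G) * (n : G)) * b6) * b4 := by rw [e]
    _ = b1 * b5 * ((a : G) * (n : G)) * (b6 * b4) := by group

/-- Membership in the stabiliser attached to the inverse of the image of `n ∈ N`. -/
theorem mem_stab_inv_proj (n : P.N) (b : P.B) :
    b ∈ stab P (proj P n)⁻¹ ↔ (n : G) * (b : G) * (n : G)⁻¹ ∈ P.B := by
  rw [mem_stab]
  have h0 : ∀ w : W P, proj P (Quotient.out w : P.N) = w := fun w => Quotient.out_eq w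
  have h1 : proj P (Quotient.out ((proj P n)⁻¹ : W P) : P.N) = proj P n⁻¹ := by
    rw [map_inv]
    exact h0 _
  rw [proj_eq_iff] at h1
  set r : G := rep P (proj P n)⁻¹ with hr
  have h1' : r⁻¹ * (n : G)⁻¹ ∈ P.B := by
    have : ((n⁻¹ : P.N) : G) = (n : G)⁻¹ := Subgroup.coe_inv _ _
    rw [← this]
    exact h1
  set t : G := r⁻¹ * (n : G)⁻¹ with ht
  have e : r⁻¹ * (b : G) * r = t * ((n : G) * (b : G) * (n : G)⁻¹) * t⁻¹ := by
    rw [ht]; group
  rw [e]
  constructor
  · intro h
    have := P.B.mul_mem (P.B.mul_mem (P.B.inv_mem h1') h) h1'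
    have e2 : t⁻¹ * (t * ((n : G) * (b : G) * (n : G)⁻¹) * t⁻¹) * t =
        (n : G) * (b : G) * (n : G)⁻¹ := by group
    rwa [e2] at this
  · intro h
    exact P.B.mul_mem (P.B.mul_mem h1' h) (P.B.inv_mem h1')

end abstract

variable {G : Type u} [Group G] [Fintype G] (P : Cfsg.BNPair G)
variable {ι : Type*} [DecidableEq ι] {I : Finset ι} {s : ι → G} {par : Finset ι → Subgroup G}

omit [Fintype G] in
/-- If every distinguished generator shortens `w` on the left then `w⁻¹` has no right ascent. -/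
theorem ascR_inv_eq_empty (himg : s '' (I : Set ι) = P.S) {w : W P}
    (h : ∀ i ∈ I, Good P (rr P s i) (rr P s i * w)) : ascR P I s w⁻¹ = ∅ := by
  unfold ascR
  rw [Finset.filter_eq_empty_iff]
  intro i hi hlt
  have hr := rr_mem_RS P himg hi
  have h1 := (good_iff P hr).mp (h i hi)
  rw [← mul_assoc, RS_mul_self P hr, one_mul] at h1
  have e : w⁻¹ * rr P s i = (rr P s i * w)⁻¹ := by rw [mul_inv_rev, RS_inv P hr]
  rw [e, Cfsg.Agent.Helper7.InvWords.len_inv (invol_RS P) (mem_closure_RS P _),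
    Cfsg.Agent.Helper7.InvWords.len_inv (invol_RS P) (mem_closure_RS P _)] at hlt
  omega

/-- The restriction of the alternating sum to `B`, through a representative of the longest
element. -/
theorem St_apply_B_of_good (himg : s '' (I : Set ι) = P.S)
    (hpar : ∀ J, J ⊆ I → par J = P.parabolic (s '' (J : Set ι))) (n : P.N)
    (h : ∀ i ∈ I, Good P (rr P s i) (rr P s i * proj P n)) (b : P.B) :
    St I par (b : G) = Cfsg.fixedPointCharacter (stab P (proj P n)⁻¹) b := by
  have h0 := ascR_inv_eq_empty P himg h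
  obtain ⟨w0, -, -, huniq⟩ := exists_longest (I := I) (s := s) P himg
  have hw0 : (proj P n)⁻¹ = w0 := huniq _ h0
  refine St_apply_B P himg hpar h0 ?_ b
  intro w hw
  rw [hw0]
  exact huniq w hw

/-- Transport of a permutation character along an equality of subgroups. -/
theorem fixedPointCharacter_transport {H : Type*} [Group H] (B B' : Subgroup H) (hBB' : B = B')
    (Q : Subgroup B) (Q' : Subgroup B')
    (hQ : ∀ (x : H) (hx : x ∈ B) (hx' : x ∈ B'), (⟨x, hx⟩ : B) ∈ Q ↔ (⟨x, hx'⟩ : B') ∈ Q')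
    (x : H) (hx : x ∈ B) (hx' : x ∈ B') :
    Cfsg.fixedPointCharacter Q ⟨x, hx⟩ = Cfsg.fixedPointCharacter Q' ⟨x, hx'⟩ := by
  subst hBB'
  have : Q = Q' := by
    ext y
    exact hQ y.1 y.2 y.2
  subst this
  rfl

end Cfsg.Agent.Lead.SteinChar
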