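import Mathlib
import Cfsg.Agent.Lead.SteinCharD
import Cfsg.Agent.Helper7.ChevGood3
import Cfsg.Agent.Helper7.ChevT5
import Cfsg.Agent.Helper7.ChevT6
import Cfsg.Agent.Helper7.ChevT7
import Cfsg.Agent.Helper7.ChevT9
import Cfsg.Agent.Helper7.ChevBN
import Cfsg.Prelude.Def_ParabolicCharacters

set_option autoImplicit false

/-!
The Steinberg character of a Chevalley group: instantiation of the abstract `(B, N)`-pair theory.
-/

namespace Cfsg.Agent.Lead.SteinChev

open Cfsg Cfsg.Lie Matrix Cfsg.Agent.Helper7.Chev Cfsg.Agent.Lead.SteinChar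

variable {D : ChevalleyDatum} {F : Type*} [Field F]

/-- The distinguished representatives, indexed by the fundamental roots. -/
noncomputable def sRep (hG : Good2 D) (F : Type*) [Field F] (i : ℕ) : ↥(D.group F) :=
  if hi : i < D.rank then
    ⟨nGL hG.toGood1 (hG.toGood1.simple_lt hi),
      monomialSubgroup_le_group hG.toGood1 (nGL_mem_monomial hG (hG.toGood1.simple_lt hi))⟩
  else 1

theorem sRep_coe (hG : Good2 D) {i : ℕ} (hi : i < D.rank) :
    ((sRep hG F i : ↥(D.group F)) : GL D.Idx F) = nGL hG.toGood1 (hG.toGood1.simple_lt hi) := by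
  unfold sRep
  rw [dif_pos hi]

theorem sRep_mat (hG : Good2 D) {i : ℕ} (hi : i < D.rank) :
    (((sRep hG F i : ↥(D.group F)) : GL D.Idx F) : Matrix D.Idx D.Idx F) =
      D.nMat F (D.simple i) 1 := by
  rw [sRep_coe hG hi, nGL_coe]

theorem image_sRep (hG : Good2 D) :
    sRep hG F '' ((Finset.range D.rank : Finset ℕ) : Set ℕ) =
      {n : ↥(D.group F) | ∃ i < D.rank,
        ((n : GL D.Idx F) : Matrix D.Idx D.Idx F) = D.nMat F (D.simple i) 1} := by
  ext n
  constructor
  · rintro ⟨i, hi, rfl⟩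
    have hi' : i < D.rank := Finset.mem_range.mp (by exact_mod_cast hi)
    exact ⟨i, hi', sRep_mat hG hi'⟩
  · rintro ⟨i, hi, hn⟩
    refine ⟨i, by exact_mod_cast Finset.mem_range.mpr hi, ?_⟩
    apply Subtype.ext
    apply Units.ext
    rw [sRep_mat hG hi, hn]

theorem parabolicIn_eq (hG : Good2 D) (B' : Subgroup ↥(D.group F))
    (hB' : B' = (D.borelSubgroup F).subgroupOf (D.group F)) (J : Finset ℕ)
    (hJ : J ⊆ Finset.range D.rank) :
    D.parabolicIn F J = B' ⊔ Subgroup.closure (sRep hG F '' (J : Set ℕ)) := by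
  have hG1 := hG.toGood1
  have hBG : D.borelSubgroup F ≤ D.group F := borelSubgroup_le_group hG1
  have hset : {g : GL D.Idx F | ∃ j ∈ (J : Set ℕ), j < D.rank ∧
      (g : Matrix D.Idx D.Idx F) = D.nMat F (D.simple j) 1} =
      (D.group F).subtype '' (sRep hG F '' (J : Set ℕ)) := by
    ext g
    constructor
    · rintro ⟨j, hjJ, hj, hg⟩
      refine ⟨sRep hG F j, ⟨j, hjJ, rfl⟩, ?_⟩
      apply Units.ext
      rw [Subgroup.coe_subtype, sRep_mat hG hj, hg]
    · rintro ⟨_, ⟨j, hjJ, rfl⟩, rfl⟩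
      have hj : j < D.rank := Finset.mem_range.mp (hJ (by exact_mod_cast hjJ))
      exact ⟨j, hjJ, hj, sRep_mat hG hj⟩
  unfold ChevalleyDatum.parabolicIn ChevalleyDatum.parabolicSubgroup
  rw [hset, ← MonoidHom.map_closure]
  have hle : (Subgroup.closure (sRep hG F '' (J : Set ℕ))).map (D.group F).subtype ≤ D.group F := by
    rintro x ⟨y, -, rfl⟩
    exact y.2
  rw [Subgroup.subgroupOf_sup hBG hle, hB']
  congr 1
  unfold Subgroup.subgroupOf
  exact Subgroup.comap_map_eq_self_of_injective Subtype.coe_injective _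

universe u

/-- The Steinberg character is irreducible. -/
theorem steinberg_irr {F : Type u} [Field F] [Fintype F] (D : ChevalleyDatum)
    (hD : D ∈ [chevG2, chevB2, chevD4, chevF4, chevE6, chevE7, chevE8]) :
    Cfsg.IsIrrCharacter ↥(D.group F) (D.steinbergCharacter F) := by
  have hG := good3_of_mem D hD
  have hT := T0_of_mem D hD
  have h5 := T5_of_mem D hD
  have h6 := T6_of_mem D hD
  have h8 := T8_of_mem D hD
  have h9 := T9_of_mem D hD
  obtain ⟨P, hPB, -, hPS⟩ := exists_bnPair (F := F) hG.toGood2 hT hG.t3 hG.t4 h5 h6 h8 h9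
  haveI : Fintype ↥(D.group F) := Fintype.ofFinite _
  have himg : sRep hG.toGood2 F '' ((Finset.range D.rank : Finset ℕ) : Set ℕ) = P.S := by
    rw [hPS]
    exact image_sRep hG.toGood2
  have hpar : ∀ J, J ⊆ Finset.range D.rank →
      D.parabolicIn F J = P.parabolic (sRep hG.toGood2 F '' (J : Set ℕ)) := by
    intro J hJ
    exact parabolicIn_eq hG.toGood2 P.B hPB J hJ
  exact isIrrCharacter_St P (I := Finset.range D.rank) (s := sRep hG.toGood2 F)
    (par := D.parabolicIn F) himg hpar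

end Cfsg.Agent.Lead.SteinChev
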