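import Mathlib
import Cfsg.Agent.Lead.SteinCharE
import Cfsg.Agent.Lead.SteinChevA
import Cfsg.Agent.Helper7.ChevW0All

set_option autoImplicit false

/-!
The restriction of the Steinberg character of a Chevalley group to `B`.
-/

namespace Cfsg.Agent.Lead.SteinChev

open Cfsg Cfsg.Lie Matrix DoubleCoset Cfsg.Agent.Helper7.Chev Cfsg.Agent.Helper7.BN
  Cfsg.Agent.Lead.SteinChar Cfsg.Agent.Lead.SteinBN
open scoped Pointwise

variable {D : ChevalleyDatum} {F : Type*} [Field F]

/-- A word for the longest element gives an element of `N` conjugating `U` onto `V`. -/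
theorem conj_pos_eq_neg (hG : Good2 D) (hT : T0 D) {w : List ℕ} (hw : (tabOf D).W0ok w) :
    (D.posUnipotent F).map (MulAut.conj (nWordGL hG w)).toMonoidHom = D.negUnipotent F := by
  obtain ⟨hw1, hw2, hw3⟩ := hw
  have hw1' : ∀ i ∈ w, i < D.rank := hw1
  have hG1 := hG.toGood1
  unfold ChevalleyDatum.posUnipotent ChevalleyDatum.negUnipotent
  rw [MonoidHom.map_closure]
  congr 1
  ext y
  constructor
  · rintro ⟨x, ⟨s, t, hs, hx⟩, rfl⟩
    have hslt := hs.1
    obtain ⟨ε, hε, h⟩ := nWordMat_mul_x (F := F) hG hw1' hslt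
    have hlt := reflWord_lt hG hw1' hslt
    refine ⟨(tabOf D).reflWord w s, ε * t, ?_, ?_⟩
    · rw [isNegRoot_iff hT hlt]
      exact hw2 s hslt ((isPosRoot_iff hT hslt).mp hs)
    · have : (MulAut.conj (nWordGL hG w)).toMonoidHom x = xGL hG1 hlt (ε * t) := by
        change nWordGL hG w * x * (nWordGL hG w)⁻¹ = _
        rw [mul_inv_eq_iff_eq_mul]
        apply Units.ext
        rw [Units.val_mul, Units.val_mul, nWordGL_coe hG hw1', hx, xGL_coe, h t]
      rw [this, xGL_coe]
  · rintro ⟨s', t', hs', hy⟩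
    have hs'lt := hs'.1
    have hrev : ∀ i ∈ w.reverse, i < D.rank := fun i hi => hw1' i (List.mem_reverse.mp hi)
    have hslt := reflWord_lt hG hrev hs'lt
    have hback : (tabOf D).reflWord w ((tabOf D).reflWord w.reverse s') = s' := by
      have := reflWord_reverse hG hrev hs'lt
      rwa [List.reverse_reverse] at this
    obtain ⟨ε, hε, h⟩ := nWordMat_mul_x (F := F) hG hw1' hslt
    refine ⟨xGL hG1 hslt (ε * t'), ⟨(tabOf D).reflWord w.reverse s', ε * t', ?_, xGL_coe _ _ _⟩, ?_⟩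
    · rw [isPosRoot_iff hT hslt]
      exact hw3 s' hs'lt ((isNegRoot_iff hT hs'lt).mp hs')
    · change nWordGL hG w * xGL hG1 hslt (ε * t') * (nWordGL hG w)⁻¹ = y
      rw [mul_inv_eq_iff_eq_mul]
      apply Units.ext
      rw [Units.val_mul, Units.val_mul, nWordGL_coe hG hw1', xGL_coe, h (ε * t'), hback, hy,
        ← mul_assoc, hε, one_mul]

/-- The elements of `B` which the longest element conjugates into `B` are those of `H`. -/
theorem conj_w0_mem_borel_iff (hG : Good2 D) (hT : T0 D) {w : List ℕ} (hw : (tabOf D).W0ok w)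
    {b : GL D.Idx F} (hb : b ∈ D.borelSubgroup F) :
    nWordGL hG w * b * (nWordGL hG w)⁻¹ ∈ D.borelSubgroup F ↔ b ∈ D.diagonalSubgroup F := by
  have hHB : D.diagonalSubgroup F ≤ D.borelSubgroup F := le_sup_right
  have hnN := nWordGL_mem_normalizer (F := F) hG w
  set n0 : GL D.Idx F := nWordGL hG w with hn0
  constructor
  · intro hB
    have hmul := Subgroup.coe_mul_of_right_le_normalizer_left (D.posUnipotent F)
      (D.diagonalSubgroup F) (diagonalSubgroup_le_normalizer_pos hG)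
    obtain ⟨u, hu, h, hh, rfl⟩ : b ∈ (D.posUnipotent F : Set (GL D.Idx F)) *
        (D.diagonalSubgroup F : Set (GL D.Idx F)) := by
      rw [← hmul]; exact hb
    have hv : n0 * u * n0⁻¹ ∈ D.negUnipotent F := by
      rw [← conj_pos_eq_neg (F := F) hG hT hw]
      exact ⟨u, hu, rfl⟩
    have hh' : n0 * h * n0⁻¹ ∈ D.diagonalSubgroup F := conj_mem_diagonal hnN hh
    have e : n0 * (u * h) * n0⁻¹ = (n0 * u * n0⁻¹) * (n0 * h * n0⁻¹) := by group
    have hmem : n0 * (u * h) * n0⁻¹ ∈
        D.borelSubgroup F ⊓ (D.negUnipotent F ⊔ D.diagonalSubgroup F) := by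
      refine ⟨hB, ?_⟩
      rw [e]
      exact mul_mem (Subgroup.mem_sup_left hv) (Subgroup.mem_sup_right hh')
    rw [borel_inf_negBorel hG hT] at hmem
    have := conj_mem_diagonal' hnN hmem
    have e2 : n0⁻¹ * (n0 * (u * h) * n0⁻¹) * n0 = u * h := by group
    rwa [e2] at this
  · intro hH
    exact hHB (conj_mem_diagonal hnN hH)

section pair

variable (hG : Good2 D) (hT : T0 D) (h3 : (tabOf D).T3) (h4 : (tabOf D).T4 60) (h5 : (tabOf D).T5)
  (h6 : (tabOf D).T6)

include hT h3 h4 h5 h6 in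
/-- The multiplication rule `C(r_i) C(r_i w₀) = C(w₀)` for the longest element. -/
theorem good_w0 (P : Cfsg.BNPair ↥(D.group F))
    (hPB : P.B = (D.borelSubgroup F).subgroupOf (D.group F)) {w : List ℕ}
    (hw : (tabOf D).W0ok w) {i : ℕ} (hi : i < D.rank) (a n : P.N)
    (ha : (((a : P.N) : ↥(D.group F)) : GL D.Idx F) = nGL hG.toGood1 (hG.toGood1.simple_lt hi))
    (hn : (((n : P.N) : ↥(D.group F)) : GL D.Idx F) = nWordGL hG w) :
    Good P (proj P a) (proj P a * proj P n) := by
  have hG1 := hG.toGood1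
  have hBG : D.borelSubgroup F ≤ D.group F := borelSubgroup_le_group hG1
  have hp := hG1.simple_lt hi
  obtain ⟨hw1, hw2, hw3⟩ := hw
  have hw1' : ∀ j ∈ w, j < D.rank := hw1
  rw [← map_mul]
  apply good_of_rep
  intro b hb
  rw [hPB, Subgroup.mem_subgroupOf] at hb
  have hw' : ∀ j ∈ i :: w, j < D.rank := by
    intro j hj
    rcases List.mem_cons.mp hj with rfl | hj
    · exact hi
    · exact hw1' j hj
  have hpos : D.nroots / 2 ≤ (tabOf D).reflWord (i :: w).reverse (D.simple i) := by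
    rw [List.reverse_cons, reflWord_append, reflWord_cons]
    change D.nroots / 2 ≤ (tabOf D).reflWord w.reverse
      ((tabOf D).refl (D.simple i) (D.simple i))
    rw [refl_self]
    exact hw3 _ (hG1.neg_lt hp) (neg_neg_of_pos hG hT hp (simple_pos hG1 hT hi))
  have key := mul_mem_doubleCoset_of_pos (F := F) hG hT h3 h4 h5 h6 hi (one_mem _) hw' hpos hb
  rw [one_mul, nWordGL_cons hG hi] at key
  obtain ⟨b₁, hb₁, b₂, hb₂, e⟩ := mem_doubleCoset.mp key
  refine (mem_C P).mpr ⟨⟨b₁, hBG hb₁⟩, ?_, ⟨b₂, hBG hb₂⟩, ?_, ?_⟩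
  · rw [hPB, Subgroup.mem_subgroupOf]; exact hb₁
  · rw [hPB, Subgroup.mem_subgroupOf]; exact hb₂
  · apply Subtype.ext
    simp only [Subgroup.coe_mul]
    rw [ha, hn]
    exact e

end pair

universe u

/-- The restriction of the Steinberg character to `B = UH` is the permutation character on the
cosets of `H`. -/
theorem steinberg_borel {F : Type u} [Field F] [Fintype F] (D : ChevalleyDatum)
    (hD : D ∈ [chevG2, chevB2, chevD4, chevF4, chevE6, chevE7, chevE8])
    (b : ↥((D.borelSubgroup F).subgroupOf (D.group F))) :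
    D.steinbergCharacter F ((((D.borelSubgroup F).subgroupOf (D.group F)).subtype) b) =
      Cfsg.fixedPointCharacter (((D.diagonalSubgroup F).subgroupOf (D.group F)).subgroupOf
        ((D.borelSubgroup F).subgroupOf (D.group F))) b := by
  have hG := good3_of_mem D hD
  have hT := T0_of_mem D hD
  have h5 := T5_of_mem D hD
  have h6 := T6_of_mem D hD
  have h8 := T8_of_mem D hD
  have h9 := T9_of_mem D hD
  have hG2 := hG.toGood2
  have hG1 := hG2.toGood1
  obtain ⟨P, hPB, hPN, hPS⟩ := exists_bnPair (F := F) hG2 hT hG.t3 hG.t4 h5 h6 h8 h9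
  obtain ⟨w, hw⟩ := exists_W0ok D hD
  haveI : Fintype ↥(D.group F) := Fintype.ofFinite _
  have himg : sRep hG2 F '' ((Finset.range D.rank : Finset ℕ) : Set ℕ) = P.S := by
    rw [hPS]
    exact image_sRep hG2
  have hpar : ∀ J, J ⊆ Finset.range D.rank →
      D.parabolicIn F J = P.parabolic (sRep hG2 F '' (J : Set ℕ)) := by
    intro J hJ
    exact parabolicIn_eq hG2 P.B hPB J hJ
  have hn0G : (nWordGL hG2 w : GL D.Idx F) ∈ D.group F :=
    monomialSubgroup_le_group hG1 (nWordGL_mem hG2 w)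
  have hn0N : (⟨nWordGL hG2 w, hn0G⟩ : ↥(D.group F)) ∈ P.N := by
    rw [hPN, Subgroup.mem_subgroupOf]
    exact nWordGL_mem hG2 w
  set n0 : P.N := ⟨⟨nWordGL hG2 w, hn0G⟩, hn0N⟩ with hn0
  have hgood : ∀ i ∈ Finset.range D.rank,
      Good P (rr P (sRep hG2 F) i) (rr P (sRep hG2 F) i * proj P n0) := by
    intro i hi
    have hi' : i < D.rank := Finset.mem_range.mp hi
    have hsN : sRep hG2 F i ∈ P.N := by
      apply P.subset
      rw [← himg]
      exact ⟨i, by exact_mod_cast hi, rfl⟩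
    rw [rr_eq P hsN]
    exact good_w0 hG2 hT hG.t3 hG.t4 h5 h6 P hPB hw hi' ⟨sRep hG2 F i, hsN⟩ n0
      (sRep_coe hG2 hi') rfl
  have hbP : ((b : ↥(D.group F))) ∈ P.B := by
    rw [hPB]; exact b.2
  have key := St_apply_B_of_good P (I := Finset.range D.rank) (s := sRep hG2 F)
    (par := D.parabolicIn F) himg hpar n0 hgood ⟨(b : ↥(D.group F)), hbP⟩
  change St (Finset.range D.rank) (D.parabolicIn F) (b : ↥(D.group F)) = _
  rw [key]
  refine fixedPointCharacter_transport P.B _ hPB _ _ ?_ (b : ↥(D.group F)) hbP b.2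
  intro x hx hx'
  rw [mem_stab_inv_proj, Subgroup.mem_subgroupOf, Subgroup.mem_subgroupOf]
  have hmemB : ∀ y : ↥(D.group F), y ∈ P.B ↔ (y : GL D.Idx F) ∈ D.borelSubgroup F := fun y => by
    rw [hPB, Subgroup.mem_subgroupOf]
  rw [hmemB]
  have hxB : (x : GL D.Idx F) ∈ D.borelSubgroup F := hx'
  have := conj_w0_mem_borel_iff (F := F) hG2 hT hw hxB
  simpa only [Subgroup.coe_mul, Subgroup.coe_inv] using this

end Cfsg.Agent.Lead.SteinChev
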