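import Mathlib
import Cfsg.Agent.Lead.SteinChevB
import Cfsg.Agent.Helper7.ChevCount

set_option autoImplicit false

/-!
The degree of the Steinberg character of a Chevalley group.
-/

namespace Cfsg.Agent.Lead.SteinChev

open Cfsg Cfsg.Lie Matrix Cfsg.Agent.Helper7.Chev Cfsg.Agent.Lead.SteinChar

universe u

/-- The degree of the Steinberg character. -/
theorem steinberg_one {F : Type u} [Field F] [Fintype F] (D : ChevalleyDatum)
    (hD : D ∈ [chevG2, chevB2, chevD4, chevF4, chevE6, chevE7, chevE8]) :
    D.steinbergCharacter F 1 = (Fintype.card F : ℂ) ^ (D.nroots / 2) := by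
  have hG := good3_of_mem D hD
  have hT := T0_of_mem D hD
  have h7 := T7_of_mem D hD
  have h8 := T8_of_mem D hD
  have hG2 := hG.toGood2
  have hG1 := hG2.toGood1
  have h := steinberg_borel (F := F) D hD 1
  rw [map_one, fixedPointCharacter_one] at h
  rw [h]
  have hBG : D.borelSubgroup F ≤ D.group F := borelSubgroup_le_group hG1
  have hHB : D.diagonalSubgroup F ≤ D.borelSubgroup F := le_sup_right
  have h1 : (((D.diagonalSubgroup F).subgroupOf (D.group F)).subgroupOf
      ((D.borelSubgroup F).subgroupOf (D.group F))).index =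
      (D.diagonalSubgroup F).relIndex (D.borelSubgroup F) := by
    rw [← Subgroup.relIndex_subgroupOf hBG]
    rfl
  have h2 : (D.diagonalSubgroup F).relIndex (D.borelSubgroup F) *
      Nat.card (D.diagonalSubgroup F) = Nat.card (D.borelSubgroup F) := by
    rw [Subgroup.relIndex, ← Nat.card_congr (Subgroup.subgroupOfEquivOfLe hHB).toEquiv]
    exact Subgroup.index_mul_card _
  rw [card_borel hG2 hT hG.t3 hG.t4 h7 h8] at h2
  have h3 : (D.diagonalSubgroup F).relIndex (D.borelSubgroup F) =
      Fintype.card F ^ (D.nroots / 2) :=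
    Nat.eq_of_mul_eq_mul_right Nat.card_pos h2
  rw [h1, h3]
  push_cast
  rfl

end Cfsg.Agent.Lead.SteinChev
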