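import Mathlib
import Cfsg.Agent.Lead.SteinChevC
import Cfsg.Agent.Helper7.ChevSylow
import Cfsg.Agent.Helper6.DefectZeroBlock
import Cfsg.Agent.Helper6.PowCongr

set_option autoImplicit false

/-!
The Steinberg character of a Chevalley group vanishes at the elements of order divisible by the
characteristic.
-/

namespace Cfsg.Agent.Lead.SteinChev

open Cfsg Cfsg.Lie Matrix Cfsg.Agent.Helper7.Chev Cfsg.Agent.Lead.SteinChar

universe u

/-- The Steinberg character vanishes at the elements of order divisible by the characteristic. -/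
theorem steinberg_vanish {F : Type u} [Field F] [Fintype F] (p : ℕ) [Fact p.Prime] [CharP F p]
    (D : ChevalleyDatum) (hD : D ∈ [chevG2, chevB2, chevD4, chevF4, chevE6, chevE7, chevE8])
    (g : ↥(D.group F)) (hg : p ∣ orderOf g) :
    D.steinbergCharacter F g = 0 := by
  have hp : p.Prime := Fact.out
  have hG := good3_of_mem D hD
  have hT := T0_of_mem D hD
  have h7 := T7_of_mem D hD
  have h8 := T8_of_mem D hD
  have hG2 := hG.toGood2
  have hG1 := hG2.toGood1
  obtain ⟨M, -, hM, hpM⟩ := Cfsg.Agent.Helper6.exists_isPModular p hp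
  have hirr := steinberg_irr (F := F) D hD
  set χ : Cfsg.IrrCharacter ↥(D.group F) := ⟨D.steinbergCharacter F, hirr⟩ with hχ
  have hdeg : Cfsg.charDegree (χ : ↥(D.group F) → ℂ) = Fintype.card F ^ (D.nroots / 2) := by
    unfold Cfsg.charDegree
    change ⌊(D.steinbergCharacter F 1).re⌋₊ = _
    rw [steinberg_one D hD]
    have : ((Fintype.card F : ℂ) ^ (D.nroots / 2)) =
        ((Fintype.card F ^ (D.nroots / 2) : ℕ) : ℂ) := by
      push_cast; rfl
    rw [this, Complex.natCast_re, Nat.floor_natCast]
  obtain ⟨S, hS⟩ := chev_S2326 (F := F) p D hD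
  have hUG : D.posUnipotent F ≤ D.group F :=
    le_trans le_sup_left (borelSubgroup_le_group hG1)
  have hcardU : Nat.card ((D.posUnipotent F).subgroupOf (D.group F)) =
      Fintype.card F ^ (D.nroots / 2) := by
    rw [Nat.card_congr (Subgroup.subgroupOfEquivOfLe hUG).toEquiv]
    exact card_posUnipotent hG2 hT hG.t3 hG.t4 h7 h8
  have hS' : Nat.card (S : Subgroup ↥(D.group F)) =
      p ^ (Nat.card ↥(D.group F)).factorization p := Sylow.card_eq_multiplicity S
  rw [hS, hcardU] at hS'
  have hnd : ¬ p ∣ Nat.card ↥(D.group F) / Cfsg.charDegree (χ : ↥(D.group F) → ℂ) := by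
    rw [hdeg, hS']
    exact Nat.not_dvd_ordCompl hp Nat.card_pos.ne'
  have hsing := Cfsg.Agent.Helper6.blockOf_eq_singleton_of_not_dvd hM p hp hpM χ hnd
  exact Cfsg.Agent.Helper6.vanish_of_blockOf_eq_singleton hM p hpM χ hsing g hg

end Cfsg.Agent.Lead.SteinChev
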