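import Mathlib
import Cfsg.Agent.Helper8.AutSLnA

set_option autoImplicit false

/-!
The `(B, N)`-pair of `SL_{m+1}(F)`, part A: monomial matrices and the signed transpositions.
-/

namespace Cfsg.Agent.Lead.SLBN

open Matrix

variable {F : Type*} [Field F] {m : ℕ}

/-- `M` is monomial with pattern `σ`: the entry `(i, j)` vanishes unless `i = σ j`. -/
def MonoP (σ : Equiv.Perm (Fin (m + 1))) (M : Matrix (Fin (m + 1)) (Fin (m + 1)) F) : Prop :=
  ∀ i j, i ≠ σ j → M i j = 0

theorem perm_inv_apply (σ : Equiv.Perm (Fin (m + 1))) (x : Fin (m + 1)) : σ⁻¹ (σ x) = x :=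
  σ.symm_apply_apply x

theorem perm_apply_inv (σ : Equiv.Perm (Fin (m + 1))) (x : Fin (m + 1)) : σ (σ⁻¹ x) = x :=
  σ.apply_symm_apply x

theorem MonoP.one : MonoP (1 : Equiv.Perm (Fin (m + 1))) (1 : Matrix (Fin (m + 1)) (Fin (m + 1)) F) := by
  intro i j hij
  exact one_apply_ne hij

theorem mono_mul_apply {σ : Equiv.Perm (Fin (m + 1))} {M : Matrix (Fin (m + 1)) (Fin (m + 1)) F}
    (h : MonoP σ M) (A : Matrix (Fin (m + 1)) (Fin (m + 1)) F) (r c : Fin (m + 1)) :
    (M * A) r c = M r (σ⁻¹ r) * A (σ⁻¹ r) c := by
  rw [Matrix.mul_apply]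
  apply Finset.sum_eq_single
  · intro l _ hl
    have : r ≠ σ l := by
      intro e
      apply hl
      rw [e, perm_inv_apply]
    rw [h r l this, zero_mul]
  · intro hr
    exact absurd (Finset.mem_univ _) hr

theorem mul_mono_apply {σ : Equiv.Perm (Fin (m + 1))} {M : Matrix (Fin (m + 1)) (Fin (m + 1)) F}
    (h : MonoP σ M) (A : Matrix (Fin (m + 1)) (Fin (m + 1)) F) (r c : Fin (m + 1)) :
    (A * M) r c = A r (σ c) * M (σ c) c := by
  rw [Matrix.mul_apply]
  apply Finset.sum_eq_single
  · intro l _ hl
    rw [h l c hl, mul_zero]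
  · intro hr
    exact absurd (Finset.mem_univ _) hr

theorem MonoP.mul {σ τ : Equiv.Perm (Fin (m + 1))} {M M' : Matrix (Fin (m + 1)) (Fin (m + 1)) F}
    (h : MonoP σ M) (h' : MonoP τ M') : MonoP (σ * τ) (M * M') := by
  intro i j hij
  rw [mono_mul_apply h]
  have : σ⁻¹ i ≠ τ j := by
    intro e
    apply hij
    rw [Equiv.Perm.mul_apply, ← e, perm_apply_inv]
  rw [h' _ _ this, mul_zero]

/-- Conjugation by a monomial matrix. -/
theorem mono_conj_apply {σ : Equiv.Perm (Fin (m + 1))}
    {M M' : Matrix (Fin (m + 1)) (Fin (m + 1)) F} (h : MonoP σ M) (h' : MonoP σ⁻¹ M')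
    (A : Matrix (Fin (m + 1)) (Fin (m + 1)) F) (r c : Fin (m + 1)) :
    (M * A * M') r c = M r (σ⁻¹ r) * A (σ⁻¹ r) (σ⁻¹ c) * M' (σ⁻¹ c) c := by
  rw [mul_mono_apply h', mono_mul_apply h]

/-- A permutation of `Fin (m + 1)` which does not increase any element is the identity. -/
theorem perm_eq_one_of_le (σ : Equiv.Perm (Fin (m + 1))) (h : ∀ j, σ j ≤ j) : σ = 1 := by
  have key : ∀ n : ℕ, ∀ j : Fin (m + 1), (j : ℕ) = n → σ j = j := by
    intro n
    induction n using Nat.strong_induction_on with
    | _ n ih =>
      intro j hj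
      rcases (h j).lt_or_eq with hlt | heq
      · exfalso
        have h1 : σ (σ j) = σ j := ih (σ j : ℕ) (by rw [← hj]; exact hlt) (σ j) rfl
        have h2 : σ j = j := σ.injective h1
        rw [h2] at hlt
        exact lt_irrefl _ hlt
      · exact heq
  ext j
  rw [key j j rfl, Equiv.Perm.one_apply]

section elements

/-- The signed transposition `e_a ↦ e_b`, `e_b ↦ -e_a`. -/
noncomputable def wel {a b : Fin (m + 1)} (h : a ≠ b) : SpecialLinearGroup (Fin (m + 1)) F :=
  SpecialLinearGroup.transvection h (-1) * SpecialLinearGroup.transvection h.symm 1 *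
    SpecialLinearGroup.transvection h (-1)

theorem tr_coe {a b : Fin (m + 1)} (h : a ≠ b) (c : F) :
    ((SpecialLinearGroup.transvection h c : SpecialLinearGroup (Fin (m + 1)) F) :
      Matrix (Fin (m + 1)) (Fin (m + 1)) F) = Matrix.transvection a b c := rfl

theorem wel_coe {a b : Fin (m + 1)} (h : a ≠ b) :
    ((wel h : SpecialLinearGroup (Fin (m + 1)) F) : Matrix (Fin (m + 1)) (Fin (m + 1)) F) =
      Matrix.transvection a b (-1) * (Matrix.transvection b a 1 * Matrix.transvection a b (-1)) := by
  rw [← Matrix.mul_assoc]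
  rfl

theorem transvection_apply (a b : Fin (m + 1)) (c : F) (r s : Fin (m + 1)) :
    Matrix.transvection a b c r s =
      (1 : Matrix (Fin (m + 1)) (Fin (m + 1)) F) r s + (if r = a ∧ s = b then c else 0) := by
  unfold Matrix.transvection
  rw [Matrix.add_apply, Matrix.single_apply]
  congr 1
  by_cases h : a = r ∧ b = s
  · rw [if_pos h, if_pos ⟨h.1.symm, h.2.symm⟩]
  · rw [if_neg h, if_neg (fun h' => h ⟨h'.1.symm, h'.2.symm⟩)]

theorem wel_apply {a b : Fin (m + 1)} (h : a ≠ b) (r s : Fin (m + 1)) :
    ((wel h : SpecialLinearGroup (Fin (m + 1)) F) : Matrix (Fin (m + 1)) (Fin (m + 1)) F) r s =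
      if r = a then (if s = b then -1 else 0)
      else if r = b then (if s = a then 1 else 0)
      else (1 : Matrix (Fin (m + 1)) (Fin (m + 1)) F) r s := by
  rw [wel_coe]
  by_cases hra : r = a
  · subst hra
    rw [if_pos rfl, Matrix.transvection_mul_apply_same,
      Matrix.transvection_mul_apply_of_ne _ _ _ _ h, Matrix.transvection_mul_apply_same,
      transvection_apply, transvection_apply]
    by_cases hsb : s = b
    · subst hsb
      simp [one_apply_ne h, h.symm]
    · by_cases hsr : s = r
      · subst hsr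
        simp [one_apply_ne h.symm, hsb]
      · simp [one_apply_ne (Ne.symm hsr), one_apply_ne (Ne.symm hsb), hsb]
  · rw [if_neg hra, Matrix.transvection_mul_apply_of_ne _ _ _ _ hra]
    by_cases hrb : r = b
    · subst hrb
      rw [if_pos rfl, Matrix.transvection_mul_apply_same, transvection_apply, transvection_apply]
      by_cases hsa : s = a
      · subst hsa
        rw [if_pos rfl, if_neg (fun h' => hra h'.1), if_neg (fun h' => h h'.2),
          one_apply_ne hra, one_apply_eq]
        ring
      · rw [if_neg hsa, if_neg (fun h' => hra h'.1)]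
        by_cases hsr : s = r
        · subst hsr
          rw [if_pos ⟨rfl, rfl⟩, one_apply_eq, one_apply_ne (Ne.symm hsa)]
          ring
        · rw [if_neg (fun h' => hsr h'.2), one_apply_ne (Ne.symm hsr),
            one_apply_ne (Ne.symm hsa)]
          ring
    · rw [if_neg hrb, Matrix.transvection_mul_apply_of_ne _ _ _ _ hrb, transvection_apply,
        if_neg (fun h' => hra h'.1), add_zero]

theorem wel_inv {a b : Fin (m + 1)} (h : a ≠ b) :
    (wel h : SpecialLinearGroup (Fin (m + 1)) F)⁻¹ =
      SpecialLinearGroup.transvection h 1 * SpecialLinearGroup.transvection h.symm (-1) *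
        SpecialLinearGroup.transvection h 1 := by
  unfold wel
  rw [_root_.mul_inv_rev, _root_.mul_inv_rev, SpecialLinearGroup.transvection_inv,
    SpecialLinearGroup.transvection_inv, neg_neg, mul_assoc]

theorem wel_inv_apply {a b : Fin (m + 1)} (h : a ≠ b) (r s : Fin (m + 1)) :
    (((wel h : SpecialLinearGroup (Fin (m + 1)) F)⁻¹ : SpecialLinearGroup (Fin (m + 1)) F) :
      Matrix (Fin (m + 1)) (Fin (m + 1)) F) r s =
      if r = a then (if s = b then 1 else 0)
      else if r = b then (if s = a then -1 else 0)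
      else (1 : Matrix (Fin (m + 1)) (Fin (m + 1)) F) r s := by
  rw [wel_inv]
  have e : ((SpecialLinearGroup.transvection h 1 * SpecialLinearGroup.transvection h.symm (-1) *
      SpecialLinearGroup.transvection h 1 : SpecialLinearGroup (Fin (m + 1)) F) :
      Matrix (Fin (m + 1)) (Fin (m + 1)) F) =
      Matrix.transvection a b 1 * (Matrix.transvection b a (-1) * Matrix.transvection a b 1) := by
    rw [← Matrix.mul_assoc]
    rfl
  rw [e]
  by_cases hra : r = a
  · subst hra
    rw [if_pos rfl, Matrix.transvection_mul_apply_same,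
      Matrix.transvection_mul_apply_of_ne _ _ _ _ h, Matrix.transvection_mul_apply_same,
      transvection_apply, transvection_apply]
    by_cases hsb : s = b
    · subst hsb
      simp [one_apply_ne h, h.symm]
    · by_cases hsr : s = r
      · subst hsr
        simp [one_apply_ne h.symm, hsb]
      · simp [one_apply_ne (Ne.symm hsr), one_apply_ne (Ne.symm hsb), hsb]
  · rw [if_neg hra, Matrix.transvection_mul_apply_of_ne _ _ _ _ hra]
    by_cases hrb : r = b
    · subst hrb
      rw [if_pos rfl, Matrix.transvection_mul_apply_same, transvection_apply, transvection_apply]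
      by_cases hsa : s = a
      · subst hsa
        rw [if_pos rfl, if_neg (fun h' => hra h'.1), if_neg (fun h' => h h'.2),
          one_apply_ne hra, one_apply_eq]
        ring
      · rw [if_neg hsa, if_neg (fun h' => hra h'.1)]
        by_cases hsr : s = r
        · subst hsr
          rw [if_pos ⟨rfl, rfl⟩, one_apply_eq, one_apply_ne (Ne.symm hsa)]
          ring
        · rw [if_neg (fun h' => hsr h'.2), one_apply_ne (Ne.symm hsr),
            one_apply_ne (Ne.symm hsa)]
          ring
    · rw [if_neg hrb, Matrix.transvection_mul_apply_of_ne _ _ _ _ hrb, transvection_apply,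
        if_neg (fun h' => hra h'.1), add_zero]

theorem wel_monoP {a b : Fin (m + 1)} (h : a ≠ b) :
    MonoP (Equiv.swap a b)
      ((wel h : SpecialLinearGroup (Fin (m + 1)) F) : Matrix (Fin (m + 1)) (Fin (m + 1)) F) := by
  intro r s hrs
  rw [wel_apply]
  by_cases hra : r = a
  · subst hra
    rw [if_pos rfl]
    by_cases hsb : s = b
    · subst hsb
      exact absurd (Equiv.swap_apply_right r s).symm hrs
    · rw [if_neg hsb]
  · rw [if_neg hra]
    by_cases hrb : r = b
    · subst hrb
      rw [if_pos rfl]
      by_cases hsa : s = a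
      · subst hsa
        exact absurd (Equiv.swap_apply_left s r).symm hrs
      · rw [if_neg hsa]
    · rw [if_neg hrb]
      apply one_apply_ne
      intro e
      subst e
      apply hrs
      rw [Equiv.swap_apply_of_ne_of_ne hra hrb]

theorem wel_inv_monoP {a b : Fin (m + 1)} (h : a ≠ b) :
    MonoP (Equiv.swap a b)⁻¹
      (((wel h : SpecialLinearGroup (Fin (m + 1)) F)⁻¹ : SpecialLinearGroup (Fin (m + 1)) F) :
        Matrix (Fin (m + 1)) (Fin (m + 1)) F) := by
  rw [Equiv.swap_inv]
  intro r s hrs
  rw [wel_inv_apply]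
  by_cases hra : r = a
  · subst hra
    rw [if_pos rfl]
    by_cases hsb : s = b
    · subst hsb
      exact absurd (Equiv.swap_apply_right r s).symm hrs
    · rw [if_neg hsb]
  · rw [if_neg hra]
    by_cases hrb : r = b
    · subst hrb
      rw [if_pos rfl]
      by_cases hsa : s = a
      · subst hsa
        exact absurd (Equiv.swap_apply_left s r).symm hrs
      · rw [if_neg hsa]
    · rw [if_neg hrb]
      apply one_apply_ne
      intro e
      subst e
      apply hrs
      rw [Equiv.swap_apply_of_ne_of_ne hra hrb]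

end elements

end Cfsg.Agent.Lead.SLBN
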