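import Mathlib
import Cfsg.Agent.Lead.SLBNA

set_option autoImplicit false

/-!
The `(B, N)`-pair of `SL_{m+1}(F)`, part B: the subgroups `B` and `N`, the generators, and the
easy axioms.
-/

namespace Cfsg.Agent.Lead.SLBN

open Matrix Cfsg.Agent.Helper8.AutSLn

variable {F : Type*} [Field F] {m : ℕ}

/-- The upper triangular subgroup. -/
def Bs (F : Type*) [Field F] (m : ℕ) : Subgroup (SpecialLinearGroup (Fin (m + 1)) F) where
  carrier := {g | (g : Matrix (Fin (m + 1)) (Fin (m + 1)) F).BlockTriangular id}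
  mul_mem' := by
    intro a b ha hb
    exact BlockTriangular.mul ha hb
  one_mem' := by
    exact blockTriangular_one
  inv_mem' := by
    intro a ha
    exact upper_inv ha

theorem mem_Bs {g : SpecialLinearGroup (Fin (m + 1)) F} :
    g ∈ Bs F m ↔ (g : Matrix (Fin (m + 1)) (Fin (m + 1)) F).BlockTriangular id := Iff.rfl

/-- The monomial subgroup. -/
def Ns (F : Type*) [Field F] (m : ℕ) : Subgroup (SpecialLinearGroup (Fin (m + 1)) F) where
  carrier := {g | ∃ σ : Equiv.Perm (Fin (m + 1)),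
    MonoP σ (g : Matrix (Fin (m + 1)) (Fin (m + 1)) F) ∧
    MonoP σ⁻¹ ((g⁻¹ : SpecialLinearGroup (Fin (m + 1)) F) : Matrix (Fin (m + 1)) (Fin (m + 1)) F)}
  mul_mem' := by
    rintro a b ⟨σ, h1, h2⟩ ⟨τ, h3, h4⟩
    refine ⟨σ * τ, ?_, ?_⟩
    · exact h1.mul h3
    · rw [_root_.mul_inv_rev, _root_.mul_inv_rev]
      exact h4.mul h2
  one_mem' := by
    refine ⟨1, ?_, ?_⟩
    · exact MonoP.one
    · rw [inv_one, inv_one]
      exact MonoP.one
  inv_mem' := by
    rintro a ⟨σ, h1, h2⟩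
    refine ⟨σ⁻¹, h2, ?_⟩
    rw [inv_inv, inv_inv]
    exact h1

theorem mem_Ns {g : SpecialLinearGroup (Fin (m + 1)) F} :
    g ∈ Ns F m ↔ ∃ σ : Equiv.Perm (Fin (m + 1)),
      MonoP σ (g : Matrix (Fin (m + 1)) (Fin (m + 1)) F) ∧
      MonoP σ⁻¹ ((g⁻¹ : SpecialLinearGroup (Fin (m + 1)) F) :
        Matrix (Fin (m + 1)) (Fin (m + 1)) F) := Iff.rfl

/-- The non-zero entries of a monomial matrix of determinant one. -/
theorem mono_entry_ne_zero {g : SpecialLinearGroup (Fin (m + 1)) F} {σ : Equiv.Perm (Fin (m + 1))}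
    (h : MonoP σ (g : Matrix (Fin (m + 1)) (Fin (m + 1)) F)) (j : Fin (m + 1)) :
    (g : Matrix (Fin (m + 1)) (Fin (m + 1)) F) (σ j) j ≠ 0 := by
  intro h0
  have hdet : (g : Matrix (Fin (m + 1)) (Fin (m + 1)) F).det = 0 := by
    apply Matrix.det_eq_zero_of_column_eq_zero j
    intro i
    by_cases hi : i = σ j
    · rw [hi]
      exact h0
    · exact h i j hi
  rw [g.2] at hdet
  exact one_ne_zero hdet

theorem perm_eq_one_of_mono_upper {g : SpecialLinearGroup (Fin (m + 1)) F}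
    {σ : Equiv.Perm (Fin (m + 1))}
    (h : MonoP σ (g : Matrix (Fin (m + 1)) (Fin (m + 1)) F))
    (hB : (g : Matrix (Fin (m + 1)) (Fin (m + 1)) F).BlockTriangular id) : σ = 1 := by
  apply perm_eq_one_of_le
  intro j
  by_contra hlt
  rw [not_le] at hlt
  exact mono_entry_ne_zero h j (hB (show id j < id (σ j) from hlt))

theorem pattern_unique {g : SpecialLinearGroup (Fin (m + 1)) F}
    {σ τ : Equiv.Perm (Fin (m + 1))}
    (h : MonoP σ (g : Matrix (Fin (m + 1)) (Fin (m + 1)) F))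
    (h' : MonoP τ (g : Matrix (Fin (m + 1)) (Fin (m + 1)) F)) : σ = τ := by
  apply Equiv.ext
  intro j
  by_contra hne
  exact mono_entry_ne_zero h j (h' _ _ hne)

theorem upper_of_mono_one {M : Matrix (Fin (m + 1)) (Fin (m + 1)) F}
    (h : MonoP (1 : Equiv.Perm (Fin (m + 1))) M) : M.BlockTriangular id := by
  intro i j hij
  apply h
  rw [Equiv.Perm.one_apply]
  exact ne_of_gt hij

theorem mono_one_of_mem_inf {g : SpecialLinearGroup (Fin (m + 1)) F}
    (hg : g ∈ Bs F m ⊓ Ns F m) :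
    MonoP (1 : Equiv.Perm (Fin (m + 1))) (g : Matrix (Fin (m + 1)) (Fin (m + 1)) F) ∧
    MonoP (1 : Equiv.Perm (Fin (m + 1)))
      ((g⁻¹ : SpecialLinearGroup (Fin (m + 1)) F) : Matrix (Fin (m + 1)) (Fin (m + 1)) F) := by
  obtain ⟨hB, σ, h1, h2⟩ := hg
  have hσ : σ = 1 := perm_eq_one_of_mono_upper h1 hB
  subst hσ
  rw [inv_one] at h2
  exact ⟨h1, h2⟩

theorem mem_inf_of_mono_one {g : SpecialLinearGroup (Fin (m + 1)) F}
    (h1 : MonoP (1 : Equiv.Perm (Fin (m + 1))) (g : Matrix (Fin (m + 1)) (Fin (m + 1)) F))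
    (h2 : MonoP (1 : Equiv.Perm (Fin (m + 1)))
      ((g⁻¹ : SpecialLinearGroup (Fin (m + 1)) F) : Matrix (Fin (m + 1)) (Fin (m + 1)) F)) :
    g ∈ Bs F m ⊓ Ns F m := by
  refine ⟨upper_of_mono_one h1, 1, h1, ?_⟩
  rw [inv_one]
  exact h2

/-- `B ⊓ N` is normalised by `N`. -/
theorem conj_mem_Bs {n t : SpecialLinearGroup (Fin (m + 1)) F} (hn : n ∈ Ns F m)
    (ht : t ∈ Bs F m ⊓ Ns F m) : n * t * n⁻¹ ∈ Bs F m := by
  obtain ⟨σ, h1, h2⟩ := hn
  obtain ⟨ht1, -⟩ := mono_one_of_mem_inf ht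
  rw [mem_Bs]
  apply upper_of_mono_one
  have h3 := (h1.mul ht1).mul h2
  rw [mul_one, mul_inv_cancel] at h3
  exact h3

/-- Every pattern occurs. -/
theorem exists_pattern (σ : Equiv.Perm (Fin (m + 1))) :
    ∃ g : SpecialLinearGroup (Fin (m + 1)) F,
      MonoP σ (g : Matrix (Fin (m + 1)) (Fin (m + 1)) F) ∧
      MonoP σ⁻¹ ((g⁻¹ : SpecialLinearGroup (Fin (m + 1)) F) :
        Matrix (Fin (m + 1)) (Fin (m + 1)) F) := by
  induction σ using Equiv.Perm.swap_induction_on with
  | one =>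
    refine ⟨1, ?_, ?_⟩
    · exact MonoP.one
    · rw [inv_one, inv_one]
      exact MonoP.one
  | swap_mul f x y hxy ih =>
    obtain ⟨g, h1, h2⟩ := ih
    refine ⟨wel hxy * g, ?_, ?_⟩
    · exact (wel_monoP hxy).mul h1
    · rw [_root_.mul_inv_rev, _root_.mul_inv_rev]
      exact h2.mul (wel_inv_monoP hxy)

theorem adj_ne (i : Fin m) : i.castSucc ≠ i.succ := (Fin.castSucc_lt_succ (i := i)).ne

/-- The representatives of the fundamental reflections. -/
noncomputable def sgen (F : Type*) [Field F] {m : ℕ} (i : Fin m) :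
    SpecialLinearGroup (Fin (m + 1)) F := wel (adj_ne i)

theorem sgen_monoP (i : Fin m) :
    MonoP (Equiv.swap i.castSucc i.succ)
      ((sgen F i : SpecialLinearGroup (Fin (m + 1)) F) :
        Matrix (Fin (m + 1)) (Fin (m + 1)) F) := wel_monoP (adj_ne i)

theorem sgen_inv_monoP (i : Fin m) :
    MonoP (Equiv.swap i.castSucc i.succ)⁻¹
      (((sgen F i : SpecialLinearGroup (Fin (m + 1)) F)⁻¹ :
        SpecialLinearGroup (Fin (m + 1)) F) :
        Matrix (Fin (m + 1)) (Fin (m + 1)) F) := wel_inv_monoP (adj_ne i)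

theorem sgen_mem_Ns (i : Fin m) : sgen F i ∈ Ns F m :=
  ⟨Equiv.swap i.castSucc i.succ, sgen_monoP i, sgen_inv_monoP i⟩

/-- The set of the representatives. -/
def Ss (F : Type*) [Field F] (m : ℕ) : Set (SpecialLinearGroup (Fin (m + 1)) F) :=
  Set.range (sgen F)

theorem Ss_subset : Ss F m ⊆ (Ns F m : Set (SpecialLinearGroup (Fin (m + 1)) F)) := by
  rintro _ ⟨i, rfl⟩
  exact sgen_mem_Ns i

theorem sgen_sq_mem (i : Fin m) : sgen F i * sgen F i ∈ Bs F m := by
  rw [mem_Bs]
  apply upper_of_mono_one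
  have h := (sgen_monoP (F := F) i).mul (sgen_monoP (F := F) i)
  rw [Equiv.swap_mul_self] at h
  exact h

theorem adj_swap_injective {i j : Fin m}
    (h : Equiv.swap i.castSucc i.succ = Equiv.swap j.castSucc j.succ) : i = j := by
  have h1 : Equiv.swap j.castSucc j.succ i.castSucc = i.succ := by
    rw [← h, Equiv.swap_apply_left]
  rw [Equiv.swap_apply_def] at h1
  have ha : ((i.castSucc : Fin (m + 1)) : ℕ) = i := rfl
  have hb : ((i.succ : Fin (m + 1)) : ℕ) = i + 1 := Fin.val_succ i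
  have ha' : ((j.castSucc : Fin (m + 1)) : ℕ) = j := rfl
  have hb' : ((j.succ : Fin (m + 1)) : ℕ) = j + 1 := Fin.val_succ j
  apply Fin.ext
  split_ifs at h1 with h2 h3
  · have := congrArg Fin.val h2
    omega
  · have e1 := congrArg Fin.val h1
    have e2 := congrArg Fin.val h3
    omega
  · have e1 := congrArg Fin.val h1
    omega

theorem sgen_inj {i j : Fin m} (h : (sgen F i)⁻¹ * sgen F j ∈ Bs F m) : i = j := by
  have h1 := (sgen_inv_monoP (F := F) i).mul (sgen_monoP (F := F) j)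
  have h2 := perm_eq_one_of_mono_upper (g := (sgen F i)⁻¹ * sgen F j) h1 h
  rw [inv_mul_eq_one] at h2
  exact adj_swap_injective h2

/-- `N` is generated by the representatives and `B ⊓ N`. -/
theorem closure_sup_eq : Subgroup.closure (Ss F m) ⊔ (Bs F m ⊓ Ns F m) = Ns F m := by
  apply le_antisymm
  · exact sup_le ((Subgroup.closure_le _).mpr Ss_subset) inf_le_right
  · intro g hg
    obtain ⟨σ, h1, h2⟩ := hg
    have key : ∀ σ : Equiv.Perm (Fin (m + 1)), ∀ g : SpecialLinearGroup (Fin (m + 1)) F,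
        MonoP σ (g : Matrix (Fin (m + 1)) (Fin (m + 1)) F) →
        MonoP σ⁻¹ ((g⁻¹ : SpecialLinearGroup (Fin (m + 1)) F) :
          Matrix (Fin (m + 1)) (Fin (m + 1)) F) →
        g ∈ Subgroup.closure (Ss F m) ⊔ (Bs F m ⊓ Ns F m) := by
      intro σ
      refine Submonoid.induction_of_closure_eq_top_left
        (Equiv.Perm.mclosure_swap_castSucc_succ m) σ ?_ ?_
      · intro g h1 h2
        rw [inv_one] at h2
        exact Subgroup.mem_sup_right (mem_inf_of_mono_one h1 h2)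
      · rintro _ ⟨i, rfl⟩ y ih g h1 h2
        change MonoP (Equiv.swap i.castSucc i.succ * y) _ at h1
        change MonoP (Equiv.swap i.castSucc i.succ * y)⁻¹ _ at h2
        have e : g = sgen F i * ((sgen F i)⁻¹ * g) := by group
        rw [e]
        apply Subgroup.mul_mem
        · exact Subgroup.mem_sup_left (Subgroup.subset_closure ⟨i, rfl⟩)
        · apply ih
          · have h3 := (sgen_inv_monoP (F := F) i).mul h1
            have e2 : (Equiv.swap i.castSucc i.succ)⁻¹ * (Equiv.swap i.castSucc i.succ * y) = y := by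
              rw [inv_mul_cancel_left]
            rw [e2] at h3
            exact h3
          · have h3 := h2.mul (sgen_monoP (F := F) i)
            have e2 : (Equiv.swap i.castSucc i.succ * y)⁻¹ * Equiv.swap i.castSucc i.succ =
                y⁻¹ := by
              rw [_root_.mul_inv_rev, inv_mul_cancel_right]
            rw [e2] at h3
            rw [_root_.mul_inv_rev, inv_inv]
            exact h3
    exact key σ g h1 h2

/-- Conjugation by a monomial matrix, from the other side. -/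
theorem conj_inv_apply {n : SpecialLinearGroup (Fin (m + 1)) F} {σ : Equiv.Perm (Fin (m + 1))}
    (h1 : MonoP σ (n : Matrix (Fin (m + 1)) (Fin (m + 1)) F))
    (h2 : MonoP σ⁻¹ ((n⁻¹ : SpecialLinearGroup (Fin (m + 1)) F) :
      Matrix (Fin (m + 1)) (Fin (m + 1)) F))
    (g : SpecialLinearGroup (Fin (m + 1)) F) (r c : Fin (m + 1)) :
    ((n⁻¹ * g * n : SpecialLinearGroup (Fin (m + 1)) F) :
      Matrix (Fin (m + 1)) (Fin (m + 1)) F) r c =
      ((n⁻¹ : SpecialLinearGroup (Fin (m + 1)) F) : Matrix (Fin (m + 1)) (Fin (m + 1)) F) r (σ r) *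
        (g : Matrix (Fin (m + 1)) (Fin (m + 1)) F) (σ r) (σ c) *
        (n : Matrix (Fin (m + 1)) (Fin (m + 1)) F) (σ c) c := by
  have h1' : MonoP (σ⁻¹)⁻¹ (n : Matrix (Fin (m + 1)) (Fin (m + 1)) F) := by
    rw [inv_inv]
    exact h1
  have := mono_conj_apply h2 h1' (g : Matrix (Fin (m + 1)) (Fin (m + 1)) F) r c
  rw [inv_inv] at this
  exact this

theorem conj_apply {n : SpecialLinearGroup (Fin (m + 1)) F} {σ : Equiv.Perm (Fin (m + 1))}
    (h1 : MonoP σ (n : Matrix (Fin (m + 1)) (Fin (m + 1)) F))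
    (h2 : MonoP σ⁻¹ ((n⁻¹ : SpecialLinearGroup (Fin (m + 1)) F) :
      Matrix (Fin (m + 1)) (Fin (m + 1)) F))
    (g : SpecialLinearGroup (Fin (m + 1)) F) (r c : Fin (m + 1)) :
    ((n * g * n⁻¹ : SpecialLinearGroup (Fin (m + 1)) F) :
      Matrix (Fin (m + 1)) (Fin (m + 1)) F) r c =
      (n : Matrix (Fin (m + 1)) (Fin (m + 1)) F) r (σ⁻¹ r) *
        (g : Matrix (Fin (m + 1)) (Fin (m + 1)) F) (σ⁻¹ r) (σ⁻¹ c) *
        ((n⁻¹ : SpecialLinearGroup (Fin (m + 1)) F) :
          Matrix (Fin (m + 1)) (Fin (m + 1)) F) (σ⁻¹ c) c := by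
  exact mono_conj_apply h1 h2 (g : Matrix (Fin (m + 1)) (Fin (m + 1)) F) r c

/-- A transvection whose root is made positive by `σ⁻¹` is conjugated into `B` by `n⁻¹`. -/
theorem conj_transvection_mem {n : SpecialLinearGroup (Fin (m + 1)) F}
    {σ : Equiv.Perm (Fin (m + 1))}
    (h1 : MonoP σ (n : Matrix (Fin (m + 1)) (Fin (m + 1)) F))
    (h2 : MonoP σ⁻¹ ((n⁻¹ : SpecialLinearGroup (Fin (m + 1)) F) :
      Matrix (Fin (m + 1)) (Fin (m + 1)) F))
    {u v : Fin (m + 1)} (huv : u ≠ v) (hlt : σ⁻¹ u < σ⁻¹ v) (c : F) :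
    n⁻¹ * SpecialLinearGroup.transvection huv c * n ∈ Bs F m := by
  rw [mem_Bs]
  intro r s hsr
  change s < r at hsr
  rw [conj_inv_apply h1 h2, tr_coe, transvection_apply]
  have hne : σ r ≠ σ s := fun e => hsr.ne' (σ.injective e)
  rw [one_apply_ne hne, if_neg, add_zero, mul_zero, zero_mul]
  rintro ⟨e1, e2⟩
  rw [← e1, ← e2, perm_inv_apply, perm_inv_apply] at hlt
  exact lt_asymm hlt hsr

/-- `B` and `N` generate. -/
theorem sup_eq_top' : Bs F m ⊔ Ns F m = ⊤ := by
  rw [eq_top_iff]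
  intro g _
  obtain ⟨n0, hn1, hn2⟩ := exists_pattern (F := F) (Fin.revPerm : Equiv.Perm (Fin (m + 1)))
  have hn0 : n0 ∈ Ns F m := ⟨_, hn1, hn2⟩
  have htr : ∀ t : TransvectionStruct (Fin (m + 1)) F,
      t.toSpecialLinearGroup ∈ Bs F m ⊔ Ns F m := by
    intro t
    rw [TransvectionStruct.toSpecialLinearGroup_def]
    rcases lt_or_gt_of_ne t.hij with hlt | hgt
    · apply Subgroup.mem_sup_left
      have := conj_transvection_mem (F := F) (n := 1) (σ := 1)
        MonoP.one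
        (by rw [inv_one, inv_one]; exact MonoP.one) t.hij
        (by rw [inv_one]; exact hlt) t.c
      rw [inv_one, one_mul, mul_one] at this
      exact this
    · have hmem := conj_transvection_mem hn1 hn2 t.hij
        (by
          change Fin.revPerm.symm t.i < Fin.revPerm.symm t.j
          rw [Fin.revPerm_symm, Fin.revPerm_apply, Fin.revPerm_apply, Fin.rev_lt_rev]
          exact hgt) t.c
      have e : SpecialLinearGroup.transvection t.hij t.c =
          n0 * (n0⁻¹ * SpecialLinearGroup.transvection t.hij t.c * n0) * n0⁻¹ := by group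
      rw [e]
      exact Subgroup.mul_mem _ (Subgroup.mul_mem _ (Subgroup.mem_sup_right hn0)
        (Subgroup.mem_sup_left hmem)) (Subgroup.inv_mem _ (Subgroup.mem_sup_right hn0))
  have hlist : ∀ L : List (TransvectionStruct (Fin (m + 1)) F),
      (L.map TransvectionStruct.toSpecialLinearGroup).prod ∈ Bs F m ⊔ Ns F m := by
    intro L
    apply Subgroup.list_prod_mem
    intro x hx
    obtain ⟨t, -, rfl⟩ := List.mem_map.mp hx
    exact htr t
  obtain ⟨L, L', D, hD, rfl⟩ :=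
    SpecialLinearGroup.exists_list_transvec_mul_diagonal_mul_list_transvec g
  refine Subgroup.mul_mem _ (Subgroup.mul_mem _ (hlist L) ?_) (hlist L')
  apply Subgroup.mem_sup_left
  exact blockTriangular_diagonal D

end Cfsg.Agent.Lead.SLBN
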