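import Mathlib
import Cfsg.Agent.Lead.SLBNB
import Cfsg.Prelude.Def_LieExceptional

set_option autoImplicit false

/-!
The `(B, N)`-pair of `SL_{m+1}(F)`, part C: the double coset axiom and the structure.
-/

namespace Cfsg.Agent.Lead.SLBN

open Matrix Cfsg.Agent.Helper8.AutSLn

variable {F : Type*} [Field F] {m : ℕ}

/-- An adjacent transposition preserves the order of every pair except the one it swaps. -/
theorem adj_swap_lt (i : Fin m) {r c : Fin (m + 1)} (h : c < r)
    (hne : ¬ (r = i.succ ∧ c = i.castSucc)) :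
    Equiv.swap i.castSucc i.succ c < Equiv.swap i.castSucc i.succ r := by
  rw [Equiv.swap_apply_def, Equiv.swap_apply_def]
  have ha : ((i.castSucc : Fin (m + 1)) : ℕ) = i := rfl
  have hb : ((i.succ : Fin (m + 1)) : ℕ) = i + 1 := Fin.val_succ i
  rw [Fin.lt_def] at h
  rw [Fin.ext_iff, Fin.ext_iff] at hne
  split_ifs with h1 h2 h3 h4 h5 h6 h7 h8 <;> rw [Fin.lt_def] <;>
    simp only [Fin.ext_iff] at * <;> omega

theorem tr_mem_Bs {u v : Fin (m + 1)} (huv : u ≠ v) (hlt : u < v) (c : F) :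
    SpecialLinearGroup.transvection huv c ∈ Bs F m := by
  rw [mem_Bs]
  intro r s hsr
  change s < r at hsr
  rw [tr_coe, transvection_apply, one_apply_ne (ne_of_gt hsr), if_neg, add_zero]
  rintro ⟨rfl, rfl⟩
  exact lt_asymm hlt hsr

/-- Conjugation by a fundamental reflection keeps in `B` the elements of `B` whose entry at the
fundamental root vanishes. -/
theorem conj_sgen_mem (i : Fin m) {b : SpecialLinearGroup (Fin (m + 1)) F} (hb : b ∈ Bs F m)
    (h0 : (b : Matrix (Fin (m + 1)) (Fin (m + 1)) F) i.castSucc i.succ = 0) :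
    sgen F i * b * (sgen F i)⁻¹ ∈ Bs F m := by
  rw [mem_Bs]
  intro r c hcr
  change c < r at hcr
  rw [conj_apply (sgen_monoP i) (sgen_inv_monoP i), Equiv.swap_inv]
  by_cases hrc : r = i.succ ∧ c = i.castSucc
  · obtain ⟨rfl, rfl⟩ := hrc
    rw [Equiv.swap_apply_right, Equiv.swap_apply_left, h0, mul_zero, zero_mul]
  · have hlt := adj_swap_lt i hcr hrc
    have hz : (b : Matrix (Fin (m + 1)) (Fin (m + 1)) F) (Equiv.swap i.castSucc i.succ r)
        (Equiv.swap i.castSucc i.succ c) = 0 := hb hlt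
    rw [hz, mul_zero, zero_mul]

theorem diag_ne_zero {b : SpecialLinearGroup (Fin (m + 1)) F} (hb : b ∈ Bs F m)
    (j : Fin (m + 1)) : (b : Matrix (Fin (m + 1)) (Fin (m + 1)) F) j j ≠ 0 := by
  intro h0
  have hdet := Matrix.det_of_isUpperTriangular (M := (b : Matrix (Fin (m + 1)) (Fin (m + 1)) F)) hb
  rw [b.2] at hdet
  have hz : ∏ i, (b : Matrix (Fin (m + 1)) (Fin (m + 1)) F) i i = 0 :=
    Finset.prod_eq_zero (Finset.mem_univ j) h0
  rw [hz] at hdet
  exact one_ne_zero hdet

/-- Clearing the entry at a fundamental root. -/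
theorem exists_clear (i : Fin m) {b : SpecialLinearGroup (Fin (m + 1)) F} (hb : b ∈ Bs F m) :
    ∃ t : F, b * SpecialLinearGroup.transvection (adj_ne i) t ∈ Bs F m ∧
      ((b * SpecialLinearGroup.transvection (adj_ne i) t : SpecialLinearGroup (Fin (m + 1)) F) :
        Matrix (Fin (m + 1)) (Fin (m + 1)) F) i.castSucc i.succ = 0 := by
  have hd := diag_ne_zero hb i.castSucc
  refine ⟨-((b : Matrix (Fin (m + 1)) (Fin (m + 1)) F) i.castSucc i.succ /
    (b : Matrix (Fin (m + 1)) (Fin (m + 1)) F) i.castSucc i.castSucc), ?_, ?_⟩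
  · exact Subgroup.mul_mem _ hb (tr_mem_Bs (adj_ne i) Fin.castSucc_lt_succ _)
  · change ((b : Matrix (Fin (m + 1)) (Fin (m + 1)) F) *
      Matrix.transvection i.castSucc i.succ _ : Matrix (Fin (m + 1)) (Fin (m + 1)) F)
      i.castSucc i.succ = 0
    rw [Matrix.mul_transvection_apply_same]
    field_simp
    ring

/-- The rank one computation. -/
theorem sl2_mem (i : Fin m) {c : F} (hc : c ≠ 0) :
    sgen F i * SpecialLinearGroup.transvection (adj_ne i) c *
      SpecialLinearGroup.transvection (adj_ne i).symm (-c⁻¹) ∈ Bs F m := by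
  rw [mem_Bs]
  intro r s hsr
  change s < r at hsr
  have e : ((sgen F i * SpecialLinearGroup.transvection (adj_ne i) c *
      SpecialLinearGroup.transvection (adj_ne i).symm (-c⁻¹) :
      SpecialLinearGroup (Fin (m + 1)) F) : Matrix (Fin (m + 1)) (Fin (m + 1)) F) =
      (sgen F i : Matrix (Fin (m + 1)) (Fin (m + 1)) F) *
        (Matrix.transvection i.castSucc i.succ c * Matrix.transvection i.succ i.castSucc (-c⁻¹)) := by
    rw [← Matrix.mul_assoc]
    rfl
  have hab : i.castSucc < i.succ := Fin.castSucc_lt_succ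
  have ha : ((i.castSucc : Fin (m + 1)) : ℕ) = i := rfl
  have hb : ((i.succ : Fin (m + 1)) : ℕ) = i + 1 := Fin.val_succ i
  rw [e, mono_mul_apply (sgen_monoP i), Equiv.swap_inv]
  by_cases hra : r = i.castSucc
  · subst hra
    have hs1 : s ≠ i.castSucc := ne_of_lt hsr
    have hs2 : s ≠ i.succ := ne_of_lt (lt_trans hsr hab)
    rw [Equiv.swap_apply_left, Matrix.transvection_mul_apply_of_ne _ _ _ _ (adj_ne i).symm,
      transvection_apply, one_apply_ne (Ne.symm hs2), if_neg (fun h' => hs1 h'.2), add_zero,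
      mul_zero]
  · by_cases hrb : r = i.succ
    · subst hrb
      rw [Equiv.swap_apply_right, Matrix.transvection_mul_apply_same, transvection_apply,
        transvection_apply, if_neg (fun h' => (adj_ne i) h'.1)]
      by_cases hsa : s = i.castSucc
      · subst hsa
        rw [one_apply_eq, one_apply_ne (adj_ne i).symm, if_pos ⟨rfl, rfl⟩]
        have : (1 : F) + 0 + c * (0 + -c⁻¹) = 0 := by
          field_simp
          ring
        rw [this, mul_zero]
      · have hs2 : s ≠ i.succ := ne_of_lt hsr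
        rw [one_apply_ne (Ne.symm hsa), one_apply_ne (Ne.symm hs2), if_neg (fun h' => hsa h'.2)]
        simp
    · rw [Equiv.swap_apply_of_ne_of_ne hra hrb, Matrix.transvection_mul_apply_of_ne _ _ _ _ hra,
        transvection_apply, one_apply_ne (ne_of_gt hsr), if_neg (fun h' => hrb h'.1), add_zero,
        mul_zero]

/-- The product `s b n` lies in `B s n B` when `n⁻¹` keeps the fundamental root positive. -/
theorem mul_mem_of_lt (i : Fin m) {n b : SpecialLinearGroup (Fin (m + 1)) F}
    {σ : Equiv.Perm (Fin (m + 1))}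
    (h1 : MonoP σ (n : Matrix (Fin (m + 1)) (Fin (m + 1)) F))
    (h2 : MonoP σ⁻¹ ((n⁻¹ : SpecialLinearGroup (Fin (m + 1)) F) :
      Matrix (Fin (m + 1)) (Fin (m + 1)) F))
    (hlt : σ⁻¹ i.castSucc < σ⁻¹ i.succ) (hb : b ∈ Bs F m) :
    sgen F i * b * n ∈ DoubleCoset.doubleCoset (sgen F i * n)
      (Bs F m : Set (SpecialLinearGroup (Fin (m + 1)) F)) (Bs F m) := by
  obtain ⟨t, hb', h0⟩ := exists_clear i hb
  have hconj := conj_sgen_mem i hb' h0
  have hx := conj_transvection_mem h1 h2 (adj_ne i) hlt (-t)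
  rw [DoubleCoset.mem_doubleCoset]
  refine ⟨_, hconj, _, hx, ?_⟩
  rw [← SpecialLinearGroup.transvection_inv]
  group

/-- The double coset axiom. -/
theorem mul_mem_union' (i : Fin m) {n b : SpecialLinearGroup (Fin (m + 1)) F}
    (hn : n ∈ Ns F m) (hb : b ∈ Bs F m) :
    sgen F i * b * n ∈ DoubleCoset.doubleCoset (sgen F i * n)
      (Bs F m : Set (SpecialLinearGroup (Fin (m + 1)) F)) (Bs F m) ∪
      DoubleCoset.doubleCoset n (Bs F m : Set (SpecialLinearGroup (Fin (m + 1)) F)) (Bs F m) := by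
  obtain ⟨σ, h1, h2⟩ := hn
  by_cases hlt : σ⁻¹ i.castSucc < σ⁻¹ i.succ
  · exact Or.inl (mul_mem_of_lt i h1 h2 hlt hb)
  · have hlt' : σ⁻¹ i.succ < σ⁻¹ i.castSucc := by
      rcases lt_trichotomy (σ⁻¹ i.succ) (σ⁻¹ i.castSucc) with h | h | h
      · exact h
      · exact absurd ((σ⁻¹).injective h).symm (adj_ne i)
      · exact absurd h hlt
    obtain ⟨t, hb', h0⟩ := exists_clear i hb
    have hconj := conj_sgen_mem i hb' h0
    by_cases ht : t = 0
    · left
      rw [ht, SpecialLinearGroup.transvection_coeff_zero, mul_one] at hconj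
      rw [DoubleCoset.mem_doubleCoset]
      refine ⟨_, hconj, 1, Subgroup.one_mem _, ?_⟩
      group
    · right
      have hc : -t ≠ 0 := neg_ne_zero.mpr ht
      have hU := sl2_mem (F := F) i hc
      have hy := conj_transvection_mem h1 h2 (adj_ne i).symm hlt' ((-t)⁻¹)
      rw [DoubleCoset.mem_doubleCoset]
      refine ⟨_, Subgroup.mul_mem _ hconj hU, _, hy, ?_⟩
      rw [← SpecialLinearGroup.transvection_inv (adj_ne i).symm,
        ← SpecialLinearGroup.transvection_inv (adj_ne i) t]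
      group

/-- `s B s ≠ B`. -/
theorem conj_ne' (i : Fin m) :
    (fun b : SpecialLinearGroup (Fin (m + 1)) F => sgen F i * b * sgen F i) ''
      (Bs F m : Set (SpecialLinearGroup (Fin (m + 1)) F)) ≠
      (Bs F m : Set (SpecialLinearGroup (Fin (m + 1)) F)) := by
  intro heq
  have hx : SpecialLinearGroup.transvection (adj_ne i) (1 : F) ∈ Bs F m :=
    tr_mem_Bs (adj_ne i) Fin.castSucc_lt_succ 1
  have h1 : sgen F i * SpecialLinearGroup.transvection (adj_ne i) (1 : F) * sgen F i ∈
      (Bs F m : Set (SpecialLinearGroup (Fin (m + 1)) F)) := by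
    rw [← heq]
    exact ⟨_, hx, rfl⟩
  have h2 : sgen F i * SpecialLinearGroup.transvection (adj_ne i) (1 : F) * (sgen F i)⁻¹ ∈
      Bs F m := by
    have e : sgen F i * SpecialLinearGroup.transvection (adj_ne i) (1 : F) * (sgen F i)⁻¹ =
        (sgen F i * SpecialLinearGroup.transvection (adj_ne i) (1 : F) * sgen F i) *
          (sgen F i * sgen F i)⁻¹ := by group
    rw [e]
    exact Subgroup.mul_mem _ h1 (Subgroup.inv_mem _ (sgen_sq_mem i))
  rw [mem_Bs] at h2
  have h3 := h2 (show id i.castSucc < id i.succ from Fin.castSucc_lt_succ)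
  rw [conj_apply (sgen_monoP i) (sgen_inv_monoP i), Equiv.swap_inv, Equiv.swap_apply_right,
    Equiv.swap_apply_left, tr_coe, transvection_apply, one_apply_ne (adj_ne i),
    if_pos ⟨rfl, rfl⟩, zero_add, mul_one] at h3
  have h4 := mono_entry_ne_zero (sgen_monoP (F := F) i) i.castSucc
  rw [Equiv.swap_apply_left] at h4
  have h5 := mono_entry_ne_zero (sgen_inv_monoP (F := F) i) i.castSucc
  rw [Equiv.swap_inv, Equiv.swap_apply_left] at h5
  exact mul_ne_zero h4 h5 h3

/-- The `(B, N)`-pair of `SL_{m+1}(F)`. -/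
noncomputable def slBN (F : Type*) [Field F] (m : ℕ) :
    Cfsg.BNPair (SpecialLinearGroup (Fin (m + 1)) F) where
  B := Bs F m
  N := Ns F m
  S := Ss F m
  sup_eq_top := sup_eq_top'
  conj_mem := fun _ hn _ ht => conj_mem_Bs hn ht
  subset := Ss_subset
  sq_mem := by
    rintro _ ⟨i, rfl⟩
    exact sgen_sq_mem i
  inj := by
    rintro _ ⟨i, rfl⟩ _ ⟨j, rfl⟩ h
    rw [sgen_inj h]
  closure_sup := closure_sup_eq
  mul_mem_union := by
    rintro _ ⟨i, rfl⟩ n hn b hb
    exact mul_mem_union' i hn hb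
  conj_ne := by
    rintro _ ⟨i, rfl⟩
    exact conj_ne' i

end Cfsg.Agent.Lead.SLBN
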