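import Mathlib
import Cfsg.Agent.Lead.SLBNC
import Cfsg.Agent.Lead.SteinCharE
import Cfsg.Agent.Helper8.AutSLnB
import Cfsg.Agent.Helper6.Inflation
import Cfsg.Agent.Helper6.DefectZeroBlock
import Cfsg.Agent.Helper6.PowCongr

set_option autoImplicit false

/-!
The Steinberg character of `SL_{m+1}(F)` and of `PSL_{m+1}(F)`.
-/

namespace Cfsg.Agent.Lead.SLBN

open Matrix Cfsg Cfsg.Agent.Helper8.AutSLn Cfsg.Agent.Helper7.BN Cfsg.Agent.Lead.SteinChar
  Cfsg.Agent.Lead.SteinBN

universe u

variable {F : Type u} [Field F] {m : ℕ}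

/-- A central element of a subgroup fixes every coset. -/
theorem fixedPointCharacter_central {G : Type*} [Group G] (H : Subgroup G) {z : G}
    (hz : z ∈ Subgroup.center G) (hzH : z ∈ H) :
    Cfsg.fixedPointCharacter H z = Cfsg.fixedPointCharacter H 1 := by
  unfold Cfsg.fixedPointCharacter
  have h : MulAction.fixedBy (G ⧸ H) z = MulAction.fixedBy (G ⧸ H) (1 : G) := by
    ext x
    rw [MulAction.mem_fixedBy, MulAction.mem_fixedBy, one_smul]
    refine ⟨fun _ => rfl, fun _ => ?_⟩
    induction x using QuotientGroup.induction_on with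
    | H x =>
      change ((z * x : G) : G ⧸ H) = (x : G ⧸ H)
      rw [QuotientGroup.eq]
      have e : (z * x)⁻¹ * x = z⁻¹ := by
        rw [← Subgroup.mem_center_iff.mp hz x]
        group
      rw [e]
      exact H.inv_mem hzH
  rw [h]

theorem center_le_Bs : Subgroup.center (SpecialLinearGroup (Fin (m + 1)) F) ≤ Bs F m := by
  intro z hz
  obtain ⟨r, -, hr⟩ := Matrix.SpecialLinearGroup.mem_center_iff.mp hz
  rw [mem_Bs, ← hr, Matrix.scalar_apply]
  exact blockTriangular_diagonal _

theorem UT_le_Bs : UT F (m + 1) ≤ Bs F m := fun _ hg => hg.1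

/-- The elements of `B` which the longest element conjugates into `B` are the diagonal ones. -/
theorem conj_rev_mem_iff {n0 : SpecialLinearGroup (Fin (m + 1)) F}
    (hn1 : MonoP (Fin.revPerm : Equiv.Perm (Fin (m + 1)))
      (n0 : Matrix (Fin (m + 1)) (Fin (m + 1)) F))
    (hn2 : MonoP (Fin.revPerm : Equiv.Perm (Fin (m + 1)))⁻¹
      ((n0⁻¹ : SpecialLinearGroup (Fin (m + 1)) F) : Matrix (Fin (m + 1)) (Fin (m + 1)) F))
    {b : SpecialLinearGroup (Fin (m + 1)) F} (hb : b ∈ Bs F m) :
    n0 * b * n0⁻¹ ∈ Bs F m ↔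
      MonoP (1 : Equiv.Perm (Fin (m + 1))) (b : Matrix (Fin (m + 1)) (Fin (m + 1)) F) := by
  constructor
  · intro h i j hij
    rw [Equiv.Perm.one_apply] at hij
    rcases lt_or_gt_of_ne hij with hlt | hgt
    · have hrev : id ((Fin.revPerm : Equiv.Perm (Fin (m + 1))) j) <
          id ((Fin.revPerm : Equiv.Perm (Fin (m + 1))) i) := by
        rw [Fin.revPerm_apply, Fin.revPerm_apply]
        exact Fin.rev_lt_rev.mpr hlt
      have h3 := h hrev
      rw [conj_apply hn1 hn2, perm_inv_apply, perm_inv_apply] at h3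
      have h4 := mono_entry_ne_zero hn1 i
      have h5 := mono_entry_ne_zero hn2 ((Fin.revPerm : Equiv.Perm (Fin (m + 1))) j)
      rw [perm_inv_apply] at h5
      rcases mul_eq_zero.mp h3 with h6 | h6
      · rcases mul_eq_zero.mp h6 with h7 | h7
        · exact absurd h7 h4
        · exact h7
      · exact absurd h6 h5
    · exact hb hgt
  · intro h
    rw [mem_Bs]
    apply upper_of_mono_one
    have h3 := (hn1.mul h).mul hn2
    rw [mul_one, mul_inv_cancel] at h3
    exact h3

/-- The diagonal subgroup of `B` has the unitriangular group as a complement. -/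
theorem index_eq_card_UT (T' : Subgroup ↥(Bs F m))
    (hT : ∀ b : ↥(Bs F m), b ∈ T' ↔ MonoP (1 : Equiv.Perm (Fin (m + 1)))
      ((b : SpecialLinearGroup (Fin (m + 1)) F) : Matrix (Fin (m + 1)) (Fin (m + 1)) F)) :
    T'.index = Nat.card (UT F (m + 1)) := by
  have hcompl : Subgroup.IsComplement' ((UT F (m + 1)).subgroupOf (Bs F m)) T' := by
    apply Subgroup.isComplement'_of_disjoint_and_mul_eq_univ
    · rw [Subgroup.disjoint_def]
      intro x hx hxT
      rw [Subgroup.mem_subgroupOf] at hx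
      rw [hT] at hxT
      apply Subtype.ext
      apply Subtype.ext
      ext i j
      change ((x : SpecialLinearGroup (Fin (m + 1)) F) :
        Matrix (Fin (m + 1)) (Fin (m + 1)) F) i j = (1 : Matrix (Fin (m + 1)) (Fin (m + 1)) F) i j
      by_cases hij : i = j
      · subst hij
        rw [hx.2 i, one_apply_eq]
      · rw [hxT i j (by rwa [Equiv.Perm.one_apply]), one_apply_ne hij]
    · rw [Set.eq_univ_iff_forall]
      intro b
      have hbB : ((b : SpecialLinearGroup (Fin (m + 1)) F) :
          Matrix (Fin (m + 1)) (Fin (m + 1)) F).BlockTriangular id := b.2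
      have hdet : (Matrix.diagonal fun i => ((b : SpecialLinearGroup (Fin (m + 1)) F) :
          Matrix (Fin (m + 1)) (Fin (m + 1)) F) i i).det = 1 := by
        rw [Matrix.det_diagonal, ← Matrix.det_of_isUpperTriangular hbB]
        exact (b : SpecialLinearGroup (Fin (m + 1)) F).2
      obtain ⟨t, ht⟩ : ∃ t : SpecialLinearGroup (Fin (m + 1)) F,
          (t : Matrix (Fin (m + 1)) (Fin (m + 1)) F) =
            Matrix.diagonal fun i => ((b : SpecialLinearGroup (Fin (m + 1)) F) :
              Matrix (Fin (m + 1)) (Fin (m + 1)) F) i i := ⟨⟨_, hdet⟩, rfl⟩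
      have htB : t ∈ Bs F m := by
        rw [mem_Bs, ht]
        exact blockTriangular_diagonal _
      have ht1 : MonoP (1 : Equiv.Perm (Fin (m + 1)))
          (t : Matrix (Fin (m + 1)) (Fin (m + 1)) F) := by
        intro i j hij
        rw [Equiv.Perm.one_apply] at hij
        rw [ht]
        exact Matrix.diagonal_apply_ne _ hij
      have hinvB : ((t⁻¹ : SpecialLinearGroup (Fin (m + 1)) F) :
          Matrix (Fin (m + 1)) (Fin (m + 1)) F).BlockTriangular id := upper_inv htB
      have hu : (b : SpecialLinearGroup (Fin (m + 1)) F) * t⁻¹ ∈ UT F (m + 1) := by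
        rw [mem_UT]
        refine ⟨BlockTriangular.mul hbB hinvB, fun i => ?_⟩
        have h1 := diag_mul_of_upper (mem_Bs.mp htB) hinvB i
        rw [coe_mul_inv, one_apply_eq, ht, Matrix.diagonal_apply_eq] at h1
        change (((b : SpecialLinearGroup (Fin (m + 1)) F) :
          Matrix (Fin (m + 1)) (Fin (m + 1)) F) *
          ((t⁻¹ : SpecialLinearGroup (Fin (m + 1)) F) :
            Matrix (Fin (m + 1)) (Fin (m + 1)) F)) i i = 1
        rw [diag_mul_of_upper hbB hinvB]
        exact h1.symm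
      refine Set.mem_mul.mpr ⟨⟨(b : SpecialLinearGroup (Fin (m + 1)) F) * t⁻¹,
        Subgroup.mul_mem _ b.2 (Subgroup.inv_mem _ htB)⟩, ?_, ⟨t, htB⟩, ?_, ?_⟩
      · rw [SetLike.mem_coe, Subgroup.mem_subgroupOf]
        exact hu
      · rw [SetLike.mem_coe, hT]
        exact ht1
      · apply Subtype.ext
        change (b : SpecialLinearGroup (Fin (m + 1)) F) * t⁻¹ * t = b
        group
  rw [hcompl.index_eq_card]
  exact Nat.card_congr (Subgroup.subgroupOfEquivOfLe UT_le_Bs).toEquiv

/-- The Steinberg character of `SL_{m+1}(F)`. -/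
theorem exists_steinberg_SL [Fintype F] (m : ℕ) :
    ∃ χ : SpecialLinearGroup (Fin (m + 1)) F → ℂ,
      Cfsg.IsIrrCharacter (SpecialLinearGroup (Fin (m + 1)) F) χ ∧
      χ 1 = Nat.card (UT F (m + 1)) ∧
      ∀ z ∈ Subgroup.center (SpecialLinearGroup (Fin (m + 1)) F), χ z = χ 1 := by
  haveI : Fintype (SpecialLinearGroup (Fin (m + 1)) F) := Fintype.ofFinite _
  have himg : sgen F '' (((Finset.univ : Finset (Fin m)) : Set (Fin m))) = (slBN F m).S := by
    rw [Finset.coe_univ, Set.image_univ]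
    rfl
  have hpar : ∀ J : Finset (Fin m), J ⊆ Finset.univ →
      (fun J : Finset (Fin m) => (slBN F m).parabolic (sgen F '' (J : Set (Fin m)))) J =
        (slBN F m).parabolic (sgen F '' (J : Set (Fin m))) := fun _ _ => rfl
  refine ⟨St Finset.univ (fun J : Finset (Fin m) =>
    (slBN F m).parabolic (sgen F '' (J : Set (Fin m)))),
    isIrrCharacter_St (slBN F m) himg hpar, ?_, ?_⟩
  · obtain ⟨n0, hn1, hn2⟩ := exists_pattern (F := F) (Fin.revPerm : Equiv.Perm (Fin (m + 1)))
    have hn0 : n0 ∈ (slBN F m).N := ⟨_, hn1, hn2⟩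
    have hgood : ∀ i ∈ (Finset.univ : Finset (Fin m)),
        Good (slBN F m) (rr (slBN F m) (sgen F) i)
          (rr (slBN F m) (sgen F) i * proj (slBN F m) ⟨n0, hn0⟩) := by
      intro i _
      have hsN : sgen F i ∈ (slBN F m).N := sgen_mem_Ns i
      rw [rr_eq (slBN F m) hsN, ← map_mul]
      apply good_of_rep
      intro b hb
      have h1 : MonoP (Equiv.swap i.castSucc i.succ * Fin.revPerm)
          ((sgen F i * n0 : SpecialLinearGroup (Fin (m + 1)) F) :
            Matrix (Fin (m + 1)) (Fin (m + 1)) F) := (sgen_monoP i).mul hn1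
      have h2 : MonoP (Equiv.swap i.castSucc i.succ * Fin.revPerm)⁻¹
          (((sgen F i * n0)⁻¹ : SpecialLinearGroup (Fin (m + 1)) F) :
            Matrix (Fin (m + 1)) (Fin (m + 1)) F) := by
        rw [_root_.mul_inv_rev, _root_.mul_inv_rev]
        exact hn2.mul (sgen_inv_monoP i)
      have hlt : (Equiv.swap i.castSucc i.succ * Fin.revPerm : Equiv.Perm (Fin (m + 1)))⁻¹
          i.castSucc <
          (Equiv.swap i.castSucc i.succ * Fin.revPerm : Equiv.Perm (Fin (m + 1)))⁻¹ i.succ := by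
        rw [_root_.mul_inv_rev, Equiv.swap_inv, Equiv.Perm.mul_apply, Equiv.Perm.mul_apply,
          Equiv.swap_apply_left, Equiv.swap_apply_right]
        change Fin.revPerm.symm i.succ < Fin.revPerm.symm i.castSucc
        rw [Fin.revPerm_symm, Fin.revPerm_apply, Fin.revPerm_apply, Fin.rev_lt_rev]
        exact Fin.castSucc_lt_succ
      exact mul_mem_of_lt i h1 h2 hlt hb
    have key := St_apply_B_of_good (slBN F m) (I := Finset.univ) (s := sgen F)
      (par := fun J : Finset (Fin m) => (slBN F m).parabolic (sgen F '' (J : Set (Fin m))))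
      himg hpar ⟨n0, hn0⟩ hgood 1
    rw [Subgroup.coe_one, fixedPointCharacter_one] at key
    rw [key]
    congr 1
    apply index_eq_card_UT
    intro b
    exact (mem_stab_inv_proj (slBN F m) ⟨n0, hn0⟩ b).trans (conj_rev_mem_iff hn1 hn2 b.2)
  · intro z hz
    unfold St
    apply Finset.sum_congr rfl
    intro J _
    congr 1
    exact fixedPointCharacter_central _ hz (Subgroup.mem_sup_left (center_le_Bs hz))

/-- The Steinberg character of `PSL_{m+1}(F)`. -/
theorem steinberg_psl [Fintype F] (p : ℕ) [Fact p.Prime] [CharP F p] (m : ℕ) :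
    ∃ χ : ProjectiveSpecialLinearGroup (Fin (m + 1)) F → ℂ,
      Cfsg.IsIrrCharacter (ProjectiveSpecialLinearGroup (Fin (m + 1)) F) χ ∧
      ∀ P : Sylow p (ProjectiveSpecialLinearGroup (Fin (m + 1)) F),
        χ 1 = Nat.card P ∧
        ∀ x : ProjectiveSpecialLinearGroup (Fin (m + 1)) F, x ∈ P → x ≠ 1 → χ x = 0 := by
  have hp : p.Prime := Fact.out
  obtain ⟨χ0, hirr0, h1, hz⟩ := exists_steinberg_SL (F := F) m
  obtain ⟨ψ, hψ⟩ := Cfsg.Agent.Helper6.exists_deflate
    (Subgroup.center (SpecialLinearGroup (Fin (m + 1)) F)) ⟨χ0, hirr0⟩ hz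
  have hψ1 : (ψ : ProjectiveSpecialLinearGroup (Fin (m + 1)) F → ℂ) 1 =
      Nat.card (UT F (m + 1)) := by
    rw [← h1]
    exact (congrFun hψ 1).symm
  obtain ⟨e, he⟩ := (isPGroup_UT (F := F) (k := m + 1) p).exists_card_eq
  have hdeg : Cfsg.charDegree (ψ : ProjectiveSpecialLinearGroup (Fin (m + 1)) F → ℂ) = p ^ e := by
    unfold Cfsg.charDegree
    rw [hψ1, he, Complex.natCast_re, Nat.floor_natCast]
  have hN0 : Nat.card (ProjectiveSpecialLinearGroup (Fin (m + 1)) F) ≠ 0 := Nat.card_pos.ne'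
  have hfac : (Nat.card (ProjectiveSpecialLinearGroup (Fin (m + 1)) F)).factorization p = e := by
    apply le_antisymm
    · have hidx := not_dvd_index_UT (F := F) p (m + 1)
      have hcard : Nat.card (UT F (m + 1)) * (UT F (m + 1)).index =
          Nat.card (SpecialLinearGroup (Fin (m + 1)) F) := Subgroup.card_mul_index _
      have hdvd : Nat.card (ProjectiveSpecialLinearGroup (Fin (m + 1)) F) ∣
          p ^ e * (UT F (m + 1)).index := by
        rw [← he, hcard]
        exact Subgroup.card_quotient_dvd_card _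
      have hi0 : (UT F (m + 1)).index ≠ 0 := Subgroup.index_ne_zero_of_finite
      have h2 := (Nat.factorization_le_iff_dvd hN0 (mul_ne_zero (pow_ne_zero e hp.ne_zero) hi0)).mpr
        hdvd p
      rw [Nat.factorization_mul (pow_ne_zero e hp.ne_zero) hi0, Finsupp.add_apply,
        hp.factorization_pow, Finsupp.single_eq_same,
        Nat.factorization_eq_zero_of_not_dvd hidx, add_zero] at h2
      exact h2
    · have hdvd := Cfsg.Agent.Helper6.charDegree_dvd_card ψ.2
      rw [hdeg] at hdvd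
      exact (hp.pow_dvd_iff_le_factorization hN0).mp hdvd
  refine ⟨ψ, ψ.2, fun P => ⟨?_, ?_⟩⟩
  · rw [hψ1, he, Sylow.card_eq_multiplicity P, hfac]
  · intro x hx hx1
    obtain ⟨M, -, hM, hpM⟩ := Cfsg.Agent.Helper6.exists_isPModular p hp
    have hnd : ¬ p ∣ Nat.card (ProjectiveSpecialLinearGroup (Fin (m + 1)) F) /
        Cfsg.charDegree (ψ : ProjectiveSpecialLinearGroup (Fin (m + 1)) F → ℂ) := by
      rw [hdeg, ← hfac]
      exact Nat.not_dvd_ordCompl hp hN0
    have hsing := Cfsg.Agent.Helper6.blockOf_eq_singleton_of_not_dvd hM p hp hpM ψ hnd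
    refine Cfsg.Agent.Helper6.vanish_of_blockOf_eq_singleton hM p hpM ψ hsing x ?_
    obtain ⟨k, hk⟩ := (IsPGroup.iff_orderOf.mp P.isPGroup') ⟨x, hx⟩
    rw [Subgroup.orderOf_mk] at hk
    rw [hk]
    apply dvd_pow_self
    rintro rfl
    rw [pow_zero, orderOf_eq_one_iff] at hk
    exact hx1 hk

end Cfsg.Agent.Lead.SLBN
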