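import Mathlib
import Cfsg.Agent.Helper1.Coprime

/-!
A counting lemma for two commuting automorphisms of a finite commutative group, one of which has
order prime to the group order.
-/

set_option autoImplicit false

namespace Cfsg.Agent.Lead.ClassCountA

variable {W : Type*} [CommGroup W]

/-- `v ↦ v / α v`. -/
def dhom (α : MulAut W) : W →* W := MonoidHom.id W / α.toMonoidHom

theorem dhom_apply (α : MulAut W) (v : W) : dhom α v = v / α v := rfl

theorem mem_ker_dhom (α : MulAut W) (v : W) : v ∈ (dhom α).ker ↔ α v = v := by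
  rw [MonoidHom.mem_ker, dhom_apply, div_eq_one]
  exact eq_comm

theorem dhom_comm (α β : MulAut W) (hαβ : α * β = β * α) (v : W) :
    dhom β (dhom α v) = dhom α (dhom β v) := by
  have h1 : β (α v) = α (β v) := by
    have := congrArg (fun γ : MulAut W => γ v) hαβ
    simpa using this.symm
  simp only [dhom_apply, map_div, h1]
  rw [div_div_div_comm]

theorem pow_apply_of_fixed (α : MulAut W) (u : W) (hu : α u = u) (i : ℕ) : (α ^ i) u = u := by
  induction i with
  | zero => simp
  | succ i ih => rw [pow_succ, MulAut.mul_apply, hu, ih]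

theorem ker_inf_range [Finite W] (α : MulAut W) (n : ℕ) (hn : α ^ n = 1)
    (hcop : n.Coprime (Nat.card W)) : (dhom α).ker ⊓ (dhom α).range = ⊥ := by
  rw [eq_bot_iff]
  intro u hu
  obtain ⟨hu1, ⟨v, hv⟩⟩ := Subgroup.mem_inf.1 hu
  rw [mem_ker_dhom] at hu1
  rw [Subgroup.mem_bot]
  have h1 := Finset.prod_range_div (fun i => (α ^ i) v) n
  have h2 : ∀ i ∈ Finset.range n, (α ^ (i + 1)) v / (α ^ i) v = u⁻¹ := by
    intro i _
    have h3 : (α ^ (i + 1)) v / (α ^ i) v = (α ^ i) (α v / v) := by
      rw [pow_succ, MulAut.mul_apply, map_div]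
    rw [h3]
    have h4 : α v / v = u⁻¹ := by rw [← hv, dhom_apply, inv_div]
    rw [h4, map_inv, pow_apply_of_fixed α u hu1]
  rw [Finset.prod_congr rfl h2, Finset.prod_const, Finset.card_range, hn] at h1
  simp only [MulAut.one_apply, pow_zero, div_self'] at h1
  have h5 : u ^ n = 1 := by rw [inv_pow, inv_eq_one] at h1; exact h1
  have h6 : orderOf u ∣ n := orderOf_dvd_of_pow_eq_one h5
  have h7 : orderOf u ∣ Nat.card W := orderOf_dvd_natCard u
  have h8 : orderOf u = 1 := Nat.eq_one_of_dvd_coprimes hcop h6 h7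
  exact orderOf_eq_one_iff.1 h8

theorem card_ker_mul_card_range [Finite W] (f : W →* W) :
    Nat.card f.ker * Nat.card f.range = Nat.card W := by
  rw [← Subgroup.index_ker, Subgroup.card_mul_index]

theorem ker_sup_range [Finite W] (α : MulAut W) (n : ℕ) (hn : α ^ n = 1)
    (hcop : n.Coprime (Nat.card W)) : (dhom α).range ⊔ (dhom α).ker = ⊤ := by
  rw [← Subgroup.card_eq_iff_eq_top]
  have h1 : Nat.card ↥((dhom α).range ⊔ (dhom α).ker) =
      Nat.card (dhom α).ker * Nat.card (dhom α).range := by
    apply Helper1.card_sup_of_le_normalizer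
    · rw [Subgroup.normalizer_eq_top (dhom α).range]; exact le_top
    · exact ker_inf_range α n hn hcop
  rw [h1, card_ker_mul_card_range]

theorem comap_range_eq [Finite W] (α β : MulAut W) (hαβ : α * β = β * α) (n : ℕ) (hn : α ^ n = 1)
    (hcop : n.Coprime (Nat.card W)) :
    (dhom α).range.comap (dhom β) = (dhom α).range ⊔ ((dhom α).ker ⊓ (dhom β).ker) := by
  have hinv : ∀ w ∈ (dhom α).range, dhom β w ∈ (dhom α).range := by
    rintro _ ⟨v, rfl⟩
    exact ⟨dhom β v, (dhom_comm α β hαβ v).symm⟩
  apply le_antisymm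
  · intro w hw
    rw [Subgroup.mem_comap] at hw
    have hwtop : w ∈ (dhom α).range ⊔ (dhom α).ker := by
      rw [ker_sup_range α n hn hcop]; exact Subgroup.mem_top w
    obtain ⟨w₁, hw₁, w₀, hw₀, rfl⟩ := Subgroup.mem_sup.1 hwtop
    refine Subgroup.mul_mem _ (Subgroup.mem_sup_left hw₁) (Subgroup.mem_sup_right ?_)
    refine Subgroup.mem_inf.2 ⟨hw₀, ?_⟩
    have h1 : dhom β w₀ ∈ (dhom α).range := by
      have h2 : dhom β w₀ = (dhom β w₁)⁻¹ * dhom β (w₁ * w₀) := by
        rw [map_mul]; group
      rw [h2]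
      exact Subgroup.mul_mem _ (Subgroup.inv_mem _ (hinv w₁ hw₁)) hw
    have h3 : dhom β w₀ ∈ (dhom α).ker := by
      rw [MonoidHom.mem_ker, dhom_comm β α hαβ.symm, (MonoidHom.mem_ker).1 hw₀, map_one]
    have h4 : dhom β w₀ ∈ (dhom α).ker ⊓ (dhom α).range := Subgroup.mem_inf.2 ⟨h3, h1⟩
    rw [ker_inf_range α n hn hcop, Subgroup.mem_bot] at h4
    exact h4
  · apply sup_le
    · intro w hw
      exact hinv w hw
    · intro w hw
      rw [Subgroup.mem_comap, (MonoidHom.mem_ker).1 (Subgroup.mem_inf.1 hw).2]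
      exact Subgroup.one_mem _

theorem card_comap_range [Finite W] (α β : MulAut W) (hαβ : α * β = β * α) (n : ℕ)
    (hn : α ^ n = 1) (hcop : n.Coprime (Nat.card W)) :
    Nat.card ((dhom α).range.comap (dhom β)) =
      Nat.card ↥((dhom α).ker ⊓ (dhom β).ker) * Nat.card (dhom α).range := by
  rw [comap_range_eq α β hαβ n hn hcop]
  apply Helper1.card_sup_of_le_normalizer
  · rw [Subgroup.normalizer_eq_top (dhom α).range]; exact le_top
  · rw [eq_bot_iff, ← ker_inf_range α n hn hcop]
    exact le_inf (inf_le_left.trans inf_le_left) inf_le_right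

/-- The main count. -/
theorem card_pairs [Finite W] (α β : MulAut W) (hαβ : α * β = β * α) (n : ℕ)
    (hn : α ^ n = 1) (hcop : n.Coprime (Nat.card W)) :
    Nat.card {q : W × W // q.1 * β q.2 = q.2 * α q.1} =
      Nat.card W * Nat.card {w : W // α w = w ∧ β w = w} := by
  classical
  haveI : Fintype W := Fintype.ofFinite W
  have hcond : ∀ q : W × W, q.1 * β q.2 = q.2 * α q.1 ↔ dhom α q.1 = dhom β q.2 := by
    intro q
    rw [dhom_apply, dhom_apply, div_eq_div_iff_mul_eq_mul]
  have h1 : Nat.card {q : W × W // q.1 * β q.2 = q.2 * α q.1} =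
      ∑ w : W, (Finset.univ.filter (fun v : W => dhom α v = dhom β w)).card := by
    rw [Nat.card_eq_fintype_card, Fintype.card_subtype]
    rw [Finset.card_filter, Fintype.sum_prod_type_right]
    apply Finset.sum_congr rfl
    intro w _
    rw [Finset.card_filter]
    apply Finset.sum_congr rfl
    intro v _
    exact if_congr (hcond (v, w)) rfl rfl
  have h2 : ∀ w : W, (Finset.univ.filter (fun v : W => dhom α v = dhom β w)).card =
      if dhom β w ∈ (dhom α).range then Nat.card (dhom α).ker else 0 := by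
    intro w
    split_ifs with hw
    · have h3 := MonoidHom.card_fiber_eq_of_mem_range (dhom α) hw (⟨1, map_one _⟩ :
        (1 : W) ∈ Set.range (dhom α))
      rw [h3, Nat.card_eq_fintype_card, Fintype.card_subtype]
      refine congrArg Finset.card (Finset.filter_congr ?_)
      intro g _
      rw [MonoidHom.mem_ker]
    · rw [Finset.card_eq_zero, Finset.filter_eq_empty_iff]
      intro v _ hv
      exact hw ⟨v, hv⟩
  rw [h1, Finset.sum_congr rfl (fun w _ => h2 w), ← Finset.sum_filter, Finset.sum_const,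
    smul_eq_mul]
  have h4 : (Finset.univ.filter (fun w : W => dhom β w ∈ (dhom α).range)).card =
      Nat.card ((dhom α).range.comap (dhom β)) := by
    rw [Nat.card_eq_fintype_card, Fintype.card_subtype]
    refine congrArg Finset.card (Finset.filter_congr ?_)
    intro g _
    rw [Subgroup.mem_comap]
  rw [h4, card_comap_range α β hαβ n hn hcop]
  have h5 : Nat.card ↥((dhom α).ker ⊓ (dhom β).ker) = Nat.card {w : W // α w = w ∧ β w = w} := by
    apply Nat.card_congr
    apply Equiv.subtypeEquivRight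
    intro w
    rw [Subgroup.mem_inf, mem_ker_dhom, mem_ker_dhom]
  rw [h5, ← card_ker_mul_card_range (dhom α)]
  ring

end Cfsg.Agent.Lead.ClassCountA
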