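import Mathlib
import Cfsg.Agent.Lead.ClassCountA

/-!
Wielandt's order formula for two commuting automorphisms `α, β` with `α ^ p = β ^ p = 1` of a finite
commutative group `W` of order prime to `p`:
`|W| * |C_W(α, β)| ^ p = |C_W(α)| * ∏_{i < p} |C_W(α ^ i β)|`.
-/

set_option autoImplicit false

namespace Cfsg.Agent.Lead.WielandtA

open Finset

variable {W : Type*} [CommGroup W]

/-- fixed points of an automorphism. -/
def fix (γ : MulAut W) : Subgroup W := (ClassCountA.dhom γ).ker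

theorem mem_fix (γ : MulAut W) (v : W) : v ∈ fix γ ↔ γ v = v := ClassCountA.mem_ker_dhom γ v

/-- the norm map `v ↦ ∏_{k < p} γ ^ k v`. -/
def nrm (p : ℕ) (γ : MulAut W) : W →* W := ∏ k ∈ range p, (γ ^ k).toMonoidHom

theorem nrm_apply (p : ℕ) (γ : MulAut W) (v : W) : nrm p γ v = ∏ k ∈ range p, (γ ^ k) v := by
  rw [nrm, MonoidHom.finsetProd_apply]
  rfl

theorem apply_nrm (p : ℕ) (γ : MulAut W) (hγ : γ ^ p = 1) (v : W) :
    γ (nrm p γ v) = nrm p γ v := by
  rw [nrm_apply, map_prod]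
  have h1 : ∀ k ∈ range p, γ ((γ ^ k) v) = (γ ^ (k + 1)) v := by
    intro k _
    rw [pow_succ', MulAut.mul_apply]
  rw [Finset.prod_congr rfl h1]
  have h2 := Finset.prod_range_succ' (fun k => (γ ^ k) v) p
  have h3 := Finset.prod_range_succ (fun k => (γ ^ k) v) p
  rw [h2] at h3
  simp only [pow_zero, hγ, MulAut.one_apply] at h3
  exact mul_right_cancel h3

theorem nrm_of_fixed (p : ℕ) (γ : MulAut W) (v : W) (hv : γ v = v) : nrm p γ v = v ^ p := by
  rw [nrm_apply, Finset.prod_congr rfl (fun k _ => ClassCountA.pow_apply_of_fixed γ v hv k),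
    Finset.prod_const, Finset.card_range]

theorem comm_apply {γ δ : MulAut W} (h : Commute δ γ) (v : W) : δ (γ v) = γ (δ v) := by
  have h2 := congrArg (fun μ : MulAut W => μ v) h.eq
  simpa [MulAut.mul_apply] using h2

theorem comm_nrm (p : ℕ) (γ δ : MulAut W) (h : Commute δ γ) (v : W) :
    δ (nrm p γ v) = nrm p γ (δ v) := by
  rw [nrm_apply, nrm_apply, map_prod]
  refine Finset.prod_congr rfl (fun k _ => ?_)
  exact comm_apply (h.pow_right k) v

theorem nrm_comm (p : ℕ) (γ δ : MulAut W) (h : Commute δ γ) (v : W) :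
    nrm p δ (nrm p γ v) = nrm p γ (nrm p δ v) := by
  rw [nrm_apply p δ, nrm_apply p δ, map_prod]
  refine Finset.prod_congr rfl (fun k _ => ?_)
  exact comm_nrm p γ (δ ^ k) (h.pow_left k) v

theorem prod_mul_mod {p : ℕ} (hp : p.Prime) (k : ℕ) (hk : 0 < k) (hkp : k < p) (f : ℕ → W) :
    ∏ i ∈ range p, f ((i * k) % p) = ∏ j ∈ range p, f j := by
  have hcop : Nat.gcd p k = 1 :=
    (Nat.Prime.coprime_iff_not_dvd hp).2 (Nat.not_dvd_of_pos_of_lt hk hkp)
  have hmaps : Set.MapsTo (fun i => (i * k) % p) (range p : Set ℕ) (range p : Set ℕ) := by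
    intro i _
    exact Finset.mem_coe.2 (mem_range.2 (Nat.mod_lt _ hp.pos))
  have hinj : Set.InjOn (fun i => (i * k) % p) (range p : Set ℕ) := by
    intro i hi i' hi' h
    have h1 : i * k ≡ i' * k [MOD p] := h
    have h2 := Nat.ModEq.cancel_right_of_coprime hcop h1
    exact h2.eq_of_lt_of_lt (mem_range.1 (Finset.mem_coe.1 hi)) (mem_range.1 (Finset.mem_coe.1 hi'))
  refine Finset.prod_nbij (fun i => (i * k) % p) (fun i hi => Finset.mem_coe.1 (hmaps (Finset.mem_coe.2 hi)))
    hinj ?_ (fun _ _ => rfl)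
  exact Finset.surjOn_of_injOn_of_card_le _ hmaps hinj le_rfl

/-- The key identity in the group ring. -/
theorem key_identity {p : ℕ} (hp : p.Prime) (α β : MulAut W) (hα : α ^ p = 1)
    (hc : Commute α β) (v : W) :
    nrm p α v * ∏ i ∈ range p, nrm p (α ^ i * β) v = v ^ p * nrm p α (nrm p β v) := by
  have step1 : ∀ i ∈ range p, nrm p (α ^ i * β) v
      = ∏ k ∈ range p, (α ^ ((i * k) % p)) ((β ^ k) v) := by
    intro i _
    rw [nrm_apply]
    refine Finset.prod_congr rfl (fun k _ => ?_)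
    rw [(hc.pow_left i).mul_pow, MulAut.mul_apply, ← pow_mul, pow_eq_pow_mod (i * k) hα]
  rw [Finset.prod_congr rfl step1, Finset.prod_comm]
  have hG : nrm p α (nrm p β v) = ∏ k ∈ range p, ∏ j ∈ range p, (α ^ j) ((β ^ k) v) := by
    rw [nrm_apply p β, map_prod]
    refine Finset.prod_congr rfl (fun k _ => ?_)
    rw [nrm_apply]
  rw [hG, Finset.range_eq_Ico, Finset.prod_eq_prod_Ico_succ_bot hp.pos,
    Finset.prod_eq_prod_Ico_succ_bot (f := fun k => ∏ j ∈ Ico 0 p, (α ^ j) ((β ^ k) v)) hp.pos]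
  have hF0 : ∏ i ∈ Ico 0 p, (α ^ ((i * 0) % p)) ((β ^ 0) v) = v ^ p := by
    simp
  have hG0 : nrm p α v = ∏ j ∈ Ico 0 p, (α ^ j) ((β ^ 0) v) := by
    rw [nrm_apply, Finset.range_eq_Ico]
    simp
  have hFG : ∀ k ∈ Ico (0 + 1) p, ∏ i ∈ Ico 0 p, (α ^ ((i * k) % p)) ((β ^ k) v)
      = ∏ j ∈ Ico 0 p, (α ^ j) ((β ^ k) v) := by
    intro k hk
    rw [Finset.mem_Ico] at hk
    rw [← Finset.range_eq_Ico]
    exact prod_mul_mod hp k hk.1 hk.2 (fun j => (α ^ j) ((β ^ k) v))
  rw [hF0, Finset.prod_congr rfl hFG, hG0]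
  rw [mul_left_comm]


/-! ### The family of automorphisms `α, α ^ i * β` -/

/-- the family: `none ↦ α`, `some i ↦ α ^ i * β`. -/
def fam (p : ℕ) (α β : MulAut W) : Option (Fin p) → MulAut W
  | none => α
  | some i => α ^ (i : ℕ) * β

theorem fam_comm_left (p : ℕ) (α β : MulAut W) (hc : Commute α β) (o : Option (Fin p)) :
    Commute (fam p α β o) α := by
  cases o with
  | none => exact Commute.refl α
  | some i => exact ((Commute.refl α).pow_left (i : ℕ)).mul_left hc.symm

theorem fam_comm_right (p : ℕ) (α β : MulAut W) (hc : Commute α β) (o : Option (Fin p)) :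
    Commute (fam p α β o) β := by
  cases o with
  | none => exact hc
  | some i => exact (hc.pow_left (i : ℕ)).mul_left (Commute.refl β)

theorem fam_comm (p : ℕ) (α β : MulAut W) (hc : Commute α β) (o o' : Option (Fin p)) :
    Commute (fam p α β o) (fam p α β o') := by
  cases o' with
  | none => exact fam_comm_left p α β hc o
  | some i =>
    exact ((fam_comm_left p α β hc o).pow_right (i : ℕ)).mul_right (fam_comm_right p α β hc o)

theorem fam_pow (p : ℕ) (α β : MulAut W) (hα : α ^ p = 1) (hβ : β ^ p = 1) (hc : Commute α β)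
    (o : Option (Fin p)) : (fam p α β o) ^ p = 1 := by
  cases o with
  | none => exact hα
  | some i =>
    show (α ^ (i : ℕ) * β) ^ p = 1
    rw [(hc.pow_left (i : ℕ)).mul_pow, hβ, mul_one, ← pow_mul, mul_comm, pow_mul, hα, one_pow]

theorem fixed_of_pow_fixed {p : ℕ} (hp : p.Prime) (α : MulAut W) (hα : α ^ p = 1) (d : ℕ)
    (hd : 0 < d) (hdp : d < p) (y : W) (h : (α ^ d) y = y) : α y = y := by
  have hcop : Nat.Coprime d p :=
    ((Nat.Prime.coprime_iff_not_dvd hp).2 (Nat.not_dvd_of_pos_of_lt hd hdp)).symm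
  obtain ⟨e, _, he⟩ := Nat.exists_mul_mod_eq_one_of_coprime hcop hp.one_lt
  have h1 : α = (α ^ d) ^ e := by
    rw [← pow_mul, pow_eq_pow_mod (d * e) hα, he, pow_one]
  rw [h1]
  exact ClassCountA.pow_apply_of_fixed (α ^ d) y h e

theorem fixed_of_two {p : ℕ} (hp : p.Prime) (α β : MulAut W) (hα : α ^ p = 1)
    (o o' : Option (Fin p)) (hne : o ≠ o') (y : W) (h1 : fam p α β o y = y)
    (h2 : fam p α β o' y = y) : α y = y ∧ β y = y := by
  -- if `α y = y` and `(α ^ j * β) y = y` then `β y = y`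
  have key : ∀ j : ℕ, α y = y → (α ^ j * β) y = y → β y = y := by
    intro j ha hj
    rw [MulAut.mul_apply] at hj
    have h3 : (α ^ j) y = y := ClassCountA.pow_apply_of_fixed α y ha j
    have h4 : (α ^ j) (β y) = (α ^ j) y := by rw [hj, h3]
    exact (α ^ j).injective h4
  -- two different `i, j`
  have key2 : ∀ i j : ℕ, j < i → i < p → (α ^ i * β) y = y → (α ^ j * β) y = y →
      α y = y ∧ β y = y := by
    intro i j hji hip hi hj
    have h3 : (α ^ (i - j)) y = y := by
      have h4 : α ^ i = α ^ (i - j) * α ^ j := by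
        rw [← pow_add, Nat.sub_add_cancel hji.le]
      rw [h4, mul_assoc, MulAut.mul_apply, hj] at hi
      exact hi
    have h5 : α y = y :=
      fixed_of_pow_fixed hp α hα (i - j) (Nat.sub_pos_of_lt hji) (lt_of_le_of_lt (Nat.sub_le i j) hip) y h3
    exact ⟨h5, key j h5 hj⟩
  cases o with
  | none =>
    cases o' with
    | none => exact absurd rfl hne
    | some j => exact ⟨h1, key (j : ℕ) h1 h2⟩
  | some i =>
    cases o' with
    | none => exact ⟨h2, key (i : ℕ) h2 h1⟩
    | some j =>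
      have hij : (i : ℕ) ≠ (j : ℕ) := by
        intro h
        exact hne (by rw [Fin.ext h])
      rcases lt_or_gt_of_ne hij with h | h
      · exact key2 (j : ℕ) (i : ℕ) h j.2 h2 h1
      · exact key2 (i : ℕ) (j : ℕ) h i.2 h1 h2

/-! ### Decomposition -/

/-- the full norm. -/
def nA (p : ℕ) (α β : MulAut W) : W →* W := (nrm p α).comp (nrm p β)

theorem nA_apply (p : ℕ) (α β : MulAut W) (v : W) : nA p α β v = nrm p α (nrm p β v) := rfl

theorem comm_nA (p : ℕ) (α β δ : MulAut W) (h1 : Commute δ α) (h2 : Commute δ β) (v : W) :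
    δ (nA p α β v) = nA p α β (δ v) := by
  rw [nA_apply, nA_apply, comm_nrm p α δ h1, comm_nrm p β δ h2]

theorem nA_nrm (p : ℕ) (α β δ : MulAut W) (h1 : Commute δ α) (h2 : Commute δ β) (v : W) :
    nA p α β (nrm p δ v) = nrm p δ (nA p α β v) := by
  rw [nrm_apply p δ, nrm_apply p δ, map_prod]
  refine Finset.prod_congr rfl (fun k _ => ?_)
  exact (comm_nA p α β (δ ^ k) (h1.pow_left k) (h2.pow_left k) v).symm

theorem nA_mem (p : ℕ) (α β : MulAut W) (hα : α ^ p = 1) (hβ : β ^ p = 1) (hc : Commute α β)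
    (v : W) : nA p α β v ∈ fix α ⊓ fix β := by
  refine Subgroup.mem_inf.2 ⟨(mem_fix _ _).2 ?_, (mem_fix _ _).2 ?_⟩
  · exact apply_nrm p α hα _
  · rw [nA_apply, comm_nrm p α β hc.symm, apply_nrm p β hβ]

theorem nA_of_fixed (p : ℕ) (α β : MulAut W) (v : W) (hv : v ∈ fix α ⊓ fix β) :
    nA p α β v = v ^ (p * p) := by
  obtain ⟨h1, h2⟩ := Subgroup.mem_inf.1 hv
  rw [mem_fix] at h1 h2
  rw [nA_apply, nrm_of_fixed p β v h2, map_pow, nrm_of_fixed p α v h1, ← pow_mul]

theorem eq_one_of_pow_eq_one [Finite W] (n : ℕ) (hn : n.Coprime (Nat.card W)) (v : W)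
    (h : v ^ n = 1) : v = 1 := by
  have h6 : orderOf v ∣ n := orderOf_dvd_of_pow_eq_one h
  have h7 : orderOf v ∣ Nat.card W := orderOf_dvd_natCard v
  exact orderOf_eq_one_iff.1 (Nat.eq_one_of_dvd_coprimes hn h6 h7)

theorem exists_root [Finite W] (n : ℕ) (hn : n.Coprime (Nat.card W)) (T : Subgroup W) (w : W)
    (hw : w ∈ T) : ∃ w' ∈ T, w' ^ n = w := by
  have hT : (Nat.card T).Coprime n :=
    (hn.coprime_dvd_right (Subgroup.card_subgroup_dvd_card T)).symm
  refine ⟨((powCoprime hT).symm ⟨w, hw⟩ : T), Subtype.property _, ?_⟩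
  have h1 := (powCoprime hT).apply_symm_apply ⟨w, hw⟩
  rw [powCoprime_apply] at h1
  have h2 := congrArg (Subtype.val) h1
  simpa using h2

theorem fix_inf_ker [Finite W] (p : ℕ) (hpW : p.Coprime (Nat.card W)) (α β : MulAut W) :
    (fix α ⊓ fix β) ⊓ (nA p α β).ker = ⊥ := by
  rw [eq_bot_iff]
  intro v hv
  obtain ⟨h1, h2⟩ := Subgroup.mem_inf.1 hv
  rw [MonoidHom.mem_ker, nA_of_fixed p α β v h1] at h2
  rw [Subgroup.mem_bot]
  exact eq_one_of_pow_eq_one (p * p) (Nat.Coprime.mul_left hpW hpW) v h2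

theorem card_ker_mul_card_range' {T : Type*} [Group T] (f : T →* W) :
    Nat.card T = Nat.card f.ker * Nat.card f.range := by
  rw [Subgroup.card_eq_card_quotient_mul_card_subgroup f.ker,
    Nat.card_congr (QuotientGroup.quotientKerEquivRange f).toEquiv, mul_comm]

theorem card_eq_mul [Finite W] (p : ℕ) (hpW : p.Coprime (Nat.card W)) (α β : MulAut W)
    (hα : α ^ p = 1) (hβ : β ^ p = 1) (hc : Commute α β) (T : Subgroup W)
    (hT : fix α ⊓ fix β ≤ T) :
    Nat.card T = Nat.card (fix α ⊓ fix β : Subgroup W) * Nat.card (T ⊓ (nA p α β).ker : Subgroup W) := by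
  have h1 := card_ker_mul_card_range' ((nA p α β).comp T.subtype)
  have hrange : ((nA p α β).comp T.subtype).range = fix α ⊓ fix β := by
    apply le_antisymm
    · rintro _ ⟨t, rfl⟩
      exact nA_mem p α β hα hβ hc _
    · intro w hw
      obtain ⟨w', hw', hw'2⟩ := exists_root (p * p) (Nat.Coprime.mul_left hpW hpW) _ w hw
      refine ⟨⟨w', hT hw'⟩, ?_⟩
      rw [MonoidHom.comp_apply, Subgroup.subtype_apply, nA_of_fixed p α β w' hw', hw'2]
  have hker : ((nA p α β).comp T.subtype).ker = (T ⊓ (nA p α β).ker).subgroupOf T := by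
    ext t
    rw [MonoidHom.mem_ker, Subgroup.mem_subgroupOf, Subgroup.mem_inf, MonoidHom.mem_ker]
    constructor
    · intro h
      exact ⟨t.2, h⟩
    · intro h
      exact h.2
  rw [hrange, hker, Helper1.card_subgroupOf_of_le inf_le_left] at h1
  rw [h1, mul_comm]


/-! ### The count on the kernel of the full norm -/

/-- the pieces `C_U(γ)`. -/
def piece (p : ℕ) (α β : MulAut W) (o : Option (Fin p)) : Subgroup W :=
  fix (fam p α β o) ⊓ (nA p α β).ker

theorem nrm_mem_piece (p : ℕ) (α β : MulAut W) (hα : α ^ p = 1) (hβ : β ^ p = 1)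
    (hc : Commute α β) (o : Option (Fin p)) (u : W) (hu : u ∈ (nA p α β).ker) :
    nrm p (fam p α β o) u ∈ piece p α β o := by
  refine Subgroup.mem_inf.2 ⟨(mem_fix _ _).2 (apply_nrm p _ (fam_pow p α β hα hβ hc o) u), ?_⟩
  rw [MonoidHom.mem_ker, nA_nrm p α β _ (fam_comm_left p α β hc o) (fam_comm_right p α β hc o),
    MonoidHom.mem_ker.1 hu, map_one]

theorem nrm_piece_eq_one [Finite W] {p : ℕ} (hp : p.Prime) (hpW : p.Coprime (Nat.card W))
    (α β : MulAut W) (hα : α ^ p = 1) (hβ : β ^ p = 1)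
    (hc : Commute α β) (o o' : Option (Fin p)) (hne : o ≠ o') (x : W)
    (hx : x ∈ piece p α β o) : nrm p (fam p α β o') x = 1 := by
  obtain ⟨hx1, hx2⟩ := Subgroup.mem_inf.1 hx
  rw [mem_fix] at hx1
  have hy := nrm_mem_piece p α β hα hβ hc o' x hx2
  obtain ⟨hy1, hy2⟩ := Subgroup.mem_inf.1 hy
  rw [mem_fix] at hy1
  have hy3 : fam p α β o (nrm p (fam p α β o') x) = nrm p (fam p α β o') x := by
    rw [comm_nrm p _ _ (fam_comm p α β hc o o'), hx1]
  obtain ⟨h1, h2⟩ := fixed_of_two hp α β hα o o' hne _ hy3 hy1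
  have h3 : nrm p (fam p α β o') x ∈ (fix α ⊓ fix β) ⊓ (nA p α β).ker :=
    Subgroup.mem_inf.2 ⟨Subgroup.mem_inf.2 ⟨(mem_fix _ _).2 h1, (mem_fix _ _).2 h2⟩, hy2⟩
  rw [fix_inf_ker p hpW α β, Subgroup.mem_bot] at h3
  exact h3

/-- the multiplication map from the product of the pieces. -/
def mulMap (p : ℕ) (α β : MulAut W) : ((o : Option (Fin p)) → piece p α β o) →* W :=
  ∏ o : Option (Fin p), (piece p α β o).subtype.comp (Pi.evalMonoidHom _ o)

theorem mulMap_apply (p : ℕ) (α β : MulAut W) (x : (o : Option (Fin p)) → piece p α β o) :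
    mulMap p α β x = ∏ o : Option (Fin p), (x o : W) := by
  rw [mulMap, MonoidHom.finsetProd_apply]
  rfl

theorem mulMap_injective [Finite W] {p : ℕ} (hp : p.Prime) (hpW : p.Coprime (Nat.card W))
    (α β : MulAut W) (hα : α ^ p = 1) (hβ : β ^ p = 1) (hc : Commute α β) :
    Function.Injective (mulMap p α β) := by
  rw [injective_iff_map_eq_one]
  intro x hx
  rw [mulMap_apply] at hx
  funext o'
  have h1 := congrArg (nrm p (fam p α β o')) hx
  rw [map_prod, map_one] at h1
  rw [Finset.prod_eq_single o' (fun o _ hne =>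
    nrm_piece_eq_one hp hpW α β hα hβ hc o o' hne _ (x o).2) (fun h => absurd (Finset.mem_univ _) h)] at h1
  have h2 : fam p α β o' (x o' : W) = x o' := (mem_fix _ _).1 (Subgroup.mem_inf.1 (x o').2).1
  rw [nrm_of_fixed p _ _ h2] at h1
  have h3 := eq_one_of_pow_eq_one p hpW _ h1
  exact Subtype.ext h3

theorem mulMap_range [Finite W] {p : ℕ} (hp : p.Prime) (hpW : p.Coprime (Nat.card W))
    (α β : MulAut W) (hα : α ^ p = 1) (hβ : β ^ p = 1) (hc : Commute α β) :
    (mulMap p α β).range = (nA p α β).ker := by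
  apply le_antisymm
  · rintro _ ⟨x, rfl⟩
    rw [mulMap_apply]
    exact Subgroup.prod_mem _ (fun o _ => (Subgroup.mem_inf.1 (x o).2).2)
  · intro u hu
    obtain ⟨u', hu', hu'2⟩ := exists_root p hpW _ u hu
    refine ⟨fun o => ⟨nrm p (fam p α β o) u', nrm_mem_piece p α β hα hβ hc o u' hu'⟩, ?_⟩
    rw [mulMap_apply, Fintype.prod_option]
    have h1 := key_identity hp α β hα hc u'
    rw [Finset.prod_range] at h1
    show nrm p α u' * ∏ i : Fin p, nrm p (α ^ (i : ℕ) * β) u' = u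
    rw [h1, ← nA_apply, MonoidHom.mem_ker.1 hu', mul_one, hu'2]

theorem card_ker [Finite W] {p : ℕ} (hp : p.Prime) (hpW : p.Coprime (Nat.card W))
    (α β : MulAut W) (hα : α ^ p = 1) (hβ : β ^ p = 1) (hc : Commute α β) :
    Nat.card (nA p α β).ker = ∏ o : Option (Fin p), Nat.card (piece p α β o) := by
  rw [← mulMap_range hp hpW α β hα hβ hc,
    ← Nat.card_congr (MonoidHom.ofInjective (mulMap_injective hp hpW α β hα hβ hc)).toEquiv,
    Nat.card_pi]

theorem le_fix_fam (p : ℕ) (α β : MulAut W) (o : Option (Fin p)) :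
    fix α ⊓ fix β ≤ fix (fam p α β o) := by
  intro v hv
  obtain ⟨h1, h2⟩ := Subgroup.mem_inf.1 hv
  rw [mem_fix] at h1 h2 ⊢
  cases o with
  | none => exact h1
  | some i =>
    show (α ^ (i : ℕ) * β) v = v
    rw [MulAut.mul_apply, h2, ClassCountA.pow_apply_of_fixed α v h1]

/-- **Wielandt's formula**, commutative case, in `Option (Fin p)`-indexed form. -/
theorem wielandt_comm_aux [Finite W] {p : ℕ} (hp : p.Prime) (hpW : p.Coprime (Nat.card W))
    (α β : MulAut W) (hα : α ^ p = 1) (hβ : β ^ p = 1) (hc : Commute α β) :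
    Nat.card W * Nat.card (fix α ⊓ fix β : Subgroup W) ^ p
      = ∏ o : Option (Fin p), Nat.card (fix (fam p α β o)) := by
  have h1 : ∀ o : Option (Fin p), Nat.card (fix (fam p α β o))
      = Nat.card (fix α ⊓ fix β : Subgroup W) * Nat.card (piece p α β o) := fun o =>
    card_eq_mul p hpW α β hα hβ hc _ (le_fix_fam p α β o)
  have h2 := card_eq_mul p hpW α β hα hβ hc ⊤ le_top
  rw [Subgroup.card_top, top_inf_eq, card_ker hp hpW α β hα hβ hc] at h2
  rw [Finset.prod_congr rfl (fun o _ => h1 o), Finset.prod_mul_distrib, Finset.prod_const,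
    Finset.card_univ, Fintype.card_option, Fintype.card_fin, h2]
  ring

/-- **Wielandt's formula**, commutative case. -/
theorem wielandt_comm [Finite W] {p : ℕ} (hp : p.Prime) (hpW : p.Coprime (Nat.card W))
    (α β : MulAut W) (hα : α ^ p = 1) (hβ : β ^ p = 1) (hc : Commute α β) :
    Nat.card W * Nat.card (fix α ⊓ fix β : Subgroup W) ^ p
      = Nat.card (fix α) * ∏ i ∈ range p, Nat.card (fix (α ^ i * β)) := by
  rw [wielandt_comm_aux hp hpW α β hα hβ hc, Fintype.prod_option, Finset.prod_range]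
  rfl

end Cfsg.Agent.Lead.WielandtA
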