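import Mathlib
import Cfsg.Agent.Lead.WielandtA
import Cfsg.Agent.Helper1.Coprime
import Cfsg.Agent.Helper1.SylowInt

/-!
Wielandt's order formula, internal version: commuting elements `a, b` of order dividing `p`
normalizing a subgroup `K` of order prime to `p`.
Part B: definitions, the commutative case, the quotient step.
-/

set_option autoImplicit false

namespace Cfsg.Agent.Lead.WielandtB

open scoped Pointwise IsMulCommutative
open Cfsg.Agent.Helper1

universe u

variable {G : Type u} [Group G]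

/-- `C_K(S)`. -/
def cf (K : Subgroup G) (S : Set G) : Subgroup G := K ⊓ Subgroup.centralizer S

theorem cf_le (K : Subgroup G) (S : Set G) : cf K S ≤ K := inf_le_left

theorem mem_cf {K : Subgroup G} {S : Set G} {x : G} :
    x ∈ cf K S ↔ x ∈ K ∧ ∀ s ∈ S, s * x = x * s := by
  rw [cf, Subgroup.mem_inf, Subgroup.mem_centralizer_iff]

theorem cf_mono {K L : Subgroup G} (h : K ≤ L) (S : Set G) : cf K S ≤ cf L S :=
  inf_le_inf_right _ h

/-- Wielandt's order formula for `K`. -/
def Formula (p : ℕ) (a b : G) (K : Subgroup G) : Prop :=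
  Nat.card K * Nat.card (cf K {a, b}) ^ p
    = Nat.card (cf K {a}) * ∏ i ∈ Finset.range p, Nat.card (cf K {a ^ i * b})

/-- the hypotheses. -/
structure Hyp (p : ℕ) (a b : G) (K : Subgroup G) : Prop where
  comm : Commute a b
  ha : a ^ p = 1
  hb : b ^ p = 1
  haK : a ∈ Subgroup.normalizer (K : Set G)
  hbK : b ∈ Subgroup.normalizer (K : Set G)
  cop : p.Coprime (Nat.card K)

/-- conjugation action of the normalizer. -/
def nconj (K : Subgroup G) : Subgroup.normalizer (K : Set G) →* MulAut K where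
  toFun g :=
    { toFun := fun k => ⟨g * k * (g : G)⁻¹, (Subgroup.mem_normalizer_iff.1 g.2 k).1 k.2⟩
      invFun := fun k => ⟨(g : G)⁻¹ * k * g, by
        have := (Subgroup.mem_normalizer_iff.1 (Subgroup.inv_mem _ g.2) k).1 k.2
        simpa using this⟩
      left_inv := fun k => by ext; simp [mul_assoc]
      right_inv := fun k => by ext; simp [mul_assoc]
      map_mul' := fun x y => by ext; simp [mul_assoc] }
  map_one' := by ext; simp
  map_mul' := fun g h => by ext; simp [mul_assoc]

theorem nconj_apply_coe (K : Subgroup G) (g : Subgroup.normalizer (K : Set G)) (k : K) :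
    ((nconj K g k : K) : G) = g * k * (g : G)⁻¹ := rfl

theorem nconj_fixed_iff (K : Subgroup G) (g : Subgroup.normalizer (K : Set G)) (k : K) :
    nconj K g k = k ↔ (g : G) * k = k * g := by
  rw [Subtype.ext_iff, nconj_apply_coe, mul_inv_eq_iff_eq_mul]

section comm

variable (K : Subgroup G) [IsMulCommutative K]

theorem fix_nconj (g : Subgroup.normalizer (K : Set G)) :
    WielandtA.fix (nconj K g) = (cf K {(g : G)}).subgroupOf K := by
  ext k
  rw [WielandtA.mem_fix, Subgroup.mem_subgroupOf, mem_cf, nconj_fixed_iff]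
  constructor
  · intro h
    refine ⟨k.2, ?_⟩
    intro s hs
    rw [Set.mem_singleton_iff] at hs
    rw [hs, h]
  · intro h
    exact h.2 _ rfl

theorem fix_inf_nconj (g h : Subgroup.normalizer (K : Set G)) :
    WielandtA.fix (nconj K g) ⊓ WielandtA.fix (nconj K h)
      = (cf K {(g : G), (h : G)}).subgroupOf K := by
  ext k
  rw [Subgroup.mem_inf, WielandtA.mem_fix, WielandtA.mem_fix, Subgroup.mem_subgroupOf, mem_cf,
    nconj_fixed_iff, nconj_fixed_iff]
  constructor
  · rintro ⟨h1, h2⟩
    refine ⟨k.2, ?_⟩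
    intro s hs
    rcases hs with hs | hs
    · rw [hs, h1]
    · rw [Set.mem_singleton_iff] at hs
      rw [hs, h2]
  · intro h'
    exact ⟨h'.2 _ (Set.mem_insert _ _), h'.2 _ (Set.mem_insert_of_mem _ rfl)⟩

/-- Wielandt's formula for a commutative `K`. -/
theorem formula_comm [Finite G] {p : ℕ} (hp : p.Prime) (a b : G) (h : Hyp p a b K) :
    Formula p a b K := by
  set α := nconj K ⟨a, h.haK⟩ with hα
  set β := nconj K ⟨b, h.hbK⟩ with hβ
  have hαp : α ^ p = 1 := by
    rw [hα, ← map_pow]
    have : (⟨a, h.haK⟩ : Subgroup.normalizer (K : Set G)) ^ p = 1 := by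
      ext
      rw [Subgroup.coe_pow]
      exact h.ha
    rw [this, map_one]
  have hβp : β ^ p = 1 := by
    rw [hβ, ← map_pow]
    have : (⟨b, h.hbK⟩ : Subgroup.normalizer (K : Set G)) ^ p = 1 := by
      ext
      rw [Subgroup.coe_pow]
      exact h.hb
    rw [this, map_one]
  have hc : Commute α β := by
    have : Commute (⟨a, h.haK⟩ : Subgroup.normalizer (K : Set G)) ⟨b, h.hbK⟩ := by
      show (⟨a, h.haK⟩ : Subgroup.normalizer (K : Set G)) * ⟨b, h.hbK⟩ = ⟨b, h.hbK⟩ * ⟨a, h.haK⟩
      ext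
      exact h.comm.eq
    exact this.map (nconj K)
  have key := WielandtA.wielandt_comm hp h.cop α β hαp hβp hc
  have h1 : ∀ i : ℕ, α ^ i * β
      = nconj K ((⟨a, h.haK⟩ : Subgroup.normalizer (K : Set G)) ^ i * ⟨b, h.hbK⟩) := by
    intro i
    rw [map_mul, map_pow]
  have h2 : ∀ i : ℕ, Nat.card (WielandtA.fix (α ^ i * β)) = Nat.card (cf K {a ^ i * b}) := by
    intro i
    rw [h1 i, fix_nconj, card_subgroupOf_of_le (cf_le _ _)]
    rfl
  rw [Finset.prod_congr rfl (fun i _ => h2 i), hα, hβ, fix_inf_nconj, fix_nconj,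
    card_subgroupOf_of_le (cf_le _ _), card_subgroupOf_of_le (cf_le _ _)] at key
  exact key

end comm


/-! ### The quotient step -/

theorem card_ker_mul_card_range {T H : Type*} [Group T] [Group H] (f : T →* H) :
    Nat.card T = Nat.card f.ker * Nat.card f.range := by
  rw [Subgroup.card_eq_card_quotient_mul_card_subgroup f.ker,
    Nat.card_congr (QuotientGroup.quotientKerEquivRange f).toEquiv, mul_comm]

/-- the image of `K` in `N(Z)/Z`. -/
def qimg (Z K : Subgroup G) :
    Subgroup (Subgroup.normalizer (Z : Set G) ⧸ Z.subgroupOf (Subgroup.normalizer (Z : Set G))) :=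
  (K.subgroupOf (Subgroup.normalizer (Z : Set G))).map (QuotientGroup.mk' _)

theorem card_cf_quotient [Finite G] (K Z : Subgroup G) (hZK : Z ≤ K)
    (hKZ : K ≤ Subgroup.normalizer (Z : Set G))
    (S : Set G) (hSZ : S ⊆ Subgroup.normalizer (Z : Set G))
    (hSK : S ⊆ Subgroup.normalizer (K : Set G))
    (hcop : (Nat.card (Subgroup.closure S)).Coprime (Nat.card K))
    (hsolv : Group.IsSolvable (Subgroup.closure S))
    (T : Set (Subgroup.normalizer (Z : Set G) ⧸ Z.subgroupOf (Subgroup.normalizer (Z : Set G))))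
    (hT : ∀ x : Subgroup.normalizer (Z : Set G), (x : G) ∈ S →
      (QuotientGroup.mk' (Z.subgroupOf (Subgroup.normalizer (Z : Set G))) x) ∈ T)
    (hT' : ∀ t ∈ T, ∃ x : Subgroup.normalizer (Z : Set G), (x : G) ∈ S ∧
      QuotientGroup.mk' (Z.subgroupOf (Subgroup.normalizer (Z : Set G))) x = t) :
    Nat.card (cf K S) = Nat.card (cf Z S) * Nat.card (cf (qimg Z K) T) := by
  obtain ⟨N, hN⟩ : ∃ N : Subgroup G, N = Subgroup.normalizer (Z : Set G) := ⟨_, rfl⟩
  have hle : cf K S ≤ Subgroup.normalizer (Z : Set G) := (cf_le K S).trans hKZ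
  obtain ⟨π, hπ⟩ : ∃ π : Subgroup.normalizer (Z : Set G) →* _,
    π = QuotientGroup.mk' (Z.subgroupOf (Subgroup.normalizer (Z : Set G))) := ⟨_, rfl⟩
  have hπ1 : ∀ x : Subgroup.normalizer (Z : Set G), π x = 1 ↔ (x : G) ∈ Z := by
    intro x
    rw [hπ, QuotientGroup.mk'_apply, QuotientGroup.eq_one_iff, Subgroup.mem_subgroupOf]
  have hπeq : ∀ x y : Subgroup.normalizer (Z : Set G), π x = π y ↔ ((x : G))⁻¹ * y ∈ Z := by
    intro x y
    rw [hπ, QuotientGroup.mk'_apply, QuotientGroup.mk'_apply, QuotientGroup.eq,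
      Subgroup.mem_subgroupOf]
    rfl
  rw [← hπ] at hT hT'
  have hqimg : qimg Z K = (K.subgroupOf (Subgroup.normalizer (Z : Set G))).map π := by
    rw [hπ]; rfl
  rw [hqimg]
  set f : cf K S →* _ := π.comp (Subgroup.inclusion hle) with hf
  have h1 := card_ker_mul_card_range f
  have hclS_K : Subgroup.closure S ≤ Subgroup.normalizer (K : Set G) :=
    (Subgroup.closure_le _).2 hSK
  have hclS_Z : Subgroup.closure S ≤ Subgroup.normalizer (Z : Set G) :=
    (Subgroup.closure_le _).2 hSZ
  have hrange : f.range = cf ((K.subgroupOf (Subgroup.normalizer (Z : Set G))).map π) T := by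
    apply le_antisymm
    · rintro _ ⟨x, rfl⟩
      rw [mem_cf]
      have hx := mem_cf.1 x.2
      refine ⟨Subgroup.mem_map.2 ⟨Subgroup.inclusion hle x, ?_, rfl⟩, ?_⟩
      · rw [Subgroup.mem_subgroupOf]
        exact hx.1
      · intro t ht
        obtain ⟨s', hs', rfl⟩ := hT' t ht
        rw [hf, MonoidHom.comp_apply, ← map_mul, ← map_mul]
        congr 1
        ext
        exact hx.2 _ hs'
    · intro y hy
      rw [mem_cf] at hy
      obtain ⟨hy1, hy2⟩ := hy
      obtain ⟨k', hk', rfl⟩ := Subgroup.mem_map.1 hy1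
      rw [Subgroup.mem_subgroupOf] at hk'
      -- the fixed-coset hypothesis
      have hM : S ⊆ (((Subgroup.centralizer {π k'}).comap π).map
          (Subgroup.normalizer (Z : Set G)).subtype : Subgroup G) := by
        intro s hs
        refine Subgroup.mem_map.2 ⟨⟨s, hSZ hs⟩, ?_, rfl⟩
        rw [Subgroup.mem_comap, Subgroup.mem_centralizer_singleton_iff]
        exact hy2 _ (hT ⟨s, hSZ hs⟩ hs)
      have hM' := (Subgroup.closure_le _).2 hM
      have hfix : ∀ x ∈ Subgroup.closure S, x * (k' : G) * x⁻¹ * (k' : G)⁻¹ ∈ Z := by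
        intro x hx
        obtain ⟨x', hx', rfl⟩ := Subgroup.mem_map.1 (hM' hx)
        rw [Subgroup.mem_comap, Subgroup.mem_centralizer_singleton_iff] at hx'
        have h2 : π (x' * k' * x'⁻¹ * k'⁻¹) = 1 := by
          rw [map_mul, map_mul, map_mul, hx', map_inv, map_inv]
          group
        exact (hπ1 _).1 h2
      obtain ⟨c, hc, hc'⟩ := coprime_fixed_coset (Subgroup.closure S) K hclS_K hcop
        (Or.inl hsolv) Z hZK hKZ hclS_Z (k' : G) hk' hfix
      rw [Subgroup.centralizer_closure] at hc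
      refine ⟨⟨c, hc⟩, ?_⟩
      rw [hf, MonoidHom.comp_apply]
      exact ((hπeq _ _).2 hc').symm
  have hker : f.ker = (cf Z S).subgroupOf (cf K S) := by
    ext x
    rw [MonoidHom.mem_ker, hf, MonoidHom.comp_apply, hπ1, Subgroup.mem_subgroupOf, mem_cf]
    constructor
    · intro h
      exact ⟨h, (mem_cf.1 x.2).2⟩
    · intro h
      exact h.1
  rw [hrange, hker, card_subgroupOf_of_le (cf_mono hZK S)] at h1
  exact h1


/-! ### Facts about the acting group -/

theorem pair_comm (a b : G) (hc : Commute a b) :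
    ∀ x ∈ ({a, b} : Set G), ∀ y ∈ ({a, b} : Set G), x * y = y * x := by
  intro x hx y hy
  rw [Set.mem_insert_iff, Set.mem_singleton_iff] at hx hy
  rcases hx with hx | hx <;> rcases hy with hy | hy <;> rw [hx, hy]
  · exact hc.eq
  · exact hc.eq.symm

theorem pow_eq_one_of_mem_closure {p : ℕ} (a b : G) (hc : Commute a b) (ha : a ^ p = 1)
    (hb : b ^ p = 1) (x : G) (hx : x ∈ Subgroup.closure ({a, b} : Set G)) : x ^ p = 1 := by
  have hcomm := pair_comm a b hc
  have hcl := Subgroup.isMulCommutative_closure hcomm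
  induction hx using Subgroup.closure_induction with
  | mem y hy =>
    rcases hy with rfl | hy
    · exact ha
    · rw [Set.mem_singleton_iff] at hy; rw [hy]; exact hb
  | one => exact one_pow p
  | mul y z hy hz h1 h2 =>
    have h3 : Commute y z := by
      have := mul_comm' (⟨y, hy⟩ : Subgroup.closure ({a, b} : Set G)) ⟨z, hz⟩
      exact congrArg Subtype.val this
    rw [h3.mul_pow, h1, h2, one_mul]
  | inv y _ h1 => rw [inv_pow, h1, inv_one]

theorem acting_facts [Finite G] {p : ℕ} (hp : p.Prime) (a b : G) (K : Subgroup G)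
    (h : Hyp p a b K) (S : Set G) (hS : S ⊆ Subgroup.closure ({a, b} : Set G)) :
    (Nat.card (Subgroup.closure S)).Coprime (Nat.card K) ∧
      Group.IsSolvable (Subgroup.closure S) ∧ S ⊆ Subgroup.normalizer (K : Set G) ∧
      (∀ x ∈ Subgroup.closure S, ∀ y ∈ Subgroup.closure S, x * y = y * x) := by
  haveI : Fact p.Prime := ⟨hp⟩
  have hle : Subgroup.closure S ≤ Subgroup.closure ({a, b} : Set G) :=
    (Subgroup.closure_le _).2 hS
  have hcomm := pair_comm a b h.comm
  haveI hcl := Subgroup.isMulCommutative_closure hcomm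
  have hpg : IsPGroup p (Subgroup.closure S) := by
    intro x
    refine ⟨1, ?_⟩
    ext
    rw [pow_one, Subgroup.coe_pow]
    exact pow_eq_one_of_mem_closure a b h.comm h.ha h.hb _ (hle x.2)
  obtain ⟨n, hn⟩ := hpg.exists_card_eq
  have hnorm : Subgroup.closure ({a, b} : Set G) ≤ Subgroup.normalizer (K : Set G) := by
    rw [Subgroup.closure_le]
    intro x hx
    rcases hx with rfl | hx
    · exact h.haK
    · rw [Set.mem_singleton_iff] at hx; rw [hx]; exact h.hbK
  refine ⟨?_, ?_, fun s hs => hnorm (hS hs), ?_⟩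
  · rw [hn]
    exact Nat.Coprime.pow_left n h.cop
  · exact isSolvable_of_le hle (Group.isSolvable_of_comm (fun a b => mul_comm' a b))
  · intro x hx y hy
    have := mul_comm' (⟨x, hle hx⟩ : Subgroup.closure ({a, b} : Set G)) ⟨y, hle hy⟩
    exact congrArg Subtype.val this

theorem pow_mul_mem_closure (a b : G) (i : ℕ) :
    a ^ i * b ∈ Subgroup.closure ({a, b} : Set G) :=
  Subgroup.mul_mem _ (Subgroup.pow_mem _ (Subgroup.subset_closure (Set.mem_insert _ _)) i)
    (Subgroup.subset_closure (Set.mem_insert_of_mem _ rfl))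

theorem singleton_subset_closure (a b : G) : ({a} : Set G) ⊆ Subgroup.closure ({a, b} : Set G) := by
  intro x hx
  rw [Set.mem_singleton_iff] at hx
  rw [hx]
  exact Subgroup.subset_closure (Set.mem_insert _ _)

theorem singleton_subset_closure' (a b : G) (i : ℕ) :
    ({a ^ i * b} : Set G) ⊆ Subgroup.closure ({a, b} : Set G) := by
  intro x hx
  rw [Set.mem_singleton_iff] at hx
  rw [hx]
  exact pow_mul_mem_closure a b i

/-! ### Passing to the quotient -/

section quot

variable [Finite G] {p : ℕ} (a b : G) (K Z : Subgroup G)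

theorem hyp_quotient (h : Hyp p a b K)
    (haZ : a ∈ Subgroup.normalizer (Z : Set G)) (hbZ : b ∈ Subgroup.normalizer (Z : Set G)) :
    Hyp p (QuotientGroup.mk' (Z.subgroupOf (Subgroup.normalizer (Z : Set G))) ⟨a, haZ⟩)
      (QuotientGroup.mk' (Z.subgroupOf (Subgroup.normalizer (Z : Set G))) ⟨b, hbZ⟩) (qimg Z K) := by
  have hnorm : ∀ g : G, ∀ hg : g ∈ Subgroup.normalizer (Z : Set G),
      g ∈ Subgroup.normalizer (K : Set G) →
      QuotientGroup.mk' (Z.subgroupOf (Subgroup.normalizer (Z : Set G))) ⟨g, hg⟩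
        ∈ Subgroup.normalizer ((qimg Z K : Subgroup _) : Set _) := by
    intro g hg hgK
    apply Subgroup.le_normalizer_map
    refine Subgroup.mem_map.2 ⟨⟨g, hg⟩, ?_, rfl⟩
    rw [Subgroup.mem_normalizer_iff]
    intro x
    rw [Subgroup.mem_subgroupOf, Subgroup.mem_subgroupOf]
    exact Subgroup.mem_normalizer_iff.1 hgK x
  refine ⟨?_, ?_, ?_, hnorm a haZ h.haK, hnorm b hbZ h.hbK, ?_⟩
  · have : Commute (⟨a, haZ⟩ : Subgroup.normalizer (Z : Set G)) ⟨b, hbZ⟩ := by
      show (⟨a, haZ⟩ : Subgroup.normalizer (Z : Set G)) * ⟨b, hbZ⟩ = ⟨b, hbZ⟩ * ⟨a, haZ⟩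
      ext
      exact h.comm.eq
    exact this.map _
  · rw [← map_pow]
    have : (⟨a, haZ⟩ : Subgroup.normalizer (Z : Set G)) ^ p = 1 := by
      ext
      rw [Subgroup.coe_pow]
      exact h.ha
    rw [this, map_one]
  · rw [← map_pow]
    have : (⟨b, hbZ⟩ : Subgroup.normalizer (Z : Set G)) ^ p = 1 := by
      ext
      rw [Subgroup.coe_pow]
      exact h.hb
    rw [this, map_one]
  · have h1 : Nat.card (qimg Z K) ∣ Nat.card K := by
      have h2 := Subgroup.card_map_dvd (K.subgroupOf (Subgroup.normalizer (Z : Set G)))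
        (QuotientGroup.mk' (Z.subgroupOf (Subgroup.normalizer (Z : Set G))))
      have h3 : Nat.card (K.subgroupOf (Subgroup.normalizer (Z : Set G))) ∣ Nat.card K := by
        rw [card_subgroupOf]
        exact Subgroup.card_dvd_of_le inf_le_left
      exact h2.trans h3
    exact h.cop.coprime_dvd_right h1

theorem cf_empty (K : Subgroup G) : cf K ∅ = K := by
  ext x
  rw [mem_cf]
  constructor
  · intro h; exact h.1
  · intro h; exact ⟨h, fun s hs => absurd hs (Set.notMem_empty s)⟩

theorem formula_of_quotient (hp : p.Prime) (h : Hyp p a b K) (hZK : Z ≤ K)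
    (hKZ : K ≤ Subgroup.normalizer (Z : Set G))
    (haZ : a ∈ Subgroup.normalizer (Z : Set G)) (hbZ : b ∈ Subgroup.normalizer (Z : Set G))
    (hZf : Formula p a b Z)
    (hQf : Formula p (QuotientGroup.mk' (Z.subgroupOf (Subgroup.normalizer (Z : Set G))) ⟨a, haZ⟩)
      (QuotientGroup.mk' (Z.subgroupOf (Subgroup.normalizer (Z : Set G))) ⟨b, hbZ⟩) (qimg Z K)) :
    Formula p a b K := by
  have hclZ : Subgroup.closure ({a, b} : Set G) ≤ Subgroup.normalizer (Z : Set G) := by
    rw [Subgroup.closure_le]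
    intro x hx
    rcases hx with rfl | hx
    · exact haZ
    · rw [Set.mem_singleton_iff] at hx; rw [hx]; exact hbZ
  have step : ∀ (S : Set G) (hS : S ⊆ Subgroup.closure ({a, b} : Set G))
      (T : Set (Subgroup.normalizer (Z : Set G) ⧸ Z.subgroupOf (Subgroup.normalizer (Z : Set G)))),
      (∀ x : Subgroup.normalizer (Z : Set G), (x : G) ∈ S →
        (QuotientGroup.mk' (Z.subgroupOf (Subgroup.normalizer (Z : Set G))) x) ∈ T) →
      (∀ t ∈ T, ∃ x : Subgroup.normalizer (Z : Set G), (x : G) ∈ S ∧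
        QuotientGroup.mk' (Z.subgroupOf (Subgroup.normalizer (Z : Set G))) x = t) →
      Nat.card (cf K S) = Nat.card (cf Z S) * Nat.card (cf (qimg Z K) T) := by
    intro S hS T hT hT'
    obtain ⟨h1, h2, h3, -⟩ := acting_facts hp a b K h S hS
    exact card_cf_quotient K Z hZK hKZ S (fun s hs => hclZ (hS hs)) h3 h1 h2 T hT hT'
  -- the four kinds of sets
  have e0 := step ∅ (Set.empty_subset _) ∅ (fun x hx => absurd hx (Set.notMem_empty _))
    (fun t ht => absurd ht (Set.notMem_empty _))
  rw [cf_empty, cf_empty, cf_empty] at e0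
  have eab := step {a, b} Subgroup.subset_closure
    {QuotientGroup.mk' (Z.subgroupOf (Subgroup.normalizer (Z : Set G))) ⟨a, haZ⟩,
      QuotientGroup.mk' (Z.subgroupOf (Subgroup.normalizer (Z : Set G))) ⟨b, hbZ⟩}
    (by
      intro x hx
      rcases hx with hx | hx
      · left
        congr 1
        exact Subtype.ext hx
      · right
        rw [Set.mem_singleton_iff] at hx ⊢
        congr 1
        exact Subtype.ext hx)
    (by
      intro t ht
      rcases ht with rfl | ht
      · exact ⟨⟨a, haZ⟩, Set.mem_insert _ _, rfl⟩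
      · rw [Set.mem_singleton_iff] at ht
        exact ⟨⟨b, hbZ⟩, Set.mem_insert_of_mem _ rfl, ht.symm⟩)
  have ea := step {a} (singleton_subset_closure a b)
    {QuotientGroup.mk' (Z.subgroupOf (Subgroup.normalizer (Z : Set G))) ⟨a, haZ⟩}
    (by
      intro x hx
      rw [Set.mem_singleton_iff] at hx ⊢
      congr 1
      exact Subtype.ext hx)
    (by
      intro t ht
      rw [Set.mem_singleton_iff] at ht
      exact ⟨⟨a, haZ⟩, rfl, ht.symm⟩)
  have ei : ∀ i : ℕ, Nat.card (cf K {a ^ i * b}) = Nat.card (cf Z {a ^ i * b}) *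
      Nat.card (cf (qimg Z K)
        {QuotientGroup.mk' (Z.subgroupOf (Subgroup.normalizer (Z : Set G))) ⟨a, haZ⟩ ^ i *
          QuotientGroup.mk' (Z.subgroupOf (Subgroup.normalizer (Z : Set G))) ⟨b, hbZ⟩}) := by
    intro i
    refine step {a ^ i * b} (singleton_subset_closure' a b i) _ ?_ ?_
    · intro x hx
      rw [Set.mem_singleton_iff] at hx ⊢
      rw [← map_pow, ← map_mul]
      congr 1
      apply Subtype.ext
      rw [hx]
      simp
    · intro t ht
      rw [Set.mem_singleton_iff] at ht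
      refine ⟨(⟨a, haZ⟩ : Subgroup.normalizer (Z : Set G)) ^ i * ⟨b, hbZ⟩, ?_, ?_⟩
      · rw [Set.mem_singleton_iff]
        simp
      · rw [ht, map_mul, map_pow]
  unfold Formula at hZf hQf ⊢
  rw [e0, eab, ea, Finset.prod_congr rfl (fun i _ => ei i), Finset.prod_mul_distrib, mul_pow]
  calc Nat.card Z * Nat.card (qimg Z K) * (Nat.card (cf Z {a, b}) ^ p * Nat.card (cf (qimg Z K) _) ^ p)
      = (Nat.card Z * Nat.card (cf Z {a, b}) ^ p) *
        (Nat.card (qimg Z K) * Nat.card (cf (qimg Z K) _) ^ p) := by ring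
    _ = _ := by rw [hZf, hQf]; ring

end quot

end Cfsg.Agent.Lead.WielandtB
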