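import Mathlib
import Cfsg.Agent.Lead.WielandtB

/-!
Wielandt's order formula, internal version. Part C: the Sylow step, prime-power groups, the
general formula.
-/

set_option autoImplicit false

namespace Cfsg.Agent.Lead.WielandtC

open scoped Pointwise IsMulCommutative
open Cfsg.Agent.Helper1 Cfsg.Agent.Lead.WielandtB

universe u

variable {G : Type u} [Group G]

/-- Fixed points in an invariant Sylow subgroup form a Sylow subgroup of the fixed points. -/
theorem card_cf_sylow [Finite G] {q : ℕ} [Fact q.Prime] (A K : Subgroup G)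
    (hAc : ∀ x ∈ A, ∀ y ∈ A, x * y = y * x)
    (hAK : A ≤ Subgroup.normalizer (K : Set G)) (hcop : (Nat.card A).Coprime (Nat.card K))
    (hsolv : Group.IsSolvable A) (Q : Sylow q K)
    (hQ : A ≤ Subgroup.normalizer (((Q : Subgroup K).map K.subtype : Subgroup G) : Set G))
    (S : Set G) (hS : S ⊆ A) :
    Nat.card (cf ((Q : Subgroup K).map K.subtype) S)
      = q ^ (Nat.card (cf K S)).factorization q := by
  have hq : q.Prime := Fact.out
  obtain ⟨C, hC⟩ : ∃ C : Subgroup G, C = cf K S := ⟨_, rfl⟩
  have hCK : C ≤ K := hC ▸ cf_le K S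
  have hAcent : A ≤ Subgroup.centralizer S := by
    intro x hx
    rw [Subgroup.mem_centralizer_iff]
    intro s hs
    exact hAc s (hS hs) x hx
  have hAC : A ≤ Subgroup.normalizer (C : Set G) := by
    rw [hC]
    exact le_normalizer_inf hAK (hAcent.trans Subgroup.le_normalizer)
  have hcopC : (Nat.card A).Coprime (Nat.card C) :=
    hcop.coprime_dvd_right (Subgroup.card_dvd_of_le hCK)
  obtain ⟨R, hR⟩ := exists_invariant_sylow (p := q) A C hAC hcopC (Or.inl hsolv)
  have hRmC : (R : Subgroup C).map C.subtype ≤ C := by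
    rintro _ ⟨x, -, rfl⟩
    exact x.2
  have hRmq : IsPGroup q ((R : Subgroup C).map C.subtype) := R.2.map _
  obtain ⟨Q', hRQ', hQ'⟩ := exists_invariant_sylow_ge (p := q) A K hAK hcop (Or.inl hsolv)
    ((R : Subgroup C).map C.subtype) (hRmC.trans hCK) hRmq hR
  obtain ⟨c, hcA, hcQ⟩ := invariant_sylow_conj (p := q) A K hAK hcop (Or.inl hsolv) Q' Q hQ' hQ
  have hQm : (Q : Subgroup K).map K.subtype
      = MulAut.conj (c : G) • (Q' : Subgroup K).map K.subtype := by
    rw [← hcQ]
    exact sylow_smul_map K Q' c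
  have hcS : (c : G) ∈ Subgroup.centralizer S := Subgroup.centralizer_le hS hcA
  -- the conjugate of `R` lies in `C_Q(S)`
  have hle : MulAut.conj (c : G) • (R : Subgroup C).map C.subtype
      ≤ cf ((Q : Subgroup K).map K.subtype) S := by
    intro x hx
    rw [mem_conj_smul] at hx
    refine Subgroup.mem_inf.2 ⟨?_, ?_⟩
    · rw [hQm, mem_conj_smul]
      exact hRQ' hx
    · have h1 : (c : G)⁻¹ * x * c ∈ Subgroup.centralizer S := by
        have := hRmC hx
        rw [hC] at this
        exact (Subgroup.mem_inf.1 this).2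
      have h2 := Subgroup.mul_mem _ (Subgroup.mul_mem _ hcS h1) (Subgroup.inv_mem _ hcS)
      have h3 : (c : G) * ((c : G)⁻¹ * x * c) * (c : G)⁻¹ = x := by group
      rwa [h3] at h2
  have hcardR : Nat.card (MulAut.conj (c : G) • (R : Subgroup C).map C.subtype : Subgroup G)
      = q ^ (Nat.card C).factorization q := by
    rw [card_conj_smul, card_map_subtype, Sylow.card_eq_multiplicity]
  have hdvd1 : q ^ (Nat.card C).factorization q
      ∣ Nat.card (cf ((Q : Subgroup K).map K.subtype) S) := by
    rw [← hcardR]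
    exact Subgroup.card_dvd_of_le hle
  have hQq : IsPGroup q (cf ((Q : Subgroup K).map K.subtype) S) :=
    (Q.2.map K.subtype).to_le (cf_le _ _)
  obtain ⟨m, hm⟩ := hQq.exists_card_eq
  have hQmK : (Q : Subgroup K).map K.subtype ≤ K := by
    rintro _ ⟨x, -, rfl⟩
    exact x.2
  have hdvd2 : q ^ m ∣ Nat.card C := by
    rw [← hm, hC]
    exact Subgroup.card_dvd_of_le (cf_mono hQmK S)
  have h1 : m ≤ (Nat.card C).factorization q :=
    (hq.pow_dvd_iff_le_factorization Nat.card_pos.ne').1 hdvd2
  rw [hm] at hdvd1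
  have h2 : (Nat.card C).factorization q ≤ m := (Nat.pow_dvd_pow_iff_le_right hq.one_lt).1 hdvd1
  rw [hm, ← hC, le_antisymm h1 h2]


/-- The formula for `K` follows from the formula for invariant Sylow subgroups. -/
theorem formula_of_sylow [Finite G] {p : ℕ} (hp : p.Prime) (a b : G) (K : Subgroup G)
    (h : Hyp p a b K)
    (hS : ∀ (q : ℕ) [Fact q.Prime] (Q : Sylow q K),
      Subgroup.closure ({a, b} : Set G)
        ≤ Subgroup.normalizer (((Q : Subgroup K).map K.subtype : Subgroup G) : Set G) →
      Formula p a b ((Q : Subgroup K).map K.subtype)) :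
    Formula p a b K := by
  obtain ⟨hcop, hsolv, hnorm, hcomm⟩ := acting_facts hp a b K h {a, b} Subgroup.subset_closure
  have hAK : Subgroup.closure ({a, b} : Set G) ≤ Subgroup.normalizer (K : Set G) :=
    (Subgroup.closure_le _).2 hnorm
  unfold Formula
  have hne : ∀ (L : Subgroup G), Nat.card L ≠ 0 := fun L => Nat.card_pos.ne'
  have hprodne : ∏ i ∈ Finset.range p, Nat.card (cf K {a ^ i * b}) ≠ 0 :=
    Finset.prod_ne_zero_iff.2 (fun i _ => hne _)
  apply Nat.eq_of_factorization_eq (mul_ne_zero (hne _) (pow_ne_zero _ (hne _)))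
    (mul_ne_zero (hne _) hprodne)
  intro q
  by_cases hq : q.Prime
  · haveI : Fact q.Prime := ⟨hq⟩
    obtain ⟨Q, hQ⟩ := exists_invariant_sylow (p := q) _ K hAK hcop (Or.inl hsolv)
    have hf := hS q Q hQ
    unfold Formula at hf
    have e1 : Nat.card ((Q : Subgroup K).map K.subtype) = q ^ (Nat.card K).factorization q := by
      rw [card_map_subtype, Sylow.card_eq_multiplicity]
    have e2 := card_cf_sylow _ K hcomm hAK hcop hsolv Q hQ {a, b} Subgroup.subset_closure
    have e3 := card_cf_sylow _ K hcomm hAK hcop hsolv Q hQ {a} (singleton_subset_closure a b)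
    have e4 : ∀ i : ℕ, Nat.card (cf ((Q : Subgroup K).map K.subtype) {a ^ i * b})
        = q ^ (Nat.card (cf K {a ^ i * b})).factorization q := fun i =>
      card_cf_sylow _ K hcomm hAK hcop hsolv Q hQ {a ^ i * b} (singleton_subset_closure' a b i)
    rw [e1, e2, e3, Finset.prod_congr rfl (fun i _ => e4 i), Finset.prod_pow_eq_pow_sum,
      ← pow_mul, ← pow_add, ← pow_add] at hf
    have hexp := Nat.pow_right_injective hq.two_le hf
    rw [Nat.factorization_mul (hne _) (pow_ne_zero _ (hne _)), Nat.factorization_pow,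
      Nat.factorization_mul (hne _) hprodne, Nat.factorization_prod (fun i _ => hne _)]
    simp only [Finsupp.coe_add, Finsupp.coe_smul, Pi.add_apply, Pi.smul_apply, smul_eq_mul,
      Finsupp.coe_finsetSum, Finset.sum_apply]
    rw [mul_comm p]
    exact hexp
  · rw [Nat.factorization_eq_zero_of_not_prime _ hq, Nat.factorization_eq_zero_of_not_prime _ hq]


/-! ### Prime power groups -/

theorem normalizer_le_normalizer_centre (K : Subgroup G) :
    Subgroup.normalizer (K : Set G)
      ≤ Subgroup.normalizer ((K ⊓ Subgroup.centralizer (K : Set G) : Subgroup G) : Set G) := by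
  have key : ∀ g ∈ Subgroup.normalizer (K : Set G), ∀ x ∈ Subgroup.centralizer (K : Set G),
      g * x * g⁻¹ ∈ Subgroup.centralizer (K : Set G) := by
    intro g hg x hx
    rw [Subgroup.mem_centralizer_iff] at hx ⊢
    intro k hk
    have hk' : g⁻¹ * k * g ∈ K := by
      have := (Subgroup.mem_normalizer_iff.1 (Subgroup.inv_mem _ hg) k).1 hk
      simpa using this
    have h1 := hx _ hk'
    calc k * (g * x * g⁻¹) = g * ((g⁻¹ * k * g) * x) * g⁻¹ := by group
      _ = g * (x * (g⁻¹ * k * g)) * g⁻¹ := by rw [h1]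
      _ = g * x * g⁻¹ * k := by group
  intro g hg
  rw [Subgroup.mem_normalizer_iff]
  intro x
  constructor
  · intro hx
    obtain ⟨hx1, hx2⟩ := Subgroup.mem_inf.1 hx
    exact Subgroup.mem_inf.2 ⟨(Subgroup.mem_normalizer_iff.1 hg x).1 hx1, key g hg x hx2⟩
  · intro hx
    obtain ⟨hx1, hx2⟩ := Subgroup.mem_inf.1 hx
    refine Subgroup.mem_inf.2 ⟨(Subgroup.mem_normalizer_iff.1 hg x).2 hx1, ?_⟩
    have h2 := key g⁻¹ (Subgroup.inv_mem _ hg) _ hx2
    have h3 : g⁻¹ * (g * x * g⁻¹) * g⁻¹⁻¹ = x := by group
    rwa [h3] at h2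

theorem card_qimg [Finite G] (K Z : Subgroup G) (hZK : Z ≤ K)
    (hKZ : K ≤ Subgroup.normalizer (Z : Set G)) :
    Nat.card K = Nat.card Z * Nat.card (qimg Z K) := by
  have hcl : Subgroup.closure (∅ : Set G) = ⊥ := Subgroup.closure_empty
  have h1 : (Nat.card (Subgroup.closure (∅ : Set G))).Coprime (Nat.card K) := by
    rw [hcl, Subgroup.card_bot]
    exact Nat.coprime_one_left _
  have h2 : Group.IsSolvable (Subgroup.closure (∅ : Set G)) := by
    rw [hcl]
    exact isSolvable_of_le bot_le (Group.isSolvable_of_comm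
      (G := (⊥ : Subgroup G)) (fun a b => Subsingleton.elim _ _))
  have e0 := card_cf_quotient K Z hZK hKZ ∅ (Set.empty_subset _) (Set.empty_subset _) h1 h2 ∅
    (fun x hx => absurd hx (Set.notMem_empty _)) (fun t ht => absurd ht (Set.notMem_empty _))
  rw [cf_empty, cf_empty, cf_empty] at e0
  exact e0

theorem formula_bot (p : ℕ) (a b : G) : Formula p a b ⊥ := by
  have h : ∀ S : Set G, cf (⊥ : Subgroup G) S = ⊥ := fun S => eq_bot_iff.2 (cf_le _ _)
  unfold Formula
  simp only [h, Subgroup.card_bot, one_pow, mul_one, Finset.prod_const_one]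

theorem formula_pgroup {p : ℕ} (hp : p.Prime) {q : ℕ} [Fact q.Prime] :
    ∀ (n : ℕ) (G : Type u) [Group G] [Finite G] (a b : G) (K : Subgroup G),
      Hyp p a b K → IsPGroup q K → Nat.card K = n → Formula p a b K := by
  intro n
  induction n using Nat.strong_induction_on with
  | _ n ih =>
    intro G _ _ a b K h hKq hcard
    by_cases hbot : K = ⊥
    · rw [hbot]
      exact formula_bot p a b
    · obtain ⟨Z, hZ⟩ : ∃ Z : Subgroup G, Z = K ⊓ Subgroup.centralizer (K : Set G) := ⟨_, rfl⟩
      have hZK : Z ≤ K := hZ ▸ inf_le_left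
      have hNN : Subgroup.normalizer (K : Set G) ≤ Subgroup.normalizer (Z : Set G) :=
        hZ ▸ normalizer_le_normalizer_centre K
      have hKZ : K ≤ Subgroup.normalizer (Z : Set G) := Subgroup.le_normalizer.trans hNN
      have haZ := hNN h.haK
      have hbZ := hNN h.hbK
      have hZne : Z ≠ ⊥ := by
        haveI : Nontrivial K := (Subgroup.nontrivial_iff_ne_bot K).2 hbot
        haveI hcn : Nontrivial (Subgroup.center K) := hKq.center_nontrivial
        obtain ⟨z, hz⟩ := exists_ne (1 : Subgroup.center K)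
        intro hZbot
        have hzZ : ((z : K) : G) ∈ Z := by
          rw [hZ]
          refine Subgroup.mem_inf.2 ⟨(z : K).2, ?_⟩
          rw [Subgroup.mem_centralizer_iff]
          intro k hk
          have := Subgroup.mem_center_iff.1 z.2 ⟨k, hk⟩
          exact congrArg Subtype.val this
        rw [hZbot, Subgroup.mem_bot] at hzZ
        apply hz
        ext
        rw [hzZ]
        rfl
      haveI hZc : IsMulCommutative Z := by
        refine ⟨⟨fun x y => ?_⟩⟩
        have hy : (y : G) ∈ Subgroup.centralizer (K : Set G) := by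
          have hle : Z ≤ Subgroup.centralizer (K : Set G) := hZ ▸ inf_le_right
          exact hle y.2
        exact Subtype.ext (Subgroup.mem_centralizer_iff.1 hy x (hZK x.2))
      have hypZ : Hyp p a b Z :=
        ⟨h.comm, h.ha, h.hb, haZ, hbZ, h.cop.coprime_dvd_right (Subgroup.card_dvd_of_le hZK)⟩
      have hZf : Formula p a b Z := formula_comm Z hp a b hypZ
      have hcq := card_qimg K Z hZK hKZ
      have hZ1 : 1 < Nat.card Z := by
        rcases Nat.lt_or_ge 1 (Nat.card Z) with h1 | h1
        · exact h1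
        · exfalso
          have h2 : Nat.card Z = 1 := le_antisymm h1 Nat.card_pos
          exact hZne (Subgroup.card_eq_one.1 h2)
      have hlt : Nat.card (qimg Z K) < n := by
        rw [← hcard, hcq]
        have hpos : 0 < Nat.card (qimg Z K) := Nat.card_pos
        nlinarith
      have hQq : IsPGroup q (qimg Z K) := (hKq.comap_subtype).map _
      have hQf := ih _ hlt _ _ _ (qimg Z K) (hyp_quotient a b K Z h haZ hbZ) hQq rfl
      exact formula_of_quotient a b K Z hp h hZK hKZ haZ hbZ hZf hQf

/-- **Wielandt's order formula**. -/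
theorem wielandt_formula [Finite G] {p : ℕ} (hp : p.Prime) (a b : G) (K : Subgroup G)
    (h : Hyp p a b K) : Formula p a b K := by
  apply formula_of_sylow hp a b K h
  intro q _ Q hQ
  have hQmK : (Q : Subgroup K).map K.subtype ≤ K := by
    rintro _ ⟨x, -, rfl⟩
    exact x.2
  refine formula_pgroup hp _ G a b _ ⟨h.comm, h.ha, h.hb, ?_, ?_, ?_⟩ (Q.2.map _) rfl
  · exact hQ (Subgroup.subset_closure (Set.mem_insert _ _))
  · exact hQ (Subgroup.subset_closure (Set.mem_insert_of_mem _ rfl))
  · exact h.cop.coprime_dvd_right (Subgroup.card_dvd_of_le hQmK)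

end Cfsg.Agent.Lead.WielandtC
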