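import Mathlib
import Cfsg.Prelude.Def_Local
import Cfsg.Agent.Helper1.OddGL2B
import Cfsg.Agent.Helper1.SylowInt
import Cfsg.Agent.Helper1.FrattiniAct
import Cfsg.Agent.Helper4.PSolvable

set_option autoImplicit false

/-!
Abstract part of: a `p`-solvable group (`p ≥ 5`) with `GL₂`-like properties has `O_p ≠ 1`.
-/

namespace Cfsg.Agent.Lead
namespace PSolvGL2

open scoped Pointwise
open Cfsg.Agent.Helper1

theorem perm_eq_one_of_card_le_four {W : Type*} [Finite W] (σ : Equiv.Perm W)
    (hW : Nat.card W ≤ 4) (n : ℕ) (hn : n.Coprime 6) (hσ : σ ^ n = 1) : σ = 1 := by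
  classical
  haveI := Fintype.ofFinite W
  have h1 : orderOf σ ∣ Nat.card (Equiv.Perm W) := orderOf_dvd_natCard σ
  rw [Nat.card_eq_fintype_card, Fintype.card_perm, ← Nat.card_eq_fintype_card] at h1
  have h2 : (Nat.card W).factorial ∣ Nat.factorial 4 := Nat.factorial_dvd_factorial hW
  have h3 : orderOf σ ∣ 24 := by
    have : Nat.factorial 4 = 24 := by decide
    rw [← this]; exact h1.trans h2
  have h4 : orderOf σ ∣ n := orderOf_dvd_of_pow_eq_one hσ
  have h5 : orderOf σ ∣ Nat.gcd 24 n := Nat.dvd_gcd h3 h4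
  have hn2 : Nat.Coprime n 2 := hn.coprime_dvd_right (by norm_num)
  have hn3 : Nat.Coprime n 3 := hn.coprime_dvd_right (by norm_num)
  have h6 : Nat.Coprime 24 n := by
    have : (24 : ℕ) = 2 ^ 3 * 3 := by norm_num
    rw [this]
    exact (Nat.Coprime.mul_left (Nat.Coprime.pow_left 3 hn2.symm) hn3.symm)
  rw [h6.gcd_eq_one] at h5
  exact orderOf_eq_one_iff.1 (Nat.dvd_one.1 h5)

theorem mulAut_pow_apply_mul {Q : Type*} [Group Q] (φ : MulAut Q) (g c : Q) (hc : φ c = c)
    (hg : φ g = g * c) (k : ℕ) : (φ ^ k) g = g * c ^ k := by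
  induction k with
  | zero => simp
  | succ k ih =>
    rw [pow_succ', MulAut.mul_apply, ih, map_mul, map_pow, hc, hg, mul_assoc, ← pow_succ']

/-- an automorphism of order prime to `6` of a `2`-group with an abelian subgroup of index at most
`2`, acting trivially on every invariant abelian subgroup, is trivial -/
theorem aut_eq_one_of_abelian_index_two {Q : Type*} [Group Q] [Finite Q] (hQ : IsPGroup 2 Q)
    (φ : MulAut Q) (n : ℕ) (hn6 : n.Coprime 6) (hφn : φ ^ n = 1)
    (A : Subgroup Q) (hAab : ∀ a ∈ A, ∀ b ∈ A, a * b = b * a) (hAi : A.index ≤ 2)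
    (Hab : ∀ B : Subgroup Q, (∀ a ∈ B, ∀ b ∈ B, a * b = b * a) →
      (∀ b, b ∈ B ↔ φ b ∈ B) → ∀ b ∈ B, φ b = b) :
    ∀ g, φ g = g := by
  by_cases hab : ∀ a b : Q, a * b = b * a
  · intro g
    exact Hab ⊤ (fun a _ b _ => hab a b) (fun b => by simp) g (Subgroup.mem_top g)
  push Not at hab
  obtain ⟨x₀, y₀, hxy₀⟩ := hab
  have hA2 : A.index = 2 := by
    have h0 : A.index ≠ 0 := Subgroup.index_ne_zero_of_finite
    have h1 : A.index ≠ 1 := by
      intro h
      rw [Subgroup.index_eq_one] at h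
      exact hxy₀ (hAab x₀ (h ▸ Subgroup.mem_top _) y₀ (h ▸ Subgroup.mem_top _))
    omega
  -- the centre lies in `A`
  have hZA : Subgroup.center Q ≤ A := by
    intro z hz
    by_contra hzA
    apply hxy₀
    have hdec : ∀ g : Q, ∃ a ∈ A, ∃ c ∈ Subgroup.center Q, g = a * c := by
      intro g
      by_cases hg : g ∈ A
      · exact ⟨g, hg, 1, Subgroup.one_mem _, (mul_one g).symm⟩
      · refine ⟨g * z, ?_, z⁻¹, Subgroup.inv_mem _ hz, by group⟩
        rw [Subgroup.mul_mem_iff_of_index_two hA2]
        exact ⟨fun h => absurd h hg, fun h => absurd h hzA⟩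
    obtain ⟨a, ha, c, hc, rfl⟩ := hdec x₀
    obtain ⟨b, hb, d, hd, rfl⟩ := hdec y₀
    have hc' := Subgroup.mem_center_iff.1 hc
    have hd' := Subgroup.mem_center_iff.1 hd
    calc a * c * (b * d) = a * (c * b) * d := by group
      _ = a * (b * c) * d := by rw [hc' b]
      _ = (a * b) * (c * d) := by group
      _ = (b * a) * (d * c) := by rw [hAab a ha b hb, hd' c]
      _ = b * (a * d) * c := by group
      _ = b * (d * a) * c := by rw [hd' a]
      _ = b * d * (a * c) := by group
  -- the centre is invariant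
  have hφZ : ∀ z, φ z ∈ Subgroup.center Q ↔ z ∈ Subgroup.center Q := by
    intro z
    have h := (Subgroup.centerCharacteristic (G := Q)).fixed φ
    conv_rhs => rw [← h]
    rfl
  -- `φ A = A`
  have hφA : ∀ b, b ∈ A ↔ φ b ∈ A := by
    by_contra hne
    -- the image of `A`
    obtain ⟨A', hA'⟩ : ∃ A' : Subgroup Q, A' = A.map φ.toMonoidHom := ⟨_, rfl⟩
    have hA'mem : ∀ b, φ b ∈ A' ↔ b ∈ A := by
      intro b
      rw [hA']
      constructor
      · rintro ⟨c, hc, hcb⟩
        have : c = b := φ.injective hcb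
        rwa [← this]
      · intro hb; exact ⟨b, hb, rfl⟩
    have hA'ab : ∀ a ∈ A', ∀ b ∈ A', a * b = b * a := by
      rw [hA']
      rintro _ ⟨a, ha, rfl⟩ _ ⟨b, hb, rfl⟩
      show φ a * φ b = φ b * φ a
      rw [← map_mul, ← map_mul, hAab a ha b hb]
    have hA'i : A'.index = 2 := by
      rw [hA', ← hA2]
      exact Subgroup.index_map_of_bijective φ.bijective A
    have hA'A : ¬ A' ≤ A := by
      intro hle
      apply hne
      have heq : A' = A := by
        apply Subgroup.eq_of_le_of_card_ge hle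
        have h1 := A.card_mul_index
        have h2 := A'.card_mul_index
        rw [hA2] at h1
        rw [hA'i] at h2
        have : Nat.card A * 2 = Nat.card A' * 2 := by rw [h1, h2]
        omega
      intro b
      rw [← hA'mem b, heq]
    obtain ⟨b₀, hb₀, hb₀A⟩ := SetLike.not_le_iff_exists.1 hA'A
    have hcen : A ⊓ A' ≤ Subgroup.center Q := by
      intro z hz
      rw [Subgroup.mem_center_iff]
      intro g
      have hzb : z * b₀ = b₀ * z := hA'ab z hz.2 b₀ hb₀
      by_cases hg : g ∈ A
      · exact hAab g hg z hz.1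
      · have hgb : g * b₀ ∈ A := by
          rw [Subgroup.mul_mem_iff_of_index_two hA2]
          exact ⟨fun h => absurd h hg, fun h => absurd h hb₀A⟩
        have h1 := hAab (g * b₀) hgb z hz.1
        -- g b₀ z = z g b₀, and z b₀ = b₀ z
        have h2 : g * z * b₀ = z * g * b₀ := by
          calc g * z * b₀ = g * (z * b₀) := by group
            _ = g * (b₀ * z) := by rw [hzb]
            _ = (g * b₀) * z := by group
            _ = z * (g * b₀) := h1
            _ = z * g * b₀ := by group
        exact mul_right_cancel h2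
    have hidx : (Subgroup.center Q).index ≤ 4 := by
      have h1 : (A ⊓ A').index ≤ A.index * A'.index := Subgroup.index_inf_le
      rw [hA2, hA'i] at h1
      have h2 : (Subgroup.center Q).index ∣ (A ⊓ A').index := Subgroup.index_dvd_of_le hcen
      have h3 : (A ⊓ A').index ≠ 0 := Subgroup.index_ne_zero_of_finite
      exact (Nat.le_of_dvd (Nat.pos_of_ne_zero h3) h2).trans h1
    -- the induced permutation of the cosets of the centre
    obtain ⟨σ, hσ⟩ : ∃ σ : Equiv.Perm (Q ⧸ Subgroup.center Q),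
        ∀ g : Q, σ (QuotientGroup.mk g) = QuotientGroup.mk (φ g) := by
      refine ⟨Quotient.congr φ.toEquiv ?_, fun g => rfl⟩
      intro a b
      show QuotientGroup.leftRel _ a b ↔ QuotientGroup.leftRel _ (φ a) (φ b)
      rw [QuotientGroup.leftRel_apply, QuotientGroup.leftRel_apply, ← map_inv, ← map_mul, hφZ]
    have hσk : ∀ (k : ℕ) (g : Q), (σ ^ k) (QuotientGroup.mk g) = QuotientGroup.mk ((φ ^ k) g) := by
      intro k
      induction k with
      | zero => intro g; simp
      | succ k ih =>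
        intro g
        rw [pow_succ', Equiv.Perm.mul_apply, ih, hσ, pow_succ', MulAut.mul_apply]
    have hσn : σ ^ n = 1 := by
      ext w
      induction w using QuotientGroup.induction_on with
      | H g => rw [hσk, hφn]; rfl
    have hσ1 : σ = 1 := perm_eq_one_of_card_le_four σ hidx n hn6 hσn
    have hgz : ∀ g : Q, g⁻¹ * φ g ∈ Subgroup.center Q := by
      intro g
      have h1 := hσ g
      rw [hσ1, Equiv.Perm.one_apply] at h1
      exact QuotientGroup.eq.1 h1
    apply hA'A
    rw [hA']
    rintro _ ⟨a, ha, rfl⟩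
    show φ a ∈ A
    have : φ a = a * (a⁻¹ * φ a) := by group
    rw [this]
    exact A.mul_mem ha (hZA (hgz a))
  have hfix := Hab A hAab hφA
  intro g
  have hc : g⁻¹ * φ g ∈ A := by
    rw [Subgroup.mul_mem_iff_of_index_two hA2, Subgroup.inv_mem_iff]
    exact hφA g
  have hcfix := hfix _ hc
  have hk := mulAut_pow_apply_mul φ g (g⁻¹ * φ g) hcfix (by group) n
  rw [hφn, MulAut.one_apply] at hk
  have hcn : (g⁻¹ * φ g) ^ n = 1 := by
    have := congrArg (g⁻¹ * ·) hk
    simpa using this.symm
  obtain ⟨j, hj⟩ := hQ (g⁻¹ * φ g)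
  have hn2 : Nat.Coprime n 2 := hn6.coprime_dvd_right (by norm_num)
  have h1 := pow_gcd_eq_one.2 ⟨hcn, hj⟩
  rw [Nat.Coprime.gcd_eq_one (Nat.Coprime.pow_right j hn2), pow_one] at h1
  calc φ g = g * (g⁻¹ * φ g) := by group
    _ = g := by rw [h1, mul_one]

end PSolvGL2
end Cfsg.Agent.Lead
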