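import Mathlib
import Cfsg.Prelude.Def_Local
import Cfsg.Agent.Lead.PSolvA

set_option autoImplicit false

/-!
Abstract part of: a `p`-solvable group (`p ≥ 5`) with `GL₂`-like properties has `O_p ≠ 1`.
-/

namespace Cfsg.Agent.Lead
namespace PSolvGL2

open scoped Pointwise
open Cfsg.Agent.Helper1

variable {Γ : Type*} [Group Γ]

/-- conjugation by a normalizing element, as an automorphism of the subgroup -/
def conjAut (Q : Subgroup Γ) (u : Γ) (hu : u ∈ Subgroup.normalizer (Q : Set Γ)) : MulAut Q where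
  toFun := fun g => ⟨u * g * u⁻¹, (Subgroup.mem_normalizer_iff.1 hu g).1 g.2⟩
  invFun := fun g => ⟨u⁻¹ * g * u, by
    rw [Subgroup.mem_normalizer_iff.1 hu (u⁻¹ * g * u)]
    have : u * (u⁻¹ * (g : Γ) * u) * u⁻¹ = g := by group
    rw [this]; exact g.2⟩
  left_inv := fun g => by
    apply Subtype.ext
    show u⁻¹ * (u * (g : Γ) * u⁻¹) * u = g
    group
  right_inv := fun g => by
    apply Subtype.ext
    show u * (u⁻¹ * (g : Γ) * u) * u⁻¹ = g
    group
  map_mul' := fun g h => by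
    apply Subtype.ext
    show u * ((g : Γ) * (h : Γ)) * u⁻¹ = (u * (g : Γ) * u⁻¹) * (u * (h : Γ) * u⁻¹)
    group

theorem conjAut_apply (Q : Subgroup Γ) (u : Γ) (hu : u ∈ Subgroup.normalizer (Q : Set Γ)) (g : Q) :
    ((conjAut Q u hu g : Q) : Γ) = u * g * u⁻¹ := rfl

theorem conjAut_pow_apply (Q : Subgroup Γ) (u : Γ) (hu : u ∈ Subgroup.normalizer (Q : Set Γ))
    (k : ℕ) (g : Q) : (((conjAut Q u hu ^ k) g : Q) : Γ) = u ^ k * g * (u ^ k)⁻¹ := by
  induction k generalizing g with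
  | zero => simp
  | succ k ih =>
    rw [pow_succ', MulAut.mul_apply, conjAut_apply, ih, pow_succ']
    group

variable [Finite Γ] {p : ℕ} [hp : Fact p.Prime]

theorem centralizes_two_subgroup
    (HK : ∀ a g : Γ, (orderOf a).Coprime p → Odd (orderOf g) → Commute a (g * a * g⁻¹) →
      g * a * g⁻¹ = a)
    (hp2 : p ≠ 2) (Q : Subgroup Γ) (hQ : IsPGroup 2 Q)
    (hH2 : ∃ A : Subgroup Q, (∀ a ∈ A, ∀ b ∈ A, a * b = b * a) ∧ A.index ≤ 2)
    (u : Γ) (hu : u ∈ Subgroup.normalizer (Q : Set Γ)) (hu6 : (orderOf u).Coprime 6) :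
    ∀ g ∈ Q, u * g * u⁻¹ = g := by
  obtain ⟨A, hAab, hAi⟩ := hH2
  have huodd : Odd (orderOf u) := by
    have h2 : Nat.Coprime (orderOf u) 2 := hu6.coprime_dvd_right (by norm_num)
    exact Nat.Coprime.odd_of_right h2
  have hφn : conjAut Q u hu ^ orderOf u = 1 := by
    ext g
    rw [conjAut_pow_apply, pow_orderOf_eq_one]
    simp
  have Hab : ∀ B : Subgroup Q, (∀ a ∈ B, ∀ b ∈ B, a * b = b * a) →
      (∀ b, b ∈ B ↔ conjAut Q u hu b ∈ B) → ∀ b ∈ B, conjAut Q u hu b = b := by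
    intro B hBab hBinv b hb
    apply Subtype.ext
    rw [conjAut_apply]
    apply HK (b : Γ) u
    · obtain ⟨k, hk⟩ := (IsPGroup.iff_orderOf.1 hQ) b
      rw [Subgroup.orderOf_coe, hk]
      apply Nat.Coprime.pow_left
      rw [Nat.coprime_primes Nat.prime_two hp.out]
      exact fun h => hp2 h.symm
    · exact huodd
    · have h1 := hBab b hb _ ((hBinv b).1 hb)
      have h2 := congrArg Subtype.val h1
      exact h2
  intro g hg
  have := aut_eq_one_of_abelian_index_two hQ (conjAut Q u hu) (orderOf u) hu6 hφn A hAab hAi Hab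
    ⟨g, hg⟩
  exact congrArg Subtype.val this

theorem centralizes_odd_subgroup
    (HK : ∀ a g : Γ, (orderOf a).Coprime p → Odd (orderOf g) → Commute a (g * a * g⁻¹) →
      g * a * g⁻¹ = a)
    (q : ℕ) [hq : Fact q.Prime] (hq2 : q ≠ 2) (Q : Subgroup Γ) (hQ : IsPGroup q Q)
    (hQp : ∀ a ∈ Q, (orderOf a).Coprime p)
    (u : Γ) (hu : u ∈ Subgroup.normalizer (Q : Set Γ)) (huodd : Odd (orderOf u)) :
    ∀ g ∈ Q, u * g * u⁻¹ = g := by
  haveI : Group.IsNilpotent Q := hQ.isNilpotent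
  have hqodd : Odd q := hq.out.odd_of_ne_two hq2
  have hab := Cfsg.Agent.Helper1.OddGL2.comm_of_nilpotent_of_hK (Γ := Q) (by
    intro a g hc
    apply Subtype.ext
    show (g : Γ) * (a : Γ) * (g : Γ)⁻¹ = a
    apply HK (a : Γ) (g : Γ) (hQp a a.2)
    · obtain ⟨k, hk⟩ := (IsPGroup.iff_orderOf.1 hQ) g
      rw [Subgroup.orderOf_coe, hk]
      exact hqodd.pow
    · exact congrArg Subtype.val hc.eq)
  intro g hg
  apply HK g u (hQp g hg) huodd
  have hmem : u * g * u⁻¹ ∈ Q := (Subgroup.mem_normalizer_iff.1 hu g).1 hg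
  have h1 := hab ⟨g, hg⟩ ⟨u * g * u⁻¹, hmem⟩
  have h2 : (u * g * u⁻¹) * g * (u * g * u⁻¹)⁻¹ = g := congrArg Subtype.val h1
  show g * (u * g * u⁻¹) = (u * g * u⁻¹) * g
  calc g * (u * g * u⁻¹) = ((u * g * u⁻¹) * g * (u * g * u⁻¹)⁻¹) * (u * g * u⁻¹) := by rw [h2]
    _ = (u * g * u⁻¹) * g := by group

theorem eq_of_forall_sylow_le (H K : Subgroup Γ) (hHK : H ≤ K)
    (h : ∀ (q : ℕ) [Fact q.Prime], ∃ Q : Sylow q K, (Q : Subgroup K).map K.subtype ≤ H) :
    H = K := by
  apply Subgroup.eq_of_le_of_card_ge hHK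
  apply Nat.le_of_dvd Nat.card_pos
  rw [← Nat.factorization_prime_le_iff_dvd Nat.card_pos.ne' Nat.card_pos.ne']
  intro q hq
  haveI : Fact q.Prime := ⟨hq⟩
  obtain ⟨Q, hQ⟩ := h q
  have h1 : Nat.card ((Q : Subgroup K).map K.subtype) = q ^ (Nat.card K).factorization q := by
    rw [Subgroup.card_map_of_injective K.subtype_injective, Q.card_eq_multiplicity]
  have h2 : q ^ (Nat.card K).factorization q ∣ Nat.card H := by
    rw [← h1]; exact Subgroup.card_dvd_of_le hQ
  exact (hq.pow_dvd_iff_le_factorization Nat.card_pos.ne').1 h2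

theorem coprime_six_of_five_le (hp5 : 5 ≤ p) (j : ℕ) : (p ^ j).Coprime 6 := by
  apply Nat.Coprime.pow_left
  rw [Nat.Prime.coprime_iff_not_dvd hp.out]
  intro h
  have h6 : (6 : ℕ) = 2 * 3 := by norm_num
  rw [h6] at h
  rcases (Nat.Prime.dvd_mul hp.out).1 h with h | h
  · have := (Nat.prime_dvd_prime_iff_eq hp.out Nat.prime_two).1 h; omega
  · have := (Nat.prime_dvd_prime_iff_eq hp.out Nat.prime_three).1 h; omega

theorem centralizes_pPrime (hp5 : 5 ≤ p)
    (HK : ∀ a g : Γ, (orderOf a).Coprime p → Odd (orderOf g) → Commute a (g * a * g⁻¹) →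
      g * a * g⁻¹ = a)
    (H2 : ∀ Q : Subgroup Γ, IsPGroup 2 Q →
      ∃ A : Subgroup Q, (∀ a ∈ A, ∀ b ∈ A, a * b = b * a) ∧ A.index ≤ 2)
    (K : Subgroup Γ) (hK : (Nat.card K).Coprime p) (u : Γ)
    (hu : u ∈ Subgroup.normalizer (K : Set Γ)) (j : ℕ) (huj : orderOf u = p ^ j) :
    ∀ k ∈ K, u * k * u⁻¹ = k := by
  have hp2 : p ≠ 2 := by omega
  have hu6 : (orderOf u).Coprime 6 := huj ▸ coprime_six_of_five_le hp5 j
  have huodd : Odd (orderOf u) := by
    have h2 : Nat.Coprime (orderOf u) 2 := hu6.coprime_dvd_right (by norm_num)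
    exact Nat.Coprime.odd_of_right h2
  have hKord : ∀ a ∈ K, (orderOf a).Coprime p := by
    intro a ha
    exact hK.coprime_dvd_left (Subgroup.orderOf_dvd_natCard K ha)
  have hcop : (Nat.card (Subgroup.zpowers u)).Coprime (Nat.card K) := by
    rw [Nat.card_zpowers, huj]
    exact Nat.Coprime.pow_left j hK.symm
  have hAK : Subgroup.zpowers u ≤ Subgroup.normalizer (K : Set Γ) := (Subgroup.zpowers_le).2 hu
  have hH : K ⊓ Subgroup.centralizer {u} = K := by
    apply eq_of_forall_sylow_le _ K inf_le_left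
    intro q hq
    obtain ⟨Q, hQ⟩ := Cfsg.Agent.Helper1.exists_invariant_sylow (p := q) (Subgroup.zpowers u) K hAK
      hcop (Or.inl inferInstance)
    refine ⟨Q, ?_⟩
    have huQ := hQ (Subgroup.mem_zpowers u)
    have hQK : (Q : Subgroup K).map K.subtype ≤ K := Subgroup.map_subtype_le _
    have hQq : IsPGroup q ((Q : Subgroup K).map K.subtype) := Q.2.map _
    have hcen : ∀ g ∈ (Q : Subgroup K).map K.subtype, u * g * u⁻¹ = g := by
      by_cases hq2 : q = 2
      · subst hq2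
        exact centralizes_two_subgroup HK hp2 _ hQq (H2 _ hQq) u huQ hu6
      · exact centralizes_odd_subgroup HK q hq2 _ hQq (fun a ha => hKord a (hQK ha)) u huQ huodd
    intro g hg
    refine Subgroup.mem_inf.2 ⟨hQK hg, ?_⟩
    rw [Subgroup.mem_centralizer_singleton_iff]
    have := hcen g hg
    calc g * u = (u * g * u⁻¹)⁻¹⁻¹ * u := by rw [this]; group
      _ = u * g := by group
  intro k hk
  have h1 : k ∈ K ⊓ Subgroup.centralizer {u} := by rw [hH]; exact hk
  have h2 := Subgroup.mem_centralizer_singleton_iff.1 h1.2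
  calc u * k * u⁻¹ = (k * u) * u⁻¹ := by rw [h2]
    _ = k := by group

theorem pCore_ne_bot_of_isPSolvable (hp5 : 5 ≤ p)
    (HK : ∀ a g : Γ, (orderOf a).Coprime p → Odd (orderOf g) → Commute a (g * a * g⁻¹) →
      g * a * g⁻¹ = a)
    (H2 : ∀ Q : Subgroup Γ, IsPGroup 2 Q →
      ∃ A : Subgroup Q, (∀ a ∈ A, ∀ b ∈ A, a * b = b * a) ∧ A.index ≤ 2)
    (hsol : Cfsg.IsPSolvable p Γ) (hpΓ : p ∣ Nat.card Γ) : Cfsg.pCore p Γ ≠ ⊥ := by
  obtain ⟨K, hKdef⟩ : ∃ K, K = Cfsg.pPrimeCore p Γ := ⟨_, rfl⟩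
  haveI hKn : K.Normal := hKdef ▸ inferInstance
  have hKcop : (Nat.card K).Coprime p := hKdef ▸ card_pPrimeCore_coprime p
  have hKtop : K < ⊤ := by
    rw [lt_top_iff_ne_top]
    intro h
    rw [h, Subgroup.card_top] at hKcop
    exact hp.out.one_lt.ne' (Nat.Coprime.eq_one_of_dvd hKcop.symm hpΓ)
  obtain ⟨W, hWn, hKW, -, hfac⟩ :=
    Cfsg.Agent.Helper4.exists_normal_section_of_isPSolvable hsol ⊤ K hKtop
  have hcardW : Nat.card W = Nat.card K * K.relIndex W := by
    rw [mul_comm]; exact (relIndex_mul_card_of_le hKW.le).symm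
  obtain ⟨m, hm⟩ : ∃ m : ℕ, K.relIndex W = p ^ m := by
    rcases hfac with h | h
    · exact h
    · exfalso
      have h1 : (Nat.card W).Coprime p := by rw [hcardW]; exact Nat.Coprime.mul_left hKcop h
      have h2 : W ≤ K := hKdef ▸ le_pPrimeCore hWn h1
      exact absurd hKW (not_lt_of_ge h2)
  have hm0 : m ≠ 0 := by
    intro h
    rw [h, pow_zero, Subgroup.relIndex_eq_one] at hm
    exact absurd hKW (not_lt_of_ge hm)
  -- a Sylow `p`-subgroup of `W`
  let P₀ : Sylow p W := default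
  obtain ⟨P, hP⟩ : ∃ P : Subgroup Γ, P = (P₀ : Subgroup W).map W.subtype := ⟨_, rfl⟩
  have hPW : P ≤ W := hP ▸ Subgroup.map_subtype_le _
  have hPp : IsPGroup p P := hP ▸ P₀.2.map _
  have hPcard : Nat.card P = p ^ m := by
    rw [hP, Subgroup.card_map_of_injective W.subtype_injective, P₀.card_eq_multiplicity, hcardW, hm,
      Nat.factorization_mul Nat.card_pos.ne' (pow_ne_zero _ hp.out.ne_zero), Finsupp.add_apply,
      Nat.factorization_eq_zero_of_not_dvd, zero_add, hp.out.factorization_pow,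
      Finsupp.single_eq_same]
    intro h
    exact hp.out.one_lt.ne' (Nat.Coprime.eq_one_of_dvd hKcop.symm h)
  -- `P` centralizes `K`
  have hPK : ∀ u ∈ P, ∀ k ∈ K, u * k * u⁻¹ = k := by
    intro u hu
    obtain ⟨j, hj⟩ := (IsPGroup.iff_orderOf.1 hPp) ⟨u, hu⟩
    rw [Subgroup.orderOf_mk] at hj
    exact centralizes_pPrime hp5 HK H2 K hKcop u
      (by rw [Subgroup.normalizer_eq_top_iff.2 hKn]; exact Subgroup.mem_top u) j hj
  -- the normalizer of `P` in `W` is `W`
  have hNW : W ≤ Subgroup.normalizer (P : Set Γ) := by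
    have hK_le : K ≤ W ⊓ Subgroup.normalizer (P : Set Γ) := by
      refine le_inf hKW.le ?_
      intro k hk
      rw [Subgroup.mem_normalizer_iff]
      intro u
      constructor
      · intro hu
        have h1 := hPK u hu k⁻¹ (K.inv_mem hk)
        have h2 : k * u * k⁻¹ = u := by
          have : u * k⁻¹ = k⁻¹ * u := by
            calc u * k⁻¹ = (u * k⁻¹ * u⁻¹) * u := by group
              _ = k⁻¹ * u := by rw [h1]
          calc k * u * k⁻¹ = k * (u * k⁻¹) := by group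
            _ = k * (k⁻¹ * u) := by rw [this]
            _ = u := by group
        rw [h2]; exact hu
      · intro hu
        have h1 := hPK _ hu k⁻¹ (K.inv_mem hk)
        -- (k u k⁻¹) k⁻¹ (k u k⁻¹)⁻¹ = k⁻¹  →  u commutes with k
        have h2 : u = k * u * k⁻¹ := by
          have e : (k * u * k⁻¹) * k⁻¹ * (k * u * k⁻¹)⁻¹ = k * (u * k⁻¹ * u⁻¹) * k⁻¹ := by group
          rw [e] at h1
          have h3 : u * k⁻¹ * u⁻¹ = k⁻¹ := by
            have := congrArg (fun z => k⁻¹ * z * k) h1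
            simpa [mul_assoc] using this
          have h4 : u * k⁻¹ = k⁻¹ * u := by
            calc u * k⁻¹ = (u * k⁻¹ * u⁻¹) * u := by group
              _ = k⁻¹ * u := by rw [h3]
          calc u = k * (k⁻¹ * u) := by group
            _ = k * (u * k⁻¹) := by rw [h4]
            _ = k * u * k⁻¹ := by group
        rw [h2]; exact hu
    have hP_le : P ≤ W ⊓ Subgroup.normalizer (P : Set Γ) := le_inf hPW Subgroup.le_normalizer
    have h1 : Nat.card K ∣ Nat.card ↥(W ⊓ Subgroup.normalizer (P : Set Γ)) :=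
      Subgroup.card_dvd_of_le hK_le
    have h2 : Nat.card P ∣ Nat.card ↥(W ⊓ Subgroup.normalizer (P : Set Γ)) :=
      Subgroup.card_dvd_of_le hP_le
    have h3 : Nat.card W ∣ Nat.card ↥(W ⊓ Subgroup.normalizer (P : Set Γ)) := by
      rw [hcardW, hm, ← hPcard]
      exact Nat.Coprime.mul_dvd_of_dvd_of_dvd (by rw [hPcard]; exact Nat.Coprime.pow_right m hKcop)
        h1 h2
    have h4 : W ⊓ Subgroup.normalizer (P : Set Γ) = W :=
      Subgroup.eq_of_le_of_card_ge inf_le_left (Nat.le_of_dvd Nat.card_pos h3)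
    rw [← h4]; exact inf_le_right
  -- `P₀` is normal in `W`, hence characteristic
  haveI hP₀n : (P₀ : Subgroup W).Normal := by
    refine ⟨fun x hx w => ?_⟩
    have h1 : ((w * x * w⁻¹ : W) : Γ) ∈ P := by
      have h2 := (Subgroup.mem_normalizer_iff.1 (hNW w.2) (x : Γ)).1 (hP ▸ ⟨x, hx, rfl⟩)
      exact h2
    rw [hP] at h1
    obtain ⟨y, hy, hyx⟩ := h1
    have : y = w * x * w⁻¹ := Subtype.ext hyx
    rwa [← this]
  haveI hP₀c : (P₀ : Subgroup W).Characteristic := Sylow.characteristic_of_normal P₀ hP₀n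
  have hPn : P.Normal := by
    rw [← Subgroup.normalizer_eq_top_iff, eq_top_iff, hP]
    refine le_trans ?_ (le_normalizer_map_of_characteristic W (P₀ : Subgroup W))
    rw [Subgroup.normalizer_eq_top_iff.2 hWn]
  have hPne : P ≠ ⊥ := by
    intro h
    rw [h, Subgroup.card_bot] at hPcard
    have : 1 < p ^ m := Nat.one_lt_pow hm0 hp.out.one_lt
    omega
  intro hbot
  have := le_pCore hPn hPp
  rw [hbot, le_bot_iff] at this
  exact hPne this

end PSolvGL2
end Cfsg.Agent.Lead
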