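import Mathlib
import Cfsg.Prelude.Def_Local
import Cfsg.Agent.Lead.PSolvB
import Cfsg.Agent.Lead.Ab2GL2
import Cfsg.Agent.Helper4.OrbitSpanA

set_option autoImplicit false

/-!
Matrix part: finite `p`-solvable subgroups of `GL₂` in characteristic `p ≥ 5`.
-/

namespace Cfsg.Agent.Lead
namespace PSolvGL2

open scoped Pointwise
open Matrix
open Cfsg.Agent.Helper1 Cfsg.Agent.Helper1.OddGL2

section psolv

variable {G : Type*} [Group G]

theorem isPSolvable_of_surjective {p : ℕ} [hp : Fact p.Prime] {G' : Type*} [Group G']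
    (f : G →* G') (hf : Function.Surjective f) (hG : Cfsg.IsPSolvable p G) :
    Cfsg.IsPSolvable p G' := by
  obtain ⟨n, H, h0, hlast, hmono, hnorm, hfac⟩ := hG
  refine ⟨n, fun i => (H i).map f, ?_, ?_, ?_, ?_, ?_⟩
  · change (H 0).map _ = ⊥
    rw [h0, Subgroup.map_bot]
  · change (H (Fin.last n)).map _ = ⊤
    rw [hlast]; exact Subgroup.map_top_of_surjective _ hf
  · intro i j hij; exact Subgroup.map_mono (hmono hij)
  · intro i; exact (hnorm i).map _ hf
  · intro i
    have hdvd : ((H i.castSucc).map f).relIndex ((H i.succ).map f) ∣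
        (H i.castSucc).relIndex (H i.succ) := by
      rw [← Subgroup.relIndex_comap, Subgroup.comap_map_eq]
      exact Subgroup.relIndex_dvd_of_le_left _ le_sup_left
    rcases hfac i with ⟨m, hm⟩ | hc
    · left
      rw [hm] at hdvd
      obtain ⟨m', _, hm'⟩ := (Nat.dvd_prime_pow hp.out).mp hdvd
      exact ⟨m', hm'⟩
    · right
      exact Nat.Coprime.coprime_dvd_left hdvd hc

theorem isPSolvable_of_injective {p : ℕ} [hp : Fact p.Prime] {G' : Type*} [Group G']
    (f : G' →* G) (hf : Function.Injective f) (hG : Cfsg.IsPSolvable p G) :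
    Cfsg.IsPSolvable p G' := by
  have h1 : Cfsg.IsPSolvable p f.range := Cfsg.Agent.Helper4.isPSolvable_subgroup hG f.range
  exact isPSolvable_of_surjective (MonoidHom.ofInjective hf).symm.toMonoidHom
    (MonoidHom.ofInjective hf).symm.surjective h1

end psolv

variable {E : Type*} [Field E]

/-- a non-scalar semisimple matrix has at most one other conjugate in its commutant -/
theorem conj_eq_or (h2 : (2 : E) ≠ 0) (a g gi : Matrix (Fin 2) (Fin 2) E) (hg : g * gi = 1)
    (hg' : gi * g = 1) (hns : ∀ c : E, a ≠ c • 1) (m : ℕ) (hm : (m : E) ≠ 0) (ham : a ^ m = 1)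
    (hcomm : a * (g * a * gi) = (g * a * gi) * a) :
    g * a * gi = a ∨ g * a * gi = a.trace • (1 : Matrix (Fin 2) (Fin 2) E) - a := by
  obtain ⟨x, y, hxy⟩ := commutant_two a (g * a * gi) hns hcomm
  have htr : (g * a * gi).trace = a.trace := by
    rw [Matrix.trace_mul_comm, ← mul_assoc, hg', one_mul]
  have hdet : (g * a * gi).det = a.det := by
    rw [Matrix.det_mul, Matrix.det_mul, mul_comm (g.det), mul_assoc, ← Matrix.det_mul, hg,
      Matrix.det_one, mul_one]
  have hch := cayley_hamilton_two a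
  have hch' := cayley_hamilton_two (g * a * gi)
  rw [htr, hdet] at hch'
  obtain ⟨τ, hτ⟩ : ∃ τ, τ = a.trace := ⟨_, rfl⟩
  obtain ⟨δ, hδ⟩ : ∃ δ, δ = a.det := ⟨_, rfl⟩
  rw [← hτ, ← hδ] at hch hch'
  have hexp : (x • (1 : Matrix (Fin 2) (Fin 2) E) + y • a) * (x • 1 + y • a) =
      (x ^ 2 - y ^ 2 * δ) • (1 : Matrix (Fin 2) (Fin 2) E) + (2 * x * y + y ^ 2 * τ) • a := by
    simp only [add_mul, mul_add, smul_mul_assoc, mul_smul_comm, one_mul, mul_one, smul_smul, hch,
      smul_sub, sub_smul, add_smul]
    module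
  rw [hxy, hexp] at hch'
  have hzero : (x ^ 2 - y ^ 2 * δ - τ * x + δ) • (1 : Matrix (Fin 2) (Fin 2) E) +
      (2 * x * y + y ^ 2 * τ - τ * y) • a = 0 := by
    have := sub_eq_zero.2 hch'
    rw [← this]
    simp only [smul_add, smul_sub, sub_smul, add_smul, smul_smul]
    module
  obtain ⟨e1, e2⟩ := lin_indep_one_two a hns _ _ hzero
  have hy0 : y ≠ 0 := by
    intro hy
    rw [hy, zero_smul, add_zero] at hxy
    apply hns x
    have h1 : a = gi * (g * a * gi) * g := by
      simp only [mul_assoc, hg', mul_one]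
      rw [← mul_assoc, hg', one_mul]
    rw [h1, hxy, mul_smul_comm, mul_one, smul_mul_assoc, hg']
  have e3 : 2 * x = τ * (1 - y) := by
    have : y * (2 * x + y * τ - τ) = 0 := by linear_combination e2
    rcases mul_eq_zero.1 this with h | h
    · exact absurd h hy0
    · linear_combination h
  have e4 : (1 - y ^ 2) * (4 * δ - τ ^ 2) = 0 := by
    have hx : x = τ * (1 - y) / 2 := by field_simp; linear_combination e3
    rw [hx] at e1
    field_simp at e1
    linear_combination e1
  rcases mul_eq_zero.1 e4 with h | h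
  · have hy2 : (1 - y) * (1 + y) = 0 := by linear_combination h
    rcases mul_eq_zero.1 hy2 with h1 | h1
    · left
      have hy1 : y = 1 := by linear_combination -h1
      have hx0 : x = 0 := by
        have : 2 * x = 0 := by rw [e3, hy1]; ring
        exact (mul_eq_zero.1 this).resolve_left h2
      rw [hxy, hx0, hy1, zero_smul, zero_add, one_smul]
    · right
      have hy1 : y = -1 := by linear_combination h1
      have hxτ : x = τ := by
        have : 2 * x = 2 * τ := by rw [e3, hy1]; ring
        exact mul_left_cancel₀ h2 this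
      rw [hxy, hy1, hxτ, neg_smul, one_smul, sub_eq_add_neg, hτ]
  · exfalso
    obtain ⟨c, hc⟩ : ∃ c : E, c = τ / 2 := ⟨_, rfl⟩
    have hτc : τ = 2 * c := by rw [hc]; field_simp
    have hδ4 : δ = c ^ 2 := by
      have h22 : (2 : E) ^ 2 ≠ 0 := pow_ne_zero 2 h2
      rw [hc, div_pow, eq_div_iff h22]
      linear_combination h
    obtain ⟨N, hNdef⟩ : ∃ N, N = a - c • (1 : Matrix (Fin 2) (Fin 2) E) := ⟨_, rfl⟩
    have hNN : N * N = 0 := by
      rw [hNdef]
      simp only [sub_mul, mul_sub, smul_mul_assoc, mul_smul_comm, one_mul, mul_one, hch, hδ4, hτc,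
        smul_sub, smul_smul]
      module
    have ha : a = c • (1 : Matrix (Fin 2) (Fin 2) E) + N := by rw [hNdef]; abel
    have hm0 : m ≠ 0 := by
      rintro rfl
      exact hm (by simp)
    obtain ⟨m', rfl⟩ := Nat.exists_eq_succ_of_ne_zero hm0
    have hpow := pow_succ_smul_one_add_nilp c N hNN m'
    rw [← ha, ham] at hpow
    have hz : (1 - c ^ (m' + 1) + ((m' + 1 : ℕ) : E) * c ^ m' * c) •
        (1 : Matrix (Fin 2) (Fin 2) E) + (-(((m' + 1 : ℕ) : E) * c ^ m')) • a = 0 := by
      have := sub_eq_zero.2 hpow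
      rw [← this, hNdef]
      simp only [smul_sub, smul_smul]
      module
    obtain ⟨-, e6⟩ := lin_indep_one_two a hns _ _ hz
    have e7 : c ^ m' = 0 := by
      have : ((m' + 1 : ℕ) : E) * c ^ m' = 0 := by linear_combination -e6
      exact (mul_eq_zero.1 this).resolve_left hm
    have hm'0 : m' ≠ 0 := by
      rintro rfl
      rw [pow_one] at ham
      apply hns 1
      rw [ham, one_smul]
    have hτ0 : c = 0 := pow_eq_zero_iff hm'0 |>.1 e7
    have hδ0 : δ = 0 := by rw [hδ4, hτ0]; ring
    have hdet1 : a.det ^ (m' + 1) = 1 := by rw [← Matrix.det_pow, ham, Matrix.det_one]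
    rw [← hδ, hδ0, zero_pow (Nat.succ_ne_zero m')] at hdet1
    exact zero_ne_one hdet1

section hom

variable {Γ : Type*} [Group Γ] (μ : Γ →* Matrix (Fin 2) (Fin 2) E)

theorem mu_mul_inv (g : Γ) : μ g * μ g⁻¹ = 1 := by rw [← map_mul, mul_inv_cancel, map_one]

theorem mu_inv_mul (g : Γ) : μ g⁻¹ * μ g = 1 := by rw [← map_mul, inv_mul_cancel, map_one]

theorem hK_of_mat {p : ℕ} [hp : Fact p.Prime] [CharP E p] (hp2 : p ≠ 2)
    (hμ : Function.Injective μ) (a g : Γ) (ha : (orderOf a).Coprime p) (hg : Odd (orderOf g))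
    (hc : Commute a (g * a * g⁻¹)) : g * a * g⁻¹ = a := by
  apply hμ
  rw [map_mul, map_mul]
  by_cases hsc : ∃ c : E, μ a = c • 1
  · obtain ⟨c, hc'⟩ := hsc
    rw [hc', mul_smul_comm, mul_one, smul_mul_assoc, mu_mul_inv]
  · push Not at hsc
    apply lemmaK (two_ne_zero_of_charP (p := p) hp2) (μ a) (μ g) (μ g⁻¹) (mu_mul_inv μ g)
      (mu_inv_mul μ g) hsc (orderOf a) (natCast_ne_zero_of_coprime (p := p) ha)
      (by rw [← map_pow, pow_orderOf_eq_one, map_one]) _ (orderOf g) hg
      (by rw [← map_pow, pow_orderOf_eq_one, map_one])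
    have := congrArg μ hc.eq
    simpa only [map_mul] using this

/-- the centralizer of a non-scalar element is abelian -/
theorem commute_of_commute_nonscalar (hμ : Function.Injective μ) (a : Γ)
    (hns : ∀ c : E, μ a ≠ c • 1) (g h : Γ) (hg : a * g = g * a) (hh : a * h = h * a) :
    g * h = h * g := by
  apply hμ
  rw [map_mul, map_mul]
  have hg' : μ a * μ g = μ g * μ a := by rw [← map_mul, hg, map_mul]
  have hh' : μ a * μ h = μ h * μ a := by rw [← map_mul, hh, map_mul]
  obtain ⟨x, y, hxy⟩ := commutant_two (μ a) (μ g) hns hg'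
  obtain ⟨x', y', hxy'⟩ := commutant_two (μ a) (μ h) hns hh'
  rw [hxy, hxy']
  simp only [add_mul, mul_add, smul_mul_assoc, mul_smul_comm, one_mul, mul_one]
  module

theorem index_le_two_of {Δ : Type*} [Group Δ] [Finite Δ] (A : Subgroup Δ)
    (h : ∀ g k : Δ, g ∉ A → k ∉ A → k⁻¹ * g ∈ A) : A.index ≤ 2 := by
  by_cases hA : ∀ g, g ∈ A
  · have : A = ⊤ := by rw [eq_top_iff]; intro g _; exact hA g
    rw [this, Subgroup.index_top]; norm_num
  · push Not at hA
    obtain ⟨g₀, hg₀⟩ := hA
    have hsurj : Function.Surjective (fun i : Fin 2 =>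
        if i = 0 then (QuotientGroup.mk 1 : Δ ⧸ A) else QuotientGroup.mk g₀) := by
      intro w
      induction w using QuotientGroup.induction_on with
      | H g =>
        by_cases hg : g ∈ A
        · refine ⟨0, ?_⟩
          simp only [if_true]
          rw [QuotientGroup.eq]
          simpa using hg
        · refine ⟨1, ?_⟩
          simp only [Fin.one_eq_zero_iff, OfNat.ofNat_ne_one, if_false]
          rw [QuotientGroup.eq]
          exact h g g₀ hg hg₀
    have := Nat.card_le_card_of_surjective _ hsurj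
    simpa [Subgroup.index] using this

/-- a finite `2`-subgroup of `GL₂` in odd characteristic has an abelian subgroup of index at most
two -/
theorem exists_abelian_index_two {p : ℕ} [hp : Fact p.Prime] [CharP E p] (hp2 : p ≠ 2)
    [Finite Γ] (hμ : Function.Injective μ) (hΓ : IsPGroup 2 Γ) :
    ∃ A : Subgroup Γ, (∀ a ∈ A, ∀ b ∈ A, a * b = b * a) ∧ A.index ≤ 2 := by
  by_cases hab : ∀ a b : Γ, a * b = b * a
  · refine ⟨⊤, fun a _ b _ => hab a b, ?_⟩
    rw [Subgroup.index_top]; norm_num
  have h2 : (2 : E) ≠ 0 := two_ne_zero_of_charP (p := p) hp2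
  haveI : Group.IsNilpotent Γ := hΓ.isNilpotent
  -- an element of the second centre outside the centre
  obtain ⟨a, ha2, haZ⟩ : ∃ a, a ∈ Subgroup.upperCentralSeries Γ 2 ∧ a ∉ Subgroup.center Γ := by
    by_contra hno
    push Not at hno
    apply hab
    have key : ∀ n, Subgroup.upperCentralSeries Γ n ≤ Subgroup.center Γ := by
      intro n
      induction n with
      | zero => rw [Subgroup.upperCentralSeries_zero]; exact bot_le
      | succ n ih =>
        intro x hx
        apply hno
        rw [Subgroup.mem_upperCentralSeries_succ_iff]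
        intro y
        rw [Subgroup.upperCentralSeries_one]
        exact ih ((Subgroup.mem_upperCentralSeries_succ_iff.1 hx) y)
    obtain ⟨n, hn⟩ := (Group.IsNilpotent.nilpotent (G := Γ))
    intro a b
    have ha : a ∈ Subgroup.center Γ := key n (hn ▸ Subgroup.mem_top a)
    exact (Subgroup.mem_center_iff.1 ha b).symm
  have hns : ∀ c : E, μ a ≠ c • 1 := by
    intro c hc
    apply haZ
    rw [Subgroup.mem_center_iff]
    intro g
    apply hμ
    rw [map_mul, map_mul, hc, mul_smul_comm, smul_mul_assoc, mul_one, one_mul]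
  have hordcop : (orderOf a).Coprime p := by
    obtain ⟨k, hk⟩ := (IsPGroup.iff_orderOf.1 hΓ) a
    rw [hk]
    apply Nat.Coprime.pow_left
    rw [Nat.coprime_primes Nat.prime_two hp.out]
    exact fun h => hp2 h.symm
  -- conjugates of `a` commute with `a`
  have hcomm : ∀ g : Γ, Commute a (g * a * g⁻¹) := by
    intro g
    have h1 := (Subgroup.mem_upperCentralSeries_succ_iff.1 ha2) g
    rw [Subgroup.upperCentralSeries_one] at h1
    have hc : ∀ y, y * (a * g * a⁻¹ * g⁻¹) = (a * g * a⁻¹ * g⁻¹) * y :=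
      fun y => Subgroup.mem_center_iff.1 h1 y
    have e : g * a * g⁻¹ = (a * g * a⁻¹ * g⁻¹)⁻¹ * a := by group
    rw [e]
    have h3 : Commute a (a * g * a⁻¹ * g⁻¹) := hc a
    exact (h3.inv_right).mul_right (Commute.refl a)
  have hdich : ∀ g : Γ, g * a * g⁻¹ = a ∨
      μ (g * a * g⁻¹) = (μ a).trace • (1 : Matrix (Fin 2) (Fin 2) E) - μ a := by
    intro g
    have h1 := conj_eq_or h2 (μ a) (μ g) (μ g⁻¹) (mu_mul_inv μ g) (mu_inv_mul μ g) hns (orderOf a)
      (natCast_ne_zero_of_coprime (p := p) hordcop)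
      (by rw [← map_pow, pow_orderOf_eq_one, map_one])
      (by
        have := congrArg μ (hcomm g).eq
        simpa only [map_mul] using this)
    rcases h1 with h1 | h1
    · left
      apply hμ
      rw [map_mul, map_mul]; exact h1
    · right
      rw [map_mul, map_mul]; exact h1
  refine ⟨Subgroup.centralizer {a}, ?_, ?_⟩
  · intro g hg h hh
    rw [Subgroup.mem_centralizer_singleton_iff] at hg hh
    exact commute_of_commute_nonscalar μ hμ a hns g h hg.symm hh.symm
  · apply index_le_two_of
    intro g k hg hk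
    have hg' : g * a * g⁻¹ ≠ a := by
      intro h
      apply hg
      rw [Subgroup.mem_centralizer_singleton_iff]
      calc g * a = (g * a * g⁻¹) * g := by group
        _ = a * g := by rw [h]
    have hk' : k * a * k⁻¹ ≠ a := by
      intro h
      apply hk
      rw [Subgroup.mem_centralizer_singleton_iff]
      calc k * a = (k * a * k⁻¹) * k := by group
        _ = a * k := by rw [h]
    have e1 := (hdich g).resolve_left hg'
    have e2 := (hdich k).resolve_left hk'
    have e3 : g * a * g⁻¹ = k * a * k⁻¹ := hμ (e1.trans e2.symm)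
    rw [Subgroup.mem_centralizer_singleton_iff]
    calc k⁻¹ * g * a = k⁻¹ * (g * a * g⁻¹) * g := by group
      _ = k⁻¹ * (k * a * k⁻¹) * g := by rw [e3]
      _ = a * (k⁻¹ * g) := by group

end hom

end PSolvGL2
end Cfsg.Agent.Lead
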