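import Mathlib

set_option autoImplicit false

/-!
Automorphisms of odd order of cyclic `2`-groups and of generalized quaternion groups of order at
least `16` are trivial.
-/

namespace Cfsg.Agent.Lead.QuatAut

open QuaternionGroup

theorem mulAut_cyclic_two_group_odd {Q : Type*} [Group Q] [Finite Q] [IsCyclic Q] {k : ℕ}
    (hQ : Nat.card Q = 2 ^ k) (α : MulAut Q) {r : ℕ} (hr : Odd r) (hα : α ^ r = 1) : α = 1 := by
  have hcard : Nat.card (MulAut Q) = Nat.totient (2 ^ k) := by
    rw [IsCyclic.card_mulAut, hQ]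
  have hpos : 0 < Nat.totient (2 ^ k) := Nat.totient_pos.2 (pow_pos (by norm_num) k)
  haveI : Finite (MulAut Q) := Nat.finite_of_card_ne_zero (by rw [hcard]; exact hpos.ne')
  have h1 : orderOf α ∣ Nat.totient (2 ^ k) := by
    rw [← hcard]; exact orderOf_dvd_natCard α
  have h2 : orderOf α ∣ r := orderOf_dvd_of_pow_eq_one hα
  have h3 : Nat.totient (2 ^ k) ∣ 2 ^ k := by
    rcases k with _ | k
    · simp
    · rw [Nat.totient_prime_pow Nat.prime_two (Nat.succ_pos k)]
      simp only [Nat.add_sub_cancel, Nat.reduceSub, mul_one]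
      exact pow_dvd_pow 2 (Nat.le_succ k)
  have h4 : orderOf α ∣ Nat.gcd r (2 ^ k) := Nat.dvd_gcd h2 (h1.trans h3)
  have h5 : Nat.gcd r (2 ^ k) = 1 := by
    rw [← Nat.coprime_iff_gcd_eq_one]
    exact Nat.Coprime.pow_right k (Nat.coprime_two_right.2 hr)
  rw [h5, Nat.dvd_one, orderOf_eq_one_iff] at h4
  exact h4

theorem quat_hom_ext {n : ℕ} {M : Type*} [Monoid M] (f f' : QuaternionGroup n →* M)
    (ha : f (a 1) = f' (a 1)) (hx : f (xa 0) = f' (xa 0)) : f = f' := by
  have hai : ∀ i : ZMod (2 * n), f (a i) = f' (a i) := by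
    intro i
    rcases Nat.eq_zero_or_pos n with hn | hn
    · subst hn
      -- `ZMod 0 = ℤ`
      have h0 : ∀ j : ℕ, f (a (j : ZMod (2 * 0))) = f' (a (j : ZMod (2 * 0))) := by
        intro j
        rw [← a_one_pow, map_pow, map_pow, ha]
      have hneg : ∀ j : ℕ, f (a (-(j : ZMod (2 * 0)))) = f' (a (-(j : ZMod (2 * 0)))) := by
        intro j
        have e1 : (a (-(j : ZMod (2 * 0))) : QuaternionGroup 0) = (a (j : ZMod (2 * 0)))⁻¹ := by
          rw [eq_inv_iff_mul_eq_one, a_mul_a, neg_add_cancel, a_zero]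
        rw [e1]
        have hu : IsUnit (f (a (j : ZMod (2 * 0)))) := (Group.isUnit _).map f
        have h3 : f (a (j : ZMod (2 * 0)))⁻¹ * f (a (j : ZMod (2 * 0))) = 1 := by
          rw [← map_mul, inv_mul_cancel, map_one]
        have h4 : f' (a (j : ZMod (2 * 0)))⁻¹ * f (a (j : ZMod (2 * 0))) = 1 := by
          rw [h0 j, ← map_mul, inv_mul_cancel, map_one]
        exact hu.mul_left_injective (h3.trans h4.symm)
      obtain ⟨j, hj | hj⟩ := Int.eq_nat_or_neg (show ℤ from i)
      · have : i = ((j : ℕ) : ZMod (2 * 0)) := by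
          show (i : ℤ) = _
          rw [hj]; rfl
        rw [this]; exact h0 j
      · have : i = -((j : ℕ) : ZMod (2 * 0)) := by
          show (i : ℤ) = _
          rw [hj]; rfl
        rw [this]; exact hneg j
    · haveI : NeZero (2 * n) := ⟨by omega⟩
      rw [← ZMod.natCast_zmod_val i, ← a_one_pow, map_pow, map_pow, ha]
  ext w
  rcases w with i | i
  · exact hai i
  · have : (xa i : QuaternionGroup n) = xa 0 * a i := by rw [xa_mul_a, zero_add]
    rw [this, map_mul, map_mul, hx, hai]


theorem a_pow' {n : ℕ} (i : ZMod (2 * n)) (k : ℕ) :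
    (a i : QuaternionGroup n) ^ k = a ((k : ZMod (2 * n)) * i) := by
  induction k with
  | zero => rw [pow_zero, Nat.cast_zero, zero_mul, a_zero]
  | succ k ih =>
    rw [pow_succ, ih, a_mul_a]
    congr 1
    push_cast
    ring

theorem mulAut_quat_odd {m : ℕ} (hm : 2 ≤ m) (α : MulAut (QuaternionGroup (2 ^ m))) {r : ℕ}
    (hr : Odd r) (hα : α ^ r = 1) : α = 1 := by
  haveI : NeZero (2 ^ m) := ⟨pow_ne_zero _ (by norm_num)⟩
  haveI : NeZero (2 * 2 ^ m) := ⟨by positivity⟩
  have h8 : 8 ≤ 2 * 2 ^ m := by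
    have : 2 ^ 2 ≤ 2 ^ m := Nat.pow_le_pow_right (by norm_num) hm
    omega
  have hcop : Nat.Coprime r (2 * 2 ^ m) := by
    rw [← pow_succ']
    exact Nat.Coprime.pow_right _ (Nat.coprime_two_right.2 hr)
  -- `α (a 1) = a i`
  obtain ⟨i, hi⟩ : ∃ i, α (a 1) = a i := by
    rcases hw : α (a 1) with i | i
    · exact ⟨i, rfl⟩
    · exfalso
      have h1 : orderOf (α (a 1)) = 2 * 2 ^ m := by
        rw [MulEquiv.orderOf_eq, orderOf_a_one]
      rw [hw, orderOf_xa] at h1
      omega
  have haj : ∀ j : ZMod (2 * 2 ^ m), α (a j) = a (i * j) := by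
    intro j
    have h1 : α (a ((j.val : ℕ) : ZMod (2 * 2 ^ m))) =
        a (((j.val : ℕ) : ZMod (2 * 2 ^ m)) * i) := by
      rw [← a_one_pow, map_pow, hi, a_pow']
    rw [ZMod.natCast_zmod_val] at h1
    rw [h1, mul_comm]
  have hpow : ∀ k : ℕ, (α ^ k) (a 1) = a (i ^ k) := by
    intro k
    induction k with
    | zero => simp
    | succ k ih =>
      rw [pow_succ', MulAut.mul_apply, ih, haj, pow_succ']
  have hir : i ^ r = 1 := by
    have := hpow r
    rw [hα, MulAut.one_apply] at this
    exact (a.inj this).symm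
  have hi1 : i = 1 := by
    have hr0 : r ≠ 0 := by
      rintro rfl
      simp at hr
    have hunit : IsUnit i := IsUnit.of_pow_eq_one hir hr0
    obtain ⟨u, rfl⟩ := hunit
    have h1 : u ^ r = 1 := by
      apply Units.ext
      rw [Units.val_pow_eq_pow_val, hir, Units.val_one]
    have h2 : u ^ Nat.totient (2 * 2 ^ m) = 1 := ZMod.pow_totient u
    have h3 : Nat.totient (2 * 2 ^ m) = 2 ^ m := by
      rw [← pow_succ', Nat.totient_prime_pow Nat.prime_two (Nat.succ_pos m)]
      simp
    rw [h3] at h2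
    have h4 := pow_gcd_eq_one.2 ⟨h1, h2⟩
    have h5 : Nat.gcd r (2 ^ m) = 1 := by
      rw [← Nat.coprime_iff_gcd_eq_one]
      exact Nat.Coprime.pow_right _ (Nat.coprime_two_right.2 hr)
    rw [h5, pow_one] at h4
    rw [h4, Units.val_one]
  have haj' : ∀ j : ZMod (2 * 2 ^ m), α (a j) = a j := by
    intro j; rw [haj, hi1, one_mul]
  obtain ⟨j, hj⟩ : ∃ j, α (xa 0) = xa j := by
    rcases hw : α (xa 0) with j | j
    · exfalso
      rw [← haj' j] at hw
      have := α.injective hw
      exact absurd this (by simp)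
    · exact ⟨j, rfl⟩
  have hpowx : ∀ k : ℕ, (α ^ k) (xa 0) = xa ((k : ZMod (2 * 2 ^ m)) * j) := by
    intro k
    induction k with
    | zero => rw [pow_zero, MulAut.one_apply, Nat.cast_zero, zero_mul]
    | succ k ih =>
      rw [pow_succ', MulAut.mul_apply, ih]
      have : (xa ((k : ZMod (2 * 2 ^ m)) * j) : QuaternionGroup (2 ^ m)) =
          xa 0 * a ((k : ZMod (2 * 2 ^ m)) * j) := by
        rw [xa_mul_a, zero_add]
      rw [this, map_mul, hj, haj', xa_mul_a]
      congr 1
      push_cast
      ring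
  have hj0 : j = 0 := by
    have := hpowx r
    rw [hα, MulAut.one_apply] at this
    have h1 : (r : ZMod (2 * 2 ^ m)) * j = 0 := (xa.inj this).symm
    have hu : IsUnit (r : ZMod (2 * 2 ^ m)) := (ZMod.isUnit_iff_coprime r (2 * 2 ^ m)).2 hcop
    exact (hu.mul_right_eq_zero).1 h1
  have h1 : α.toMonoidHom = MonoidHom.id _ := by
    apply quat_hom_ext
    · exact haj' 1
    · show α (xa 0) = xa 0
      rw [hj, hj0]
  ext w
  exact DFunLike.congr_fun h1 w

/-- the unique involution of a generalized quaternion group -/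
theorem sq_eq_one_iff {n : ℕ} [NeZero n] (w : QuaternionGroup n) :
    w ^ 2 = 1 ↔ w = 1 ∨ w = a n := by
  haveI : NeZero (2 * n) := ⟨by have := NeZero.ne n; omega⟩
  rcases w with i | i
  · rw [a_pow', one_def]
    constructor
    · intro h
      have h1 : ((2 : ℕ) : ZMod (2 * n)) * i = 0 := a.inj h
      have h2 : ((2 * i.val : ℕ) : ZMod (2 * n)) = 0 := by
        push_cast
        rw [ZMod.natCast_zmod_val]
        exact_mod_cast h1
      rw [ZMod.natCast_eq_zero_iff] at h2
      have h3 : n ∣ i.val := Nat.dvd_of_mul_dvd_mul_left (by norm_num : 0 < 2) h2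
      have hlt : i.val < 2 * n := ZMod.val_lt i
      obtain ⟨c, hc⟩ := h3
      have hn : 0 < n := Nat.pos_of_ne_zero (NeZero.ne n)
      have hc2 : c < 2 := by
        by_contra hcon
        push Not at hcon
        have : 2 * n ≤ n * c := by nlinarith
        omega
      interval_cases c
      · left
        have : i = 0 := by
          rw [← ZMod.natCast_zmod_val i, hc]; simp
        rw [this]
      · right
        have : i = (n : ZMod (2 * n)) := by
          rw [← ZMod.natCast_zmod_val i, hc]; simp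
        rw [this]
    · rintro (h | h)
      · have h1 := a.inj h
        rw [h1, mul_zero]
      · have h1 := a.inj h
        rw [h1]
        congr 1
        have : ((2 : ℕ) : ZMod (2 * n)) * (n : ZMod (2 * n)) = ((2 * n : ℕ) : ZMod (2 * n)) := by
          push_cast; ring
        rw [this, ZMod.natCast_self]
  · constructor
    · intro h
      exfalso
      have h1 := orderOf_xa (n := n) i
      have h2 : orderOf (xa i : QuaternionGroup n) ∣ 2 := orderOf_dvd_of_pow_eq_one h
      rw [h1] at h2
      norm_num at h2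
    · rintro (h | h)
      · rw [one_def] at h; cases h
      · cases h

end Cfsg.Agent.Lead.QuatAut
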