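import Mathlib
import Cfsg.Prelude.Def_LocalEven
import Cfsg.Agent.Helper2.QuatIso
import Cfsg.Agent.Lead.InvolvesLemmas
import Cfsg.Agent.Lead.QuatAut

set_option autoImplicit false

/-!
Recognition of `SL(2,3)` as a section: a quaternion group of order `8` normalized by an element
permuting `x → y → xy` yields a section isomorphic to `SL(2,3)`.
-/

namespace Cfsg.Agent.Lead.SL23Recog

open Cfsg Cfsg.Agent.Helper2.QuatIso Cfsg.Agent.Helper2.QD QuaternionGroup

abbrev X23 := Matrix.SpecialLinearGroup (Fin 2) (ZMod 3)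

def I₀ : X23 := ⟨!![0, 2; 1, 0], by decide⟩
def J₀ : X23 := ⟨!![1, 1; 1, 2], by decide⟩
def u₀ : X23 := ⟨!![1, 1; 0, 1], by decide⟩

theorem I₀_pow_four : I₀ ^ 4 = 1 := by decide
theorem I₀_sq_ne : I₀ ^ 2 ≠ 1 := by decide
theorem J₀_sq : J₀ * J₀ = I₀ ^ 2 := by decide
theorem J₀_rel : J₀ * I₀ * J₀⁻¹ = I₀⁻¹ := by decide
theorem J₀_not_comm : J₀ * I₀ ≠ I₀ * J₀ := by decide
theorem u₀_I₀ : u₀ * I₀ * u₀⁻¹ = J₀ := by decide
theorem u₀_J₀ : u₀ * J₀ * u₀⁻¹ = I₀ * J₀ := by decide
theorem u₀_cube : u₀ ^ 3 = 1 := by decide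
theorem u₀_ne_one : u₀ ≠ 1 := by decide

theorem orderOf_I₀ : orderOf I₀ = 2 * 2 := by
  have h1 : orderOf I₀ ∣ 4 := orderOf_dvd_of_pow_eq_one I₀_pow_four
  have h2 : ¬ orderOf I₀ ∣ 2 := fun h => I₀_sq_ne (orderOf_dvd_iff_pow_eq_one.1 h)
  have h3 : orderOf I₀ ≤ 4 := Nat.le_of_dvd (by norm_num) h1
  interval_cases h : orderOf I₀ <;> simp_all

theorem orderOf_u₀ : orderOf u₀ = 3 := by
  haveI : Fact (Nat.Prime 3) := ⟨Nat.prime_three⟩
  exact orderOf_eq_prime u₀_cube u₀_ne_one

theorem J₀_not_mem : J₀ ∉ Subgroup.zpowers I₀ := by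
  intro h
  obtain ⟨k, hk⟩ := Subgroup.mem_zpowers_iff.1 h
  apply J₀_not_comm
  rw [← hk]
  exact ((Commute.refl I₀).zpow_left k).eq

/-- the embedding of `Q₈` into `SL(2,3)` -/
noncomputable def qSL : QuaternionGroup 2 →* X23 :=
  quatHom I₀ J₀ 2 orderOf_I₀ (by rw [J₀_sq]) J₀_rel

theorem qSL_injective : Function.Injective qSL := quatHom_injective I₀ J₀ 2 orderOf_I₀ _ _ J₀_not_mem

theorem qSL_a_one : qSL (a 1) = I₀ := by
  show X I₀ (2 * 2) 1 = I₀
  exact X_one I₀ (2 * 2) orderOf_I₀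

theorem qSL_xa_zero : qSL (xa 0) = J₀ := by
  show J₀ * X I₀ (2 * 2) 0 = J₀
  rw [X_zero I₀ (2 * 2) orderOf_I₀, mul_one]


section Recog

variable {G : Type*} [Group G]

/-- the recognition theorem -/
theorem involves_of_quaternion (Q : Subgroup G) (hQcard : Nat.card Q = 8) (x y : G) (hxQ : x ∈ Q)
    (hyQ : y ∈ Q) (hx : orderOf x = 2 * 2) (hy : y * y = x ^ 2) (hrel : y * x * y⁻¹ = x⁻¹)
    (hyx : y ∉ Subgroup.zpowers x) (g : G) (hgN : g ∈ Subgroup.normalizer (Q : Set G))
    (hgx : g * x * g⁻¹ = y) (hgy : g * y * g⁻¹ = x * y) (hQg : Q ⊓ Subgroup.zpowers g = ⊥)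
    (hgfin : orderOf g ≠ 0) :
    Cfsg.Involves X23 G := by
  haveI : Finite Q := Nat.finite_of_card_ne_zero (by rw [hQcard]; norm_num)
  -- the isomorphism `Q₈ ≃ Q`
  obtain ⟨εG, hεG⟩ : ∃ εG : QuaternionGroup 2 →* G, εG = quatHom x y 2 hx hy hrel := ⟨_, rfl⟩
  have hεinj : Function.Injective εG := by
    rw [hεG]; exact quatHom_injective x y 2 hx hy hrel hyx
  have hεa : εG (a 1) = x := by
    rw [hεG]
    show X x (2 * 2) 1 = x
    exact X_one x (2 * 2) hx
  have hεxa : εG (xa 0) = y := by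
    rw [hεG]
    show y * X x (2 * 2) 0 = y
    rw [X_zero x (2 * 2) hx, mul_one]
  have hεQ : ∀ w, εG w ∈ Q := by
    intro w
    rcases w with i | i
    · rw [hεG]
      show X x (2 * 2) i ∈ Q
      exact Q.pow_mem hxQ _
    · rw [hεG]
      show y * X x (2 * 2) i ∈ Q
      exact Q.mul_mem hyQ (Q.pow_mem hxQ _)
  obtain ⟨ε, hε⟩ : ∃ ε : QuaternionGroup 2 →* ↥Q, ∀ w, ((ε w : ↥Q) : G) = εG w :=
    ⟨εG.codRestrict Q hεQ, fun w => rfl⟩
  have hεinj' : Function.Injective ε := by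
    intro w w' h
    apply hεinj
    rw [← hε, ← hε, h]
  have hεbij : Function.Bijective ε := by
    rw [Nat.bijective_iff_injective_and_card]
    refine ⟨hεinj', ?_⟩
    rw [hQcard, Nat.card_eq_fintype_card, QuaternionGroup.card]
  obtain ⟨εQ, hεQ'⟩ : ∃ εQ : QuaternionGroup 2 ≃* ↥Q, ∀ w, εQ w = ε w :=
    ⟨MulEquiv.ofBijective ε hεbij, fun w => rfl⟩
  obtain ⟨fn, hfn⟩ : ∃ fn : ↥Q →* X23, fn = qSL.comp εQ.symm.toMonoidHom := ⟨_, rfl⟩
  have hfninj : Function.Injective fn := by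
    rw [hfn]
    exact qSL_injective.comp εQ.symm.injective
  have hle : Subgroup.zpowers g ≤ Subgroup.normalizer (Q : Set G) := by
    rw [Subgroup.zpowers_le]; exact hgN
  -- `3 ∣ orderOf g`
  have hconj_pow : ∀ (n : ℕ) (q : G), g ^ n * q * (g ^ n)⁻¹ = (MulAut.conj g ^ n) q := by
    intro n q
    rw [← map_pow, MulAut.conj_apply]
  have hc1 : MulAut.conj g x = y := by rw [MulAut.conj_apply]; exact hgx
  have hc2 : MulAut.conj g y = x * y := by rw [MulAut.conj_apply]; exact hgy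
  have hc3 : MulAut.conj g (x * y) = x := by
    rw [map_mul, hc1, hc2]
    have h1 : y * x = x⁻¹ * y := by
      have : y * x = y * x * y⁻¹ * y := by group
      rw [this, hrel]
    have h2 : x⁻¹ * (y * y) = x := by
      rw [hy, pow_two]; group
    calc y * (x * y) = (y * x) * y := by group
      _ = x⁻¹ * y * y := by rw [h1]
      _ = x⁻¹ * (y * y) := by group
      _ = x := h2
  have hxy_ne : y ≠ x := by
    intro h
    apply hyx
    rw [h]; exact Subgroup.mem_zpowers x
  have hx1 : x ≠ 1 := by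
    intro h
    rw [h, orderOf_one] at hx
    norm_num at hx
  have hxxy_ne : x * y ≠ x := by
    intro h
    have : y = 1 := by
      have := mul_left_cancel (h.trans (mul_one x).symm)
      exact this
    apply hyx
    rw [this]; exact Subgroup.one_mem _
  have h3dvd : 3 ∣ orderOf g := by
    have hcube : ∀ k : ℕ, (MulAut.conj g ^ (3 * k)) x = x := by
      intro k
      induction k with
      | zero => simp
      | succ k ih =>
        rw [mul_add, mul_one, pow_add, MulAut.mul_apply]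
        have : (MulAut.conj g ^ 3) x = x := by
          rw [pow_succ, pow_two, MulAut.mul_apply, MulAut.mul_apply, hc1, hc2, hc3]
        rw [this, ih]
    have hn : (MulAut.conj g ^ orderOf g) x = x := by
      rw [← map_pow, pow_orderOf_eq_one, map_one, MulAut.one_apply]
    have hdm := Nat.div_add_mod (orderOf g) 3
    rw [← hdm, pow_add, MulAut.mul_apply] at hn
    have hlt : orderOf g % 3 < 3 := Nat.mod_lt _ (by norm_num)
    rw [Nat.dvd_iff_mod_eq_zero]
    interval_cases hm : orderOf g % 3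
    · rfl
    · exfalso
      rw [pow_one, hc1] at hn
      have h1 := hcube (orderOf g / 3)
      -- `conj^(3k) y = x`, apply inverse
      have h2 : (MulAut.conj g ^ (3 * (orderOf g / 3))) y = (MulAut.conj g ^ (3 * (orderOf g / 3))) x := by
        rw [hn, h1]
      exact hxy_ne ((MulAut.conj g ^ (3 * (orderOf g / 3))).injective h2)
    · exfalso
      rw [pow_two, MulAut.mul_apply, hc1, hc2] at hn
      have h1 := hcube (orderOf g / 3)
      have h2 : (MulAut.conj g ^ (3 * (orderOf g / 3))) (x * y) =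
          (MulAut.conj g ^ (3 * (orderOf g / 3))) x := by
        rw [hn, h1]
      exact hxxy_ne ((MulAut.conj g ^ (3 * (orderOf g / 3))).injective h2)
  -- the map on `⟨g⟩`
  obtain ⟨γ, hγ⟩ : ∃ γ : ↥(Subgroup.zpowers g), (γ : G) = g := ⟨⟨g, Subgroup.mem_zpowers g⟩, rfl⟩
  have hγgen : ∀ c : ↥(Subgroup.zpowers g), c ∈ Subgroup.zpowers γ := by
    intro c
    obtain ⟨k, hk⟩ := Subgroup.mem_zpowers_iff.1 c.2
    rw [Subgroup.mem_zpowers_iff]
    refine ⟨k, ?_⟩
    apply Subtype.ext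
    rw [Subgroup.coe_zpow, hγ, hk]
  have hγord : orderOf γ = orderOf g := by
    have h1 := Subgroup.orderOf_coe γ
    rw [hγ] at h1
    exact h1.symm
  obtain ⟨fg, hfg⟩ : ∃ fg : ↥(Subgroup.zpowers g) →* X23, fg γ = u₀ :=
    ⟨monoidHomOfForallMemZpowers hγgen (by rw [orderOf_u₀, hγord]; exact h3dvd),
      monoidHomOfForallMemZpowers_apply_gen hγgen _⟩
  obtain ⟨φ, hφ⟩ : ∃ φ : ↥(Subgroup.zpowers g) →* MulAut ↥Q,
      φ = (Q.normalizerMonoidHom).comp (Subgroup.inclusion hle) := ⟨_, rfl⟩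
  have hφapp : ∀ (c : ↥(Subgroup.zpowers g)) (q : ↥Q), ((φ c q : ↥Q) : G) = c * q * (c : G)⁻¹ := by
    intro c q
    rw [hφ]; rfl
  -- compatibility on the generator
  have hcompγ : ∀ q : ↥Q, fn (φ γ q) = fg γ * fn q * (fg γ)⁻¹ := by
    have h1 : (fn.comp (φ γ).toMonoidHom).comp εQ.toMonoidHom =
        ((MulAut.conj (fg γ)).toMonoidHom.comp fn).comp εQ.toMonoidHom := by
      apply Cfsg.Agent.Lead.QuatAut.quat_hom_ext
      · show fn (φ γ (εQ (a 1))) = MulAut.conj (fg γ) (fn (εQ (a 1)))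
        have e1 : φ γ (εQ (a 1)) = εQ (xa 0) := by
          apply Subtype.ext
          rw [hφapp, hεQ', hε, hεa, hεQ', hε, hεxa, hγ, hgx]
        rw [e1, hfn]
        show qSL (εQ.symm (εQ (xa 0))) = MulAut.conj (fg γ) (qSL (εQ.symm (εQ (a 1))))
        rw [εQ.symm_apply_apply, εQ.symm_apply_apply, qSL_xa_zero, qSL_a_one, hfg,
          MulAut.conj_apply, u₀_I₀]
      · show fn (φ γ (εQ (xa 0))) = MulAut.conj (fg γ) (fn (εQ (xa 0)))
        have e1 : φ γ (εQ (xa 0)) = εQ (a 1 * xa 0) := by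
          apply Subtype.ext
          rw [hφapp, hεQ', hε, hεxa, hεQ', hε, map_mul, hεa, hεxa, hγ, hgy]
        rw [e1, hfn]
        show qSL (εQ.symm (εQ (a 1 * xa 0))) = MulAut.conj (fg γ) (qSL (εQ.symm (εQ (xa 0))))
        rw [εQ.symm_apply_apply, εQ.symm_apply_apply, map_mul, qSL_xa_zero, qSL_a_one, hfg,
          MulAut.conj_apply, u₀_J₀]
    intro q
    have h2 := DFunLike.congr_fun h1 (εQ.symm q)
    simp only [MonoidHom.comp_apply, MulEquiv.coe_toMonoidHom, MulEquiv.apply_symm_apply,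
      MulAut.conj_apply] at h2
    exact h2
  have hcomp : ∀ c : ↥(Subgroup.zpowers g),
      fn.comp (φ c).toMonoidHom = (MulAut.conj (fg c)).toMonoidHom.comp fn := by
    intro c
    obtain ⟨k, rfl⟩ := Subgroup.mem_zpowers_iff.1 (hγgen c)
    have hcompk : ∀ k : ℤ, ∀ q : ↥Q, fn (φ (γ ^ k) q) = fg (γ ^ k) * fn q * (fg (γ ^ k))⁻¹ := by
      intro k
      induction k using Int.induction_on with
      | zero =>
        intro q
        simp
      | succ k ih =>
        intro q
        rw [zpow_add_one, map_mul, map_mul, MulAut.mul_apply, ih, hcompγ]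
        group
      | pred k ih =>
        intro q
        rw [zpow_sub_one, map_mul, map_mul, MulAut.mul_apply, ih]
        have h1 := hcompγ (φ γ⁻¹ q)
        have h2 : φ γ (φ γ⁻¹ q) = q := by
          rw [← MulAut.mul_apply, ← map_mul, mul_inv_cancel, map_one, MulAut.one_apply]
        rw [h2] at h1
        rw [map_inv fg γ]
        have h3 : fn (φ γ⁻¹ q) = (fg γ)⁻¹ * fn q * fg γ := by
          rw [h1]; group
        rw [h3]
        group
    apply MonoidHom.ext
    intro q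
    exact hcompk k q
  -- the two maps
  obtain ⟨Ψ, hΨ⟩ : ∃ Ψ : ↥Q ⋊[φ] ↥(Subgroup.zpowers g) →* X23,
      Ψ = SemidirectProduct.lift fn fg hcomp := ⟨_, rfl⟩
  have hΨsurj : Function.Surjective Ψ := by
    rw [← MonoidHom.range_eq_top, ← Subgroup.card_eq_iff_eq_top]
    have h8 : 8 ∣ Nat.card Ψ.range := by
      have h1 : fn.range ≤ Ψ.range := by
        rintro _ ⟨q, rfl⟩
        exact ⟨SemidirectProduct.inl q, by rw [hΨ, SemidirectProduct.lift_inl]⟩
      have h2 : Nat.card fn.range = 8 := by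
        rw [← hQcard]
        exact (Nat.card_congr (MonoidHom.ofInjective hfninj).toEquiv).symm
      rw [← h2]
      exact Subgroup.card_dvd_of_le h1
    have h3 : 3 ∣ Nat.card Ψ.range := by
      have h1 : u₀ ∈ Ψ.range := ⟨SemidirectProduct.inr γ, by rw [hΨ, SemidirectProduct.lift_inr, hfg]⟩
      have h2 : orderOf (⟨u₀, h1⟩ : Ψ.range) = 3 :=
        (Subgroup.orderOf_coe (⟨u₀, h1⟩ : Ψ.range)).symm.trans orderOf_u₀
      have h4 := orderOf_dvd_natCard (⟨u₀, h1⟩ : Ψ.range)
      rwa [h2] at h4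
    have h24 : 24 ∣ Nat.card Ψ.range := by
      have : Nat.Coprime 8 3 := by norm_num
      exact this.mul_dvd_of_dvd_of_dvd h8 h3
    have hX : Nat.card X23 = 24 := by
      rw [Nat.card_eq_fintype_card]; decide
    rw [hX]
    have hle24 : Nat.card Ψ.range ≤ 24 := by
      rw [← hX]; exact Subgroup.card_le_card_group _
    have hpos : 0 < Nat.card Ψ.range := Nat.card_pos
    obtain ⟨c, hc⟩ := h24
    rcases c with _ | _ | c
    · omega
    · omega
    · omega
  have hiinj : Function.Injective (SemidirectProduct.monoidHomSubgroup hle) := by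
    rw [injective_iff_map_eq_one]
    intro s hs
    have h1 : ((s.left : ↥Q) : G) * ((s.right : ↥(Subgroup.zpowers g)) : G) = 1 := by
      have := hs
      simp only [SemidirectProduct.monoidHomSubgroup_apply] at this
      exact this
    have h2 : ((s.left : ↥Q) : G) ∈ Q ⊓ Subgroup.zpowers g := by
      refine ⟨s.left.2, ?_⟩
      have : ((s.left : ↥Q) : G) = ((s.right : ↥(Subgroup.zpowers g)) : G)⁻¹ :=
        eq_inv_of_mul_eq_one_left h1
      rw [this]
      exact Subgroup.inv_mem _ s.right.2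
    rw [hQg, Subgroup.mem_bot] at h2
    have h3 : ((s.right : ↥(Subgroup.zpowers g)) : G) = 1 := by
      rw [h2, one_mul] at h1; exact h1
    ext
    · simp only [SemidirectProduct.one_left]
      exact_mod_cast h2
    · simp only [SemidirectProduct.one_right]
      exact_mod_cast h3
  subst hφ
  exact Cfsg.Agent.Lead.involves_of_maps _ hiinj Ψ hΨsurj

end Recog

end Cfsg.Agent.Lead.SL23Recog
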