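import Mathlib

set_option autoImplicit false

/-!
An abstract lemma: a finite `2`-group with a unique involution and an automorphism of order three
whose fixed points are `{1, z}` and which centralizes every invariant abelian subgroup is a
quaternion group of order `8`, with explicit generators.
-/

namespace Cfsg.Agent.Lead.SL2P3

section abstract

variable {Γ : Type*} [Group Γ] [Finite Γ]

theorem quat_of_aut (hΓ : IsPGroup 2 Γ) (φ : MulAut Γ) (hφ3 : ∀ g, φ (φ (φ g)) = g)
    (hφ1 : ∃ g, φ g ≠ g) (z : Γ) (hz1 : z ≠ 1) (hz2 : z * z = 1)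
    (hinv : ∀ t : Γ, t * t = 1 → t = 1 ∨ t = z)
    (hfix : ∀ g, φ g = g → g = 1 ∨ g = z)
    (hK : ∀ g, Commute g (φ g) → φ g = g)
    (hA : ∃ A : Subgroup Γ, (∀ a ∈ A, ∀ b ∈ A, a * b = b * a) ∧ A.index ≤ 2) :
    Nat.card Γ = 8 ∧ ∃ x y : Γ, orderOf x = 2 * 2 ∧ y * y = x ^ 2 ∧ y * x * y⁻¹ = x⁻¹ ∧
      y ∉ Subgroup.zpowers x ∧ φ x = y ∧ φ y = x * y := by
  -- `z` is central
  have hzc : ∀ g : Γ, g * z = z * g := by
    intro g
    have h1 : (g * z * g⁻¹) * (g * z * g⁻¹) = 1 := by
      calc (g * z * g⁻¹) * (g * z * g⁻¹) = g * (z * z) * g⁻¹ := by group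
        _ = 1 := by rw [hz2]; group
    rcases hinv _ h1 with h | h
    · exfalso; apply hz1
      have : z = g⁻¹ * (g * z * g⁻¹) * g := by group
      rw [this, h]; group
    · calc g * z = (g * z * g⁻¹) * g := by group
        _ = z * g := by rw [h]
  have hB : ∀ B : Subgroup Γ, (∀ a ∈ B, ∀ b ∈ B, a * b = b * a) → (∀ b ∈ B, φ b ∈ B) →
      ∀ b ∈ B, b = 1 ∨ b = z := by
    intro B hBab hBinv b hb
    exact hfix b (hK b (hBab b hb _ (hBinv b hb)))
  have hnab : ¬ ∀ a b : Γ, a * b = b * a := by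
    intro hab
    obtain ⟨g, hg⟩ := hφ1
    exact hg (hK g (hab g (φ g)))
  have hcen : ∀ c : Γ, (∀ g, g * c = c * g) → c = 1 ∨ c = z := by
    intro c hc
    apply hB (Subgroup.center Γ) ?_ ?_ c (Subgroup.mem_center_iff.2 hc)
    · intro a ha b _; exact (Subgroup.mem_center_iff.1 ha b).symm
    · intro b hb
      rw [Subgroup.mem_center_iff] at hb ⊢
      intro g
      have h1 := hb (φ.symm g)
      have h2 := congrArg φ h1
      rw [map_mul, map_mul, MulEquiv.apply_symm_apply] at h2
      exact h2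
  have hcz : ∀ c : Γ, c = 1 ∨ c = z → ∀ g, g * c = c * g := by
    intro c hc g
    rcases hc with rfl | rfl
    · simp
    · exact hzc g
  obtain ⟨A, hAab, hAi⟩ := hA
  have hAi2 : A.index = 2 := by
    have h0 : A.index ≠ 0 := Subgroup.index_ne_zero_of_finite
    have h1 : A.index ≠ 1 := by
      intro h
      rw [Subgroup.index_eq_one] at h
      apply hnab
      intro a b
      exact hAab a (h ▸ Subgroup.mem_top a) b (h ▸ Subgroup.mem_top b)
    omega
  -- `A` is not invariant
  have hAninv : ¬ ∀ b ∈ A, φ b ∈ A := by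
    intro hle
    have hAz := hB A hAab hle
    apply hnab
    intro g h
    by_cases hg : g ∈ A
    · exact (hcz g (hAz g hg) h).symm
    by_cases hh : h ∈ A
    · exact hcz h (hAz h hh) g
    have h1 : g⁻¹ * h ∈ A := by
      rw [Subgroup.mul_mem_iff_of_index_two hAi2, inv_mem_iff]
      exact ⟨fun h' => absurd h' hg, fun h' => absurd h' hh⟩
    have h2 := hcz _ (hAz _ h1)
    have h3 : h = g * (g⁻¹ * h) := by group
    rw [h3]
    calc g * (g * (g⁻¹ * h)) = g * (g * (g⁻¹ * h)) := rfl
      _ = g * ((g⁻¹ * h) * g) := by rw [h2 g]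
      _ = g * (g⁻¹ * h) * g := by group
  push Not at hAninv
  obtain ⟨b₀, hb₀A, hb₀⟩ := hAninv
  obtain ⟨A', hA'⟩ : ∃ A' : Subgroup Γ, A' = A.map (φ : Γ →* Γ) := ⟨_, rfl⟩
  have hA'i2 : A'.index = 2 := by rw [hA', Subgroup.index_map_equiv, hAi2]
  have hD : ∀ r ∈ A ⊓ A', r = 1 ∨ r = z := by
    intro r hr
    apply hcen
    intro g
    obtain ⟨hrA, hrA'⟩ := hr
    rw [hA'] at hrA'
    obtain ⟨r₀, hr₀A, hr₀⟩ := hrA'
    have hr₀' : φ r₀ = r := hr₀
    by_cases hg : g ∈ A
    · exact hAab g hg r hrA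
    have h1 : (φ b₀)⁻¹ * g ∈ A := by
      rw [Subgroup.mul_mem_iff_of_index_two hAi2, inv_mem_iff]
      exact ⟨fun h' => absurd h' hb₀, fun h' => absurd h' hg⟩
    have h2 : (φ b₀) * r = r * (φ b₀) := by
      rw [← hr₀', ← map_mul, ← map_mul, hAab b₀ hb₀A r₀ hr₀A]
    have h3 : ((φ b₀)⁻¹ * g) * r = r * ((φ b₀)⁻¹ * g) := hAab _ h1 r hrA
    calc g * r = φ b₀ * (((φ b₀)⁻¹ * g) * r) := by group
      _ = φ b₀ * (r * ((φ b₀)⁻¹ * g)) := by rw [h3]
      _ = (φ b₀ * r) * ((φ b₀)⁻¹ * g) := by group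
      _ = (r * φ b₀) * ((φ b₀)⁻¹ * g) := by rw [h2]
      _ = r * g := by group
  -- squares
  have hsq : ∀ g : Γ, g ≠ 1 → g ≠ z → g * g = z := by
    intro g hg1 hgz
    have h1 : g ^ 2 ∈ A ⊓ A' :=
      ⟨Subgroup.sq_mem_of_index_two hAi2 g, Subgroup.sq_mem_of_index_two hA'i2 g⟩
    rw [pow_two] at h1
    rcases hD _ h1 with h | h
    · rcases hinv g h with h' | h'
      · exact absurd h' hg1
      · exact absurd h' hgz
    · exact h
  -- the order
  have hcard8 : Nat.card Γ = 8 := by
    have hDcard : Nat.card ↥(A ⊓ A') ≤ 2 := by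
      have h1 : ((A ⊓ A' : Subgroup Γ) : Set Γ) ⊆ {1, z} := by
        intro r hr
        rcases hD r hr with h | h
        · rw [h]; simp
        · rw [h]; simp
      have h2 := Set.ncard_le_ncard h1 (Set.toFinite _)
      rw [Set.ncard_pair hz1.symm] at h2
      rw [← Nat.card_coe_set_eq] at h2
      exact h2
    have hDidx : (A ⊓ A').index ≤ 4 := by
      have := Subgroup.index_inf_le (H := A) (K := A')
      rw [hAi2, hA'i2] at this
      exact this
    have hle8 : Nat.card Γ ≤ 8 := by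
      rw [← Subgroup.card_mul_index (A ⊓ A')]
      calc Nat.card ↥(A ⊓ A') * (A ⊓ A').index ≤ 2 * 4 := Nat.mul_le_mul hDcard hDidx
        _ = 8 := by norm_num
    obtain ⟨n, hn⟩ := IsPGroup.iff_card.1 hΓ
    have hn3 : n ≤ 3 := by
      by_contra hlt
      push Not at hlt
      have : 2 ^ 4 ≤ 2 ^ n := Nat.pow_le_pow_right (by norm_num) hlt
      omega
    interval_cases n
    · exfalso
      apply hnab
      rw [pow_zero] at hn
      haveI : Subsingleton Γ := (Nat.card_eq_one_iff_unique.1 hn).1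
      intro a b
      exact Subsingleton.elim _ _
    · exfalso
      apply hnab
      rw [pow_one] at hn
      haveI : Fact (Nat.Prime 2) := ⟨Nat.prime_two⟩
      haveI := isCyclic_of_prime_card hn
      intro a b
      exact (IsCyclic.commGroup (α := Γ)).mul_comm a b
    · exfalso
      apply hnab
      haveI : Fact (Nat.Prime 2) := ⟨Nat.prime_two⟩
      have := IsPGroup.isMulCommutative_of_card_eq_prime_sq hn
      intro a b
      exact this.is_comm.comm a b
    · rw [hn]; norm_num
  refine ⟨hcard8, ?_⟩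
  have hφz : φ z = z := by
    have h1 : φ z * φ z = 1 := by rw [← map_mul, hz2, map_one]
    rcases hinv _ h1 with h | h
    · exfalso; apply hz1
      exact (EmbeddingLike.map_eq_one_iff (f := φ)).1 h
    · exact h
  have hzinv : z⁻¹ = z := inv_eq_of_mul_eq_one_left hz2
  -- the key analysis of a moved element
  have key : ∀ x : Γ, φ x ≠ x → orderOf x = 2 * 2 ∧ φ x * φ x = x ^ 2 ∧
      φ x * x * (φ x)⁻¹ = x⁻¹ ∧ φ x ∉ Subgroup.zpowers x ∧
      (φ (φ x) = x * φ x ∨ φ (φ x) = φ x * x) := by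
    intro x hx
    obtain ⟨y, hy⟩ : ∃ y, y = φ x := ⟨_, rfl⟩
    obtain ⟨w, hw⟩ : ∃ w, w = φ y := ⟨_, rfl⟩
    rw [← hy, ← hw]
    rw [← hy] at hx
    have hφw : φ w = x := by rw [hw, hy]; exact hφ3 x
    have hx1 : x ≠ 1 := by
      intro h; apply hx; rw [hy, h, map_one]
    have hxz : x ≠ z := by
      intro h; apply hx; rw [hy, h, hφz]
    have hy1 : y ≠ 1 := by
      intro h; apply hx1
      rw [hy] at h
      exact (EmbeddingLike.map_eq_one_iff (f := φ)).1 h
    have hyz : y ≠ z := by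
      intro h; apply hxz
      rw [hy, ← hφz] at h
      exact φ.injective h
    have hxx : x * x = z := hsq x hx1 hxz
    have hyy : y * y = z := hsq y hy1 hyz
    have hncxy : ¬ Commute x y := by
      intro h
      rw [hy] at h
      exact hx (hy ▸ hK x h)
    have hwy : w ≠ y := by
      intro h
      have h1 : φ y = y := by rw [← hw, h]
      rcases hfix y h1 with h' | h'
      · exact hy1 h'
      · exact hyz h'
    have hncyw : ¬ Commute y w := by
      intro h
      rw [hw] at h
      exact hwy (hw ▸ hK y h)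
    have hncwx : ¬ Commute w x := by
      intro h
      apply hncxy
      have h1 : φ w * φ x = φ x * φ w := by rw [← map_mul, h.eq, map_mul]
      rw [hφw, ← hy] at h1
      exact h1
    have hord : orderOf x = 2 * 2 := by
      haveI : Fact (Nat.Prime 2) := ⟨Nat.prime_two⟩
      have h1 : ¬ x ^ 2 ^ 1 = 1 := by
        rw [pow_one, pow_two, hxx]; exact hz1
      have h2 : x ^ 2 ^ (1 + 1) = 1 := by
        have : x ^ 2 ^ (1 + 1) = (x * x) * (x * x) := by
          norm_num [pow_succ]
          group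
        rw [this, hxx, hz2]
      exact orderOf_eq_prime_pow h1 h2
    have hynot : y ∉ Subgroup.zpowers x := by
      intro h
      obtain ⟨k, hk⟩ := Subgroup.mem_zpowers_iff.1 h
      apply hncxy
      rw [← hk]
      exact (Commute.refl x).zpow_right k
    have hwnot : w ∉ Subgroup.zpowers x := by
      intro h
      obtain ⟨k, hk⟩ := Subgroup.mem_zpowers_iff.1 h
      apply hncwx
      rw [← hk]
      exact (Commute.refl x).zpow_left k
    have hxyc : ∀ c : Γ, (∀ g, g * c = c * g) → x * y ≠ c := by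
      intro c hc h
      apply hncxy
      have h1 : y = x⁻¹ * c := by rw [← h]; group
      show x * y = y * x
      rw [h1]
      calc x * (x⁻¹ * c) = c := by group
        _ = x⁻¹ * (x * c) := by group
        _ = x⁻¹ * (c * x) := by rw [hc x]
        _ = x⁻¹ * c * x := by group
    have hxy2 : x * y * (x * y) = z :=
      hsq _ (hxyc 1 (by intro g; simp)) (hxyc z hzc)
    have hyx2 : y * x * (y * x) = z := by
      calc y * x * (y * x) = x⁻¹ * (x * y * (x * y)) * x := by group
        _ = x⁻¹ * z * x := by rw [hxy2]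
        _ = z := by rw [mul_assoc, ← hzc x, ← mul_assoc, inv_mul_cancel, one_mul]
    have hyinv : y⁻¹ = z * y := by
      apply inv_eq_of_mul_eq_one_right
      rw [← mul_assoc, hzc y, mul_assoc, hyy, hz2]
    have hxinv : x⁻¹ = z * x := by
      apply inv_eq_of_mul_eq_one_right
      rw [← mul_assoc, hzc x, mul_assoc, hxx, hz2]
    have hrel : y * x * y⁻¹ = x⁻¹ := by
      rw [eq_inv_iff_mul_eq_one, hyinv]
      calc y * x * (z * y) * x = (y * x) * z * (y * x) := by group
        _ = z * (y * x) * (y * x) := by rw [hzc (y * x)]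
        _ = z * (y * x * (y * x)) := by group
        _ = 1 := by rw [hyx2, hz2]
    refine ⟨hord, ?_, hrel, hynot, ?_⟩
    · rw [hyy, pow_two, hxx]
    -- the position of `w`
    have hidx : (Subgroup.zpowers x).index = 2 := by
      have h1 := Subgroup.card_mul_index (Subgroup.zpowers x)
      rw [Nat.card_zpowers, hord, hcard8] at h1
      omega
    have hmem : y⁻¹ * w ∈ Subgroup.zpowers x := by
      rw [Subgroup.mul_mem_iff_of_index_two hidx, inv_mem_iff]
      exact ⟨fun h' => absurd h' hynot, fun h' => absurd h' hwnot⟩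
    classical
    rw [mem_zpowers_iff_mem_range_orderOf, Finset.mem_image] at hmem
    obtain ⟨n, hn, hxn⟩ := hmem
    rw [hord, Finset.mem_range] at hn
    have hxn' : x ^ n = y⁻¹ * w := hxn
    have hw' : w = y * x ^ n := by rw [hxn']; group
    interval_cases n
    · exfalso; apply hwy; rw [hw']; simp
    · right; rw [hw', pow_one]
    · exfalso
      apply hncyw
      rw [hw', pow_two, hxx]
      show y * (y * z) = y * z * y
      calc y * (y * z) = y * (z * y) := by rw [hzc y]
        _ = y * z * y := by group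
    · left
      rw [hw']
      have h3 : x ^ 3 = x⁻¹ := by
        rw [hxinv, pow_succ, pow_two, hxx]
      rw [h3]
      -- `y * x⁻¹ = x * y`
      have h4 : y * x = x⁻¹ * y := by
        calc y * x = (y * x * y⁻¹) * y := by group
          _ = x⁻¹ * y := by rw [hrel]
      calc y * x⁻¹ = x * (x⁻¹ * y) * x⁻¹ := by group
        _ = x * (y * x) * x⁻¹ := by rw [h4]
        _ = x * y := by group
  obtain ⟨x₀, hx₀⟩ := hφ1
  obtain ⟨h1, h2, h3, h4, h5⟩ := key x₀ hx₀
  rcases h5 with h5 | h5
  · exact ⟨x₀, φ x₀, h1, h2, h3, h4, rfl, h5⟩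
  · have hx₀' : φ x₀⁻¹ ≠ x₀⁻¹ := by
      intro h
      apply hx₀
      rw [map_inv, inv_inj] at h
      exact h
    obtain ⟨k1, k2, k3, k4, k5⟩ := key x₀⁻¹ hx₀'
    rcases k5 with k5 | k5
    · exact ⟨x₀⁻¹, φ x₀⁻¹, k1, k2, k3, k4, rfl, k5⟩
    · exfalso
      rw [map_inv, map_inv, ← mul_inv_rev, inv_inj] at k5
      apply hx₀
      apply hK
      show x₀ * φ x₀ = φ x₀ * x₀
      rw [← k5, h5]

end abstract

end Cfsg.Agent.Lead.SL2P3
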