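import Mathlib
import Cfsg.Agent.Lead.PSolvC
import Cfsg.Agent.Lead.SL2P3A
import Cfsg.Agent.Lead.SL23Recog2

set_option autoImplicit false

/-!
A `p`-element of `SL₂(F)` (odd characteristic `p`) acting non-trivially on a `p'`-subgroup `R`:
then `p = 3`, `R ≅ Q₈` and `R⟨a⟩ ≅ SL₂(3)`.
-/

namespace Cfsg.Agent.Lead.SL2P3

open Matrix
open Cfsg.Agent.Helper1 Cfsg.Agent.Helper1.OddGL2 Cfsg.Agent.Lead.PSolvGL2 Cfsg.Agent.Lead.Ab2GL2

section mat

variable {E : Type*} [Field E]

theorem sq_zero_of_nilpotent (N : Matrix (Fin 2) (Fin 2) E) (m : ℕ) (hN : N ^ m = 0) :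
    N * N = 0 := by
  have hnil : IsNilpotent N := ⟨m, hN⟩
  have htr : N.trace = 0 := (Matrix.isNilpotent_trace_of_isNilpotent hnil).eq_zero
  have hm0 : m ≠ 0 := by
    rintro rfl
    rw [pow_zero] at hN
    have := congrFun (congrFun hN 0) 0
    simp at this
  have hdet : N.det = 0 := by
    have h1 : N.det ^ m = 0 := by rw [← Matrix.det_pow, hN, Matrix.det_zero]
    exact (pow_eq_zero_iff hm0).1 h1
  rw [cayley_hamilton_two, htr, hdet, zero_smul, zero_smul, sub_zero]

theorem unipotent_sq_zero {p : ℕ} [hp : Fact p.Prime] [CharP E p] (A : Matrix (Fin 2) (Fin 2) E)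
    (k : ℕ) (hA : A ^ (p ^ k) = 1) : (A - 1) * (A - 1) = 0 := by
  apply sq_zero_of_nilpotent _ (p ^ k)
  rw [sub_pow_char_pow_of_commute (p := p) (h := Commute.one_right A), hA, one_pow, sub_self]

theorem not_scalar_of_sq_zero (N : Matrix (Fin 2) (Fin 2) E) (hN : N * N = 0) (hN0 : N ≠ 0) :
    ∀ c : E, N ≠ c • 1 := by
  intro c hc
  apply hN0
  have h1 : c * c = 0 := by
    rw [hc] at hN
    have := congrFun (congrFun hN 0) 0
    simpa using this
  have h2 : c = 0 := by
    rcases mul_eq_zero.1 h1 with h | h <;> exact h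
  rw [hc, h2, zero_smul]

theorem eq_one_or_neg_one_of_commute (N g : Matrix (Fin 2) (Fin 2) E) (hN : N * N = 0)
    (hN0 : N ≠ 0) (hg : (1 + N) * g = g * (1 + N)) (hdet : g.det = 1) (m : ℕ) (hm : (m : E) ≠ 0)
    (hgm : g ^ m = 1) : g = 1 ∨ g = (-1 : E) • 1 := by
  have hns := not_scalar_of_sq_zero N hN hN0
  have hg' : N * g = g * N := by
    rw [add_mul, mul_add, one_mul, mul_one] at hg
    exact add_left_cancel hg
  obtain ⟨x, y, hxy⟩ := commutant_two N g hns hg'
  obtain ⟨m', rfl⟩ : ∃ m', m = m' + 1 := by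
    refine Nat.exists_eq_succ_of_ne_zero ?_
    rintro rfl
    exact hm (by simp)
  have hyN : (y • N) * (y • N) = 0 := by
    rw [smul_mul_assoc, mul_smul_comm, hN, smul_zero, smul_zero]
  have h1 := pow_succ_smul_one_add_nilp x (y • N) hyN m'
  rw [← hxy, hgm] at h1
  have h2 : (x ^ (m' + 1) - 1) • (1 : Matrix (Fin 2) (Fin 2) E) +
      (((m' + 1 : ℕ) : E) * x ^ m' * y) • N = 0 := by
    rw [sub_smul, one_smul, ← smul_smul, sub_add_eq_add_sub, ← h1, sub_self]
  obtain ⟨h3, h4⟩ := lin_indep_one_two N hns _ _ h2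
  have hx1 : x ^ (m' + 1) = 1 := sub_eq_zero.1 h3
  have hx0 : x ≠ 0 := by
    intro h
    rw [h, zero_pow (Nat.succ_ne_zero m')] at hx1
    exact zero_ne_one hx1
  have hy0 : y = 0 := by
    rcases mul_eq_zero.1 h4 with h | h
    · rcases mul_eq_zero.1 h with h | h
      · exact absurd h hm
      · exact absurd h (pow_ne_zero _ hx0)
    · exact h
  rw [hy0, zero_smul, add_zero] at hxy
  have hx2 : x * x = 1 := by
    rw [hxy, Matrix.det_smul, Matrix.det_one, mul_one] at hdet
    simpa [pow_two] using hdet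
  rcases mul_self_eq_one_iff.1 hx2 with h | h
  · left; rw [hxy, h, one_smul]
  · right; rw [hxy, h]

end mat

section main

open scoped commutatorElement

theorem main_thm (F : Type) [Field F] [Fintype F] {p : ℕ} [hp : Fact p.Prime] [CharP F p]
    (hp2 : p ≠ 2)
    (a : Matrix.SpecialLinearGroup (Fin 2) F) (ha : IsPGroup p ↥(Subgroup.zpowers a))
    (R : Subgroup (Matrix.SpecialLinearGroup (Fin 2) F)) (hR : (Nat.card R).Coprime p)
    (haR : a ∈ Subgroup.normalizer (R : Set (Matrix.SpecialLinearGroup (Fin 2) F)))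
    (hnt : ⁅R, Subgroup.zpowers a⁆ ≠ ⊥) :
    p = 3 ∧ Nonempty (↥R ≃* QuaternionGroup 2) ∧
      Nonempty (↥(R ⊔ Subgroup.zpowers a) ≃* Matrix.SpecialLinearGroup (Fin 2) (ZMod 3)) := by
  classical
  obtain ⟨μ, hμ⟩ : ∃ μ : Matrix.SpecialLinearGroup (Fin 2) F →* Matrix (Fin 2) (Fin 2) F,
      ∀ g, μ g = (g : Matrix (Fin 2) (Fin 2) F) :=
    ⟨⟨⟨fun g => g.1, rfl⟩, fun _ _ => rfl⟩, fun _ => rfl⟩
  have hμinj : Function.Injective μ := by
    intro g h hgh
    apply Subtype.ext
    rw [hμ, hμ] at hgh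
    exact hgh
  have hμdet : ∀ g, (μ g).det = 1 := fun g => by rw [hμ]; exact g.2
  have HK : ∀ a g : Matrix.SpecialLinearGroup (Fin 2) F, (orderOf a).Coprime p →
      Odd (orderOf g) → Commute a (g * a * g⁻¹) → g * a * g⁻¹ = a :=
    fun a g h1 h2 h3 => hK_of_mat μ hp2 hμinj a g h1 h2 h3
  have H2 : ∀ Q : Subgroup (Matrix.SpecialLinearGroup (Fin 2) F), IsPGroup 2 Q →
      ∃ A : Subgroup Q, (∀ a ∈ A, ∀ b ∈ A, a * b = b * a) ∧ A.index ≤ 2 := by
    intro Q hQ
    exact exists_abelian_index_two (μ.comp Q.subtype) hp2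
      (hμinj.comp Q.subtype_injective) hQ
  -- the order of `a`
  obtain ⟨j, hj⟩ : ∃ j, orderOf a = p ^ j := by
    obtain ⟨k, hk⟩ := ha ⟨a, Subgroup.mem_zpowers a⟩
    have h1 : a ^ (p ^ k) = 1 := by
      have := congrArg Subtype.val hk
      simpa using this
    obtain ⟨j, -, hj⟩ := (Nat.dvd_prime_pow hp.out).1 (orderOf_dvd_of_pow_eq_one h1)
    exact ⟨j, hj⟩
  -- a moved element
  obtain ⟨r₀, hr₀R, hr₀⟩ : ∃ r ∈ R, a * r * a⁻¹ ≠ r := by
    by_contra hcon
    push Not at hcon
    apply hnt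
    rw [Subgroup.commutator_eq_bot_iff_le_centralizer]
    intro r hr
    rw [Subgroup.mem_centralizer_iff]
    intro h hh
    obtain ⟨k, rfl⟩ := Subgroup.mem_zpowers_iff.1 hh
    have h1 : Commute a r := by
      show a * r = r * a
      calc a * r = (a * r * a⁻¹) * a := by group
        _ = r * a := by rw [hcon r hr]
    exact (h1.zpow_left k).eq
  have hp5 : ¬ 5 ≤ p := by
    intro h5
    exact hr₀ (centralizes_pPrime h5 HK H2 R hR a haR j hj r₀ hr₀R)
  have hp3 : p = 3 := by
    have h1 : p < 5 := not_le.1 hp5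
    have h2 := hp.out.two_le
    have h4 : p ≠ 4 := by
      intro h
      have := hp.out
      rw [h] at this
      exact absurd this (by norm_num)
    omega
  subst hp3
  refine ⟨rfl, ?_⟩
  obtain ⟨A, hA⟩ : ∃ A, A = μ a := ⟨_, rfl⟩
  obtain ⟨N, hNdef⟩ : ∃ N, N = A - 1 := ⟨_, rfl⟩
  have hApow : A ^ (3 ^ j) = 1 := by rw [hA, ← map_pow, ← hj, pow_orderOf_eq_one, map_one]
  have hN : N * N = 0 := by rw [hNdef]; exact unipotent_sq_zero (p := 3) A j hApow
  have ha1 : a ≠ 1 := by
    rintro rfl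
    apply hr₀
    group
  have hN0 : N ≠ 0 := by
    intro h
    apply ha1
    apply hμinj
    rw [map_one, ← hA]
    rw [hNdef] at h
    exact sub_eq_zero.1 h
  have hA1N : A = 1 + N := by rw [hNdef]; abel
  have ha3 : a ^ 3 = 1 := by
    apply hμinj
    rw [map_pow, map_one, ← hA, hA1N]
    have h1 := pow_succ_smul_one_add_nilp (1 : F) N hN 2
    rw [one_smul] at h1
    rw [h1]
    have h3 : ((2 + 1 : ℕ) : F) = 0 := (CharP.cast_eq_zero_iff F 3 (2 + 1)).2 (dvd_refl 3)
    rw [h3]
    simp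
  haveI : Fact (Nat.Prime 3) := ⟨Nat.prime_three⟩
  have hord3 : orderOf a = 3 := orderOf_eq_prime ha3 ha1
  have hfixR : ∀ r ∈ R, a * r * a⁻¹ = r → μ r = 1 ∨ μ r = (-1 : F) • 1 := by
    intro r hr hc
    have hcomm : a * r = r * a := by
      calc a * r = (a * r * a⁻¹) * a := by group
        _ = r * a := by rw [hc]
    apply eq_one_or_neg_one_of_commute N (μ r) hN hN0 ?_ (hμdet r) (Nat.card R)
      (natCast_ne_zero_of_coprime (p := 3) hR) ?_
    · rw [← hA1N, hA, ← map_mul, ← map_mul, hcomm]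
    · rw [← map_pow]
      have : r ^ Nat.card R = 1 :=
        orderOf_dvd_iff_pow_eq_one.1 (Subgroup.orderOf_dvd_natCard R hr)
      rw [this, map_one]
  have hodd3 : Odd (orderOf a) := by rw [hord3]; decide
  -- `R` is a `2`-group
  have hR2 : IsPGroup 2 R := by
    have hcard : Nat.card R = 2 ^ (Nat.card R).primeFactorsList.length := by
      apply Nat.eq_prime_pow_of_unique_prime_dvd Nat.card_pos.ne'
      intro q hq hqd
      by_contra hq2
      haveI : Fact q.Prime := ⟨hq⟩
      have hAK : Subgroup.zpowers a ≤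
          Subgroup.normalizer (R : Set (Matrix.SpecialLinearGroup (Fin 2) F)) :=
        (Subgroup.zpowers_le).2 haR
      have hcop : (Nat.card (Subgroup.zpowers a)).Coprime (Nat.card R) := by
        rw [Nat.card_zpowers, hord3]; exact hR.symm
      obtain ⟨Q, hQ⟩ := Cfsg.Agent.Helper1.exists_invariant_sylow (p := q) (Subgroup.zpowers a) R
        hAK hcop (Or.inl inferInstance)
      have haQ := hQ (Subgroup.mem_zpowers a)
      have hQq : IsPGroup q ((Q : Subgroup R).map R.subtype) := Q.2.map _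
      have hQR : (Q : Subgroup R).map R.subtype ≤ R := Subgroup.map_subtype_le _
      have hcen := centralizes_odd_subgroup (p := 3) HK q hq2 _ hQq
        (fun b hb => hR.coprime_dvd_left (Subgroup.orderOf_dvd_natCard R (hQR hb))) a haQ hodd3
      have hne := Q.ne_bot_of_dvd_card hqd
      obtain ⟨g, hg1⟩ := (Subgroup.ne_bot_iff_exists_ne_one).1 hne
      have hgmem : ((g : R) : Matrix.SpecialLinearGroup (Fin 2) F) ∈
          (Q : Subgroup R).map R.subtype := ⟨(g : R), g.2, rfl⟩
      have hgc := hcen _ hgmem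
      have hsq : ((g : R) : Matrix.SpecialLinearGroup (Fin 2) F) ^ 2 = 1 := by
        apply hμinj
        rw [map_pow, map_one, pow_two]
        rcases hfixR _ (hQR hgmem) hgc with h | h
        · rw [h, one_mul]
        · rw [h]; simp
      obtain ⟨k, hk⟩ := hQq ⟨_, hgmem⟩
      have hk' : ((g : R) : Matrix.SpecialLinearGroup (Fin 2) F) ^ (q ^ k) = 1 := by
        have := congrArg Subtype.val hk
        simpa using this
      have hd1 := orderOf_dvd_of_pow_eq_one hsq
      have hd2 := orderOf_dvd_of_pow_eq_one hk'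
      have hcop2 : Nat.Coprime 2 (q ^ k) :=
        Nat.Coprime.pow_right k ((Nat.coprime_primes Nat.prime_two hq).2 (Ne.symm hq2))
      have h1 : orderOf ((g : R) : Matrix.SpecialLinearGroup (Fin 2) F) = 1 :=
        Nat.eq_one_of_dvd_coprimes hcop2 hd1 hd2
      rw [orderOf_eq_one_iff] at h1
      apply hg1
      apply Subtype.ext
      apply Subtype.ext
      exact h1
    exact IsPGroup.of_card hcard
  have h2dvd : 2 ∣ Nat.card R := by
    obtain ⟨n, hn⟩ := IsPGroup.iff_card.1 hR2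
    rcases n with _ | n
    · exfalso
      rw [pow_zero] at hn
      haveI : Subsingleton R := (Nat.card_eq_one_iff_unique.1 hn).1
      have h0 : (⟨r₀, hr₀R⟩ : R) = 1 := Subsingleton.elim _ _
      have h1 : r₀ = 1 := congrArg Subtype.val h0
      apply hr₀
      rw [h1]; group
    · rw [hn, pow_succ]; exact dvd_mul_left 2 _
  haveI : Fact (Nat.Prime 2) := ⟨Nat.prime_two⟩
  obtain ⟨z, hz⟩ := exists_prime_orderOf_dvd_card' (G := R) 2 h2dvd
  have hz1 : z ≠ 1 := by
    intro h
    rw [h, orderOf_one] at hz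
    norm_num at hz
  have hz2 : z * z = 1 := by
    have h := pow_orderOf_eq_one z
    rw [hz, pow_two] at h
    exact h
  have h2F : (2 : F) ≠ 0 := two_ne_zero_of_charP (p := 3) hp2
  have hinvol : ∀ t : R, t * t = 1 → t ≠ 1 →
      μ (t : Matrix.SpecialLinearGroup (Fin 2) F) = (-1 : F) • 1 := by
    intro t ht ht1
    apply involution_eq_neg_one h2F
    · rw [← map_mul]
      have : (t : Matrix.SpecialLinearGroup (Fin 2) F) * (t : Matrix.SpecialLinearGroup (Fin 2) F)
          = 1 := congrArg Subtype.val ht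
      rw [this, map_one]
    · intro h
      apply ht1
      apply Subtype.ext
      apply hμinj
      rw [h, Subgroup.coe_one, map_one]
    · exact hμdet _
  have hμz := hinvol z hz2 hz1
  have hφ3 : ∀ g : R, conjAut R a haR (conjAut R a haR (conjAut R a haR g)) = g := by
    intro g
    apply Subtype.ext
    rw [conjAut_apply, conjAut_apply, conjAut_apply]
    have h3' : a * a * a = 1 := by rw [← ha3, pow_succ, pow_two]
    calc a * (a * (a * (g : Matrix.SpecialLinearGroup (Fin 2) F) * a⁻¹) * a⁻¹) * a⁻¹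
        = (a * a * a) * g * (a * a * a)⁻¹ := by simp only [mul_assoc, _root_.mul_inv_rev]
      _ = g := by rw [h3']; simp
  have hφ1 : ∃ g : R, conjAut R a haR g ≠ g :=
    ⟨⟨r₀, hr₀R⟩, fun h => hr₀ (congrArg Subtype.val h)⟩
  have hinv : ∀ t : R, t * t = 1 → t = 1 ∨ t = z := by
    intro t ht
    by_cases ht1 : t = 1
    · exact Or.inl ht1
    · right
      apply Subtype.ext
      apply hμinj
      rw [hinvol t ht ht1, hμz]
  have hfix : ∀ g : R, conjAut R a haR g = g → g = 1 ∨ g = z := by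
    intro g hg
    have h1 : a * (g : Matrix.SpecialLinearGroup (Fin 2) F) * a⁻¹ = g := congrArg Subtype.val hg
    rcases hfixR _ g.2 h1 with h | h
    · left
      apply Subtype.ext
      apply hμinj
      rw [h, Subgroup.coe_one, map_one]
    · right
      apply Subtype.ext
      apply hμinj
      rw [h, hμz]
  have hKφ : ∀ g : R, Commute g (conjAut R a haR g) → conjAut R a haR g = g := by
    intro g hg
    apply Subtype.ext
    rw [conjAut_apply]
    apply HK (g : Matrix.SpecialLinearGroup (Fin 2) F) a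
      (hR.coprime_dvd_left (Subgroup.orderOf_dvd_natCard R g.2)) hodd3
    have := congrArg Subtype.val hg.eq
    exact this
  obtain ⟨hcard8, x, y, hx4, hyy, hrel, hynot, hφx, hφy⟩ :=
    quat_of_aut hR2 (conjAut R a haR) hφ3 hφ1 z hz1 hz2 hinv hfix hKφ (H2 R hR2)
  have hQa : R ⊓ Subgroup.zpowers a = ⊥ := by
    rw [← disjoint_iff]
    apply Subgroup.disjoint_of_coprime_natCard
    rw [Nat.card_zpowers, hord3]; exact hR
  have hx4' : orderOf (x : Matrix.SpecialLinearGroup (Fin 2) F) = 2 * 2 := by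
    rw [Subgroup.orderOf_coe]; exact hx4
  have hyy' : (y : Matrix.SpecialLinearGroup (Fin 2) F) * y =
      (x : Matrix.SpecialLinearGroup (Fin 2) F) ^ 2 := by
    have := congrArg Subtype.val hyy
    simpa using this
  have hrel' : (y : Matrix.SpecialLinearGroup (Fin 2) F) * x *
      (y : Matrix.SpecialLinearGroup (Fin 2) F)⁻¹ = (x : Matrix.SpecialLinearGroup (Fin 2) F)⁻¹ := by
    have := congrArg Subtype.val hrel
    simpa using this
  have hynot' : (y : Matrix.SpecialLinearGroup (Fin 2) F) ∉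
      Subgroup.zpowers (x : Matrix.SpecialLinearGroup (Fin 2) F) := by
    intro h
    obtain ⟨k, hk⟩ := Subgroup.mem_zpowers_iff.1 h
    apply hynot
    rw [Subgroup.mem_zpowers_iff]
    refine ⟨k, ?_⟩
    apply Subtype.ext
    rw [Subgroup.coe_zpow]
    exact hk
  have hφx' : a * (x : Matrix.SpecialLinearGroup (Fin 2) F) * a⁻¹ = y := congrArg Subtype.val hφx
  have hφy' : a * (y : Matrix.SpecialLinearGroup (Fin 2) F) * a⁻¹ = x * y :=
    congrArg Subtype.val hφy
  exact Cfsg.Agent.Lead.SL23Recog.equivs_of_quaternion R hcard8 x y x.2 y.2 hx4' hyy' hrel' hynot'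
    a haR hφx' hφy' hQa hord3

end main

end Cfsg.Agent.Lead.SL2P3
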