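import Mathlib
import Cfsg.Agent.Lead.SL2P3B

set_option autoImplicit false

/-!
General form of `SL2P3.main_thm`: a finite group of `2 × 2` matrices of determinant one.
-/

namespace Cfsg.Agent.Lead.SL2P3

open Matrix
open Cfsg.Agent.Helper1 Cfsg.Agent.Helper1.OddGL2 Cfsg.Agent.Lead.PSolvGL2 Cfsg.Agent.Lead.Ab2GL2

section gen

theorem main_gen {E : Type*} [Field E] {p : ℕ} [hp : Fact p.Prime] [CharP E p] (hp2 : p ≠ 2)
    {Γ : Type*} [Group Γ] [Finite Γ] (μ : Γ →* Matrix (Fin 2) (Fin 2) E)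
    (hμinj : Function.Injective μ) (hμdet : ∀ g, (μ g).det = 1)
    (a : Γ) (j : ℕ) (hj : orderOf a = p ^ j)
    (R : Subgroup Γ) (hR : (Nat.card R).Coprime p)
    (haR : a ∈ Subgroup.normalizer (R : Set Γ))
    (hr₀ : ∃ r ∈ R, a * r * a⁻¹ ≠ r) :
    p = 3 ∧ Nonempty (↥R ≃* QuaternionGroup 2) ∧
      Nonempty (↥(R ⊔ Subgroup.zpowers a) ≃* Matrix.SpecialLinearGroup (Fin 2) (ZMod 3)) := by
  classical
  have HK : ∀ a g : Γ, (orderOf a).Coprime p →
      Odd (orderOf g) → Commute a (g * a * g⁻¹) → g * a * g⁻¹ = a :=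
    fun a g h1 h2 h3 => hK_of_mat μ hp2 hμinj a g h1 h2 h3
  have H2 : ∀ Q : Subgroup (Γ), IsPGroup 2 Q →
      ∃ A : Subgroup Q, (∀ a ∈ A, ∀ b ∈ A, a * b = b * a) ∧ A.index ≤ 2 := by
    intro Q hQ
    exact exists_abelian_index_two (μ.comp Q.subtype) hp2
      (hμinj.comp Q.subtype_injective) hQ
  obtain ⟨r₀, hr₀R, hr₀⟩ := hr₀
  have hp5 : ¬ 5 ≤ p := by
    intro h5
    exact hr₀ (centralizes_pPrime h5 HK H2 R hR a haR j hj r₀ hr₀R)
  have hp3 : p = 3 := by
    have h1 : p < 5 := not_le.1 hp5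
    have h2 := hp.out.two_le
    have h4 : p ≠ 4 := by
      intro h
      have := hp.out
      rw [h] at this
      exact absurd this (by norm_num)
    omega
  subst hp3
  refine ⟨rfl, ?_⟩
  obtain ⟨A, hA⟩ : ∃ A, A = μ a := ⟨_, rfl⟩
  obtain ⟨N, hNdef⟩ : ∃ N, N = A - 1 := ⟨_, rfl⟩
  have hApow : A ^ (3 ^ j) = 1 := by rw [hA, ← map_pow, ← hj, pow_orderOf_eq_one, map_one]
  have hN : N * N = 0 := by rw [hNdef]; exact unipotent_sq_zero (p := 3) A j hApow
  have ha1 : a ≠ 1 := by
    rintro rfl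
    apply hr₀
    group
  have hN0 : N ≠ 0 := by
    intro h
    apply ha1
    apply hμinj
    rw [map_one, ← hA]
    rw [hNdef] at h
    exact sub_eq_zero.1 h
  have hA1N : A = 1 + N := by rw [hNdef]; abel
  have ha3 : a ^ 3 = 1 := by
    apply hμinj
    rw [map_pow, map_one, ← hA, hA1N]
    have h1 := pow_succ_smul_one_add_nilp (1 : E) N hN 2
    rw [one_smul] at h1
    rw [h1]
    have h3 : ((2 + 1 : ℕ) : E) = 0 := (CharP.cast_eq_zero_iff E 3 (2 + 1)).2 (dvd_refl 3)
    rw [h3]
    simp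
  haveI : Fact (Nat.Prime 3) := ⟨Nat.prime_three⟩
  have hord3 : orderOf a = 3 := orderOf_eq_prime ha3 ha1
  have hfixR : ∀ r ∈ R, a * r * a⁻¹ = r → μ r = 1 ∨ μ r = (-1 : E) • 1 := by
    intro r hr hc
    have hcomm : a * r = r * a := by
      calc a * r = (a * r * a⁻¹) * a := by group
        _ = r * a := by rw [hc]
    apply eq_one_or_neg_one_of_commute N (μ r) hN hN0 ?_ (hμdet r) (Nat.card R)
      (natCast_ne_zero_of_coprime (E := E) (p := 3) hR) ?_
    · rw [← hA1N, hA, ← map_mul, ← map_mul, hcomm]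
    · rw [← map_pow]
      have : r ^ Nat.card R = 1 :=
        orderOf_dvd_iff_pow_eq_one.1 (Subgroup.orderOf_dvd_natCard R hr)
      rw [this, map_one]
  have hodd3 : Odd (orderOf a) := by rw [hord3]; decide
  -- `R` is a `2`-group
  have hR2 : IsPGroup 2 R := by
    have hcard : Nat.card R = 2 ^ (Nat.card R).primeFactorsList.length := by
      apply Nat.eq_prime_pow_of_unique_prime_dvd Nat.card_pos.ne'
      intro q hq hqd
      by_contra hq2
      haveI : Fact q.Prime := ⟨hq⟩
      have hAK : Subgroup.zpowers a ≤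
          Subgroup.normalizer (R : Set (Γ)) :=
        (Subgroup.zpowers_le).2 haR
      have hcop : (Nat.card (Subgroup.zpowers a)).Coprime (Nat.card R) := by
        rw [Nat.card_zpowers, hord3]; exact hR.symm
      obtain ⟨Q, hQ⟩ := Cfsg.Agent.Helper1.exists_invariant_sylow (p := q) (Subgroup.zpowers a) R
        hAK hcop (Or.inl inferInstance)
      have haQ := hQ (Subgroup.mem_zpowers a)
      have hQq : IsPGroup q ((Q : Subgroup R).map R.subtype) := Q.2.map _
      have hQR : (Q : Subgroup R).map R.subtype ≤ R := Subgroup.map_subtype_le _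
      have hcen := centralizes_odd_subgroup (p := 3) HK q hq2 _ hQq
        (fun b hb => hR.coprime_dvd_left (Subgroup.orderOf_dvd_natCard R (hQR hb))) a haQ hodd3
      have hne := Q.ne_bot_of_dvd_card hqd
      obtain ⟨g, hg1⟩ := (Subgroup.ne_bot_iff_exists_ne_one).1 hne
      have hgmem : ((g : R) : Γ) ∈
          (Q : Subgroup R).map R.subtype := ⟨(g : R), g.2, rfl⟩
      have hgc := hcen _ hgmem
      have hsq : ((g : R) : Γ) ^ 2 = 1 := by
        apply hμinj
        rw [map_pow, map_one, pow_two]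
        rcases hfixR _ (hQR hgmem) hgc with h | h
        · rw [h, one_mul]
        · rw [h]; simp
      obtain ⟨k, hk⟩ := hQq ⟨_, hgmem⟩
      have hk' : ((g : R) : Γ) ^ (q ^ k) = 1 := by
        have := congrArg Subtype.val hk
        simpa using this
      have hd1 := orderOf_dvd_of_pow_eq_one hsq
      have hd2 := orderOf_dvd_of_pow_eq_one hk'
      have hcop2 : Nat.Coprime 2 (q ^ k) :=
        Nat.Coprime.pow_right k ((Nat.coprime_primes Nat.prime_two hq).2 (Ne.symm hq2))
      have h1 : orderOf ((g : R) : Γ) = 1 :=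
        Nat.eq_one_of_dvd_coprimes hcop2 hd1 hd2
      rw [orderOf_eq_one_iff] at h1
      apply hg1
      apply Subtype.ext
      apply Subtype.ext
      exact h1
    exact IsPGroup.of_card hcard
  have h2dvd : 2 ∣ Nat.card R := by
    obtain ⟨n, hn⟩ := IsPGroup.iff_card.1 hR2
    rcases n with _ | n
    · exfalso
      rw [pow_zero] at hn
      haveI : Subsingleton R := (Nat.card_eq_one_iff_unique.1 hn).1
      have h0 : (⟨r₀, hr₀R⟩ : R) = 1 := Subsingleton.elim _ _
      have h1 : r₀ = 1 := congrArg Subtype.val h0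
      apply hr₀
      rw [h1]; group
    · rw [hn, pow_succ]; exact dvd_mul_left 2 _
  haveI : Fact (Nat.Prime 2) := ⟨Nat.prime_two⟩
  obtain ⟨z, hz⟩ := exists_prime_orderOf_dvd_card' (G := R) 2 h2dvd
  have hz1 : z ≠ 1 := by
    intro h
    rw [h, orderOf_one] at hz
    norm_num at hz
  have hz2 : z * z = 1 := by
    have h := pow_orderOf_eq_one z
    rw [hz, pow_two] at h
    exact h
  have h2F : (2 : E) ≠ 0 := two_ne_zero_of_charP (p := 3) hp2
  have hinvol : ∀ t : R, t * t = 1 → t ≠ 1 →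
      μ (t : Γ) = (-1 : E) • 1 := by
    intro t ht ht1
    apply involution_eq_neg_one h2F
    · rw [← map_mul]
      have : (t : Γ) * (t : Γ)
          = 1 := congrArg Subtype.val ht
      rw [this, map_one]
    · intro h
      apply ht1
      apply Subtype.ext
      apply hμinj
      rw [h, Subgroup.coe_one, map_one]
    · exact hμdet _
  have hμz := hinvol z hz2 hz1
  have hφ3 : ∀ g : R, conjAut R a haR (conjAut R a haR (conjAut R a haR g)) = g := by
    intro g
    apply Subtype.ext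
    rw [conjAut_apply, conjAut_apply, conjAut_apply]
    have h3' : a * a * a = 1 := by rw [← ha3, pow_succ, pow_two]
    calc a * (a * (a * (g : Γ) * a⁻¹) * a⁻¹) * a⁻¹
        = (a * a * a) * g * (a * a * a)⁻¹ := by simp only [mul_assoc, _root_.mul_inv_rev]
      _ = g := by rw [h3']; simp
  have hφ1 : ∃ g : R, conjAut R a haR g ≠ g :=
    ⟨⟨r₀, hr₀R⟩, fun h => hr₀ (congrArg Subtype.val h)⟩
  have hinv : ∀ t : R, t * t = 1 → t = 1 ∨ t = z := by
    intro t ht
    by_cases ht1 : t = 1
    · exact Or.inl ht1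
    · right
      apply Subtype.ext
      apply hμinj
      rw [hinvol t ht ht1, hμz]
  have hfix : ∀ g : R, conjAut R a haR g = g → g = 1 ∨ g = z := by
    intro g hg
    have h1 : a * (g : Γ) * a⁻¹ = g := congrArg Subtype.val hg
    rcases hfixR _ g.2 h1 with h | h
    · left
      apply Subtype.ext
      apply hμinj
      rw [h, Subgroup.coe_one, map_one]
    · right
      apply Subtype.ext
      apply hμinj
      rw [h, hμz]
  have hKφ : ∀ g : R, Commute g (conjAut R a haR g) → conjAut R a haR g = g := by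
    intro g hg
    apply Subtype.ext
    rw [conjAut_apply]
    apply HK (g : Γ) a
      (hR.coprime_dvd_left (Subgroup.orderOf_dvd_natCard R g.2)) hodd3
    have := congrArg Subtype.val hg.eq
    exact this
  obtain ⟨hcard8, x, y, hx4, hyy, hrel, hynot, hφx, hφy⟩ :=
    quat_of_aut hR2 (conjAut R a haR) hφ3 hφ1 z hz1 hz2 hinv hfix hKφ (H2 R hR2)
  have hQa : R ⊓ Subgroup.zpowers a = ⊥ := by
    rw [← disjoint_iff]
    apply Subgroup.disjoint_of_coprime_natCard
    rw [Nat.card_zpowers, hord3]; exact hR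
  have hx4' : orderOf (x : Γ) = 2 * 2 := by
    rw [Subgroup.orderOf_coe]; exact hx4
  have hyy' : (y : Γ) * y =
      (x : Γ) ^ 2 := by
    have := congrArg Subtype.val hyy
    simpa using this
  have hrel' : (y : Γ) * x *
      (y : Γ)⁻¹ = (x : Γ)⁻¹ := by
    have := congrArg Subtype.val hrel
    simpa using this
  have hynot' : (y : Γ) ∉
      Subgroup.zpowers (x : Γ) := by
    intro h
    obtain ⟨k, hk⟩ := Subgroup.mem_zpowers_iff.1 h
    apply hynot
    rw [Subgroup.mem_zpowers_iff]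
    refine ⟨k, ?_⟩
    apply Subtype.ext
    rw [Subgroup.coe_zpow]
    exact hk
  have hφx' : a * (x : Γ) * a⁻¹ = y := congrArg Subtype.val hφx
  have hφy' : a * (y : Γ) * a⁻¹ = x * y :=
    congrArg Subtype.val hφy
  exact Cfsg.Agent.Lead.SL23Recog.equivs_of_quaternion R hcard8 x y x.2 y.2 hx4' hyy' hrel' hynot'
    a haR hφx' hφy' hQa hord3


end gen

end Cfsg.Agent.Lead.SL2P3
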