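import Mathlib
import Cfsg.Prelude.Def_GeometricClasses

/-!
# Aschbacher's theorem for `SL_n(F)`, `n` prime: shared definitions and bookkeeping lemmas
-/

set_option autoImplicit false

namespace Cfsg.Agent.Lead.Asch

open Cfsg Cfsg.Geo
open scoped MatrixGroups Matrix

variable {n : ℕ} {F : Type*} [Field F]

/-- `H` normalizes `N` (elementwise form). -/
def Nzes (H N : Subgroup (GL (Fin n) F)) : Prop := ∀ h ∈ H, ∀ x ∈ N, h * x * h⁻¹ ∈ N

theorem Nzes.self (H : Subgroup (GL (Fin n) F)) : Nzes H H :=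
  fun h hh x hx => H.mul_mem (H.mul_mem hh hx) (H.inv_mem hh)

theorem Nzes.mono {H H' N : Subgroup (GL (Fin n) F)} (h : Nzes H N) (hle : H' ≤ H) : Nzes H' N :=
  fun g hg x hx => h g (hle hg) x hx

theorem mem_matrixSet_iff {R : Subgroup (GL (Fin n) F)} {s : Matrix (Fin n) (Fin n) F} :
    s ∈ matrixSet R ↔ ∃ g ∈ R, (g : Matrix (Fin n) (Fin n) F) = s := by
  unfold matrixSet
  simp [Set.mem_image]

theorem coe_mem_matrixSet {R : Subgroup (GL (Fin n) F)} {g : GL (Fin n) F} (hg : g ∈ R) :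
    (g : Matrix (Fin n) (Fin n) F) ∈ matrixSet R :=
  mem_matrixSet_iff.2 ⟨g, hg, rfl⟩

/-! ## maximality bookkeeping -/

theorem eq_inf_of_le {G H X : Subgroup (GL (Fin n) F)} (hH : IsMaximalIn G H) (hle : H ≤ X)
    (hX : ¬ G ≤ X) : H = X ⊓ G := by
  rcases hH.2 (X ⊓ G) (le_inf hle hH.1.le) inf_le_right with h | h
  · exact h.symm
  · exact absurd (h ▸ inf_le_left) hX

/-! ## the reducible case -/

theorem mem_subspaceStabilizer_iff {W : Submodule F (Fin n → F)} {g : GL (Fin n) F} :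
    g ∈ subspaceStabilizer W ↔ ∀ v, v ∈ W ↔ (g : Matrix (Fin n) (Fin n) F) *ᵥ v ∈ W := by
  unfold subspaceStabilizer stabilizing
  rfl

theorem exists_stab_of_not_irred {H : Subgroup (GL (Fin n) F)}
    (h : ¬ ActsIrreducibly (matrixSet H)) :
    ∃ W : Submodule F (Fin n → F), W ≠ ⊥ ∧ W ≠ ⊤ ∧ H ≤ subspaceStabilizer W := by
  unfold ActsIrreducibly at h
  push_neg at h
  obtain ⟨W, hW, h0, h1⟩ := h
  refine ⟨W, h0, h1, fun g hg => ?_⟩
  rw [mem_subspaceStabilizer_iff]
  intro v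
  constructor
  · intro hv
    have := hW _ (coe_mem_matrixSet hg)
    exact this (Submodule.mem_map_of_mem (f := Matrix.toLin' (g : Matrix (Fin n) (Fin n) F)) hv)
  · intro hv
    have := hW _ (coe_mem_matrixSet (H.inv_mem hg))
    have h2 := this (Submodule.mem_map_of_mem
      (f := Matrix.toLin' ((g⁻¹ : GL (Fin n) F) : Matrix (Fin n) (Fin n) F)) hv)
    rw [Matrix.toLin'_apply, Matrix.mulVec_mulVec, ← Units.val_mul, inv_mul_cancel, Units.val_one,
      Matrix.one_mulVec] at h2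
    exact h2

/-! ## small lemmas -/

theorem not_le_scalars_of_irred (hn : 2 ≤ n) {H : Subgroup (GL (Fin n) F)}
    (hH : ActsIrreducibly (matrixSet H)) : ¬ H ≤ scalars (Fin n) F := by
  intro hle
  have i0 : Fin n := ⟨0, by omega⟩
  let W : Submodule F (Fin n → F) := Submodule.span F {Pi.single (⟨0, by omega⟩ : Fin n) (1 : F)}
  have hinv : ∀ s ∈ matrixSet H, W.map (Matrix.toLin' s) ≤ W := by
    intro s hs
    obtain ⟨g, hg, rfl⟩ := mem_matrixSet_iff.1 hs
    obtain ⟨c, hc⟩ := (mem_scalars_iff g).1 (hle hg)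
    rintro _ ⟨v, hv, rfl⟩
    rw [Matrix.toLin'_apply, hc, Matrix.smul_mulVec, Matrix.one_mulVec]
    exact W.smul_mem _ hv
  rcases hH W hinv with h | h
  · have : (Pi.single (⟨0, by omega⟩ : Fin n) (1 : F)) ∈ W := Submodule.subset_span rfl
    rw [h, Submodule.mem_bot] at this
    have := congrFun this ⟨0, by omega⟩
    simp at this
  · have hmem : (Pi.single (⟨1, by omega⟩ : Fin n) (1 : F)) ∈ W := by rw [h]; trivial
    obtain ⟨c, hc⟩ := Submodule.mem_span_singleton.1 hmem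
    have := congrFun hc ⟨1, by omega⟩
    simp [Pi.single_apply, Fin.ext_iff] at this

theorem exists_minimal [Fintype F] {H : Subgroup (GL (Fin n) F)} (hns : ¬ H ≤ scalars (Fin n) F) :
    ∃ N : Subgroup (GL (Fin n) F), N ≤ H ∧ Nzes H N ∧ ¬ N ≤ scalars (Fin n) F ∧
      ∀ M : Subgroup (GL (Fin n) F), M ≤ N → Nzes H M → ¬ M ≤ scalars (Fin n) F → M = N := by
  classical
  haveI : Finite (Subgroup (GL (Fin n) F)) := inferInstance
  let S : Set (Subgroup (GL (Fin n) F)) := {N | N ≤ H ∧ Nzes H N ∧ ¬ N ≤ scalars (Fin n) F}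
  have hS : S.Nonempty := ⟨H, le_refl H, Nzes.self H, hns⟩
  obtain ⟨N, hN, hmin⟩ := (Set.toFinite S).exists_minimal hS
  refine ⟨N, hN.1, hN.2.1, hN.2.2, fun M hMN hMnz hMns => ?_⟩
  have hMS : M ∈ S := ⟨hMN.trans hN.1, hMnz, hMns⟩
  exact le_antisymm hMN (hmin hMS hMN)

theorem nzes_commutator {H N : Subgroup (GL (Fin n) F)} (h : Nzes H N) : Nzes H ⁅N, N⁆ := by
  intro g hg x hx
  have hmap : ⁅N, N⁆.map (MulAut.conj g).toMonoidHom ≤ ⁅N, N⁆ := by
    rw [Subgroup.map_commutator]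
    have hN : N.map (MulAut.conj g).toMonoidHom ≤ N := by
      rintro _ ⟨y, hy, rfl⟩
      simpa using h g hg y hy
    exact Subgroup.commutator_mono hN hN
  have := hmap (Subgroup.mem_map_of_mem _ hx)
  simpa using this

theorem le_subgroupNormalizer {H N : Subgroup (GL (Fin n) F)} (h : Nzes H N) :
    H ≤ subgroupNormalizer N := by
  intro g hg
  unfold subgroupNormalizer
  rw [Subgroup.mem_normalizer_iff_conj_image_eq]
  ext y
  constructor
  · rintro ⟨x, hx, rfl⟩
    simpa using h g hg x hx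
  · intro hy
    refine ⟨g⁻¹ * y * g, ?_, ?_⟩
    · have := h g⁻¹ (H.inv_mem hg) y hy
      simpa using this
    · simp [mul_assoc]

theorem subfield_ne_top_of_card [Fintype F] (F₁ : Subfield F) (r : ℕ) (hr : r.Prime)
    (h : Fintype.card F = Nat.card F₁ ^ r) : F₁ ≠ ⊤ := by
  rintro rfl
  have h1 : Nat.card (⊤ : Subfield F) = Fintype.card F := by
    rw [← Nat.card_eq_fintype_card]
    exact Nat.card_congr Subfield.topEquiv.toEquiv
  have h2 : Fintype.card F = Fintype.card F ^ r := by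
    conv_lhs => rw [h, h1]
  have hq : 2 ≤ Fintype.card F := Fintype.one_lt_card
  have h3 : Fintype.card F ^ 1 < Fintype.card F ^ r := Nat.pow_lt_pow_right hq hr.one_lt
  rw [pow_one] at h3
  omega

theorem solvable_of_commutator_le_scalars {N : Subgroup (GL (Fin n) F)}
    (h : ⁅N, N⁆ ≤ scalars (Fin n) F) : Group.IsSolvable N := by
  have hmap : Subgroup.map N.subtype ⁅(⊤ : Subgroup N), (⊤ : Subgroup N)⁆ ≤ ⁅N, N⁆ := by
    rw [Subgroup.map_commutator]
    apply Subgroup.commutator_mono <;> exact Subgroup.map_subtype_le _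
  have hc : ∀ a ∈ ⁅(⊤ : Subgroup N), (⊤ : Subgroup N)⁆, ∀ b ∈ ⁅(⊤ : Subgroup N), (⊤ : Subgroup N)⁆, a * b = b * a := by
    intro a ha b hb
    obtain ⟨c, hc⟩ := h (hmap (Subgroup.mem_map_of_mem N.subtype ha))
    obtain ⟨d, hd⟩ := h (hmap (Subgroup.mem_map_of_mem N.subtype hb))
    apply Subtype.ext
    have ha' : (a : GL (Fin n) F) = _ := hc.symm
    have hb' : (b : GL (Fin n) F) = _ := hd.symm
    rw [Subgroup.coe_mul, Subgroup.coe_mul, ha', hb', ← map_mul, ← map_mul, mul_comm]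
  refine ⟨⟨2, ?_⟩⟩
  show derivedSeries N (1 + 1) = ⊥
  rw [derivedSeries_succ, derivedSeries_one, Subgroup.commutator_eq_bot_iff_le_centralizer]
  intro a ha b hb
  exact hc b hb a ha

end Cfsg.Agent.Lead.Asch
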