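import Mathlib
import Cfsg.Prelude.Def_GeometricClasses
import Cfsg.Agent.Lead.AschBase

/-!
# ASCH-PRIME piece P12, part A: the group structure of a minimal non-scalar normal subgroup `N` with `⁅N,N⁆` scalar
-/

set_option autoImplicit false

namespace Cfsg.Agent.Lead.Asch

open Cfsg Cfsg.Geo
open scoped MatrixGroups Matrix commutatorElement

section general

variable {P : Type*} [Group P]

theorem pow_mul_of_comm {c x y : P} (hcy : Commute c y) (hyx : y * x = c * x * y) (k : ℕ) :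
    y ^ k * x = c ^ k * x * y ^ k := by
  induction k with
  | zero => simp
  | succ k ih =>
    calc y ^ (k + 1) * x = y ^ k * (y * x) := by rw [pow_succ, mul_assoc]
      _ = y ^ k * (c * x * y) := by rw [hyx]
      _ = (y ^ k * c) * x * y := by simp only [mul_assoc]
      _ = (c * y ^ k) * x * y := by rw [(hcy.pow_right k).eq]
      _ = c * (y ^ k * x) * y := by simp only [mul_assoc]
      _ = c * (c ^ k * x * y ^ k) * y := by rw [ih]
      _ = c ^ (k + 1) * x * y ^ (k + 1) := by rw [pow_succ' c, pow_succ y]; simp only [mul_assoc]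

theorem mul_pow_of_comm {c x y : P} (hcx : Commute c x) (hcy : Commute c y)
    (hyx : y * x = c * x * y) (k : ℕ) : (x * y) ^ k = x ^ k * y ^ k * c ^ (k.choose 2) := by
  induction k with
  | zero => simp
  | succ k ih =>
    have h1 : (k + 1).choose 2 = k + k.choose 2 := by
      rw [Nat.choose_succ_succ, Nat.choose_one_right]
    have hcxy : Commute c (x * y) := hcx.mul_right hcy
    have hbig : Commute c (x ^ (k + 1) * y ^ (k + 1) * c ^ (k.choose 2)) :=
      ((hcx.pow_right _).mul_right (hcy.pow_right _)).mul_right ((Commute.refl c).pow_right _)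
    calc (x * y) ^ (k + 1) = (x * y) ^ k * (x * y) := pow_succ _ _
      _ = x ^ k * y ^ k * c ^ (k.choose 2) * (x * y) := by rw [ih]
      _ = x ^ k * y ^ k * (c ^ (k.choose 2) * (x * y)) := by simp only [mul_assoc]
      _ = x ^ k * y ^ k * ((x * y) * c ^ (k.choose 2)) := by
          rw [(hcxy.pow_left (k.choose 2)).eq]
      _ = x ^ k * (y ^ k * x) * y * c ^ (k.choose 2) := by simp only [mul_assoc]
      _ = x ^ k * (c ^ k * x * y ^ k) * y * c ^ (k.choose 2) := by
          rw [pow_mul_of_comm hcy hyx k]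
      _ = (x ^ k * c ^ k) * x * y ^ k * y * c ^ (k.choose 2) := by simp only [mul_assoc]
      _ = (c ^ k * x ^ k) * x * y ^ k * y * c ^ (k.choose 2) := by
          rw [((hcx.pow_right k).pow_left k).eq]
      _ = c ^ k * (x ^ (k + 1) * y ^ (k + 1) * c ^ (k.choose 2)) := by
          rw [pow_succ x, pow_succ y]; simp only [mul_assoc]
      _ = (x ^ (k + 1) * y ^ (k + 1) * c ^ (k.choose 2)) * c ^ k := by
          rw [(hbig.pow_left k).eq]
      _ = x ^ (k + 1) * y ^ (k + 1) * c ^ ((k + 1).choose 2) := by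
          rw [h1, add_comm k (k.choose 2), pow_add c]; simp only [mul_assoc]

theorem mul_pow_prime_of_comm {p : ℕ} (hp : p.Prime) (hp2 : p ≠ 2) {x y : P}
    (hcx : Commute ⁅y, x⁆ x) (hcy : Commute ⁅y, x⁆ y) (hc : ⁅y, x⁆ ^ p = 1) :
    (x * y) ^ p = x ^ p * y ^ p := by
  have hyx : y * x = ⁅y, x⁆ * x * y := by simp [commutatorElement_def]
  rw [mul_pow_of_comm hcx hcy hyx p]
  have hdvd : p ∣ p.choose 2 := by
    apply hp.dvd_choose_self (by norm_num)
    have := hp.two_le
    omega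
  obtain ⟨k, hk⟩ := hdvd
  rw [hk, pow_mul, hc, one_pow, mul_one]

end general

variable {n : ℕ} {F : Type*} [Field F]

/-- The scalar matrices as a homomorphism `Fˣ →* GL_n(F)`; `scalars` is its range. -/
def sc (n : ℕ) (F : Type*) [Field F] : Fˣ →* GL (Fin n) F :=
  Units.map (Matrix.scalar (Fin n) : F →+* Matrix (Fin n) (Fin n) F).toMonoidHom

theorem scalars_eq_range : scalars (Fin n) F = (sc n F).range := rfl

theorem sc_mem (c : Fˣ) : sc n F c ∈ scalars (Fin n) F := ⟨c, rfl⟩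

theorem sc_val (c : Fˣ) :
    ((sc n F c : GL (Fin n) F) : Matrix (Fin n) (Fin n) F) = (c : F) • (1 : Matrix (Fin n) (Fin n) F) := by
  simp [sc, Matrix.smul_one_eq_diagonal]

theorem sc_comm (c : Fˣ) (g : GL (Fin n) F) : sc n F c * g = g * sc n F c := by
  apply Units.ext
  rw [Units.val_mul, Units.val_mul, sc_val, Matrix.smul_mul, Matrix.mul_smul, Matrix.one_mul, Matrix.mul_one]

theorem commute_of_mem_scalars {z : GL (Fin n) F} (hz : z ∈ scalars (Fin n) F) (g : GL (Fin n) F) :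
    Commute z g := by
  obtain ⟨c, rfl⟩ := hz
  exact sc_comm c g

theorem sc_injective [NeZero n] : Function.Injective (sc n F) := by
  intro a b hab
  have h := congrArg (fun g : GL (Fin n) F => (g : Matrix (Fin n) (Fin n) F) 0 0) hab
  simp only [sc_val, Matrix.smul_apply, Matrix.one_apply_eq, smul_eq_mul, mul_one] at h
  exact Units.ext h

theorem det_sc (c : Fˣ) : Matrix.GeneralLinearGroup.det (sc n F c) = c ^ n := by
  apply Units.ext
  rw [Matrix.GeneralLinearGroup.val_det_apply, sc_val, Matrix.det_smul, Matrix.det_one, mul_one,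
    Fintype.card_fin, Units.val_pow_eq_pow_val]

/-- The running hypotheses of the symplectic-type case. -/
structure SymHyp (n : ℕ) (F : Type*) [Field F] (H N : Subgroup (GL (Fin n) F)) : Prop where
  prime : n.Prime
  ne_two : n ≠ 2
  le : N ≤ H
  nz : Nzes H N
  ns : ¬ N ≤ scalars (Fin n) F
  abs : ActsAbsolutelyIrreducibly (matrixSet N)
  hmin : ∀ M : Subgroup (GL (Fin n) F), M ≤ N → Nzes H M → ¬ M ≤ scalars (Fin n) F → M = N
  comm : ⁅N, N⁆ ≤ scalars (Fin n) F

namespace SymHyp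

variable {H N : Subgroup (GL (Fin n) F)}

theorem comm_mem (h : SymHyp n F H N) {x y : GL (Fin n) F} (hx : x ∈ N) (hy : y ∈ N) :
    ⁅x, y⁆ ∈ scalars (Fin n) F :=
  h.comm (Subgroup.commutator_mem_commutator hx hy)

theorem neZero (h : SymHyp n F H N) : NeZero n := ⟨h.prime.ne_zero⟩

/-- An element of `GL` commuting with all of `N` is scalar. -/
theorem scalar_of_central (h : SymHyp n F H N) {g : GL (Fin n) F}
    (hg : ∀ y ∈ N, g * y = y * g) : g ∈ scalars (Fin n) F := by
  haveI := h.neZero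
  obtain ⟨c, hc⟩ := h.abs.2 (g : Matrix (Fin n) (Fin n) F) (by
    intro s hs
    obtain ⟨y, hy, rfl⟩ := mem_matrixSet_iff.1 hs
    rw [← Units.val_mul, ← Units.val_mul, hg y hy])
  have hc0 : c ≠ 0 := by
    rintro rfl
    rw [zero_smul] at hc
    have h1 : (g : Matrix (Fin n) (Fin n) F) * ((g⁻¹ : GL (Fin n) F) : Matrix (Fin n) (Fin n) F) = 1 := by
      rw [← Units.val_mul, mul_inv_cancel, Units.val_one]
    rw [hc, zero_mul] at h1
    have := congrFun (congrFun h1 0) 0
    simp at this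
  exact (mem_scalars_iff g).2 ⟨Units.mk0 c hc0, hc⟩

/-- `N` is not abelian. -/
theorem exists_noncomm (h : SymHyp n F H N) : ∃ x ∈ N, ∃ y ∈ N, ⁅x, y⁆ ≠ 1 := by
  by_contra hcon
  push_neg at hcon
  apply h.ns
  intro g hg
  apply h.scalar_of_central
  intro y hy
  have := hcon g hg y hy
  rw [commutatorElement_eq_one_iff_mul_comm] at this
  exact this

/-- Commutators of elements of `N` are scalars `ζ` with `ζ ^ n = 1`. -/
theorem exists_comm_eq (h : SymHyp n F H N) {x y : GL (Fin n) F} (hx : x ∈ N) (hy : y ∈ N) :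
    ∃ ζ : Fˣ, ⁅x, y⁆ = sc n F ζ ∧ ζ ^ n = 1 := by
  obtain ⟨ζ, hζ⟩ := h.comm_mem hx hy
  refine ⟨ζ, hζ.symm, ?_⟩
  have hdet : Matrix.GeneralLinearGroup.det ⁅x, y⁆ = 1 := by
    rw [map_commutatorElement]
    exact commutatorElement_eq_one_iff_commute.2 (Commute.all _ _)
  have hsc : sc n F ζ = ⁅x, y⁆ := hζ
  rw [← hsc, det_sc] at hdet
  exact hdet

theorem comm_pow_eq_one (h : SymHyp n F H N) {x y : GL (Fin n) F} (hx : x ∈ N) (hy : y ∈ N) :
    ⁅x, y⁆ ^ n = 1 := by
  obtain ⟨ζ, hζ, hn⟩ := h.exists_comm_eq hx hy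
  rw [hζ, ← map_pow, hn, map_one]

/-- `x ^ n` commutes with `N`. -/
theorem pow_comm (h : SymHyp n F H N) {x y : GL (Fin n) F} (hx : x ∈ N) (hy : y ∈ N) :
    x ^ n * y = y * x ^ n := by
  have hc : Commute ⁅x, y⁆ x := commute_of_mem_scalars (h.comm_mem hx hy) x
  have hxy : x * y = ⁅x, y⁆ * y * x := by simp [commutatorElement_def]
  have := pow_mul_of_comm hc hxy n
  rw [this, h.comm_pow_eq_one hx hy, one_mul]

theorem pow_mem_scalars (h : SymHyp n F H N) {x : GL (Fin n) F} (hx : x ∈ N) :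
    x ^ n ∈ scalars (Fin n) F :=
  h.scalar_of_central fun y hy => h.pow_comm hx hy

theorem mul_pow' (h : SymHyp n F H N) {x y : GL (Fin n) F} (hx : x ∈ N) (hy : y ∈ N) :
    (x * y) ^ n = x ^ n * y ^ n :=
  mul_pow_prime_of_comm h.prime h.ne_two (commute_of_mem_scalars (h.comm_mem hy hx) x)
    (commute_of_mem_scalars (h.comm_mem hy hx) y) (h.comm_pow_eq_one hy hx)

/-- The subgroup of elements of `N` of order dividing `n`. -/
def Omega (h : SymHyp n F H N) : Subgroup (GL (Fin n) F) where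
  carrier := {x | x ∈ N ∧ x ^ n = 1}
  mul_mem' := by
    rintro a b ⟨ha, ha'⟩ ⟨hb, hb'⟩
    exact ⟨N.mul_mem ha hb, by rw [h.mul_pow' ha hb, ha', hb', one_mul]⟩
  one_mem' := ⟨N.one_mem, one_pow _⟩
  inv_mem' := by
    rintro a ⟨ha, ha'⟩
    exact ⟨N.inv_mem ha, by rw [inv_pow, ha', inv_one]⟩

theorem mem_Omega (h : SymHyp n F H N) {x : GL (Fin n) F} : x ∈ h.Omega ↔ x ∈ N ∧ x ^ n = 1 := Iff.rfl

theorem Omega_le (h : SymHyp n F H N) : h.Omega ≤ N := fun _ hx => hx.1

theorem Omega_nzes (h : SymHyp n F H N) : Nzes H h.Omega := by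
  intro g hg x hx
  refine ⟨h.nz g hg x hx.1, ?_⟩
  rw [conj_pow, hx.2, mul_one, mul_inv_cancel]

end SymHyp

end Cfsg.Agent.Lead.Asch
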