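import Mathlib
import Cfsg.Prelude.Def_GeometricClasses
import Cfsg.Agent.Lead.AschSymA

/-!
# ASCH-PRIME piece P12, part B: `N` has exponent `n`, centre of order `n`
-/

set_option autoImplicit false

namespace Cfsg.Agent.Lead.Asch

open Cfsg Cfsg.Geo
open scoped MatrixGroups Matrix commutatorElement

variable {n : ℕ} {F : Type*} [Field F] [Fintype F]

namespace SymHyp

variable {H N : Subgroup (GL (Fin n) F)}

/-- the `n`-th power map of `N` -/
def powHom (h : SymHyp n F H N) : N →* N where
  toFun x := ⟨(x : GL (Fin n) F) ^ n, N.pow_mem x.2 n⟩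
  map_one' := by ext; simp
  map_mul' x y := by
    apply Subtype.ext
    exact h.mul_pow' x.2 y.2

theorem powHom_range_le (h : SymHyp n F H N) : h.powHom.range ≤ Subgroup.center N := by
  rintro _ ⟨x, rfl⟩
  rw [Subgroup.mem_center_iff]
  intro y
  apply Subtype.ext
  exact (h.pow_comm x.2 y.2).symm

theorem card_le_of_le_scalars (h : SymHyp n F H N) (K : Subgroup (GL (Fin n) F))
    (hK : K ≤ scalars (Fin n) F) (hKn : ∀ x ∈ K, x ^ n = 1) : Nat.card K ≤ n := by
  haveI := h.neZero
  have hle : K ≤ (rootsOfUnity n F).map (sc n F) := by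
    intro x hx
    obtain ⟨ζ, hζ⟩ := hK hx
    have hζ' : sc n F ζ = x := hζ
    refine ⟨ζ, ?_, hζ'⟩
    rw [SetLike.mem_coe, mem_rootsOfUnity]
    apply sc_injective (n := n) (F := F)
    rw [map_pow, hζ', hKn _ hx, map_one]
  calc Nat.card K ≤ Nat.card ((rootsOfUnity n F).map (sc n F)) := Subgroup.card_le_of_le hle
    _ = Nat.card (rootsOfUnity n F) := Subgroup.card_map_of_injective sc_injective
    _ ≤ n := card_rootsOfUnity F n

theorem not_comm (h : SymHyp n F H N) : ¬ ∀ a b : N, a * b = b * a := by
  intro hab
  obtain ⟨x, hx, y, hy, hxy⟩ := h.exists_noncomm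
  apply hxy
  rw [commutatorElement_eq_one_iff_mul_comm]
  exact congrArg Subtype.val (hab ⟨x, hx⟩ ⟨y, hy⟩)

theorem index_center_gt (h : SymHyp n F H N) : n < (Subgroup.center N).index := by
  haveI : Fact n.Prime := ⟨h.prime⟩
  by_contra hle
  push_neg at hle
  -- the quotient is an `n`-group of order at most `n`, hence cyclic
  have hP : IsPGroup n (N ⧸ Subgroup.center N) := by
    intro q
    refine ⟨1, ?_⟩
    induction q using QuotientGroup.induction_on with
    | H x =>
      rw [pow_one, ← QuotientGroup.mk_pow, QuotientGroup.eq_one_iff]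
      exact h.powHom_range_le ⟨x, rfl⟩
  obtain ⟨k, hk⟩ := IsPGroup.iff_card.1 hP
  have hidx : Nat.card (N ⧸ Subgroup.center N) = (Subgroup.center N).index := rfl
  have hcyc : IsCyclic (N ⧸ Subgroup.center N) := by
    have hk1 : k ≤ 1 := by
      by_contra hk2
      push_neg at hk2
      have : n ^ 2 ≤ n ^ k := Nat.pow_le_pow_right h.prime.pos hk2
      have h2 := h.prime.two_le
      nlinarith
    interval_cases k
    · haveI : Subsingleton (N ⧸ Subgroup.center N) := by
        rw [← Finite.card_le_one_iff_subsingleton, hk, pow_zero]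
      exact isCyclic_of_subsingleton
    · exact isCyclic_of_prime_card (p := n) (by rw [hk, pow_one])
  apply h.not_comm
  exact commutative_of_cyclic_center_quotient (QuotientGroup.mk' (Subgroup.center N))
    (by rw [QuotientGroup.ker_mk'])

theorem Omega_eq (h : SymHyp n F H N) : h.Omega = N := by
  apply h.hmin _ h.Omega_le h.Omega_nzes
  intro hsc
  have hker : Nat.card h.powHom.ker ≤ n := by
    have h1 : h.powHom.ker.map N.subtype ≤ h.Omega := by
      rintro _ ⟨x, hx, rfl⟩
      refine ⟨x.2, ?_⟩
      have := congrArg Subtype.val (MonoidHom.mem_ker.1 hx)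
      exact this
    have h2 := h.card_le_of_le_scalars _ (h1.trans hsc) (fun x hx => (h1 hx).2)
    rwa [Subgroup.card_map_of_injective N.subtype_injective] at h2
  have h3 : Nat.card h.powHom.ker * Nat.card h.powHom.range = Nat.card N := by
    rw [← Subgroup.index_ker]
    exact Subgroup.card_mul_index _
  have h4 : Nat.card h.powHom.range ≤ Nat.card (Subgroup.center N) :=
    Subgroup.card_le_of_le h.powHom_range_le
  have h5 : Nat.card (Subgroup.center N) * (Subgroup.center N).index = Nat.card N :=
    Subgroup.card_mul_index _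
  have h6 := h.index_center_gt
  have hpos : 0 < Nat.card (Subgroup.center N) := Nat.card_pos
  have h7 : Nat.card N ≤ n * Nat.card (Subgroup.center N) := by
    rw [← h3]
    exact Nat.mul_le_mul hker h4
  have h8 : Nat.card (Subgroup.center N) * (Subgroup.center N).index ≤
      Nat.card (Subgroup.center N) * n := by
    rw [h5, mul_comm]
    exact h7
  have := Nat.le_of_mul_le_mul_left h8 hpos
  omega

theorem pow_eq_one (h : SymHyp n F H N) {x : GL (Fin n) F} (hx : x ∈ N) : x ^ n = 1 := by
  have : x ∈ h.Omega := by rw [h.Omega_eq]; exact hx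
  exact this.2

theorem isPGroup (h : SymHyp n F H N) : IsPGroup n N := by
  intro x
  refine ⟨1, ?_⟩
  apply Subtype.ext
  rw [pow_one]
  exact h.pow_eq_one x.2

theorem exponent_eq (h : SymHyp n F H N) : Monoid.exponent N = n := by
  have hdvd : Monoid.exponent N ∣ n := by
    apply Monoid.exponent_dvd_of_forall_pow_eq_one
    intro x
    apply Subtype.ext
    exact h.pow_eq_one x.2
  rcases (Nat.dvd_prime h.prime).1 hdvd with h1 | h1
  · exfalso
    apply h.not_comm
    intro a b
    have ha : a = 1 := by
      have := Monoid.pow_exponent_eq_one a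
      rwa [h1, pow_one] at this
    rw [ha, one_mul, mul_one]
  · exact h1

/-- The centre of `N` consists of the scalars in `N`. -/
theorem center_map_le (h : SymHyp n F H N) :
    (Subgroup.center N).map N.subtype ≤ scalars (Fin n) F := by
  rintro _ ⟨z, hz, rfl⟩
  apply h.scalar_of_central
  intro y hy
  have := (Subgroup.mem_center_iff.1 hz) ⟨y, hy⟩
  exact (congrArg Subtype.val this).symm

theorem card_center (h : SymHyp n F H N) : Nat.card (Subgroup.center N) = n := by
  have hle : Nat.card (Subgroup.center N) ≤ n := by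
    have := h.card_le_of_le_scalars _ h.center_map_le (by
      rintro _ ⟨z, -, rfl⟩
      exact h.pow_eq_one z.2)
    rwa [Subgroup.card_map_of_injective N.subtype_injective] at this
  obtain ⟨x, hx, y, hy, hxy⟩ := h.exists_noncomm
  -- the commutator is a central element of order `n`
  have hcN : ⁅x, y⁆ ∈ N := N.mul_mem (N.mul_mem (N.mul_mem hx hy) (N.inv_mem hx)) (N.inv_mem hy)
  let c : N := ⟨⁅x, y⁆, hcN⟩
  have hc : c ∈ Subgroup.center N := by
    rw [Subgroup.mem_center_iff]
    intro g
    apply Subtype.ext
    exact ((commute_of_mem_scalars (h.comm_mem hx hy)) (g : GL (Fin n) F)).eq.symm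
  haveI : Fact n.Prime := ⟨h.prime⟩
  have hord : orderOf (⟨c, hc⟩ : Subgroup.center N) = n := by
    apply orderOf_eq_prime
    · apply Subtype.ext
      apply Subtype.ext
      exact h.pow_eq_one hcN
    · intro h1
      apply hxy
      have := congrArg (fun z : Subgroup.center N => ((z : N) : GL (Fin n) F)) h1
      exact this
  have hdvd : n ∣ Nat.card (Subgroup.center N) := by
    have := orderOf_dvd_natCard (⟨c, hc⟩ : Subgroup.center N)
    rwa [hord] at this
  have hpos : 0 < Nat.card (Subgroup.center N) := Nat.card_pos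
  exact le_antisymm hle (Nat.le_of_dvd hpos hdvd)

end SymHyp

end Cfsg.Agent.Lead.Asch
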