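import Mathlib
import Cfsg.Prelude.Def_GeometricClasses
import Cfsg.Agent.Lead.AschSymB

/-!
# ASCH-PRIME piece P12, part C: the monomial normal form of `N`
-/

set_option autoImplicit false

namespace Cfsg.Agent.Lead.Asch

open Cfsg Cfsg.Geo
open scoped MatrixGroups Matrix commutatorElement

variable {n : ℕ} {F : Type*} [Field F]

/-- matrix-vector action of `GL` -/
theorem gl_mul_mulVec (a b : GL (Fin n) F) (w : Fin n → F) :
    ((a * b : GL (Fin n) F) : Matrix (Fin n) (Fin n) F) *ᵥ w =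
      (a : Matrix (Fin n) (Fin n) F) *ᵥ ((b : Matrix (Fin n) (Fin n) F) *ᵥ w) := by
  rw [Units.val_mul, Matrix.mulVec_mulVec]

theorem sc_mulVec (c : Fˣ) (w : Fin n → F) :
    ((sc n F c : GL (Fin n) F) : Matrix (Fin n) (Fin n) F) *ᵥ w = (c : F) • w := by
  rw [sc_val, Matrix.smul_mulVec, Matrix.one_mulVec]

theorem gl_pow_mulVec_succ (a : GL (Fin n) F) (k : ℕ) (w : Fin n → F) :
    ((a ^ (k + 1) : GL (Fin n) F) : Matrix (Fin n) (Fin n) F) *ᵥ w =
      (a : Matrix (Fin n) (Fin n) F) *ᵥ (((a ^ k : GL (Fin n) F) : Matrix (Fin n) (Fin n) F) *ᵥ w) := by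
  rw [pow_succ', gl_mul_mulVec]

theorem gl_mulVec_ne_zero (a : GL (Fin n) F) {w : Fin n → F} (hw : w ≠ 0) :
    (a : Matrix (Fin n) (Fin n) F) *ᵥ w ≠ 0 := by
  intro h0
  apply hw
  have := congrArg (fun u => ((a⁻¹ : GL (Fin n) F) : Matrix (Fin n) (Fin n) F) *ᵥ u) h0
  simp only [Matrix.mulVec_mulVec, Matrix.mulVec_zero] at this
  rwa [← Units.val_mul, inv_mul_cancel, Units.val_one, Matrix.one_mulVec] at this

/-- twisted commutation: from `y * x = sc μ * (x * y)` -/
theorem twist_mulVec {x y : GL (Fin n) F} {μ : Fˣ} (h : y * x = sc n F μ * (x * y)) (w : Fin n → F) :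
    (y : Matrix (Fin n) (Fin n) F) *ᵥ ((x : Matrix (Fin n) (Fin n) F) *ᵥ w) =
      (μ : F) • ((x : Matrix (Fin n) (Fin n) F) *ᵥ ((y : Matrix (Fin n) (Fin n) F) *ᵥ w)) := by
  rw [← gl_mul_mulVec, h, gl_mul_mulVec, sc_mulVec, gl_mul_mulVec]

/-- eigenvectors are moved to eigenvectors -/
theorem twist_eigen {x y : GL (Fin n) F} {μ : Fˣ} (h : y * x = sc n F μ * (x * y)) {w : Fin n → F} {d : F}
    (hw : (y : Matrix (Fin n) (Fin n) F) *ᵥ w = d • w) :
    (y : Matrix (Fin n) (Fin n) F) *ᵥ ((x : Matrix (Fin n) (Fin n) F) *ᵥ w) =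
      ((μ : F) * d) • ((x : Matrix (Fin n) (Fin n) F) *ᵥ w) := by
  rw [twist_mulVec h, hw, Matrix.mulVec_smul, smul_smul]

theorem twist_eigen_pow {x y : GL (Fin n) F} {μ : Fˣ} (h : y * x = sc n F μ * (x * y)) {v : Fin n → F} {d : F}
    (hv : (y : Matrix (Fin n) (Fin n) F) *ᵥ v = d • v) (k : ℕ) :
    (y : Matrix (Fin n) (Fin n) F) *ᵥ (((x ^ k : GL (Fin n) F) : Matrix (Fin n) (Fin n) F) *ᵥ v) =
      ((μ : F) ^ k * d) • (((x ^ k : GL (Fin n) F) : Matrix (Fin n) (Fin n) F) *ᵥ v) := by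
  induction k with
  | zero => simpa using hv
  | succ k ih =>
    rw [gl_pow_mulVec_succ, twist_eigen h ih, pow_succ]
    congr 1
    ring

/-- An element of finite order `n` of `GL_n(F)` has an eigenvector when `F` contains a primitive `n`-th root
of unity. -/
theorem exists_eigenvector {y : GL (Fin n) F} [NeZero n] (hy : y ^ n = 1) {ζ : F} (hζ : IsPrimitiveRoot ζ n) :
    ∃ (v : Fin n → F) (d : F), v ≠ 0 ∧ d ^ n = 1 ∧ (y : Matrix (Fin n) (Fin n) F) *ᵥ v = d • v := by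
  classical
  let Y : Module.End F (Fin n → F) := Matrix.toLin' (y : Matrix (Fin n) (Fin n) F)
  have hYn : Y ^ n = 1 := by
    show (Matrix.toLin' (y : Matrix (Fin n) (Fin n) F)) ^ n = 1
    rw [← Matrix.toLin'_pow, ← Units.val_pow_eq_pow_val, hy, Units.val_one, Matrix.toLin'_one]
    rfl
  have hpoly : Polynomial.aeval Y (Polynomial.X ^ n - Polynomial.C (1 : F)) = 0 := by
    simp [hYn]
  have hdvd : minpoly F Y ∣ Polynomial.X ^ n - Polynomial.C (1 : F) := minpoly.dvd F Y hpoly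
  have hne : (Polynomial.X ^ n - Polynomial.C (1 : F)) ≠ 0 :=
    Polynomial.X_pow_sub_C_ne_zero (Nat.pos_of_ne_zero (NeZero.ne n)) 1
  have hsplit : (minpoly F Y).Splits := (Polynomial.X_pow_sub_one_splits hζ).of_dvd hne hdvd
  have hdeg : (minpoly F Y).degree ≠ 0 := by
    have hint : IsIntegral F Y := Algebra.IsIntegral.isIntegral Y
    have := minpoly.degree_pos hint
    exact ne_of_gt this
  obtain ⟨d, hd⟩ := hsplit.exists_eval_eq_zero hdeg
  have hev : Y.HasEigenvalue d := Module.End.hasEigenvalue_of_isRoot hd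
  obtain ⟨v, hv⟩ := hev.exists_hasEigenvector
  refine ⟨v, d, hv.2, ?_, ?_⟩
  · have hroot : (Polynomial.X ^ n - Polynomial.C (1 : F)).IsRoot d := by
      obtain ⟨q, hq⟩ := hdvd
      rw [Polynomial.IsRoot, hq, Polynomial.eval_mul, hd, zero_mul]
    simpa [sub_eq_zero] using hroot
  · have := hv.apply_eq_smul
    simpa [Y] using this


/-- The chosen generators `x`, `y` of `N` modulo its centre and an eigenvector of `y`. -/
structure NFData (n : ℕ) (F : Type*) [Field F] (N : Subgroup (GL (Fin n) F)) where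
  x : GL (Fin n) F
  y : GL (Fin n) F
  hx : x ∈ N
  hy : y ∈ N
  μ : Fˣ
  hμ : IsPrimitiveRoot (μ : F) n
  hyx : y * x = sc n F μ * (x * y)
  hxn : x ^ n = 1
  hyn : y ^ n = 1
  v : Fin n → F
  d : F
  hv : v ≠ 0
  hd : d ^ n = 1
  hyv : (y : Matrix (Fin n) (Fin n) F) *ᵥ v = d • v

namespace NFData

variable {N : Subgroup (GL (Fin n) F)} (D : NFData n F N)

/-- the basis vectors `x ^ k • v` -/
def b (k : ℕ) : Fin n → F := ((D.x ^ k : GL (Fin n) F) : Matrix (Fin n) (Fin n) F) *ᵥ D.v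

/-- the eigenvalues of `y` -/
def dval (k : ℕ) : F := (D.μ : F) ^ k * D.d

theorem x_b (k : ℕ) : (D.x : Matrix (Fin n) (Fin n) F) *ᵥ D.b k = D.b (k + 1) := by
  unfold b
  rw [gl_pow_mulVec_succ]

theorem xpow_b (j k : ℕ) :
    ((D.x ^ j : GL (Fin n) F) : Matrix (Fin n) (Fin n) F) *ᵥ D.b k = D.b (k + j) := by
  unfold b
  rw [← gl_mul_mulVec, ← pow_add, add_comm]

theorem b_add_n (k : ℕ) : D.b (k + n) = D.b k := by
  unfold b
  rw [pow_add, D.hxn, mul_one]

theorem b_mod (k : ℕ) : D.b (k % n) = D.b k := by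
  conv_rhs => rw [← Nat.mod_add_div k n]
  generalize k / n = q
  induction q with
  | zero => simp
  | succ q ih => rw [Nat.mul_succ, ← add_assoc, b_add_n, ih]

theorem y_b (k : ℕ) : (D.y : Matrix (Fin n) (Fin n) F) *ᵥ D.b k = D.dval k • D.b k :=
  twist_eigen_pow D.hyx D.hyv k

theorem b_ne_zero (k : ℕ) : D.b k ≠ 0 := gl_mulVec_ne_zero _ D.hv

theorem d_ne_zero [NeZero n] : D.d ≠ 0 := by
  intro h0
  have := D.hd
  rw [h0, zero_pow (NeZero.ne n)] at this
  exact zero_ne_one this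

theorem dval_inj [NeZero n] {i j : ℕ} (hi : i < n) (hj : j < n) (h : D.dval i = D.dval j) : i = j := by
  unfold dval at h
  exact D.hμ.pow_inj hi hj (mul_right_cancel₀ D.d_ne_zero h)

theorem dval_mod [NeZero n] (k : ℕ) : D.dval (k % n) = D.dval k := by
  unfold dval
  congr 1
  conv_rhs => rw [← Nat.mod_add_div k n]
  rw [pow_add, pow_mul, D.hμ.pow_eq_one, one_pow, mul_one]

theorem linearIndependent_b [NeZero n] : LinearIndependent F (fun k : Fin n => D.b k.val) := by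
  apply Module.End.eigenvectors_linearIndependent' (Matrix.toLin' (D.y : Matrix (Fin n) (Fin n) F))
    (fun k : Fin n => D.dval k.val)
  · intro i j hij
    exact Fin.ext (D.dval_inj i.2 j.2 hij)
  · intro k
    refine ⟨?_, D.b_ne_zero k.val⟩
    rw [Module.End.mem_eigenspace_iff, Matrix.toLin'_apply]
    exact D.y_b k.val

/-- An eigenvector of `y` for the eigenvalue `dval l` is a multiple of `b l`. -/
theorem eigen_span [NeZero n] {w : Fin n → F} {l : ℕ}
    (hw : (D.y : Matrix (Fin n) (Fin n) F) *ᵥ w = D.dval l • w) : ∃ c : F, w = c • D.b l := by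
  classical
  have hli := D.linearIndependent_b
  let Bas : Module.Basis (Fin n) F (Fin n → F) :=
    basisOfLinearIndependentOfCardEqFinrank hli (by simp)
  have hBas : ∀ i, Bas i = D.b i.val := fun i => by
    simp [Bas]
  obtain ⟨c, hsum⟩ : ∃ c : Fin n → F, w = ∑ i, c i • D.b i.val := by
    refine ⟨fun i => Bas.repr w i, ?_⟩
    conv_lhs => rw [← Bas.sum_repr w]
    simp_rw [hBas]
  clear_value Bas
  have hzero : ∑ i : Fin n, (c i * (D.dval l - D.dval i.val)) • D.b i.val = 0 := by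
    have h1 : (D.y : Matrix (Fin n) (Fin n) F) *ᵥ w = ∑ i, (c i * D.dval i.val) • D.b i.val := by
      conv_lhs => rw [hsum]
      rw [Matrix.mulVec_sum]
      apply Finset.sum_congr rfl
      intro i _
      rw [Matrix.mulVec_smul, D.y_b, smul_smul]
    have h2 : D.dval l • w = ∑ i, (c i * D.dval l) • D.b i.val := by
      conv_lhs => rw [hsum]
      rw [Finset.smul_sum]
      apply Finset.sum_congr rfl
      intro i _
      rw [smul_smul, mul_comm]
    rw [hw, h2] at h1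
    rw [← sub_eq_zero, ← Finset.sum_sub_distrib] at h1
    rw [← h1]
    apply Finset.sum_congr rfl
    intro i _
    rw [mul_sub, sub_smul]
  have hcoef := Fintype.linearIndependent_iff.1 hli _ hzero
  have hl : l % n < n := Nat.mod_lt _ (Nat.pos_of_ne_zero (NeZero.ne n))
  refine ⟨c ⟨l % n, hl⟩, ?_⟩
  rw [hsum]
  rw [Finset.sum_eq_single (⟨l % n, hl⟩ : Fin n)]
  · simp only
    rw [D.b_mod]
  · intro i _ hi
    have := hcoef i
    rcases mul_eq_zero.1 this with h0 | h0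
    · rw [h0, zero_smul]
    · exfalso
      apply hi
      apply Fin.ext
      have h3 : D.dval i.val = D.dval (l % n) := by rw [D.dval_mod, ← sub_eq_zero.1 h0]
      exact D.dval_inj i.2 hl h3
  · intro h
    exact absurd (Finset.mem_univ _) h


/-- the matrix whose columns are the `b k` -/
def Bc : Matrix (Fin n) (Fin n) F := Matrix.of fun i (k : Fin n) => D.b k.val i

theorem Bc_mulVec_single [NeZero n] (k : Fin n) : D.Bc *ᵥ Pi.single k 1 = D.b k.val := by
  classical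
  rw [Matrix.mulVec_single_one]
  rfl

theorem Bc_isUnit [NeZero n] : IsUnit D.Bc := by
  rw [← Matrix.linearIndependent_cols_iff_isUnit]
  exact D.linearIndependent_b

/-- the change of basis as an element of `GL` -/
noncomputable def BcU [NeZero n] : GL (Fin n) F := D.Bc_isUnit.unit

theorem BcU_val [NeZero n] : (D.BcU : Matrix (Fin n) (Fin n) F) = D.Bc := IsUnit.unit_spec _

theorem BcU_inv_mulVec_b [NeZero n] (k : Fin n) :
    ((D.BcU⁻¹ : GL (Fin n) F) : Matrix (Fin n) (Fin n) F) *ᵥ D.b k.val = Pi.single k 1 := by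
  rw [← D.Bc_mulVec_single, ← D.BcU_val, Matrix.mulVec_mulVec, ← Units.val_mul, inv_mul_cancel, Units.val_one,
    Matrix.one_mulVec]

end NFData

namespace SymHyp

variable [Fintype F] {H N : Subgroup (GL (Fin n) F)}

theorem exists_nfdata (h : SymHyp n F H N) : Nonempty (NFData n F N) := by
  haveI := h.neZero
  haveI : Fact n.Prime := ⟨h.prime⟩
  obtain ⟨x, hx, y, hy, hxy⟩ := h.exists_noncomm
  obtain ⟨ζ, hζ, hζn⟩ := h.exists_comm_eq hx hy
  have hζ1 : ζ ≠ 1 := by
    rintro rfl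
    rw [map_one] at hζ
    exact hxy hζ
  have hμ : IsPrimitiveRoot (((ζ⁻¹ : Fˣ) : Fˣ) : F) n := by
    rw [IsPrimitiveRoot.coe_units_iff]
    have hord : orderOf (ζ⁻¹ : Fˣ) = n := by
      apply orderOf_eq_prime
      · rw [inv_pow, hζn, inv_one]
      · intro h1
        exact hζ1 (inv_eq_one.1 h1)
    rw [← hord]
    exact IsPrimitiveRoot.orderOf _
  have hyx : y * x = sc n F ζ⁻¹ * (x * y) := by
    have h1 : x * y = sc n F ζ * (y * x) := by
      rw [← hζ, commutatorElement_def]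
      group
    rw [h1, ← mul_assoc, ← map_mul, inv_mul_cancel, map_one, one_mul]
  obtain ⟨v, d, hv, hd, hyv⟩ := exists_eigenvector (h.pow_eq_one hy) hμ
  exact ⟨{ x := x, y := y, hx := hx, hy := hy, μ := ζ⁻¹, hμ := hμ, hyx := hyx, hxn := h.pow_eq_one hx,
           hyn := h.pow_eq_one hy, v := v, d := d, hv := hv, hd := hd, hyv := hyv }⟩

/-- Every element of `N` is monomial with respect to the vectors `b k`. -/
theorem exists_monomial (h : SymHyp n F H N) (D : NFData n F N) {g : GL (Fin n) F} (hg : g ∈ N) :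
    ∃ (j : ℕ) (m : ℕ → F), j < n ∧ (∀ k, m k ^ n = 1) ∧
      ∀ k, (g : Matrix (Fin n) (Fin n) F) *ᵥ D.b k = m k • D.b (k + j) := by
  haveI := h.neZero
  obtain ⟨α, hα, hαn⟩ := h.exists_comm_eq D.hy hg
  have hyg : D.y * g = sc n F α * (g * D.y) := by
    rw [← hα, commutatorElement_def]
    group
  have hαn' : (α : F) ^ n = 1 := by
    rw [← Units.val_pow_eq_pow_val, hαn, Units.val_one]
  obtain ⟨j, hj, hjα⟩ := D.hμ.eq_pow_of_pow_eq_one hαn'
  have hspan : ∀ k, ∃ c : F, (g : Matrix (Fin n) (Fin n) F) *ᵥ D.b k = c • D.b (k + j) := by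
    intro k
    apply D.eigen_span
    rw [twist_eigen hyg (D.y_b k)]
    congr 1
    unfold NFData.dval
    rw [← hjα, pow_add]
    ring
  choose m hm using hspan
  refine ⟨j, m, hj, ?_, hm⟩
  intro k
  -- the element `(x^j)⁻¹ * g` is diagonal
  set g₂ : GL (Fin n) F := (D.x ^ j)⁻¹ * g with hg₂
  have hg₂N : g₂ ∈ N := N.mul_mem (N.inv_mem (N.pow_mem D.hx j)) hg
  have hdiag : (g₂ : Matrix (Fin n) (Fin n) F) *ᵥ D.b k = m k • D.b k := by
    rw [hg₂, gl_mul_mulVec, hm k, Matrix.mulVec_smul, ← D.xpow_b j k, ← gl_mul_mulVec, inv_mul_cancel,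
      Units.val_one, Matrix.one_mulVec]
  have hpow : ∀ i : ℕ, ((g₂ ^ i : GL (Fin n) F) : Matrix (Fin n) (Fin n) F) *ᵥ D.b k = m k ^ i • D.b k := by
    intro i
    induction i with
    | zero => simp
    | succ i ih =>
      rw [gl_pow_mulVec_succ, ih, Matrix.mulVec_smul, hdiag, smul_smul, pow_succ]
  have h1 := hpow n
  rw [h.pow_eq_one hg₂N, Units.val_one, Matrix.one_mulVec] at h1
  have h2 : (m k ^ n - 1) • D.b k = 0 := by
    rw [sub_smul, one_smul, ← h1, sub_self]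
  rcases smul_eq_zero.1 h2 with h3 | h3
  · exact sub_eq_zero.1 h3
  · exact absurd h3 (D.b_ne_zero k)

/-- The monomial normal form of `N`. -/
theorem exists_normal_form (h : SymHyp n F H N) :
    ∃ B : GL (Fin n) F, ∀ g ∈ N, ∃ (j : Fin n) (m : Fin n → F), (∀ k, m k ^ n = 1) ∧
      ∀ i k, ((B : Matrix (Fin n) (Fin n) F) * (g : Matrix (Fin n) (Fin n) F) *
        ((B⁻¹ : GL (Fin n) F) : Matrix (Fin n) (Fin n) F)) i k = if i = k + j then m k else 0 := by
  classical
  haveI := h.neZero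
  obtain ⟨D⟩ := h.exists_nfdata
  refine ⟨D.BcU⁻¹, fun g hg => ?_⟩
  obtain ⟨j, m, hj, hmn, hm⟩ := h.exists_monomial D hg
  refine ⟨⟨j, hj⟩, fun k => m k.val, fun k => hmn k.val, fun i k => ?_⟩
  have hcol : (((D.BcU⁻¹ : GL (Fin n) F) : Matrix (Fin n) (Fin n) F) * (g : Matrix (Fin n) (Fin n) F) *
      (((D.BcU⁻¹)⁻¹ : GL (Fin n) F) : Matrix (Fin n) (Fin n) F)) *ᵥ Pi.single k 1 =
      m k.val • Pi.single (k + ⟨j, hj⟩) 1 := by
    rw [inv_inv, ← Matrix.mulVec_mulVec, ← Matrix.mulVec_mulVec, D.BcU_val, D.Bc_mulVec_single, hm k.val,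
      Matrix.mulVec_smul]
    congr 1
    have hval : (k + (⟨j, hj⟩ : Fin n)).val = (k.val + j) % n := Fin.val_add _ _
    rw [← D.BcU_inv_mulVec_b, hval, D.b_mod]
  have h2 := congrFun hcol i
  rw [Matrix.mulVec_single_one] at h2
  have h3 : (((D.BcU⁻¹ : GL (Fin n) F) : Matrix (Fin n) (Fin n) F) * (g : Matrix (Fin n) (Fin n) F) *
      (((D.BcU⁻¹)⁻¹ : GL (Fin n) F) : Matrix (Fin n) (Fin n) F)) i k =
      (m k.val • (Pi.single (k + ⟨j, hj⟩) 1 : Fin n → F)) i := h2
  rw [h3]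
  simp only [Pi.smul_apply, Pi.single_apply, smul_eq_mul]
  split_ifs <;> simp

end SymHyp

end Cfsg.Agent.Lead.Asch
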