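import Mathlib
import Cfsg.Prelude.Def_GeometricClasses
import Cfsg.Agent.Lead.AschSymC

/-!
# ASCH-PRIME piece P12, part D: `|N| = n ^ 3`
-/

set_option autoImplicit false

namespace Cfsg.Agent.Lead.Asch

open Cfsg Cfsg.Geo
open scoped MatrixGroups Matrix commutatorElement

variable {n : ℕ} {F : Type*} [Field F] [Fintype F]

/-- the parametrisation of the elements of `N` -/
noncomputable def param {N : Subgroup (GL (Fin n) F)} (D : NFData n F N) (t : Fin n × (rootsOfUnity n F) × (rootsOfUnity n F)) :
    (Fin n → F) →ₗ[F] (Fin n → F) :=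
  haveI : NeZero n := ⟨fun h0 => by subst h0; exact Fin.elim0 t.1⟩
  (Module.Basis.constr (basisOfLinearIndependentOfCardEqFinrank D.linearIndependent_b (by simp)) F)
    (fun k : Fin n => ((((t.2.2 : Fˣ) : F) ^ k.val * ((t.2.1 : Fˣ) : F)) • D.b (k.val + t.1.val)))


namespace SymHyp

variable {H N : Subgroup (GL (Fin n) F)}

/-- The coefficients of the monomial form are a geometric progression. -/
theorem exists_monomial_beta (h : SymHyp n F H N) (D : NFData n F N) {g : GL (Fin n) F} (hg : g ∈ N) :
    ∃ (j : ℕ) (a β : F), j < n ∧ a ^ n = 1 ∧ β ^ n = 1 ∧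
      ∀ k, (g : Matrix (Fin n) (Fin n) F) *ᵥ D.b k = (β ^ k * a) • D.b (k + j) := by
  haveI := h.neZero
  obtain ⟨j, m, hj, hmn, hm⟩ := h.exists_monomial D hg
  obtain ⟨β, hβ, hβn⟩ := h.exists_comm_eq hg D.hx
  have hgx : g * D.x = sc n F β * (D.x * g) := by
    rw [← hβ, commutatorElement_def]
    group
  have hβn' : (β : F) ^ n = 1 := by
    rw [← Units.val_pow_eq_pow_val, hβn, Units.val_one]
  have hrec : ∀ k, m (k + 1) = (β : F) * m k := by
    intro k
    have h1 : (g : Matrix (Fin n) (Fin n) F) *ᵥ D.b (k + 1) = ((β : F) * m k) • D.b (k + 1 + j) := by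
      rw [← D.x_b k, twist_mulVec hgx, hm k, Matrix.mulVec_smul, D.x_b, smul_smul]
      congr 2
      omega
    rw [hm (k + 1)] at h1
    have h2 : (m (k + 1) - (β : F) * m k) • D.b (k + 1 + j) = 0 := by
      rw [sub_smul, h1, sub_self]
    rcases smul_eq_zero.1 h2 with h3 | h3
    · exact sub_eq_zero.1 h3
    · exact absurd h3 (D.b_ne_zero _)
  have hform : ∀ k, m k = (β : F) ^ k * m 0 := by
    intro k
    induction k with
    | zero => simp
    | succ k ih => rw [hrec, ih, pow_succ]; ring
  refine ⟨j, m 0, β, hj, hmn 0, hβn', fun k => ?_⟩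
  rw [hm k, hform k]

theorem card_le (h : SymHyp n F H N) : Nat.card N ≤ n ^ 3 := by
  classical
  haveI := h.neZero
  obtain ⟨D⟩ := h.exists_nfdata
  let f : N → (Fin n → F) →ₗ[F] (Fin n → F) := fun g => Matrix.toLin' ((g : GL (Fin n) F) : Matrix (Fin n) (Fin n) F)
  have hf : Function.Injective f := by
    intro g g' hgg
    apply Subtype.ext
    apply Units.ext
    exact Matrix.toLin'.injective hgg
  have hrange : Set.range f ⊆ Set.range (param D) := by
    rintro _ ⟨g, rfl⟩
    obtain ⟨j, a, β, hj, han, hβn, hk⟩ := h.exists_monomial_beta D g.2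
    have ha0 : a ≠ 0 := by
      rintro rfl
      rw [zero_pow (NeZero.ne n)] at han
      exact zero_ne_one han
    have hβ0 : β ≠ 0 := by
      rintro rfl
      rw [zero_pow (NeZero.ne n)] at hβn
      exact zero_ne_one hβn
    refine ⟨(⟨j, hj⟩, ⟨Units.mk0 a ha0, ?_⟩, ⟨Units.mk0 β hβ0, ?_⟩), ?_⟩
    · rw [mem_rootsOfUnity]
      exact Units.ext (by simpa using han)
    · rw [mem_rootsOfUnity]
      exact Units.ext (by simpa using hβn)
    · apply (basisOfLinearIndependentOfCardEqFinrank D.linearIndependent_b (by simp)).ext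
      intro k
      simp only [param, Module.Basis.constr_basis, f]
      rw [coe_basisOfLinearIndependentOfCardEqFinrank, Matrix.toLin'_apply, hk k.val]
      simp
  have h1 : Nat.card N = (Set.range f).ncard := by
    rw [← Set.image_univ, Set.ncard_image_of_injective _ hf, Set.ncard_univ]
  have h2 : (Set.range f).ncard ≤ (Set.range (param D)).ncard :=
    Set.ncard_le_ncard hrange (Set.toFinite _)
  have h3 : (Set.range (param D)).ncard ≤ Nat.card (Fin n × (rootsOfUnity n F) × (rootsOfUnity n F)) := by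
    rw [← Set.image_univ]
    calc (param D '' Set.univ).ncard ≤ (Set.univ : Set (Fin n × (rootsOfUnity n F) × (rootsOfUnity n F))).ncard :=
          Set.ncard_image_le (Set.toFinite _)
      _ = _ := Set.ncard_univ _
  have h4 : Nat.card (Fin n × (rootsOfUnity n F) × (rootsOfUnity n F)) ≤ n ^ 3 := by
    rw [Nat.card_prod, Nat.card_prod, Nat.card_fin]
    have := card_rootsOfUnity F n
    calc n * (Nat.card (rootsOfUnity n F) * Nat.card (rootsOfUnity n F)) ≤ n * (n * n) :=
          Nat.mul_le_mul_left _ (Nat.mul_le_mul this this)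
      _ = n ^ 3 := by ring
  omega

theorem card_eq (h : SymHyp n F H N) : Nat.card N = n ^ 3 := by
  haveI : Fact n.Prime := ⟨h.prime⟩
  apply le_antisymm h.card_le
  obtain ⟨a, ha⟩ := IsPGroup.iff_card.1 h.isPGroup
  have h1 : Nat.card (Subgroup.center N) * (Subgroup.center N).index = Nat.card N :=
    Subgroup.card_mul_index _
  rw [h.card_center] at h1
  have h2 := h.index_center_gt
  have hn2 := h.prime.two_le
  rw [ha]
  apply Nat.pow_le_pow_right h.prime.pos
  by_contra hlt
  push_neg at hlt
  have h3 : n ^ a ≤ n ^ 2 := Nat.pow_le_pow_right h.prime.pos (by omega)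
  have h4 : n * (Subgroup.center N).index ≤ n ^ 2 := by rw [h1, ha]; exact h3
  have h5 : n * (Subgroup.center N).index ≤ n * n := by rw [← sq]; exact h4
  have := Nat.le_of_mul_le_mul_left h5 h.prime.pos
  omega

end SymHyp

end Cfsg.Agent.Lead.Asch
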