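import Mathlib
import Cfsg.Prelude.Def_GeometricClasses
import Cfsg.Agent.Lead.AschSymD

/-!
# ASCH-PRIME piece P12, part E: symplectic type, and the final case distinction (hypothesis form)
-/

set_option autoImplicit false

namespace Cfsg.Agent.Lead.Asch

open Cfsg Cfsg.Geo
open scoped MatrixGroups Matrix commutatorElement

variable {n : ℕ} {F : Type*} [Field F] [Fintype F]

theorem isCyclic_scalars : IsCyclic (scalars (Fin n) F) := by
  have : Function.Surjective (sc n F).rangeRestrict := (sc n F).rangeRestrict_surjective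
  exact isCyclic_of_surjective _ this

namespace SymHyp

variable {H N : Subgroup (GL (Fin n) F)}

/-- conjugation by an element of `H` as an automorphism of `N` -/
def conjEquiv (h : SymHyp n F H N) {g : GL (Fin n) F} (hg : g ∈ H) : N ≃* N where
  toFun x := ⟨g * x * g⁻¹, h.nz g hg x x.2⟩
  invFun x := ⟨g⁻¹ * x * g, by simpa using h.nz g⁻¹ (H.inv_mem hg) x x.2⟩
  left_inv x := by
    apply Subtype.ext
    simp [mul_assoc]
  right_inv x := by
    apply Subtype.ext
    simp [mul_assoc]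
  map_mul' x y := by
    apply Subtype.ext
    simp [mul_assoc]

theorem cyclic_of_characteristic (h : SymHyp n F H N) (A : Subgroup N) (hA : A.Characteristic)
    (hc : IsMulCommutative A) : IsCyclic A := by
  have hA' : Nzes H (A.map N.subtype) := by
    rintro g hg _ ⟨a, ha, rfl⟩
    have hfix := (Subgroup.characteristic_iff_map_eq.1 hA) (h.conjEquiv hg)
    have hmem : (h.conjEquiv hg) a ∈ A := by
      rw [← hfix]
      exact Subgroup.mem_map_of_mem _ ha
    exact ⟨_, hmem, rfl⟩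
  have hle : A.map N.subtype ≤ N := by
    rintro _ ⟨a, -, rfl⟩
    exact a.2
  have hsc : A.map N.subtype ≤ scalars (Fin n) F := by
    by_contra hns
    have hAN := h.hmin _ hle hA' hns
    apply h.not_comm
    intro a b
    have ha : a ∈ A := by
      have : (a : GL (Fin n) F) ∈ A.map N.subtype := by rw [hAN]; exact a.2
      obtain ⟨a', ha', haa⟩ := this
      have : a' = a := Subtype.ext haa
      rwa [← this]
    have hb : b ∈ A := by
      have : (b : GL (Fin n) F) ∈ A.map N.subtype := by rw [hAN]; exact b.2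
      obtain ⟨b', hb', hbb⟩ := this
      have : b' = b := Subtype.ext hbb
      rwa [← this]
    have := hc.is_comm.comm (⟨a, ha⟩ : A) ⟨b, hb⟩
    exact congrArg Subtype.val this
  haveI := isCyclic_scalars (n := n) (F := F)
  let f : A →* scalars (Fin n) F :=
    { toFun := fun a => ⟨((a : N) : GL (Fin n) F), hsc ⟨a, a.2, rfl⟩⟩
      map_one' := rfl
      map_mul' := fun _ _ => rfl }
  have hf : Function.Injective f := by
    intro a b hab
    apply Subtype.ext
    apply Subtype.ext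
    exact congrArg (fun z : scalars (Fin n) F => (z : GL (Fin n) F)) hab
  exact isCyclic_of_injective f hf

theorem symplecticType (h : SymHyp n F H N) : IsSymplecticTypeGroup n N where
  prime := h.prime
  pGroup := h.isPGroup
  cyclic_of_characteristic := h.cyclic_of_characteristic
  exponent_eq := by
    rw [h.exponent_eq]
    have : Nat.gcd 2 n = 1 := by
      rw [Nat.coprime_primes Nat.prime_two h.prime |>.2 (Ne.symm h.ne_two)]
    rw [this, mul_one]

/-- `F` contains an element of multiplicative order `n`. -/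
theorem dvd_card_sub_one (h : SymHyp n F H N) : n ∣ Fintype.card F - 1 := by
  classical
  obtain ⟨D⟩ := h.exists_nfdata
  have hμ : IsPrimitiveRoot D.μ n := IsPrimitiveRoot.coe_units_iff.1 D.hμ
  have h1 : orderOf D.μ = n := hμ.eq_orderOf.symm
  rw [← h1, ← Fintype.card_units]
  exact orderOf_dvd_card

theorem realisable (h : SymHyp n F H N) (F₀ : Subfield F) (hF₀ : ∀ a : F, a ^ n = 1 → a ∈ F₀) :
    RealisableOver F₀ (matrixSet N) := by
  obtain ⟨B, hB⟩ := h.exists_normal_form
  refine ⟨B, ?_⟩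
  intro s hs i k
  obtain ⟨g, hg, rfl⟩ := mem_matrixSet_iff.1 hs
  obtain ⟨j, m, hm, hentry⟩ := hB g hg
  rw [hentry]
  split_ifs
  · exact hF₀ _ (hm k)
  · exact F₀.zero_mem

end SymHyp

/-- The symplectic-type case, with the three external inputs (subfield exit, unitary exit and the two field
lemmas) as hypotheses. -/
theorem symplectic_type_case_of (hn : n.Prime) (hn2 : n ≠ 2) {H N : Subgroup (GL (Fin n) F)}
    (hsub : ∀ F₀ : Subfield F, F₀ ≠ ⊤ → RealisableOver F₀ (matrixSet N) →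
      ∃ (F₁ : Subfield F) (r : ℕ) (Pm : GL (Fin n) F), r.Prime ∧ Fintype.card F = Nat.card F₁ ^ r ∧
        H ≤ subfieldSubgroup F₁ Pm)
    (huni : ∀ (σ : F ≃+* F) (f : (Fin n → F) → (Fin n → F) → F), IsUnitaryForm σ f →
      FixesForm (matrixSet N) f → H ≤ similarityGroup f)
    (hE2 : ∀ {p e d : ℕ}, p.Prime → CharP F p → Fintype.card F = p ^ e → 0 < d → d < e → n ∣ p ^ d - 1 →
      ∃ F₀ : Subfield F, F₀ ≠ ⊤ ∧ ∀ a : F, a ^ n = 1 → a ∈ F₀)
    (hE3 : ∀ (B : GL (Fin n) F), (∀ g ∈ N, ∃ (j : Fin n) (m : Fin n → F), (∀ k, m k ^ n = 1) ∧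
        ∀ i k, ((B : Matrix (Fin n) (Fin n) F) * (g : Matrix (Fin n) (Fin n) F) *
          ((B⁻¹ : GL (Fin n) F) : Matrix (Fin n) (Fin n) F)) i k = if i = k + j then m k else 0) →
      ∀ {p k : ℕ}, p.Prime → CharP F p → Fintype.card F = p ^ (2 * k) → 0 < k → n ∣ p ^ k + 1 →
      ∃ (σ : F ≃+* F) (f : (Fin n → F) → (Fin n → F) → F), IsUnitaryForm σ f ∧ FixesForm (matrixSet N) f)
    (hNH : N ≤ H) (hnz : Nzes H N) (hns : ¬ N ≤ scalars (Fin n) F)
    (hall : ∀ M : Subgroup (GL (Fin n) F), M ≤ H → Nzes H M →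
      M ≤ scalars (Fin n) F ∨ ActsAbsolutelyIrreducibly (matrixSet M))
    (hmin : ∀ M : Subgroup (GL (Fin n) F), M ≤ N → Nzes H M → ¬ M ≤ scalars (Fin n) F → M = N)
    (hcomm : ⁅N, N⁆ ≤ scalars (Fin n) F) :
    IsLinearSymplecticTypeData n N ∨
    (∃ (F₁ : Subfield F) (r : ℕ) (Pm : GL (Fin n) F), r.Prime ∧ Fintype.card F = Nat.card F₁ ^ r ∧
      H ≤ subfieldSubgroup F₁ Pm) ∨
    (∃ (σ : F ≃+* F) (f : (Fin n → F) → (Fin n → F) → F), IsUnitaryForm σ f ∧ H ≤ similarityGroup f) := by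
  have h : SymHyp n F H N :=
    ⟨hn, hn2, hNH, hnz, hns, (hall N hNH hnz).resolve_left hns, hmin, hcomm⟩
  obtain ⟨p, hchar⟩ := CharP.exists F
  obtain ⟨e, hp, hcard⟩ := FiniteField.card F p
  have hdvd : n ∣ p ^ (e : ℕ) - 1 := by
    rw [← hcard]
    exact h.dvd_card_sub_one
  have hnp : n ≠ p := by
    rintro rfl
    have h1 : n ∣ n ^ (e : ℕ) := dvd_pow_self n e.ne_zero
    have h2 : 1 ≤ n ^ (e : ℕ) := Nat.one_le_pow _ _ hn.pos
    have h3 : n ∣ 1 := by
      have := (Nat.dvd_sub h1 hdvd)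
      rwa [Nat.sub_sub_self h2] at this
    exact hn.one_lt.ne' (Nat.dvd_one.1 h3)
  by_cases hminf : ∀ d : ℕ, 0 < d → d < (e : ℕ) → ¬ n ∣ p ^ d - 1
  · by_cases he : Odd (e : ℕ)
    · left
      refine ⟨h.symplecticType, h.abs, p, e, hnp, ?_, Or.inl ⟨hn.odd_of_ne_two hn2, he, h.card_center, 1, le_refl 1, ?_⟩⟩
      · rw [h.card_center]
        exact ⟨hp, hchar, hcard, hdvd, hminf⟩
      · rw [h.card_eq]
    · right; right
      rw [Nat.not_odd_iff_even] at he
      obtain ⟨k, hk⟩ := he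
      have hk2 : (e : ℕ) = 2 * k := by omega
      have hk0 : 0 < k := by
        have := e.pos
        omega
      have hnk : ¬ n ∣ p ^ k - 1 := hminf k hk0 (by omega)
      have hfac : p ^ (e : ℕ) - 1 = (p ^ k - 1) * (p ^ k + 1) := by
        rw [hk2, pow_mul']
        have h1 : 1 ≤ p ^ k := Nat.one_le_pow _ _ hp.pos
        zify [h1, Nat.one_le_pow 2 (p ^ k) (by omega)]
        ring
      rw [hfac] at hdvd
      have hdvd' : n ∣ p ^ k + 1 := (hn.dvd_mul.1 hdvd).resolve_left hnk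
      obtain ⟨B, hB⟩ := h.exists_normal_form
      obtain ⟨σ, f, hf, hfix⟩ := hE3 B hB hp hchar (by rw [hcard, hk2]) hk0 hdvd'
      exact ⟨σ, f, hf, huni σ f hf hfix⟩
  · right; left
    push_neg at hminf
    obtain ⟨d, hd0, hde, hdd⟩ := hminf
    obtain ⟨F₀, hF₀, hroots⟩ := hE2 hp hchar hcard hd0 hde hdd
    exact hsub F₀ hF₀ (h.realisable F₀ hroots)

end Cfsg.Agent.Lead.Asch
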