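import Mathlib
import Cfsg.Prelude.Def_GeometricClasses
import Cfsg.Agent.Lead.AschBase
import Cfsg.Agent.Lead.AschSymE
import Cfsg.Agent.Helper3.AschForms
import Cfsg.Agent.Helper5.AschCl3
import Cfsg.Agent.Helper5.AschField
import Cfsg.Agent.Helper6.AschSub
import Cfsg.Agent.Helper7.AschNotSLA
import Cfsg.Agent.Helper7.AschNotSLB
import Cfsg.Agent.Helper7.AschC2
import Cfsg.Agent.Helper9.AschSchur

/-!
# ASCH-PRIME: Aschbacher's theorem for `SL_n(F)`, `n` an odd prime (assembly; `perfect_case` as a hypothesis)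
-/

set_option autoImplicit false

namespace Cfsg.Agent.Lead.Asch

open Cfsg Cfsg.Geo
open scoped MatrixGroups Matrix

variable {n : ℕ} {F : Type*} [Field F]

/-- The statement of the piece `perfect_case` (P8). -/
def PerfectCase (n : ℕ) (F : Type*) [Field F] : Prop :=
  ∀ {H N : Subgroup (GL (Fin n) F)}, N ≤ H → Nzes H N → ¬ N ≤ scalars (Fin n) F →
    (∀ M : Subgroup (GL (Fin n) F), M ≤ H → Nzes H M →
      M ≤ scalars (Fin n) F ∨ ActsAbsolutelyIrreducibly (matrixSet M)) →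
    (∀ M : Subgroup (GL (Fin n) F), M ≤ N → Nzes H M → ¬ M ≤ scalars (Fin n) F → M = N) →
    ⁅N, N⁆ = N →
    IsSimpleGroup (N ⧸ (scalars (Fin n) F).subgroupOf N) ∧
    ¬ IsMulCommutative (N ⧸ (scalars (Fin n) F).subgroupOf N) ∧
    (∀ h ∈ H, (∀ x ∈ N, h * x * h⁻¹ * x⁻¹ ∈ scalars (Fin n) F) → h ∈ scalars (Fin n) F)

theorem symplectic_type_case [Fintype F] (hn : n.Prime) (hn2 : n ≠ 2) {H N : Subgroup (GL (Fin n) F)}
    (hNH : N ≤ H) (hnz : Nzes H N) (hns : ¬ N ≤ scalars (Fin n) F)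
    (hall : ∀ M : Subgroup (GL (Fin n) F), M ≤ H → Nzes H M →
      M ≤ scalars (Fin n) F ∨ ActsAbsolutelyIrreducibly (matrixSet M))
    (hmin : ∀ M : Subgroup (GL (Fin n) F), M ≤ N → Nzes H M → ¬ M ≤ scalars (Fin n) F → M = N)
    (hcomm : ⁅N, N⁆ ≤ scalars (Fin n) F) :
    IsLinearSymplecticTypeData n N ∨
    (∃ (F₁ : Subfield F) (r : ℕ) (Pm : GL (Fin n) F), r.Prime ∧ Fintype.card F = Nat.card F₁ ^ r ∧
      H ≤ subfieldSubgroup F₁ Pm) ∨
    (∃ (σ : F ≃+* F) (f : (Fin n → F) → (Fin n → F) → F), IsUnitaryForm σ f ∧ H ≤ similarityGroup f) := by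
  have hNabs : ActsAbsolutelyIrreducibly (matrixSet N) := (hall N hNH hnz).resolve_left hns
  exact symplectic_type_case_of hn hn2
    (fun F₀ h0 hr => Cfsg.Agent.Helper6.Asch.subfield_case hn.two_le hnz hNabs F₀ h0 hr)
    (fun σ f hf hfix => Cfsg.Agent.Helper3.Asch.le_similarityGroup_unitary hnz hNabs σ f hf hfix)
    (fun hp hchar hcard hd0 hde hdvd =>
      Cfsg.Agent.Helper5.Asch.exists_subfield_of_not_minimal hp hchar hcard hd0 hde hdvd)
    (fun B hB _ _ hp hchar hcard hk hdvd =>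
      Cfsg.Agent.Helper5.Asch.exists_unitary_of_normal_form B hB hp hchar hcard hk hdvd)
    hNH hnz hns hall hmin hcomm



/-- Aschbacher's theorem for `SL_n(F)`, `n` an odd prime, generic form. -/
theorem asch_prime [Fintype F] (hperfect : PerfectCase n F) (hn : n.Prime) (hn2 : n ≠ 2) (H : Subgroup (GL (Fin n) F))
    (hH : IsMaximalIn (specialLinear (Fin n) F) H) :
    (∃ W : Submodule F (Fin n → F), W ≠ ⊥ ∧ W ≠ ⊤ ∧ H = subspaceStabilizer W ⊓ specialLinear (Fin n) F) ∨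
    (5 ≤ Fintype.card F ∧ ∃ D : Fin n → Submodule F (Fin n → F), IsMDecomposition 1 D ∧
      H = decompositionStabilizer D ⊓ specialLinear (Fin n) F) ∨
    (∃ K : Subalgebra F (Matrix (Fin n) (Fin n) F), IsFieldSubalgebra n K ∧
      H = subalgebraNormalizer K ⊓ specialLinear (Fin n) F) ∨
    (∃ (F₀ : Subfield F) (r : ℕ) (P : GL (Fin n) F), r.Prime ∧ Fintype.card F = Nat.card F₀ ^ r ∧
      H = subfieldSubgroup F₀ P ⊓ specialLinear (Fin n) F) ∨
    (∃ R : Subgroup (GL (Fin n) F), IsLinearSymplecticTypeData n R ∧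
      H = subgroupNormalizer R ⊓ specialLinear (Fin n) F) ∨
    (Odd (Fintype.card F) ∧ ∃ Q : (Fin n → F) → F, IsNondegenerateQuadraticForm Q ∧
      H = quadSimilarityGroup Q ⊓ specialLinear (Fin n) F) ∨
    (∃ (σ : F ≃+* F) (f : (Fin n → F) → (Fin n → F) → F), IsUnitaryForm σ f ∧
      H = similarityGroup f ⊓ specialLinear (Fin n) F) ∨
    InLinearResidualClass H := by
  have hn3 : 3 ≤ n := by
    have := hn.two_le
    omega
  have hnodd : Odd n := hn.odd_of_ne_two hn2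
  have hHG : H ≤ specialLinear (Fin n) F := hH.1.le
  -- the three form/subfield exits, reused several times
  have exitSub : (∃ (F₁ : Subfield F) (r : ℕ) (Pm : GL (Fin n) F), r.Prime ∧
      Fintype.card F = Nat.card F₁ ^ r ∧ H ≤ subfieldSubgroup F₁ Pm) →
      (∃ (F₀ : Subfield F) (r : ℕ) (P : GL (Fin n) F), r.Prime ∧ Fintype.card F = Nat.card F₀ ^ r ∧
        H = subfieldSubgroup F₀ P ⊓ specialLinear (Fin n) F) := by
    rintro ⟨F₁, r, Pm, hr, hc, hle⟩
    exact ⟨F₁, r, Pm, hr, hc, eq_inf_of_le hH hle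
      (Cfsg.Agent.Helper7.Asch.not_le_subfieldSubgroup (by omega) F₁ (subfield_ne_top_of_card F₁ r hr hc) Pm)⟩
  have exitU : (∃ (σ : F ≃+* F) (f : (Fin n → F) → (Fin n → F) → F), IsUnitaryForm σ f ∧
      H ≤ similarityGroup f) →
      (∃ (σ : F ≃+* F) (f : (Fin n → F) → (Fin n → F) → F), IsUnitaryForm σ f ∧
        H = similarityGroup f ⊓ specialLinear (Fin n) F) := by
    rintro ⟨σ, f, hf, hle⟩
    exact ⟨σ, f, hf, eq_inf_of_le hH hle (Cfsg.Agent.Helper7.Asch.not_le_similarityGroup_unitary hn3 σ f hf)⟩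
  have exitQ : (Odd (Fintype.card F) ∧ ∃ Q : (Fin n → F) → F, IsNondegenerateQuadraticForm Q ∧
      H ≤ quadSimilarityGroup Q) →
      (Odd (Fintype.card F) ∧ ∃ Q : (Fin n → F) → F, IsNondegenerateQuadraticForm Q ∧
        H = quadSimilarityGroup Q ⊓ specialLinear (Fin n) F) := by
    rintro ⟨ho, Q, hQ, hle⟩
    exact ⟨ho, Q, hQ, eq_inf_of_le hH hle (Cfsg.Agent.Helper7.Asch.not_le_quadSimilarityGroup hn3 Q hQ)⟩
  have exitW : (∃ W : Submodule F (Fin n → F), W ≠ ⊥ ∧ W ≠ ⊤ ∧ H ≤ subspaceStabilizer W) →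
      (∃ W : Submodule F (Fin n → F), W ≠ ⊥ ∧ W ≠ ⊤ ∧
        H = subspaceStabilizer W ⊓ specialLinear (Fin n) F) := by
    rintro ⟨W, h0, h1, hle⟩
    exact ⟨W, h0, h1, eq_inf_of_le hH hle (Cfsg.Agent.Helper7.Asch.not_le_subspaceStabilizer (by omega) W h0 h1)⟩
  -- Step 1: reducible
  by_cases hirr : ActsIrreducibly (matrixSet H)
  swap
  · exact Or.inl (exitW (exists_stab_of_not_irred hirr))
  -- Step 2: imprimitive
  by_cases hC2 : ∃ D : Fin n → Submodule F (Fin n → F), IsMDecomposition 1 D ∧ H ≤ decompositionStabilizer D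
  · obtain ⟨D, hD, hle⟩ := hC2
    by_cases hq : 5 ≤ Fintype.card F
    · exact Or.inr (Or.inl ⟨hq, D, hD, eq_inf_of_le hH hle (Cfsg.Agent.Helper7.Asch.not_le_decompositionStabilizer hn3 D hD)⟩)
    · rcases Cfsg.Agent.Helper7.Asch.c2_small (by omega) D hD (by omega) with ⟨W, h0, h1, hW⟩ | ⟨ho, Q, hQ, hQle⟩ | ⟨σ, f, hf, hfle⟩
      · exact Or.inl (exitW ⟨W, h0, h1, hle.trans hW⟩)
      · exact Or.inr (Or.inr (Or.inr (Or.inr (Or.inr (Or.inl (exitQ ⟨ho, Q, hQ, hle.trans hQle⟩))))))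
      · exact Or.inr (Or.inr (Or.inr (Or.inr (Or.inr (Or.inr (Or.inl (exitU ⟨σ, f, hf, hle.trans hfle⟩)))))))
  -- Step 3: extension field
  by_cases hC3 : ∃ K : Subalgebra F (Matrix (Fin n) (Fin n) F), IsFieldSubalgebra n K ∧ H ≤ subalgebraNormalizer K
  · obtain ⟨K, hK, hle⟩ := hC3
    exact Or.inr (Or.inr (Or.inl ⟨K, hK, eq_inf_of_le hH hle (Cfsg.Agent.Helper7.Asch.not_le_subalgebraNormalizer hn3 K hK)⟩))
  -- Step 4: all normal subgroups are scalar or absolutely irreducible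
  have hall : ∀ M : Subgroup (GL (Fin n) F), M ≤ H → Nzes H M →
      M ≤ scalars (Fin n) F ∨ ActsAbsolutelyIrreducibly (matrixSet M) := by
    intro M hMH hMnz
    rcases Cfsg.Agent.Helper5.Asch.clifford_prime hn hirr hMH hMnz with h | h | h
    · exact absurd h hC2
    · exact Or.inl h
    · rcases Cfsg.Agent.Helper9.Asch.schur_prime hn h hMnz with h' | h'
      · exact Or.inr h'
      · exact absurd h' hC3
  have hHns : ¬ H ≤ scalars (Fin n) F := not_le_scalars_of_irred (by omega) hirr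
  obtain ⟨N, hNH, hNnz, hNns, hmin⟩ := exists_minimal hHns
  have hNabs : ActsAbsolutelyIrreducibly (matrixSet N) := (hall N hNH hNnz).resolve_left hNns
  by_cases hperf : ⁅N, N⁆ = N
  · -- perfect case
    obtain ⟨hsimp, hnab, hcent⟩ := hperfect hNH hNnz hNns hall hmin hperf
    by_cases hsub : ∃ F₀ : Subfield F, F₀ ≠ ⊤ ∧ RealisableOver F₀ (matrixSet N)
    · obtain ⟨F₀, h0, hr⟩ := hsub
      exact Or.inr (Or.inr (Or.inr (Or.inl (exitSub (Cfsg.Agent.Helper6.Asch.subfield_case (by omega) hNnz hNabs F₀ h0 hr)))))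
    by_cases hQ : ∃ Q : (Fin n → F) → F, IsNondegenerateQuadraticForm Q ∧ FixesQuadForm (matrixSet N) Q
    · obtain ⟨Q, hQ, hfix⟩ := hQ
      by_cases ho : Odd (Fintype.card F)
      · exact Or.inr (Or.inr (Or.inr (Or.inr (Or.inr (Or.inl
          (exitQ ⟨ho, Q, hQ, Cfsg.Agent.Helper3.Asch.le_quadSimilarityGroup hNnz hNabs ho Q hQ hfix⟩))))))
      · exact absurd hQ (Cfsg.Agent.Helper3.Asch.no_quadratic_of_odd_of_even hnodd ho Q)
    by_cases hU : ∃ (σ : F ≃+* F) (f : (Fin n → F) → (Fin n → F) → F), IsUnitaryForm σ f ∧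
        FixesForm (matrixSet N) f
    · obtain ⟨σ, f, hf, hfix⟩ := hU
      exact Or.inr (Or.inr (Or.inr (Or.inr (Or.inr (Or.inr (Or.inl
        (exitU ⟨σ, f, hf, Cfsg.Agent.Helper3.Asch.le_similarityGroup_unitary hNnz hNabs σ f hf hfix⟩)))))))
    · refine Or.inr (Or.inr (Or.inr (Or.inr (Or.inr (Or.inr (Or.inr ⟨N, ?_, hQ, ?_, hU⟩))))))
      · exact
          { le := hNH
            normal := hNnz
            perfect := hperf
            simple := hsimp
            nonabelian := hnab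
            centralizer_scalar := hcent
            absIrred := hNabs
            no_subfield := fun F₀ h0 hr => hsub ⟨F₀, h0, hr⟩ }
      · rintro ⟨f, hf, -⟩
        exact Cfsg.Agent.Helper3.Asch.no_symplectic_of_odd hnodd f hf
  · -- symplectic-type case
    have hcomm : ⁅N, N⁆ ≤ scalars (Fin n) F := by
      by_contra hc
      exact hperf (hmin _ (Subgroup.commutator_le_self N) (nzes_commutator hNnz) hc)
    rcases symplectic_type_case hn hn2 hNH hNnz hNns hall hmin hcomm with h | h | h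
    · exact Or.inr (Or.inr (Or.inr (Or.inr (Or.inl ⟨N, h, eq_inf_of_le hH (le_subgroupNormalizer hNnz)
        (Cfsg.Agent.Helper7.Asch.not_le_normalizer_of_solvable hn3 N (hNH.trans hHG) (solvable_of_commutator_le_scalars hcomm) hNns)⟩))))
    · exact Or.inr (Or.inr (Or.inr (Or.inl (exitSub h))))
    · exact Or.inr (Or.inr (Or.inr (Or.inr (Or.inr (Or.inr (Or.inl (exitU h)))))))



end Cfsg.Agent.Lead.Asch
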