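import Mathlib
import Cfsg.Prelude.Def_GeometricClasses
import Cfsg.Agent.Lead.AschBase

/-!
# ASCH-PRIME-O: Aschbacher's theorem for `Ω_n(q)`, `n` an odd prime, `q` odd: shared definitions
-/

set_option autoImplicit false

namespace Cfsg.Agent.Lead.AschO

open Cfsg Cfsg.Geo Cfsg.Agent.Lead.Asch
open scoped MatrixGroups Matrix commutatorElement

/-- The conclusion of Aschbacher's theorem for a subgroup `H` of the isometry group of `Q` in odd prime dimension `n`
(with `≤` instead of `= · ⊓ Ω`). -/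
def OConcl (n : ℕ) {ι : Type} [Fintype ι] [DecidableEq ι] {F : Type*} [Field F] [Fintype F]
    (Q : (ι → F) → F) (H : Subgroup (GL ι F)) : Prop :=
  (∃ W : Submodule F (ι → F), W ≠ ⊥ ∧ IsTotallySingularQuad Q W ∧ H ≤ subspaceStabilizer W) ∨
  (∃ W : Submodule F (ι → F), W ≠ ⊥ ∧ Even (Module.finrank F W) ∧
      IsNondegenerateOn (QuadraticMap.polar Q) W ∧
      ¬ (Fintype.card F = 3 ∧ Module.finrank F W = 2 ∧ IsPlusTypeOn Q W) ∧ H ≤ subspaceStabilizer W) ∨
  ((Fintype.card F).Prime ∧ ∃ D : Fin n → Submodule F (ι → F), IsOrthogonalMDecomposition Q 1 D ∧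
      H ≤ decompositionStabilizer D) ∨
  (∃ (F₀ : Subfield F) (r : ℕ) (P : GL ι F), r.Prime ∧ Fintype.card F = Nat.card F₀ ^ r ∧
      IsQuadFormRationalStructure Q F₀ P ∧ H ≤ subfieldSubgroup F₀ P) ∨
  InOrthogonalResidualClass H

/-- The discriminant hypothesis: the determinant of the Gram matrix of the polar form is an integer times a square. -/
def DiscInt {ι : Type} [Fintype ι] [DecidableEq ι] {F : Type*} [Field F] (Q : (ι → F) → F) : Prop :=
  ∃ (k : ℤ) (s : F), (gramMatrix (QuadraticMap.polar Q)).det = (k : F) * s ^ 2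

variable {n : ℕ} {F : Type*} [Field F]

/-- `Q` transported to `Fin n` along a bijection of index types. -/
def reQ {ι : Type} (e : ι ≃ Fin n) (Q : (ι → F) → F) : (Fin n → F) → F := fun v => Q (fun i => v (e i))

theorem eq_inf_of_le' {G₀ : Type*} [Group G₀] {G H X : Subgroup G₀} (hH : IsMaximalIn G H) (hle : H ≤ X)
    (hX : ¬ G ≤ X) : H = X ⊓ G := by
  rcases hH.2 (X ⊓ G) (le_inf hle hH.1.le) inf_le_right with h | h
  · exact h.symm
  · exact absurd (h ▸ inf_le_left) hX

theorem mem_isometryGroup_iff {ι : Type} [Fintype ι] [DecidableEq ι] {Q : (ι → F) → F} {g : GL ι F} :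
    g ∈ isometryGroup F Q ↔ ∀ v, Q ((g : Matrix ι ι F) *ᵥ v) = Q v := by
  constructor
  · intro h v
    exact h v v
  · intro h u v
    exact h u

theorem exists_ne_zero_of_nondegenerate (hn1 : 1 ≤ n) (Q : (Fin n → F) → F)
    (hQ : IsNondegenerateQuadraticForm Q) : ∃ v, Q v ≠ 0 := by
  by_contra hcon
  push Not at hcon
  have i0 : Fin n := ⟨0, by omega⟩
  have hv : (Pi.single i0 (1 : F) : Fin n → F) ≠ 0 := by
    intro h
    have := congrFun h i0
    simp at this
  obtain ⟨⟨w, hw⟩, -⟩ := hQ.nondegenerate _ hv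
  apply hw
  unfold QuadraticMap.polar
  rw [hcon, hcon, hcon]
  ring

/-- O7: no symplectic-type case inside an orthogonal group of odd dimension. -/
theorem abelian_of_commutator_le_scalars (hn : Odd n) (Q : (Fin n → F) → F)
    (hQ : IsNondegenerateQuadraticForm Q) (hn1 : 1 ≤ n)
    {N : Subgroup (GL (Fin n) F)} (hNI : N ≤ isometryGroup F Q)
    (hcomm : ⁅N, N⁆ ≤ scalars (Fin n) F) : ∀ x ∈ N, ∀ y ∈ N, x * y = y * x := by
  intro x hx y hy
  have hmem : ⁅x, y⁆ ∈ ⁅N, N⁆ := Subgroup.commutator_mem_commutator hx hy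
  have hsc := hcomm hmem
  rw [mem_scalars_iff] at hsc
  obtain ⟨c, hc⟩ := hsc
  have hI : ⁅x, y⁆ ∈ isometryGroup F Q := hNI (Subgroup.commutator_le_self N hmem)
  rw [mem_isometryGroup_iff] at hI
  have hc2 : (c : F) ^ 2 = 1 := by
    obtain ⟨v, hv⟩ := exists_ne_zero_of_nondegenerate hn1 Q hQ
    have h1 := hI v
    rw [hc, Matrix.smul_mulVec, Matrix.one_mulVec, hQ.smul] at h1
    have : ((c : F) ^ 2 - 1) * Q v = 0 := by
      rw [sub_mul, h1, one_mul, sub_self]
    rcases mul_eq_zero.1 this with h | h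
    · exact sub_eq_zero.1 h
    · exact absurd h hv
  have hdet : (c : F) ^ n = 1 := by
    have h1 : Matrix.det ((⁅x, y⁆ : GL (Fin n) F) : Matrix (Fin n) (Fin n) F) = 1 := by
      rw [commutatorElement_def]
      simp only [Units.val_mul, Matrix.det_mul]
      have hx1 : Matrix.det (x : Matrix (Fin n) (Fin n) F) *
          Matrix.det ((x⁻¹ : GL (Fin n) F) : Matrix (Fin n) (Fin n) F) = 1 := by
        rw [← Matrix.det_mul, ← Units.val_mul, mul_inv_cancel, Units.val_one, Matrix.det_one]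
      have hy1 : Matrix.det (y : Matrix (Fin n) (Fin n) F) *
          Matrix.det ((y⁻¹ : GL (Fin n) F) : Matrix (Fin n) (Fin n) F) = 1 := by
        rw [← Matrix.det_mul, ← Units.val_mul, mul_inv_cancel, Units.val_one, Matrix.det_one]
      calc _ = (Matrix.det (x : Matrix (Fin n) (Fin n) F) *
              Matrix.det ((x⁻¹ : GL (Fin n) F) : Matrix (Fin n) (Fin n) F)) *
            (Matrix.det (y : Matrix (Fin n) (Fin n) F) *
              Matrix.det ((y⁻¹ : GL (Fin n) F) : Matrix (Fin n) (Fin n) F)) := by ring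
        _ = 1 := by rw [hx1, hy1, one_mul]
    rw [hc, Matrix.det_smul, Matrix.det_one, mul_one, Fintype.card_fin] at h1
    exact h1
  have hc1 : (c : F) = 1 := by
    obtain ⟨k, hk⟩ := hn
    rw [hk, pow_succ, pow_mul, hc2, one_pow, one_mul] at hdet
    exact hdet
  have hone : ⁅x, y⁆ = 1 := by
    apply Units.ext
    rw [hc, hc1, one_smul, Units.val_one]
  exact (commutatorElement_eq_one_iff_mul_comm.1 hone)

end Cfsg.Agent.Lead.AschO
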