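import Mathlib
import Cfsg.Prelude.Def_GeometricClasses
import Cfsg.Agent.Lead.AschBase
import Cfsg.Agent.Lead.AschOBase
import Cfsg.Agent.Helper7.OrthBlkJ
import Cfsg.Agent.Helper6.AschCompCliff

/-!
# ASCH-OM (lead): types of orthogonal sums (pieces M2b, M2c, M2e)
-/

set_option autoImplicit false

namespace Cfsg.Agent.Lead.AschOm

open Cfsg Cfsg.Geo Cfsg.Agent.Lead.Asch Cfsg.Agent.Lead.AschO
open scoped MatrixGroups Matrix commutatorElement

variable {n : ℕ} {F : Type*} [Field F]

theorem quad_zero (Q : (Fin n → F) → F) (hQ : IsNondegenerateQuadraticForm Q) : Q 0 = 0 := by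
  have h := hQ.smul 0 0
  rw [zero_smul] at h
  rw [h]
  ring

theorem quad_add (Q : (Fin n → F) → F) (u v : Fin n → F) :
    Q (u + v) = Q u + Q v + QuadraticMap.polar Q u v := by
  unfold QuadraticMap.polar
  ring

/-- M2c: the blocks of an isometric decomposition have the same type. -/
theorem plus_of_isometric (Q : (Fin n → F) → F) (W W' : Submodule F (Fin n → F))
    (hiso : AreIsometricFor Q W W') (hplus : IsPlusTypeOn Q W) : IsPlusTypeOn Q W' := by
  obtain ⟨e, he⟩ := hiso
  obtain ⟨U, hUW, hUts, hdim⟩ := hplus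
  refine ⟨((U.comap W.subtype).map (e : W →ₗ[F] W')).map W'.subtype, ?_, ?_, ?_⟩
  · intro x hx
    obtain ⟨y, -, rfl⟩ := hx
    exact y.2
  · intro x hx
    obtain ⟨y, hy, rfl⟩ := hx
    obtain ⟨w, hw, rfl⟩ := hy
    have h1 := he w
    have h2 : Q (w : Fin n → F) = 0 := hUts _ hw
    simpa [h2] using h1
  · have h1 : Module.finrank F (((U.comap W.subtype).map (e : W →ₗ[F] W')).map W'.subtype) =
        Module.finrank F (U.comap W.subtype) := by
      rw [Submodule.finrank_map_subtype_eq, LinearEquiv.finrank_map_eq]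
    have h2 : Module.finrank F (U.comap W.subtype) = Module.finrank F U :=
      (Submodule.comapSubtypeEquivOfLe hUW).finrank_eq
    have h3 : Module.finrank F W' = Module.finrank F W := e.finrank_eq.symm
    rw [h1, h2, h3, hdim]

/-- the polar form vanishes on the sum of totally singular subspaces of pairwise orthogonal blocks -/
theorem polar_iSup_eq_zero (Q : (Fin n → F) → F) (hQ : IsNondegenerateQuadraticForm Q) {t : ℕ}
    (D U : Fin t → Submodule F (Fin n → F)) (hUD : ∀ i, U i ≤ D i)
    (horth : ∀ i j, i ≠ j → AreOrthogonalFor (QuadraticMap.polar Q) (D i) (D j))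
    (hts : ∀ i, IsTotallySingularQuad Q (U i)) :
    ∀ x ∈ ⨆ i, U i, ∀ y ∈ ⨆ i, U i, QuadraticMap.polar Q x y = 0 := by
  have hb := hQ.polar_bilinear
  have hp0r : ∀ x, QuadraticMap.polar Q x 0 = 0 := fun x => by
    have := hb.smul_right 0 x 0
    rw [zero_smul, zero_mul] at this
    exact this
  have hp0l : ∀ y, QuadraticMap.polar Q 0 y = 0 := fun y => by
    have := hb.smul_left 0 0 y
    rw [zero_smul, zero_mul] at this
    exact this
  have base : ∀ i, ∀ x ∈ U i, ∀ j, ∀ y ∈ U j, QuadraticMap.polar Q x y = 0 := by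
    intro i x hx j y hy
    by_cases hij : i = j
    · subst hij
      unfold QuadraticMap.polar
      rw [hts i _ ((U i).add_mem hx hy), hts i _ hx, hts i _ hy]
      ring
    · exact horth i j hij x (hUD i hx) y (hUD j hy)
  intro x hx y hy
  induction hx using Submodule.iSup_induction' with
  | mem i x hx =>
    induction hy using Submodule.iSup_induction' with
    | mem j y hy => exact base i x hx j y hy
    | zero => exact hp0r x
    | add y₁ y₂ _ _ h₁ h₂ => rw [hb.add_right, h₁, h₂, add_zero]
  | zero => exact hp0l y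
  | add x₁ x₂ _ _ h₁ h₂ => rw [hb.add_left, h₁, h₂, add_zero]

/-- `Q` vanishes on the sum of totally singular subspaces of pairwise orthogonal blocks -/
theorem quad_iSup_eq_zero (Q : (Fin n → F) → F) (hQ : IsNondegenerateQuadraticForm Q) {t : ℕ}
    (D U : Fin t → Submodule F (Fin n → F)) (hUD : ∀ i, U i ≤ D i)
    (horth : ∀ i j, i ≠ j → AreOrthogonalFor (QuadraticMap.polar Q) (D i) (D j))
    (hts : ∀ i, IsTotallySingularQuad Q (U i)) : IsTotallySingularQuad Q (⨆ i, U i) := by
  have hpol := polar_iSup_eq_zero Q hQ D U hUD horth hts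
  intro x hx
  induction hx using Submodule.iSup_induction' with
  | mem i x hx => exact hts i x hx
  | zero => exact quad_zero Q hQ
  | add x₁ x₂ hx₁ hx₂ h₁ h₂ => rw [quad_add Q x₁ x₂, h₁, h₂, hpol x₁ hx₁ x₂ hx₂]; ring

/-- M2b: a decomposition into pairwise orthogonal blocks of plus type is of plus type. -/
theorem plus_of_plus_blocks (Q : (Fin n → F) → F) (hQ : IsNondegenerateQuadraticForm Q) {t m : ℕ}
    (D : Fin t → Submodule F (Fin n → F)) (hD : IsNondegenerateMDecomposition (QuadraticMap.polar Q) m D)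
    (hplus : ∀ i, IsPlusTypeOn Q (D i)) : IsPlusTypeOn Q ⊤ := by
  choose U hUD hUts hUdim using hplus
  refine ⟨⨆ i, U i, le_top, quad_iSup_eq_zero Q hQ D U hUD hD.orthogonal hUts, ?_⟩
  have hind : iSupIndep U := hD.decomp.indep.mono hUD
  rw [Cfsg.Agent.Helper7.OrthBlk.finrank_iSup_of_indep hind, Finset.mul_sum]
  have h1 : ∀ i ∈ (Finset.univ : Finset (Fin t)), 2 * Module.finrank F (U i) = m := by
    intro i _
    rw [hUdim i, hD.decomp.finrank_eq i]
  rw [Finset.sum_congr rfl h1, Finset.sum_const, Finset.card_univ, Fintype.card_fin, smul_eq_mul,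
    finrank_top, Module.finrank_fin_fun]
  exact Cfsg.Agent.Helper6.AschComp.card_mul_of_isMDecomposition D hD.decomp

/-- the singular vectors of a subspace that is totally singular for the polar form -/
def singSub (Q : (Fin n → F) → F) (hQ : IsNondegenerateQuadraticForm Q) (W : Submodule F (Fin n → F))
    (hW : IsTotallySingularFor (QuadraticMap.polar Q) W) : Submodule F (Fin n → F) where
  carrier := {v | v ∈ W ∧ Q v = 0}
  add_mem' := by
    rintro a b ⟨ha, ha0⟩ ⟨hb, hb0⟩
    refine ⟨W.add_mem ha hb, ?_⟩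
    rw [quad_add Q a b, ha0, hb0, hW a ha b hb]
    ring
  zero_mem' := ⟨W.zero_mem, quad_zero Q hQ⟩
  smul_mem' := by
    rintro c a ⟨ha, ha0⟩
    exact ⟨W.smul_mem c ha, by rw [hQ.smul, ha0, mul_zero]⟩

theorem mem_singSub (Q : (Fin n → F) → F) (hQ : IsNondegenerateQuadraticForm Q) (W : Submodule F (Fin n → F))
    (hW : IsTotallySingularFor (QuadraticMap.polar Q) W) (v : Fin n → F) :
    v ∈ singSub Q hQ W hW ↔ v ∈ W ∧ Q v = 0 := Iff.rfl

/-- a subspace of dimension at least two that is totally singular for the polar form contains a non-zero singular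
vector (finite fields) -/
theorem exists_singular_of_polar_ts [Fintype F] (Q : (Fin n → F) → F) (hQ : IsNondegenerateQuadraticForm Q)
    (W : Submodule F (Fin n → F)) (hW : IsTotallySingularFor (QuadraticMap.polar Q) W)
    (h2 : 2 ≤ Module.finrank F W) : ∃ v ∈ W, v ≠ 0 ∧ Q v = 0 := by
  have hpos : 0 < Module.finrank F W := by omega
  obtain ⟨x, hx0⟩ := Module.finrank_pos_iff_exists_ne_zero.1 hpos
  obtain ⟨y, hxy⟩ := exists_linearIndependent_pair_of_one_lt_finrank (by omega : 1 < Module.finrank F W) hx0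
  have hx0' : (x : Fin n → F) ≠ 0 := fun h => hx0 (Subtype.ext h)
  by_cases h2F : (2 : F) = 0
  · -- characteristic two
    by_cases hQy : Q (y : Fin n → F) = 0
    · refine ⟨y, y.2, ?_, hQy⟩
      intro h
      have hy0 : y = 0 := Subtype.ext h
      have := hxy.ne_zero 1
      simp [hy0] at this
    have hchar : ringChar F = 2 := CharP.ringChar_of_prime_eq_zero Nat.prime_two (by exact_mod_cast h2F)
    obtain ⟨c, hc⟩ := FiniteField.isSquare_of_char_two hchar (Q (x : Fin n → F) / Q (y : Fin n → F))
    refine ⟨(x : Fin n → F) + c • (y : Fin n → F), W.add_mem x.2 (W.smul_mem c y.2), ?_, ?_⟩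
    · intro h
      have h1 : (1 : F) • x + c • y = 0 := by
        apply Subtype.ext
        simpa using h
      have := (LinearIndependent.pair_iff.1 hxy) 1 c h1
      exact one_ne_zero this.1
    · rw [quad_add Q, hQ.smul, hW _ x.2 _ (W.smul_mem c y.2), add_zero]
      have h3 : c ^ 2 * Q (y : Fin n → F) = Q (x : Fin n → F) := by
        rw [pow_two, ← hc]
        field_simp
      rw [h3]
      linear_combination Q (x : Fin n → F) * h2F
  · -- characteristic not two
    refine ⟨x, x.2, hx0', ?_⟩
    have h1 : QuadraticMap.polar Q (x : Fin n → F) x = 0 := hW _ x.2 _ x.2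
    unfold QuadraticMap.polar at h1
    have h3 : (x : Fin n → F) + x = (2 : F) • (x : Fin n → F) := (two_smul F _).symm
    rw [h3, hQ.smul] at h1
    have h4 : (2 : F) * Q (x : Fin n → F) = 0 := by linear_combination h1
    rcases mul_eq_zero.1 h4 with h | h
    · exact absurd h h2F
    · exact h

/-- M2e: two complementary subspaces that are totally singular for the polar form and permuted by an irreducible
group of isometries are totally singular for `Q` (only `q` even needs an argument). -/
theorem plus_of_ts_pair [Fintype F] (Q : (Fin n → F) → F) (hQ : IsNondegenerateQuadraticForm Q)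
    {H : Subgroup (GL (Fin n) F)} (hHI : H ≤ isometryGroup F Q) (hirr : ActsIrreducibly (matrixSet H))
    (m : ℕ) (hm : 2 ≤ m) (D : Fin 2 → Submodule F (Fin n → F)) (hD : IsMDecomposition m D)
    (hts : ∀ i, IsTotallySingularFor (QuadraticMap.polar Q) (D i)) (hle : H ≤ decompositionStabilizer D) :
    IsPlusTypeOn Q ⊤ := by
  have hSD : ∀ i, singSub Q hQ (D i) (hts i) ≤ D i := fun i x hx => hx.1
  have hinv : ∀ s ∈ matrixSet H, (⨆ i, singSub Q hQ (D i) (hts i)).map (Matrix.toLin' s) ≤
      ⨆ i, singSub Q hQ (D i) (hts i) := by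
    rintro s ⟨g, hg, rfl⟩
    obtain ⟨σ, hσ⟩ := hle hg
    have hgI := mem_isometryGroup_iff.1 (hHI hg)
    rw [Submodule.map_iSup]
    refine iSup_le fun i => ?_
    refine le_trans ?_ (le_iSup (fun i => singSub Q hQ (D i) (hts i)) (σ i))
    rintro x ⟨y, hy, rfl⟩
    refine ⟨?_, ?_⟩
    · rw [← hσ i]
      exact Submodule.mem_map_of_mem hy.1
    · rw [Matrix.toLin'_apply, hgI]
      exact hy.2
  rcases hirr _ hinv with hbot | htop
  · exfalso
    have hS0 : singSub Q hQ (D 0) (hts 0) = ⊥ :=
      eq_bot_iff.2 (hbot ▸ le_iSup (fun i => singSub Q hQ (D i) (hts i)) 0)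
    obtain ⟨v, hv, hv0, hQv⟩ := exists_singular_of_polar_ts Q hQ (D 0) (hts 0) (by rw [hD.finrank_eq 0]; exact hm)
    have : v ∈ singSub Q hQ (D 0) (hts 0) := ⟨hv, hQv⟩
    rw [hS0] at this
    exact hv0 ((Submodule.mem_bot F).1 this)
  · have h0 : D 0 ≤ singSub Q hQ (D 0) (hts 0) := by
      intro v hv
      have hvS : v ∈ ⨆ i, singSub Q hQ (D i) (hts i) := htop ▸ Submodule.mem_top
      have hsup : (⨆ i, singSub Q hQ (D i) (hts i)) =
          singSub Q hQ (D 0) (hts 0) ⊔ singSub Q hQ (D 1) (hts 1) := by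
        apply le_antisymm
        · refine iSup_le fun i => ?_
          fin_cases i
          · exact le_sup_left
          · exact le_sup_right
        · exact sup_le (le_iSup (fun i => singSub Q hQ (D i) (hts i)) 0)
            (le_iSup (fun i => singSub Q hQ (D i) (hts i)) 1)
      rw [hsup] at hvS
      obtain ⟨a, ha, b, hb, rfl⟩ := Submodule.mem_sup.1 hvS
      have hbD0 : b ∈ D 0 := by
        have := (D 0).sub_mem hv (hSD 0 ha)
        simpa using this
      have hdisj : Disjoint (D 0) (D 1) := hD.indep.pairwiseDisjoint (by decide : (0 : Fin 2) ≠ 1)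
      have hb0 : b = 0 := by
        have : b ∈ D 0 ⊓ D 1 := ⟨hbD0, hSD 1 hb⟩
        rw [hdisj.eq_bot] at this
        exact (Submodule.mem_bot F).1 this
      rw [hb0, add_zero]
      exact ha
    refine ⟨D 0, le_top, fun w hw => (h0 hw).2, ?_⟩
    rw [hD.finrank_eq 0, finrank_top, Module.finrank_fin_fun]
    exact Cfsg.Agent.Helper6.AschComp.card_mul_of_isMDecomposition D hD

end Cfsg.Agent.Lead.AschOm
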