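import Mathlib
import Cfsg.Prelude.Def_GeometricClasses
import Cfsg.Agent.Lead.AschBase
import Cfsg.Agent.Lead.AschOBase
import Cfsg.Agent.Lead.AschOmA
import Cfsg.Agent.Helper7.OrthMaxC

/-!
# ASCH-OM (lead): the interface between a quadratic form given as a function and Mathlib's `QuadraticForm`;
Siegel transformations in `Ω(Q)` as matrices
-/

set_option autoImplicit false

namespace Cfsg.Agent.Lead.AschOm

open Cfsg Cfsg.Geo Cfsg.Agent.Lead.Asch Cfsg.Agent.Lead.AschO
open scoped MatrixGroups Matrix commutatorElement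

variable {n : ℕ} {F : Type*} [Field F]

/-- the Mathlib quadratic form of a function satisfying `IsNondegenerateQuadraticForm` -/
noncomputable def toQF {ι : Type} [Fintype ι] [DecidableEq ι] (Q : (ι → F) → F)
    (hQ : IsNondegenerateQuadraticForm Q) : QuadraticForm F (ι → F) :=
  QuadraticMap.ofPolar Q
    (by
      intro a x
      rw [hQ.smul, smul_eq_mul, pow_two])
    (by
      intro x x' y
      exact hQ.polar_bilinear.add_left x x' y)
    (by
      intro a x y
      rw [hQ.polar_bilinear.smul_left, smul_eq_mul])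

@[simp] theorem toQF_apply {ι : Type} [Fintype ι] [DecidableEq ι] (Q : (ι → F) → F)
    (hQ : IsNondegenerateQuadraticForm Q) (v : ι → F) : toQF Q hQ v = Q v := rfl

theorem toQF_coe {ι : Type} [Fintype ι] [DecidableEq ι] (Q : (ι → F) → F)
    (hQ : IsNondegenerateQuadraticForm Q) : ⇑(toQF Q hQ) = Q := rfl

theorem toQF_polar {ι : Type} [Fintype ι] [DecidableEq ι] (Q : (ι → F) → F)
    (hQ : IsNondegenerateQuadraticForm Q) (u v : ι → F) :
    QuadraticMap.polar (toQF Q hQ) u v = QuadraticMap.polar Q u v := rfl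

theorem toQF_nondeg {ι : Type} [Fintype ι] [DecidableEq ι] (Q : (ι → F) → F)
    (hQ : IsNondegenerateQuadraticForm Q) : Cfsg.Agent.Helper8.QuadForm.Nondeg (toQF Q hQ) := by
  intro v hv
  by_contra hv0
  obtain ⟨-, ⟨x, hx⟩⟩ := hQ.nondegenerate v hv0
  exact hx (hv x)

theorem toQF_polarBilin_nondegenerate {ι : Type} [Fintype ι] [DecidableEq ι] (Q : (ι → F) → F)
    (hQ : IsNondegenerateQuadraticForm Q) : (QuadraticMap.polarBilin (toQF Q hQ)).Nondegenerate :=
  (Cfsg.Agent.Helper8.QuadForm.nondeg_iff _).2 (toQF_nondeg Q hQ)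

/-- Siegel transformations lie in `Ω(Q)` (dimension at least five): matrix version. -/
theorem siegel_mem_omegaGL [Fintype F] {ι : Type} [Fintype ι] [DecidableEq ι] (h5 : 5 ≤ Fintype.card ι)
    (Q : (ι → F) → F) (hQ : IsNondegenerateQuadraticForm Q) (u w : ι → F) (hu : Q u = 0)
    (huw : QuadraticMap.polar Q u w = 0) :
    ∃ g ∈ omegaGL Q, ∀ x : ι → F, (g : Matrix ι ι F) *ᵥ x =
      x + QuadraticMap.polar Q x w • u - QuadraticMap.polar Q x u • w - (Q w * QuadraticMap.polar Q x u) • u := by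
  have hmem := Cfsg.Agent.Helper7.OrthMax.toGL_mem_omegaGL (toQF Q hQ) (toQF_polarBilin_nondegenerate Q hQ) h5
    (Cfsg.Agent.Helper8.SiegelGroup.siegG_mem_SG (toQF Q hQ) (c := u) (w := w) hu huw)
  refine ⟨_, hmem, fun x => ?_⟩
  rw [Cfsg.Agent.Helper7.OrthMax.toGL_mulVec, Cfsg.Agent.Helper8.SiegelGroup.siegG_val,
    Cfsg.Agent.Helper8.Siegel.siegE_apply (toQF Q hQ) hu huw, Cfsg.Agent.Helper8.Siegel.sieg_apply]
  rfl

/-- long root elements lie in `Ω(Q)` (dimension at least five): matrix version. -/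
theorem longRoot_mem_omegaGL [Fintype F] {ι : Type} [Fintype ι] [DecidableEq ι] (h5 : 5 ≤ Fintype.card ι)
    (Q : (ι → F) → F) (hQ : IsNondegenerateQuadraticForm Q) (u z : ι → F) (hu : Q u = 0) (hz : Q z = 0)
    (huz : QuadraticMap.polar Q u z = 0) (t : F) :
    ∃ g ∈ omegaGL Q, ∀ x : ι → F, (g : Matrix ι ι F) *ᵥ x =
      x + t • (QuadraticMap.polar Q x z • u - QuadraticMap.polar Q x u • z) := by
  have hb := hQ.polar_bilinear
  obtain ⟨g, hg, hgx⟩ := siegel_mem_omegaGL h5 Q hQ u (t • z) hu (by rw [hb.smul_right, huz, mul_zero])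
  refine ⟨g, hg, fun x => ?_⟩
  rw [hgx x, hb.smul_right, hQ.smul, hz, mul_zero, zero_mul, zero_smul, sub_zero, smul_sub, smul_smul, smul_smul,
    smul_smul, mul_comm t, mul_comm t, add_sub_assoc]

/-- every element of `Ω(Q)` comes from the group generated by the Siegel transformations (dimension at least
five). -/
theorem exists_SG_of_mem_omegaGL [Fintype F] {ι : Type} [Fintype ι] [DecidableEq ι] (h5 : 5 ≤ Fintype.card ι)
    (Q : (ι → F) → F) (hQ : IsNondegenerateQuadraticForm Q) {g : GL ι F} (hg : g ∈ omegaGL Q) :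
    ∃ k ∈ Cfsg.Agent.Helper8.SiegelGroup.SG (toQF Q hQ), Cfsg.Agent.Helper7.OrthMax.toGL (toQF Q hQ) k = g :=
  Cfsg.Agent.Helper7.OrthMax.exists_toGL_eq (toQF Q hQ) (toQF_polarBilin_nondegenerate Q hQ) h5 hg

end Cfsg.Agent.Lead.AschOm
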