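import Mathlib
import Cfsg.Prelude.Def_GeometricClasses

/-!
# ASCH-PRIME piece P15: arithmetic side conditions of the class of symplectic-type normalizers
-/

set_option autoImplicit false

namespace Cfsg.Agent.Lead.Asch

open Cfsg Cfsg.Geo
open scoped MatrixGroups Matrix

variable {F : Type*} [Field F] [Fintype F]

/-- The data hidden in `IsLinearSymplecticTypeData r R` for an odd `r`. -/
theorem data_of_odd {n r : ℕ} (hr2 : r ≠ 2) {R : Subgroup (GL (Fin n) F)}
    (h : IsLinearSymplecticTypeData r R) :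
    ∃ p e : ℕ, r ≠ p ∧ p.Prime ∧ CharP F p ∧ Fintype.card F = p ^ e ∧ r ∣ p ^ e - 1 ∧
      (∀ d : ℕ, 0 < d → d < e → ¬ r ∣ p ^ d - 1) ∧ Odd e := by
  obtain ⟨p, e, hrp, ⟨hp, hchar, hcard, hdvd, hmin⟩, h1 | h1 | h1⟩ := h.field
  · obtain ⟨-, he, hz, -⟩ := h1
    rw [hz] at hdvd hmin
    exact ⟨p, e, hrp, hp, hchar, hcard, hdvd, hmin, he⟩
  · exact absurd h1.1 hr2
  · exact absurd h1.1 hr2

theorem dvd_pow_sub_one_iff {r p d : ℕ} (hp : 0 < p) : r ∣ p ^ d - 1 ↔ p ^ d % r = 1 % r := by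
  have h1 : 1 ≤ p ^ d := Nat.one_le_pow _ _ hp
  rw [← Nat.modEq_iff_dvd' h1]
  unfold Nat.ModEq
  exact eq_comm

theorem pow_mod_eq {r p d : ℕ} : p ^ d % r = (p % r) ^ d % r := Nat.pow_mod p d r

/-- Fermat: the minimal exponent is at most `r - 1`. -/
theorem exp_le {r p e : ℕ} (hr : r.Prime) (hp : p.Prime) (hrp : r ≠ p) (he : 0 < e)
    (hmin : ∀ d : ℕ, 0 < d → d < e → ¬ r ∣ p ^ d - 1) : e ≤ r - 1 := by
  by_contra hlt
  push_neg at hlt
  have hr1 : 0 < r - 1 := by have := hr.two_le; omega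
  refine hmin (r - 1) hr1 hlt ?_
  have hcop : Nat.Coprime p r := (Nat.coprime_primes hp hr).2 (Ne.symm hrp)
  have := Nat.ModEq.pow_totient hcop
  rw [Nat.totient_prime hr] at this
  exact (Nat.modEq_iff_dvd' (Nat.one_le_pow _ _ hp.pos)).1 this.symm

theorem arith3 {R : Subgroup (GL (Fin 3) F)} (h : IsLinearSymplecticTypeData 3 R) :
    ∃ p : ℕ, p.Prime ∧ Fintype.card F = p ∧ p % 3 = 1 := by
  obtain ⟨p, e, hrp, hp, hchar, hcard, hdvd, hmin, he⟩ := data_of_odd (by norm_num) h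
  have hepos : 0 < e := he.pos
  have hle := exp_le (by norm_num) hp hrp hepos hmin
  have he1 : e = 1 := by
    obtain ⟨k, rfl⟩ := he
    omega
  subst he1
  rw [pow_one] at hcard hdvd
  refine ⟨p, hp, hcard, ?_⟩
  have := hp.two_le
  omega

theorem arith5 {R : Subgroup (GL (Fin 5) F)} (h : IsLinearSymplecticTypeData 5 R) :
    ∃ p : ℕ, p.Prime ∧ Fintype.card F = p ∧ (p % 5 = 1) := by
  obtain ⟨p, e, hrp, hp, hchar, hcard, hdvd, hmin, he⟩ := data_of_odd (by norm_num) h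
  have hepos : 0 < e := he.pos
  have hle := exp_le (by norm_num) hp hrp hepos hmin
  have hpm : p % 5 ≠ 0 := by
    intro h0
    have : 5 ∣ p := Nat.dvd_of_mod_eq_zero h0
    exact hrp ((Nat.prime_dvd_prime_iff_eq (by norm_num) hp).1 this)
  have hlt : p % 5 < 5 := Nat.mod_lt _ (by norm_num)
  rw [dvd_pow_sub_one_iff hp.pos, pow_mod_eq] at hdvd
  have hmin' : ∀ d : ℕ, 0 < d → d < e → ¬ (p % 5) ^ d % 5 = 1 % 5 := by
    intro d h0 h1 h2
    exact hmin d h0 h1 (by rw [dvd_pow_sub_one_iff hp.pos, pow_mod_eq]; exact h2)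
  obtain ⟨k, rfl⟩ := he
  have hk : k = 0 ∨ k = 1 := by omega
  rcases hk with rfl | rfl
  · refine ⟨p, hp, by simpa using hcard, ?_⟩
    generalize p % 5 = a at *
    interval_cases a <;> simp_all
  · exfalso
    have h1 := hmin' 1 (by norm_num) (by norm_num)
    generalize p % 5 = a at *
    interval_cases a <;> simp_all

theorem arith7 {R : Subgroup (GL (Fin 7) F)} (h : IsLinearSymplecticTypeData 7 R) :
    ∃ p : ℕ, p.Prime ∧ CharP F p ∧ ((Fintype.card F = p ∧ p % 7 = 1) ∨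
      (Fintype.card F = p ^ 3 ∧ (p % 7 = 2 ∨ p % 7 = 4))) := by
  obtain ⟨p, e, hrp, hp, hchar, hcard, hdvd, hmin, he⟩ := data_of_odd (by norm_num) h
  have hepos : 0 < e := he.pos
  have hle := exp_le (by norm_num) hp hrp hepos hmin
  have hpm : p % 7 ≠ 0 := by
    intro h0
    have : 7 ∣ p := Nat.dvd_of_mod_eq_zero h0
    exact hrp ((Nat.prime_dvd_prime_iff_eq (by norm_num) hp).1 this)
  have hlt : p % 7 < 7 := Nat.mod_lt _ (by norm_num)
  rw [dvd_pow_sub_one_iff hp.pos, pow_mod_eq] at hdvd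
  have hmin' : ∀ d : ℕ, 0 < d → d < e → ¬ (p % 7) ^ d % 7 = 1 % 7 := by
    intro d h0 h1 h2
    exact hmin d h0 h1 (by rw [dvd_pow_sub_one_iff hp.pos, pow_mod_eq]; exact h2)
  refine ⟨p, hp, hchar, ?_⟩
  obtain ⟨k, rfl⟩ := he
  have hk : k = 0 ∨ k = 1 ∨ k = 2 := by omega
  rcases hk with rfl | rfl | rfl
  · left
    refine ⟨by simpa using hcard, ?_⟩
    generalize p % 7 = a at *
    interval_cases a <;> simp_all
  · right
    refine ⟨by simpa using hcard, ?_⟩
    have h1 := hmin' 1 (by norm_num) (by norm_num)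
    generalize p % 7 = a at *
    interval_cases a <;> simp_all
  · exfalso
    have h1 := hmin' 1 (by norm_num) (by norm_num)
    generalize p % 7 = a at *
    interval_cases a <;> simp_all

theorem arith11 {R : Subgroup (GL (Fin 11) F)} (h : IsLinearSymplecticTypeData 11 R) :
    ∃ p : ℕ, p.Prime ∧ CharP F p ∧ ((Fintype.card F = p ∧ p % 11 = 1) ∨
      (Fintype.card F = p ^ 5 ∧ (p % 11 = 3 ∨ p % 11 = 4 ∨ p % 11 = 5 ∨ p % 11 = 9))) := by
  obtain ⟨p, e, hrp, hp, hchar, hcard, hdvd, hmin, he⟩ := data_of_odd (by norm_num) h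
  have hepos : 0 < e := he.pos
  have hle := exp_le (by norm_num) hp hrp hepos hmin
  have hpm : p % 11 ≠ 0 := by
    intro h0
    have : 11 ∣ p := Nat.dvd_of_mod_eq_zero h0
    exact hrp ((Nat.prime_dvd_prime_iff_eq (by norm_num) hp).1 this)
  have hlt : p % 11 < 11 := Nat.mod_lt _ (by norm_num)
  rw [dvd_pow_sub_one_iff hp.pos, pow_mod_eq] at hdvd
  have hmin' : ∀ d : ℕ, 0 < d → d < e → ¬ (p % 11) ^ d % 11 = 1 % 11 := by
    intro d h0 h1 h2
    exact hmin d h0 h1 (by rw [dvd_pow_sub_one_iff hp.pos, pow_mod_eq]; exact h2)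
  refine ⟨p, hp, hchar, ?_⟩
  obtain ⟨k, rfl⟩ := he
  have hk : k = 0 ∨ k = 1 ∨ k = 2 ∨ k = 3 ∨ k = 4 := by omega
  rcases hk with rfl | rfl | rfl | rfl | rfl
  · left
    refine ⟨by simpa using hcard, ?_⟩
    generalize p % 11 = a at *
    interval_cases a <;> simp_all
  · exfalso
    have h1 := hmin' 1 (by norm_num) (by norm_num)
    generalize p % 11 = a at *
    interval_cases a <;> simp_all
  · right
    refine ⟨by simpa using hcard, ?_⟩
    have h1 := hmin' 1 (by norm_num) (by norm_num)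
    generalize p % 11 = a at *
    interval_cases a <;> simp_all
  · exfalso
    have h1 := hmin' 1 (by norm_num) (by norm_num)
    generalize p % 11 = a at *
    interval_cases a <;> simp_all
  · exfalso
    have h1 := hmin' 1 (by norm_num) (by norm_num)
    generalize p % 11 = a at *
    interval_cases a <;> simp_all

end Cfsg.Agent.Lead.Asch
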