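import Mathlib
import Cfsg.Agent.S4496
import Cfsg.Agent.Helper1.Coprime

/-!
Groups with a self-centralizing element `x` of prime order `p`: class count of elements of order `p`
and the index of the commutator subgroup.
-/

set_option autoImplicit false

namespace Cfsg.Agent.Lead.SelfCentP

open scoped Pointwise commutatorElement

universe u

section
variable {G : Type u} [Group G] [Finite G] (p : ℕ) [hp : Fact p.Prime] (x : G) (hx : orderOf x = p)
  (hC : Subgroup.centralizer ({x} : Set G) = Subgroup.zpowers x)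

include hx in
theorem orderOf_of_mem {g : G} (hg : g ∈ Subgroup.zpowers x) (hg1 : g ≠ 1) : orderOf g = p := by
  have h1 := Subgroup.orderOf_dvd_natCard _ hg
  rw [Nat.card_zpowers, hx] at h1
  rcases (Nat.dvd_prime hp.out).1 h1 with h | h
  · exact absurd (orderOf_eq_one_iff.1 h) hg1
  · exact h

include hx in
theorem zpowers_eq_of_mem {g : G} (hg : g ∈ Subgroup.zpowers x) (hg1 : g ≠ 1) :
    Subgroup.zpowers g = Subgroup.zpowers x := by
  apply Subgroup.eq_of_le_of_card_ge (Subgroup.zpowers_le.2 hg)
  rw [Nat.card_zpowers, Nat.card_zpowers, hx, orderOf_of_mem p x hx hg hg1]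

include hx hC in
theorem centralizer_eq_of_mem {g : G} (hg : g ∈ Subgroup.zpowers x) (hg1 : g ≠ 1) :
    Subgroup.centralizer ({g} : Set G) = Subgroup.zpowers x := by
  apply le_antisymm
  · intro h hh
    rw [Subgroup.mem_centralizer_singleton_iff] at hh
    have hxg : x ∈ Subgroup.zpowers g := by
      rw [zpowers_eq_of_mem p x hx hg hg1]; exact Subgroup.mem_zpowers x
    obtain ⟨k, hk⟩ := Subgroup.mem_zpowers_iff.1 hxg
    rw [← hC, Subgroup.mem_centralizer_singleton_iff, ← hk]
    have : Commute h g := hh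
    exact (this.zpow_right k).eq
  · intro h hh
    rw [Subgroup.mem_centralizer_singleton_iff]
    obtain ⟨k, rfl⟩ := Subgroup.mem_zpowers_iff.1 hg
    obtain ⟨j, rfl⟩ := Subgroup.mem_zpowers_iff.1 hh
    exact ((Commute.refl x).zpow_zpow j k).eq

include hx in
theorem mem_normalizer_of_conj {g h : G} (hg : g ∈ Subgroup.zpowers x) (hg1 : g ≠ 1)
    (hg' : h * g * h⁻¹ ∈ Subgroup.zpowers x) :
    h ∈ Subgroup.normalizer ((Subgroup.zpowers x : Subgroup G) : Set G) := by
  apply Helper1.mem_normalizer_of_conj_smul_eq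
  have hne : h * g * h⁻¹ ≠ 1 := by
    intro h1
    apply hg1
    have := congrArg (fun z => h⁻¹ * z * h) h1
    simpa [mul_assoc] using this
  have h2 := MonoidHom.map_zpowers (MulAut.conj h).toMonoidHom g
  rw [zpowers_eq_of_mem p x hx hg hg1] at h2
  have h3 : (MulAut.conj h).toMonoidHom g = h * g * h⁻¹ := by simp
  rw [h3, zpowers_eq_of_mem p x hx hg' hne] at h2
  rw [Subgroup.pointwise_smul_def]
  exact h2

include hx hC in
theorem exists_rep (c : ConjClasses G) (hc : ∃ g ∈ c.carrier, orderOf g = p) :
    ∃ g₀ ∈ Subgroup.zpowers x, g₀ ≠ 1 ∧ ConjClasses.mk g₀ = c := by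
  obtain ⟨g, hgc, hg⟩ := hc
  have hcard : Nat.card (Subgroup.zpowers g) = p := by rw [Nat.card_zpowers, hg]
  obtain ⟨h, hh⟩ := S4496.conj_of_card p x hx hC _ hcard
  have h1 : g ∈ MulAut.conj h • Subgroup.zpowers x := by rw [← hh]; exact Subgroup.mem_zpowers g
  rw [Helper1.mem_conj_smul] at h1
  refine ⟨h⁻¹ * g * h, h1, ?_, ?_⟩
  · intro h2
    have h3 : g = 1 := by
      have := congrArg (fun z => h * z * h⁻¹) h2
      simpa [mul_assoc] using this
    rw [h3, orderOf_one] at hg
    exact hp.out.one_lt.ne hg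
  · rw [← ConjClasses.mem_carrier_iff_mk_eq.1 hgc, ConjClasses.mk_eq_mk_iff_isConj, isConj_iff]
    exact ⟨h, by group⟩

include hx hC in
theorem count : Nat.card {C : ConjClasses G // ∃ g ∈ C.carrier, orderOf g = p} *
    (Subgroup.zpowers x).relIndex
      (Subgroup.normalizer ((Subgroup.zpowers x : Subgroup G) : Set G)) = p - 1 := by
  classical
  haveI : Fintype G := Fintype.ofFinite G
  let Tf : Finset (ConjClasses G) := Finset.univ.filter (fun C => ∃ g ∈ C.carrier, orderOf g = p)
  let Xf : Finset G := Finset.univ.filter (fun g => g ∈ Subgroup.zpowers x ∧ g ≠ 1)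
  have hT : Nat.card {C : ConjClasses G // ∃ g ∈ C.carrier, orderOf g = p} = Tf.card := by
    rw [Nat.card_eq_fintype_card, Fintype.card_subtype]
  have hX : Xf.card = p - 1 := by
    have h1 : Xf = (Finset.univ.filter (fun g => g ∈ Subgroup.zpowers x)).erase 1 := by
      ext g
      simp only [Xf, Finset.mem_filter, Finset.mem_univ, true_and, Finset.mem_erase]
      tauto
    rw [h1, Finset.card_erase_of_mem (by simp [Subgroup.one_mem])]
    congr 1
    rw [← Fintype.card_subtype, ← Nat.card_eq_fintype_card]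
    exact S4496.card_zpowers p x hx
  have hmaps : Set.MapsTo (ConjClasses.mk (α := G)) ↑Xf ↑Tf := by
    intro g hg
    simp only [Xf, Tf, Finset.coe_filter, Finset.mem_univ, true_and, Set.mem_setOf_eq] at hg ⊢
    exact ⟨g, ConjClasses.mem_carrier_mk, orderOf_of_mem p x hx hg.1 hg.2⟩
  have hsum := Finset.card_eq_sum_card_fiberwise hmaps
  have hfib : ∀ c ∈ Tf, (Xf.filter (fun g => ConjClasses.mk g = c)).card =
      (Subgroup.zpowers x).relIndex
        (Subgroup.normalizer ((Subgroup.zpowers x : Subgroup G) : Set G)) := by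
    intro c hc
    simp only [Tf, Finset.mem_filter, Finset.mem_univ, true_and] at hc
    obtain ⟨g₀, hg₀, hg₀1, rfl⟩ := exists_rep p x hx hC c hc
    let φ : ↥(Subgroup.normalizer ((Subgroup.zpowers x : Subgroup G) : Set G)) →* MulAut G :=
      (MulAut.conj).comp (Subgroup.subtype _)
    letI : MulAction ↥(Subgroup.normalizer ((Subgroup.zpowers x : Subgroup G) : Set G)) G :=
      MulAction.compHom G φ
    have hsmul : ∀ (n : ↥(Subgroup.normalizer ((Subgroup.zpowers x : Subgroup G) : Set G)))
        (g : G), n • g = n * g * (n : G)⁻¹ := fun n g => rfl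
    have hstab : MulAction.stabilizer
        ↥(Subgroup.normalizer ((Subgroup.zpowers x : Subgroup G) : Set G)) g₀ =
        (Subgroup.zpowers x).subgroupOf _ := by
      ext n
      have hcz := centralizer_eq_of_mem p x hx hC hg₀ hg₀1
      have hiff : (n : G) ∈ Subgroup.zpowers x ↔ (n : G) ∈ Subgroup.centralizer ({g₀} : Set G) := by
        rw [hcz]
      rw [MulAction.mem_stabilizer_iff, hsmul, Subgroup.mem_subgroupOf, hiff,
        Subgroup.mem_centralizer_singleton_iff]
      constructor
      · intro h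
        have := congrArg (fun z => z * (n : G)) h
        simpa [mul_assoc] using this
      · intro h
        rw [h]; simp
    have hidx := MulAction.index_stabilizer
      ↥(Subgroup.normalizer ((Subgroup.zpowers x : Subgroup G) : Set G)) g₀
    rw [hstab] at hidx
    change _ = ((Subgroup.zpowers x).subgroupOf _).index
    rw [hidx, ← Set.ncard_coe_finset]
    congr 1
    ext g
    simp only [Xf, Finset.coe_filter, Finset.mem_filter, Finset.mem_univ, true_and,
      Set.mem_setOf_eq]
    constructor
    · rintro ⟨⟨hg, hg1⟩, hgc⟩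
      rw [ConjClasses.mk_eq_mk_iff_isConj, isConj_iff] at hgc
      obtain ⟨h, hh⟩ := hgc
      have hn := mem_normalizer_of_conj p x hx hg hg1 (by rw [hh]; exact hg₀)
      refine ⟨⟨h, hn⟩⁻¹, ?_⟩
      change (⟨h, hn⟩ : ↥(Subgroup.normalizer ((Subgroup.zpowers x : Subgroup G) : Set G)))⁻¹ • g₀
        = g
      rw [hsmul, ← hh]
      simp [mul_assoc]
    · rintro ⟨n, rfl⟩
      change (n • g₀ ∈ Subgroup.zpowers x ∧ n • g₀ ≠ 1) ∧ ConjClasses.mk (n • g₀) = _
      rw [hsmul]
      refine ⟨⟨(Subgroup.mem_normalizer_iff.1 n.2 g₀).1 hg₀, ?_⟩, ?_⟩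
      · intro h1
        apply hg₀1
        have := congrArg (fun z => (n : G)⁻¹ * z * n) h1
        simpa [mul_assoc] using this
      · rw [ConjClasses.mk_eq_mk_iff_isConj, isConj_comm, isConj_iff]
        exact ⟨n, rfl⟩
  rw [Finset.sum_const_nat hfib] at hsum
  rw [hT, ← hsum, hX]

include hx hC in
/-- A normal `p'`-subgroup lies in the commutator subgroup. -/
theorem le_commutator_of_not_dvd (S : Subgroup G) [S.Normal] (hnd : ¬ p ∣ Nat.card S) :
    S ≤ commutator G := by
  intro t ht
  obtain ⟨s, -, hs⟩ := S4496.exists_conj_eq p x hx hC S hnd ht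
  rw [← hs, commutator_def]
  have h1 : x⁻¹ * s * x * s⁻¹ = ⁅x⁻¹, s⁆ := by rw [commutatorElement_def, inv_inv]
  rw [h1]
  exact Subgroup.commutator_mem_commutator (Subgroup.mem_top _) (Subgroup.mem_top _)

include hx hC in
/-- If `N_G(⟨x⟩) = ⟨x⟩` then the commutator subgroup has index `p`. -/
theorem index_commutator_of_relIndex_eq_one
    (he : (Subgroup.zpowers x).relIndex
      (Subgroup.normalizer ((Subgroup.zpowers x : Subgroup G) : Set G)) = 1) :
    (commutator G).index = p := by
  obtain ⟨P, hP⟩ := S4496.exists_sylow p x hx hC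
  have hNP : Subgroup.normalizer ((P : Subgroup G) : Set G) ≤
      Subgroup.centralizer ((P : Subgroup G) : Set G) := by
    rw [hP]
    refine le_trans (Subgroup.relIndex_eq_one.1 he) ?_
    intro g hg
    rw [Subgroup.mem_centralizer_iff]
    intro h hh
    obtain ⟨k, rfl⟩ := Subgroup.mem_zpowers_iff.1 hg
    obtain ⟨j, rfl⟩ := Subgroup.mem_zpowers_iff.1 hh
    exact ((Commute.refl x).zpow_zpow j k).eq
  have hcomp := MonoidHom.ker_transferSylow_isComplement' P hNP
  have hcard := hcomp.card_mul_card
  have hPcard : Nat.card (P : Subgroup G) = p := by rw [hP]; exact S4496.card_zpowers p x hx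
  rw [hPcard] at hcard
  have hnd : ¬ p ∣ Nat.card (MonoidHom.transferSylow P hNP).ker := by
    intro hdvd
    have h1 : p ^ 2 ∣ Nat.card G := by
      rw [← hcard, pow_two]; exact Nat.mul_dvd_mul_right hdvd p
    have h2 := P.card_eq_multiplicity
    rw [hPcard] at h2
    have h3 := (hp.out.pow_dvd_iff_le_factorization Nat.card_pos.ne').1 h1
    have h4 : (Nat.card G).factorization p = 1 := by
      have h5 : p ^ 1 = p ^ (Nat.card G).factorization p := by rw [pow_one]; exact h2
      exact (Nat.pow_right_injective hp.out.two_le h5).symm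
    omega
  have hle1 : (MonoidHom.transferSylow P hNP).ker ≤ commutator G :=
    le_commutator_of_not_dvd p x hx hC _ hnd
  have hle2 : commutator G ≤ (MonoidHom.transferSylow P hNP).ker := by
    rw [commutator_eq_closure, Subgroup.closure_le]
    rintro _ ⟨a, b, rfl⟩
    rw [SetLike.mem_coe, MonoidHom.mem_ker, map_commutatorElement,
      commutatorElement_eq_one_iff_commute]
    have ha : ((MonoidHom.transferSylow P hNP a : ↥(P : Subgroup G)) : G) ∈ Subgroup.zpowers x := by
      rw [← hP]; exact Subtype.property _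
    have hb : ((MonoidHom.transferSylow P hNP b : ↥(P : Subgroup G)) : G) ∈ Subgroup.zpowers x := by
      rw [← hP]; exact Subtype.property _
    obtain ⟨k, hk⟩ := Subgroup.mem_zpowers_iff.1 ha
    obtain ⟨j, hj⟩ := Subgroup.mem_zpowers_iff.1 hb
    apply Subtype.ext
    rw [Subgroup.coe_mul, Subgroup.coe_mul, ← hk, ← hj]
    exact ((Commute.refl x).zpow_zpow k j).eq
  rw [le_antisymm hle2 hle1]
  have h6 := Subgroup.card_mul_index (MonoidHom.transferSylow P hNP).ker
  rw [← hcard] at h6
  exact Nat.eq_of_mul_eq_mul_left Nat.card_pos h6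

include hx hC in
/-- If `N_G(⟨x⟩) ≠ ⟨x⟩` then `x` lies in the commutator subgroup. -/
theorem zpowers_le_commutator
    (he : (Subgroup.zpowers x).relIndex
      (Subgroup.normalizer ((Subgroup.zpowers x : Subgroup G) : Set G)) ≠ 1) :
    Subgroup.zpowers x ≤ commutator G := by
  have hex : ∃ n ∈ Subgroup.normalizer ((Subgroup.zpowers x : Subgroup G) : Set G),
      n ∉ Subgroup.zpowers x := by
    by_contra hcon
    push Not at hcon
    exact he (Subgroup.relIndex_eq_one.2 hcon)
  obtain ⟨n, hn, hnx⟩ := hex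
  have h1 : n * x * n⁻¹ ∈ Subgroup.zpowers x :=
    (Subgroup.mem_normalizer_iff.1 hn x).1 (Subgroup.mem_zpowers x)
  have h2 : ⁅n, x⁆ ∈ Subgroup.zpowers x := by
    rw [commutatorElement_def]
    exact Subgroup.mul_mem _ h1 (Subgroup.inv_mem _ (Subgroup.mem_zpowers x))
  have h3 : ⁅n, x⁆ ≠ 1 := by
    intro h
    rw [commutatorElement_eq_one_iff_commute] at h
    apply hnx
    rw [← hC, Subgroup.mem_centralizer_singleton_iff]
    exact h.eq
  rw [← zpowers_eq_of_mem p x hx h2 h3, Subgroup.zpowers_le, commutator_def]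
  exact Subgroup.commutator_mem_commutator (Subgroup.mem_top _) (Subgroup.mem_top _)

include hx hC in
/-- Frattini: `G = N_G(⟨x⟩) G'` when `x ∈ G'`. -/
theorem normalizer_sup_commutator (hPle : Subgroup.zpowers x ≤ commutator G) :
    Subgroup.normalizer ((Subgroup.zpowers x : Subgroup G) : Set G) ⊔ commutator G = ⊤ := by
  obtain ⟨P, hP⟩ := S4496.exists_sylow p x hx hC
  have hPle' : (P : Subgroup G) ≤ commutator G := by rw [hP]; exact hPle
  have hfr := Sylow.normalizer_sup_eq_top (P.subtype hPle')
  rw [Sylow.coe_subtype, Subgroup.map_subgroupOf_eq_of_le hPle', hP] at hfr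
  exact hfr

include hx hC in
/-- If `N_G(⟨x⟩) ≠ ⟨x⟩` then the index of the commutator subgroup divides `|N_G(⟨x⟩) : ⟨x⟩|`. -/
theorem index_commutator_dvd
    (he : (Subgroup.zpowers x).relIndex
      (Subgroup.normalizer ((Subgroup.zpowers x : Subgroup G) : Set G)) ≠ 1) :
    (commutator G).index ∣ (Subgroup.zpowers x).relIndex
      (Subgroup.normalizer ((Subgroup.zpowers x : Subgroup G) : Set G)) := by
  obtain ⟨P, hP⟩ := S4496.exists_sylow p x hx hC
  have hex : ∃ n ∈ Subgroup.normalizer ((Subgroup.zpowers x : Subgroup G) : Set G),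
      n ∉ Subgroup.zpowers x := by
    by_contra hcon
    push Not at hcon
    exact he (Subgroup.relIndex_eq_one.2 hcon)
  obtain ⟨n, hn, hnx⟩ := hex
  have hPle : Subgroup.zpowers x ≤ commutator G := by
    have h1 : n * x * n⁻¹ ∈ Subgroup.zpowers x :=
      (Subgroup.mem_normalizer_iff.1 hn x).1 (Subgroup.mem_zpowers x)
    have h2 : ⁅n, x⁆ ∈ Subgroup.zpowers x := by
      rw [commutatorElement_def]
      exact Subgroup.mul_mem _ h1 (Subgroup.inv_mem _ (Subgroup.mem_zpowers x))
    have h3 : ⁅n, x⁆ ≠ 1 := by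
      intro h
      rw [commutatorElement_eq_one_iff_commute] at h
      apply hnx
      rw [← hC, Subgroup.mem_centralizer_singleton_iff]
      exact h.eq
    rw [← zpowers_eq_of_mem p x hx h2 h3, Subgroup.zpowers_le, commutator_def]
    exact Subgroup.commutator_mem_commutator (Subgroup.mem_top _) (Subgroup.mem_top _)
  have hPle' : (P : Subgroup G) ≤ commutator G := by rw [hP]; exact hPle
  have hfr := Sylow.normalizer_sup_eq_top (P.subtype hPle')
  rw [Sylow.coe_subtype, Subgroup.map_subgroupOf_eq_of_le hPle', hP] at hfr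
  have h4 : (commutator G).index = (commutator G).relIndex
      (Subgroup.normalizer ((Subgroup.zpowers x : Subgroup G) : Set G)) := by
    rw [← Subgroup.relIndex_top_right, ← hfr, sup_comm, Subgroup.relIndex_sup_left]
  rw [h4]
  exact Subgroup.relIndex_dvd_of_le_left _ hPle

include hx hC in
theorem s4495 (t : ℕ)
    (ht : Nat.card {C : ConjClasses G // ∃ g ∈ C.carrier, orderOf g = p} = t) :
    (t ≠ p - 1 → (commutator G).index * t ≤ p - 1) ∧
      (t = p - 1 → (commutator G).index = p) := by
  have hcount := count p x hx hC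
  rw [ht] at hcount
  have hp1 : 1 ≤ p - 1 := by have := hp.out.two_le; omega
  by_cases he : (Subgroup.zpowers x).relIndex
      (Subgroup.normalizer ((Subgroup.zpowers x : Subgroup G) : Set G)) = 1
  · rw [he, mul_one] at hcount
    refine ⟨fun h => absurd hcount h, fun _ => index_commutator_of_relIndex_eq_one p x hx hC he⟩
  · have hdvd := index_commutator_dvd p x hx hC he
    have hepos : 0 < (Subgroup.zpowers x).relIndex
        (Subgroup.normalizer ((Subgroup.zpowers x : Subgroup G) : Set G)) := by
      rcases Nat.eq_zero_or_pos ((Subgroup.zpowers x).relIndex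
        (Subgroup.normalizer ((Subgroup.zpowers x : Subgroup G) : Set G))) with h0 | h0
      · rw [h0, mul_zero] at hcount; omega
      · exact h0
    have hle := Nat.le_of_dvd hepos hdvd
    refine ⟨fun _ => ?_, fun h => ?_⟩
    · calc (commutator G).index * t ≤ (Subgroup.zpowers x).relIndex
            (Subgroup.normalizer ((Subgroup.zpowers x : Subgroup G) : Set G)) * t :=
            Nat.mul_le_mul_right _ hle
        _ = p - 1 := by rw [mul_comm]; exact hcount
    · exfalso
      rw [h] at hcount
      have h2 : (p - 1) * (Subgroup.zpowers x).relIndex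
        (Subgroup.normalizer ((Subgroup.zpowers x : Subgroup G) : Set G)) = (p - 1) * 1 := by
        rw [mul_one]; exact hcount
      exact he (Nat.eq_of_mul_eq_mul_left hp1 h2)

end

end Cfsg.Agent.Lead.SelfCentP
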