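import Mathlib
import Cfsg.Prelude.Def_Local
import Cfsg.Agent.Lead.SelfCentP
import Cfsg.Agent.Helper5.PPrimeCore

/-!
Groups with a self-centralizing element `x` of prime order `p`: `G'/O_{p'}(G)` is simple unless
`N_G(⟨x⟩) = ⟨x⟩`.
-/

set_option autoImplicit false

namespace Cfsg.Agent.Lead.SelfCentP2

open scoped Pointwise commutatorElement

universe u

theorem pPrimeCore_char (p : ℕ) (D : Type*) [Group D] : (Cfsg.pPrimeCore p D).Characteristic := by
  rw [Subgroup.characteristic_iff_map_le]
  intro φ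
  unfold Cfsg.pPrimeCore
  rw [(Subgroup.gc_map_comap φ.toMonoidHom).l_sSup]
  apply iSup₂_le
  rintro N ⟨hN, hcop⟩
  apply le_sSup
  refine ⟨hN.map φ.toMonoidHom φ.surjective, ?_⟩
  rwa [Subgroup.card_map_of_injective φ.injective]

section
variable {G : Type u} [Group G] [Finite G] (p : ℕ) [hp : Fact p.Prime] (x : G) (hx : orderOf x = p)
  (hC : Subgroup.centralizer ({x} : Set G) = Subgroup.zpowers x)

include hx hC in
/-- Elements of order `p` of `G'` are `G'`-conjugate into `⟨x⟩`. -/
theorem exists_conj_mem (hxD : x ∈ commutator G) (w : ↥(commutator G)) (hw : orderOf w = p) :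
    ∃ d : ↥(commutator G), ((d⁻¹ * w * d : ↥(commutator G)) : G) ∈ Subgroup.zpowers x := by
  obtain ⟨P, hP⟩ := S4496.exists_sylow p x hx hC
  have hPD : (P : Subgroup G) ≤ commutator G := by
    rw [hP, Subgroup.zpowers_le]; exact hxD
  have hwp : IsPGroup p (Subgroup.zpowers w) :=
    IsPGroup.of_card (n := 1) (by rw [Nat.card_zpowers, hw, pow_one])
  obtain ⟨R, hR⟩ := hwp.exists_le_sylow
  obtain ⟨d, hd⟩ := MulAction.exists_smul_eq ↥(commutator G) (P.subtype hPD) R
  refine ⟨d, ?_⟩
  have h1 : w ∈ (R : Subgroup ↥(commutator G)) := hR (Subgroup.mem_zpowers w)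
  rw [← hd, Sylow.coe_subgroup_smul, Helper1.mem_conj_smul, Sylow.coe_subtype,
    Subgroup.mem_subgroupOf, hP] at h1
  exact h1

include hx hC in
/-- A normal subgroup of `G'` of order divisible by `p` is all of `G'`, provided `x ∈ G'`. -/
theorem eq_top_of_dvd (hxD : x ∈ commutator G) (M : Subgroup ↥(commutator G)) [hM : M.Normal]
    (hdvd : p ∣ Nat.card M) : M = ⊤ := by
  -- `x ∈ M`
  have hxM : (⟨x, hxD⟩ : ↥(commutator G)) ∈ M := by
    obtain ⟨y, hy⟩ := exists_prime_orderOf_dvd_card' p hdvd
    have hy' : orderOf (y : ↥(commutator G)) = p := by rw [Subgroup.orderOf_coe]; exact hy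
    obtain ⟨d, hd⟩ := exists_conj_mem p x hx hC hxD (y : ↥(commutator G)) hy'
    have hzM : d⁻¹ * (y : ↥(commutator G)) * d ∈ M := by
      have := hM.conj_mem _ y.2 d⁻¹
      rwa [inv_inv] at this
    have hz1 : ((d⁻¹ * (y : ↥(commutator G)) * d : ↥(commutator G)) : G) ≠ 1 := by
      intro h1
      have h2 : d⁻¹ * (y : ↥(commutator G)) * d = 1 := Subtype.ext h1
      have h3 : (y : ↥(commutator G)) = 1 := by
        have := congrArg (fun z => d * z * d⁻¹) h2
        simpa [mul_assoc] using this
      rw [h3, orderOf_one] at hy'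
      exact hp.out.one_lt.ne hy'
    have h4 := SelfCentP.zpowers_eq_of_mem p x hx hd hz1
    have h5 : x ∈ Subgroup.zpowers ((d⁻¹ * (y : ↥(commutator G)) * d : ↥(commutator G)) : G) := by
      rw [h4]; exact Subgroup.mem_zpowers x
    obtain ⟨k, hk⟩ := Subgroup.mem_zpowers_iff.1 h5
    have h6 : (⟨x, hxD⟩ : ↥(commutator G)) = (d⁻¹ * (y : ↥(commutator G)) * d) ^ k := by
      apply Subtype.ext
      rw [Subgroup.coe_zpow]; exact hk.symm
    rw [h6]
    exact M.zpow_mem hzM k
  -- every conjugate of `x` lies in `M`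
  have hconj : ∀ g : G, ∀ hg : g * x * g⁻¹ ∈ commutator G,
      (⟨g * x * g⁻¹, hg⟩ : ↥(commutator G)) ∈ M := by
    intro g hg
    have hw : orderOf (⟨g * x * g⁻¹, hg⟩ : ↥(commutator G)) = p := by
      rw [← Subgroup.orderOf_coe]
      change orderOf (g * x * g⁻¹) = p
      rw [← hx]
      have := MulEquiv.orderOf_eq (MulAut.conj g) x
      simpa using this
    obtain ⟨d, hd⟩ := exists_conj_mem p x hx hC hxD _ hw
    obtain ⟨k, hk⟩ := Subgroup.mem_zpowers_iff.1 hd
    have h1 : d⁻¹ * (⟨g * x * g⁻¹, hg⟩ : ↥(commutator G)) * d = (⟨x, hxD⟩ : ↥(commutator G)) ^ k := by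
      apply Subtype.ext
      rw [Subgroup.coe_zpow]; exact hk.symm
    have h2 : d⁻¹ * (⟨g * x * g⁻¹, hg⟩ : ↥(commutator G)) * d ∈ M := by
      rw [h1]; exact M.zpow_mem hxM k
    have h3 := hM.conj_mem _ h2 d
    simpa [mul_assoc] using h3
  -- the normal closure of `x`
  have hL : commutator G ≤ Subgroup.normalClosure ({x} : Set G) := by
    apply S4496.commutator_le_of_dvd p x hx hC
    rw [← hx]
    exact Subgroup.orderOf_dvd_natCard _ (Subgroup.subset_normalClosure (Set.mem_singleton x))
  have hLM : Subgroup.normalClosure ({x} : Set G) ≤ M.map (Subgroup.subtype _) := by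
    unfold Subgroup.normalClosure
    rw [Subgroup.closure_le]
    intro w hw
    rw [Group.mem_conjugatesOfSet_iff] at hw
    obtain ⟨a, ha, haw⟩ := hw
    rw [Set.mem_singleton_iff] at ha
    subst ha
    rw [isConj_iff] at haw
    obtain ⟨c, rfl⟩ := haw
    have hcD : c * a * c⁻¹ ∈ commutator G :=
      (inferInstance : (commutator G).Normal).conj_mem _ hxD c
    exact ⟨⟨c * a * c⁻¹, hcD⟩, hconj c hcD, rfl⟩
  rw [eq_top_iff]
  intro d _
  obtain ⟨m, hm, hmd⟩ := hLM (hL d.2)
  have : m = d := Subtype.ext hmd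
  rw [← this]; exact hm

/-- A normal `p'`-subgroup of the normal subgroup `D` lies in `O_{p'}(G)`. -/
theorem le_of_not_dvd (D : Subgroup G) [hD : D.Normal] (M : Subgroup ↥D) [hM : M.Normal]
    (hnd : (Nat.card M).Coprime p) : M ≤ (Cfsg.pPrimeCore p G).subgroupOf D := by
  have h1 : M ≤ Cfsg.pPrimeCore p ↥D := Helper5.le_pPrimeCore hM hnd
  haveI := pPrimeCore_char p ↥D
  have h2 : ((Cfsg.pPrimeCore p ↥D).map D.subtype).Normal :=
    ConjAct.normal_of_characteristic_of_normal
  have h3 : (Cfsg.pPrimeCore p ↥D).map D.subtype ≤ Cfsg.pPrimeCore p G := by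
    apply Helper5.le_pPrimeCore h2
    rw [Subgroup.card_map_of_injective D.subtype_injective]
    exact Helper5.coprime_card_pPrimeCore p
  intro m hm
  rw [Subgroup.mem_subgroupOf]
  exact h3 (Subgroup.mem_map_of_mem _ (h1 hm))

include hx hC in
theorem simple_quotient (hxD : x ∈ commutator G)
    [h : ((Cfsg.pPrimeCore p G).subgroupOf (commutator G)).Normal] :
    IsSimpleGroup (↥(commutator G) ⧸ (Cfsg.pPrimeCore p G).subgroupOf (commutator G)) := by
  have hxS : x ∉ Cfsg.pPrimeCore p G := by
    intro hxS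
    apply Helper5.not_dvd_card_pPrimeCore (G := G) p
    have := Subgroup.orderOf_dvd_natCard _ hxS
    rwa [hx] at this
  have hne : (Cfsg.pPrimeCore p G).subgroupOf (commutator G) ≠ ⊤ := by
    intro htop
    apply hxS
    have : (⟨x, hxD⟩ : ↥(commutator G)) ∈ (Cfsg.pPrimeCore p G).subgroupOf (commutator G) := by
      rw [htop]; exact Subgroup.mem_top _
    exact Subgroup.mem_subgroupOf.1 this
  haveI : Nontrivial (↥(commutator G) ⧸ (Cfsg.pPrimeCore p G).subgroupOf (commutator G)) := by
    rw [← Finite.one_lt_card_iff_nontrivial, ← Subgroup.index_eq_card]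
    have h1 : ((Cfsg.pPrimeCore p G).subgroupOf (commutator G)).index ≠ 1 := by
      rw [Ne, Subgroup.index_eq_one]; exact hne
    have h2 : ((Cfsg.pPrimeCore p G).subgroupOf (commutator G)).index ≠ 0 :=
      Subgroup.index_ne_zero_of_finite
    omega
  refine ⟨fun Hb hHb => ?_⟩
  have hsurj := QuotientGroup.mk'_surjective ((Cfsg.pPrimeCore p G).subgroupOf (commutator G))
  haveI hMn : (Hb.comap (QuotientGroup.mk' ((Cfsg.pPrimeCore p G).subgroupOf (commutator G)))).Normal :=
    hHb.comap _
  have hle : (Cfsg.pPrimeCore p G).subgroupOf (commutator G) ≤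
      Hb.comap (QuotientGroup.mk' ((Cfsg.pPrimeCore p G).subgroupOf (commutator G))) := by
    intro m hm
    rw [Subgroup.mem_comap]
    have : QuotientGroup.mk' ((Cfsg.pPrimeCore p G).subgroupOf (commutator G)) m = 1 :=
      (QuotientGroup.eq_one_iff m).2 hm
    rw [this]; exact Subgroup.one_mem _
  by_cases hdvd : p ∣ Nat.card
      (Hb.comap (QuotientGroup.mk' ((Cfsg.pPrimeCore p G).subgroupOf (commutator G))))
  · right
    have h1 := eq_top_of_dvd p x hx hC hxD _ hdvd
    rw [← Subgroup.map_comap_eq_self_of_surjective hsurj Hb, h1]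
    exact Subgroup.map_top_of_surjective _ hsurj
  · left
    have hcop : (Nat.card (Hb.comap
        (QuotientGroup.mk' ((Cfsg.pPrimeCore p G).subgroupOf (commutator G))))).Coprime p :=
      ((Nat.Prime.coprime_iff_not_dvd hp.out).2 hdvd).symm
    have h1 := le_of_not_dvd p (commutator G) _ hcop
    have h2 := le_antisymm h1 hle
    rw [← Subgroup.map_comap_eq_self_of_surjective hsurj Hb, h2]
    exact QuotientGroup.map_mk'_self _

include hx hC in
theorem s4497 (t : ℕ)
    (ht : Nat.card {C : ConjClasses G // ∃ g ∈ C.carrier, orderOf g = p} = t) :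
    Cfsg.pPrimeCore p G ≤ commutator G ∧
      (t ≠ p - 1 → ∀ h : ((Cfsg.pPrimeCore p G).subgroupOf (commutator G)).Normal,
        IsSimpleGroup (↥(commutator G) ⧸ (Cfsg.pPrimeCore p G).subgroupOf (commutator G))) ∧
      (t = p - 1 → commutator G = Cfsg.pPrimeCore p G) := by
  have hcount := SelfCentP.count p x hx hC
  rw [ht] at hcount
  have hp1 : 1 ≤ p - 1 := by have := hp.out.two_le; omega
  have hSle : Cfsg.pPrimeCore p G ≤ commutator G :=
    SelfCentP.le_commutator_of_not_dvd p x hx hC _ (Helper5.not_dvd_card_pPrimeCore p)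
  refine ⟨hSle, ?_, ?_⟩
  · intro htne h
    have he : (Subgroup.zpowers x).relIndex
        (Subgroup.normalizer ((Subgroup.zpowers x : Subgroup G) : Set G)) ≠ 1 := by
      intro he
      rw [he, mul_one] at hcount
      exact htne hcount
    have hxD : x ∈ commutator G := SelfCentP.zpowers_le_commutator p x hx hC he (Subgroup.mem_zpowers x)
    exact simple_quotient p x hx hC hxD
  · intro hteq
    have he : (Subgroup.zpowers x).relIndex
        (Subgroup.normalizer ((Subgroup.zpowers x : Subgroup G) : Set G)) = 1 := by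
      rw [hteq] at hcount
      have h2 : (p - 1) * (Subgroup.zpowers x).relIndex
        (Subgroup.normalizer ((Subgroup.zpowers x : Subgroup G) : Set G)) = (p - 1) * 1 := by
        rw [mul_one]; exact hcount
      exact Nat.eq_of_mul_eq_mul_left hp1 h2
    have hidx := SelfCentP.index_commutator_of_relIndex_eq_one p x hx hC he
    have hnd : ¬ p ∣ Nat.card (commutator G) := by
      intro hdvd
      obtain ⟨P, hP⟩ := S4496.exists_sylow p x hx hC
      have hPcard : Nat.card (P : Subgroup G) = p := by rw [hP]; exact S4496.card_zpowers p x hx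
      have h1 : p ^ 2 ∣ Nat.card G := by
        rw [← Subgroup.card_mul_index (commutator G), hidx, pow_two]
        exact Nat.mul_dvd_mul_right hdvd p
      have h2 := P.card_eq_multiplicity
      rw [hPcard] at h2
      have h3 := (hp.out.pow_dvd_iff_le_factorization Nat.card_pos.ne').1 h1
      have h4 : (Nat.card G).factorization p = 1 := by
        have h5 : p ^ 1 = p ^ (Nat.card G).factorization p := by rw [pow_one]; exact h2
        exact (Nat.pow_right_injective hp.out.two_le h5).symm
      omega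
    apply le_antisymm _ hSle
    apply Helper5.le_pPrimeCore inferInstance
    exact ((Nat.Prime.coprime_iff_not_dvd hp.out).2 hnd).symm

end

end Cfsg.Agent.Lead.SelfCentP2
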