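import Mathlib
import Cfsg.Prelude
import Cfsg.Agent.Helper1.BGXg

set_option autoImplicit false

/-!
Bender–Glauberman: `M_σ` is a Hall `σ(M)`-subgroup of `M` and of `G` (`S1350`).
-/

namespace Cfsg.Agent.Lead.BG12

open Cfsg Cfsg.Agent.Helper1 Cfsg.Agent.Helper2 Cfsg.Agent.Helper1.BGT Cfsg.Agent.Helper1.BGU
  Cfsg.Agent.Helper1.BGV Cfsg.Agent.Helper1.BGW Cfsg.Agent.Helper1.BGX
open scoped commutatorElement Pointwise

universe u

variable {G : Type u} [Group G] [Finite G]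

/-- For `q ∉ σ(M)` the `q`-rank of `M` is at most two. -/
theorem pRankLE_of_not_mem_sigma (hG : Cfsg.IsMinSimpleOddOrder G) {M : Subgroup G}
    (hM : IsCoatom M) {q : ℕ} (hq : q.Prime) (h : q ∉ Cfsg.sigma M) : Cfsg.PRankLE q 2 ↥M :=
  pRankLE_of_not_mem_alpha hq (fun hα => h (alpha_subset_sigma hG hM hα))

/-- `p`-subgroups of `M` for primes in `σ(M)` lie in `M_σ`. -/
theorem le_sigmaCore (hG : Cfsg.IsMinSimpleOddOrder G) {M : Subgroup G} (hM : IsCoatom M)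
    {p : ℕ} [hp : Fact p.Prime] (hpσ : p ∈ Cfsg.sigma M) {S : Subgroup G} (hSM : S ≤ M)
    (hSp : IsPGroup p ↥S) : S.subgroupOf M ≤ Cfsg.piCore (Cfsg.sigma M) ↥M := by
  have : Group.IsSolvable ↥M := hG.2.2.2 M hM.1
  have hodd : Odd (Nat.card M) := Odd.of_dvd_nat hG.1 (Subgroup.card_subgroup_dvd_card M)
  obtain ⟨P, c⟩ := exists_sigCtx hG hM hpσ
  have hPc := c.le_commutator
  have hP : P.subgroupOf M ≤ Cfsg.piCore (Cfsg.sigma M) ↥M := by
    apply le_piCore_of_le_commutator hodd (Cfsg.sigma M)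
      (fun q hq hqσ => pRankLE_of_not_mem_sigma hG hM hq hqσ) hpσ c.pgroup.comap_subtype
    intro x hx
    have h1 : (x : G) ∈ ⁅M, M⁆ := hPc (Subgroup.mem_subgroupOf.mp hx)
    rw [← Subgroup.map_subtype_commutator] at h1
    obtain ⟨y, hy, hyx⟩ := h1
    have : y = x := Subtype.ext hyx
    rw [← this]; exact hy
  obtain ⟨m, hm, hmS⟩ := Cfsg.Agent.Lead.exists_conj_le_of_card_eq_ppart c.le c.cardM hSM hSp
  intro x hx
  have hxS : (x : G) ∈ S := Subgroup.mem_subgroupOf.mp hx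
  have h1 : m * (x : G) * m⁻¹ ∈ P := hmS ⟨_, hxS, rfl⟩
  have h2 : (⟨m, hm⟩ : ↥M) * x * (⟨m, hm⟩ : ↥M)⁻¹ ∈ P.subgroupOf M := by
    rw [Subgroup.mem_subgroupOf]; exact h1
  have h3 := hP h2
  have h4 := (Cfsg.piCore_normal (Cfsg.sigma M) ↥M).conj_mem _ h3 (⟨m, hm⟩ : ↥M)⁻¹
  have h5 : (⟨m, hm⟩ : ↥M)⁻¹ * ((⟨m, hm⟩ : ↥M) * x * (⟨m, hm⟩ : ↥M)⁻¹) * (⟨m, hm⟩ : ↥M)⁻¹⁻¹ = x := by
    group
  rw [h5] at h4
  exact h4

theorem le_sigmaCore' (hG : Cfsg.IsMinSimpleOddOrder G) {M : Subgroup G} (hM : IsCoatom M)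
    {p : ℕ} [hp : Fact p.Prime] (hpσ : p ∈ Cfsg.sigma M) {S : Subgroup G} (hSM : S ≤ M)
    (hSp : IsPGroup p ↥S) : S ≤ Cfsg.sigmaCore M := by
  intro x hx
  exact ⟨⟨x, hSM hx⟩, le_sigmaCore hG hM hpσ hSM hSp (Subgroup.mem_subgroupOf.mpr hx), rfl⟩

omit [Finite G] in
theorem sigmaCore_le {M : Subgroup G} : Cfsg.sigmaCore M ≤ M := Subgroup.map_subtype_le _

theorem mem_sigma_of_dvd_card_sigmaCore {M : Subgroup G} {q : ℕ} (hq : q.Prime)
    (hd : q ∣ Nat.card (Cfsg.sigmaCore M)) : q ∈ Cfsg.sigma M := by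
  unfold Cfsg.sigmaCore at hd
  rw [Subgroup.card_map_of_injective M.subtype_injective] at hd
  exact piCore_isPi _ q hq hd

/-- The index of `O_σ(M)` in `M` is a `σ'`-number. -/
theorem not_dvd_index_piCore_sigma (hG : Cfsg.IsMinSimpleOddOrder G) {M : Subgroup G}
    (hM : IsCoatom M) {q : ℕ} (hq : q.Prime) (hqσ : q ∈ Cfsg.sigma M) :
    ¬ q ∣ (Cfsg.piCore (Cfsg.sigma M) ↥M).index := by
  intro hd
  have := Fact.mk hq
  obtain ⟨P, c⟩ := exists_sigCtx hG hM hqσ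
  have hle := le_sigmaCore hG hM hqσ c.le c.pgroup
  have h1 : q ∣ (P.subgroupOf M).index := hd.trans (Subgroup.index_dvd_of_le hle)
  have hcard : Nat.card (P.subgroupOf M) = q ^ (Nat.card M).factorization q := by
    rw [Cfsg.Agent.Lead.card_subgroupOf_of_le c.le]; exact c.cardM
  have := (Sylow.ofCard (P.subgroupOf M) hcard).not_dvd_index
  rw [Sylow.coe_ofCard] at this
  exact this h1

theorem not_dvd_relIndex_sigmaCore (hG : Cfsg.IsMinSimpleOddOrder G) {M : Subgroup G}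
    (hM : IsCoatom M) {q : ℕ} (hq : q.Prime) (hqσ : q ∈ Cfsg.sigma M) :
    ¬ q ∣ (Cfsg.sigmaCore M).relIndex M := by
  unfold Cfsg.sigmaCore
  rw [relIndex_map_subtype]
  exact not_dvd_index_piCore_sigma hG hM hq hqσ

theorem not_dvd_index_sigmaCore (hG : Cfsg.IsMinSimpleOddOrder G) {M : Subgroup G}
    (hM : IsCoatom M) {q : ℕ} (hq : q.Prime) (hqσ : q ∈ Cfsg.sigma M) :
    ¬ q ∣ (Cfsg.sigmaCore M).index := by
  intro hd
  have := Fact.mk hq
  obtain ⟨P, c⟩ := exists_sigCtx hG hM hqσ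
  have hle : P ≤ Cfsg.sigmaCore M := le_sigmaCore' hG hM hqσ c.le c.pgroup
  have h1 : q ∣ P.index := hd.trans (Subgroup.index_dvd_of_le hle)
  have := (Sylow.ofCard P c.cardG).not_dvd_index
  rw [Sylow.coe_ofCard] at this
  exact this h1

/-- `M_σ` is a Hall `σ(M)`-subgroup of `M` and of `G`, and the only normal one in `M`. -/
theorem sigmaCore_hall (hG : Cfsg.IsMinSimpleOddOrder G) (M : Subgroup G) (hM : IsCoatom M) :
    Cfsg.IsPiHallOf (Cfsg.sigma M) (Cfsg.sigmaCore M) M ∧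
      Cfsg.IsPiHall (Cfsg.sigma M) (Cfsg.sigmaCore M) ∧
      ∀ N : Subgroup G, M ≤ Subgroup.normalizer (N : Set G) →
        Cfsg.IsPiHallOf (Cfsg.sigma M) N M → N = Cfsg.sigmaCore M := by
  refine ⟨⟨sigmaCore_le, fun q hq hd => mem_sigma_of_dvd_card_sigmaCore hq hd,
    fun q hq hqσ => not_dvd_relIndex_sigmaCore hG hM hq hqσ⟩,
    ⟨fun q hq hd => mem_sigma_of_dvd_card_sigmaCore hq hd,
      fun q hq hqσ => not_dvd_index_sigmaCore hG hM hq hqσ⟩, ?_⟩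
  intro N hMN ⟨hNM, hNπ, hNidx⟩
  -- `N ≤ M_σ`
  have hNn : (N.subgroupOf M).Normal := by
    constructor
    intro n hn g
    rw [Subgroup.mem_subgroupOf] at hn ⊢
    have := (Subgroup.mem_normalizer_iff.mp (hMN g.2) (n : G)).mp hn
    simpa using this
  have hle : N.subgroupOf M ≤ Cfsg.piCore (Cfsg.sigma M) ↥M := by
    apply le_sSup
    refine ⟨hNn, ?_⟩
    intro q hq hd
    rw [Cfsg.Agent.Lead.card_subgroupOf_of_le hNM] at hd
    exact hNπ q hq hd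
  have hle' : N ≤ Cfsg.sigmaCore M := by
    intro x hx
    exact ⟨⟨x, hNM hx⟩, hle (Subgroup.mem_subgroupOf.mpr hx), rfl⟩
  -- equality by counting
  apply le_antisymm hle'
  have hrel : N.relIndex (Cfsg.sigmaCore M) = 1 := by
    by_contra hne
    obtain ⟨q, hq, hqd⟩ := Nat.exists_prime_and_dvd hne
    have h1 : q ∣ Nat.card (Cfsg.sigmaCore M) := by
      have : N.relIndex (Cfsg.sigmaCore M) ∣ Nat.card (Cfsg.sigmaCore M) := by
        unfold Subgroup.relIndex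
        exact Subgroup.index_dvd_card _
      exact hqd.trans this
    have hqσ := mem_sigma_of_dvd_card_sigmaCore hq h1
    apply hNidx q hq hqσ
    have h2 := Subgroup.relIndex_mul_relIndex N (Cfsg.sigmaCore M) M hle' sigmaCore_le
    exact hqd.trans (Dvd.intro _ h2)
  exact Subgroup.relIndex_eq_one.mp hrel

end Cfsg.Agent.Lead.BG12
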