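import Mathlib
import Cfsg.Prelude
import Cfsg.Agent.Lead.BG12a
import Cfsg.Agent.Helper1.BGWc

set_option autoImplicit false

/-!
Bender–Glauberman, Lemma 12.1 (`S1415`): the structure of a complement `E` of `M_σ` in `M`.
-/

namespace Cfsg.Agent.Lead.BG12

open Cfsg Cfsg.Agent.Helper1 Cfsg.Agent.Helper2 Cfsg.Agent.Helper1.BGT Cfsg.Agent.Helper1.BGU
  Cfsg.Agent.Helper1.BGV Cfsg.Agent.Helper1.BGW Cfsg.Agent.Helper1.BGX
open scoped commutatorElement Pointwise

universe u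

section generic

variable {Γ : Type u} [Group Γ] [Finite Γ]

omit [Finite Γ] in
/-- An element killed by `n`, with `n` coprime to the index of the normal subgroup `N`, lies in
`N`. -/
theorem mem_of_pow_eq_one_of_coprime_index (N : Subgroup Γ) [N.Normal] {n : ℕ}
    (hcop : n.Coprime N.index) {y : Γ} (hy : y ^ n = 1) : y ∈ N := by
  rw [← QuotientGroup.eq_one_iff]
  have h1 : ((y : Γ ⧸ N)) ^ n = 1 := by
    rw [← QuotientGroup.mk_pow, hy]; rfl
  have h2 : ((y : Γ ⧸ N)) ^ N.index = 1 := by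
    rw [Subgroup.index_eq_card]; exact pow_card_eq_one'
  have h3 : orderOf (y : Γ ⧸ N) ∣ Nat.gcd n N.index :=
    Nat.dvd_gcd (orderOf_dvd_of_pow_eq_one h1) (orderOf_dvd_of_pow_eq_one h2)
  rw [hcop] at h3
  exact orderOf_eq_one_iff.mp (Nat.dvd_one.mp h3)

omit [Finite Γ] in
/-- The relative version. -/
theorem mem_of_pow_eq_one_of_coprime_relIndex {H L : Subgroup Γ}
    (hLN : L ≤ Subgroup.normalizer (H : Set Γ)) {n : ℕ} (hcop : n.Coprime (H.relIndex L))
    {y : Γ} (hyL : y ∈ L) (hy : y ^ n = 1) : y ∈ H := by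
  have hn : (H.subgroupOf L).Normal := Subgroup.normal_subgroupOf_of_le_normalizer hLN
  have h1 : (⟨y, hyL⟩ : ↥L) ∈ H.subgroupOf L := by
    apply mem_of_pow_eq_one_of_coprime_index (H.subgroupOf L) hcop
    apply Subtype.ext
    simpa using hy
  exact Subgroup.mem_subgroupOf.mp h1

/-- A Hall subgroup of a nilpotent group is normal. -/
theorem normal_of_hall_of_isNilpotent [Group.IsNilpotent Γ] (H : Subgroup Γ)
    (hcop : (Nat.card H).Coprime H.index) : H.Normal := by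
  have hnc := (normalizerCondition_iff_only_full_group_self_normalizing (G := Γ)).mp
    Group.normalizerCondition_of_isNilpotent
  rw [← Subgroup.normalizer_eq_top_iff]
  apply hnc
  apply le_antisymm _ Subgroup.le_normalizer
  intro g hg
  apply Subgroup.mem_normalizer_fintype
  intro y hy
  have hyL : y ∈ Subgroup.normalizer (H : Set Γ) := Subgroup.le_normalizer hy
  have hgy : g * y * g⁻¹ ∈ Subgroup.normalizer (H : Set Γ) :=
    (Subgroup.mem_normalizer_iff.mp hg y).mp hyL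
  apply mem_of_pow_eq_one_of_coprime_relIndex (le_refl _) _ hgy
  · rw [conj_pow]
    have : y ^ Nat.card H = 1 := by
      have h1 : (⟨y, hy⟩ : ↥H) ^ Nat.card ↥H = 1 := pow_card_eq_one'
      have h2 := congrArg Subtype.val h1
      rw [Subgroup.coe_pow, Subgroup.coe_one] at h2
      exact h2
    rw [this]; group
  · exact Nat.Coprime.coprime_dvd_right (Subgroup.relIndex_dvd_index_of_le Subgroup.le_normalizer)
      hcop

/-- Nilpotency passes to the domain of an injective homomorphism. -/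
theorem isNilpotent_of_injective {A B : Type u} [Group A] [Group B] (f : A →* B)
    (hf : Function.Injective f) [hB : Group.IsNilpotent B] : Group.IsNilpotent A :=
  Group.nilpotent_of_mulEquiv (MonoidHom.ofInjective hf).symm

end generic

variable {G : Type u} [Group G] [Finite G]

/-- `q`-subgroups of `M` are cyclic when `M` has `q`-rank at most one (odd order). -/
theorem isCyclic_of_pRankLE_one (hodd : Odd (Nat.card G)) {M Z : Subgroup G} {q : ℕ}
    [hq : Fact q.Prime] (hr : Cfsg.PRankLE q 1 ↥M) (hZM : Z ≤ M) (hZ : IsPGroup q ↥Z) :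
    IsCyclic ↥Z := by
  by_cases hq2 : q = 2
  · subst hq2
    have h1 : Nat.card ↥Z = 1 := by
      obtain ⟨k, hk⟩ := IsPGroup.iff_card.mp hZ
      have hodd' : Odd (Nat.card ↥Z) :=
        Odd.of_dvd_nat hodd (Subgroup.card_subgroup_dvd_card _)
      rcases Nat.eq_zero_or_pos k with rfl | hk0
      · rw [hk, pow_zero]
      · exfalso
        rw [hk] at hodd'
        have : Even (2 ^ k) := (Nat.even_pow.mpr ⟨even_two, hk0.ne'⟩)
        exact (Nat.not_even_iff_odd.mpr hodd') this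
    have : Subsingleton ↥Z := (Nat.card_eq_one_iff_unique.mp h1).1
    exact isCyclic_of_subsingleton
  · by_contra hnc
    exact not_pRankLE_of_hasEA ((hasEA_one_of_not_isCyclic hq2 hZ hnc).mono hZM) hr

/-- A subgroup of `M` all of whose prime divisors have rank one in `M` is a Z-group. -/
theorem isZGroup_of_forall_pRankLE_one (hodd : Odd (Nat.card G)) {M H : Subgroup G}
    (hHM : H ≤ M) (h : ∀ q : ℕ, q.Prime → q ∣ Nat.card H → Cfsg.PRankLE q 1 ↥M) :
    IsZGroup ↥H := by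
  rw [isZGroup_iff]
  intro q hq P
  have := Fact.mk hq
  have e : ↥(P : Subgroup ↥H) ≃* ↥((P : Subgroup ↥H).map H.subtype) :=
    (P : Subgroup ↥H).equivMapOfInjective H.subtype H.subtype_injective
  by_cases hd : q ∣ Nat.card H
  · have hc : IsCyclic ↥((P : Subgroup ↥H).map H.subtype) :=
      isCyclic_of_pRankLE_one hodd (h q hq hd) ((Subgroup.map_subtype_le _).trans hHM)
        (P.2.map _)
    exact isCyclic_of_surjective e.symm.toMonoidHom e.symm.surjective
  · have h1 : Nat.card ↥(P : Subgroup ↥H) = 1 := by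
      obtain ⟨k, hk⟩ := IsPGroup.iff_card.mp P.2
      rcases Nat.eq_zero_or_pos k with rfl | hk0
      · rw [hk, pow_zero]
      · exfalso
        apply hd
        have h2 : q ∣ Nat.card ↥(P : Subgroup ↥H) := by rw [hk]; exact dvd_pow_self q hk0.ne'
        exact h2.trans (Subgroup.card_subgroup_dvd_card _)
    have : Subsingleton ↥(P : Subgroup ↥H) := (Nat.card_eq_one_iff_unique.mp h1).1
    exact isCyclic_of_subsingleton

omit [Finite G] in
/-- In a complement `E` of `M_σ`, an element lying in `O_σ(M)` is trivial. -/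
theorem eq_one_of_mem_compl_of_mem_piCore {M E : Subgroup G}
    (hE : Cfsg.IsComplIn E (Cfsg.sigmaCore M) M) {x : G} (hxE : x ∈ E)
    (hx : (⟨x, hE.1 hxE⟩ : ↥M) ∈ Cfsg.piCore (Cfsg.sigma M) ↥M) : x = 1 := by
  have h1 : x ∈ Cfsg.sigmaCore M := ⟨⟨x, hE.1 hxE⟩, hx, rfl⟩
  have h2 : x ∈ E ⊓ Cfsg.sigmaCore M := ⟨hxE, h1⟩
  rw [hE.2.2.1, Subgroup.mem_bot] at h2
  exact h2

omit [Finite G] in
/-- Every element of `M / O_σ(M)` is the image of an element of the complement `E`. -/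
theorem exists_mem_compl_mk_eq {M E : Subgroup G}
    (hE : Cfsg.IsComplIn E (Cfsg.sigmaCore M) M) (z : ↥M ⧸ Cfsg.piCore (Cfsg.sigma M) ↥M) :
    ∃ (e : G) (he : e ∈ E), (QuotientGroup.mk (⟨e, hE.1 he⟩ : ↥M) :
      ↥M ⧸ Cfsg.piCore (Cfsg.sigma M) ↥M) = z := by
  obtain ⟨m, rfl⟩ := QuotientGroup.mk_surjective z
  obtain ⟨e, he, s, hs, hm⟩ := hE.2.2.2 (m : G) m.2
  refine ⟨e, he, ?_⟩
  rw [QuotientGroup.eq]
  obtain ⟨s', hs', hss⟩ := hs
  have : (⟨e, hE.1 he⟩ : ↥M)⁻¹ * m = s' := by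
    apply Subtype.ext
    simp only [Subgroup.coe_mul, Subgroup.coe_inv]
    rw [hm]
    simp only [Subgroup.coe_subtype] at hss
    rw [hss]; group
  rw [this]; exact hs'

omit [Finite G] in
theorem commutator_le_of_le {E M : Subgroup G} (h : E ≤ M) : ⁅E, E⁆ ≤ ⁅M, M⁆ :=
  Subgroup.commutator_mono h h

omit [Finite G] in
theorem mem_commutator_subtype {M : Subgroup G} {x : G} (hx : x ∈ ⁅M, M⁆) :
    ∃ h : x ∈ M, (⟨x, h⟩ : ↥M) ∈ commutator ↥M := by
  rw [← Subgroup.map_subtype_commutator] at hx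
  obtain ⟨y, hy, hyx⟩ := hx
  refine ⟨hyx ▸ y.2, ?_⟩
  have : y = ⟨x, hyx ▸ y.2⟩ := Subtype.ext hyx
  rw [← this]; exact hy

/-- `E ≤ N(E')`. -/
theorem le_normalizer_commutator_self (E : Subgroup G) :
    E ≤ Subgroup.normalizer ((⁅E, E⁆ : Subgroup G) : Set G) := by
  intro g hg
  apply Subgroup.mem_normalizer_fintype
  intro x hx
  obtain ⟨hxE, hxc⟩ := mem_commutator_subtype hx
  have h1 := (inferInstance : (commutator ↥E).Normal).conj_mem _ hxc ⟨g, hg⟩
  have h2 : ((⟨g, hg⟩ * ⟨x, hxE⟩ * (⟨g, hg⟩ : ↥E)⁻¹ : ↥E) : G) ∈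
      (commutator ↥E).map E.subtype := ⟨_, h1, rfl⟩
  rw [Subgroup.map_subtype_commutator] at h2
  simpa using h2

omit [Finite G] in
/-- The image of `E'` in `M / O_σ(M)` contains the commutator subgroup. -/
theorem commutator_quotient_le {M E : Subgroup G}
    (hE : Cfsg.IsComplIn E (Cfsg.sigmaCore M) M)
    (z : ↥M ⧸ Cfsg.piCore (Cfsg.sigma M) ↥M) (hz : z ∈ commutator (↥M ⧸ Cfsg.piCore (Cfsg.sigma M) ↥M)) :
    ∃ (y : G) (hy : y ∈ ⁅E, E⁆), (QuotientGroup.mk (⟨y, hE.1 (Subgroup.commutator_le_self E hy)⟩ : ↥M) :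
      ↥M ⧸ Cfsg.piCore (Cfsg.sigma M) ↥M) = z := by
  let R : Subgroup (↥M ⧸ Cfsg.piCore (Cfsg.sigma M) ↥M) :=
    ((⁅E, E⁆ : Subgroup G).subgroupOf M).map (QuotientGroup.mk' (Cfsg.piCore (Cfsg.sigma M) ↥M))
  have hR : commutator (↥M ⧸ Cfsg.piCore (Cfsg.sigma M) ↥M) ≤ R := by
    rw [_root_.commutator_def, Subgroup.commutator_le]
    intro a _ b _
    obtain ⟨e₁, he₁, rfl⟩ := exists_mem_compl_mk_eq hE a
    obtain ⟨e₂, he₂, rfl⟩ := exists_mem_compl_mk_eq hE b
    refine ⟨⁅(⟨e₁, hE.1 he₁⟩ : ↥M), ⟨e₂, hE.1 he₂⟩⁆, ?_, ?_⟩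
    · rw [SetLike.mem_coe, Subgroup.mem_subgroupOf]
      have : ((⁅(⟨e₁, hE.1 he₁⟩ : ↥M), ⟨e₂, hE.1 he₂⟩⁆ : ↥M) : G) = ⁅e₁, e₂⁆ := by
        simp [commutatorElement_def]
      rw [this]
      exact Subgroup.commutator_mem_commutator he₁ he₂
    · rw [map_commutatorElement]
      rfl
  obtain ⟨w, hw, hwz⟩ := hR hz
  rw [SetLike.mem_coe, Subgroup.mem_subgroupOf] at hw
  refine ⟨(w : G), hw, ?_⟩
  rw [← hwz]
  rfl

omit [Finite G] in
/-- `M' ∩ E = E'`. -/
theorem commutator_inf_compl_le {M E : Subgroup G}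
    (hE : Cfsg.IsComplIn E (Cfsg.sigmaCore M) M) : ⁅M, M⁆ ⊓ E ≤ ⁅E, E⁆ := by
  rintro x ⟨hxc, hxE⟩
  obtain ⟨hxM, hxc'⟩ := mem_commutator_subtype hxc
  have hz : (QuotientGroup.mk (⟨x, hxM⟩ : ↥M) : ↥M ⧸ Cfsg.piCore (Cfsg.sigma M) ↥M) ∈
      commutator (↥M ⧸ Cfsg.piCore (Cfsg.sigma M) ↥M) := by
    have := Subgroup.mem_map_of_mem (QuotientGroup.mk' (Cfsg.piCore (Cfsg.sigma M) ↥M)) hxc'
    rw [_root_.commutator_def, Subgroup.map_commutator] at this
    rw [_root_.commutator_def]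
    exact Subgroup.commutator_mono le_top le_top this
  obtain ⟨y, hy, hyz⟩ := commutator_quotient_le hE _ hz
  have hyE : y ∈ E := Subgroup.commutator_le_self E hy
  rw [QuotientGroup.eq] at hyz
  have h1 : y⁻¹ * x = 1 := by
    apply eq_one_of_mem_compl_of_mem_piCore hE (E.mul_mem (E.inv_mem hyE) hxE)
    exact hyz
  have : x = y := by
    have h2 : x = y * (y⁻¹ * x) := by group
    rw [h2, h1, mul_one]
  rw [this]; exact hy

/-- `E'` is nilpotent. -/
theorem commutator_compl_isNilpotent (hG : Cfsg.IsMinSimpleOddOrder G) {M : Subgroup G}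
    (hM : IsCoatom M) {E : Subgroup G} (hE : Cfsg.IsComplIn E (Cfsg.sigmaCore M) M) :
    Group.IsNilpotent ↥⁅E, E⁆ := by
  have : Group.IsSolvable ↥M := hG.2.2.2 M hM.1
  have hodd : Odd (Nat.card M) := Odd.of_dvd_nat hG.1 (Subgroup.card_subgroup_dvd_card M)
  obtain ⟨h1, -⟩ := quotient_piCore_structure hodd (Cfsg.sigma M)
    (fun q hq hqσ => pRankLE_of_not_mem_sigma hG hM hq hqσ)
  have hEM : ⁅E, E⁆ ≤ M := (Subgroup.commutator_le_self E).trans hE.1
  let f : ↥⁅E, E⁆ →* ↥M ⧸ Cfsg.piCore (Cfsg.sigma M) ↥M :=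
    (QuotientGroup.mk' (Cfsg.piCore (Cfsg.sigma M) ↥M)).comp (Subgroup.inclusion hEM)
  have hfinj : Function.Injective f := by
    rw [injective_iff_map_eq_one]
    intro x hx
    have hx' : (Subgroup.inclusion hEM x) ∈ Cfsg.piCore (Cfsg.sigma M) ↥M :=
      (QuotientGroup.eq_one_iff _).mp hx
    apply Subtype.ext
    exact eq_one_of_mem_compl_of_mem_piCore hE (Subgroup.commutator_le_self E x.2) hx'
  have hrange : f.range ≤ Cfsg.fittingSubgroup (↥M ⧸ Cfsg.piCore (Cfsg.sigma M) ↥M) := by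
    rintro _ ⟨x, rfl⟩
    apply h1
    obtain ⟨hxM, hxc⟩ := mem_commutator_subtype (commutator_le_of_le hE.1 x.2)
    have := Subgroup.mem_map_of_mem (QuotientGroup.mk' (Cfsg.piCore (Cfsg.sigma M) ↥M)) hxc
    rw [_root_.commutator_def, Subgroup.map_commutator] at this
    rw [_root_.commutator_def]
    exact Subgroup.commutator_mono le_top le_top this
  have hnil : Group.IsNilpotent ↥f.range :=
    isNilpotent_of_le hrange fittingSubgroup_isNilpotent
  exact Group.nilpotent_of_mulEquiv (MonoidHom.ofInjective hfinj).symm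

omit [Finite G] in
/-- Elements of a subgroup are killed by its order. -/
theorem pow_card_eq_one_of_mem {H : Subgroup G} {y : G} (hy : y ∈ H) : y ^ Nat.card H = 1 := by
  have h1 : (⟨y, hy⟩ : ↥H) ^ Nat.card ↥H = 1 := pow_card_eq_one'
  have h2 := congrArg Subtype.val h1
  rw [Subgroup.coe_pow, Subgroup.coe_one] at h2
  exact h2

/-- For `p ∈ τ₃(M)`, the prime `p` does not divide `|M : M'|`. -/
theorem not_dvd_index_commutator_of_mem_tau3 (hG : Cfsg.IsMinSimpleOddOrder G) {M : Subgroup G}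
    {p : ℕ} (hp : p ∈ Cfsg.tau3 M) : ¬ p ∣ (commutator ↥M).index := by
  obtain ⟨hpp, -, hd, hr⟩ := hp
  have := Fact.mk hpp
  have P : Sylow p ↥M := default
  have hc : IsCyclic ↥((P : Subgroup ↥M).map M.subtype) :=
    isCyclic_of_pRankLE_one hG.1 hr (Subgroup.map_subtype_le _) (P.2.map _)
  have e : ↥(P : Subgroup ↥M) ≃* ↥((P : Subgroup ↥M).map M.subtype) :=
    (P : Subgroup ↥M).equivMapOfInjective M.subtype M.subtype_injective
  have hc' : IsCyclic ↥(P : Subgroup ↥M) :=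
    isCyclic_of_surjective e.symm.toMonoidHom e.symm.surjective
  rcases Sylow.not_dvd_card_commutator_or_not_dvd_index_commutator P with h | h
  · exfalso
    apply h
    rw [← Subgroup.map_subtype_commutator, Subgroup.card_map_of_injective M.subtype_injective] at hd
    exact hd
  · exact h

/-- Bender–Glauberman Lemma 12.1. -/
theorem lemma121 (hG : Cfsg.IsMinSimpleOddOrder G) (M : Subgroup G) (hM : IsCoatom M)
    (E : Subgroup G) (hE : Cfsg.IsComplIn E (Cfsg.sigmaCore M) M) :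
    Group.IsNilpotent ↥⁅E, E⁆ ∧
      (∀ E₁ : Subgroup G, Cfsg.IsPiHallOf (Cfsg.tau1 M) E₁ E → IsCyclic E₁) ∧
      ∀ E₃ : Subgroup G, Cfsg.IsPiHallOf (Cfsg.tau3 M) E₃ E →
        IsCyclic E₃ ∧ E₃ ≤ ⁅E, E⁆ ∧ E ≤ Subgroup.normalizer (E₃ : Set G) := by
  have hnil := commutator_compl_isNilpotent hG hM hE
  refine ⟨hnil, ?_, ?_⟩
  · rintro E₁ ⟨hE₁E, hE₁π, -⟩
    have hz : IsZGroup ↥E₁ := isZGroup_of_forall_pRankLE_one hG.1 (hE₁E.trans hE.1)
      (fun q hq hd => (hE₁π q hq hd).2.2.2.2)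
    -- `E₁` is abelian
    have hcop : (Nat.card E₁).Coprime (Nat.card ↥⁅M, M⁆) := by
      apply Nat.coprime_of_dvd
      intro q hq hd
      exact (hE₁π q hq hd).2.2.2.1
    have hcomm : ⁅E₁, E₁⁆ = ⊥ := by
      rw [eq_bot_iff]
      intro x hx
      rw [Subgroup.mem_bot]
      have h1 : x ^ Nat.card E₁ = 1 := pow_card_eq_one_of_mem (Subgroup.commutator_le_self E₁ hx)
      have h2 : x ^ Nat.card ↥⁅M, M⁆ = 1 :=
        pow_card_eq_one_of_mem (commutator_le_of_le (hE₁E.trans hE.1) hx)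
      have h3 : orderOf x ∣ Nat.gcd (Nat.card E₁) (Nat.card ↥⁅M, M⁆) :=
        Nat.dvd_gcd (orderOf_dvd_of_pow_eq_one h1) (orderOf_dvd_of_pow_eq_one h2)
      rw [hcop] at h3
      exact orderOf_eq_one_iff.mp (Nat.dvd_one.mp h3)
    have hnil₁ : Group.IsNilpotent ↥E₁ := by
      rw [Subgroup.isNilpotent_iff_lowerCentralSeries]
      refine ⟨1, ?_⟩
      rw [Subgroup.lowerCentralSeries_succ, Subgroup.lowerCentralSeries_zero]
      exact hcomm
    infer_instance
  · rintro E₃ ⟨hE₃E, hE₃π, hE₃idx⟩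
    have hE₃M : E₃ ≤ M := hE₃E.trans hE.1
    -- `E₃ ≤ M'`
    have hcop : (Nat.card E₃).Coprime (commutator ↥M).index := by
      apply Nat.coprime_of_dvd
      intro q hq hd
      exact not_dvd_index_commutator_of_mem_tau3 hG (hE₃π q hq hd)
    have hE₃c : E₃ ≤ ⁅E, E⁆ := by
      intro x hx
      apply commutator_inf_compl_le hE
      refine ⟨?_, hE₃E hx⟩
      have h1 : (⟨x, hE₃M hx⟩ : ↥M) ∈ commutator ↥M := by
        apply mem_of_pow_eq_one_of_coprime_index _ hcop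
        apply Subtype.ext
        rw [Subgroup.coe_pow, Subgroup.coe_one]
        exact pow_card_eq_one_of_mem hx
      have h2 : x ∈ (commutator ↥M).map M.subtype := ⟨_, h1, rfl⟩
      rw [Subgroup.map_subtype_commutator] at h2
      exact h2
    have hz : IsZGroup ↥E₃ := isZGroup_of_forall_pRankLE_one hG.1 hE₃M
      (fun q hq hd => (hE₃π q hq hd).2.2.2)
    have hnil₃ : Group.IsNilpotent ↥E₃ := isNilpotent_of_le hE₃c hnil
    refine ⟨inferInstance, hE₃c, ?_⟩
    -- normality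
    have hcop2 : (Nat.card E₃).Coprime (E₃.relIndex E) := by
      apply Nat.coprime_of_dvd
      intro q hq hd
      exact hE₃idx q hq (hE₃π q hq hd)
    have hcop3 : (Nat.card E₃).Coprime (E₃.relIndex ⁅E, E⁆) := by
      apply Nat.Coprime.coprime_dvd_right _ hcop2
      exact Dvd.intro _ (Subgroup.relIndex_mul_relIndex E₃ ⁅E, E⁆ E hE₃c
        (Subgroup.commutator_le_self E))
    have hnorm : (E₃.subgroupOf ⁅E, E⁆).Normal := by
      apply normal_of_hall_of_isNilpotent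
      rw [Cfsg.Agent.Lead.card_subgroupOf_of_le hE₃c]
      exact hcop3
    have hnorm' : ⁅E, E⁆ ≤ Subgroup.normalizer (E₃ : Set G) :=
      (Subgroup.normal_subgroupOf_iff_le_normalizer hE₃c).mp hnorm
    intro g hg
    apply Subgroup.mem_normalizer_fintype
    intro y hy
    have hyc : g * y * g⁻¹ ∈ ⁅E, E⁆ :=
      (Subgroup.mem_normalizer_iff.mp (le_normalizer_commutator_self E hg) y).mp (hE₃c hy)
    apply mem_of_pow_eq_one_of_coprime_relIndex hnorm' hcop3 hyc
    rw [conj_pow, pow_card_eq_one_of_mem hy]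
    group

end Cfsg.Agent.Lead.BG12
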