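import Mathlib
import Cfsg.Prelude
import Cfsg.Agent.Lead.BG12b
import Cfsg.Agent.Helper1.BGXi

set_option autoImplicit false

/-!
Bender–Glauberman, Lemma 12.2 and the start of Section 11 (exceptional maximal subgroups).
-/

namespace Cfsg.Agent.Lead.BG12

open Cfsg Cfsg.Agent.Helper1 Cfsg.Agent.Helper2 Cfsg.Agent.Helper1.BGT Cfsg.Agent.Helper1.BGU
  Cfsg.Agent.Helper1.BGV Cfsg.Agent.Helper1.BGW Cfsg.Agent.Helper1.BGX
open scoped commutatorElement Pointwise

universe u

/-- In a finite cyclic group, subgroups of the same order are equal. -/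
theorem eq_of_card_eq_of_isCyclic {C : Type u} [Group C] [Finite C] [IsCyclic C]
    {H₁ H₂ : Subgroup C} (h : Nat.card H₁ = Nat.card H₂) : H₁ = H₂ := by
  classical
  have := Fintype.ofFinite C
  have key : ∀ H : Subgroup C, (H : Set C) = {a : C | a ^ Nat.card H = 1} := by
    intro H
    have hn0 : 0 < Nat.card H := Nat.card_pos
    have h1 : (H : Set C) ⊆ {a : C | a ^ Nat.card H = 1} := by
      intro a ha
      exact pow_card_eq_one_of_mem ha
    have h2 : ({a : C | a ^ Nat.card H = 1} : Set C).ncard ≤ (H : Set C).ncard := by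
      have h3 := IsCyclic.card_pow_eq_one_le (α := C) hn0
      have h4 : ({a : C | a ^ Nat.card H = 1} : Set C).ncard =
          (Finset.univ.filter (fun a : C => a ^ Nat.card H = 1)).card := by
        rw [Set.ncard_eq_toFinset_card']
        congr 1
        ext a
        simp
      rw [h4]
      have h5 : (H : Set C).ncard = Nat.card H := (Nat.card_coe_set_eq (H : Set C)).symm
      rw [h5]
      exact h3
    exact Set.eq_of_subset_of_ncard_le h1 h2 (Set.toFinite _)
  apply SetLike.coe_injective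
  rw [key H₁, key H₂, h]

variable {G : Type u} [Group G] [Finite G]

/-- Subgroups of a cyclic subgroup with the same order are equal. -/
theorem eq_of_card_eq_of_le_isCyclic {P X₁ X₂ : Subgroup G} (hP : IsCyclic ↥P) (h₁ : X₁ ≤ P)
    (h₂ : X₂ ≤ P) (h : Nat.card X₁ = Nat.card X₂) : X₁ = X₂ := by
  have h3 : X₁.subgroupOf P = X₂.subgroupOf P := by
    apply eq_of_card_eq_of_isCyclic
    rw [Cfsg.Agent.Lead.card_subgroupOf_of_le h₁, Cfsg.Agent.Lead.card_subgroupOf_of_le h₂, h]
  have h4 := congrArg (Subgroup.map P.subtype) h3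
  rw [Subgroup.map_subgroupOf_eq_of_le h₁, Subgroup.map_subgroupOf_eq_of_le h₂] at h4
  exact h4

/-- The normalizer of a cyclic subgroup normalizes each of its subgroups. -/
theorem normalizer_le_normalizer_of_isCyclic {P X : Subgroup G} (hP : IsCyclic ↥P) (hXP : X ≤ P) :
    Subgroup.normalizer (P : Set G) ≤ Subgroup.normalizer (X : Set G) := by
  intro n hn
  apply Subgroup.mem_normalizer_fintype
  intro x hx
  have h1 : X.map (MulAut.conj n).toMonoidHom ≤ P := by
    rintro _ ⟨y, hy, rfl⟩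
    exact (Subgroup.mem_normalizer_iff.mp hn y).mp (hXP hy)
  have h2 : Nat.card ↥(X.map (MulAut.conj n).toMonoidHom) = Nat.card X :=
    Subgroup.card_map_of_injective (MulAut.conj n).injective
  have h3 := eq_of_card_eq_of_le_isCyclic hP h1 hXP h2
  rw [← h3]
  exact ⟨x, hx, rfl⟩

/-- A Sylow subgroup of `M` (given as a subgroup of `G`) whose normalizer lies in `M` puts its
prime in `σ(M)`. -/
theorem mem_sigma_of_normalizer_le {M P : Subgroup G} {p : ℕ} [hp : Fact p.Prime] (hPM : P ≤ M)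
    (hP1 : P ≠ ⊥) (hPp : IsPGroup p ↥P) (hcard : Nat.card P = p ^ (Nat.card M).factorization p)
    (hN : Subgroup.normalizer (P : Set G) ≤ M) : p ∈ Cfsg.sigma M := by
  have hcard' : Nat.card (P.subgroupOf M) = p ^ (Nat.card M).factorization p := by
    rw [Cfsg.Agent.Lead.card_subgroupOf_of_le hPM]; exact hcard
  refine ⟨hp.out, ?_, Sylow.ofCard (P.subgroupOf M) hcard', ?_⟩
  · exact (dvd_card_of_isPGroup_ne_bot hPp hP1).trans (Subgroup.card_dvd_of_le hPM)
  · rw [Sylow.coe_ofCard, Subgroup.map_subgroupOf_eq_of_le hPM]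
    exact hN

/-- Bender–Glauberman Lemma 12.2(a). -/
theorem lemma122a (hG : Cfsg.IsMinSimpleOddOrder G) {M : Subgroup G} (hM : IsCoatom M)
    {p : ℕ} [hp : Fact p.Prime] {X : Subgroup G} (hXp : IsPGroup p ↥X) (hX1 : X ≠ ⊥)
    (hN : Subgroup.normalizer (X : Set G) ≤ M) : p ∈ Cfsg.sigma M ∨ p ∈ Cfsg.tau2 M := by
  by_contra hcon
  push Not at hcon
  obtain ⟨hσ, hτ⟩ := hcon
  have hXM : X ≤ M := Subgroup.le_normalizer.trans hN
  have hr2 : Cfsg.PRankLE p 2 ↥M := pRankLE_of_not_mem_sigma hG hM hp.out hσ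
  have hr1 : Cfsg.PRankLE p 1 ↥M := by
    by_contra h
    exact hτ ⟨hp.out, hσ, hr2, h⟩
  obtain ⟨T, hXT, hTM, hTp, hTcard⟩ := Cfsg.Agent.Lead.exists_le_card_eq_ppart hXp hXM
  have hTc : IsCyclic ↥T := isCyclic_of_pRankLE_one hG.1 hr1 hTM hTp
  have hT1 : T ≠ ⊥ := fun h => hX1 (le_bot_iff.mp (h ▸ hXT))
  exact hσ (mem_sigma_of_normalizer_le hTM hT1 hTp hTcard
    ((normalizer_le_normalizer_of_isCyclic hTc hXT).trans hN))

omit [Finite G] in
theorem normalizer_conj_smul' (g : G) (H : Subgroup G) :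
    Subgroup.normalizer ((MulAut.conj g • H : Subgroup G) : Set G) =
      MulAut.conj g • Subgroup.normalizer (H : Set G) := by
  rw [conj_smul_eq_map, conj_smul_eq_map]
  exact (Subgroup.map_equiv_normalizer_eq H (MulAut.conj g)).symm

omit [Finite G] in
theorem conj_smul_inv_smul (g : G) (H : Subgroup G) :
    MulAut.conj g⁻¹ • MulAut.conj g • H = H := by
  rw [map_inv, inv_smul_smul]

omit [Finite G] in
theorem conj_smul_smul_inv (g : G) (H : Subgroup G) :
    MulAut.conj g • MulAut.conj g⁻¹ • H = H := by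
  rw [map_inv, smul_inv_smul]

omit [Finite G] in
theorem conj_smul_eq_self_of_mem {M : Subgroup G} {g : G} (hg : g ∈ M) :
    MulAut.conj g • M = M := by
  ext x
  rw [mem_conj_smul]
  constructor
  · intro h
    have : x = g * (g⁻¹ * x * g) * g⁻¹ := by group
    rw [this]
    exact M.mul_mem (M.mul_mem hg h) (M.inv_mem hg)
  · intro h
    exact M.mul_mem (M.mul_mem (M.inv_mem hg) h) hg

/-- Bender–Glauberman Lemma 12.2(b). -/
theorem lemma122b (hG : Cfsg.IsMinSimpleOddOrder G) {M Mstar : Subgroup G} (hM : IsCoatom M)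
    {p : ℕ} [hp : Fact p.Prime] {X : Subgroup G} (hXp : IsPGroup p ↥X) (hX1 : X ≠ ⊥)
    (hXM : X ≤ M) (hN : Subgroup.normalizer (X : Set G) ≤ Mstar)
    (h : (p ∈ Cfsg.sigma M ∧ Mstar ≠ M) ∨ p ∈ Cfsg.tau1 M ∨ p ∈ Cfsg.tau3 M) (g : G) :
    Mstar ≠ MulAut.conj g • M := by
  intro heq
  have key : (p ∉ Cfsg.sigma M ∧ Cfsg.PRankLE p 1 ↥M) → False := by
    rintro ⟨hσ, hr1⟩
    have hX'1 : MulAut.conj g⁻¹ • X ≠ ⊥ := conj_smul_ne_bot hX1
    have hX'p : IsPGroup p ↥(MulAut.conj g⁻¹ • X) := by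
      rw [conj_smul_eq_map]; exact hXp.map _
    have hN' : Subgroup.normalizer ((MulAut.conj g⁻¹ • X : Subgroup G) : Set G) ≤ M := by
      rw [normalizer_conj_smul']
      have := conj_smul_mono (k := g⁻¹) hN
      rw [heq, conj_smul_inv_smul] at this
      exact this
    rcases lemma122a hG hM hX'p hX'1 hN' with h1 | h1
    · exact hσ h1
    · exact h1.2.2.2 hr1
  rcases h with ⟨hσ, hne⟩ | h | h
  · obtain ⟨P, c⟩ := exists_sigCtx hG hM hσ
    obtain ⟨m, hm, c', hc', e⟩ := c.trans X hXM hXp hX1 g⁻¹ (by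
      intro x hx
      have h1 : x ∈ MulAut.conj g • M := heq ▸ hN (Subgroup.le_normalizer hx)
      rw [mem_conj_smul] at h1
      rw [inv_inv]; exact h1)
    have h1 : c' ∈ MulAut.conj g • M :=
      heq ▸ hN (Subgroup.centralizer_le_normalizer _ hc')
    have hg : g = (m * c')⁻¹ := by rw [← e, inv_inv]
    rw [mem_conj_smul, hg, inv_inv] at h1
    have h2 : c' ∈ M := by
      have e2 : c' = m⁻¹ * (m * c' * c' * (m * c')⁻¹) * m := by group
      rw [e2]
      exact M.mul_mem (M.mul_mem (M.inv_mem hm) h1) hm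
    have h3 : g ∈ M := by
      rw [hg]
      exact M.inv_mem (M.mul_mem hm h2)
    apply hne
    rw [heq, conj_smul_eq_self_of_mem h3]
  · exact key ⟨h.2.1, h.2.2.2.2⟩
  · exact key ⟨h.2.1, h.2.2.2⟩

end Cfsg.Agent.Lead.BG12
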