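import Mathlib
import Cfsg.Prelude
import Cfsg.Agent.Helper1.Coprime
import Cfsg.Agent.Helper1.Hall
import Cfsg.Agent.Helper3.PLen

set_option autoImplicit false
set_option linter.unusedSectionVars false
set_option linter.unusedVariables false

/-!
# Reduction for Bender–Glauberman Theorem 3.6 (`S1444`), part A: hypotheses and transport

`Hyp H R R₀` is the relative form of the hypotheses of Theorem 3.6 inside an ambient group:
`R` normalizes `H`, the orders of `H` and `R` are coprime, `R₀ ≤ R` has prime order and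
`C_H(R₀)` is a Z-group.  We show that `Hyp` is inherited by subgroups, by the ambient
subgroup `L ≥ H, R` regarded as a group, and by quotients by normal subgroups contained in `H`.
-/

namespace Cfsg.Agent.Lead.T36Red

open Cfsg.Agent.Helper1 Cfsg.Agent.Helper3.PLen
open scoped Pointwise commutatorElement

universe u

variable {G : Type u} [Group G]

/-- relative hypotheses of BG Theorem 3.6 -/
structure Hyp (H R R₀ : Subgroup G) : Prop where
  norm : R ≤ Subgroup.normalizer (H : Set G)
  cop : (Nat.card H).Coprime (Nat.card R)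
  le₀ : R₀ ≤ R
  prime₀ : (Nat.card R₀).Prime
  zgroup : IsZGroup ↥(H ⊓ Subgroup.centralizer (R₀ : Set G))

/-- `p`-length transported along the image under an injective homomorphism -/
theorem pLengthLE_map_iff {G' : Type u} [Group G'] [Finite G] [Finite G'] (p : ℕ)
    [hp : Fact p.Prime] (f : G →* G') (hf : Function.Injective f) (X : Subgroup G) (k : ℕ) :
    Cfsg.PLengthLE p k ↥(X.map f) ↔ Cfsg.PLengthLE p k ↥X :=
  ⟨fun h => pLengthLE_of_mulEquiv p (X.equivMapOfInjective f hf).symm h,
    fun h => pLengthLE_of_mulEquiv p (X.equivMapOfInjective f hf) h⟩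

theorem pLengthLE_congr [Finite G] (p : ℕ) [hp : Fact p.Prime] {X Y : Subgroup G} (h : X = Y)
    (k : ℕ) : Cfsg.PLengthLE p k ↥X ↔ Cfsg.PLengthLE p k ↥Y := by
  subst h; rfl

/-- a subgroup inherits the hypotheses -/
theorem Hyp.of_le {H R R₀ H₁ : Subgroup G} (h : Hyp H R R₀) (hH₁ : H₁ ≤ H)
    (hn : R ≤ Subgroup.normalizer (H₁ : Set G)) : Hyp H₁ R R₀ where
  norm := hn
  cop := h.cop.coprime_dvd_left (Subgroup.card_dvd_of_le hH₁)
  le₀ := h.le₀
  prime₀ := h.prime₀
  zgroup := by
    have := h.zgroup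
    exact IsZGroup.of_injective (f := Subgroup.inclusion
      (inf_le_inf_right (Subgroup.centralizer (R₀ : Set G)) hH₁))
      (Subgroup.inclusion_injective _)

/-- the acting group may be shrunk to a subgroup containing `R₀` -/
theorem Hyp.of_le_right {H R R₀ R₁ : Subgroup G} (h : Hyp H R R₀) (hR₁ : R₁ ≤ R)
    (h₀ : R₀ ≤ R₁) : Hyp H R₁ R₀ where
  norm := hR₁.trans h.norm
  cop := h.cop.coprime_dvd_right (Subgroup.card_dvd_of_le hR₁)
  le₀ := h₀
  prime₀ := h.prime₀
  zgroup := h.zgroup

section subgroupOf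

variable (L : Subgroup G)

theorem subgroupOf_le_normalizer {A B : Subgroup G} (hA : A ≤ L) (hB : B ≤ L)
    (h : A ≤ Subgroup.normalizer (B : Set G)) :
    A.subgroupOf L ≤ Subgroup.normalizer ((B.subgroupOf L : Subgroup L) : Set L) := by
  intro x hx
  rw [Subgroup.mem_subgroupOf] at hx
  rw [Subgroup.mem_normalizer_iff]
  intro y
  rw [Subgroup.mem_subgroupOf, Subgroup.mem_subgroupOf]
  exact Subgroup.mem_normalizer_iff.1 (h hx) y

theorem map_subtype_inf_centralizer_subgroupOf {H R₀ : Subgroup G} (hH : H ≤ L) (hR₀ : R₀ ≤ L) :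
    (H.subgroupOf L ⊓ Subgroup.centralizer ((R₀.subgroupOf L : Subgroup L) : Set L)).map L.subtype =
      H ⊓ Subgroup.centralizer (R₀ : Set G) := by
  ext x
  rw [Subgroup.mem_map, Subgroup.mem_inf]
  constructor
  · rintro ⟨y, hy, rfl⟩
    rw [Subgroup.mem_inf] at hy
    obtain ⟨hyH, hyC⟩ := hy
    refine ⟨Subgroup.mem_subgroupOf.1 hyH, ?_⟩
    rw [Subgroup.mem_centralizer_iff]
    intro r hr
    have := Subgroup.mem_centralizer_iff.1 hyC ⟨r, hR₀ hr⟩ (Subgroup.mem_subgroupOf.2 hr)
    exact congrArg Subtype.val this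
  · rintro ⟨hxH, hxC⟩
    refine ⟨⟨x, hH hxH⟩, ?_, rfl⟩
    rw [Subgroup.mem_inf]
    refine ⟨Subgroup.mem_subgroupOf.2 hxH, ?_⟩
    rw [Subgroup.mem_centralizer_iff]
    intro r hr
    apply Subtype.ext
    exact Subgroup.mem_centralizer_iff.1 hxC r (Subgroup.mem_subgroupOf.1 hr)

/-- the hypotheses inside the subgroup `L` regarded as a group -/
theorem Hyp.subgroupOf [Finite G] {H R R₀ : Subgroup G} (h : Hyp H R R₀) (hH : H ≤ L)
    (hR : R ≤ L) : Hyp (H.subgroupOf L) (R.subgroupOf L) (R₀.subgroupOf L) where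
  norm := subgroupOf_le_normalizer L hR hH h.norm
  cop := by
    rw [card_subgroupOf_of_le hH, card_subgroupOf_of_le hR]; exact h.cop
  le₀ := by
    intro x hx
    rw [Subgroup.mem_subgroupOf] at hx ⊢
    exact h.le₀ hx
  prime₀ := by
    rw [card_subgroupOf_of_le (h.le₀.trans hR)]; exact h.prime₀
  zgroup := by
    have := h.zgroup
    have e := map_subtype_inf_centralizer_subgroupOf L hH (h.le₀.trans hR)
    set X := H.subgroupOf L ⊓ Subgroup.centralizer ((R₀.subgroupOf L : Subgroup L) : Set L)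
    let f : ↥X →* ↥(H ⊓ Subgroup.centralizer (R₀ : Set G)) :=
      { toFun := fun x => ⟨(x : L), by rw [← e]; exact ⟨x, x.2, rfl⟩⟩
        map_one' := rfl
        map_mul' := fun _ _ => rfl }
    apply IsZGroup.of_injective (f := f)
    intro a b hab
    apply Subtype.ext; apply Subtype.ext
    exact congrArg (fun z : ↥(H ⊓ Subgroup.centralizer (R₀ : Set G)) => (z : G)) hab

theorem map_subtype_commutator_subgroupOf {H R : Subgroup G} (hH : H ≤ L) (hR : R ≤ L) :
    (⁅H.subgroupOf L, R.subgroupOf L⁆).map L.subtype = ⁅H, R⁆ := by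
  rw [Subgroup.map_commutator, Subgroup.map_subgroupOf_eq_of_le hH,
    Subgroup.map_subgroupOf_eq_of_le hR]

/-- the conclusion transported back from `L` -/
theorem pLengthLE_commutator_of_subgroupOf [Finite G] (p : ℕ) [hp : Fact p.Prime]
    {H R : Subgroup G} (hH : H ≤ L) (hR : R ≤ L) {k : ℕ}
    (h : Cfsg.PLengthLE p k ↥⁅H.subgroupOf L, R.subgroupOf L⁆) :
    Cfsg.PLengthLE p k ↥⁅H, R⁆ := by
  rw [← pLengthLE_map_iff p L.subtype L.subtype_injective] at h
  exact (pLengthLE_congr p (map_subtype_commutator_subgroupOf L hH hR) k).1 h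

end subgroupOf

section quotient

variable [Finite G] (N : Subgroup G) [N.Normal]

theorem map_le_normalizer_map {G' : Type*} [Group G'] (f : G →* G') {A B : Subgroup G}
    (h : A ≤ Subgroup.normalizer (B : Set G)) :
    A.map f ≤ Subgroup.normalizer ((B.map f : Subgroup G') : Set G') := by
  rintro _ ⟨a, ha, rfl⟩
  have : Finite ↥(B.map f) := Finite.of_surjective _ (f.subgroupMap_surjective B)
  apply Subgroup.mem_normalizer_fintype
  rintro _ ⟨b, hb, rfl⟩
  exact ⟨a * b * a⁻¹, (Subgroup.mem_normalizer_iff.1 (h ha) b).1 hb, by simp⟩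

theorem card_map_of_inf_ker_eq_bot {G' : Type*} [Group G'] (f : G →* G') (A : Subgroup G)
    (h : A ⊓ f.ker = ⊥) : Nat.card (A.map f) = Nat.card A := by
  have hinj : Function.Injective (f.subgroupMap A) := by
    rw [← MonoidHom.ker_eq_bot_iff, eq_bot_iff]
    intro x hx
    rw [MonoidHom.mem_ker] at hx
    have h1 : (x : G) ∈ A ⊓ f.ker :=
      Subgroup.mem_inf.2 ⟨x.2, MonoidHom.mem_ker.2 (congrArg Subtype.val hx)⟩
    rw [h, Subgroup.mem_bot] at h1
    rw [Subgroup.mem_bot]
    exact Subtype.ext h1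
  exact (Nat.card_congr (Equiv.ofBijective _ ⟨hinj, f.subgroupMap_surjective A⟩)).symm

/-- fixed points of a coprime action pass to quotients -/
theorem map_inf_centralizer_eq {H R₀ : Subgroup G} (hN : N ≤ H)
    (hn : R₀ ≤ Subgroup.normalizer (H : Set G)) (hcop : (Nat.card R₀).Coprime (Nat.card H))
    (hsol : Group.IsSolvable R₀ ∨ Group.IsSolvable H) :
    H.map (QuotientGroup.mk' N) ⊓
        Subgroup.centralizer ((R₀.map (QuotientGroup.mk' N) : Subgroup (G ⧸ N)) : Set (G ⧸ N)) =
      (H ⊓ Subgroup.centralizer (R₀ : Set G)).map (QuotientGroup.mk' N) := by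
  apply le_antisymm
  · intro y hy
    rw [Subgroup.mem_inf] at hy
    obtain ⟨⟨k, hk, rfl⟩, hyC⟩ := hy
    have hfix : ∀ a ∈ R₀, a * k * a⁻¹ * k⁻¹ ∈ N := by
      intro a ha
      rw [← QuotientGroup.eq_one_iff]
      have h1 := Subgroup.mem_centralizer_iff.1 hyC (QuotientGroup.mk' N a) ⟨a, ha, rfl⟩
      simp only [QuotientGroup.mk'_apply] at h1
      rw [QuotientGroup.mk_mul, QuotientGroup.mk_mul, QuotientGroup.mk_mul, h1,
        QuotientGroup.mk_inv, QuotientGroup.mk_inv]
      group
    obtain ⟨c, hc, hcN⟩ := coprime_fixed_coset R₀ H hn hcop hsol N hN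
      (fun x _ => by rw [Subgroup.normalizer_eq_top]; exact Subgroup.mem_top x)
      (fun x _ => by rw [Subgroup.normalizer_eq_top]; exact Subgroup.mem_top x) k hk hfix
    refine ⟨c, hc, ?_⟩
    rw [QuotientGroup.mk'_apply, QuotientGroup.mk'_apply, eq_comm, QuotientGroup.eq]
    exact hcN
  · rintro _ ⟨x, hx, rfl⟩
    have hx : x ∈ H ⊓ Subgroup.centralizer (R₀ : Set G) := hx
    rw [Subgroup.mem_inf] at hx ⊢
    refine ⟨⟨x, hx.1, rfl⟩, ?_⟩
    rw [Subgroup.mem_centralizer_iff]
    rintro _ ⟨r, hr, rfl⟩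
    rw [← map_mul, ← map_mul, Subgroup.mem_centralizer_iff.1 hx.2 r hr]

/-- the hypotheses pass to the quotient by a normal subgroup contained in `H` -/
theorem Hyp.map_mk' {H R R₀ : Subgroup G} (h : Hyp H R R₀) (hN : N ≤ H) :
    Hyp (H.map (QuotientGroup.mk' N)) (R.map (QuotientGroup.mk' N))
      (R₀.map (QuotientGroup.mk' N)) where
  norm := map_le_normalizer_map _ h.norm
  cop := Nat.Coprime.coprime_dvd_left (Subgroup.card_map_dvd _ _)
    (Nat.Coprime.coprime_dvd_right (Subgroup.card_map_dvd _ _) h.cop)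
  le₀ := Subgroup.map_mono h.le₀
  prime₀ := by
    rw [card_map_of_inf_ker_eq_bot]
    · exact h.prime₀
    · rw [QuotientGroup.ker_mk', eq_bot_iff]
      have hd : H ⊓ R = ⊥ := inf_eq_bot_of_coprime_card h.cop
      rw [← hd]
      exact le_inf (inf_le_right.trans hN) (inf_le_left.trans h.le₀)
  zgroup := by
    have := h.zgroup
    have hsol : Group.IsSolvable R₀ ∨ Group.IsSolvable H := by
      left
      have : Fact (Nat.card R₀).Prime := ⟨h.prime₀⟩
      have := isCyclic_of_prime_card (α := ↥R₀) rfl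
      infer_instance
    rw [map_inf_centralizer_eq N hN (h.le₀.trans h.norm)
      (h.cop.symm.coprime_dvd_left (Subgroup.card_dvd_of_le h.le₀)) hsol]
    exact IsZGroup.of_surjective
      (f := (QuotientGroup.mk' N).subgroupMap (H ⊓ Subgroup.centralizer (R₀ : Set G)))
      (MonoidHom.subgroupMap_surjective _ _)

theorem commutator_map_mk' (H R : Subgroup G) :
    ⁅H.map (QuotientGroup.mk' N), R.map (QuotientGroup.mk' N)⁆ =
      ⁅H, R⁆.map (QuotientGroup.mk' N) :=
  (Subgroup.map_commutator H R _).symm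

theorem card_map_mk'_lt {H : Subgroup G} (hN : N ≤ H) (hN1 : N ≠ ⊥) :
    Nat.card (H.map (QuotientGroup.mk' N)) < Nat.card H := by
  have h1 := card_map_mk'_mul_card N H hN
  have h2 : 1 < Nat.card N := by
    rcases Nat.lt_or_ge 1 (Nat.card N) with h | h
    · exact h
    · exfalso
      have : Nat.card N = 1 := le_antisymm h Nat.card_pos
      exact hN1 (Subgroup.card_eq_one.1 this)
  have h3 : 0 < Nat.card (H.map (QuotientGroup.mk' N)) := Nat.card_pos
  nlinarith

theorem odd_card_quotient (hodd : Odd (Nat.card G)) : Odd (Nat.card (G ⧸ N)) := by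
  have : Nat.card (G ⧸ N) ∣ Nat.card G := by
    rw [← Subgroup.index_eq_card]; exact Subgroup.index_dvd_card N
  exact Odd.of_dvd_nat hodd this

end quotient

end Cfsg.Agent.Lead.T36Red
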