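import Mathlib
import Cfsg.Prelude
import Cfsg.Agent.Lead.T36RedA
import Cfsg.Agent.Helper1.PLength1
import Cfsg.Agent.Helper1.Fitting2
import Cfsg.Agent.Helper1.FrattiniAct

set_option autoImplicit false
set_option linter.unusedSectionVars false
set_option linter.unusedVariables false

/-!
# Reduction for BG Theorem 3.6, part B: lifting `p`-length one from quotients
-/

namespace Cfsg.Agent.Lead.T36Red

open Cfsg.Agent.Helper1 Cfsg.Agent.Helper3.PLen
open scoped Pointwise commutatorElement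

universe u

section abstract

variable {X : Type u} [Group X] [Finite X]

/-- a normal Sylow `p`-subgroup gives `p`-length at most one -/
theorem pLengthLE_one_of_normal_pGroup (p : ℕ) [hp : Fact p.Prime] (S : Subgroup X) [S.Normal]
    (hS : IsPGroup p S) (hidx : S.index.Coprime p) : Cfsg.PLengthLE p 1 X := by
  obtain ⟨m, hm⟩ := IsPGroup.iff_card.1 hS
  have h1 : Cfsg.PLengthLE p 1 ↥S := pLengthLE_one_of_card p hm
  have h0 : Cfsg.PLengthLE p 0 (X ⧸ S) := by
    apply pLengthLE_zero_of_coprime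
    rw [← Subgroup.index_eq_card]; exact hidx
  exact pLengthLE_add p S h1 h0

/-- `p`-length lifts along a surjection whose kernel has order prime to `p` -/
theorem pLengthLE_of_surjective_of_coprime_ker {Y : Type u} [Group Y] [Finite Y] (p : ℕ)
    [hp : Fact p.Prime] (f : X →* Y) (hf : Function.Surjective f)
    (hker : (Nat.card f.ker).Coprime p) {k : ℕ} (h : Cfsg.PLengthLE p k Y) :
    Cfsg.PLengthLE p k X := by
  apply pLengthLE_of_quotient_coprime p f.ker hker
  exact pLengthLE_of_mulEquiv p (QuotientGroup.quotientKerEquivOfSurjective f hf).symm h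

/-- the lifting step modulo a Frattini-type subgroup `Φ ≤ O_p(X)` -/
theorem pLengthLE_one_of_quotient [Group.IsSolvable X] (p : ℕ) [hp : Fact p.Prime]
    (hO : Cfsg.pPrimeCore p X = ⊥) (Φ : Subgroup X) [Φ.Normal] (hΦW : Φ ≤ Cfsg.pCore p X)
    (hstar : ∀ x : X, (orderOf x).Coprime p →
      (∀ w ∈ Cfsg.pCore p X, w * x * w⁻¹ * x⁻¹ ∈ Φ) →
        x ∈ Subgroup.centralizer (Cfsg.pCore p X : Set X))
    (h : Cfsg.PLengthLE p 1 (X ⧸ Φ)) : Cfsg.PLengthLE p 1 X := by
  set W := Cfsg.pCore p X with hW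
  have hWp : IsPGroup p W := pCore_isPGroup p
  have hWn : W.Normal := Cfsg.pCore_normal p X
  have hCW : Subgroup.centralizer (W : Set X) ≤ W := centralizer_pCore_le p hO
  set π := QuotientGroup.mk' Φ with hπ
  have hπs : Function.Surjective π := QuotientGroup.mk'_surjective Φ
  obtain ⟨Kb, hKbn, hKbcop, hKbS⟩ := exists_normal_of_pLengthLE_one p h
  -- every `p'`-element of the preimage of `Kb` is trivial
  have step1 : ∀ x : X, π x ∈ Kb → (orderOf x).Coprime p → x = 1 := by
    intro x hx hcop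
    have hxC : x ∈ Subgroup.centralizer (W : Set X) := by
      apply hstar x hcop
      intro w hw
      have hcW : w * x * w⁻¹ * x⁻¹ ∈ W := by
        have h1 : x * w⁻¹ * x⁻¹ ∈ W := hWn.conj_mem _ (W.inv_mem hw) x
        have e : w * x * w⁻¹ * x⁻¹ = w * (x * w⁻¹ * x⁻¹) := by group
        rw [e]; exact W.mul_mem hw h1
      have hcK : π (w * x * w⁻¹ * x⁻¹) ∈ Kb := by
        have h1 : π w * π x * (π w)⁻¹ ∈ Kb := hKbn.conj_mem _ hx (π w)
        have e : π (w * x * w⁻¹ * x⁻¹) = (π w * π x * (π w)⁻¹) * (π x)⁻¹ := by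
          simp only [map_mul, map_inv]
        rw [e]; exact Kb.mul_mem h1 (Kb.inv_mem hx)
      -- the image is both a `p`-element and a `p'`-element
      have h1 : π (w * x * w⁻¹ * x⁻¹) = 1 := by
        obtain ⟨n, hn⟩ := hWp ⟨_, hcW⟩
        have hn' : (π (w * x * w⁻¹ * x⁻¹)) ^ (p ^ n) = 1 := by
          rw [← map_pow]
          have : (w * x * w⁻¹ * x⁻¹) ^ (p ^ n) = 1 := congrArg Subtype.val hn
          rw [this, map_one]
        have hd1 : orderOf (π (w * x * w⁻¹ * x⁻¹)) ∣ p ^ n := orderOf_dvd_of_pow_eq_one hn'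
        have hd2 : orderOf (π (w * x * w⁻¹ * x⁻¹)) ∣ Nat.card Kb := by
          have := orderOf_dvd_natCard (⟨_, hcK⟩ : ↥Kb)
          rwa [Subgroup.orderOf_mk] at this
        have hc : (p ^ n).Coprime (Nat.card Kb) := (Nat.Coprime.pow_left n hKbcop.symm)
        have := Nat.eq_one_of_dvd_coprimes hc hd1 hd2
        exact orderOf_eq_one_iff.1 this
      rw [hπ, QuotientGroup.mk'_apply, QuotientGroup.eq_one_iff] at h1
      exact h1
    have hxW : x ∈ W := hCW hxC
    obtain ⟨n, hn⟩ := hWp ⟨x, hxW⟩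
    have hn' : x ^ (p ^ n) = 1 := congrArg Subtype.val hn
    have hd : orderOf x ∣ p ^ n := orderOf_dvd_of_pow_eq_one hn'
    have : orderOf x = 1 :=
      Nat.eq_one_of_dvd_coprimes (Nat.Coprime.pow_right n hcop) dvd_rfl hd
    exact orderOf_eq_one_iff.1 this
  -- hence `Kb` is a `p`-group, so trivial
  have step2 : Kb = ⊥ := by
    rw [eq_bot_iff]
    intro y hy
    obtain ⟨x, rfl⟩ := hπs y
    set n := orderOf x with hn
    have hn0 : n ≠ 0 := (orderOf_pos x).ne'
    set a := n.factorization p with ha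
    have hdvd : p ^ a ∣ n := Nat.ordProj_dvd n p
    have h1 : orderOf (x ^ (p ^ a)) = n / p ^ a :=
      orderOf_pow_of_dvd (pow_ne_zero _ hp.out.ne_zero) hdvd
    have h2 : (orderOf (x ^ (p ^ a))).Coprime p := by
      rw [h1]; exact (Nat.coprime_ordCompl hp.out hn0).symm
    have h3 : π (x ^ (p ^ a)) ∈ Kb := by rw [map_pow]; exact Kb.pow_mem hy _
    have h4 : x ^ (p ^ a) = 1 := step1 _ h3 h2
    -- `π x` is a `p`-element of the `p'`-group `Kb`
    have h5 : (π x) ^ (p ^ a) = 1 := by rw [← map_pow, h4, map_one]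
    have hd1 : orderOf (π x) ∣ p ^ a := orderOf_dvd_of_pow_eq_one h5
    have hd2 : orderOf (π x) ∣ Nat.card Kb := by
      have := orderOf_dvd_natCard (⟨_, hy⟩ : ↥Kb)
      rwa [Subgroup.orderOf_mk] at this
    have := Nat.eq_one_of_dvd_coprimes (Nat.Coprime.pow_left a hKbcop.symm) hd1 hd2
    rw [Subgroup.mem_bot]
    exact orderOf_eq_one_iff.1 this
  -- a Sylow `p`-subgroup of the quotient is normal; pull it back
  obtain ⟨Sb⟩ : Nonempty (Sylow p (X ⧸ Φ)) := inferInstance
  have hSbn : (Sb : Subgroup (X ⧸ Φ)).Normal := by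
    have := hKbS Sb
    rwa [step2, bot_sup_eq] at this
  set S := (Sb : Subgroup (X ⧸ Φ)).comap π with hS
  have hSn : S.Normal := hSbn.comap π
  have hSp : IsPGroup p S := by
    obtain ⟨a, ha⟩ := IsPGroup.iff_card.1 Sb.2
    obtain ⟨b, hb⟩ := IsPGroup.iff_card.1 (hWp.to_le hΦW)
    apply IsPGroup.of_card (n := a + b)
    rw [hS, card_comap_mk', ha, hb, pow_add]
  have hidx : S.index.Coprime p := by
    rw [hS, Subgroup.index_comap_of_surjective _ hπs]
    exact (Nat.Prime.coprime_iff_not_dvd hp.out).2 Sb.not_dvd_index |>.symm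
  exact pLengthLE_one_of_normal_pGroup p S hSp hidx

end abstract

end Cfsg.Agent.Lead.T36Red
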