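import Mathlib
import Cfsg.Prelude
import Cfsg.Agent.Lead.T36RedB
import Cfsg.Agent.Helper1.SylowInt
import Cfsg.Agent.Helper1.HallExtra
import Cfsg.Agent.Helper1.HallHigmanDual
import Cfsg.Agent.Helper1.AbelianAct
import Cfsg.Agent.Helper4.SolvPSolv
import Cfsg.Agent.Helper4.SubnormalPRad

set_option autoImplicit false
set_option linter.unusedSectionVars false
set_option linter.unusedVariables false

/-!
# Reduction for BG Theorem 3.6, part C: invariant complements, faithful action on `O_{p'}`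
-/

namespace Cfsg.Agent.Lead.T36Red

open Cfsg.Agent.Helper1 Cfsg.Agent.Helper3.PLen
open scoped Pointwise commutatorElement

universe u

variable {G : Type u} [Group G]

/-- an element normalizing `A` and `B` normalizes `⁅A, B⁆` -/
theorem mem_normalizer_commutator {A B : Subgroup G} {g : G}
    (hA : g ∈ Subgroup.normalizer (A : Set G)) (hB : g ∈ Subgroup.normalizer (B : Set G)) :
    g ∈ Subgroup.normalizer ((⁅A, B⁆ : Subgroup G) : Set G) := by
  have key : ∀ g : G, g ∈ Subgroup.normalizer (A : Set G) → g ∈ Subgroup.normalizer (B : Set G) →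
      ∀ x ∈ ⁅A, B⁆, g * x * g⁻¹ ∈ ⁅A, B⁆ := by
    intro g hA hB x hx
    have h1 : ⁅A, B⁆ ≤ (⁅A, B⁆).comap (MulAut.conj g).toMonoidHom := by
      rw [Subgroup.commutator_le]
      intro a ha b hb
      rw [Subgroup.mem_comap, map_commutatorElement]
      apply Subgroup.commutator_mem_commutator
      · exact (Subgroup.mem_normalizer_iff.1 hA a).1 ha
      · exact (Subgroup.mem_normalizer_iff.1 hB b).1 hb
    exact h1 hx
  rw [Subgroup.mem_normalizer_iff]
  intro x
  refine ⟨key g hA hB x, fun h => ?_⟩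
  have := key g⁻¹ (Subgroup.inv_mem _ hA) (Subgroup.inv_mem _ hB) _ h
  simpa [mul_assoc] using this

theorem le_normalizer_commutator {A B C : Subgroup G}
    (hA : C ≤ Subgroup.normalizer (A : Set G)) (hB : C ≤ Subgroup.normalizer (B : Set G)) :
    C ≤ Subgroup.normalizer ((⁅A, B⁆ : Subgroup G) : Set G) :=
  fun _ hg => mem_normalizer_commutator (hA hg) (hB hg)

theorem le_normalizer_sup {A B C : Subgroup G}
    (hA : C ≤ Subgroup.normalizer (A : Set G)) (hB : C ≤ Subgroup.normalizer (B : Set G)) :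
    C ≤ Subgroup.normalizer ((A ⊔ B : Subgroup G) : Set G) := by
  have key : ∀ g : G, g ∈ Subgroup.normalizer (A : Set G) → g ∈ Subgroup.normalizer (B : Set G) →
      ∀ x ∈ A ⊔ B, g * x * g⁻¹ ∈ A ⊔ B := by
    intro g hA hB x hx
    have h1 : A ⊔ B ≤ (A ⊔ B).comap (MulAut.conj g).toMonoidHom := by
      apply sup_le
      · intro a ha
        rw [Subgroup.mem_comap]
        exact Subgroup.mem_sup_left ((Subgroup.mem_normalizer_iff.1 hA a).1 ha)
      · intro b hb
        rw [Subgroup.mem_comap]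
        exact Subgroup.mem_sup_right ((Subgroup.mem_normalizer_iff.1 hB b).1 hb)
    exact h1 hx
  intro g hg
  rw [Subgroup.mem_normalizer_iff]
  intro x
  refine ⟨key g (hA hg) (hB hg) x, fun h => ?_⟩
  have := key g⁻¹ (Subgroup.inv_mem _ (hA hg)) (Subgroup.inv_mem _ (hB hg)) _ h
  simpa [mul_assoc] using this

/-- elements of two subgroups with trivial intersection, each normalizing the other subgroup,
commute -/
theorem commute_of_normalizer_of_disjoint {A B : Subgroup G} (hd : A ⊓ B = ⊥) {x y : G}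
    (hx : x ∈ A) (hy : y ∈ B) (hxB : x ∈ Subgroup.normalizer (B : Set G))
    (hyA : y ∈ Subgroup.normalizer (A : Set G)) : x * y = y * x := by
  have h1 : x * y * x⁻¹ * y⁻¹ ∈ A ⊓ B := by
    constructor
    · have : y * x⁻¹ * y⁻¹ ∈ A := (Subgroup.mem_normalizer_iff.mp hyA x⁻¹).mp (A.inv_mem hx)
      have e : x * y * x⁻¹ * y⁻¹ = x * (y * x⁻¹ * y⁻¹) := by group
      rw [e]; exact A.mul_mem hx this
    · have : x * y * x⁻¹ ∈ B := (Subgroup.mem_normalizer_iff.mp hxB y).mp hy
      exact B.mul_mem this (B.inv_mem hy)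
  rw [hd, Subgroup.mem_bot] at h1
  have e : x * y = (x * y * x⁻¹ * y⁻¹) * (y * x) := by group
  rw [e, h1, one_mul]

variable [Finite G]

/-- under a coprime action on a solvable group there is an invariant `p`-complement -/
theorem exists_invariant_pcomplement (A K : Subgroup G)
    (hAK : A ≤ Subgroup.normalizer (K : Set G)) (hcop : (Nat.card A).Coprime (Nat.card K))
    (hK : Group.IsSolvable K) (p : ℕ) (hp : p.Prime) :
    ∃ T : Subgroup G, T ≤ K ∧ A ≤ Subgroup.normalizer (T : Set G) ∧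
      T.relIndex K = p ^ (Nat.card K).factorization p := by
  obtain ⟨T₀, hT₀⟩ := exists_pcomplement ↥K p hp
  set P₀ := T₀.map K.subtype with hP₀
  have hP₀K : P₀ ≤ K := Subgroup.map_subtype_le _
  have hrel : ∀ T : Subgroup G, T ≤ K → Nat.card T = Nat.card P₀ →
      T.relIndex K = p ^ (Nat.card K).factorization p := by
    intro T hT hc
    have h1 := relIndex_mul_card_of_le hT
    have h2 := T₀.card_mul_index
    rw [hT₀, ← card_map_subtype K T₀, ← hP₀, ← hc] at h2
    have : T.relIndex K * Nat.card T = ppart (Nat.card K) p * Nat.card T := by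
      rw [h1, mul_comm, h2]
    exact Nat.eq_of_mul_eq_mul_right Nat.card_pos this
  have hcardK : Nat.card K = Nat.card P₀ * ppart (Nat.card K) p := by
    rw [hP₀, card_map_subtype, ← hT₀]; exact (T₀.card_mul_index).symm
  have hcop' : (Nat.card P₀).Coprime (ppart (Nat.card K) p) := by
    have hK0 : Nat.card K ≠ 0 := Nat.card_pos.ne'
    have h2 : Nat.card P₀ = Nat.card K / ppart (Nat.card K) p := by
      have := Nat.div_eq_of_eq_mul_left (ppart_pos hp) hcardK
      exact this.symm
    rw [h2]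
    exact (Nat.Coprime.pow_left _ (Nat.coprime_ordCompl hp hK0)).symm
  obtain ⟨hC, -⟩ := (hallProp_of_solvable _ ↥K rfl).internal _ _ hcardK hcop'
  obtain ⟨k, hk, hfix⟩ := glauberman_exists_subgroup A K hAK hcop (Or.inr hK) P₀ (by
    intro a ha
    have h1 : MulAut.conj a • P₀ ≤ K := conj_smul_le_of_mem_normalizer hP₀K (hAK ha)
    obtain ⟨k, hk, hk'⟩ := hC P₀ (MulAut.conj a • P₀) hP₀K h1 rfl (card_conj_smul a P₀)
    exact ⟨k, hk, hk'.symm⟩)
  refine ⟨MulAut.conj k • P₀, ?_, ?_, ?_⟩
  · exact conj_smul_le_of_mem_normalizer hP₀K (Subgroup.le_normalizer hk)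
  · intro a ha
    exact mem_normalizer_of_conj_smul_eq (hfix a ha)
  · exact hrel _ (conj_smul_le_of_mem_normalizer hP₀K (Subgroup.le_normalizer hk))
      (card_conj_smul k P₀)

/-- `O_{p'}` is characteristic -/
theorem pPrimeCore_char (p : ℕ) (X : Type*) [Group X] : (Cfsg.pPrimeCore p X).Characteristic := by
  rw [Subgroup.characteristic_iff_map_le]
  intro φ
  unfold Cfsg.pPrimeCore
  rw [Subgroup.map_le_iff_le_comap]
  apply sSup_le
  intro N hN
  rw [← Subgroup.map_le_iff_le_comap]
  apply le_sSup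
  refine ⟨hN.1.map φ.toMonoidHom φ.surjective, ?_⟩
  rw [Subgroup.card_map_of_injective φ.injective]
  exact hN.2

/-- a finite group is generated by one Sylow subgroup for each prime -/
theorem iSup_sylow_map_eq (K : Subgroup G)
    (Q : (q : Nat.Primes) → letI : Fact (q : ℕ).Prime := ⟨q.2⟩; Sylow (q : ℕ) ↥K) :
    (⨆ q : Nat.Primes, letI : Fact (q : ℕ).Prime := ⟨q.2⟩;
      ((Q q : Sylow (q : ℕ) ↥K) : Subgroup ↥K).map K.subtype) = K := by
  set J : Subgroup G := ⨆ q : Nat.Primes, letI : Fact (q : ℕ).Prime := ⟨q.2⟩;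
      ((Q q : Sylow (q : ℕ) ↥K) : Subgroup ↥K).map K.subtype with hJ
  have hJK : J ≤ K := by
    apply iSup_le
    intro q
    exact Subgroup.map_subtype_le _
  apply Subgroup.eq_of_le_of_card_ge hJK
  apply Nat.le_of_dvd Nat.card_pos
  rw [← Nat.factorization_le_iff_dvd Nat.card_pos.ne' Nat.card_pos.ne']
  intro q
  by_cases hq : q.Prime
  · have : Fact q.Prime := ⟨hq⟩
    have h1 : ((Q ⟨q, hq⟩ : Sylow q ↥K) : Subgroup ↥K).map K.subtype ≤ J :=
      le_iSup (fun q : Nat.Primes => letI : Fact (q : ℕ).Prime := ⟨q.2⟩;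
        ((Q q : Sylow (q : ℕ) ↥K) : Subgroup ↥K).map K.subtype) ⟨q, hq⟩
    have h2 := Subgroup.card_dvd_of_le h1
    rw [card_map_subtype, Sylow.card_eq_multiplicity] at h2
    exact (hq.pow_dvd_iff_le_factorization Nat.card_pos.ne').1 h2
  · rw [Nat.factorization_eq_zero_of_not_prime _ hq]
    exact Nat.zero_le _

theorem eq_bot_of_isPGroup_of_coprime {q : ℕ} [Fact q.Prime] {X K : Subgroup G}
    (hX : IsPGroup q X) (hXK : X ≤ K) (hK : (Nat.card K).Coprime q) : X = ⊥ := by
  obtain ⟨k, hk⟩ := IsPGroup.iff_card.1 hX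
  have h3 : Nat.card X ∣ Nat.card K := Subgroup.card_dvd_of_le hXK
  have h4 : (Nat.card X).Coprime (Nat.card K) := by
    rw [hk]; exact Nat.Coprime.pow_left k hK.symm
  exact Subgroup.card_eq_one.1 (Nat.Coprime.eq_one_of_dvd h4 h3)

/-- **faithful action on `O_{p'}`**: in a solvable normal subgroup `H` with `O_p(H) = 1`, a
nontrivial `p`-subgroup `P ≤ H` normalized by a group `R` of order prime to `|H|` acts
nontrivially on some `PR`-invariant `q`-subgroup of `H`. -/
theorem exists_invariant_qSubgroup_not_centralized (H R P : Subgroup G)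
    (hHn : Subgroup.normalizer (H : Set G) = ⊤) (hsol : Group.IsSolvable G)
    (hcop : (Nat.card H).Coprime (Nat.card R)) (p : ℕ) [hp : Fact p.Prime]
    (hO : Cfsg.pCore p ↥H = ⊥) (hPH : P ≤ H) (hP : IsPGroup p P) (hP1 : P ≠ ⊥)
    (hRP : R ≤ Subgroup.normalizer (P : Set G)) :
    ∃ q : ℕ, q.Prime ∧ q ≠ p ∧ ∃ Q : Subgroup G, Q ≤ H ∧ IsPGroup q Q ∧
      P ≤ Subgroup.normalizer (Q : Set G) ∧ R ≤ Subgroup.normalizer (Q : Set G) ∧
      ¬ P ≤ Subgroup.centralizer (Q : Set G) := by
  have : Group.IsSolvable ↥H := isSolvable_of_le le_top (by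
    exact Group.isSolvable_of_isSolvable_injective (f := (⊤ : Subgroup G).subtype)
      (Subgroup.subtype_injective _))
  set K := (Cfsg.pPrimeCore p ↥H).map H.subtype with hK
  have hKH : K ≤ H := Subgroup.map_subtype_le _
  have hKcop : (Nat.card K).Coprime p := by
    rw [hK, card_map_subtype]; exact card_pPrimeCore_coprime p
  have hKn : Subgroup.normalizer (K : Set G) = ⊤ := by
    have := pPrimeCore_char p ↥H
    have h1 := le_normalizer_map_of_characteristic H (Cfsg.pPrimeCore p ↥H)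
    rw [hHn] at h1
    exact top_le_iff.1 h1
  have hdual : H ⊓ Subgroup.centralizer (K : Set G) ≤ K := by
    intro x hx
    rw [Subgroup.mem_inf] at hx
    have h1 : (⟨x, hx.1⟩ : ↥H) ∈ Subgroup.centralizer (Cfsg.pPrimeCore p ↥H : Set ↥H) := by
      rw [Subgroup.mem_centralizer_iff]
      intro k hk
      apply Subtype.ext
      exact Subgroup.mem_centralizer_iff.1 hx.2 (k : G) ⟨k, hk, rfl⟩
    have h2 := centralizer_pPrimeCore_le_of_isPSolvable
      (Cfsg.Agent.Helper4.SolvPSolv.isPSolvable_of_isSolvable p inferInstance) hO h1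
    exact ⟨⟨x, hx.1⟩, h2, rfl⟩
  by_contra hcon
  push Not at hcon
  set A := P ⊔ R with hA
  have hAK : A ≤ Subgroup.normalizer (K : Set G) := by rw [hKn]; exact le_top
  have hPR : P ⊓ R = ⊥ := inf_eq_bot_of_coprime_card
    (hcop.coprime_dvd_left (Subgroup.card_dvd_of_le hPH))
  have hcardA : Nat.card A = Nat.card R * Nat.card P := by
    rw [hA]
    exact card_sup_of_le_normalizer hRP (by rw [inf_comm]; exact hPR)
  have hcopA : (Nat.card A).Coprime (Nat.card K) := by
    rw [hcardA]
    apply Nat.Coprime.mul_left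
    · exact (hcop.coprime_dvd_left (Subgroup.card_dvd_of_le hKH)).symm
    · obtain ⟨k, hk⟩ := IsPGroup.iff_card.1 hP
      rw [hk]
      exact Nat.Coprime.pow_left k hKcop.symm
  have hsolK : Group.IsSolvable ↥K := isSolvable_of_le hKH inferInstance
  have hex : ∀ q : Nat.Primes, letI : Fact (q : ℕ).Prime := ⟨q.2⟩;
      ∃ Q : Sylow (q : ℕ) ↥K,
        A ≤ Subgroup.normalizer (((Q : Subgroup ↥K).map K.subtype : Subgroup G) : Set G) := by
    intro q
    let _ : Fact (q : ℕ).Prime := ⟨q.2⟩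
    exact exists_invariant_sylow (p := (q : ℕ)) A K hAK hcopA (Or.inr hsolK)
  choose Q hQ using hex
  have hcent : ∀ q : Nat.Primes, letI : Fact (q : ℕ).Prime := ⟨q.2⟩;
      ((Q q : Sylow (q : ℕ) ↥K) : Subgroup ↥K).map K.subtype ≤
        Subgroup.centralizer (P : Set G) := by
    intro q
    let _ : Fact (q : ℕ).Prime := ⟨q.2⟩
    by_cases hqp : (q : ℕ) = p
    · -- a `p`-subgroup of the `p'`-group `K` is trivial
      have hKcop' : (Nat.card K).Coprime (q : ℕ) := by rw [hqp]; exact hKcop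
      have h2 : ((Q q : Sylow (q : ℕ) ↥K) : Subgroup ↥K).map K.subtype = ⊥ :=
        eq_bot_of_isPGroup_of_coprime ((Q q).2.map K.subtype) (Subgroup.map_subtype_le _) hKcop'
      rw [h2]; exact bot_le
    · rw [Subgroup.le_centralizer_iff]
      exact hcon q q.2 hqp _ ((Subgroup.map_subtype_le _).trans hKH) ((Q q).2.map K.subtype)
        (le_sup_left.trans (hQ q)) (le_sup_right.trans (hQ q))
  have hKP : K ≤ Subgroup.centralizer (P : Set G) := by
    rw [← iSup_sylow_map_eq K Q]
    exact iSup_le hcent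
  have hPK : P ≤ K := by
    intro x hx
    apply hdual
    rw [Subgroup.mem_inf]
    exact ⟨hPH hx, (Subgroup.le_centralizer_iff.1 hKP) hx⟩
  exact hP1 (eq_bot_of_isPGroup_of_coprime hP hPK hKcop)

end Cfsg.Agent.Lead.T36Red
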