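import Mathlib
import Cfsg.Prelude
import Cfsg.Agent.Lead.T36RedC

set_option autoImplicit false
set_option linter.unusedSectionVars false
set_option linter.unusedVariables false

/-!
# Reduction for BG Theorem 3.6, part D: `p`-length one with trivial `O_{p'}`
-/

namespace Cfsg.Agent.Lead.T36Red

open Cfsg.Agent.Helper1 Cfsg.Agent.Helper3.PLen
open scoped Pointwise commutatorElement

universe u

variable {G : Type u} [Group G] [Finite G]

/-- `O_{p'}(D) = 1` for a subgroup `D ⊴ H` when `O_{p'}(H) = 1` -/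
theorem pPrimeCore_eq_bot_of_normal_le (p : ℕ) {H D : Subgroup G} (hDH : D ≤ H)
    (hHD : H ≤ Subgroup.normalizer (D : Set G)) (hO : Cfsg.pPrimeCore p ↥H = ⊥) :
    Cfsg.pPrimeCore p ↥D = ⊥ := by
  set K := (Cfsg.pPrimeCore p ↥D).map D.subtype with hK
  have hKD : K ≤ D := Subgroup.map_subtype_le _
  have hKn : H ≤ Subgroup.normalizer (K : Set G) := by
    have := pPrimeCore_char p ↥D
    exact hHD.trans (le_normalizer_map_of_characteristic D (Cfsg.pPrimeCore p ↥D))
  have hKcop : (Nat.card K).Coprime p := by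
    rw [hK, card_map_subtype]; exact card_pPrimeCore_coprime p
  have hnorm : (K.subgroupOf H).Normal :=
    (Subgroup.normal_subgroupOf_iff_le_normalizer (hKD.trans hDH)).2 hKn
  have h1 : K.subgroupOf H ≤ Cfsg.pPrimeCore p ↥H := by
    apply le_pPrimeCore hnorm
    rw [card_subgroupOf_of_le (hKD.trans hDH)]; exact hKcop
  rw [hO, le_bot_iff, Subgroup.subgroupOf_eq_bot] at h1
  have h2 : K = ⊥ := h1.eq_bot_of_le (hKD.trans hDH)
  rw [hK] at h2
  exact (Subgroup.map_eq_bot_iff_of_injective _ D.subtype_injective).1 h2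

/-- `O_{p'}(D) = 1` when `D` normalizes, and is normalized by, a `p`-subgroup `W` with
`C_D(W) ≤ W` -/
theorem pPrimeCore_eq_bot_of_centralizer_le (p : ℕ) [hp : Fact p.Prime] {D W : Subgroup G}
    (hWp : IsPGroup p W) (hWD : W ≤ Subgroup.normalizer (D : Set G))
    (hDW : D ≤ Subgroup.normalizer (W : Set G))
    (hCW : D ⊓ Subgroup.centralizer (W : Set G) ≤ W) : Cfsg.pPrimeCore p ↥D = ⊥ := by
  set K := (Cfsg.pPrimeCore p ↥D).map D.subtype with hK
  have hKD : K ≤ D := Subgroup.map_subtype_le _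
  have hKn : W ≤ Subgroup.normalizer (K : Set G) := by
    have := pPrimeCore_char p ↥D
    exact hWD.trans (le_normalizer_map_of_characteristic D (Cfsg.pPrimeCore p ↥D))
  have hKcop : (Nat.card K).Coprime p := by
    rw [hK, card_map_subtype]; exact card_pPrimeCore_coprime p
  have hdisj : K ⊓ W = ⊥ := by
    apply inf_eq_bot_of_coprime_card
    obtain ⟨k, hk⟩ := IsPGroup.iff_card.1 hWp
    rw [hk]; exact Nat.Coprime.pow_right k hKcop
  have hKC : K ≤ Subgroup.centralizer (W : Set G) := by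
    intro x hx
    rw [Subgroup.mem_centralizer_iff]
    intro w hw
    exact (commute_of_normalizer_of_disjoint hdisj hx hw
      (hDW (hKD hx)) (hKn hw)).symm
  have hKW : K ≤ W := fun x hx => hCW (Subgroup.mem_inf.2 ⟨hKD hx, hKC hx⟩)
  have hKbot : K = ⊥ := by
    rw [eq_bot_iff, ← hdisj]; exact le_inf le_rfl hKW
  rw [hK] at hKbot
  exact (Subgroup.map_eq_bot_iff_of_injective _ D.subtype_injective).1 hKbot

/-- if `D` has `p`-length one and `O_{p'}(D) = 1` then `O_p(D)` contains every `p`-subgroup -/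
theorem le_pCore_map_of_pLengthLE_one (p : ℕ) [hp : Fact p.Prime] {D U : Subgroup G}
    (hpl : Cfsg.PLengthLE p 1 ↥D) (hO : Cfsg.pPrimeCore p ↥D = ⊥) (hUD : U ≤ D)
    (hU : IsPGroup p U) : U ≤ (Cfsg.pCore p ↥D).map D.subtype := by
  obtain ⟨K, hKn, hKcop, hKS⟩ := exists_normal_of_pLengthLE_one p hpl
  have hK : K = ⊥ := by
    have := le_pPrimeCore hKn hKcop
    rwa [hO, le_bot_iff] at this
  obtain ⟨S, hS⟩ := (hU.comap_subtype (H := U) (K := D)).exists_le_sylow
  have hSn : (S : Subgroup ↥D).Normal := by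
    have := hKS S
    rwa [hK, bot_sup_eq] at this
  have hSle : (S : Subgroup ↥D) ≤ Cfsg.pCore p ↥D := le_pCore hSn S.2
  intro u hu
  exact ⟨⟨u, hUD hu⟩, hSle (hS (Subgroup.mem_subgroupOf.2 hu)), rfl⟩

end Cfsg.Agent.Lead.T36Red
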