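import Mathlib
import Cfsg.Prelude
import Cfsg.Agent.Lead.T36RedD
import Cfsg.Agent.Helper2.T36red
import Cfsg.Agent.Helper4.FrattiniQuotient
import Cfsg.Agent.Helper4.SubnormalPRad

set_option autoImplicit false
set_option linter.unusedSectionVars false
set_option linter.unusedVariables false

/-!
# Reduction for BG Theorem 3.6, part E: a minimal counterexample is a reduced configuration
-/

namespace Cfsg.Agent.Lead.T36Red

open Cfsg.Agent.Helper1 Cfsg.Agent.Helper3.PLen Cfsg.Agent.Helper2.T36
open scoped Pointwise commutatorElement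

universe u

variable {G : Type u} [Group G] [Finite G]

/-- `Φ(P) = 1` makes a `p`-group elementary abelian -/
theorem isElementaryAbelian_of_frattini_eq_bot {p : ℕ} [hp : Fact p.Prime] {X : Type u} [Group X]
    [Finite X] (V : Subgroup X) (hV : IsPGroup p V) (hΦ : frattini ↥V = ⊥) :
    Cfsg.IsElementaryAbelian p V := by
  refine ⟨⟨⟨?_⟩⟩, ?_⟩
  · intro a b
    have h := Cfsg.Agent.Helper4.pgroup_commutator_mem_frattini hV a b
    rw [hΦ, Subgroup.mem_bot] at h
    have h2 : a * b = b * a := by
      have : a * b * a⁻¹ * b⁻¹ * (b * a) = a * b := by group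
      rw [← this, h, one_mul]
    exact h2
  · intro a ha
    have h := Cfsg.Agent.Helper4.pgroup_pow_mem_frattini hV ⟨a, ha⟩
    rw [hΦ, Subgroup.mem_bot] at h
    have := congrArg Subtype.val h
    simpa using this

/-- the kernel of `↥H → ↥(H.map (mk' N))` for `N = K.map H.subtype` -/
theorem ker_subgroupMap_mk' (H : Subgroup G) (K : Subgroup ↥H) [hn : (K.map H.subtype).Normal] :
    ((QuotientGroup.mk' (K.map H.subtype)).subgroupMap H).ker = K := by
  ext x
  rw [MonoidHom.mem_ker]
  constructor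
  · intro h
    have h1 := congrArg Subtype.val h
    have h2 : (QuotientGroup.mk' (K.map H.subtype)) (x : G) = 1 := h1
    rw [← MonoidHom.mem_ker, QuotientGroup.ker_mk'] at h2
    obtain ⟨y, hy, hyx⟩ := Subgroup.mem_map.1 h2
    have : y = x := Subtype.ext hyx
    rwa [← this]
  · intro h
    apply Subtype.ext
    change (QuotientGroup.mk' (K.map H.subtype)) (x : G) = 1
    rw [← MonoidHom.mem_ker, QuotientGroup.ker_mk']
    exact Subgroup.mem_map_of_mem _ h

/-- Part A of the reduction: a counterexample of minimal order is a reduced configuration. -/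
theorem exists_red [Group.IsSolvable G] (hodd : Odd (Nat.card G))
    (IH : ∀ (X : Type u) [Group X] [Finite X], Nat.card X < Nat.card G → Thm36For X)
    (H R R₀ : Subgroup G) [hHn : H.Normal] (hHall : (Nat.card H).Coprime H.index)
    (hcompl : Subgroup.IsComplement' H R) (hR₀ : R₀ ≤ R) (hR₀p : (Nat.card R₀).Prime)
    (hZ : IsZGroup ↥(H ⊓ Subgroup.centralizer (R₀ : Set G))) {p : ℕ} [hp : Fact p.Prime]
    (hnot : ¬ Cfsg.PLengthLE p 1 ↥⁅H, R⁆) : ∃ W : Subgroup G, Red p H R R₀ W := by
  have hcardR : Nat.card R = H.index := by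
    have h1 := hcompl.card_mul_card
    have h2 := Subgroup.card_mul_index H
    rw [← h2] at h1
    exact Nat.eq_of_mul_eq_mul_left Nat.card_pos h1
  have hcop : (Nat.card H).Coprime (Nat.card R) := by rw [hcardR]; exact hHall
  have hsup : H ⊔ R = ⊤ := hcompl.sup_eq_top
  have hcG : Nat.card H * Nat.card R = Nat.card G := hcompl.card_mul_card
  have ihsub := fun H₁ R₁ R₀₁ => ih_sub hodd IH (p := p) hp.out H₁ R₁ R₀₁
  have hRH : R ≤ Subgroup.normalizer (H : Set G) := by
    rw [Subgroup.normalizer_eq_top]; exact le_top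
  -- R1
  have hHR : ⁅H, R⁆ = H := by
    by_contra hne
    set H₁ : Subgroup G := ⁅H, R⁆ with hH₁
    have hH₁H : H₁ ≤ H := Subgroup.commutator_le_left H R
    have hRH₁ : R ≤ Subgroup.normalizer (H₁ : Set G) :=
      le_normalizer_commutator hRH Subgroup.le_normalizer
    have hcop₁ : (Nat.card H₁).Coprime (Nat.card R) :=
      hcop.coprime_dvd_left (Subgroup.card_dvd_of_le hH₁H)
    have hdisj : R ⊓ H₁ = ⊥ := inf_eq_bot_of_coprime_card hcop₁.symm
    have hne' : H₁ ⊔ R ≠ ⊤ := by
      intro htop
      have h1 : Nat.card (H₁ ⊔ R : Subgroup G) = Nat.card R * Nat.card H₁ :=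
        card_sup_of_le_normalizer hRH₁ hdisj
      rw [htop, Subgroup.card_top, ← hcG, mul_comm] at h1
      have h2 : Nat.card H = Nat.card H₁ := Nat.eq_of_mul_eq_mul_left Nat.card_pos h1
      exact hne (Subgroup.eq_of_le_of_card_ge hH₁H h2.le)
    have hZ₁ : IsZGroup ↥(H₁ ⊓ Subgroup.centralizer (R₀ : Set G)) := by
      have := hZ
      exact IsZGroup.of_injective (f := Subgroup.inclusion (inf_le_inf_right _ hH₁H))
        (Subgroup.inclusion_injective _)
    have h1 := ihsub H₁ R R₀ hne' hRH₁ hcop₁ hR₀ hR₀p hZ₁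
    have h2 : ⁅H₁, R⁆ = H₁ :=
      coprime_commutator_commutator R H hRH hcop.symm (Or.inr inferInstance)
    exact hnot ((pLengthLE_congr p h2 1).1 h1)
  have hnotH : ¬ Cfsg.PLengthLE p 1 ↥H := fun h => hnot ((pLengthLE_congr p hHR 1).2 h)
  -- R2
  have hO : Cfsg.pPrimeCore p ↥H = ⊥ := by
    by_contra hne
    have hchar := pPrimeCore_char p ↥H
    set K := Cfsg.pPrimeCore p ↥H with hK
    have hNn : (K.map H.subtype).Normal := ConjAct.normal_of_characteristic_of_normal
    have hN1 : K.map H.subtype ≠ ⊥ := by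
      intro h
      apply hne
      rwa [Subgroup.map_eq_bot_iff_of_injective _ H.subtype_injective] at h
    have hNH : K.map H.subtype ≤ H := Subgroup.map_subtype_le _
    have h1 := ih_quot hodd IH hp.out H R R₀ hHall hcompl hR₀ hR₀p hZ (K.map H.subtype) hN1 hNH
    rw [hHR] at h1
    apply hnotH
    refine pLengthLE_of_surjective_of_coprime_ker p
      ((QuotientGroup.mk' (K.map H.subtype)).subgroupMap H)
      (MonoidHom.subgroupMap_surjective _ _) ?_ h1
    rw [ker_subgroupMap_mk']
    exact card_pPrimeCore_coprime p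
  -- R3
  have hVchar : (Cfsg.pCore p ↥H).Characteristic :=
    Cfsg.Agent.Helper4.SubnormalPRad.pCore_char p ↥H
  have hVp : IsPGroup p (Cfsg.pCore p ↥H) := pCore_isPGroup p
  set V := Cfsg.pCore p ↥H with hV
  have hΦ : frattini ↥V = ⊥ := by
    by_contra hne
    set F : Subgroup ↥H := (frattini ↥V).map V.subtype with hF
    have hFchar : F.Characteristic := inferInstance
    have hNn : (F.map H.subtype).Normal := ConjAct.normal_of_characteristic_of_normal
    have hN1 : F.map H.subtype ≠ ⊥ := by
      intro h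
      apply hne
      rw [Subgroup.map_eq_bot_iff_of_injective _ H.subtype_injective] at h
      rwa [Subgroup.map_eq_bot_iff_of_injective _ V.subtype_injective] at h
    have hNH : F.map H.subtype ≤ H := Subgroup.map_subtype_le _
    have h1 := ih_quot hodd IH hp.out H R R₀ hHall hcompl hR₀ hR₀p hZ (F.map H.subtype) hN1 hNH
    rw [hHR] at h1
    apply hnotH
    have hFn : F.Normal := inferInstance
    apply pLengthLE_one_of_quotient_frattini hO F le_rfl
    have hker : ((QuotientGroup.mk' (F.map H.subtype)).subgroupMap H).ker = F :=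
      ker_subgroupMap_mk' H F
    have e1 := QuotientGroup.quotientKerEquivOfSurjective
      ((QuotientGroup.mk' (F.map H.subtype)).subgroupMap H) (MonoidHom.subgroupMap_surjective _ _)
    have e2 : ↥H ⧸ F ≃* ↥H ⧸ ((QuotientGroup.mk' (F.map H.subtype)).subgroupMap H).ker :=
      QuotientGroup.quotientMulEquivOfEq hker.symm
    exact pLengthLE_of_mulEquiv p (e2.trans e1).symm h1
  set W : Subgroup G := V.map H.subtype with hW
  have hWn : W.Normal := ConjAct.normal_of_characteristic_of_normal
  have hWH : W ≤ H := Subgroup.map_subtype_le _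
  have hVel : Cfsg.IsElementaryAbelian p V := isElementaryAbelian_of_frattini_eq_bot V hVp hΦ
  have hWel : Cfsg.IsElementaryAbelian p W := by
    obtain ⟨hc, he⟩ := hVel
    refine ⟨⟨⟨?_⟩⟩, ?_⟩
    · rintro ⟨a, ha⟩ ⟨b, hb⟩
      obtain ⟨a', ha', rfl⟩ := Subgroup.mem_map.1 ha
      obtain ⟨b', hb', rfl⟩ := Subgroup.mem_map.1 hb
      apply Subtype.ext
      have h1 := hc.is_comm.comm ⟨a', ha'⟩ ⟨b', hb'⟩
      have h2 := congrArg (fun z : ↥V => ((z : ↥H) : G)) h1
      exact h2
    · intro a ha
      obtain ⟨a', ha', rfl⟩ := Subgroup.mem_map.1 ha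
      have := he a' ha'
      rw [← map_pow, this, map_one]
  have hCW : H ⊓ Subgroup.centralizer (W : Set G) ≤ W := by
    intro x hx
    obtain ⟨hxH, hxC⟩ := Subgroup.mem_inf.1 hx
    have h1 : (⟨x, hxH⟩ : ↥H) ∈ Subgroup.centralizer (V : Set ↥H) := by
      rw [Subgroup.mem_centralizer_iff]
      intro v hv
      apply Subtype.ext
      exact Subgroup.mem_centralizer_iff.1 hxC (v : G) (Subgroup.mem_map_of_mem _ hv)
    have h2 := centralizer_pCore_le p hO h1
    exact Subgroup.mem_map.2 ⟨⟨x, hxH⟩, h2, rfl⟩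
  have hWmax : ∀ A : Subgroup G, A ≤ H → H ≤ Subgroup.normalizer (A : Set G) → IsPGroup p A →
      A ≤ W := by
    intro A hAH hHA hAp
    have hAn : (A.subgroupOf H).Normal :=
      (Subgroup.normal_subgroupOf_iff_le_normalizer hAH).2 hHA
    have hAp' : IsPGroup p (A.subgroupOf H) := hAp.comap_subtype
    have h1 : A.subgroupOf H ≤ V := le_pCore hAn hAp'
    intro a ha
    exact Subgroup.mem_map.2 ⟨⟨a, hAH ha⟩, h1 (Subgroup.mem_subgroupOf.2 ha), rfl⟩
  have hidx : p ∣ W.relIndex H := by
    by_contra hnd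
    apply hnotH
    apply Cfsg.Agent.Helper3.GYen.pLengthLE_one_of_index_pCore
    have h1 : W.subgroupOf H = V := Subgroup.comap_map_eq_self_of_injective H.subtype_injective V
    have h2 : W.relIndex H = V.index := by rw [Subgroup.relIndex, h1]
    rwa [← h2]
  exact ⟨W, { hHn := hHn, hcop := hcop, hsup := hsup, hR₀ := hR₀, hR₀p := hR₀p, hZ := hZ,
              hHR := hHR, hWn := hWn, hWH := hWH, hW := hWel, hCW := hCW, hWmax := hWmax,
              hidx := hidx, ihsub := ihsub }⟩

end Cfsg.Agent.Lead.T36Red
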