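import Mathlib
import Cfsg.Prelude
import Cfsg.Agent.Lead.T36RedE

set_option autoImplicit false
set_option linter.unusedSectionVars false
set_option linter.unusedVariables false

/-!
# Reduction for BG Theorem 3.6, part F: the induction on the order
-/

namespace Cfsg.Agent.Lead.T36Red

open Cfsg.Agent.Helper1 Cfsg.Agent.Helper3.PLen Cfsg.Agent.Helper2.T36
open scoped Pointwise commutatorElement

universe u

/-- BG Theorem 3.6 for all groups, given that reduced configurations do not exist -/
theorem thm36For_of_red_false
    (hfalse : ∀ (X : Type u) [Group X] [Finite X] [Group.IsSolvable X] (p : ℕ) [Fact p.Prime]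
      (H R R₀ W : Subgroup X), Red p H R R₀ W → Odd (Nat.card X) → False) :
    ∀ (n : ℕ) (X : Type u) [Group X] [Finite X], Nat.card X = n → Thm36For X := by
  intro n
  induction n using Nat.strong_induction_on with
  | _ n ih =>
    intro X _ _ hn
    intro hfin hsolv hodd H R R₀ hHn hHall hcompl hR₀ hR₀p hZ p hp
    have : Fact p.Prime := ⟨hp⟩
    by_contra hnot
    have IH : ∀ (Y : Type u) [Group Y] [Finite Y], Nat.card Y < Nat.card X → Thm36For Y := by
      intro Y _ _ hlt
      exact ih (Nat.card Y) (hn ▸ hlt) Y rfl
    obtain ⟨W, hred⟩ := exists_red hodd IH H R R₀ hHall hcompl hR₀ hR₀p hZ hnot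
    exact hfalse X p H R R₀ W hred hodd

end Cfsg.Agent.Lead.T36Red
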