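import Mathlib
import Cfsg.Prelude
import Cfsg.Agent.Lead.T36RedF
import Cfsg.Agent.Helper2.T36k

set_option autoImplicit false
set_option linter.unusedSectionVars false
set_option linter.unusedVariables false

/-!
# BG Theorem 3.6: final assembly
-/

namespace Cfsg.Agent.Lead.T36Red

open Cfsg.Agent.Helper1 Cfsg.Agent.Helper3.PLen Cfsg.Agent.Helper2.T36
open scoped Pointwise commutatorElement

universe u

/-- BG Theorem 3.6 for every group in universe `u` -/
theorem thm36For_all (X : Type u) [Group X] : Thm36For X := by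
  intro hfin
  exact thm36For_of_red_false.{u}
    (fun Y _ _ _ p _ H R R₀ W hred hodd => Red.false hred hodd) (Nat.card X) X rfl hfin

/-- BG Theorem 3.6 in the shape of the frozen statement -/
theorem thm36 {G : Type u} [Group G] [Finite G] [Group.IsSolvable G] (hodd : Odd (Nat.card G))
    (H R R₀ : Subgroup G) [H.Normal] (hHall : (Nat.card H).Coprime H.index)
    (hR : Subgroup.IsComplement' H R) (hR₀ : R₀ ≤ R) (hR₀p : (Nat.card R₀).Prime)
    (hZ : IsZGroup ↥(H ⊓ Subgroup.centralizer (R₀ : Set G)))
    (p : ℕ) [hp : Fact p.Prime] :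
    Cfsg.PLengthLE p 1 ↥⁅H, R⁆ :=
  thm36For_all G inferInstance inferInstance hodd H R R₀ inferInstance hHall hR hR₀ hR₀p hZ p hp.out

end Cfsg.Agent.Lead.T36Red
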