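import Mathlib
import Cfsg.Prelude
import Cfsg.Agent.Lead.T36RedG
import Cfsg.Agent.Helper1.BGXi

set_option autoImplicit false

/-!
# BG Theorem 3.6 in the form used by Section 10, and `p`-length one of all proper subgroups
-/

namespace Cfsg.Agent.Lead.T36Red

universe u

/-- BG Theorem 3.6 as the hypothesis of the Section 10 development -/
theorem thm36_holds : Cfsg.Agent.Helper1.BGX.Thm36.{u} :=
  fun _ _ _ _ hodd H R R₀ _ hHall hR hR₀ hR₀p hZ p _ => thm36 hodd H R R₀ hHall hR hR₀ hR₀p hZ p

/-- BG Corollary 10.7(a): all proper subgroups have `p`-length one -/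
theorem pl1_holds {G : Type u} [Group G] [Finite G] (hG : Cfsg.IsMinSimpleOddOrder G) :
    Cfsg.Agent.Helper1.BGX.PL1 G :=
  Cfsg.Agent.Helper1.BGX.pl1_of_thm36 thm36_holds hG

end Cfsg.Agent.Lead.T36Red
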