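import Mathlib
import Cfsg.Prelude
import Cfsg.Agent.Lead.BG11a
import Cfsg.Agent.Helper1.SCN3b

set_option autoImplicit false
set_option linter.unusedSectionVars false
set_option linter.unusedVariables false

/-!
Bender–Glauberman, Section 11 (exceptional maximal subgroups): Lemma 11.1.
-/

namespace Cfsg.Agent.Lead.BG12

open Cfsg Cfsg.Agent.Helper1 Cfsg.Agent.Helper2 Cfsg.Agent.Helper1.BGT Cfsg.Agent.Helper1.BGU
  Cfsg.Agent.Helper1.BGV Cfsg.Agent.Helper1.BGW Cfsg.Agent.Helper1.BGX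
open scoped commutatorElement Pointwise

universe u

variable {G : Type u} [Group G] [Finite G]

/-- If `q` does not divide the index of `H`, then `H` and `G` have the same `q`-part. -/
theorem factorization_eq_of_not_dvd_index {H : Subgroup G} {q : ℕ} (hq : q.Prime)
    (h : ¬ q ∣ H.index) : (Nat.card H).factorization q = (Nat.card G).factorization q := by
  have h1 : Nat.card G = Nat.card H * H.index := (Subgroup.card_mul_index H).symm
  have hH0 : Nat.card H ≠ 0 := Nat.card_pos.ne'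
  have hi0 : H.index ≠ 0 := Subgroup.index_ne_zero_of_finite
  rw [h1, Nat.factorization_mul hH0 hi0, Finsupp.add_apply,
    Nat.factorization_eq_zero_of_not_dvd h, add_zero]

/-- The relative version. -/
theorem factorization_eq_of_not_dvd_relIndex {H M : Subgroup G} (hHM : H ≤ M) {q : ℕ}
    (hq : q.Prime) (h : ¬ q ∣ H.relIndex M) :
    (Nat.card H).factorization q = (Nat.card M).factorization q := by
  have h1 : Nat.card M = Nat.card H * H.relIndex M := by
    rw [← Cfsg.Agent.Lead.card_subgroupOf_of_le hHM]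
    exact (Subgroup.card_mul_index (H.subgroupOf M)).symm
  have hH0 : Nat.card H ≠ 0 := Nat.card_pos.ne'
  have hi0 : H.relIndex M ≠ 0 := by
    intro h0
    rw [h0, mul_zero] at h1
    exact Nat.card_pos.ne' h1
  rw [h1, Nat.factorization_mul hH0 hi0, Finsupp.add_apply,
    Nat.factorization_eq_zero_of_not_dvd h, add_zero]

/-- For `q ∈ σ(M)`, the normalizer of any Sylow `q`-subgroup of `M` lies in `M`. -/
theorem normalizer_le_of_sylow_of_mem_sigma (hG : Cfsg.IsMinSimpleOddOrder G) {M : Subgroup G}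
    (hM : IsCoatom M) {q : ℕ} [hq : Fact q.Prime] (hqσ : q ∈ Cfsg.sigma M) {Q : Subgroup G}
    (hQM : Q ≤ M) (hQp : IsPGroup q ↥Q) (hQc : Nat.card Q = q ^ (Nat.card M).factorization q) :
    Subgroup.normalizer (Q : Set G) ≤ M := by
  obtain ⟨P, c⟩ := exists_sigCtx hG hM hqσ
  obtain ⟨m, hm, hmQ⟩ := Cfsg.Agent.Lead.exists_conj_le_of_card_eq_ppart c.le c.cardM hQM hQp
  have hcard : Nat.card ↥(Q.map (MulAut.conj m).toMonoidHom) = Nat.card P := by
    rw [Subgroup.card_map_of_injective (MulAut.conj m).injective, hQc, c.cardM]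
  have heq : MulAut.conj m • Q = P := by
    rw [conj_smul_eq_map]
    exact Subgroup.eq_of_le_of_card_ge hmQ hcard.ge
  have h1 : Subgroup.normalizer (P : Set G) = MulAut.conj m • Subgroup.normalizer (Q : Set G) := by
    rw [← heq, normalizer_conj_smul']
  intro n hn
  have h2 : m * n * m⁻¹ ∈ Subgroup.normalizer (P : Set G) := by
    rw [h1]; exact conj_mem_conj_smul hn
  have h3 := c.norm h2
  have : n = m⁻¹ * (m * n * m⁻¹) * m := by group
  rw [this]
  exact M.mul_mem (M.mul_mem (M.inv_mem hm) h3) hm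

/-- The standing hypothesis of Section 11 (with `p`-length one made explicit). -/
structure Exc (M : Subgroup G) (p : ℕ) (A₀ A : Subgroup G) : Prop where
  min : Cfsg.IsMinSimpleOddOrder G
  pl : PL1 G
  coatom : IsCoatom M
  notσ : p ∉ Cfsg.sigma M
  leM : A ≤ M
  elem : Cfsg.IsElementaryAbelian p A
  card : Nat.card A = p ^ 2
  le₀ : A₀ ≤ A
  card₀ : Nat.card A₀ = p
  norm : Subgroup.normalizer (A₀ : Set G) ≤ M

variable {M : Subgroup G} {p : ℕ} [hp : Fact p.Prime] {A₀ A : Subgroup G}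

omit [Finite G] hp in
theorem Exc.comm (e : Exc M p A₀ A) {x y : G} (hx : x ∈ A) (hy : y ∈ A) : x * y = y * x :=
  isElementaryAbelian_commute e.elem hx hy

omit [Finite G] hp in
theorem Exc.le_centralizer (e : Exc M p A₀ A) : A ≤ Subgroup.centralizer (A : Set G) := by
  intro a ha
  rw [Subgroup.mem_centralizer_iff]
  intro x hx
  exact e.comm hx ha

omit [Finite G] hp in
theorem Exc.centralizer_le (e : Exc M p A₀ A) : Subgroup.centralizer (A : Set G) ≤ M :=
  ((Subgroup.centralizer_le (SetLike.coe_subset_coe.mpr e.le₀)).trans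
    (Subgroup.centralizer_le_normalizer _)).trans e.norm

omit [Finite G] in
theorem Exc.isPGroup (e : Exc M p A₀ A) : IsPGroup p ↥A :=
  IsPGroup.of_card e.card

omit [Finite G] in
theorem Exc.ne_bot (e : Exc M p A₀ A) : A ≠ ⊥ := by
  intro h
  have := e.card
  rw [h, Subgroup.card_bot] at this
  have h2 : 1 < p ^ 2 := Nat.one_lt_pow (by norm_num) hp.out.one_lt
  omega

theorem Exc.rank (e : Exc M p A₀ A) : Cfsg.PRankLE p 2 ↥M ∧ ¬ Cfsg.PRankLE p 1 ↥M := by
  refine ⟨pRankLE_of_not_mem_sigma e.min e.coatom hp.out e.notσ, ?_⟩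
  apply not_pRankLE_of_hasEA
  refine ⟨A, e.leM, e.elem, ?_⟩
  rw [e.card, pow_one]
  have := hp.out.one_lt
  nlinarith

theorem Exc.omega (e : Exc M p A₀ A) :
    ∀ x ∈ Subgroup.centralizer (A : Set G), x ^ p = 1 ↔ x ∈ A := by
  intro x hxC
  constructor
  · intro hx
    have hmax := (lemma105 e.min M e.coatom p e.notσ e.rank.1 e.rank.2).2 A e.leM e.elem e.card
    exact Cfsg.Agent.Helper1.SCN3.mem_of_centralizes_of_maximal e.elem hmax hxC hx
  · intro hx
    exact e.elem.2 x hx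

theorem Exc.dvd_card (e : Exc M p A₀ A) : p ∣ Nat.card G := by
  have h1 : p ∣ Nat.card A := by rw [e.card]; exact dvd_pow_self p (by norm_num)
  exact h1.trans (Subgroup.card_subgroup_dvd_card A)

theorem Exc.transHyp (e : Exc M p A₀ A) : Cfsg.TransitivityHypothesis A :=
  transitivityHypothesis_of_pLength e.min e.dvd_card e.isPGroup e.elem.1 e.omega
    (fun H hH => e.pl p H hH)

theorem Exc.ne_of_mem_sigma (e : Exc M p A₀ A) {q : ℕ} (hq : q ∈ Cfsg.sigma M) : q ≠ p := by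
  rintro rfl
  exact e.notσ hq

theorem Exc.hyp (e : Exc M p A₀ A) {q : ℕ} (hq : q ∈ Cfsg.sigma M) : Hyp A q := by
  apply Hyp.of e.min e.transHyp hq.1
  rw [e.card]
  intro hd
  have := (Nat.prime_dvd_prime_iff_eq hq.1 hp.out).mp (hq.1.dvd_of_dvd_pow hd)
  exact e.ne_of_mem_sigma hq this

/-- An `A`-invariant Sylow `q`-subgroup of `G` is a maximal `A`-invariant `q`-subgroup. -/
theorem mem_maxInvSubgroups_of_sylow {A Q : Subgroup G} {q : ℕ} [hq : Fact q.Prime]
    (hQp : IsPGroup q ↥Q) (hQc : Nat.card Q = q ^ (Nat.card G).factorization q)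
    (hAQ : A ≤ Subgroup.normalizer (Q : Set G)) : Q ∈ Cfsg.maxInvSubgroups ⊤ A {q} := by
  refine ⟨(mem_invSubgroups_top hq.out).mpr ⟨hQp, hAQ⟩, ?_⟩
  intro R hR hle
  obtain ⟨hRp, -⟩ := (mem_invSubgroups_top hq.out).mp hR
  have h1 : Nat.card R ≤ q ^ (Nat.card (⊤ : Subgroup G)).factorization q :=
    Cfsg.Agent.Lead.card_le_ppart_of_isPGroup hRp le_top
  rw [Subgroup.card_top, ← hQc] at h1
  exact (Subgroup.eq_of_le_of_card_ge hle h1).symm

/-- The centralizer of a nontrivial subgroup is proper. -/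
theorem centralizer_ne_top_of_ne_bot (hG : Cfsg.IsMinSimpleOddOrder G) {X : Subgroup G}
    (hX : X ≠ ⊥) : Subgroup.centralizer (X : Set G) ≠ ⊤ := by
  obtain ⟨x', hx'⟩ := (Subgroup.ne_bot_iff_exists_ne_one).mp hX
  obtain ⟨x, hx, hx1⟩ : ∃ x : G, x ∈ X ∧ x ≠ 1 :=
    ⟨(x' : G), x'.2, fun h => hx' (Subtype.ext h)⟩
  intro htop
  apply centralizer_singleton_ne_top hG hx1
  rw [eq_top_iff, ← htop]
  apply Subgroup.centralizer_le
  intro y hy
  rw [Set.mem_singleton_iff] at hy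
  rw [hy]; exact hx

/-- Bender–Glauberman Lemma 11.1. -/
theorem Exc.lemma111 (e : Exc M p A₀ A) {g : G} (hg : g ∉ M) {q : ℕ} [hq : Fact q.Prime]
    {Q₁ Q₂' : Subgroup G} (hQ₁ : Q₁ ≤ Cfsg.sigmaCore M) (hQ₁p : IsPGroup q ↥Q₁)
    (hQ₁c : Nat.card Q₁ = q ^ (Nat.card (Cfsg.sigmaCore M)).factorization q)
    (hAQ₁ : A ≤ Subgroup.normalizer (Q₁ : Set G))
    (hQ₂ : Q₂' ≤ Cfsg.sigmaCore M) (hQ₂p : IsPGroup q ↥Q₂')
    (hQ₂c : Nat.card Q₂' = q ^ (Nat.card (Cfsg.sigmaCore M)).factorization q)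
    (hAQ₂ : A ≤ Subgroup.normalizer ((MulAut.conj g • Q₂' : Subgroup G) : Set G)) :
    Q₁ ⊓ MulAut.conj g • Q₂' = ⊥ ∧
      ∀ X : Subgroup G, X ≤ A → X ≠ ⊥ →
        Q₁ ⊓ Subgroup.centralizer (X : Set G) = ⊥ ∨
          (MulAut.conj g • Q₂') ⊓ Subgroup.centralizer (X : Set G) = ⊥ := by
  have hG := e.min
  have hM := e.coatom
  by_cases hQ₁1 : Q₁ = ⊥
  · subst hQ₁1
    exact ⟨bot_inf_eq _, fun X _ _ => Or.inl (bot_inf_eq _)⟩
  -- `q ∈ σ(M)`
  have hqσ : q ∈ Cfsg.sigma M := by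
    apply mem_sigma_of_dvd_card_sigmaCore hq.out
    exact (dvd_card_of_isPGroup_ne_bot hQ₁p hQ₁1).trans (Subgroup.card_dvd_of_le hQ₁)
  have hfG : (Nat.card (Cfsg.sigmaCore M)).factorization q = (Nat.card G).factorization q :=
    factorization_eq_of_not_dvd_index hq.out (not_dvd_index_sigmaCore hG hM hq.out hqσ)
  have hfM : (Nat.card (Cfsg.sigmaCore M)).factorization q = (Nat.card M).factorization q :=
    factorization_eq_of_not_dvd_relIndex sigmaCore_le hq.out
      (not_dvd_relIndex_sigmaCore hG hM hq.out hqσ)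
  have hQ₂1 : Q₂' ≠ ⊥ := by
    intro h
    apply hQ₁1
    rw [h, Subgroup.card_bot] at hQ₂c
    rw [← hQ₂c] at hQ₁c
    exact Subgroup.card_eq_one.mp hQ₁c
  set Q₂ := MulAut.conj g • Q₂' with hQ₂def
  have hQ₂p' : IsPGroup q ↥Q₂ := by
    rw [hQ₂def, conj_smul_eq_map]; exact hQ₂p.map _
  have hQ₂c' : Nat.card Q₂ = q ^ (Nat.card G).factorization q := by
    rw [hQ₂def, card_conj_smul, hQ₂c, hfG]
  have hyp := e.hyp hqσ
  have h₁ : Q₁ ∈ Cfsg.maxInvSubgroups ⊤ A {q} :=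
    mem_maxInvSubgroups_of_sylow hQ₁p (by rw [hQ₁c, hfG]) hAQ₁
  have h₂ : Q₂ ∈ Cfsg.maxInvSubgroups ⊤ A {q} :=
    mem_maxInvSubgroups_of_sylow hQ₂p' hQ₂c' hAQ₂
  -- `Q₁` and `Q₂` are not conjugate under `K`
  have hnc : ¬ KConj (KK A) Q₁ Q₂ := by
    rintro ⟨k, hk, hkQ⟩
    have hkM : k ∈ M := e.centralizer_le (KK_le_centralizer A hk)
    have hQ₂M : Q₂ ≤ M := by
      rw [hkQ, ← conj_smul_eq_self_of_mem hkM]
      exact conj_smul_mono (hQ₁.trans sigmaCore_le)
    obtain ⟨P, c⟩ := exists_sigCtx hG hM hqσ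
    have hQ₂'M : Q₂' ≤ M := hQ₂.trans sigmaCore_le
    obtain ⟨m, hm, c', hc', eg⟩ := c.trans Q₂' hQ₂'M hQ₂p hQ₂1 g (by
      intro x hx
      exact hQ₂M (conj_mem_conj_smul hx))
    have hc'M : c' ∈ M :=
      normalizer_le_of_sylow_of_mem_sigma hG hM hqσ hQ₂'M hQ₂p (by rw [hQ₂c, hfM])
        (Subgroup.centralizer_le_normalizer _ hc')
    apply hg
    rw [eg]
    exact M.mul_mem hm hc'M
  have hQ₁top : ∀ Y : Subgroup G, Y ≤ Q₁ → Y ≠ ⊤ := by
    intro Y hY h
    apply sylow_ne_top hG q Q₁ hQ₁p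
    rw [eq_top_iff, ← h]; exact hY
  constructor
  · by_contra hne
    have hne' : Q₁ ⊓ Q₂ ≠ ⊥ := hne
    have hH : Subgroup.normalizer ((Q₁ ⊓ Q₂ : Subgroup G) : Set G) ≠ ⊤ :=
      normalizer_ne_top_of_simple hG hne' (hQ₁top _ inf_le_left)
    have hAH : A ≤ Subgroup.normalizer ((Q₁ ⊓ Q₂ : Subgroup G) : Set G) :=
      le_normalizer_inf hAQ₁ hAQ₂
    apply hnc
    apply hyp.thm72 h₁ h₂ hH hAH
    · intro hb
      apply hne'
      rw [eq_bot_iff, ← hb]
      exact le_inf Subgroup.le_normalizer inf_le_left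
    · intro hb
      apply hne'
      rw [eq_bot_iff, ← hb]
      exact le_inf (Subgroup.le_normalizer) inf_le_right
  · intro X hXA hX1
    by_contra hcon
    push Not at hcon
    obtain ⟨hc1, hc2⟩ := hcon
    have hH : Subgroup.centralizer (X : Set G) ≠ ⊤ := centralizer_ne_top_of_ne_bot hG hX1
    have hAH : A ≤ Subgroup.centralizer (X : Set G) :=
      e.le_centralizer.trans (Subgroup.centralizer_le (SetLike.coe_subset_coe.mpr hXA))
    apply hnc
    apply hyp.thm72 h₁ h₂ hH hAH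
    · rw [inf_comm]; exact hc1
    · rw [inf_comm]; exact hc2

end Cfsg.Agent.Lead.BG12
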