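import Mathlib
import Cfsg.Prelude
import Cfsg.Agent.Lead.BG11b
import Cfsg.Agent.S1446

set_option autoImplicit false
set_option linter.unusedSectionVars false
set_option linter.unusedVariables false

/-!
Bender–Glauberman, Section 11: Corollary 11.2 and Theorem 11.3.
-/

namespace Cfsg.Agent.Lead.BG12

open Cfsg Cfsg.Agent.Helper1 Cfsg.Agent.Helper2 Cfsg.Agent.Helper1.BGT Cfsg.Agent.Helper1.BGU
  Cfsg.Agent.Helper1.BGV Cfsg.Agent.Helper1.BGW Cfsg.Agent.Helper1.BGX
open scoped commutatorElement Pointwise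

universe u

variable {G : Type u} [Group G] [Finite G]

theorem le_normalizer_sigmaCore (M : Subgroup G) :
    M ≤ Subgroup.normalizer ((Cfsg.sigmaCore M : Subgroup G) : Set G) :=
  le_normalizer_map_subtype _

theorem conj_smul_le_normalizer {A Y : Subgroup G} (g : G)
    (h : A ≤ Subgroup.normalizer (Y : Set G)) :
    MulAut.conj g • A ≤ Subgroup.normalizer ((MulAut.conj g • Y : Subgroup G) : Set G) := by
  rw [normalizer_conj_smul']
  exact conj_smul_mono h

/-- `C(X) ≤ C(x)` for `x ∈ X`, with equality when `X` has prime order and `x ≠ 1`. -/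
theorem centralizer_singleton_eq_of_prime_card {X : Subgroup G} {p : ℕ} [hp : Fact p.Prime]
    (hX : Nat.card X = p) {r : G} (hr : r ∈ X) (hr1 : r ≠ 1) :
    Subgroup.centralizer ({r} : Set G) = Subgroup.centralizer (X : Set G) := by
  have h1 : Subgroup.zpowers (⟨r, hr⟩ : ↥X) = ⊤ :=
    zpowers_eq_top_of_prime_card hX (fun h => hr1 (congrArg Subtype.val h))
  have h2 : Subgroup.zpowers r = X := by
    have := congrArg (Subgroup.map X.subtype) h1
    rw [MonoidHom.map_zpowers, ← MonoidHom.range_eq_map, Subgroup.range_subtype] at this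
    exact this
  rw [← BGX.centralizer_zpowers_eq, h2]

variable {M : Subgroup G} {p : ℕ} [hp : Fact p.Prime] {A₀ A : Subgroup G}

theorem Exc.coprime_card (e : Exc M p A₀ A) {H : Subgroup G} (hH : H ≤ Cfsg.sigmaCore M)
    (B : Subgroup G) (hB : IsPGroup p ↥B) : (Nat.card B).Coprime (Nat.card H) := by
  obtain ⟨k, hk⟩ := IsPGroup.iff_card.mp hB
  rw [hk]
  apply Nat.Coprime.pow_left
  rw [Nat.Prime.coprime_iff_not_dvd hp.out]
  intro hd
  exact e.notσ (mem_sigma_of_dvd_card_sigmaCore hp.out (hd.trans (Subgroup.card_dvd_of_le hH)))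

/-- Bender–Glauberman Corollary 11.2(a). -/
theorem Exc.cor112a (e : Exc M p A₀ A) {g : G} (hg : g ∉ M) (hAg : A ≤ MulAut.conj g • M) :
    Cfsg.sigmaCore M ⊓ MulAut.conj g • M = ⊥ := by
  have hG := e.min
  have hM := e.coatom
  by_contra hne
  set H := Cfsg.sigmaCore M ⊓ MulAut.conj g • M with hH
  have hcard : Nat.card H ≠ 1 := fun h => hne (Subgroup.card_eq_one.mp h)
  obtain ⟨q, hq, hqd⟩ := Nat.exists_prime_and_dvd hcard
  have := Fact.mk hq
  have hAσ : A ≤ Subgroup.normalizer ((Cfsg.sigmaCore M : Subgroup G) : Set G) :=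
    e.leM.trans (le_normalizer_sigmaCore M)
  have hAH : A ≤ Subgroup.normalizer (H : Set G) :=
    le_normalizer_inf hAσ (hAg.trans Subgroup.le_normalizer)
  have hsolv : Group.IsSolvable ↥A := hG.2.2.2 A (fun h => by
    apply sylow_ne_top hG p A e.isPGroup h)
  obtain ⟨P₀, hAP₀⟩ := exists_invariant_sylow (p := q) A H hAH
    (e.coprime_card inf_le_left A e.isPGroup) (Or.inl hsolv)
  set Q₀ := (P₀ : Subgroup ↥H).map H.subtype with hQ₀
  have hQ₀H : Q₀ ≤ H := Subgroup.map_subtype_le _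
  have hQ₀p : IsPGroup q ↥Q₀ := P₀.2.map _
  have hQ₀1 : Q₀ ≠ ⊥ := by
    intro h
    have h1 : (P₀ : Subgroup ↥H) = ⊥ := by
      rw [hQ₀] at h
      exact (Subgroup.map_eq_bot_iff_of_injective _ H.subtype_injective).mp h
    exact P₀.ne_bot_of_dvd_card hqd h1
  have hqσ : q ∈ Cfsg.sigma M := by
    apply mem_sigma_of_dvd_card_sigmaCore hq
    exact hqd.trans (Subgroup.card_dvd_of_le inf_le_left)
  -- the Sylow subgroup of `M_σ`
  obtain ⟨P₁, hQ₀P₁, hAP₁⟩ := exists_invariant_sylow_ge (p := q) A (Cfsg.sigmaCore M) hAσ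
    (e.coprime_card le_rfl A e.isPGroup) (Or.inl hsolv) Q₀ (hQ₀H.trans inf_le_left) hQ₀p hAP₀
  -- the Sylow subgroup of the conjugate
  set A' := MulAut.conj g⁻¹ • A with hA'
  have hA'M : A' ≤ M := by
    have := conj_smul_mono (k := g⁻¹) hAg
    rw [conj_smul_inv_smul] at this
    exact this
  have hA'p : IsPGroup p ↥A' := by
    rw [hA', conj_smul_eq_map]; exact e.isPGroup.map _
  have hA'solv : Group.IsSolvable ↥A' := hG.2.2.2 A' (fun h => by
    apply sylow_ne_top hG p A' hA'p h)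
  set Q₀' := MulAut.conj g⁻¹ • Q₀ with hQ₀'
  have hQ₀'M : Q₀' ≤ M := by
    have := conj_smul_mono (k := g⁻¹) (hQ₀H.trans inf_le_right)
    rw [conj_smul_inv_smul] at this
    exact this
  have hQ₀'p : IsPGroup q ↥Q₀' := by
    rw [hQ₀', conj_smul_eq_map]; exact hQ₀p.map _
  have hQ₀'σ : Q₀' ≤ Cfsg.sigmaCore M := le_sigmaCore' hG hM hqσ hQ₀'M hQ₀'p
  have hA'Q₀' : A' ≤ Subgroup.normalizer (Q₀' : Set G) := conj_smul_le_normalizer g⁻¹ hAP₀
  obtain ⟨P₂, hQ₀'P₂, hA'P₂⟩ := exists_invariant_sylow_ge (p := q) A' (Cfsg.sigmaCore M)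
    (hA'M.trans (le_normalizer_sigmaCore M)) (e.coprime_card le_rfl A' hA'p) (Or.inl hA'solv)
    Q₀' hQ₀'σ hQ₀'p hA'Q₀'
  have hAQ₂ : A ≤ Subgroup.normalizer
      ((MulAut.conj g • (P₂ : Subgroup ↥(Cfsg.sigmaCore M)).map (Cfsg.sigmaCore M).subtype :
        Subgroup G) : Set G) := by
    have := conj_smul_le_normalizer g hA'P₂
    rw [hA', conj_smul_smul_inv] at this
    exact this
  have hcardP : ∀ P : Sylow q ↥(Cfsg.sigmaCore M),
      Nat.card ↥((P : Subgroup ↥(Cfsg.sigmaCore M)).map (Cfsg.sigmaCore M).subtype) =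
        q ^ (Nat.card (Cfsg.sigmaCore M)).factorization q := by
    intro P
    rw [Subgroup.card_map_of_injective (Subgroup.subtype_injective _)]
    exact P.card_eq_multiplicity
  obtain ⟨h1, -⟩ := e.lemma111 hg (Subgroup.map_subtype_le _) (P₁.2.map _) (hcardP P₁) hAP₁
    (Subgroup.map_subtype_le _) (P₂.2.map _) (hcardP P₂) hAQ₂
  apply hQ₀1
  rw [eq_bot_iff, ← h1]
  refine le_inf hQ₀P₁ ?_
  have := conj_smul_mono (k := g) hQ₀'P₂
  rw [hQ₀', conj_smul_smul_inv] at this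
  exact this

/-- Bender–Glauberman Corollary 11.2(b). -/
theorem Exc.cor112b (e : Exc M p A₀ A) {g : G} (hg : g ∉ M) (hAg : A ≤ MulAut.conj g • M) :
    Cfsg.sigmaCore M ⊓ Subgroup.centralizer ((MulAut.conj g • A₀ : Subgroup G) : Set G) = ⊥ := by
  rw [eq_bot_iff, ← e.cor112a hg hAg]
  refine le_inf inf_le_left (inf_le_right.trans ?_)
  have h1 := conj_smul_mono (k := g) e.norm
  rw [← normalizer_conj_smul'] at h1
  exact (Subgroup.centralizer_le_normalizer _).trans h1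

/-- A Sylow `p`-subgroup of `M` containing `A`, and an element of its normalizer outside `M`. -/
theorem Exc.exists_sylow (e : Exc M p A₀ A) :
    ∃ T : Subgroup G, A ≤ T ∧ T ≤ M ∧ IsPGroup p ↥T ∧
      Nat.card T = p ^ (Nat.card M).factorization p ∧
      ∃ g ∈ Subgroup.normalizer (T : Set G), g ∉ M := by
  obtain ⟨T, hAT, hTM, hTp, hTcard⟩ := Cfsg.Agent.Lead.exists_le_card_eq_ppart e.isPGroup e.leM
  refine ⟨T, hAT, hTM, hTp, hTcard, ?_⟩
  by_contra hcon
  push Not at hcon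
  have hT1 : T ≠ ⊥ := fun h => e.ne_bot (le_bot_iff.mp (h ▸ hAT))
  exact e.notσ (mem_sigma_of_normalizer_le hTM hT1 hTp hTcard hcon)

omit [Finite G] in
theorem conj_smul_eq_of_mem_normalizer' {T : Subgroup G} {g : G}
    (hg : g ∈ Subgroup.normalizer (T : Set G)) : MulAut.conj g • T = T := by
  ext x
  rw [mem_conj_smul]
  have hg' := Subgroup.inv_mem _ hg
  have := Subgroup.mem_normalizer_iff.mp hg' x
  rw [inv_inv] at this
  exact this.symm

/-- A subgroup `A₁ ≤ M` of order `p` acting without fixed points on `M_σ`. -/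
theorem Exc.exists_fpf (e : Exc M p A₀ A) :
    ∃ T : Subgroup G, A ≤ T ∧ T ≤ M ∧ IsPGroup p ↥T ∧
      Nat.card T = p ^ (Nat.card M).factorization p ∧
      ∃ g ∈ Subgroup.normalizer (T : Set G), g ∉ M ∧ MulAut.conj g • A₀ ≤ T ∧
        Cfsg.sigmaCore M ⊓ MulAut.conj g • M = ⊥ ∧
        Cfsg.sigmaCore M ⊓
          Subgroup.centralizer ((MulAut.conj g • A₀ : Subgroup G) : Set G) = ⊥ := by
  obtain ⟨T, hAT, hTM, hTp, hTcard, g, hgT, hgM⟩ := e.exists_sylow
  have hTg : MulAut.conj g • T = T := conj_smul_eq_of_mem_normalizer' hgT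
  have hAg : A ≤ MulAut.conj g • M := by
    calc A ≤ T := hAT
      _ = MulAut.conj g • T := hTg.symm
      _ ≤ MulAut.conj g • M := conj_smul_mono hTM
  refine ⟨T, hAT, hTM, hTp, hTcard, g, hgT, hgM, ?_, e.cor112a hgM hAg, e.cor112b hgM hAg⟩
  calc MulAut.conj g • A₀ ≤ MulAut.conj g • T := conj_smul_mono (e.le₀.trans hAT)
    _ = T := hTg

/-- Bender–Glauberman Theorem 11.3: `M_σ` is nilpotent. -/
theorem Exc.sigmaCore_isNilpotent (e : Exc M p A₀ A) :
    Group.IsNilpotent ↥(Cfsg.sigmaCore M) := by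
  by_cases hK1 : Cfsg.sigmaCore M = ⊥
  · rw [hK1]
    infer_instance
  obtain ⟨T, hAT, hTM, hTp, hTcard, g, hgT, hgM, hA₁T, -, hfpf⟩ := e.exists_fpf
  have hcardA₁ : Nat.card ↥(MulAut.conj g • A₀) = p := by
    rw [card_conj_smul]; exact e.card₀
  have hA₀1 : A₀ ≠ ⊥ := by
    intro h
    have := e.card₀
    rw [h, Subgroup.card_bot] at this
    exact hp.out.one_lt.ne this
  apply Cfsg.Agent.S1446.nilpotent_of_fpf (Cfsg.sigmaCore M) (MulAut.conj g • A₀) hK1
    (conj_smul_ne_bot hA₀1) ((hA₁T.trans hTM).trans (le_normalizer_sigmaCore M))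
  intro r hr hr1
  rw [centralizer_singleton_eq_of_prime_card hcardA₁ hr hr1]
  exact hfpf

end Cfsg.Agent.Lead.BG12
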