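import Mathlib
import Cfsg.Prelude
import Cfsg.Agent.Helper1.SCN3b
import Cfsg.Agent.Helper1.BGWc

set_option autoImplicit false
set_option linter.unusedSectionVars false
set_option linter.unusedVariables false

/-!
# Narrow `p`-groups from a maximal elementary abelian subgroup of order `p ^ 2`
(Bender–Glauberman Lemma 5.2-type statement, towards Lemma 10.8)
-/

namespace Cfsg.Agent.Lead.BG108

open scoped commutatorElement Pointwise

universe u

/-- A `p`-group of rank at least three (`p` odd) having an elementary abelian subgroup of order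
`p ^ 2` contained in no larger elementary abelian subgroup is narrow. -/
theorem isNarrow_of_max_elementary {R : Type u} [Group R] [Finite R] (p : ℕ) [hp : Fact p.Prime]
    (hp2 : p ≠ 2) (hR : IsPGroup p R) (hr : ¬ Cfsg.PRankLE p 2 R)
    (E : Subgroup R) (hE : Cfsg.IsElementaryAbelian p E) (hE2 : Nat.card E = p ^ 2)
    (hEmax : ∀ B : Subgroup R, Cfsg.IsElementaryAbelian p B → E ≤ B → B = E) :
    Cfsg.IsNarrow p R := by
  obtain ⟨hET, hZcard, -, hTchar, hTidx⟩ :=
    Cfsg.Agent.Helper1.SCN3.maximal_rank_two p hp2 hR hr E hE hE2 hEmax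
  set W := Subgroup.closure {x : R | x ∈ Subgroup.upperCentralSeries R 2 ∧ x ^ p = 1} with hW
  set T := Subgroup.centralizer (W : Set R) with hT
  set Z := Subgroup.closure {x : R | x ∈ Subgroup.center R ∧ x ^ p = 1} with hZ
  have hTn : T.Normal := inferInstance
  have hZcen : ∀ z ∈ Z, z ∈ Subgroup.center R := fun z hz =>
    (Cfsg.Agent.Helper1.SCN3.omega_z1 hz).1
  have hZE : Z ≤ E := by
    intro z hz
    obtain ⟨hzc, hzp⟩ := Cfsg.Agent.Helper1.SCN3.omega_z1 hz
    exact Cfsg.Agent.Helper1.SCN3.mem_of_centralizes_of_maximal hE hEmax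
      (Subgroup.center_le_centralizer _ hzc) hzp
  have hZT : Z ≤ T := fun z hz => Subgroup.center_le_centralizer _ (hZcen z hz)
  -- pick `x ∈ E \ T`
  obtain ⟨x, hxE, hxT⟩ := SetLike.not_le_iff_exists.1 hET
  have hxp : x ^ p = 1 := hE.2 x hxE
  have hx1 : x ≠ 1 := by rintro rfl; exact hxT (one_mem _)
  have hox : orderOf x = p := orderOf_eq_prime hxp hx1
  have hR₀card : Nat.card (Subgroup.zpowers x) = p := by rw [Nat.card_zpowers, hox]
  -- `⟨x⟩ ∩ T = 1`
  have hR₀T : ∀ y ∈ Subgroup.zpowers x, y ∈ T → y = 1 := by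
    intro y hy hyT
    by_contra hy1
    have hle : Subgroup.zpowers y ≤ Subgroup.zpowers x := Subgroup.zpowers_le.2 hy
    have hd : Nat.card (Subgroup.zpowers y) ∣ p := by
      rw [← hR₀card]; exact Subgroup.card_dvd_of_le hle
    have hc : Nat.card (Subgroup.zpowers y) = p := by
      rcases (Nat.dvd_prime hp.out).1 hd with h1 | h1
      · exfalso
        rw [Subgroup.card_eq_one, Subgroup.zpowers_eq_bot] at h1
        exact hy1 h1
      · exact h1
    have heq : Subgroup.zpowers y = Subgroup.zpowers x :=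
      Subgroup.eq_of_le_of_card_ge hle (by rw [hc, hR₀card])
    have hx' : x ∈ Subgroup.zpowers y := by rw [heq]; exact Subgroup.mem_zpowers x
    exact hxT ((Subgroup.zpowers_le.2 hyT) hx')
  -- every element of `R` is `x ^ k` times an element of `T`
  have hdecomp : ∀ r : R, ∃ k : ℤ, (x ^ k)⁻¹ * r ∈ T := by
    intro r
    have hcardQ : Nat.card (R ⧸ T) = p := by rw [← Subgroup.index_eq_card, hTidx]
    have hne : (QuotientGroup.mk x : R ⧸ T) ≠ 1 := by
      intro h
      exact hxT ((QuotientGroup.eq_one_iff x).1 h)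
    have htop := zpowers_eq_top_of_prime_card hcardQ hne
    have hmem : (QuotientGroup.mk r : R ⧸ T) ∈ Subgroup.zpowers (QuotientGroup.mk x : R ⧸ T) := by
      rw [htop]; exact Subgroup.mem_top _
    obtain ⟨k, hk⟩ := Subgroup.mem_zpowers_iff.1 hmem
    refine ⟨k, ?_⟩
    have h2 : (QuotientGroup.mk (x ^ k) : R ⧸ T) = QuotientGroup.mk r := by
      rw [QuotientGroup.mk_zpow]; exact hk
    exact QuotientGroup.eq.1 h2
  -- `E ∩ T = Z`
  have hETZ : E ⊓ T = Z := by
    symm
    apply Subgroup.eq_of_le_of_card_ge (le_inf hZE hZT)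
    rw [hZcard]
    have hd : Nat.card ↥(E ⊓ T) ∣ p ^ 2 := by
      rw [← hE2]; exact Subgroup.card_dvd_of_le inf_le_left
    obtain ⟨j, hj2, hj⟩ := (Nat.dvd_prime_pow hp.out).1 hd
    have hj' : j ≠ 2 := by
      rintro rfl
      have heq : E ⊓ T = E := Subgroup.eq_of_le_of_card_ge inf_le_left (by rw [hj, hE2])
      exact hET (heq ▸ inf_le_right)
    have hj1 : j ≤ 1 := by omega
    rw [hj]
    calc p ^ j ≤ p ^ 1 := Nat.pow_le_pow_right hp.out.pos hj1
      _ = p := pow_one p
  -- the centralizer of `x` centralizes `E`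
  have hCE : Subgroup.centralizer ((Subgroup.zpowers x : Subgroup R) : Set R) ≤
      Subgroup.centralizer (E : Set R) := by
    intro y hy
    rw [Subgroup.mem_centralizer_iff]
    intro e he
    obtain ⟨k, hk⟩ := hdecomp e
    have hxkE : x ^ k ∈ E := Subgroup.zpow_mem _ hxE k
    have htZ : (x ^ k)⁻¹ * e ∈ Z := by
      rw [← hETZ]
      exact ⟨Subgroup.mul_mem _ (Subgroup.inv_mem _ hxkE) he, hk⟩
    have htc := hZcen _ htZ
    have h1 : x ^ k * y = y * x ^ k :=
      Subgroup.mem_centralizer_iff.1 hy (x ^ k) (Subgroup.zpow_mem_zpowers x k)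
    have h2 : ((x ^ k)⁻¹ * e) * y = y * ((x ^ k)⁻¹ * e) :=
      ((Subgroup.mem_center_iff.1 htc) y).symm
    have he' : e = x ^ k * ((x ^ k)⁻¹ * e) := by group
    rw [he']
    calc x ^ k * ((x ^ k)⁻¹ * e) * y = x ^ k * (((x ^ k)⁻¹ * e) * y) := by group
      _ = x ^ k * (y * ((x ^ k)⁻¹ * e)) := by rw [h2]
      _ = (x ^ k * y) * ((x ^ k)⁻¹ * e) := by group
      _ = (y * x ^ k) * ((x ^ k)⁻¹ * e) := by rw [h1]
      _ = y * (x ^ k * ((x ^ k)⁻¹ * e)) := by group
  have hR₀C : Subgroup.zpowers x ≤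
      Subgroup.centralizer ((Subgroup.zpowers x : Subgroup R) : Set R) := by
    rw [Subgroup.zpowers_le, Subgroup.mem_centralizer_iff]
    intro h hh
    obtain ⟨k, rfl⟩ := Subgroup.mem_zpowers_iff.1 hh
    exact ((Commute.refl x).zpow_left k).eq
  refine Or.inr ⟨Subgroup.zpowers x,
    Subgroup.centralizer ((Subgroup.zpowers x : Subgroup R) : Set R) ⊓ T, hR₀card, ?_, ?_, ?_, ?_⟩
  · -- cyclic
    by_contra hnc
    have hQ : IsPGroup p ↥(Subgroup.centralizer ((Subgroup.zpowers x : Subgroup R) : Set R) ⊓ T) :=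
      hR.to_subgroup _
    obtain ⟨F, hFle, hFe, hFcard, -⟩ := Cfsg.Agent.Helper1.BGW.exists_normal_ea2 hp2 hQ hnc
    have hFZ : F ≤ Z := by
      intro y hy
      have hyCT := hFle hy
      have hyE : y ∈ E :=
        Cfsg.Agent.Helper1.SCN3.mem_of_centralizes_of_maximal hE hEmax (hCE hyCT.1) (hFe.2 y hy)
      rw [← hETZ]
      exact ⟨hyE, hyCT.2⟩
    have hle := Subgroup.card_le_of_le hFZ
    rw [hFcard, hZcard] at hle
    have : p * 2 ≤ p ^ 2 := by
      rw [pow_two]; exact Nat.mul_le_mul_left p hp.out.two_le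
    have hp0 := hp.out.pos
    omega
  · -- trivial intersection
    rw [eq_bot_iff]
    intro y hy
    exact Subgroup.mem_bot.2 (hR₀T y hy.1 hy.2.2)
  · -- commute
    intro a ha b hb
    exact Subgroup.mem_centralizer_iff.1 hb.1 a ha
  · -- join
    apply le_antisymm
    · exact sup_le hR₀C inf_le_left
    · intro c hc
      obtain ⟨k, hk⟩ := hdecomp c
      have hxk : x ^ k ∈ Subgroup.zpowers x := Subgroup.zpow_mem_zpowers x k
      have h1 : (x ^ k)⁻¹ * c ∈
          Subgroup.centralizer ((Subgroup.zpowers x : Subgroup R) : Set R) :=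
        Subgroup.mul_mem _ (Subgroup.inv_mem _ (hR₀C hxk)) hc
      have hc' : c = x ^ k * ((x ^ k)⁻¹ * c) := by group
      rw [hc']
      exact Subgroup.mul_mem_sup hxk ⟨h1, hk⟩

end Cfsg.Agent.Lead.BG108
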