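import Mathlib
import Cfsg.Prelude
import Cfsg.Agent.Lead.BG12b
import Cfsg.Agent.Helper1.BGTa

set_option autoImplicit false
set_option linter.unusedSectionVars false
set_option linter.unusedVariables false

/-!
# Normal `p`-complements: a working form, inheritance, and nilpotent Hall subgroups
(towards Bender–Glauberman Lemma 10.8)
-/

namespace Cfsg.Agent.Lead.BG108

universe u

variable {X : Type u} [Group X] [Finite X]

/-- working form of a normal `p`-complement -/
def NPC (p : ℕ) (X : Type u) [Group X] : Prop :=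
  ∃ N : Subgroup X, N.Normal ∧ (Nat.card N).Coprime p ∧ ∃ k : ℕ, N.index = p ^ k

theorem npc_of_hasNormalPComplement {p : ℕ} [hp : Fact p.Prime]
    (h : Cfsg.HasNormalPComplement p X) : NPC p X := by
  obtain ⟨P, N, hN, hc⟩ := h
  have h1 : Nat.card N * Nat.card P = Nat.card X := hc.card_mul_card
  have h2 : Nat.card P = p ^ (Nat.card X).factorization p := P.card_eq_multiplicity
  have hX0 : Nat.card X ≠ 0 := Nat.card_pos.ne'
  have h3 : Nat.card N = Nat.card X / p ^ (Nat.card X).factorization p := by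
    rw [h2] at h1
    exact (Nat.div_eq_of_eq_mul_left (pow_pos hp.out.pos _) h1.symm).symm
  refine ⟨N, hN, ?_, (Nat.card X).factorization p, ?_⟩
  · rw [h3]
    exact (Nat.coprime_ordCompl hp.out hX0).symm
  · have h4 : N.index * Nat.card N = Nat.card X := N.index_mul_card
    rw [← h1, mul_comm] at h4
    have h5 := Nat.eq_of_mul_eq_mul_left Nat.card_pos h4
    rw [h5, h2]

theorem hasNormalPComplement_of_npc {p : ℕ} [hp : Fact p.Prime] (h : NPC p X) :
    Cfsg.HasNormalPComplement p X := by
  obtain ⟨N, hN, hcop, k, hk⟩ := h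
  obtain ⟨P⟩ : Nonempty (Sylow p X) := inferInstance
  refine ⟨P, N, hN, ?_⟩
  have h4 : N.index * Nat.card N = Nat.card X := N.index_mul_card
  have hfac : (Nat.card X).factorization p = k := by
    rw [← h4, hk, Nat.factorization_mul (pow_pos hp.out.pos k).ne' Nat.card_pos.ne',
      Nat.Prime.factorization_pow hp.out]
    have : (Nat.card N).factorization p = 0 := by
      apply Nat.factorization_eq_zero_of_not_dvd
      exact fun hd => (Nat.Prime.coprime_iff_not_dvd hp.out).1 hcop.symm hd
    simp [this]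
  have h2 : Nat.card P = p ^ k := by rw [P.card_eq_multiplicity, hfac]
  apply Subgroup.isComplement'_of_coprime
  · rw [h2, ← h4, hk, mul_comm]
  · rw [h2]; exact hcop.pow_right k

theorem NPC.subgroup {p : ℕ} [hp : Fact p.Prime] (h : NPC p X) (Y : Subgroup X) : NPC p ↥Y := by
  obtain ⟨N, hN, hcop, k, hk⟩ := h
  refine ⟨N.subgroupOf Y, inferInstance, ?_, ?_⟩
  · apply hcop.coprime_dvd_left
    have : Nat.card (N.subgroupOf Y) = Nat.card ↥(N ⊓ Y) := by
      have e := Subgroup.subgroupOfEquivOfLe (inf_le_right : N ⊓ Y ≤ Y)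
      have h1 : (N ⊓ Y).subgroupOf Y = N.subgroupOf Y := by
        ext x
        simp [Subgroup.mem_subgroupOf]
      rw [← h1]
      exact Nat.card_congr e.toEquiv
    rw [this]
    exact Subgroup.card_dvd_of_le inf_le_left
  · have h1 : (N.subgroupOf Y).index ∣ p ^ k := by
      rw [← hk]
      exact Subgroup.relIndex_dvd_index_of_normal N Y
    obtain ⟨j, -, hj⟩ := (Nat.dvd_prime_pow hp.out).1 h1
    exact ⟨j, hj⟩

theorem NPC.of_mulEquiv {p : ℕ} {Y : Type u} [Group Y] [Finite Y] (e : X ≃* Y) (h : NPC p X) :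
    NPC p Y := by
  obtain ⟨N, hN, hcop, k, hk⟩ := h
  refine ⟨N.map e.toMonoidHom, hN.map _ e.surjective, ?_, k, ?_⟩
  · rw [Subgroup.card_map_of_injective e.injective]; exact hcop
  · rw [← hk]
    exact Subgroup.index_map_of_bijective e.bijective N

/-- a `p`-group of order prime to `p` is trivial, in the form: `r`-subgroups lie in normal subgroups of
`p`-power index (`r ≠ p`). -/
theorem le_of_isPGroup_of_index_pow {p r : ℕ} (hp : p.Prime) (hr : r.Prime) (hne : r ≠ p)
    (N : Subgroup X) [N.Normal] {k : ℕ} (hk : N.index = p ^ k) {R : Subgroup X}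
    (hR : IsPGroup r R) : R ≤ N := by
  intro x hx
  obtain ⟨j, hj⟩ := hR ⟨x, hx⟩
  have hj' : x ^ r ^ j = 1 := by
    have := congrArg Subtype.val hj
    simpa using this
  apply Cfsg.Agent.Lead.BG12.mem_of_pow_eq_one_of_coprime_index N _ hj'
  rw [hk]
  exact Nat.Coprime.pow _ _ ((Nat.coprime_primes hr hp).2 hne)

end Cfsg.Agent.Lead.BG108
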