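import Mathlib
import Cfsg.Prelude
import Cfsg.Agent.Lead.BG108a

set_option autoImplicit false
set_option linter.unusedSectionVars false
set_option linter.unusedVariables false

/-!
# Groups with normal `p`-complements for many primes (towards Bender–Glauberman Lemma 10.8)
-/

namespace Cfsg.Agent.Lead.BG108

universe u

/-- a finite group with a normal `p`-complement for every prime divisor `p` of its order is
nilpotent -/
theorem isNilpotent_of_forall_npc : ∀ (n : ℕ) (X : Type u) [Group X] [Finite X],
    Nat.card X = n → (∀ p : ℕ, p.Prime → p ∣ Nat.card X → NPC p X) → Group.IsNilpotent X := by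
  intro n
  induction n using Nat.strong_induction_on with
  | _ n ih =>
    intro X _ _ hn hnpc
    apply ((Group.isNilpotent_of_finite_tfae (G := X)).out 0 3 rfl rfl).2
    intro p hp P
    by_cases hpd : p ∣ Nat.card X
    · -- is there another prime?
      by_cases hq : ∃ q : ℕ, q.Prime ∧ q ≠ p ∧ q ∣ Nat.card X
      · obtain ⟨q, hq, hqp, hqd⟩ := hq
        obtain ⟨N, hN, hcop, k, hk⟩ := hnpc q hq hqd
        have hNlt : Nat.card N < Nat.card X := by
          have h1 : Nat.card N ∣ Nat.card X := Subgroup.card_subgroup_dvd_card N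
          have h2 : Nat.card N ≠ Nat.card X := by
            intro h
            rw [h] at hcop
            exact (Nat.Prime.coprime_iff_not_dvd hq).1 hcop.symm hqd
          exact lt_of_le_of_ne (Nat.le_of_dvd Nat.card_pos h1) h2
        have hNnil : Group.IsNilpotent ↥N := by
          apply ih (Nat.card N) (hn ▸ hNlt) ↥N rfl
          intro r hr hrd
          have : Fact r.Prime := ⟨hr⟩
          exact (hnpc r hr (hrd.trans (Subgroup.card_subgroup_dvd_card N))).subgroup N
        obtain ⟨P₀⟩ : Nonempty (Sylow p ↥N) := inferInstance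
        have hP₀n : (P₀ : Subgroup ↥N).Normal :=
          ((Group.isNilpotent_of_finite_tfae (G := ↥N)).out 0 3 rfl rfl).1 hNnil p hp P₀
        have hP₀c : (P₀ : Subgroup ↥N).Characteristic := Sylow.characteristic_of_normal P₀ hP₀n
        set T : Subgroup X := (P₀ : Subgroup ↥N).map N.subtype with hT
        have hTn : T.Normal := ConjAct.normal_of_characteristic_of_normal
        have hTp : IsPGroup p T := P₀.2.map N.subtype
        have hTidx : ¬ p ∣ T.index := by
          have h1 : T.index = (P₀ : Subgroup ↥N).index * N.index := by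
            rw [hT, Subgroup.index_map_subtype]
          rw [h1, hk]
          intro hd
          rcases (Nat.Prime.dvd_mul hp.out).1 hd with h | h
          · exact P₀.not_dvd_index h
          · have := (Nat.prime_dvd_prime_iff_eq hp.out hq).1 (hp.out.dvd_of_dvd_pow h)
            exact hqp this.symm
        set Q : Sylow p X := hTp.toSylow hTidx with hQ
        have hQn : (Q : Subgroup X).Normal := by
          rw [hQ, IsPGroup.toSylow_coe]; exact hTn
        have hu : Unique (Sylow p X) := Sylow.unique_of_normal Q hQn
        have hPQ : P = Q := Subsingleton.elim _ _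
        rw [hPQ]; exact hQn
      · -- `X` is a `p`-group
        push Not at hq
        have hXp : IsPGroup p X := by
          rw [IsPGroup.iff_card]
          refine ⟨(Nat.card X).factorization p, ?_⟩
          apply Nat.eq_pow_of_factorization_eq_single Nat.card_pos.ne'
          ext q
          by_cases hqp : q = p
          · subst hqp; simp
          · rw [Finsupp.single_apply, if_neg (Ne.symm hqp)]
            by_cases hq' : q.Prime
            · apply Nat.factorization_eq_zero_of_not_dvd
              intro hd
              exact hqp (by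
                by_contra hne
                exact hq q hq' hne hd)
            · exact Nat.factorization_eq_zero_of_not_prime _ hq'
        have hPtop : (P : Subgroup X) = ⊤ := by
          have h1 : IsPGroup p ↥(⊤ : Subgroup X) := hXp.to_subgroup ⊤
          exact (P.3 h1 le_top).symm
        rw [hPtop]; infer_instance
    · have hPbot : (P : Subgroup X) = ⊥ := by
        rw [← Subgroup.card_eq_one, P.card_eq_multiplicity,
          Nat.factorization_eq_zero_of_not_dvd hpd, pow_zero]
      rw [hPbot]; infer_instance

variable {X : Type u} [Group X] [Finite X]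

/-- with normal `p`-complements for all `p ∉ β`, the index of `O_β(X)` is a `β'`-number -/
theorem not_dvd_index_piCore (β : Set ℕ)
    (h : ∀ p : ℕ, p.Prime → p ∣ Nat.card X → p ∉ β → NPC p X) {r : ℕ} (hr : r.Prime)
    (hrβ : r ∈ β) : ¬ r ∣ (Cfsg.piCore β X).index := by
  have : Fact r.Prime := ⟨hr⟩
  obtain ⟨R⟩ : Nonempty (Sylow r X) := inferInstance
  set C := Subgroup.normalClosure ((R : Subgroup X) : Set X) with hC
  have hCn : C.Normal := Subgroup.normalClosure_normal
  have hCβ : ∀ p : ℕ, p.Prime → p ∣ Nat.card C → p ∈ β := by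
    intro p hp hpd
    by_contra hpβ
    obtain ⟨N, hN, hcop, k, hk⟩ := h p hp (hpd.trans (Subgroup.card_subgroup_dvd_card C)) hpβ
    have hne : r ≠ p := fun e => hpβ (e ▸ hrβ)
    have hRN : (R : Subgroup X) ≤ N := le_of_isPGroup_of_index_pow hp hr hne N hk R.2
    have hCN : C ≤ N := Subgroup.normalClosure_le_normal hRN
    have := hcop.coprime_dvd_left (Subgroup.card_dvd_of_le hCN)
    exact (Nat.Prime.coprime_iff_not_dvd hp).1 this.symm hpd
  have hCle : C ≤ Cfsg.piCore β X := le_sSup ⟨hCn, hCβ⟩
  have hRle : (R : Subgroup X) ≤ Cfsg.piCore β X := Subgroup.le_normalClosure.trans hCle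
  intro hd
  exact R.not_dvd_index (hd.trans (Subgroup.index_dvd_of_le hRle))

/-- with normal `p`-complements for all `p ∉ β`, there is a nilpotent Hall `β'`-subgroup -/
theorem exists_nilpotent_hall (β : Set ℕ)
    (h : ∀ p : ℕ, p.Prime → p ∣ Nat.card X → p ∉ β → NPC p X) :
    ∃ H : Subgroup X, (∀ q : ℕ, q.Prime → q ∣ Nat.card H → q ∉ β) ∧
      (∀ q : ℕ, q.Prime → q ∉ β → ¬ q ∣ H.index) ∧ Group.IsNilpotent H := by
  set K := Cfsg.piCore β X with hK
  have hKn : K.Normal := Cfsg.piCore_normal β X
  have hKβ := Cfsg.Agent.Helper1.BGT.piCore_isPi (X := X) β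
  have hcop : (Nat.card K).Coprime K.index := by
    apply Nat.Coprime.symm
    apply Nat.coprime_of_dvd
    intro q hq hq1 hq2
    exact not_dvd_index_piCore β h hq (hKβ q hq hq2) hq1
  obtain ⟨H, hH⟩ := Subgroup.exists_right_complement'_of_coprime hcop
  have hcard : Nat.card K * Nat.card H = Nat.card X := hH.card_mul_card
  have hHcard : Nat.card H = K.index := by
    have h1 : K.index * Nat.card K = Nat.card X := K.index_mul_card
    rw [← hcard, mul_comm] at h1
    exact (Nat.eq_of_mul_eq_mul_left Nat.card_pos h1).symm
  have hHidx : H.index = Nat.card K := by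
    have h1 : H.index * Nat.card H = Nat.card X := H.index_mul_card
    rw [← hcard] at h1
    exact Nat.eq_of_mul_eq_mul_right Nat.card_pos h1
  refine ⟨H, ?_, ?_, ?_⟩
  · intro q hq hqd hqβ
    rw [hHcard] at hqd
    exact not_dvd_index_piCore β h hq hqβ hqd
  · intro q hq hqβ hqd
    rw [hHidx] at hqd
    exact hqβ (hKβ q hq hqd)
  · apply isNilpotent_of_forall_npc (Nat.card H) ↥H rfl
    intro q hq hqd
    have : Fact q.Prime := ⟨hq⟩
    have hqX : q ∣ Nat.card X := hqd.trans (Subgroup.card_subgroup_dvd_card H)
    have hqβ : q ∉ β := by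
      intro hqβ
      rw [hHcard] at hqd
      exact not_dvd_index_piCore β h hq hqβ hqd
    exact (h q hq hqX hqβ).subgroup H

end Cfsg.Agent.Lead.BG108
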