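import Mathlib
import Cfsg.Prelude
import Cfsg.Agent.Lead.BG108c
import Cfsg.Agent.Lead.T36Final
import Cfsg.Agent.Helper6.NarrowE
import Cfsg.Agent.Helper1.BGXb
import Cfsg.Agent.S1450
import Cfsg.Agent.S1455

set_option autoImplicit false
set_option linter.unusedSectionVars false
set_option linter.unusedVariables false

/-!
# Primes outside `β(M)`: a narrow Sylow subgroup and the local structure
(towards Bender–Glauberman Lemma 10.8)
-/

namespace Cfsg.Agent.Lead.BG108

open scoped commutatorElement Pointwise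

universe u v

/-- narrowness is invariant under isomorphism -/
theorem isNarrow_of_mulEquiv {R : Type u} {R' : Type v} [Group R] [Group R'] {p : ℕ}
    (e : R ≃* R') (h : Cfsg.IsNarrow p R) : Cfsg.IsNarrow p R' := by
  rcases h with h | ⟨R₀, R₁, hc, hcyc, hinf, hcomm, hsup⟩
  · exact Or.inl
      (Cfsg.Agent.Helper6.Narrow.pRankLE_of_injective e.symm.toMonoidHom e.symm.injective h)
  · have hf : Function.Injective e.toMonoidHom := e.injective
    refine Or.inr ⟨R₀.map e.toMonoidHom, R₁.map e.toMonoidHom, ?_, ?_, ?_, ?_, ?_⟩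
    · rw [Subgroup.card_map_of_injective hf]; exact hc
    · have := hcyc
      exact isCyclic_of_surjective (R₁.equivMapOfInjective e.toMonoidHom hf).toMonoidHom
        (R₁.equivMapOfInjective e.toMonoidHom hf).surjective
    · rw [← Subgroup.map_inf R₀ R₁ e.toMonoidHom hf, hinf, Subgroup.map_bot]
    · rintro _ ⟨a, ha, rfl⟩ _ ⟨b, hb, rfl⟩
      rw [← map_mul, ← map_mul, hcomm a ha b hb]
    · rw [← Subgroup.map_sup, hsup]
      ext y
      constructor
      · rintro ⟨x, hx, rfl⟩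
        rw [Subgroup.mem_centralizer_iff]
        rintro _ ⟨a, ha, rfl⟩
        have := Subgroup.mem_centralizer_iff.1 hx a ha
        rw [← map_mul, ← map_mul, this]
      · intro hy
        refine ⟨e.symm y, Subgroup.mem_centralizer_iff.2 ?_, ?_⟩
        · intro a ha
          have h1 := Subgroup.mem_centralizer_iff.1 hy (e a) ⟨a, ha, rfl⟩
          apply e.injective
          rw [map_mul, map_mul, MulEquiv.apply_symm_apply]
          exact h1
        · exact e.apply_symm_apply y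

/-- a Sylow subgroup of rank at least three with a maximal elementary abelian subgroup of
order `p ^ 2` is narrow -/
theorem isNarrow_sylow_of_max {G : Type u} [Group G] [Finite G] {p : ℕ} [hp : Fact p.Prime]
    (hp2 : p ≠ 2) (P' : Sylow p G) (hr : ¬ Cfsg.PRankLE p 2 ↥(P' : Subgroup G))
    (A : Subgroup G) (hAP : A ≤ (P' : Subgroup G)) (hA : Cfsg.IsElementaryAbelian p A)
    (hA2 : Nat.card A = p ^ 2)
    (hmax : ∀ B : Subgroup G, B ≤ (P' : Subgroup G) → Cfsg.IsElementaryAbelian p B → ¬ A < B) :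
    Cfsg.IsNarrow p ↥(P' : Subgroup G) := by
  have hcommA := hA.1
  apply isNarrow_of_max_elementary p hp2 P'.2 hr (A.subgroupOf (P' : Subgroup G))
  · refine ⟨⟨⟨?_⟩⟩, ?_⟩
    · rintro ⟨a, ha⟩ ⟨b, hb⟩
      apply Subtype.ext
      apply Subtype.ext
      have h1 := hcommA.is_comm.comm ⟨(a : G), Subgroup.mem_subgroupOf.1 ha⟩
        ⟨(b : G), Subgroup.mem_subgroupOf.1 hb⟩
      have h2 : ((a : ↥(P' : Subgroup G)) : G) * ((b : ↥(P' : Subgroup G)) : G) =
          ((b : ↥(P' : Subgroup G)) : G) * ((a : ↥(P' : Subgroup G)) : G) :=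
        congrArg Subtype.val h1
      exact h2
    · intro a ha
      apply Subtype.ext
      have := hA.2 (a : G) (Subgroup.mem_subgroupOf.1 ha)
      rw [Subgroup.coe_pow, this, Subgroup.coe_one]
  · rw [Nat.card_congr (Subgroup.subgroupOfEquivOfLe hAP).toEquiv, hA2]
  · intro B hB hle
    by_contra hne
    have hBe : Cfsg.IsElementaryAbelian p (B.map (P' : Subgroup G).subtype) := by
      have hcommB := hB.1
      refine ⟨⟨⟨?_⟩⟩, ?_⟩
      · rintro ⟨_, a, ha, rfl⟩ ⟨_, b, hb, rfl⟩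
        apply Subtype.ext
        have h1 := hcommB.is_comm.comm ⟨a, ha⟩ ⟨b, hb⟩
        have h2 := congrArg (fun z : ↥B => ((z : ↥(P' : Subgroup G)) : G)) h1
        exact h2
      · rintro _ ⟨a, ha, rfl⟩
        rw [← map_pow, hB.2 a ha, map_one]
    have hle' : A ≤ B.map (P' : Subgroup G).subtype := by
      intro a ha
      exact ⟨⟨a, hAP ha⟩, hle (Subgroup.mem_subgroupOf.2 ha), rfl⟩
    apply hmax _ (Subgroup.map_subtype_le _) hBe
    refine lt_of_le_of_ne hle' ?_
    intro heq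
    apply hne
    have h3 : (B.map (P' : Subgroup G).subtype).subgroupOf (P' : Subgroup G) = B :=
      Subgroup.comap_map_eq_self_of_injective (Subgroup.subtype_injective _) B
    rw [← h3, ← heq]

variable {G : Type u} [Group G] [Finite G]

/-- For `p ∈ α(M) \ β(M)` the Sylow `p`-subgroups of `M` are narrow. -/
theorem exists_sylow_isNarrow (hG : Cfsg.IsMinSimpleOddOrder G) {M : Subgroup G}
    (hM : IsCoatom M) {p : ℕ} [hp : Fact p.Prime] (hα : p ∈ Cfsg.alpha M)
    (hβ : p ∉ Cfsg.beta M) :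
    ∃ S : Sylow p ↥M, Cfsg.IsNarrow p ↥(S : Subgroup ↥M) := by
  obtain ⟨P, hP1, hctx, -, -, hrP⟩ := Cfsg.Agent.Helper1.BGX.exists_sylow_of_mem_alpha hG hM hα
  have hp2 : p ≠ 2 := by
    rintro rfl
    have hd : 2 ∣ Nat.card P := by
      obtain ⟨k, hk⟩ := IsPGroup.iff_card.mp hctx.pgroup
      have hk0 : k ≠ 0 := by
        rintro rfl
        rw [pow_zero] at hk
        exact hP1 (Subgroup.card_eq_one.mp hk)
      rw [hk]; exact dvd_pow_self 2 hk0
    have h2 : 2 ∣ Nat.card G := hd.trans (Subgroup.card_subgroup_dvd_card P)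
    obtain ⟨t, ht⟩ := hG.1
    omega
  have hrG : ¬ Cfsg.PRankLE p 2 G := fun h =>
    hrP (Cfsg.Agent.Helper6.Narrow.pRankLE_of_injective P.subtype (Subgroup.subtype_injective _) h)
  have hni : ¬ Cfsg.IsIdealPrime p G := fun h => hβ ⟨hα, h⟩
  unfold Cfsg.IsIdealPrime at hni
  push Not at hni
  obtain ⟨P', A, hAP, hAe, hA2, hmax⟩ := hni hp.out hrG
  let PG : Sylow p G := Sylow.ofCard P hctx.cardG
  obtain ⟨g, hg⟩ := MulAction.exists_smul_eq G PG P'
  subst hg
  let e1 : ↥P ≃* ↥((g • PG : Sylow p G) : Subgroup G) := Sylow.equivSMul PG g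
  have hr' : ¬ Cfsg.PRankLE p 2 ↥((g • PG : Sylow p G) : Subgroup G) := fun h =>
    hrP (Cfsg.Agent.Helper6.Narrow.pRankLE_of_injective e1.toMonoidHom e1.injective h)
  have hn' : Cfsg.IsNarrow p ↥((g • PG : Sylow p G) : Subgroup G) :=
    isNarrow_sylow_of_max hp2 (g • PG) hr' A hAP hAe hA2
      (fun B hB hBe hlt => hmax B hB hBe hlt)
  have hnP : Cfsg.IsNarrow p ↥P := isNarrow_of_mulEquiv e1.symm hn'
  have hcardS : Nat.card ↥(P.subgroupOf M) = p ^ (Nat.card ↥M).factorization p := by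
    rw [Nat.card_congr (Subgroup.subgroupOfEquivOfLe hctx.le).toEquiv]
    exact hctx.cardM
  refine ⟨Sylow.ofCard (P.subgroupOf M) hcardS, ?_⟩
  exact isNarrow_of_mulEquiv (Subgroup.subgroupOfEquivOfLe hctx.le).symm hnP

/-- BG Lemma 10.8, the part on a single prime outside `β(M)`. -/
theorem prime_data (hG : Cfsg.IsMinSimpleOddOrder G) {M : Subgroup G} (hM : IsCoatom M)
    {p : ℕ} (hp : p.Prime) (hpM : p ∣ Nat.card ↥M) (hβ : p ∉ Cfsg.beta M) :
    (∀ q : ℕ, q.Prime → q ∣ (Cfsg.pPrimeCore p ↥M).index → q ≤ p) ∧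
      Cfsg.HasNormalPComplement p ↥(commutator ↥M) := by
  have := Fact.mk hp
  have hsol : Group.IsSolvable ↥M := hG.2.2.2 M hM.1
  have hodd : Odd (Nat.card ↥M) := Odd.of_dvd_nat hG.1 (Subgroup.card_subgroup_dvd_card M)
  by_cases hr : Cfsg.PRankLE p 2 ↥M
  · obtain ⟨h1, -, h3, -⟩ := Cfsg.Agent.S1450.result hodd p hpM hr
    exact ⟨h1, h3⟩
  · have hα : p ∈ Cfsg.alpha M := ⟨hp, hr⟩
    obtain ⟨S, hS⟩ := exists_sylow_isNarrow hG hM hα hβ
    obtain ⟨h1, -, h3, -⟩ := Cfsg.Agent.S1455.result hodd p hpM S hS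
      (fun _ => Cfsg.Agent.Lead.T36Red.pl1_holds hG p M hM.1)
    exact ⟨h1, h3⟩

end Cfsg.Agent.Lead.BG108
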