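import Mathlib
import Cfsg.Prelude
import Cfsg.Agent.Lead.BG108b
import Cfsg.Agent.Lead.BG108d
import Cfsg.Agent.Helper1.BGXj

set_option autoImplicit false
set_option linter.unusedSectionVars false
set_option linter.unusedVariables false

/-!
# Bender–Glauberman Lemma 10.8: assembly
-/

namespace Cfsg.Agent.Lead.BG108

open scoped commutatorElement Pointwise

universe u

variable {G : Type u} [Group G] [Finite G]

/-- `O_π` is characteristic -/
theorem piCore_characteristic (π : Set ℕ) (X : Type u) [Group X] [Finite X] :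
    (Cfsg.piCore π X).Characteristic := by
  rw [Subgroup.characteristic_iff_map_le]
  intro φ
  apply le_sSup
  refine ⟨Subgroup.Normal.map (Cfsg.piCore_normal π X) _ φ.surjective, ?_⟩
  rw [Subgroup.card_map_of_injective φ.injective]
  exact Cfsg.Agent.Helper1.BGT.piCore_isPi π

/-- nilpotent Hall `β'`-subgroups of a subgroup having normal `p`-complements for all `p ∉ β` -/
theorem exists_nilpotent_hall_of (β : Set ℕ) (D : Subgroup G)
    (h : ∀ p : ℕ, p.Prime → p ∣ Nat.card D → p ∉ β → NPC p ↥D) :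
    ∃ H : Subgroup G, Cfsg.IsPiHallOf {q | q.Prime ∧ q ∉ β} H D ∧ Group.IsNilpotent H := by
  obtain ⟨H, h1, h2, h3⟩ := exists_nilpotent_hall β h
  refine ⟨H.map D.subtype, ⟨Subgroup.map_subtype_le _, ?_, ?_⟩, ?_⟩
  · intro q hq hd
    rw [Subgroup.card_map_of_injective D.subtype_injective] at hd
    exact ⟨hq, h1 q hq hd⟩
  · intro q hq hqβ hd
    apply h2 q hq hqβ.2
    have h4 : (H.map D.subtype).subgroupOf D = H :=
      Subgroup.comap_map_eq_self_of_injective D.subtype_injective H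
    have h5 : (H.map D.subtype).relIndex D = H.index := by
      unfold Subgroup.relIndex
      rw [h4]
    rwa [h5] at hd
  · exact (Group.isNilpotent_congr (H.equivMapOfInjective D.subtype D.subtype_injective)).1 h3

/-- the per-prime part of BG Lemma 10.8 -/
theorem prime_part (hG : Cfsg.IsMinSimpleOddOrder G) {M : Subgroup G} (hM : IsCoatom M)
    {p : ℕ} (hp : p.Prime) (hpM : p ∣ Nat.card ↥M) (hβ : p ∉ Cfsg.beta M) :
    NPC p ↥⁅M, M⁆ ∧ NPC p ↥(Cfsg.sigmaCore M) ∧
      ∀ q : ℕ, q.Prime → q ∣ (Cfsg.pPrimeCore p ↥M).index → q ≤ p := by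
  have := Fact.mk hp
  obtain ⟨h1, h2⟩ := prime_data hG hM hp hpM hβ
  have h3 : NPC p ↥(commutator ↥M) := npc_of_hasNormalPComplement h2
  have e1 : ↥(commutator ↥M) ≃* ↥((commutator ↥M).map M.subtype) :=
    (commutator ↥M).equivMapOfInjective M.subtype M.subtype_injective
  have e2 : ↥((commutator ↥M).map M.subtype) ≃* ↥⁅M, M⁆ :=
    MulEquiv.subgroupCongr (Subgroup.map_subtype_commutator M)
  have h4 : NPC p ↥⁅M, M⁆ := NPC.of_mulEquiv (e1.trans e2) h3
  have hle : Cfsg.sigmaCore M ≤ ⁅M, M⁆ := Cfsg.Agent.Helper1.BGX.sigmaCore_le_commutator hG hM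
  have h5 : NPC p ↥((Cfsg.sigmaCore M).subgroupOf ⁅M, M⁆) := NPC.subgroup h4 _
  have h6 : NPC p ↥(Cfsg.sigmaCore M) := NPC.of_mulEquiv (Subgroup.subgroupOfEquivOfLe hle) h5
  exact ⟨h4, h6, h1⟩

/-- `M_β` is a Hall `β(M)`-subgroup of `M` and of `G`. -/
theorem betaCore_hall (hG : Cfsg.IsMinSimpleOddOrder G) {M : Subgroup G} (hM : IsCoatom M) :
    Cfsg.IsPiHallOf (Cfsg.beta M) (Cfsg.piCoreOf (Cfsg.beta M) M) M ∧
      Cfsg.IsPiHall (Cfsg.beta M) (Cfsg.piCoreOf (Cfsg.beta M) M) := by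
  have hHM : Cfsg.piCoreOf (Cfsg.beta M) M ≤ M := Subgroup.map_subtype_le _
  have hpi := Cfsg.Agent.Helper1.BGT.piCoreOf_isPi (Cfsg.beta M) M
  -- the key divisibility facts for a prime of `β(M)`
  have key : ∀ p : ℕ, p.Prime → p ∈ Cfsg.beta M →
      ¬ p ∣ (Cfsg.piCore (Cfsg.beta M) ↥M).index ∧ ¬ p ∣ M.index := by
    intro p hp hpβ
    have := Fact.mk hp
    obtain ⟨P, hP1, hctx, hPD, -, -⟩ :=
      Cfsg.Agent.Helper1.BGX.exists_sylow_of_mem_alpha hG hM hpβ.1
    -- `K = M'` inside `M`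
    set K : Subgroup ↥M := commutator ↥M with hK
    have hKn : K.Normal := inferInstance
    have hKmap : K.map M.subtype = ⁅M, M⁆ := Subgroup.map_subtype_commutator M
    -- `p ∤ |M : K|`
    have hcardS : Nat.card ↥(P.subgroupOf M) = p ^ (Nat.card ↥M).factorization p := by
      rw [Nat.card_congr (Subgroup.subgroupOfEquivOfLe hctx.le).toEquiv]
      exact hctx.cardM
    have hPK : P.subgroupOf M ≤ K := by
      intro x hx
      have h1 : (x : G) ∈ ⁅M, M⁆ := hPD (Subgroup.mem_subgroupOf.1 hx)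
      rw [← hKmap] at h1
      obtain ⟨y, hy, hyx⟩ := h1
      have : y = x := Subtype.ext hyx
      rwa [← this]
    have hKidx : ¬ p ∣ K.index := by
      intro hd
      have h1 : K.index ∣ (P.subgroupOf M).index := Subgroup.index_dvd_of_le hPK
      exact (Sylow.ofCard (P.subgroupOf M) hcardS).not_dvd_index (hd.trans h1)
    -- `O_β(K)`
    have hnpc : ∀ r : ℕ, r.Prime → r ∣ Nat.card ↥K → r ∉ Cfsg.beta M → NPC r ↥K := by
      intro r hr hrd hrβ
      have hrM : r ∣ Nat.card ↥M := hrd.trans (Subgroup.card_subgroup_dvd_card K)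
      have := Fact.mk hr
      obtain ⟨-, h2⟩ := prime_data hG hM hr hrM hrβ
      exact npc_of_hasNormalPComplement h2
    have hBidx : ¬ p ∣ (Cfsg.piCore (Cfsg.beta M) ↥K).index :=
      not_dvd_index_piCore (Cfsg.beta M) hnpc hp hpβ
    have hchar : (Cfsg.piCore (Cfsg.beta M) ↥K).Characteristic :=
      piCore_characteristic (Cfsg.beta M) ↥K
    set B : Subgroup ↥M := (Cfsg.piCore (Cfsg.beta M) ↥K).map K.subtype with hB
    have hBn : B.Normal := ConjAct.normal_of_characteristic_of_normal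
    have hBK : B ≤ K := Subgroup.map_subtype_le _
    have hBpi : ∀ q : ℕ, q.Prime → q ∣ Nat.card ↥B → q ∈ Cfsg.beta M := by
      intro q hq hd
      rw [hB, Subgroup.card_map_of_injective K.subtype_injective] at hd
      exact Cfsg.Agent.Helper1.BGT.piCore_isPi (Cfsg.beta M) q hq hd
    have hBle : B ≤ Cfsg.piCore (Cfsg.beta M) ↥M := le_sSup ⟨hBn, hBpi⟩
    have hBrel : B.relIndex K = (Cfsg.piCore (Cfsg.beta M) ↥K).index := by
      have h4 : B.subgroupOf K = Cfsg.piCore (Cfsg.beta M) ↥K :=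
        Subgroup.comap_map_eq_self_of_injective K.subtype_injective _
      unfold Subgroup.relIndex
      rw [h4]
    have hBindex : ¬ p ∣ B.index := by
      rw [← Subgroup.relIndex_mul_index hBK, hBrel]
      intro hd
      rcases (Nat.Prime.dvd_mul hp).1 hd with h | h
      · exact hBidx h
      · exact hKidx h
    refine ⟨fun hd => hBindex (hd.trans (Subgroup.index_dvd_of_le hBle)), ?_⟩
    intro hd
    have h1 : M.index ∣ P.index := Subgroup.index_dvd_of_le hctx.le
    exact (Sylow.ofCard P hctx.cardG).not_dvd_index (hd.trans h1)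
  have hrel : (Cfsg.piCoreOf (Cfsg.beta M) M).relIndex M =
      (Cfsg.piCore (Cfsg.beta M) ↥M).index := by
    have h4 : (Cfsg.piCoreOf (Cfsg.beta M) M).subgroupOf M = Cfsg.piCore (Cfsg.beta M) ↥M :=
      Subgroup.comap_map_eq_self_of_injective M.subtype_injective _
    unfold Subgroup.relIndex
    rw [h4]
  refine ⟨⟨hHM, hpi, ?_⟩, hpi, ?_⟩
  · intro p hp hpβ
    rw [hrel]
    exact (key p hp hpβ).1
  · intro p hp hpβ hd
    rw [← Subgroup.relIndex_mul_index hHM, hrel] at hd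
    rcases (Nat.Prime.dvd_mul hp).1 hd with h | h
    · exact (key p hp hpβ).1 h
    · exact (key p hp hpβ).2 h

/-- Bender–Glauberman Lemma 10.8 -/
theorem lemma108 (hG : Cfsg.IsMinSimpleOddOrder G) (M : Subgroup G) (hM : IsCoatom M) :
    Cfsg.IsPiHallOf (Cfsg.beta M) (Cfsg.piCoreOf (Cfsg.beta M) M) M ∧
      Cfsg.IsPiHall (Cfsg.beta M) (Cfsg.piCoreOf (Cfsg.beta M) M) ∧
      (∃ H : Subgroup G, Cfsg.IsPiHallOf {q | q.Prime ∧ q ∉ Cfsg.beta M} H ⁅M, M⁆ ∧
        Group.IsNilpotent H) ∧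
      (∃ H : Subgroup G, Cfsg.IsPiHallOf {q | q.Prime ∧ q ∉ Cfsg.beta M} H (Cfsg.sigmaCore M) ∧
        Group.IsNilpotent H) ∧
      ∀ p : ℕ, p.Prime → p ∣ Nat.card M → p ∉ Cfsg.beta M →
        Cfsg.HasNormalPComplement p ↥⁅M, M⁆ ∧ Cfsg.HasNormalPComplement p ↥(Cfsg.sigmaCore M) ∧
        ∀ q : ℕ, q.Prime → q ∣ (Cfsg.pPrimeCore p ↥M).index → q ≤ p := by
  obtain ⟨hb1, hb2⟩ := betaCore_hall hG hM
  have hDM : ⁅M, M⁆ ≤ M := Subgroup.commutator_le_self M
  have hSM : Cfsg.sigmaCore M ≤ M := Subgroup.map_subtype_le _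
  refine ⟨hb1, hb2, ?_, ?_, ?_⟩
  · apply exists_nilpotent_hall_of
    intro p hp hd hβ
    exact (prime_part hG hM hp (hd.trans (Subgroup.card_dvd_of_le hDM)) hβ).1
  · apply exists_nilpotent_hall_of
    intro p hp hd hβ
    exact (prime_part hG hM hp (hd.trans (Subgroup.card_dvd_of_le hSM)) hβ).2.1
  · intro p hp hd hβ
    have := Fact.mk hp
    obtain ⟨h1, h2, h3⟩ := prime_part hG hM hp hd hβ
    exact ⟨hasNormalPComplement_of_npc h1, hasNormalPComplement_of_npc h2, h3⟩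

end Cfsg.Agent.Lead.BG108
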