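import Mathlib
import Cfsg.Prelude
import Cfsg.Agent.Helper1.MetacyclicOmega
import Cfsg.Agent.Helper1.Coprime
import Cfsg.Agent.Helper4.NormalizerGrow

set_option autoImplicit false
set_option linter.unusedSectionVars false
set_option linter.unusedVariables false

/-!
# Bender–Glauberman Lemma 10.12 (`basic_p2maxElem_structure`): the abstract core

`S` is a finite `p`-group, `A ≤ S` elementary abelian, `Z₁ < A` central of order `p`, `R₁` cyclic
containing `Z₁`, and `C_S(A) = ⟨x⟩ × R₁` for every `x ∈ A ∖ Z₁`; moreover `Ω₁(C_S(A)) = A`.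
For a nonabelian subgroup `P` with `A ≤ P` we get `Ω₁(Z(P)) = Z₁`, `C_P(A) = ⟨x⟩ × (P ∩ R₁)` and
`N_P(A)` is transitive on the subgroups `⟨x⟩`, `x ∈ A ∖ Z₁`.
-/

namespace Cfsg.Agent.Lead.BG1012

open scoped commutatorElement Pointwise

universe u

variable {S : Type u} [Group S] [Finite S]

/-- in a cyclic subgroup, the elements of order dividing `p` lie in the subgroup of order `p` -/
theorem mem_of_pow_eq_one_of_isCyclic {p : ℕ} (hp0 : 0 < p) {R₁ Z₁ : Subgroup S}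
    (hR₁ : IsCyclic R₁) (hZ₁R₁ : Z₁ ≤ R₁) (hZ₁ : Nat.card Z₁ = p) {r : S} (hr : r ∈ R₁)
    (hrp : r ^ p = 1) : r ∈ Z₁ := by
  have hcard : Nat.card (Z₁.subgroupOf R₁) = p := by
    rw [Nat.card_congr (Subgroup.subgroupOfEquivOfLe hZ₁R₁).toEquiv, hZ₁]
  have h1 := Cfsg.Agent.Helper1.mem_of_pow_eq_one_of_card_eq_cyclic (C := ↥R₁)
    (Z₁.subgroupOf R₁) p hp0 hcard ⟨r, hr⟩ (by
      apply Subtype.ext
      rw [Subgroup.coe_pow, Subgroup.coe_one]
      exact hrp)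
  exact Subgroup.mem_subgroupOf.1 h1

/-- the standing hypotheses of the core lemma -/
structure Core (p : ℕ) (A Z₁ R₁ : Subgroup S) : Prop where
  pgroup : IsPGroup p S
  elem : Cfsg.IsElementaryAbelian p A
  cardZ : Nat.card Z₁ = p
  ZA : Z₁ ≤ A
  Zc : Z₁ ≤ Subgroup.center S
  AZ : ¬ A ≤ Z₁
  omega : ∀ x ∈ Subgroup.centralizer (A : Set S), x ^ p = 1 → x ∈ A
  cyc : IsCyclic R₁
  ZR : Z₁ ≤ R₁
  dec : ∀ x ∈ A, x ∉ Z₁ → Subgroup.zpowers x ⊓ R₁ = ⊥ ∧
    Subgroup.zpowers x ⊔ R₁ = Subgroup.centralizer (A : Set S)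

variable {p : ℕ} [hp : Fact p.Prime] {A Z₁ R₁ : Subgroup S}

theorem Core.comm (h : Core p A Z₁ R₁) {a b : S} (ha : a ∈ A) (hb : b ∈ A) : a * b = b * a := by
  have := h.elem.1
  have h1 := this.is_comm.comm ⟨a, ha⟩ ⟨b, hb⟩
  exact congrArg Subtype.val h1

theorem Core.A_le (h : Core p A Z₁ R₁) : A ≤ Subgroup.centralizer (A : Set S) := by
  intro a ha
  rw [Subgroup.mem_centralizer_iff]
  intro b hb
  exact h.comm hb ha

theorem Core.R_le (h : Core p A Z₁ R₁) : R₁ ≤ Subgroup.centralizer (A : Set S) := by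
  obtain ⟨x, hxA, hxZ⟩ := SetLike.not_le_iff_exists.1 h.AZ
  rw [← (h.dec x hxA hxZ).2]
  exact le_sup_right

/-- elements of `C_S(A)` are `x ^ i * r` -/
theorem Core.decomp (h : Core p A Z₁ R₁) {x : S} (hxA : x ∈ A) (hxZ : x ∉ Z₁) {c : S}
    (hc : c ∈ Subgroup.centralizer (A : Set S)) : ∃ i : ℤ, ∃ r ∈ R₁, c = x ^ i * r := by
  have hn : R₁ ≤ Subgroup.normalizer ((Subgroup.zpowers x : Subgroup S) : Set S) := by
    refine le_trans ?_ (Subgroup.centralizer_le_normalizer _)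
    intro r hr
    rw [Subgroup.mem_centralizer_iff]
    intro y hy
    obtain ⟨k, rfl⟩ := Subgroup.mem_zpowers_iff.1 hy
    have h1 : x * r = r * x := Subgroup.mem_centralizer_iff.1 (h.R_le hr) x hxA
    exact ((Commute.zpow_left (show Commute x r from h1) k)).eq
  rw [← (h.dec x hxA hxZ).2] at hc
  obtain ⟨n, hn', r, hr, rfl⟩ := Cfsg.Agent.Helper1.mem_sup_of_le_normalizer hn hc
  obtain ⟨i, rfl⟩ := Subgroup.mem_zpowers_iff.1 hn'
  exact ⟨i, r, hr, rfl⟩

/-- elements of `A` are `x ^ i * z` -/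
theorem Core.decompA (h : Core p A Z₁ R₁) {x : S} (hxA : x ∈ A) (hxZ : x ∉ Z₁) {a : S}
    (ha : a ∈ A) : ∃ i : ℤ, ∃ z ∈ Z₁, a = x ^ i * z := by
  obtain ⟨i, r, hr, rfl⟩ := h.decomp hxA hxZ (h.A_le ha)
  refine ⟨i, r, ?_, rfl⟩
  have hrA : r ∈ A := by
    have h1 : r = (x ^ i)⁻¹ * (x ^ i * r) := by group
    rw [h1]
    exact Subgroup.mul_mem _ (Subgroup.inv_mem _ (Subgroup.zpow_mem _ hxA i)) ha
  exact mem_of_pow_eq_one_of_isCyclic hp.out.pos h.cyc h.ZR h.cardZ hr (h.elem.2 r hrA)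

/-- `C_S(A)` is commutative -/
theorem Core.cent_comm (h : Core p A Z₁ R₁) {c d : S}
    (hc : c ∈ Subgroup.centralizer (A : Set S)) (hd : d ∈ Subgroup.centralizer (A : Set S)) :
    c * d = d * c := by
  obtain ⟨x, hxA, hxZ⟩ := SetLike.not_le_iff_exists.1 h.AZ
  obtain ⟨i, r, hr, rfl⟩ := h.decomp hxA hxZ hc
  obtain ⟨j, r', hr', rfl⟩ := h.decomp hxA hxZ hd
  have hxr : Commute x r := Subgroup.mem_centralizer_iff.1 (h.R_le hr) x hxA
  have hxr' : Commute x r' := Subgroup.mem_centralizer_iff.1 (h.R_le hr') x hxA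
  have hrr' : Commute r r' := by
    have := h.cyc
    obtain ⟨g, hg⟩ := IsCyclic.exists_generator (α := ↥R₁)
    obtain ⟨m, hm⟩ := Subgroup.mem_zpowers_iff.1 (hg ⟨r, hr⟩)
    obtain ⟨n, hn⟩ := Subgroup.mem_zpowers_iff.1 (hg ⟨r', hr'⟩)
    have h1 : (⟨r, hr⟩ : ↥R₁) * ⟨r', hr'⟩ = ⟨r', hr'⟩ * ⟨r, hr⟩ := by
      rw [← hm, ← hn, ← zpow_add, ← zpow_add, add_comm]
    exact congrArg Subtype.val h1
  have h1 : Commute (x ^ i) (x ^ j) := (Commute.refl x).zpow_zpow i j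
  have h2 : Commute (x ^ i) r' := hxr'.zpow_left i
  have h3 : Commute r (x ^ j) := (hxr.zpow_left j).symm
  exact ((h1.mul_right h2).mul_left (h3.mul_right hrr')).eq

variable (P : Subgroup S)

/-- (a): `Ω₁(Z(P)) ≤ Z₁` -/
theorem Core.omega_center (h : Core p A Z₁ R₁) (hAP : A ≤ P) (hnab : ¬ IsMulCommutative P)
    {x : S} (hxP : x ∈ P) (hxc : x ∈ Subgroup.centralizer (P : Set S)) (hxp : x ^ p = 1) :
    x ∈ Z₁ := by
  have hxCA : x ∈ Subgroup.centralizer (A : Set S) := Subgroup.centralizer_le hAP hxc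
  have hxA : x ∈ A := h.omega x hxCA hxp
  by_contra hxZ
  apply hnab
  refine ⟨⟨fun c d => ?_⟩⟩
  apply Subtype.ext
  have hmem : ∀ g ∈ P, g ∈ Subgroup.centralizer (A : Set S) := by
    intro g hg
    rw [Subgroup.mem_centralizer_iff]
    intro a ha
    obtain ⟨i, z, hz, rfl⟩ := h.decompA hxA hxZ ha
    have h1 : Commute x g := (Subgroup.mem_centralizer_iff.1 hxc g hg).symm
    have h2 : Commute z g := (Subgroup.mem_center_iff.1 (h.Zc hz) g).symm
    exact ((h1.zpow_left i).mul_left h2).eq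
  exact h.cent_comm (hmem _ c.2) (hmem _ d.2)

/-- (b): `C_P(A) = ⟨x⟩ × (P ∩ R₁)` -/
theorem Core.cent_dec (h : Core p A Z₁ R₁) (hAP : A ≤ P) {x : S} (hxA : x ∈ A) (hxZ : x ∉ Z₁) :
    Subgroup.zpowers x ⊓ (P ⊓ R₁) = ⊥ ∧
      Subgroup.zpowers x ⊔ (P ⊓ R₁) = P ⊓ Subgroup.centralizer (A : Set S) := by
  constructor
  · rw [eq_bot_iff, ← (h.dec x hxA hxZ).1]
    exact inf_le_inf_left _ inf_le_right
  · apply le_antisymm
    · apply sup_le
      · rw [Subgroup.zpowers_le]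
        exact ⟨hAP hxA, h.A_le hxA⟩
      · exact inf_le_inf_left _ h.R_le
    · rintro c ⟨hcP, hcA⟩
      obtain ⟨i, r, hr, rfl⟩ := h.decomp hxA hxZ hcA
      have hxi : x ^ i ∈ P := Subgroup.zpow_mem _ (hAP hxA) i
      have hrP : r ∈ P := by
        have h1 : r = (x ^ i)⁻¹ * (x ^ i * r) := by group
        rw [h1]
        exact Subgroup.mul_mem _ (Subgroup.inv_mem _ hxi) hcP
      exact Subgroup.mul_mem_sup (Subgroup.zpow_mem_zpowers x i) ⟨hrP, hr⟩

/-- an element of `N_P(A) ∖ C_P(A)` -/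
theorem Core.exists_normalizer (h : Core p A Z₁ R₁) (hAP : A ≤ P) (hnab : ¬ IsMulCommutative P) :
    ∃ g ∈ P, g ∈ Subgroup.normalizer (A : Set S) ∧ g ∉ Subgroup.centralizer (A : Set S) := by
  have hle : P ⊓ Subgroup.centralizer (A : Set S) ≤ P := inf_le_left
  have hne : P ⊓ Subgroup.centralizer (A : Set S) ≠ P := by
    intro heq
    apply hnab
    refine ⟨⟨fun c d => ?_⟩⟩
    apply Subtype.ext
    have hc' : (c : S) ∈ P ⊓ Subgroup.centralizer (A : Set S) := by rw [heq]; exact c.2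
    have hd' : (d : S) ∈ P ⊓ Subgroup.centralizer (A : Set S) := by rw [heq]; exact d.2
    have hc := hc'.2
    have hd := hd'.2
    exact h.cent_comm hc hd
  have hlt : P ⊓ Subgroup.centralizer (A : Set S) < P := lt_of_le_of_ne hle hne
  obtain ⟨g, hgP, hgN, hgD⟩ := Cfsg.Agent.Helper4.exists_mem_normalizer_not_mem P
    (h.pgroup.to_subgroup P) _ hlt
  refine ⟨g, hgP, ?_, fun hgc => hgD ⟨hgP, hgc⟩⟩
  apply Subgroup.mem_normalizer_fintype
  intro a ha
  have haD : a ∈ P ⊓ Subgroup.centralizer (A : Set S) := ⟨hAP ha, h.A_le ha⟩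
  have h1 : g * a * g⁻¹ ∈ P ⊓ Subgroup.centralizer (A : Set S) :=
    (Subgroup.mem_normalizer_iff.1 hgN a).1 haD
  apply h.omega _ h1.2
  rw [conj_pow, h.elem.2 a ha, mul_one, mul_inv_cancel]

/-- (c): `N_P(A)` is transitive on the subgroups `⟨x⟩`, `x ∈ A ∖ Z₁` -/
theorem Core.trans (h : Core p A Z₁ R₁) (hAP : A ≤ P) (hnab : ¬ IsMulCommutative P)
    {x y : S} (hxA : x ∈ A) (hxZ : x ∉ Z₁) (hyA : y ∈ A) (hyZ : y ∉ Z₁) :
    ∃ g ∈ P, g ∈ Subgroup.normalizer (A : Set S) ∧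
      Subgroup.zpowers y = Subgroup.zpowers (g * x * g⁻¹) := by
  obtain ⟨g, hgP, hgN, hgC⟩ := h.exists_normalizer P hAP hnab
  have hx1 : x ≠ 1 := fun e => hxZ (e ▸ one_mem _)
  have hy1 : y ≠ 1 := fun e => hyZ (e ▸ one_mem _)
  have hox : orderOf x = p := orderOf_eq_prime (h.elem.2 x hxA) hx1
  have hoy : orderOf y = p := orderOf_eq_prime (h.elem.2 y hyA) hy1
  -- conjugation by `g` fixes `Z₁` pointwise
  have hcen : ∀ z ∈ Z₁, MulAut.conj g z = z := by
    intro z hz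
    rw [MulAut.conj_apply]
    have := Subgroup.mem_center_iff.1 (h.Zc hz) g
    rw [this, mul_inv_cancel_right]
  have hgxA : MulAut.conj g x ∈ A := by
    rw [MulAut.conj_apply]
    exact (Subgroup.mem_normalizer_iff.1 hgN x).1 hxA
  obtain ⟨i, z, hz, hgx⟩ := h.decompA hxA hxZ hgxA
  have hxz : Commute x z := Subgroup.mem_center_iff.1 (h.Zc hz) x
  -- iterates
  have key : ∀ n : ℕ, ∃ zn ∈ Z₁, MulAut.conj (g ^ n) x = x ^ (i ^ n) * zn := by
    intro n
    induction n with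
    | zero => exact ⟨1, one_mem _, by simp⟩
    | succ n ih =>
      obtain ⟨zn, hzn, hn⟩ := ih
      refine ⟨z ^ (i ^ n) * zn, mul_mem (Subgroup.zpow_mem _ hz _) hzn, ?_⟩
      have h1 : MulAut.conj (g ^ (n + 1)) x = MulAut.conj g (MulAut.conj (g ^ n) x) := by
        rw [pow_succ', map_mul, MulAut.mul_apply]
      rw [h1, hn, map_mul, map_zpow, hgx, hcen zn hzn, (hxz.zpow_left i).mul_zpow, ← zpow_mul,
        pow_succ', mul_assoc]
  -- `i ≡ 1 mod p`
  have hi : ((i : ZMod p)) = 1 := by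
    obtain ⟨m, hm⟩ := (h.pgroup g)
    obtain ⟨zn, hzn, hn⟩ := key (p ^ m)
    rw [hm, map_one, MulAut.one_apply] at hn
    have h2 : x ^ (1 - i ^ (p ^ m)) = zn := by
      have h3 : zn = (x ^ (i ^ (p ^ m)))⁻¹ * x := by
        rw [eq_inv_mul_iff_mul_eq]; exact hn.symm
      rw [h3, show (1 - i ^ (p ^ m) : ℤ) = -(i ^ (p ^ m)) + 1 by ring, zpow_add, zpow_neg,
        zpow_one]
    have h4 : x ^ (1 - i ^ (p ^ m)) ∈ Subgroup.zpowers x ⊓ R₁ :=
      ⟨Subgroup.zpow_mem_zpowers x _, h2 ▸ h.ZR hzn⟩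
    rw [(h.dec x hxA hxZ).1, Subgroup.mem_bot] at h4
    have h5 : ((orderOf x : ℕ) : ℤ) ∣ 1 - i ^ (p ^ m) := orderOf_dvd_iff_zpow_eq_one.2 h4
    rw [hox] at h5
    have h6 : ((1 - i ^ (p ^ m) : ℤ) : ZMod p) = 0 :=
      (ZMod.intCast_zmod_eq_zero_iff_dvd _ p).2 h5
    push_cast at h6
    rw [ZMod.pow_card_pow] at h6
    exact (sub_eq_zero.1 h6).symm
  have hxi : x ^ i = x := by
    have h1 : (p : ℤ) ∣ i - 1 := by
      have : ((i - 1 : ℤ) : ZMod p) = 0 := by push_cast; rw [hi, sub_self]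
      exact (ZMod.intCast_zmod_eq_zero_iff_dvd _ p).1 this
    obtain ⟨t, ht⟩ := h1
    have h2 : i = 1 + p * t := by omega
    rw [h2, zpow_add, zpow_one, zpow_mul, zpow_natCast, h.elem.2 x hxA, one_zpow, mul_one]
  rw [hxi] at hgx
  -- `z ≠ 1`
  have hz1 : z ≠ 1 := by
    intro e
    apply hgC
    rw [Subgroup.mem_centralizer_iff]
    intro a ha
    obtain ⟨j, z', hz', rfl⟩ := h.decompA hxA hxZ ha
    have h1 : Commute x g := by
      rw [e, mul_one, MulAut.conj_apply] at hgx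
      have : g * x = x * g := by
        calc g * x = g * x * g⁻¹ * g := by group
          _ = x * g := by rw [hgx]
      exact this.symm
    have h2 : Commute z' g := (Subgroup.mem_center_iff.1 (h.Zc hz') g).symm
    exact ((h1.zpow_left j).mul_left h2).eq
  have hoz : orderOf z = p := by
    apply orderOf_eq_prime _ hz1
    exact h.elem.2 z (h.ZA hz)
  -- powers of `g`
  have key2 : ∀ k : ℕ, MulAut.conj (g ^ k) x = x * z ^ k := by
    intro k
    induction k with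
    | zero => simp
    | succ k ih =>
      have h1 : MulAut.conj (g ^ (k + 1)) x = MulAut.conj g (MulAut.conj (g ^ k) x) := by
        rw [pow_succ', map_mul, MulAut.mul_apply]
      rw [h1, ih, map_mul, map_pow, hgx, hcen z hz, pow_succ', mul_assoc]
  -- decompose `y`
  obtain ⟨j, z', hz', hy⟩ := h.decompA hxA hxZ hyA
  have hzj : z ^ j ≠ 1 := by
    intro e
    have h1 : ((orderOf z : ℕ) : ℤ) ∣ j := orderOf_dvd_iff_zpow_eq_one.2 e
    rw [hoz, ← hox] at h1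
    have h2 : x ^ j = 1 := orderOf_dvd_iff_zpow_eq_one.1 h1
    apply hyZ
    rw [hy, h2, one_mul]
    exact hz'
  -- `z'` is a power of `z ^ j`
  have hgen : Subgroup.zpowers (z ^ j) = Z₁ := by
    apply Subgroup.eq_of_le_of_card_ge
    · rw [Subgroup.zpowers_le]
      exact Subgroup.zpow_mem _ hz j
    · rw [h.cardZ, Nat.card_zpowers]
      have h1 : orderOf (z ^ j) = p := by
        apply orderOf_eq_prime _ hzj
        rw [← zpow_natCast, ← zpow_mul, mul_comm, zpow_mul, zpow_natCast,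
          h.elem.2 z (h.ZA hz), one_zpow]
      rw [h1]
  have hz'mem : z' ∈ Subgroup.zpowers (z ^ j) := by rw [hgen]; exact hz'
  rw [← mem_powers_iff_mem_zpowers] at hz'mem
  obtain ⟨k, hk⟩ := hz'mem
  have hk' : (z ^ j) ^ k = z' := hk
  refine ⟨g ^ k, Subgroup.pow_mem _ hgP k, Subgroup.pow_mem _ hgN k, ?_⟩
  have hconj : g ^ k * x * (g ^ k)⁻¹ = x * z ^ k := by
    rw [← MulAut.conj_apply]; exact key2 k
  rw [hconj]
  have hyj : y = (x * z ^ k) ^ j := by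
    rw [(hxz.pow_right k).mul_zpow, hy, ← hk']
    congr 1
    rw [← zpow_natCast, ← zpow_mul, ← zpow_natCast, ← zpow_mul, mul_comm]
  have hle : Subgroup.zpowers y ≤ Subgroup.zpowers (x * z ^ k) := by
    rw [Subgroup.zpowers_le, hyj]
    exact Subgroup.zpow_mem_zpowers _ j
  apply Subgroup.eq_of_le_of_card_ge hle
  rw [Nat.card_zpowers, Nat.card_zpowers, hoy]
  have h1 : (x * z ^ k) ^ p = 1 := by
    rw [(hxz.pow_right k).mul_pow, h.elem.2 x hxA, one_mul, ← pow_mul, mul_comm, pow_mul,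
      h.elem.2 z (h.ZA hz), one_pow]
  exact Nat.le_of_dvd hp.out.pos (orderOf_dvd_of_pow_eq_one h1)

end Cfsg.Agent.Lead.BG1012
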