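import Mathlib
import Cfsg.Prelude
import Cfsg.Agent.Helper1.SCN3b
import Cfsg.Agent.Helper1.BGWc
import Cfsg.Agent.Lead.BG1012a

set_option autoImplicit false
set_option linter.unusedSectionVars false
set_option linter.unusedVariables false

/-!
# Bender–Glauberman Lemma 10.12: the case of rank at least three
-/

namespace Cfsg.Agent.Lead.BG1012

open scoped commutatorElement Pointwise

universe u

/-- A `p`-group of rank at least three (`p` odd) with a maximal elementary abelian subgroup `E` of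
order `p ^ 2` satisfies the hypotheses of the core lemma. -/
theorem core_of_rank_three {R : Type u} [Group R] [Finite R] (p : ℕ) [hp : Fact p.Prime]
    (hp2 : p ≠ 2) (hR : IsPGroup p R) (hr : ¬ Cfsg.PRankLE p 2 R)
    (E : Subgroup R) (hE : Cfsg.IsElementaryAbelian p E) (hE2 : Nat.card E = p ^ 2)
    (hEmax : ∀ B : Subgroup R, Cfsg.IsElementaryAbelian p B → E ≤ B → B = E) :
    ∃ Z₁ R₁ : Subgroup R, Core p E Z₁ R₁ := by
  obtain ⟨hET, hZcard, -, hTchar, hTidx⟩ :=
    Cfsg.Agent.Helper1.SCN3.maximal_rank_two p hp2 hR hr E hE hE2 hEmax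
  set W := Subgroup.closure {x : R | x ∈ Subgroup.upperCentralSeries R 2 ∧ x ^ p = 1} with hW
  set T := Subgroup.centralizer (W : Set R) with hT
  set Z := Subgroup.closure {x : R | x ∈ Subgroup.center R ∧ x ^ p = 1} with hZ
  have hTn : T.Normal := inferInstance
  have hZcen : ∀ z ∈ Z, z ∈ Subgroup.center R := fun z hz =>
    (Cfsg.Agent.Helper1.SCN3.omega_z1 hz).1
  have homega : ∀ x ∈ Subgroup.centralizer (E : Set R), x ^ p = 1 → x ∈ E := fun x hx hxp =>
    Cfsg.Agent.Helper1.SCN3.mem_of_centralizes_of_maximal hE hEmax hx hxp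
  have hZE : Z ≤ E := by
    intro z hz
    obtain ⟨hzc, hzp⟩ := Cfsg.Agent.Helper1.SCN3.omega_z1 hz
    exact homega z (Subgroup.center_le_centralizer _ hzc) hzp
  have hZT : Z ≤ T := fun z hz => Subgroup.center_le_centralizer _ (hZcen z hz)
  have hEcomm : E ≤ Subgroup.centralizer (E : Set R) := by
    intro a ha
    rw [Subgroup.mem_centralizer_iff]
    intro b hb
    have := hE.1
    exact congrArg Subtype.val (this.is_comm.comm ⟨b, hb⟩ ⟨a, ha⟩)
  -- `E ∩ T = Z`
  have hETZ : E ⊓ T = Z := by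
    symm
    apply Subgroup.eq_of_le_of_card_ge (le_inf hZE hZT)
    rw [hZcard]
    have hd : Nat.card ↥(E ⊓ T) ∣ p ^ 2 := by
      rw [← hE2]; exact Subgroup.card_dvd_of_le inf_le_left
    obtain ⟨j, hj2, hj⟩ := (Nat.dvd_prime_pow hp.out).1 hd
    have hj' : j ≠ 2 := by
      rintro rfl
      have heq : E ⊓ T = E := Subgroup.eq_of_le_of_card_ge inf_le_left (by rw [hj, hE2])
      exact hET (heq ▸ inf_le_right)
    have hj1 : j ≤ 1 := by omega
    rw [hj]
    calc p ^ j ≤ p ^ 1 := Nat.pow_le_pow_right hp.out.pos hj1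
      _ = p := pow_one p
  have hpp : p < p ^ 2 := by
    have h1 := hp.out.one_lt
    nlinarith
  refine ⟨Z, Subgroup.centralizer (E : Set R) ⊓ T, ⟨hR, hE, hZcard, hZE, hZcen, ?_, homega, ?_,
    ?_, ?_⟩⟩
  · -- `¬ E ≤ Z`
    intro hle
    have h1 := Subgroup.card_le_of_le hle
    rw [hE2, hZcard] at h1
    omega
  · -- cyclic
    by_contra hnc
    have hQ : IsPGroup p ↥(Subgroup.centralizer (E : Set R) ⊓ T) := hR.to_subgroup _
    obtain ⟨F, hFle, hFe, hFcard, -⟩ := Cfsg.Agent.Helper1.BGW.exists_normal_ea2 hp2 hQ hnc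
    have hFZ : F ≤ Z := by
      intro y hy
      have hyCT := hFle hy
      have hyE : y ∈ E := homega y hyCT.1 (hFe.2 y hy)
      rw [← hETZ]
      exact ⟨hyE, hyCT.2⟩
    have hle := Subgroup.card_le_of_le hFZ
    rw [hFcard, hZcard] at hle
    omega
  · -- `Z ≤ R₁`
    exact le_inf (fun z hz => Subgroup.center_le_centralizer _ (hZcen z hz)) hZT
  · -- decomposition
    intro x hxE hxZ
    have hxT : x ∉ T := fun hxT => hxZ (hETZ ▸ (⟨hxE, hxT⟩ : x ∈ E ⊓ T))
    have hxp : x ^ p = 1 := hE.2 x hxE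
    have hx1 : x ≠ 1 := by rintro rfl; exact hxT (one_mem _)
    have hox : orderOf x = p := orderOf_eq_prime hxp hx1
    have hR₀card : Nat.card (Subgroup.zpowers x) = p := by rw [Nat.card_zpowers, hox]
    -- `⟨x⟩ ∩ T = 1`
    have hR₀T : ∀ y ∈ Subgroup.zpowers x, y ∈ T → y = 1 := by
      intro y hy hyT
      by_contra hy1
      have hle : Subgroup.zpowers y ≤ Subgroup.zpowers x := Subgroup.zpowers_le.2 hy
      have hd : Nat.card (Subgroup.zpowers y) ∣ p := by
        rw [← hR₀card]; exact Subgroup.card_dvd_of_le hle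
      have hc : Nat.card (Subgroup.zpowers y) = p := by
        rcases (Nat.dvd_prime hp.out).1 hd with h1 | h1
        · exfalso
          rw [Subgroup.card_eq_one, Subgroup.zpowers_eq_bot] at h1
          exact hy1 h1
        · exact h1
      have heq : Subgroup.zpowers y = Subgroup.zpowers x :=
        Subgroup.eq_of_le_of_card_ge hle (by rw [hc, hR₀card])
      have hx' : x ∈ Subgroup.zpowers y := by rw [heq]; exact Subgroup.mem_zpowers x
      exact hxT ((Subgroup.zpowers_le.2 hyT) hx')
    -- every element of `R` is `x ^ k` times an element of `T`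
    have hdecomp : ∀ r : R, ∃ k : ℤ, (x ^ k)⁻¹ * r ∈ T := by
      intro r
      have hcardQ : Nat.card (R ⧸ T) = p := by rw [← Subgroup.index_eq_card, hTidx]
      have hne : (QuotientGroup.mk x : R ⧸ T) ≠ 1 := by
        intro h
        exact hxT ((QuotientGroup.eq_one_iff x).1 h)
      have htop := zpowers_eq_top_of_prime_card hcardQ hne
      have hmem : (QuotientGroup.mk r : R ⧸ T) ∈
          Subgroup.zpowers (QuotientGroup.mk x : R ⧸ T) := by
        rw [htop]; exact Subgroup.mem_top _
      obtain ⟨k, hk⟩ := Subgroup.mem_zpowers_iff.1 hmem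
      refine ⟨k, ?_⟩
      have h2 : (QuotientGroup.mk (x ^ k) : R ⧸ T) = QuotientGroup.mk r := by
        rw [QuotientGroup.mk_zpow]; exact hk
      exact QuotientGroup.eq.1 h2
    constructor
    · rw [eq_bot_iff]
      intro y hy
      exact Subgroup.mem_bot.2 (hR₀T y hy.1 hy.2.2)
    · apply le_antisymm
      · apply sup_le
        · rw [Subgroup.zpowers_le]
          exact hEcomm hxE
        · exact inf_le_left
      · intro c hc
        obtain ⟨k, hk⟩ := hdecomp c
        have hxk : x ^ k ∈ Subgroup.zpowers x := Subgroup.zpow_mem_zpowers x k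
        have h1 : (x ^ k)⁻¹ * c ∈ Subgroup.centralizer (E : Set R) :=
          Subgroup.mul_mem _ (Subgroup.inv_mem _ (hEcomm (Subgroup.zpow_mem _ hxE k))) hc
        have hc' : c = x ^ k * ((x ^ k)⁻¹ * c) := by group
        rw [hc']
        exact Subgroup.mul_mem_sup hxk ⟨h1, hk⟩

end Cfsg.Agent.Lead.BG1012
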