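import Mathlib
import Cfsg.Prelude
import Cfsg.Agent.Helper1.R2SB
import Cfsg.Agent.Helper1.Coprime
import Cfsg.Agent.Lead.BG1012a

set_option autoImplicit false
set_option linter.unusedSectionVars false
set_option linter.unusedVariables false

/-!
# Bender–Glauberman Lemma 10.12: the case of rank at most two
-/

namespace Cfsg.Agent.Lead.BG1012

open scoped commutatorElement Pointwise

universe u

/-- a subgroup of prime order generated by `x` meets trivially every subgroup not containing `x` -/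
theorem zpowers_inf_eq_bot_of_not_mem {S : Type u} [Group S] {p : ℕ} [hp : Fact p.Prime] {x : S}
    (hxp : x ^ p = 1) (H : Subgroup S) (hxH : x ∉ H) : Subgroup.zpowers x ⊓ H = ⊥ := by
  rw [eq_bot_iff]
  rintro y ⟨hy, hyH⟩
  rw [Subgroup.mem_bot]
  by_contra hy1
  obtain ⟨k, rfl⟩ := Subgroup.mem_zpowers_iff.1 hy
  have hx1 : x ≠ 1 := fun e => hxH (e ▸ one_mem _)
  have hox : orderOf x = p := orderOf_eq_prime hxp hx1
  have hk : ¬ (p : ℤ) ∣ k := by
    intro hd
    apply hy1
    rw [← hox] at hd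
    exact orderOf_dvd_iff_zpow_eq_one.1 hd
  have hcop : IsCoprime (p : ℤ) k := by
    rw [Int.isCoprime_iff_gcd_eq_one]
    have := (Nat.Prime.coprime_iff_not_dvd hp.out).2
      (fun h : p ∣ k.natAbs => hk (Int.natCast_dvd.2 h))
    simpa [Int.gcd] using this
  obtain ⟨a, b, hab⟩ := hcop
  apply hxH
  have h1 : x = (x ^ k) ^ b := by
    rw [← zpow_mul]
    have h2 : k * b = 1 - a * p := by linarith
    rw [h2, zpow_sub, zpow_one, mul_comm a (p : ℤ), zpow_mul, zpow_natCast, hxp, one_zpow,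
      inv_one, mul_one]
  rw [h1]
  exact Subgroup.zpow_mem _ hyH b

/-- The Sylow structure of rank two (central product of an extraspecial group of order `p ^ 3` and
exponent `p` with a cyclic group) gives the hypotheses of the core lemma for every elementary
abelian subgroup of order `p ^ 2`. -/
theorem core_of_rank_two {S : Type u} [Group S] [Finite S] (p : ℕ) [hp : Fact p.Prime]
    (hS : IsPGroup p S) (P₁ P₂ : Subgroup S)
    (hsup : P₁ ⊔ P₂ = ⊤) (hcomm : ∀ a ∈ P₁, ∀ b ∈ P₂, a * b = b * a)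
    (hnab : ¬ IsMulCommutative P₁) (hcard : Nat.card P₁ = p ^ 3) (hexp : ∀ a ∈ P₁, a ^ p = 1)
    (hcyc : IsCyclic P₂)
    (hom1 : ∀ x ∈ P₂, x ^ p = 1 → x ∈ P₁ ⊓ Subgroup.centralizer (P₁ : Set S))
    (hom2 : P₁ ⊓ Subgroup.centralizer (P₁ : Set S) ≤ P₂)
    (A : Subgroup S) (hA : Cfsg.IsElementaryAbelian p A) (hA2 : Nat.card A = p ^ 2) :
    Core p A (P₁ ⊓ Subgroup.centralizer (P₁ : Set S)) P₂ := by
  set Z₁ := P₁ ⊓ Subgroup.centralizer (P₁ : Set S) with hZ₁
  have hZcard : Nat.card Z₁ = p :=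
    (Cfsg.Agent.Helper1.R2S.center_of_card_cube' P₁ hcard hnab).1
  have hpp : p < p ^ 2 := by
    have h1 := hp.out.one_lt
    nlinarith
  -- decomposition
  have hdec : ∀ s : S, ∃ a ∈ P₁, ∃ b ∈ P₂, s = a * b := by
    intro s
    have hn : P₂ ≤ Subgroup.normalizer (P₁ : Set S) := by
      refine le_trans ?_ (Subgroup.centralizer_le_normalizer _)
      intro b hb
      rw [Subgroup.mem_centralizer_iff]
      intro a ha
      exact hcomm a ha b hb
    exact Cfsg.Agent.Helper1.mem_sup_of_le_normalizer hn (hsup ▸ Subgroup.mem_top s)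
  -- elements of order dividing `p` lie in `P₁`
  have hord : ∀ s : S, s ^ p = 1 → s ∈ P₁ := by
    intro s hs
    obtain ⟨a, ha, b, hb, rfl⟩ := hdec s
    have hc : Commute a b := hcomm a ha b hb
    rw [hc.mul_pow, hexp a ha, one_mul] at hs
    exact Subgroup.mul_mem _ ha (hom1 b hb hs).1
  have hAP₁ : A ≤ P₁ := fun a ha => hord a (hA.2 a ha)
  have hAcomm : A ≤ Subgroup.centralizer (A : Set S) := by
    intro a ha
    rw [Subgroup.mem_centralizer_iff]
    intro b hb
    have := hA.1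
    exact congrArg Subtype.val (this.is_comm.comm ⟨b, hb⟩ ⟨a, ha⟩)
  have hP₂A : P₂ ≤ Subgroup.centralizer (A : Set S) := by
    intro b hb
    rw [Subgroup.mem_centralizer_iff]
    intro a ha
    exact hcomm a (hAP₁ ha) b hb
  -- `Z₁` is central
  have hZc : Z₁ ≤ Subgroup.center S := by
    intro z hz
    rw [Subgroup.mem_center_iff]
    intro s
    obtain ⟨a, ha, b, hb, rfl⟩ := hdec s
    have h1 : a * z = z * a := Subgroup.mem_centralizer_iff.1 hz.2 a ha
    have h2 : z * b = b * z := hcomm z hz.1 b hb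
    calc a * b * z = a * (b * z) := mul_assoc _ _ _
      _ = a * (z * b) := by rw [h2]
      _ = (a * z) * b := (mul_assoc _ _ _).symm
      _ = z * a * b := by rw [h1]
      _ = z * (a * b) := mul_assoc _ _ _
  have hAZ : ¬ A ≤ Z₁ := by
    intro hle
    have h1 := Subgroup.card_le_of_le hle
    rw [hA2, hZcard] at h1
    omega
  -- `C_{P₁}(A) = A`
  have hCP : P₁ ⊓ Subgroup.centralizer (A : Set S) = A := by
    symm
    apply Subgroup.eq_of_le_of_card_ge (le_inf hAP₁ hAcomm)
    rw [hA2]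
    have hd : Nat.card ↥(P₁ ⊓ Subgroup.centralizer (A : Set S)) ∣ p ^ 3 := by
      rw [← hcard]; exact Subgroup.card_dvd_of_le inf_le_left
    obtain ⟨j, hj3, hj⟩ := (Nat.dvd_prime_pow hp.out).1 hd
    have hj' : j ≠ 3 := by
      rintro rfl
      have heq : P₁ ⊓ Subgroup.centralizer (A : Set S) = P₁ :=
        Subgroup.eq_of_le_of_card_ge inf_le_left (by rw [hj, hcard])
      apply hAZ
      intro a ha
      refine ⟨hAP₁ ha, ?_⟩
      refine Subgroup.mem_centralizer_iff.2 ?_
      intro b hb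
      have hb' : b ∈ P₁ ⊓ Subgroup.centralizer (A : Set S) := by rw [heq]; exact hb
      exact (Subgroup.mem_centralizer_iff.1 hb'.2 a ha).symm
    have hj2 : j ≤ 2 := by omega
    rw [hj]
    exact Nat.pow_le_pow_right hp.out.pos hj2
  have homega : ∀ x ∈ Subgroup.centralizer (A : Set S), x ^ p = 1 → x ∈ A := by
    intro x hx hxp
    rw [← hCP]
    exact ⟨hord x hxp, hx⟩
  have hZA : Z₁ ≤ A := by
    intro z hz
    rw [← hCP]
    exact ⟨hz.1, Subgroup.center_le_centralizer _ (hZc hz)⟩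
  refine ⟨hS, hA, hZcard, hZA, hZc, hAZ, homega, hcyc, hom2, ?_⟩
  intro x hxA hxZ
  have hxp : x ^ p = 1 := hA.2 x hxA
  have hx1 : x ≠ 1 := fun e => hxZ (e ▸ one_mem _)
  have hox : orderOf x = p := orderOf_eq_prime hxp hx1
  have hxP₂ : x ∉ P₂ := fun hx => hxZ (hom1 x hx hxp)
  refine ⟨zpowers_inf_eq_bot_of_not_mem hxp P₂ hxP₂, ?_⟩
  apply le_antisymm
  · apply sup_le
    · rw [Subgroup.zpowers_le]
      exact hAcomm hxA
    · exact hP₂A
  · intro c hc
    obtain ⟨a, ha, b, hb, rfl⟩ := hdec c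
    have haC : a ∈ Subgroup.centralizer (A : Set S) := by
      have h1 : a = a * b * b⁻¹ := by group
      rw [h1]
      exact Subgroup.mul_mem _ hc (Subgroup.inv_mem _ (hP₂A hb))
    have haA : a ∈ A := by
      rw [← hCP]; exact ⟨ha, haC⟩
    -- `A = ⟨x⟩ Z₁`
    have hAeq : Z₁ ⊔ Subgroup.zpowers x = A := by
      apply Subgroup.eq_of_le_of_card_ge (sup_le hZA (Subgroup.zpowers_le.2 hxA))
      have hn : Subgroup.zpowers x ≤ Subgroup.normalizer (Z₁ : Set S) := by
        intro y _
        apply Subgroup.mem_normalizer_fintype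
        intro z hz
        have h1 : y * z = z * y := Subgroup.mem_center_iff.1 (hZc hz) y
        rw [h1, mul_inv_cancel_right]
        exact hz
      rw [Cfsg.Agent.Helper1.card_sup_of_le_normalizer hn
        (zpowers_inf_eq_bot_of_not_mem hxp Z₁ hxZ), hZcard, Nat.card_zpowers, hox, hA2, pow_two]
    have ha' : a ∈ Subgroup.zpowers x ⊔ P₂ := by
      rw [← hAeq] at haA
      exact (sup_le (le_trans hom2 le_sup_right) le_sup_left) haA
    exact Subgroup.mul_mem _ ha' (Subgroup.mem_sup_right hb)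

end Cfsg.Agent.Lead.BG1012
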