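import Mathlib

set_option autoImplicit false

namespace Cfsg.Agent.Lead

/-- In `ZMod (2^K)`, an element with an odd power equal to one is one. -/
theorem zmod_two_pow_eq_one_of_odd_pow (M K : ℕ) (hM : M = 2 ^ K) (j : ZMod M) (t : ℕ) (ht : Odd t)
    (hj : j ^ t = 1) : j = 1 := by
  subst hM
  rcases Nat.eq_zero_or_pos K with hK | hK
  · subst hK
    haveI : Subsingleton (ZMod (2 ^ 0)) := by
      rw [pow_zero]; infer_instance
    exact Subsingleton.elim _ _
  obtain ⟨s, hs⟩ := ht
  have hju : j * j ^ (2 * s) = 1 := by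
    rw [← pow_succ', ← hs]; exact hj
  set u : (ZMod (2 ^ K))ˣ := Units.mkOfMulEqOne j (j ^ (2 * s)) hju with hu
  have hut : u ^ t = 1 := by
    apply Units.ext
    rw [Units.val_pow_eq_pow_val]
    exact hj
  have hphi : u ^ (2 ^ (K - 1)) = 1 := by
    have h1 := ZMod.pow_totient u
    rw [Nat.totient_prime_pow Nat.prime_two hK] at h1
    simpa using h1
  have hgcd : u ^ (Nat.gcd t (2 ^ (K - 1))) = 1 := pow_gcd_eq_one.mpr ⟨hut, hphi⟩
  have hcop : Nat.gcd t (2 ^ (K - 1)) = 1 := by
    apply Nat.Coprime.pow_right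
    rw [Nat.coprime_two_right]
    exact ⟨s, hs⟩
  rw [hcop, pow_one] at hgcd
  have : (u : ZMod (2 ^ K)) = 1 := by rw [hgcd]; rfl
  exact this

/-- In `ZMod (2^K)`, an element killed by an odd number is zero. -/
theorem zmod_two_pow_eq_zero_of_odd_mul (M K : ℕ) (hM : M = 2 ^ K) (c : ZMod M) (t : ℕ) (ht : Odd t)
    (hc : (t : ZMod M) * c = 0) : c = 0 := by
  subst hM
  have hcop : Nat.Coprime t (2 ^ K) := by
    apply Nat.Coprime.pow_right
    rw [Nat.coprime_two_right]
    exact ht
  set u := ZMod.unitOfCoprime t hcop with hu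
  have h1 : (u : ZMod (2 ^ K)) * c = 0 := hc
  calc c = ((u⁻¹ : (ZMod (2 ^ K))ˣ) : ZMod (2 ^ K)) * ((u : ZMod (2 ^ K)) * c) := by
        rw [← mul_assoc, Units.inv_mul, one_mul]
    _ = 0 := by rw [h1, mul_zero]

open DihedralGroup in
/-- Automorphisms of odd order of a dihedral `2`-group of order at least `8` are trivial. -/
theorem dihedral_aut_odd_trivial (k : ℕ) (hk : 2 ≤ k) (β : MulAut (DihedralGroup (2 ^ k))) (t : ℕ)
    (ht : Odd t) (hβ : β ^ t = 1) : β = 1 := by
  have : NeZero (2 ^ k) := ⟨by positivity⟩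
  have h4 : 4 ≤ 2 ^ k := by
    calc 4 = 2 ^ 2 := by norm_num
      _ ≤ 2 ^ k := Nat.pow_le_pow_right (by norm_num) hk
  have hrpow : ∀ (j : ZMod (2 ^ k)) (n : ℕ), (r j : DihedralGroup (2 ^ k)) ^ n = r ((n : ZMod (2 ^ k)) * j) := by
    intro j n
    induction n with
    | zero => simp
    | succ n ih => rw [pow_succ, ih, r_mul_r]; congr 1; push_cast; ring
  -- step 1
  have ho : orderOf (β (r 1)) = 2 ^ k := by rw [MulEquiv.orderOf_eq, orderOf_r_one]
  obtain ⟨j, hj⟩ : ∃ j, β (r 1) = r j := by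
    cases h : β (r 1) with
    | r j => exact ⟨j, rfl⟩
    | sr i =>
      rw [h, orderOf_sr] at ho
      omega
  -- step 2
  have hr : ∀ i : ZMod (2 ^ k), β (r i) = r (j * i) := by
    intro i
    have h1 : (r i : DihedralGroup (2 ^ k)) = r 1 ^ i.val := by
      rw [r_one_pow, ZMod.natCast_zmod_val]
    rw [h1, map_pow, hj, hrpow, ZMod.natCast_zmod_val, mul_comm]
  -- step 3
  have hpow : ∀ n : ℕ, (β ^ n) (r 1) = r (j ^ n) := by
    intro n
    induction n with
    | zero => simp
    | succ n ih =>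
      rw [pow_succ', MulAut.mul_apply, ih, hr, pow_succ']
  have hjt : j ^ t = 1 := by
    have := hpow t
    rw [hβ, MulAut.one_apply] at this
    exact (r.inj this).symm
  have hj1 : j = 1 := zmod_two_pow_eq_one_of_odd_pow _ k rfl j t ht hjt
  have hr' : ∀ i : ZMod (2 ^ k), β (r i) = r i := by
    intro i; rw [hr, hj1, one_mul]
  -- step 4
  obtain ⟨c, hc⟩ : ∃ c, β (sr 0) = sr c := by
    cases h : β (sr 0) with
    | r i =>
      have h2 : β (sr 0) = β (r i) := by rw [h, hr']
      have := β.injective h2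
      exact absurd this (by simp)
    | sr c => exact ⟨c, rfl⟩
  -- step 5
  have hs : ∀ i : ZMod (2 ^ k), β (sr i) = sr (c + i) := by
    intro i
    have h1 : (sr i : DihedralGroup (2 ^ k)) = sr 0 * r i := by rw [sr_mul_r, zero_add]
    rw [h1, map_mul, hc, hr', sr_mul_r]
  -- step 6
  have hspow : ∀ n : ℕ, (β ^ n) (sr 0) = sr ((n : ZMod (2 ^ k)) * c) := by
    intro n
    induction n with
    | zero => simp
    | succ n ih =>
      rw [pow_succ', MulAut.mul_apply, ih, hs]
      congr 1; push_cast; ring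
  have hc0 : c = 0 := by
    have := hspow t
    rw [hβ, MulAut.one_apply] at this
    have h2 : (t : ZMod (2 ^ k)) * c = 0 := (sr.inj this).symm
    exact zmod_two_pow_eq_zero_of_odd_mul _ k rfl c t ht h2
  -- step 7
  ext x
  cases x with
  | r i => rw [hr', MulAut.one_apply]
  | sr i => rw [hs, hc0, zero_add, MulAut.one_apply]

open QuaternionGroup in
/-- Automorphisms of odd order of a generalized quaternion group of order at least `16` are trivial. -/
theorem quaternion_aut_odd_trivial (k : ℕ) (hk : 2 ≤ k) (β : MulAut (QuaternionGroup (2 ^ k))) (t : ℕ)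
    (ht : Odd t) (hβ : β ^ t = 1) : β = 1 := by
  have : NeZero (2 ^ k) := ⟨by positivity⟩
  have h4 : 4 ≤ 2 ^ k := by
    calc 4 = 2 ^ 2 := by norm_num
      _ ≤ 2 ^ k := Nat.pow_le_pow_right (by norm_num) hk
  have hM : 2 * 2 ^ k = 2 ^ (k + 1) := by rw [pow_succ]; ring
  have hapow : ∀ (j : ZMod (2 * 2 ^ k)) (n : ℕ), (a j : QuaternionGroup (2 ^ k)) ^ n = a ((n : ZMod (2 * 2 ^ k)) * j) := by
    intro j n
    induction n with
    | zero => simp
    | succ n ih => rw [pow_succ, ih, a_mul_a]; congr 1; push_cast; ring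
  -- step 1
  have ho : orderOf (β (a 1)) = 2 * 2 ^ k := by rw [MulEquiv.orderOf_eq, orderOf_a_one]
  obtain ⟨j, hj⟩ : ∃ j, β (a 1) = a j := by
    cases h : β (a 1) with
    | a j => exact ⟨j, rfl⟩
    | xa i =>
      rw [h, orderOf_xa] at ho
      omega
  -- step 2
  have hr : ∀ i : ZMod (2 * 2 ^ k), β (a i) = a (j * i) := by
    intro i
    have h1 : (a i : QuaternionGroup (2 ^ k)) = a 1 ^ i.val := by
      rw [a_one_pow, ZMod.natCast_zmod_val]
    rw [h1, map_pow, hj, hapow, ZMod.natCast_zmod_val, mul_comm]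
  -- step 3
  have hpow : ∀ n : ℕ, (β ^ n) (a 1) = a (j ^ n) := by
    intro n
    induction n with
    | zero => simp
    | succ n ih =>
      rw [pow_succ', MulAut.mul_apply, ih, hr, pow_succ']
  have hjt : j ^ t = 1 := by
    have := hpow t
    rw [hβ, MulAut.one_apply] at this
    exact (a.inj this).symm
  have hj1 : j = 1 := zmod_two_pow_eq_one_of_odd_pow _ (k + 1) hM j t ht hjt
  have hr' : ∀ i : ZMod (2 * 2 ^ k), β (a i) = a i := by
    intro i; rw [hr, hj1, one_mul]
  -- step 4
  obtain ⟨c, hc⟩ : ∃ c, β (xa 0) = xa c := by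
    cases h : β (xa 0) with
    | a i =>
      have h2 : β (xa 0) = β (a i) := by rw [h, hr']
      have := β.injective h2
      exact absurd this (by simp)
    | xa c => exact ⟨c, rfl⟩
  -- step 5
  have hs : ∀ i : ZMod (2 * 2 ^ k), β (xa i) = xa (c + i) := by
    intro i
    have h1 : (xa i : QuaternionGroup (2 ^ k)) = xa 0 * a i := by rw [xa_mul_a, zero_add]
    rw [h1, map_mul, hc, hr', xa_mul_a]
  -- step 6
  have hspow : ∀ n : ℕ, (β ^ n) (xa 0) = xa ((n : ZMod (2 * 2 ^ k)) * c) := by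
    intro n
    induction n with
    | zero => simp
    | succ n ih =>
      rw [pow_succ', MulAut.mul_apply, ih, hs]
      congr 1; push_cast; ring
  have hc0 : c = 0 := by
    have := hspow t
    rw [hβ, MulAut.one_apply] at this
    have h2 : (t : ZMod (2 * 2 ^ k)) * c = 0 := (xa.inj this).symm
    exact zmod_two_pow_eq_zero_of_odd_mul _ (k + 1) hM c t ht h2
  -- step 7
  ext x
  cases x with
  | a i => rw [hr', MulAut.one_apply]
  | xa i => rw [hs, hc0, zero_add, MulAut.one_apply]

/-- If all automorphisms of odd order are trivial, the automorphism group is a `2`-group. -/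
theorem isPGroup_two_mulAut_of_odd_trivial {G : Type*} [Group G] [Finite G]
    (h : ∀ (β : MulAut G) (t : ℕ), Odd t → β ^ t = 1 → β = 1) : IsPGroup 2 (MulAut G) := by
  intro α
  have hpos : 0 < orderOf α := orderOf_pos α
  obtain ⟨a, t, ht, hat⟩ := Nat.exists_eq_two_pow_mul_odd hpos.ne'
  refine ⟨a, ?_⟩
  apply h (α ^ 2 ^ a) t ht
  rw [← pow_mul, ← hat, pow_orderOf_eq_one]

end Cfsg.Agent.Lead
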