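import Mathlib
import Cfsg.Prelude
import Cfsg.Agent.S1412
import Cfsg.Agent.Lead.BG1012a
import Cfsg.Agent.Lead.BG1012b
import Cfsg.Agent.Lead.BG1012c

set_option autoImplicit false
set_option linter.unusedSectionVars false
set_option linter.unusedVariables false

/-!
# Bender–Glauberman Lemma 10.12 (`basic_p2maxElem_structure`)

`G` minimal simple of odd order, `A` a maximal elementary abelian `p`-subgroup of `G` of order
`p ^ 2`, `P` a nonabelian `p`-subgroup containing `A`, `Z₀ = Ω₁(Z(P))`.  Then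
(a) `Z₀ ≤ A` has order `p`; (b) there is a cyclic `Y` with `Z₀ ≤ Y ≤ P` and
`C_P(A) = ⟨x⟩ × Y` for every `x ∈ A ∖ Z₀`; (c) `N_P(A)` is transitive on the subgroups `⟨x⟩`,
`x ∈ A ∖ Z₀`.
-/

namespace Cfsg.Agent.Lead.BG1012

open scoped commutatorElement Pointwise

universe u

variable {G : Type u} [Group G] [Finite G]

/-- the conclusion of Lemma 10.12 -/
def Conclusion (p : ℕ) (A P : Subgroup G) : Prop :=
  ∃ Z₀ Y : Subgroup G, Nat.card Z₀ = p ∧ Z₀ ≤ A ∧
    (∀ x, x ∈ Z₀ ↔ x ∈ P ∧ x ∈ Subgroup.centralizer (P : Set G) ∧ x ^ p = 1) ∧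
    IsCyclic Y ∧ Z₀ ≤ Y ∧ Y ≤ P ∧
    (∀ x ∈ A, x ∉ Z₀ → Subgroup.zpowers x ⊓ Y = ⊥ ∧
      Subgroup.zpowers x ⊔ Y = P ⊓ Subgroup.centralizer (A : Set G)) ∧
    (∀ x y, x ∈ A → x ∉ Z₀ → y ∈ A → y ∉ Z₀ →
      ∃ g ∈ P, g ∈ Subgroup.normalizer (A : Set G) ∧
        Subgroup.zpowers y = Subgroup.zpowers (g * x * g⁻¹))

/-- transport of the core lemma from the type of a `p`-subgroup `S` to the ambient group -/
theorem conclusion_of_core (p : ℕ) [hp : Fact p.Prime] (S A P : Subgroup G) (hPS : P ≤ S)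
    (hAP : A ≤ P) (hnab : ¬ IsMulCommutative P) (Z₁ R₁ : Subgroup ↥S)
    (h : Core p (A.subgroupOf S) Z₁ R₁) : Conclusion p A P := by
  have hinj : Function.Injective S.subtype := Subgroup.subtype_injective S
  have hAS : A ≤ S := le_trans hAP hPS
  have hAP' : A.subgroupOf S ≤ P.subgroupOf S := by
    intro x hx
    rw [Subgroup.mem_subgroupOf] at hx ⊢
    exact hAP hx
  have hnab' : ¬ IsMulCommutative (P.subgroupOf S) := by
    intro hc
    apply hnab
    refine ⟨⟨fun c d => ?_⟩⟩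
    have h1 := hc.is_comm.comm ⟨⟨c, hPS c.2⟩, Subgroup.mem_subgroupOf.2 c.2⟩
      ⟨⟨d, hPS d.2⟩, Subgroup.mem_subgroupOf.2 d.2⟩
    have h2 := congrArg (fun t : ↥(P.subgroupOf S) => ((t : ↥S) : G)) h1
    exact Subtype.ext h2
  have hZ₁A : ∀ z ∈ Z₁, (z : G) ∈ A := fun z hz => Subgroup.mem_subgroupOf.1 (h.ZA hz)
  -- the centralizer correspondence
  have hcent : (P.subgroupOf S ⊓ Subgroup.centralizer ((A.subgroupOf S : Subgroup ↥S) : Set ↥S)).map
      S.subtype = P ⊓ Subgroup.centralizer (A : Set G) := by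
    ext y
    constructor
    · rintro ⟨y', ⟨hy'P, hy'C⟩, rfl⟩
      refine ⟨Subgroup.mem_subgroupOf.1 hy'P, ?_⟩
      refine Subgroup.mem_centralizer_iff.2 ?_
      intro a ha
      have h1 := Subgroup.mem_centralizer_iff.1 hy'C ⟨a, hAS ha⟩ (Subgroup.mem_subgroupOf.2 ha)
      exact congrArg Subtype.val h1
    · rintro ⟨hyP, hyC⟩
      refine ⟨⟨y, hPS hyP⟩, ⟨Subgroup.mem_subgroupOf.2 hyP, ?_⟩, rfl⟩
      refine Subgroup.mem_centralizer_iff.2 ?_
      intro a ha
      apply Subtype.ext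
      exact Subgroup.mem_centralizer_iff.1 hyC a (Subgroup.mem_subgroupOf.1 ha)
  refine ⟨Z₁.map S.subtype, (P.subgroupOf S ⊓ R₁).map S.subtype, ?_, ?_, ?_, ?_, ?_, ?_, ?_, ?_⟩
  · rw [Subgroup.card_map_of_injective hinj, h.cardZ]
  · rintro _ ⟨z, hz, rfl⟩
    exact hZ₁A z hz
  · intro x
    constructor
    · rintro ⟨z, hz, rfl⟩
      refine ⟨hAP (hZ₁A z hz), ?_, ?_⟩
      · refine Subgroup.mem_centralizer_iff.2 ?_
        intro g hg
        have h1 := Subgroup.mem_center_iff.1 (h.Zc hz) ⟨g, hPS hg⟩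
        exact congrArg Subtype.val h1
      · exact (Subgroup.mem_subgroupOf.1 (h.ZA hz) |> fun hzA => by
          have := h.elem.2 z (h.ZA hz)
          have h2 := congrArg Subtype.val this
          simpa using h2)
    · rintro ⟨hxP, hxC, hxp⟩
      refine ⟨⟨x, hPS hxP⟩, ?_, rfl⟩
      apply h.omega_center (P.subgroupOf S) hAP' hnab' (Subgroup.mem_subgroupOf.2 hxP)
      · refine Subgroup.mem_centralizer_iff.2 ?_
        intro g hg
        apply Subtype.ext
        exact Subgroup.mem_centralizer_iff.1 hxC g (Subgroup.mem_subgroupOf.1 hg)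
      · apply Subtype.ext
        simpa using hxp
  · have h1 : IsCyclic ↥R₁ := h.cyc
    have h2 : IsCyclic ↥(P.subgroupOf S ⊓ R₁) := Subgroup.isCyclic_of_le inf_le_right
    exact (Subgroup.equivMapOfInjective _ S.subtype hinj).isCyclic.1 h2
  · apply Subgroup.map_mono
    exact le_inf (le_trans h.ZA hAP') h.ZR
  · rintro _ ⟨y, hy, rfl⟩
    exact Subgroup.mem_subgroupOf.1 hy.1
  · intro x hxA hxZ
    have hx' : (⟨x, hAS hxA⟩ : ↥S) ∈ A.subgroupOf S := Subgroup.mem_subgroupOf.2 hxA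
    have hx'Z : (⟨x, hAS hxA⟩ : ↥S) ∉ Z₁ := fun hz => hxZ ⟨_, hz, rfl⟩
    obtain ⟨hd1, hd2⟩ := h.cent_dec (P.subgroupOf S) hAP' hx' hx'Z
    have hzp : (Subgroup.zpowers (⟨x, hAS hxA⟩ : ↥S)).map S.subtype = Subgroup.zpowers x := by
      rw [MonoidHom.map_zpowers]
      rfl
    constructor
    · rw [← hzp, ← Subgroup.map_inf _ _ _ hinj, hd1, Subgroup.map_bot]
    · rw [← hzp, ← Subgroup.map_sup, hd2, hcent]
  · intro x y hxA hxZ hyA hyZ
    have hx' : (⟨x, hAS hxA⟩ : ↥S) ∈ A.subgroupOf S := Subgroup.mem_subgroupOf.2 hxA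
    have hx'Z : (⟨x, hAS hxA⟩ : ↥S) ∉ Z₁ := fun hz => hxZ ⟨_, hz, rfl⟩
    have hy' : (⟨y, hAS hyA⟩ : ↥S) ∈ A.subgroupOf S := Subgroup.mem_subgroupOf.2 hyA
    have hy'Z : (⟨y, hAS hyA⟩ : ↥S) ∉ Z₁ := fun hz => hyZ ⟨_, hz, rfl⟩
    obtain ⟨g, hgP, hgN, hg⟩ := h.trans (P.subgroupOf S) hAP' hnab' hx' hx'Z hy' hy'Z
    refine ⟨(g : G), Subgroup.mem_subgroupOf.1 hgP, ?_, ?_⟩
    · apply Subgroup.mem_normalizer_fintype
      intro a ha
      have h1 := (Subgroup.mem_normalizer_iff.1 hgN ⟨a, hAS ha⟩).1 (Subgroup.mem_subgroupOf.2 ha)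
      exact Subgroup.mem_subgroupOf.1 h1
    · have h1 := congrArg (Subgroup.map S.subtype) hg
      rw [MonoidHom.map_zpowers, MonoidHom.map_zpowers] at h1
      exact h1

/-- **Bender–Glauberman Lemma 10.12.** -/
theorem basic_p2maxElem_structure (hG : Cfsg.IsMinSimpleOddOrder G) (p : ℕ) [hp : Fact p.Prime]
    (A P : Subgroup G) (hA : Cfsg.IsElementaryAbelian p A) (hA2 : Nat.card A = p ^ 2)
    (hAmax : ∀ B : Subgroup G, Cfsg.IsElementaryAbelian p B → A ≤ B → B = A)
    (hP : IsPGroup p P) (hAP : A ≤ P) (hnab : ¬ IsMulCommutative P) :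
    Conclusion p A P := by
  obtain ⟨Q, hPQ⟩ := hP.exists_le_sylow
  set S : Subgroup G := (Q : Subgroup G) with hS
  have hAS : A ≤ S := le_trans hAP hPQ
  have hSp : IsPGroup p ↥S := Q.isPGroup'
  -- `p` is odd
  have hp2 : p ≠ 2 := by
    rintro rfl
    have h1 : 2 ∣ Nat.card G := by
      have h2 : Nat.card A ∣ Nat.card G := Subgroup.card_subgroup_dvd_card A
      rw [hA2] at h2
      exact dvd_trans (dvd_pow_self 2 (by norm_num)) h2
    exact (Nat.not_even_iff_odd.2 hG.1) (even_iff_two_dvd.2 h1)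
  -- `A` inside `S`
  have hA' : Cfsg.IsElementaryAbelian p (A.subgroupOf S) := by
    refine ⟨⟨⟨fun c d => ?_⟩⟩, ?_⟩
    · have := hA.1
      have h1 := this.is_comm.comm ⟨(c : G), Subgroup.mem_subgroupOf.1 c.2⟩
        ⟨(d : G), Subgroup.mem_subgroupOf.1 d.2⟩
      apply Subtype.ext
      apply Subtype.ext
      exact congrArg (fun t : ↥A => (t : G)) h1
    · intro a ha
      apply Subtype.ext
      have := hA.2 (a : G) (Subgroup.mem_subgroupOf.1 ha)
      simpa using this
  have hA2' : Nat.card (A.subgroupOf S) = p ^ 2 := by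
    rw [Nat.card_congr (Subgroup.subgroupOfEquivOfLe hAS).toEquiv, hA2]
  by_cases hr : Cfsg.PRankLE p 2 ↥S
  · -- rank at most two
    rcases Cfsg.Agent.S1412.result hG p Q hr with hab | ⟨P₁, P₂, hsup, hcomm, hnabP₁, hcard, hexp,
      hcyc, hom⟩
    · exfalso
      apply hnab
      refine ⟨⟨fun c d => ?_⟩⟩
      have h1 := hab.is_comm.comm ⟨(c : G), hPQ c.2⟩ ⟨(d : G), hPQ d.2⟩
      apply Subtype.ext
      exact congrArg (fun t : ↥(Q : Subgroup G) => (t : G)) h1
    · have hP₁S : P₁ ≤ S := by rw [hS, ← hsup]; exact le_sup_left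
      have hP₂S : P₂ ≤ S := by rw [hS, ← hsup]; exact le_sup_right
      have hexp' : ∀ a ∈ P₁, a ^ p = 1 := by
        intro a ha
        have h1 := Monoid.pow_exponent_eq_one (⟨a, ha⟩ : ↥P₁)
        rw [hexp] at h1
        have h2 := congrArg Subtype.val h1
        simpa using h2
      have hcore : Core p (A.subgroupOf S) ((P₁.subgroupOf S) ⊓
          Subgroup.centralizer ((P₁.subgroupOf S : Subgroup ↥S) : Set ↥S)) (P₂.subgroupOf S) := by
        apply core_of_rank_two p hSp (P₁.subgroupOf S) (P₂.subgroupOf S)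
        · rw [← Subgroup.subgroupOf_sup hP₁S hP₂S, hsup]
          exact Subgroup.subgroupOf_self _
        · intro a ha b hb
          apply Subtype.ext
          exact hcomm a (Subgroup.mem_subgroupOf.1 ha) b (Subgroup.mem_subgroupOf.1 hb)
        · intro hc
          apply hnabP₁
          refine ⟨⟨fun c d => ?_⟩⟩
          have h1 := hc.is_comm.comm ⟨⟨c, hP₁S c.2⟩, Subgroup.mem_subgroupOf.2 c.2⟩
            ⟨⟨d, hP₁S d.2⟩, Subgroup.mem_subgroupOf.2 d.2⟩
          have h2 := congrArg (fun t : ↥(P₁.subgroupOf S) => ((t : ↥S) : G)) h1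
          exact Subtype.ext h2
        · rw [Nat.card_congr (Subgroup.subgroupOfEquivOfLe hP₁S).toEquiv, hcard]
        · intro a ha
          apply Subtype.ext
          have := hexp' (a : G) (Subgroup.mem_subgroupOf.1 ha)
          simpa using this
        · exact (Subgroup.subgroupOfEquivOfLe hP₂S).isCyclic.2 hcyc
        · intro x hx hxp
          have hxG : (x : G) ∈ P₁ ⊓ Subgroup.centralizer (P₁ : Set G) := by
            rw [← hom]
            apply Subgroup.subset_closure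
            refine ⟨Subgroup.mem_subgroupOf.1 hx, ?_⟩
            have h2 := congrArg Subtype.val hxp
            simpa using h2
          refine ⟨Subgroup.mem_subgroupOf.2 hxG.1, ?_⟩
          refine Subgroup.mem_centralizer_iff.2 ?_
          intro a ha
          apply Subtype.ext
          exact Subgroup.mem_centralizer_iff.1 hxG.2 a (Subgroup.mem_subgroupOf.1 ha)
        · rintro z ⟨hz1, hz2⟩
          rw [Subgroup.mem_subgroupOf]
          have hzG : (z : G) ∈ P₁ ⊓ Subgroup.centralizer (P₁ : Set G) := by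
            refine ⟨Subgroup.mem_subgroupOf.1 hz1, ?_⟩
            refine Subgroup.mem_centralizer_iff.2 ?_
            intro a ha
            have h1 := Subgroup.mem_centralizer_iff.1 hz2 ⟨a, hP₁S ha⟩ (Subgroup.mem_subgroupOf.2 ha)
            exact congrArg Subtype.val h1
          rw [← hom] at hzG
          have hle : Subgroup.closure {x : G | x ∈ P₂ ∧ x ^ p = 1} ≤ P₂ := by
            rw [Subgroup.closure_le]
            rintro x ⟨hx, -⟩
            exact hx
          exact hle hzG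
        · exact hA'
        · exact hA2'
      exact conclusion_of_core p S A P hPQ hAP hnab _ _ hcore
  · -- rank at least three
    have hmax' : ∀ B : Subgroup ↥S, Cfsg.IsElementaryAbelian p B → A.subgroupOf S ≤ B →
        B = A.subgroupOf S := by
      intro B hB hle
      have hBm : Cfsg.IsElementaryAbelian p (B.map S.subtype) := by
        have := hB.1
        refine ⟨Subgroup.map_isMulCommutative B _, ?_⟩
        rintro _ ⟨b, hb, rfl⟩
        have h1 := hB.2 b hb
        have h2 := congrArg Subtype.val h1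
        simpa using h2
      have hAB : A ≤ B.map S.subtype := by
        intro a ha
        exact ⟨⟨a, hAS ha⟩, hle (Subgroup.mem_subgroupOf.2 ha), rfl⟩
      have heq := hAmax _ hBm hAB
      apply le_antisymm _ hle
      intro b hb
      rw [Subgroup.mem_subgroupOf, ← heq]
      exact ⟨b, hb, rfl⟩
    obtain ⟨Z₁, R₁, hcore⟩ := core_of_rank_three p hp2 hSp hr (A.subgroupOf S) hA' hA2' hmax'
    exact conclusion_of_core p S A P hPQ hAP hnab Z₁ R₁ hcore

end Cfsg.Agent.Lead.BG1012
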