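import Mathlib
import Cfsg.Prelude
import Cfsg.Agent.Lead.BG11c
import Cfsg.Agent.Lead.BG12a
import Cfsg.Agent.Helper1.Rank2Fitting2

set_option autoImplicit false
set_option linter.unusedSectionVars false
set_option linter.unusedVariables false

/-!
Bender–Glauberman: `M_σ ≠ 1` (Theorem 10.2(e)), and the generalized form of Lemma 11.1 /
Corollary 11.2 with an arbitrary proper subgroup `L ⊇ A` in place of a centralizer.
-/

namespace Cfsg.Agent.Lead.BG12

open Cfsg Cfsg.Agent.Helper1 Cfsg.Agent.Helper2 Cfsg.Agent.Helper1.BGT Cfsg.Agent.Helper1.BGU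
  Cfsg.Agent.Helper1.BGV Cfsg.Agent.Helper1.BGW Cfsg.Agent.Helper1.BGX
open scoped commutatorElement Pointwise

universe u

variable {G : Type u} [Group G] [Finite G]

/-- a maximal subgroup of a minimal simple group is nontrivial -/
theorem coatom_ne_bot (hG : Cfsg.IsMinSimpleOddOrder G) {M : Subgroup G} (hM : IsCoatom M) :
    M ≠ ⊥ := by
  rintro rfl
  apply hG.2.2.1
  have := hG.2.1
  obtain ⟨x, hx⟩ := exists_ne (1 : G)
  have h1 : (⊥ : Subgroup G) < Subgroup.zpowers x := by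
    rw [bot_lt_iff_ne_bot]
    intro h
    exact hx (Subgroup.zpowers_eq_bot.1 h)
  have h2 : Subgroup.zpowers x = ⊤ := hM.2 _ h1
  refine ⟨⟨fun a b => ?_⟩⟩
  have ha : a ∈ Subgroup.zpowers x := h2 ▸ Subgroup.mem_top a
  have hb : b ∈ Subgroup.zpowers x := h2 ▸ Subgroup.mem_top b
  obtain ⟨i, rfl⟩ := Subgroup.mem_zpowers_iff.1 ha
  obtain ⟨j, rfl⟩ := Subgroup.mem_zpowers_iff.1 hb
  rw [← zpow_add, ← zpow_add, add_comm]

/-- `σ(M)` is not empty (Bender–Glauberman Theorem 10.2(e)). -/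
theorem sigma_nonempty (hG : Cfsg.IsMinSimpleOddOrder G) {M : Subgroup G} (hM : IsCoatom M) :
    ∃ q, q ∈ Cfsg.sigma M := by
  by_cases hr : Cfsg.RankLE 2 ↥M
  · have hsolv : Group.IsSolvable ↥M := hG.2.2.2 M hM.1
    have hodd : Odd (Nat.card M) := Odd.of_dvd_nat hG.1 (Subgroup.card_subgroup_dvd_card M)
    have hM1 : M ≠ ⊥ := coatom_ne_bot hG hM
    have hcard : 1 < Nat.card M := by
      have h0 : 0 < Nat.card M := Nat.card_pos
      have h1 : Nat.card M ≠ 1 := fun h => hM1 (Subgroup.card_eq_one.1 h)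
      omega
    have hne : (Nat.card M).primeFactors.Nonempty := Nat.nonempty_primeFactors.2 hcard
    set q := (Nat.card M).primeFactors.max' hne with hq
    have hqmem : q ∈ (Nat.card M).primeFactors := Finset.max'_mem _ hne
    have hqp : q.Prime := Nat.prime_of_mem_primeFactors hqmem
    have hqd : q ∣ Nat.card M := Nat.dvd_of_mem_primeFactors hqmem
    have hqmax : ∀ r : ℕ, r.Prime → r ∣ Nat.card M → r ≤ q := by
      intro r hr hrd
      exact Finset.le_max' _ r (Nat.mem_primeFactors.2 ⟨hr, hrd, Nat.card_pos.ne'⟩)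
    have := Fact.mk hqp
    obtain ⟨N, hNchar, hNhall⟩ :=
      (Cfsg.Agent.Helper1.Rank2Fitting.rank_two_fitting_structure hodd (Or.inl hr)).2.2 (q - 1)
    have hNn : N.Normal := inferInstance
    -- `N` is a `q`-group
    have hNcard : Nat.card N = q ^ (Nat.card N).primeFactorsList.length := by
      apply Nat.eq_prime_pow_of_unique_prime_dvd Nat.card_pos.ne'
      intro d hd hdN
      have h1 := hNhall.1 d hd hdN
      have h2 : q - 1 < d := h1.2
      have h3 : d ≤ q := hqmax d hd (hdN.trans (Subgroup.card_subgroup_dvd_card N))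
      omega
    have hNp : IsPGroup q ↥N := IsPGroup.of_card hNcard
    have hNidx : ¬ q ∣ N.index := hNhall.2 q hqp ⟨hqp, by have := hqp.pos; omega⟩
    set P := N.map M.subtype with hP
    have hPM : P ≤ M := Subgroup.map_subtype_le _
    have hPp : IsPGroup q ↥P := hNp.map _
    obtain ⟨k, hk⟩ : ∃ k, Nat.card N = q ^ k := ⟨_, hNcard⟩
    have hPcard : Nat.card P = q ^ (Nat.card M).factorization q := by
      rw [hP, Subgroup.card_map_of_injective (Subgroup.subtype_injective _)]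
      have h1 : (Nat.card N).factorization q = (Nat.card M).factorization q :=
        factorization_eq_of_not_dvd_index hqp hNidx
      have h2 : (Nat.card N).factorization q = k := by
        rw [hk, Nat.Prime.factorization_pow hqp]
        simp
      rw [← h1, h2, hk]
    have hP1 : P ≠ ⊥ := by
      intro h
      rw [h, Subgroup.card_bot] at hPcard
      have h2 : 1 ≤ (Nat.card M).factorization q :=
        (hqp.dvd_iff_one_le_factorization Nat.card_pos.ne').1 hqd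
      have h3 : 1 < q ^ (Nat.card M).factorization q := Nat.one_lt_pow (by omega) hqp.one_lt
      omega
    have hPtop : P ≠ ⊤ := fun h => hM.1 (top_le_iff.1 (h ▸ hPM))
    have hMN : M ≤ Subgroup.normalizer (P : Set G) := by
      intro m hm
      apply Subgroup.mem_normalizer_fintype
      rintro _ ⟨n, hn, rfl⟩
      refine ⟨⟨m, hm⟩ * n * ⟨m, hm⟩⁻¹, hNn.conj_mem n hn _, rfl⟩
    have hnorm : Subgroup.normalizer (P : Set G) = M := normalizer_eq_of_coatom hG hM hMN hP1 hPtop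
    exact ⟨q, mem_sigma_of_normalizer_le hPM hP1 hPp hPcard hnorm.le⟩
  · unfold Cfsg.RankLE at hr
    push Not at hr
    obtain ⟨p, hp, hpr⟩ := hr
    exact ⟨p, alpha_subset_sigma hG hM ⟨hp, hpr⟩⟩

/-- `M_σ ≠ 1` (Bender–Glauberman Theorem 10.2(e)). -/
theorem sigmaCore_ne_bot (hG : Cfsg.IsMinSimpleOddOrder G) {M : Subgroup G} (hM : IsCoatom M) :
    Cfsg.sigmaCore M ≠ ⊥ := by
  obtain ⟨q, hq⟩ := sigma_nonempty hG hM
  have := Fact.mk hq.1
  obtain ⟨P⟩ : Nonempty (Sylow q ↥M) := inferInstance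
  have hPM : (P : Subgroup ↥M).map M.subtype ≤ M := Subgroup.map_subtype_le _
  have hle := le_sigmaCore' hG hM hq hPM (P.2.map _)
  intro hbot
  rw [hbot, le_bot_iff] at hle
  have h1 : (P : Subgroup ↥M) = ⊥ :=
    (Subgroup.map_eq_bot_iff_of_injective _ M.subtype_injective).mp hle
  exact P.ne_bot_of_dvd_card hq.2.1 h1

variable {M : Subgroup G} {p : ℕ} [hp : Fact p.Prime] {A₀ A : Subgroup G}

/-- Generalized form of Bender–Glauberman Lemma 11.1(b): an arbitrary proper subgroup `L ⊇ A` in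
place of the centralizer of a subgroup of `A`. -/
theorem Exc.lemma111_gen (e : Exc M p A₀ A) {g : G} (hg : g ∉ M) {q : ℕ} [hq : Fact q.Prime]
    {Q₁ Q₂' : Subgroup G} (hQ₁ : Q₁ ≤ Cfsg.sigmaCore M) (hQ₁p : IsPGroup q ↥Q₁)
    (hQ₁c : Nat.card Q₁ = q ^ (Nat.card (Cfsg.sigmaCore M)).factorization q)
    (hAQ₁ : A ≤ Subgroup.normalizer (Q₁ : Set G))
    (hQ₂ : Q₂' ≤ Cfsg.sigmaCore M) (hQ₂p : IsPGroup q ↥Q₂')
    (hQ₂c : Nat.card Q₂' = q ^ (Nat.card (Cfsg.sigmaCore M)).factorization q)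
    (hAQ₂ : A ≤ Subgroup.normalizer ((MulAut.conj g • Q₂' : Subgroup G) : Set G))
    {L : Subgroup G} (hL : L ≠ ⊤) (hAL : A ≤ L) :
    L ⊓ Q₁ = ⊥ ∨ L ⊓ MulAut.conj g • Q₂' = ⊥ := by
  have hG := e.min
  have hM := e.coatom
  by_cases hQ₁1 : Q₁ = ⊥
  · subst hQ₁1
    exact Or.inl (inf_bot_eq _)
  -- `q ∈ σ(M)`
  have hqσ : q ∈ Cfsg.sigma M := by
    apply mem_sigma_of_dvd_card_sigmaCore hq.out
    exact (dvd_card_of_isPGroup_ne_bot hQ₁p hQ₁1).trans (Subgroup.card_dvd_of_le hQ₁)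
  have hfG : (Nat.card (Cfsg.sigmaCore M)).factorization q = (Nat.card G).factorization q :=
    factorization_eq_of_not_dvd_index hq.out (not_dvd_index_sigmaCore hG hM hq.out hqσ)
  have hfM : (Nat.card (Cfsg.sigmaCore M)).factorization q = (Nat.card M).factorization q :=
    factorization_eq_of_not_dvd_relIndex sigmaCore_le hq.out
      (not_dvd_relIndex_sigmaCore hG hM hq.out hqσ)
  have hQ₂1 : Q₂' ≠ ⊥ := by
    intro h
    apply hQ₁1
    rw [h, Subgroup.card_bot] at hQ₂c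
    rw [← hQ₂c] at hQ₁c
    exact Subgroup.card_eq_one.mp hQ₁c
  set Q₂ := MulAut.conj g • Q₂' with hQ₂def
  have hQ₂p' : IsPGroup q ↥Q₂ := by
    rw [hQ₂def, conj_smul_eq_map]; exact hQ₂p.map _
  have hQ₂c' : Nat.card Q₂ = q ^ (Nat.card G).factorization q := by
    rw [hQ₂def, card_conj_smul, hQ₂c, hfG]
  have hyp := e.hyp hqσ
  have h₁ : Q₁ ∈ Cfsg.maxInvSubgroups ⊤ A {q} :=
    mem_maxInvSubgroups_of_sylow hQ₁p (by rw [hQ₁c, hfG]) hAQ₁
  have h₂ : Q₂ ∈ Cfsg.maxInvSubgroups ⊤ A {q} :=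
    mem_maxInvSubgroups_of_sylow hQ₂p' hQ₂c' hAQ₂
  -- `Q₁` and `Q₂` are not conjugate under `K`
  have hnc : ¬ KConj (KK A) Q₁ Q₂ := by
    rintro ⟨k, hk, hkQ⟩
    have hkM : k ∈ M := e.centralizer_le (KK_le_centralizer A hk)
    have hQ₂M : Q₂ ≤ M := by
      rw [hkQ, ← conj_smul_eq_self_of_mem hkM]
      exact conj_smul_mono (hQ₁.trans sigmaCore_le)
    obtain ⟨P, c⟩ := exists_sigCtx hG hM hqσ
    have hQ₂'M : Q₂' ≤ M := hQ₂.trans sigmaCore_le
    obtain ⟨m, hm, c', hc', eg⟩ := c.trans Q₂' hQ₂'M hQ₂p hQ₂1 g (by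
      intro x hx
      exact hQ₂M (conj_mem_conj_smul hx))
    have hc'M : c' ∈ M :=
      normalizer_le_of_sylow_of_mem_sigma hG hM hqσ hQ₂'M hQ₂p (by rw [hQ₂c, hfM])
        (Subgroup.centralizer_le_normalizer _ hc')
    apply hg
    rw [eg]
    exact M.mul_mem hm hc'M
  by_contra hcon
  push Not at hcon
  obtain ⟨hc1, hc2⟩ := hcon
  exact hnc (hyp.thm72 h₁ h₂ hL hAL hc1 hc2)

/-- Generalized form of Bender–Glauberman Corollary 11.2: a proper subgroup `L ⊇ A` containing an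
element `g ∉ M` with `A ≤ M ^ g` meets `M_σ` trivially. -/
theorem Exc.inf_sigmaCore_eq_bot (e : Exc M p A₀ A) {L : Subgroup G} (hL : L ≠ ⊤) (hAL : A ≤ L)
    {g : G} (hgL : g ∈ L) (hg : g ∉ M) (hAg : A ≤ MulAut.conj g • M) :
    L ⊓ Cfsg.sigmaCore M = ⊥ := by
  have hG := e.min
  have hM := e.coatom
  by_contra hne
  set H := L ⊓ Cfsg.sigmaCore M with hH
  have hcard : Nat.card H ≠ 1 := fun h => hne (Subgroup.card_eq_one.mp h)
  obtain ⟨q, hq, hqd⟩ := Nat.exists_prime_and_dvd hcard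
  have := Fact.mk hq
  have hAσ : A ≤ Subgroup.normalizer ((Cfsg.sigmaCore M : Subgroup G) : Set G) :=
    e.leM.trans (le_normalizer_sigmaCore M)
  have hAH : A ≤ Subgroup.normalizer (H : Set G) :=
    le_normalizer_inf (hAL.trans Subgroup.le_normalizer) hAσ
  have hsolv : Group.IsSolvable ↥A := hG.2.2.2 A (fun h => by
    apply sylow_ne_top hG p A e.isPGroup h)
  obtain ⟨P₀, hAP₀⟩ := exists_invariant_sylow (p := q) A H hAH
    (e.coprime_card inf_le_right A e.isPGroup) (Or.inl hsolv)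
  set Q₀ := (P₀ : Subgroup ↥H).map H.subtype with hQ₀
  have hQ₀H : Q₀ ≤ H := Subgroup.map_subtype_le _
  have hQ₀p : IsPGroup q ↥Q₀ := P₀.2.map _
  have hQ₀1 : Q₀ ≠ ⊥ := by
    intro h
    have h1 : (P₀ : Subgroup ↥H) = ⊥ := by
      rw [hQ₀] at h
      exact (Subgroup.map_eq_bot_iff_of_injective _ H.subtype_injective).mp h
    exact P₀.ne_bot_of_dvd_card hqd h1
  -- the Sylow subgroup of `M_σ`
  obtain ⟨P₁, hQ₀P₁, hAP₁⟩ := exists_invariant_sylow_ge (p := q) A (Cfsg.sigmaCore M) hAσ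
    (e.coprime_card le_rfl A e.isPGroup) (Or.inl hsolv) Q₀ (hQ₀H.trans inf_le_right) hQ₀p hAP₀
  -- the conjugate of `A`
  set A' := MulAut.conj g⁻¹ • A with hA'
  have hA'M : A' ≤ M := by
    have := conj_smul_mono (k := g⁻¹) hAg
    rw [conj_smul_inv_smul] at this
    exact this
  have hA'L : A' ≤ L := by
    have := conj_smul_mono (k := g⁻¹) hAL
    rw [conj_smul_eq_self_of_mem (L.inv_mem hgL)] at this
    exact this
  have hA'p : IsPGroup p ↥A' := by
    rw [hA', conj_smul_eq_map]; exact e.isPGroup.map _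
  have hA'solv : Group.IsSolvable ↥A' := hG.2.2.2 A' (fun h => by
    apply sylow_ne_top hG p A' hA'p h)
  have hA'σ : A' ≤ Subgroup.normalizer ((Cfsg.sigmaCore M : Subgroup G) : Set G) :=
    hA'M.trans (le_normalizer_sigmaCore M)
  have hA'H : A' ≤ Subgroup.normalizer (H : Set G) :=
    le_normalizer_inf (hA'L.trans Subgroup.le_normalizer) hA'σ
  obtain ⟨P₀', hA'P₀'⟩ := exists_invariant_sylow (p := q) A' H hA'H
    (e.coprime_card inf_le_right A' hA'p) (Or.inl hA'solv)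
  set Q₀' := (P₀' : Subgroup ↥H).map H.subtype with hQ₀'
  have hQ₀'H : Q₀' ≤ H := Subgroup.map_subtype_le _
  have hQ₀'p : IsPGroup q ↥Q₀' := P₀'.2.map _
  have hQ₀'1 : Q₀' ≠ ⊥ := by
    intro h
    have h1 : (P₀' : Subgroup ↥H) = ⊥ := by
      rw [hQ₀'] at h
      exact (Subgroup.map_eq_bot_iff_of_injective _ H.subtype_injective).mp h
    exact P₀'.ne_bot_of_dvd_card hqd h1
  obtain ⟨P₂, hQ₀'P₂, hA'P₂⟩ := exists_invariant_sylow_ge (p := q) A' (Cfsg.sigmaCore M)
    hA'σ (e.coprime_card le_rfl A' hA'p) (Or.inl hA'solv)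
    Q₀' (hQ₀'H.trans inf_le_right) hQ₀'p hA'P₀'
  have hAQ₂ : A ≤ Subgroup.normalizer
      ((MulAut.conj g • (P₂ : Subgroup ↥(Cfsg.sigmaCore M)).map (Cfsg.sigmaCore M).subtype :
        Subgroup G) : Set G) := by
    have := conj_smul_le_normalizer g hA'P₂
    rw [hA', conj_smul_smul_inv] at this
    exact this
  have hcardP : ∀ P : Sylow q ↥(Cfsg.sigmaCore M),
      Nat.card ↥((P : Subgroup ↥(Cfsg.sigmaCore M)).map (Cfsg.sigmaCore M).subtype) =
        q ^ (Nat.card (Cfsg.sigmaCore M)).factorization q := by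
    intro P
    rw [Subgroup.card_map_of_injective (Subgroup.subtype_injective _)]
    exact P.card_eq_multiplicity
  rcases e.lemma111_gen hg (Subgroup.map_subtype_le _) (P₁.2.map _) (hcardP P₁) hAP₁
    (Subgroup.map_subtype_le _) (P₂.2.map _) (hcardP P₂) hAQ₂ hL hAL with h1 | h1
  · apply hQ₀1
    rw [eq_bot_iff, ← h1]
    exact le_inf (hQ₀H.trans inf_le_left) hQ₀P₁
  · apply conj_smul_ne_bot (k := g) hQ₀'1
    rw [eq_bot_iff, ← h1]
    refine le_inf ?_ (conj_smul_mono hQ₀'P₂)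
    have := conj_smul_mono (k := g) (hQ₀'H.trans inf_le_left)
    rw [conj_smul_eq_self_of_mem hgL] at this
    exact this

end Cfsg.Agent.Lead.BG12
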