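import Mathlib
import Cfsg.Prelude
import Cfsg.Agent.Lead.BG11d
import Cfsg.Agent.Lead.BG1012d
import Cfsg.Agent.Helper4.BG11x

set_option autoImplicit false
set_option linter.unusedSectionVars false
set_option linter.unusedVariables false

/-!
Bender–Glauberman Lemma 11.5: in the exceptional situation the Sylow `p`-subgroups of `M` are
abelian.
-/

namespace Cfsg.Agent.Lead.BG12

open Cfsg Cfsg.Agent.Helper1 Cfsg.Agent.Helper2 Cfsg.Agent.Helper1.BGT Cfsg.Agent.Helper1.BGU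
  Cfsg.Agent.Helper1.BGV Cfsg.Agent.Helper1.BGW Cfsg.Agent.Helper1.BGX
open scoped commutatorElement Pointwise

universe u

variable {G : Type u} [Group G]

/-- `x` has trivial centralizer in `Q` -/
def TrivCent (Q : Subgroup G) (x : G) : Prop :=
  Q ⊓ Subgroup.centralizer ((Subgroup.zpowers x : Subgroup G) : Set G) = ⊥

theorem trivCent_iff {Q : Subgroup G} {x : G} :
    TrivCent Q x ↔ ∀ y ∈ Q, x * y = y * x → y = 1 := by
  unfold TrivCent
  constructor
  · intro h y hy hxy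
    have hmem : y ∈ Q ⊓ Subgroup.centralizer ((Subgroup.zpowers x : Subgroup G) : Set G) := by
      refine ⟨hy, ?_⟩
      refine Subgroup.mem_centralizer_iff.2 ?_
      intro z hz
      obtain ⟨k, rfl⟩ := Subgroup.mem_zpowers_iff.1 hz
      exact ((show Commute x y from hxy).zpow_left k).eq
    rw [h] at hmem
    exact Subgroup.mem_bot.1 hmem
  · intro h
    rw [eq_bot_iff]
    rintro y ⟨hy, hyC⟩
    rw [Subgroup.mem_bot]
    exact h y hy (Subgroup.mem_centralizer_iff.1 hyC x (Subgroup.mem_zpowers x))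

theorem TrivCent.smul {Q : Subgroup G} {x : G} (h : TrivCent Q x) (g : G) :
    TrivCent (MulAut.conj g • Q) (g * x * g⁻¹) := by
  rw [trivCent_iff] at h ⊢
  intro y hy hxy
  rw [mem_conj_smul] at hy
  have h1 : x * (g⁻¹ * y * g) = (g⁻¹ * y * g) * x := by
    calc x * (g⁻¹ * y * g) = g⁻¹ * ((g * x * g⁻¹) * y) * g := by group
      _ = g⁻¹ * (y * (g * x * g⁻¹)) * g := by rw [hxy]
      _ = (g⁻¹ * y * g) * x := by group
  have h2 := h _ hy h1
  calc y = g * (g⁻¹ * y * g) * g⁻¹ := by group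
    _ = 1 := by rw [h2]; group

theorem TrivCent.conj {Q : Subgroup G} {x t : G} (ht : MulAut.conj t • Q = Q)
    (h : TrivCent Q x) : TrivCent Q (t * x * t⁻¹) := by
  have := h.smul t
  rwa [ht] at this

theorem TrivCent.congr {Q : Subgroup G} {x y : G}
    (hz : Subgroup.zpowers y = Subgroup.zpowers x) : TrivCent Q y ↔ TrivCent Q x := by
  unfold TrivCent
  rw [hz]

variable [Finite G]

/-- a subgroup of order `p` is generated by each of its nonidentity elements -/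
theorem zpowers_eq_of_card_prime {p : ℕ} [hp : Fact p.Prime] {Z : Subgroup G}
    (hZ : Nat.card Z = p) {b : G} (hb : b ∈ Z) (hb1 : b ≠ 1) : Subgroup.zpowers b = Z := by
  apply Subgroup.eq_of_le_of_card_ge (Subgroup.zpowers_le.2 hb)
  rw [hZ, Nat.card_zpowers]
  have h1 : orderOf b ∣ p := by
    rw [← hZ]
    have := orderOf_dvd_natCard (⟨b, hb⟩ : ↥Z)
    rwa [Subgroup.orderOf_mk] at this
  rcases (Nat.dvd_prime hp.out).1 h1 with h2 | h2
  · exact absurd (orderOf_eq_one_iff.1 h2) hb1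
  · exact h2.ge

variable {M : Subgroup G} {p : ℕ} [hp : Fact p.Prime] {A₀ A : Subgroup G}

/-- a nonidentity element of `A` with nontrivial centralizer in a nontrivial maximal
`A`-invariant `q`-subgroup -/
theorem Exc.exists_not_trivCent (e : Exc M p A₀ A) {q : ℕ} (hqσ : q ∈ Cfsg.sigma M)
    {Q : Subgroup G} (hQ : Q ∈ Cfsg.maxInvSubgroups ⊤ A {q}) (hQ1 : Q ≠ ⊥) :
    ∃ b ∈ A, b ≠ 1 ∧ ¬ TrivCent Q b := by
  have hyp := e.hyp hqσ
  have hA1 : 1 < Nat.card A := by
    rw [e.card]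
    exact Nat.one_lt_pow (by norm_num) hp.out.one_lt
  obtain ⟨Bs, hBsA, hBsi, hBsQ⟩ := hyp.exists_hyperplane hp.out le_rfl e.elem hA1 hQ hQ1
  have hBs1 : 1 < Nat.card Bs := by
    have h2 : Nat.card A = Nat.card Bs * Bs.relIndex A :=
      (relIndex_mul_card_of_le hBsA).symm.trans (mul_comm _ _)
    by_contra hle
    have h3 : Nat.card Bs = 1 := by
      have : 0 < Nat.card Bs := Nat.card_pos
      omega
    rw [h3, one_mul, e.card] at h2
    have h4 : p < p ^ 2 := by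
      have := hp.out.one_lt
      nlinarith
    omega
  obtain ⟨b, hb, hb1⟩ := exists_ne_one_of_one_lt_card hBs1
  refine ⟨b, hBsA hb, hb1, ?_⟩
  intro ht
  apply hBsQ
  rw [eq_bot_iff]
  unfold TrivCent at ht
  rw [← ht]
  refine inf_le_inf_left _ (Subgroup.centralizer_le ?_)
  intro z hz
  exact (Subgroup.zpowers_le.2 hb) hz

/-- **Bender–Glauberman Lemma 11.5.** -/
theorem Exc.sylow_isMulCommutative (e : Exc M p A₀ A) {T : Subgroup G} (hAT : A ≤ T)
    (hTM : T ≤ M) (hTp : IsPGroup p ↥T)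
    (hTcard : Nat.card T = p ^ (Nat.card M).factorization p) : IsMulCommutative ↥T := by
  by_contra hnab
  have hG := e.min
  have hM := e.coatom
  have hmax := (lemma105 e.min M e.coatom p e.notσ e.rank.1 e.rank.2).2 A e.leM e.elem e.card
  obtain ⟨Z₀, Y, hZcard, hZA, hZmem, -, -, -, -, htrans⟩ :=
    Cfsg.Agent.Lead.BG1012.basic_p2maxElem_structure hG p A T e.elem e.card hmax hTp hAT hnab
  -- an element of `N(T)` outside `M`
  have hT1 : T ≠ ⊥ := fun h => e.ne_bot (le_bot_iff.mp (h ▸ hAT))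
  obtain ⟨g, hgT, hgM⟩ : ∃ g ∈ Subgroup.normalizer (T : Set G), g ∉ M := by
    by_contra hcon
    push Not at hcon
    exact e.notσ (mem_sigma_of_normalizer_le hTM hT1 hTp hTcard hcon)
  have hTg : MulAut.conj g • T = T := conj_smul_eq_of_mem_normalizer' hgT
  -- `g` normalizes `Z₀`
  have hgZ : ∀ z ∈ Z₀, g * z * g⁻¹ ∈ Z₀ := by
    intro z hz
    obtain ⟨hzT, hzC, hzp⟩ := (hZmem z).1 hz
    refine (hZmem _).2 ⟨(Subgroup.mem_normalizer_iff.1 hgT z).1 hzT, ?_, ?_⟩
    · refine Subgroup.mem_centralizer_iff.2 ?_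
      intro t ht
      have ht' : g⁻¹ * t * g ∈ T := by
        have := (Subgroup.mem_normalizer_iff.1 (Subgroup.inv_mem _ hgT) t).1 ht
        rwa [inv_inv] at this
      have h1 : (g⁻¹ * t * g) * z = z * (g⁻¹ * t * g) := Subgroup.mem_centralizer_iff.1 hzC _ ht'
      calc t * (g * z * g⁻¹) = g * ((g⁻¹ * t * g) * z) * g⁻¹ := by group
        _ = g * (z * (g⁻¹ * t * g)) * g⁻¹ := by rw [h1]
        _ = g * z * g⁻¹ * t := by group
    · rw [conj_pow, hzp, mul_one, mul_inv_cancel]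
  -- a prime of `σ(M)` and the normal Sylow subgroup `Q` of `M_σ`
  obtain ⟨q, hqσ⟩ := sigma_nonempty hG hM
  have := Fact.mk hqσ.1
  obtain ⟨Q, c⟩ := exists_sigCtx hG hM hqσ
  have hnil := e.sigmaCore_isNilpotent
  have hNQ : Subgroup.normalizer (Q : Set G) = M :=
    Cfsg.Agent.Helper4.BG11.normalizer_eq_of_isNilpotent_sigmaCore c hnil
  have hQ1 : Q ≠ ⊥ := by
    intro h
    have h1 := c.cardM
    rw [h, Subgroup.card_bot] at h1
    have h2 : 1 ≤ (Nat.card M).factorization q :=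
      (hqσ.1.dvd_iff_one_le_factorization Nat.card_pos.ne').1 hqσ.2.1
    have h3 : 1 < q ^ (Nat.card M).factorization q := Nat.one_lt_pow (by omega) hqσ.1.one_lt
    omega
  have hfG : (Nat.card (Cfsg.sigmaCore M)).factorization q = (Nat.card G).factorization q :=
    factorization_eq_of_not_dvd_index hqσ.1 (not_dvd_index_sigmaCore hG hM hqσ.1 hqσ)
  have hQc : Nat.card Q = q ^ (Nat.card (Cfsg.sigmaCore M)).factorization q := by
    rw [hfG]; exact c.cardG
  have hTQ : ∀ t ∈ T, MulAut.conj t • Q = Q := fun t ht =>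
    conj_smul_eq_of_mem_normalizer' (hNQ ▸ hTM ht)
  have hNgQ : Subgroup.normalizer ((MulAut.conj g • Q : Subgroup G) : Set G) =
      MulAut.conj g • M := by
    rw [normalizer_conj_smul', hNQ]
  have hTgQ : ∀ t ∈ T, MulAut.conj t • (MulAut.conj g • Q) = MulAut.conj g • Q := by
    intro t ht
    apply conj_smul_eq_of_mem_normalizer'
    rw [hNgQ]
    have h1 : t ∈ MulAut.conj g • T := by rw [hTg]; exact ht
    exact conj_smul_mono hTM h1
  have hAQ₁ : A ≤ Subgroup.normalizer (Q : Set G) := by rw [hNQ]; exact e.leM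
  have hAQ₂ : A ≤ Subgroup.normalizer ((MulAut.conj g • Q : Subgroup G) : Set G) := by
    intro a ha
    exact mem_normalizer_of_conj_smul_eq (hTgQ a (hAT ha))
  have h111 := (e.lemma111 hgM c.le_sigmaCore c.pgroup hQc hAQ₁ c.le_sigmaCore c.pgroup hQc
    hAQ₂).2
  have hgQp : IsPGroup q ↥(MulAut.conj g • Q) := by
    rw [conj_smul_eq_map]; exact c.pgroup.map _
  have hmem₁ : Q ∈ Cfsg.maxInvSubgroups ⊤ A {q} :=
    mem_maxInvSubgroups_of_sylow c.pgroup c.cardG hAQ₁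
  have hmem₂ : MulAut.conj g • Q ∈ Cfsg.maxInvSubgroups ⊤ A {q} :=
    mem_maxInvSubgroups_of_sylow hgQp (by rw [card_conj_smul]; exact c.cardG) hAQ₂
  -- the dichotomy for elements of `A`
  have hdich : ∀ b ∈ A, b ≠ 1 → TrivCent Q b ∨ TrivCent (MulAut.conj g • Q) b := by
    intro b hb hb1
    apply h111 (Subgroup.zpowers b) (Subgroup.zpowers_le.2 hb)
    intro h
    exact hb1 (Subgroup.zpowers_eq_bot.1 h)
  -- elements of `Z₀`
  have hZ₀ : ∀ b ∈ Z₀, b ≠ 1 → TrivCent Q b ∧ TrivCent (MulAut.conj g • Q) b := by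
    intro b hb hb1
    have hgb : g * b * g⁻¹ ∈ Z₀ := hgZ b hb
    have hgb1 : g * b * g⁻¹ ≠ 1 := by
      intro h
      apply hb1
      calc b = g⁻¹ * (g * b * g⁻¹) * g := by group
        _ = 1 := by rw [h]; group
    have hz1 : Subgroup.zpowers (g * b * g⁻¹) = Subgroup.zpowers b := by
      rw [zpowers_eq_of_card_prime hZcard hgb hgb1, zpowers_eq_of_card_prime hZcard hb hb1]
    rcases hdich b (hZA hb) hb1 with h | h
    · exact ⟨h, (TrivCent.congr hz1).1 (h.smul g)⟩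
    · refine ⟨?_, h⟩
      have h1 := ((TrivCent.congr hz1).2 h).smul g⁻¹
      rw [conj_smul_inv_smul] at h1
      have h2 : g⁻¹ * (g * b * g⁻¹) * g⁻¹⁻¹ = b := by group
      rwa [h2] at h1
  -- transport along `N_T(A)`
  have hall : ∀ Q' : Subgroup G, (∀ t ∈ T, MulAut.conj t • Q' = Q') →
      ∀ b ∈ A, b ∉ Z₀ → ¬ TrivCent Q' b → ∀ x ∈ A, x ∉ Z₀ → ¬ TrivCent Q' x := by
    intro Q' hQ' b hb hbZ hnb x hx hxZ hxt
    obtain ⟨t, htT, -, hz⟩ := htrans x b hx hxZ hb hbZ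
    exact hnb ((TrivCent.congr hz).2 (hxt.conj (hQ' t htT)))
  obtain ⟨b₁, hb₁A, hb₁1, hb₁⟩ := e.exists_not_trivCent hqσ hmem₁ hQ1
  obtain ⟨b₂, hb₂A, hb₂1, hb₂⟩ := e.exists_not_trivCent hqσ hmem₂ (conj_smul_ne_bot hQ1)
  have hb₁Z : b₁ ∉ Z₀ := fun h => hb₁ (hZ₀ b₁ h hb₁1).1
  have hb₂Z : b₂ ∉ Z₀ := fun h => hb₂ (hZ₀ b₂ h hb₂1).2
  have hb₁1' : b₁ ≠ 1 := hb₁1
  rcases hdich b₁ hb₁A hb₁1 with h | h
  · exact hb₁ h
  · exact hall _ hTgQ b₂ hb₂A hb₂Z hb₂ b₁ hb₁A hb₁Z h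

end Cfsg.Agent.Lead.BG12
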