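import Mathlib
import Cfsg.Prelude
import Cfsg.Agent.Lead.BG11e

set_option autoImplicit false
set_option linter.unusedSectionVars false
set_option linter.unusedVariables false

/-!
Bender–Glauberman Theorem 11.6, parts (a), (b), (c), and the two fixed-point-free points of `A`.
-/

namespace Cfsg.Agent.Lead.BG12

open Cfsg Cfsg.Agent.Helper1 Cfsg.Agent.Helper2 Cfsg.Agent.Helper1.BGT Cfsg.Agent.Helper1.BGU
  Cfsg.Agent.Helper1.BGV Cfsg.Agent.Helper1.BGW Cfsg.Agent.Helper1.BGX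
open scoped commutatorElement Pointwise

universe u

variable {G : Type u} [Group G] [Finite G]
variable {M : Subgroup G} {p : ℕ} [hp : Fact p.Prime] {A₀ A : Subgroup G}

/-- Theorem 11.6(a): `A = Ω₁(T)` for a Sylow `p`-subgroup `T ⊇ A` of `M`. -/
theorem Exc.mem_of_mem_sylow_of_pow_eq_one (e : Exc M p A₀ A) {T : Subgroup G} (hAT : A ≤ T)
    (hTM : T ≤ M) (hTp : IsPGroup p ↥T)
    (hTcard : Nat.card T = p ^ (Nat.card M).factorization p) {x : G} (hx : x ∈ T)
    (hxp : x ^ p = 1) : x ∈ A := by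
  have hab := e.sylow_isMulCommutative hAT hTM hTp hTcard
  apply (e.omega x ?_).1 hxp
  refine Subgroup.mem_centralizer_iff.2 ?_
  intro a ha
  have h1 := hab.is_comm.comm ⟨a, hAT ha⟩ ⟨x, hx⟩
  exact congrArg Subtype.val h1

/-- `N(T) ≤ N(A)`. -/
theorem Exc.normalizer_sylow_le (e : Exc M p A₀ A) {T : Subgroup G} (hAT : A ≤ T)
    (hTM : T ≤ M) (hTp : IsPGroup p ↥T)
    (hTcard : Nat.card T = p ^ (Nat.card M).factorization p) :
    Subgroup.normalizer (T : Set G) ≤ Subgroup.normalizer (A : Set G) := by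
  intro n hn
  apply Subgroup.mem_normalizer_fintype
  intro a ha
  apply e.mem_of_mem_sylow_of_pow_eq_one hAT hTM hTp hTcard
  · exact (Subgroup.mem_normalizer_iff.1 hn a).1 (hAT ha)
  · rw [conj_pow, e.elem.2 a ha, mul_one, mul_inv_cancel]

/-- There is an element of `N(A)` outside `M`. -/
theorem Exc.exists_normalizer_not_mem (e : Exc M p A₀ A) :
    ∃ n ∈ Subgroup.normalizer (A : Set G), n ∉ M := by
  obtain ⟨T, hAT, hTM, hTp, hTcard, g, hgT, hgM⟩ := e.exists_sylow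
  exact ⟨g, e.normalizer_sylow_le hAT hTM hTp hTcard hgT, hgM⟩

/-- The point `A₀ ^ n`, `n ∈ N(A) ∖ M`, acts without fixed points on `M_σ`. -/
theorem Exc.fpf_of_normalizer (e : Exc M p A₀ A) {n : G}
    (hn : n ∈ Subgroup.normalizer (A : Set G)) (hnM : n ∉ M) :
    A ≤ MulAut.conj n • M ∧ MulAut.conj n • A₀ ≤ A ∧
      Cfsg.sigmaCore M ⊓ MulAut.conj n • M = ⊥ ∧
      Cfsg.sigmaCore M ⊓
        Subgroup.centralizer ((MulAut.conj n • A₀ : Subgroup G) : Set G) = ⊥ := by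
  have hAn : MulAut.conj n • A = A := conj_smul_eq_of_mem_normalizer' hn
  have hAg : A ≤ MulAut.conj n • M := by
    calc A = MulAut.conj n • A := hAn.symm
      _ ≤ MulAut.conj n • M := conj_smul_mono e.leM
  refine ⟨hAg, ?_, e.cor112a hnM hAg, e.cor112b hnM hAg⟩
  calc MulAut.conj n • A₀ ≤ MulAut.conj n • A := conj_smul_mono e.le₀
    _ = A := hAn

/-- In a group of odd order, `n ^ 2 ∈ M` forces `n ∈ M`. -/
theorem mem_of_sq_mem_of_odd (hodd : Odd (Nat.card G)) {M : Subgroup G} {n : G}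
    (h : n ^ 2 ∈ M) : n ∈ M := by
  obtain ⟨k, hk⟩ := hodd
  have h1 : n ^ (2 * k + 1) = 1 := by rw [← hk]; exact pow_card_eq_one'
  have h2 : n = ((n ^ 2) ^ k)⁻¹ := by
    rw [eq_inv_iff_mul_eq_one, ← pow_mul, ← pow_succ']
    exact h1
  rw [h2]
  exact M.inv_mem (M.pow_mem h k)

theorem Exc.sq_not_mem (e : Exc M p A₀ A) {n : G} (hnM : n ∉ M) : n ^ 2 ∉ M :=
  fun h => hnM (mem_of_sq_mem_of_odd e.min.1 h)

/-- The two points `A₀ ^ n` and `A₀ ^ (n ^ 2)` are distinct. -/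
theorem Exc.conj_ne_conj_sq (e : Exc M p A₀ A) {n : G} (hnM : n ∉ M) :
    MulAut.conj n • A₀ ≠ MulAut.conj (n ^ 2) • A₀ := by
  intro h
  apply hnM
  apply e.norm
  apply mem_normalizer_of_conj_smul_eq
  have h1 : MulAut.conj n⁻¹ • (MulAut.conj n • A₀) =
      MulAut.conj n⁻¹ • (MulAut.conj (n ^ 2) • A₀) := by rw [h]
  rw [conj_smul_inv_smul, conj_smul_smul] at h1
  have h2 : n⁻¹ * n ^ 2 = n := by group
  rw [h2] at h1
  exact h1.symm

/-- Theorem 11.6(c): some point of `A` acts without fixed points on `M_σ`. -/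
theorem Exc.exists_fpf_point (e : Exc M p A₀ A) :
    ∃ A₁ : Subgroup G, A₁ ≤ A ∧ Nat.card A₁ = p ∧
      Cfsg.sigmaCore M ⊓ Subgroup.centralizer (A₁ : Set G) = ⊥ := by
  obtain ⟨n, hn, hnM⟩ := e.exists_normalizer_not_mem
  obtain ⟨-, h1, -, h2⟩ := e.fpf_of_normalizer hn hnM
  exact ⟨MulAut.conj n • A₀, h1, by rw [card_conj_smul]; exact e.card₀, h2⟩

/-- Theorem 11.6(b): `C_{M_σ}(A) = 1`. -/
theorem Exc.sigmaCore_inf_centralizer_eq_bot (e : Exc M p A₀ A) :
    Cfsg.sigmaCore M ⊓ Subgroup.centralizer (A : Set G) = ⊥ := by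
  obtain ⟨A₁, hA₁, -, h⟩ := e.exists_fpf_point
  rw [eq_bot_iff, ← h]
  exact inf_le_inf_left _ (Subgroup.centralizer_le hA₁)

/-- `C_G(A)` is a `σ(M)'`-group. -/
theorem Exc.not_dvd_card_centralizer (e : Exc M p A₀ A) {s : ℕ} (hs : s ∈ Cfsg.sigma M) :
    ¬ s ∣ Nat.card (Subgroup.centralizer (A : Set G)) := by
  intro hd
  have hG := e.min
  have hM := e.coatom
  have := Fact.mk hs.1
  have hyp := e.hyp hs
  obtain ⟨n, hn, hnM⟩ := e.exists_normalizer_not_mem
  obtain ⟨Q, c⟩ := exists_sigCtx hG hM hs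
  have hnil := e.sigmaCore_isNilpotent
  have hNQ : Subgroup.normalizer (Q : Set G) = M :=
    Cfsg.Agent.Helper4.BG11.normalizer_eq_of_isNilpotent_sigmaCore c hnil
  have hAQ : A ≤ Subgroup.normalizer (Q : Set G) := by rw [hNQ]; exact e.leM
  have hmem : Q ∈ Cfsg.maxInvSubgroups ⊤ A {s} :=
    mem_maxInvSubgroups_of_sylow c.pgroup c.cardG hAQ
  have hmem' := conj_smul_mem_maxInvSubgroups_top_of_normalizer hn hmem
  have hZ : ¬ Cfsg.RankLE 1 ↥(A ⊓ Subgroup.centralizer (A : Set G)) := by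
    intro hr
    have h1 : A ⊓ Subgroup.centralizer (A : Set G) = A := inf_eq_left.2 e.le_centralizer
    rw [h1] at hr
    have hc : IsMulCommutative ↥(⊤ : Subgroup ↥A) := by
      refine ⟨⟨fun a b => ?_⟩⟩
      apply Subtype.ext
      exact e.elem.1.is_comm.comm a.1 b.1
    have h2 := hr p hp.out ⊤ hc (by
      intro a _
      apply Subtype.ext
      have := e.elem.2 (a : G) a.2
      simpa using this)
    rw [Subgroup.card_top, e.card, pow_one] at h2
    have := hp.out.one_lt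
    nlinarith
  obtain ⟨k, hk, hkQ⟩ := hyp.thm74 hZ hd hmem hmem'
  have hkM : k ∈ M := e.centralizer_le (KK_le_centralizer A hk)
  apply hnM
  have h1 : MulAut.conj (k⁻¹ * n) • Q = Q := by
    rw [← conj_smul_smul, hkQ, conj_smul_smul, inv_mul_cancel, map_one, one_smul]
  have h2 : k⁻¹ * n ∈ M := hNQ ▸ mem_normalizer_of_conj_smul_eq h1
  have h3 : n = k * (k⁻¹ * n) := by group
  rw [h3]
  exact M.mul_mem hkM h2

end Cfsg.Agent.Lead.BG12
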