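import Mathlib
import Cfsg.Prelude
import Cfsg.Agent.Lead.BG11f
import Cfsg.Agent.Helper3.CoprimeHall
import Cfsg.Agent.Helper3.FrobG2

set_option autoImplicit false
set_option linter.unusedSectionVars false
set_option linter.unusedVariables false

/-!
Bender–Glauberman Lemma 11.4 (preparations): complements of `H_σ` containing a given
`σ(H)'`-subgroup, invariant `q`-subgroups of `H`, and the two fixed-point-free points on the Sylow
subgroups of `H_σ`.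
-/

namespace Cfsg.Agent.Lead.BG12

open Cfsg Cfsg.Agent.Helper1 Cfsg.Agent.Helper2 Cfsg.Agent.Helper1.BGT Cfsg.Agent.Helper1.BGU
  Cfsg.Agent.Helper1.BGV Cfsg.Agent.Helper1.BGW Cfsg.Agent.Helper1.BGX
open scoped commutatorElement Pointwise

universe u

variable {G : Type u} [Group G] [Finite G]

/-- every `q`-subgroup of `M` lies in a normal Sylow `q`-subgroup of `M` -/
theorem le_of_isPGroup_of_normalizer_eq {M Q : Subgroup G} {q : ℕ} [hq : Fact q.Prime]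
    (c : SigCtx M q Q) (hNQ : Subgroup.normalizer (Q : Set G) = M) {S : Subgroup G}
    (hSM : S ≤ M) (hS : IsPGroup q ↥S) : S ≤ Q := by
  obtain ⟨m, hm, hmS⟩ := Cfsg.Agent.Lead.exists_conj_le_of_card_eq_ppart c.le c.cardM hSM hS
  intro x hx
  have h1 : m * x * m⁻¹ ∈ Q := hmS ⟨x, hx, rfl⟩
  have hmN : m ∈ Subgroup.normalizer (Q : Set G) := hNQ ▸ hm
  exact (Subgroup.mem_normalizer_iff.1 hmN x).2 h1

/-- every `σ(H)'`-subgroup of `H` lies in a complement of `H_σ` -/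
theorem exists_compl_sigmaCore_ge (hG : Cfsg.IsMinSimpleOddOrder G) {H : Subgroup G}
    (hH : IsCoatom H) {K : Subgroup G} (hKH : K ≤ H)
    (hK : ∀ r : ℕ, r.Prime → r ∣ Nat.card K → r ∉ Cfsg.sigma H) :
    ∃ E : Subgroup G, Cfsg.IsComplIn E (Cfsg.sigmaCore H) H ∧ K ≤ E := by
  have hsolv : Group.IsSolvable ↥H := hG.2.2.2 H hH.1
  obtain ⟨m, n, hd⟩ :=
    Cfsg.Agent.Helper3.exists_piDecomp (Cfsg.sigma H) (Nat.card H) Nat.card_pos.ne'
  have hd' : Cfsg.Agent.Helper3.PiDecomp (Cfsg.sigma H)ᶜ (Nat.card H) n m :=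
    ⟨by rw [hd.eq, mul_comm], fun r hr hrd => hd.right r hr hrd,
      fun r hr hrd h => h (hd.left r hr hrd)⟩
  have hσcard : Nat.card (Cfsg.sigmaCore H) = m :=
    ((Cfsg.Agent.Helper3.isPiHallOf_iff_card hd).1 (sigmaCore_hall hG H hH).1).2
  have hKcop : (Nat.card K).Coprime m := by
    apply Nat.coprime_of_dvd
    intro r hr hrK hrm
    exact hK r hr hrK (hd.left r hr hrm)
  obtain ⟨E, hEH, hEcard, hKE⟩ := (Cfsg.Agent.Helper3.hall_internal H hsolv hd').2 K hKH hKcop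
  have hcop : (Nat.card E).Coprime (Nat.card (Cfsg.sigmaCore H)) := by
    rw [hEcard, hσcard]; exact hd'.coprime
  have hdisj : E ⊓ Cfsg.sigmaCore H = ⊥ :=
    disjoint_iff.1 (Subgroup.disjoint_of_coprime_natCard hcop)
  have hEN : E ≤ Subgroup.normalizer ((Cfsg.sigmaCore H : Subgroup G) : Set G) :=
    hEH.trans (le_normalizer_sigmaCore H)
  have hsup : Cfsg.sigmaCore H ⊔ E = H := by
    apply Subgroup.eq_of_le_of_card_ge (sup_le sigmaCore_le hEH)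
    rw [card_sup_of_le_normalizer hEN hdisj, hEcard, hσcard, ← hd'.eq]
  refine ⟨E, ⟨hEH, sigmaCore_le, hdisj, ?_⟩, hKE⟩
  intro h hh
  have h1 : h⁻¹ ∈ Cfsg.sigmaCore H ⊔ E := by rw [hsup]; exact H.inv_mem hh
  obtain ⟨x, hx, a, ha, hxa⟩ := mem_sup_of_le_normalizer hEN h1
  refine ⟨a⁻¹, E.inv_mem ha, x⁻¹, Subgroup.inv_mem _ hx, ?_⟩
  rw [← mul_inv_rev, ← hxa, inv_inv]

variable {M : Subgroup G} {p : ℕ} [hp : Fact p.Prime] {A₀ A : Subgroup G}

/-- Step (1): a nontrivial `A`-invariant `q`-subgroup of a proper subgroup `H ⊇ A` meeting the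
normal Sylow `q`-subgroup `Q₁` of `M_σ` lies in `Q₁`. -/
theorem Exc.le_of_invariant (e : Exc M p A₀ A) {q : ℕ} [hq : Fact q.Prime]
    (hqσ : q ∈ Cfsg.sigma M) {Q₁ : Subgroup G} (c : SigCtx M q Q₁)
    (hNQ : Subgroup.normalizer (Q₁ : Set G) = M) {H : Subgroup G} (hHtop : H ≠ ⊤)
    (hAH : A ≤ H) (hHQ : H ⊓ Q₁ ≠ ⊥) {Y' : Subgroup G} (hY'H : Y' ≤ H)
    (hY'q : IsPGroup q ↥Y') (hAY' : A ≤ Subgroup.normalizer (Y' : Set G)) (hY'1 : Y' ≠ ⊥) :
    Y' ≤ Q₁ := by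
  have hyp := e.hyp hqσ
  have hAQ₁ : A ≤ Subgroup.normalizer (Q₁ : Set G) := by rw [hNQ]; exact e.leM
  have h₁ : Q₁ ∈ Cfsg.maxInvSubgroups ⊤ A {q} :=
    mem_maxInvSubgroups_of_sylow c.pgroup c.cardG hAQ₁
  obtain ⟨Q', hQ', hY'Q'⟩ := exists_max_ge ((mem_invSubgroups_top hq.out).mpr ⟨hY'q, hAY'⟩)
  have hHQ' : H ⊓ Q' ≠ ⊥ := by
    intro hb
    apply hY'1
    rw [eq_bot_iff, ← hb]
    exact le_inf hY'H hY'Q'
  obtain ⟨k, hk, hkQ⟩ := hyp.thm72 h₁ hQ' hHtop hAH hHQ hHQ'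
  have hkM : k ∈ M := e.centralizer_le (KK_le_centralizer A hk)
  have hQQ : Q' = Q₁ := by
    rw [hkQ]
    exact conj_smul_eq_of_mem_normalizer' (hNQ ▸ hkM)
  rw [← hQQ]
  exact hY'Q'

omit [Finite G] hp in
/-- `C(A₀ ^ g) ≤ M ^ g` -/
theorem Exc.centralizer_conj_le (e : Exc M p A₀ A) (g : G) :
    Subgroup.centralizer ((MulAut.conj g • A₀ : Subgroup G) : Set G) ≤ MulAut.conj g • M := by
  have h1 := conj_smul_mono (k := g) e.norm
  rw [← normalizer_conj_smul'] at h1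
  exact (Subgroup.centralizer_le_normalizer _).trans h1

/-- Step (3): on a maximal `A`-invariant `s`-subgroup `R` (`s ≠ p`) with `N(R) ≤ H`, where `H ⊇ A`
is a proper subgroup meeting `M_σ`, one of the two points `A₀ ^ n`, `A₀ ^ (n ^ 2)` acts without
fixed points. -/
theorem Exc.trivial_centralizer_of_sylow (e : Exc M p A₀ A) {H : Subgroup G} (hHtop : H ≠ ⊤)
    (hAH : A ≤ H) (hX : H ⊓ Cfsg.sigmaCore M ≠ ⊥) {n : G}
    (hn : n ∈ Subgroup.normalizer (A : Set G)) (hnM : n ∉ M) {s : ℕ} [hs : Fact s.Prime]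
    (hsp : s ≠ p) {R : Subgroup G} (hR : R ∈ Cfsg.maxInvSubgroups ⊤ A {s})
    (hNR : Subgroup.normalizer (R : Set G) ≤ H) :
    R ⊓ Subgroup.centralizer ((MulAut.conj n • A₀ : Subgroup G) : Set G) = ⊥ ∨
      R ⊓ Subgroup.centralizer ((MulAut.conj (n ^ 2) • A₀ : Subgroup G) : Set G) = ⊥ := by
  by_contra hcon
  push Not at hcon
  obtain ⟨hc1, hc2⟩ := hcon
  have hyp : Hyp A s := by
    apply Hyp.of e.min e.transHyp hs.out
    rw [e.card]
    intro hd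
    exact hsp ((Nat.prime_dvd_prime_iff_eq hs.out hp.out).mp (hs.out.dvd_of_dvd_pow hd))
  set L := MulAut.conj n • M with hL
  have hLtop : L ≠ ⊤ := by
    intro h
    apply e.coatom.1
    rw [eq_top_iff]
    intro x _
    have h1 : n * x * n⁻¹ ∈ L := by rw [h]; exact Subgroup.mem_top _
    rw [hL, mem_conj_smul] at h1
    have h2 : n⁻¹ * (n * x * n⁻¹) * n = x := by group
    rwa [h2] at h1
  have hAL : A ≤ L := (e.fpf_of_normalizer hn hnM).1
  have h₁ : L ⊓ R ≠ ⊥ := by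
    intro hb
    apply hc1
    rw [eq_bot_iff, ← hb]
    exact le_inf (inf_le_right.trans (e.centralizer_conj_le n)) inf_le_left
  -- the conjugate of `R`
  have hn' : n⁻¹ ∈ Subgroup.normalizer (A : Set G) := Subgroup.inv_mem _ hn
  have hR' := conj_smul_mem_maxInvSubgroups_top_of_normalizer hn' hR
  have h₂ : L ⊓ MulAut.conj n⁻¹ • R ≠ ⊥ := by
    obtain ⟨y', hy'⟩ := (Subgroup.ne_bot_iff_exists_ne_one).mp hc2
    obtain ⟨y, hy, hy1⟩ : ∃ y : G, y ∈ R ⊓ Subgroup.centralizer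
        ((MulAut.conj (n ^ 2) • A₀ : Subgroup G) : Set G) ∧ y ≠ 1 :=
      ⟨(y' : G), y'.2, fun h => hy' (Subtype.ext h)⟩
    have hyM : y ∈ MulAut.conj (n ^ 2) • M := e.centralizer_conj_le (n ^ 2) hy.2
    rw [mem_conj_smul] at hyM
    intro hb
    have hmem : n⁻¹ * y * n ∈ L ⊓ MulAut.conj n⁻¹ • R := by
      refine Subgroup.mem_inf.2 ⟨?_, ?_⟩
      · rw [hL, mem_conj_smul]
        have h3 : n⁻¹ * (n⁻¹ * y * n) * n = (n ^ 2)⁻¹ * y * n ^ 2 := by
          rw [pow_two, mul_inv_rev]; group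
        rw [h3]; exact hyM
      · have := conj_mem_conj_smul (g := n⁻¹) hy.1
        rwa [inv_inv] at this
    rw [hb, Subgroup.mem_bot] at hmem
    apply hy1
    calc y = n * (n⁻¹ * y * n) * n⁻¹ := by group
      _ = 1 := by rw [hmem]; group
  obtain ⟨k, hk, hkR⟩ := hyp.thm72 hR hR' hLtop hAL h₁ h₂
  have hkC : k ∈ Subgroup.centralizer (A : Set G) := KK_le_centralizer A hk
  have hkM : k ∈ M := e.centralizer_le hkC
  -- `h = k⁻¹ n⁻¹` normalizes `R` and `A`, and lies outside `M`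
  have hhR : MulAut.conj (k⁻¹ * n⁻¹) • R = R := by
    rw [← conj_smul_smul, hkR, conj_smul_smul, inv_mul_cancel, map_one, one_smul]
  have hhH : k⁻¹ * n⁻¹ ∈ H := hNR (mem_normalizer_of_conj_smul_eq hhR)
  have hhM : k⁻¹ * n⁻¹ ∉ M := by
    intro h
    apply hnM
    have h1 : n = (k * (k⁻¹ * n⁻¹))⁻¹ := by group
    rw [h1]
    exact M.inv_mem (M.mul_mem hkM h)
  have hhA : k⁻¹ * n⁻¹ ∈ Subgroup.normalizer (A : Set G) :=
    Subgroup.mul_mem _ (Subgroup.inv_mem _ (Subgroup.centralizer_le_normalizer _ hkC)) hn'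
  have hAh : A ≤ MulAut.conj (k⁻¹ * n⁻¹) • M := by
    calc A = MulAut.conj (k⁻¹ * n⁻¹) • A := (conj_smul_eq_of_mem_normalizer' hhA).symm
      _ ≤ MulAut.conj (k⁻¹ * n⁻¹) • M := conj_smul_mono e.leM
  exact hX (e.inf_sigmaCore_eq_bot hHtop hAH hhH hhM hAh)

end Cfsg.Agent.Lead.BG12
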