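import Mathlib
import Cfsg.Prelude
import Cfsg.Agent.Lead.BG114a
import Cfsg.Agent.Lead.BG12b
import Cfsg.Agent.Helper1.HallNilp

set_option autoImplicit false
set_option linter.unusedSectionVars false
set_option linter.unusedVariables false
set_option maxHeartbeats 800000

/-!
**Bender–Glauberman Lemma 11.4**: in the exceptional situation, every maximal subgroup `H ≠ M`
containing `A` meets `M_σ` trivially.
-/

namespace Cfsg.Agent.Lead.BG12

open Cfsg Cfsg.Agent.Helper1 Cfsg.Agent.Helper2 Cfsg.Agent.Helper1.BGT Cfsg.Agent.Helper1.BGU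
  Cfsg.Agent.Helper1.BGV Cfsg.Agent.Helper1.BGW Cfsg.Agent.Helper1.BGX
open scoped commutatorElement Pointwise

universe u

variable {G : Type u} [Group G] [Finite G]

/-- prime divisors of the order of `Y A` for a `q`-group `Y` normalized by a `p`-group `A` -/
theorem prime_dvd_card_sup_of_isPGroup {Y A : Subgroup G} {q p : ℕ} [hq : Fact q.Prime]
    [hp : Fact p.Prime] (hqp : q ≠ p) (hY : IsPGroup q ↥Y) (hA : IsPGroup p ↥A)
    (hAY : A ≤ Subgroup.normalizer (Y : Set G)) {r : ℕ} (hr : r.Prime)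
    (hrd : r ∣ Nat.card ↥(Y ⊔ A)) : r = q ∨ r = p := by
  have hdisj : A ⊓ Y = ⊥ :=
    disjoint_iff.1 (IsPGroup.disjoint_of_ne p q (Ne.symm hqp) A Y hA hY)
  rw [card_sup_of_le_normalizer hAY hdisj] at hrd
  obtain ⟨a, ha⟩ := IsPGroup.iff_card.1 hA
  obtain ⟨b, hb⟩ := IsPGroup.iff_card.1 hY
  rw [ha, hb] at hrd
  rcases (Nat.Prime.dvd_mul hr).1 hrd with h | h
  · exact Or.inr ((Nat.prime_dvd_prime_iff_eq hr hp.out).1 (hr.dvd_of_dvd_pow h))
  · exact Or.inl ((Nat.prime_dvd_prime_iff_eq hr hq.out).1 (hr.dvd_of_dvd_pow h))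

variable {M : Subgroup G} {p : ℕ} [hp : Fact p.Prime] {A₀ A : Subgroup G}

/-- **Bender–Glauberman Lemma 11.4.** -/
theorem Exc.sigmaCore_inf_eq_bot (e : Exc M p A₀ A) {H : Subgroup G} (hH : IsCoatom H)
    (hAH : A ≤ H) (hHM : H ≠ M) : Cfsg.sigmaCore M ⊓ H = ⊥ := by
  have hG := e.min
  have hM := e.coatom
  by_cases hconj : ∃ x : G, H = MulAut.conj x • M
  · obtain ⟨x, rfl⟩ := hconj
    have hx : x ∉ M := fun h => hHM (conj_smul_eq_self_of_mem h)
    exact e.cor112a hx hAH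
  push Not at hconj
  by_cases hpσ : p ∈ Cfsg.sigma H
  · exact Cfsg.Agent.Helper4.BG11.Exc.sigmaCore_inf_eq_bot_of_mem_sigma e hH hAH hconj hpσ
  by_contra hX
  have hX' : H ⊓ Cfsg.sigmaCore M ≠ ⊥ := by rwa [inf_comm]
  have hnil := e.sigmaCore_isNilpotent
  have hdisj : ∀ r : ℕ, r ∈ Cfsg.sigma M → r ∉ Cfsg.sigma H := fun r hr =>
    Cfsg.Agent.Helper4.BG11.not_mem_sigma_of_isNilpotent_sigmaCore hG hM hH hnil hconj hr
  -- the prime `q`
  have hcard : Nat.card ↥(Cfsg.sigmaCore M ⊓ H) ≠ 1 := fun h => hX (Subgroup.card_eq_one.mp h)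
  obtain ⟨q, hq, hqd⟩ := Nat.exists_prime_and_dvd hcard
  have := Fact.mk hq
  have hqσ : q ∈ Cfsg.sigma M :=
    mem_sigma_of_dvd_card_sigmaCore hq (hqd.trans (Subgroup.card_dvd_of_le inf_le_left))
  have hqH : q ∉ Cfsg.sigma H := hdisj q hqσ
  have hqp : q ≠ p := e.ne_of_mem_sigma hqσ
  obtain ⟨Q₁, c⟩ := exists_sigCtx hG hM hqσ
  have hNQ : Subgroup.normalizer (Q₁ : Set G) = M :=
    Cfsg.Agent.Helper4.BG11.normalizer_eq_of_isNilpotent_sigmaCore c hnil
  have hAQ₁ : A ≤ Subgroup.normalizer (Q₁ : Set G) := by rw [hNQ]; exact e.leM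
  -- the subgroup `Y`
  set Y := Q₁ ⊓ H with hY
  have hYQ : Y ≤ Q₁ := inf_le_left
  have hYH : Y ≤ H := inf_le_right
  have hYq : IsPGroup q ↥Y := c.pgroup.to_le hYQ
  have hYσ : Y ≤ Cfsg.sigmaCore M := hYQ.trans c.le_sigmaCore
  have hAY : A ≤ Subgroup.normalizer (Y : Set G) :=
    le_normalizer_inf hAQ₁ (hAH.trans Subgroup.le_normalizer)
  have hY1 : Y ≠ ⊥ := by
    obtain ⟨x, hx⟩ := exists_prime_orderOf_dvd_card' q hqd
    have hxo : orderOf (x : G) = q := by rw [Subgroup.orderOf_coe]; exact hx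
    have hxX : (x : G) ∈ Cfsg.sigmaCore M ⊓ H := x.2
    have hzq : IsPGroup q (Subgroup.zpowers (x : G)) := by
      rw [IsPGroup.iff_card]
      exact ⟨1, by rw [Nat.card_zpowers, hxo, pow_one]⟩
    have hzM : Subgroup.zpowers (x : G) ≤ M :=
      (Subgroup.zpowers_le.2 hxX.1).trans sigmaCore_le
    have hxQ : (x : G) ∈ Q₁ :=
      le_of_isPGroup_of_normalizer_eq c hNQ hzM hzq (Subgroup.mem_zpowers _)
    intro hb
    have hxY : (x : G) ∈ Y := ⟨hxQ, hxX.2⟩
    rw [hb, Subgroup.mem_bot] at hxY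
    rw [hxY, orderOf_one] at hxo
    exact hq.one_lt.ne hxo
  have hHQ : H ⊓ Q₁ ≠ ⊥ := by rw [inf_comm]; exact hY1
  -- the two fixed-point-free points
  obtain ⟨n, hn, hnM⟩ := e.exists_normalizer_not_mem
  have hn2 : n ^ 2 ∈ Subgroup.normalizer (A : Set G) := Subgroup.pow_mem _ hn 2
  have hn2M : n ^ 2 ∉ M := e.sq_not_mem hnM
  obtain ⟨-, hB₁A, -, hfpf₁⟩ := e.fpf_of_normalizer hn hnM
  obtain ⟨-, hB₂A, -, hfpf₂⟩ := e.fpf_of_normalizer hn2 hn2M
  have hcardB : ∀ g : G, Nat.card ↥(MulAut.conj g • A₀) = p := fun g => by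
    rw [card_conj_smul]; exact e.card₀
  have hYfpf : ∀ B : Subgroup G, Cfsg.sigmaCore M ⊓ Subgroup.centralizer (B : Set G) = ⊥ →
      Y ⊓ Subgroup.centralizer (B : Set G) = ⊥ := by
    intro B hB
    rw [eq_bot_iff, ← hB]
    exact inf_le_inf_right _ hYσ
  -- a complement `E` of `H_σ` containing `Y A`
  have hKH : Y ⊔ A ≤ H := sup_le hYH hAH
  have hKprimes : ∀ r : ℕ, r.Prime → r ∣ Nat.card ↥(Y ⊔ A) → r ∉ Cfsg.sigma H := by
    intro r hr hrd
    rcases prime_dvd_card_sup_of_isPGroup hqp hYq e.isPGroup hAY hr hrd with h | h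
    · rw [h]; exact hqH
    · rw [h]; exact hpσ
  obtain ⟨E, hE, hKE⟩ := exists_compl_sigmaCore_ge hG hH hKH hKprimes
  have hYE : Y ≤ E := le_sup_left.trans hKE
  have hAE : A ≤ E := le_sup_right.trans hKE
  have hEH : E ≤ H := hE.1
  have hEnil : Group.IsNilpotent ↥⁅E, E⁆ := commutator_compl_isNilpotent hG hH hE
  -- `Y = [Y, B₁] ≤ E'`
  have hBsolv : ∀ B : Subgroup G, B ≤ A → Group.IsSolvable ↥B := by
    intro B hB
    exact hG.2.2.2 B (fun h => sylow_ne_top hG p B (e.isPGroup.to_le hB) h)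
  have hYB : ⁅Y, MulAut.conj n • A₀⁆ = Y := by
    have hBY : MulAut.conj n • A₀ ≤ Subgroup.normalizer (Y : Set G) := hB₁A.trans hAY
    have hcop : (Nat.card ↥(MulAut.conj n • A₀)).Coprime (Nat.card Y) :=
      e.coprime_card hYσ _ (e.isPGroup.to_le hB₁A)
    have h1 := coprime_commutator_sup_centralizer (MulAut.conj n • A₀) Y hBY hcop
      (Or.inl (hBsolv _ hB₁A))
    rw [hYfpf _ hfpf₁, sup_bot_eq] at h1
    exact h1
  have hYE' : Y ≤ ⁅E, E⁆ := by
    rw [← hYB]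
    exact Subgroup.commutator_mono hYE (hB₁A.trans hAE)
  -- the Sylow `q`-subgroup of `E'`
  obtain ⟨Oq, hYO, hOD, hOq, hOcard⟩ := Cfsg.Agent.Lead.exists_le_card_eq_ppart hYq hYE'
  have hrel : Oq.relIndex ⁅E, E⁆ =
      Nat.card ↥⁅E, E⁆ / q ^ (Nat.card ↥⁅E, E⁆).factorization q := by
    have h := relIndex_mul_card_of_le hOD
    rw [hOcard] at h
    exact (Nat.div_eq_of_eq_mul_left (pow_pos hq.pos _) h.symm).symm
  have hcopO : (Nat.card Oq).Coprime (Oq.relIndex ⁅E, E⁆) := by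
    rw [hOcard, hrel]
    exact Nat.Coprime.pow_left _ (Nat.coprime_ordCompl hq Nat.card_pos.ne')
  have hDO : ⁅E, E⁆ ≤ Subgroup.normalizer (Oq : Set G) :=
    le_normalizer_of_hall_nilpotent hEnil hOD hcopO
  have hEO : E ≤ Subgroup.normalizer (Oq : Set G) := by
    intro x hx
    apply Cfsg.Agent.Helper3.IrrCyclic.mem_normalizer_of_conj_le
    intro b hb
    have h1 : MulAut.conj x • Oq ≤ ⁅E, E⁆ := by
      have h2 := conj_smul_mono (k := x) hOD
      rwa [conj_smul_eq_of_mem_normalizer' (le_normalizer_commutator_self E hx)] at h2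
    have h3 : MulAut.conj x • Oq ≤ Oq :=
      le_of_normal_hall_rel hOD hDO h1 hcopO (by rw [card_conj_smul])
    exact h3 (conj_mem_conj_smul hb)
  have hOH : Oq ≤ H := (hOD.trans (Subgroup.commutator_le_self E)).trans hEH
  have hO1 : Oq ≠ ⊥ := fun h => hY1 (le_bot_iff.1 (h ▸ hYO))
  have hOQ : Oq ≤ Q₁ :=
    e.le_of_invariant hqσ c hNQ hH.1 hAH hHQ hOH hOq (hAE.trans hEO) hO1
  have hYeq : Oq = Y := le_antisymm (le_inf hOQ hOH) hYO
  have hEY : E ≤ Subgroup.normalizer (Y : Set G) := hYeq ▸ hEO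
  -- `Y` centralizes `H_σ`
  have hKσ : Y ⊔ A ≤ Subgroup.normalizer ((Cfsg.sigmaCore H : Subgroup G) : Set G) :=
    hKH.trans (le_normalizer_sigmaCore H)
  have hKcop : (Nat.card ↥(Y ⊔ A)).Coprime (Nat.card (Cfsg.sigmaCore H)) := by
    apply Nat.coprime_of_dvd
    intro r hr hrK hrσ
    exact hKprimes r hr hrK (mem_sigma_of_dvd_card_sigmaCore hr hrσ)
  have hKsolv : Group.IsSolvable ↥(Y ⊔ A) :=
    hG.2.2.2 _ (fun h => hH.1 (top_le_iff.1 (h ▸ hKH)))
  have hcent : Cfsg.sigmaCore H ≤ Subgroup.centralizer (Y : Set G) := by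
    rw [← Subgroup.subgroupOf_eq_top]
    apply Cfsg.Agent.Helper1.Rank2Fitting.eq_top_of_forall_sylow_le
    intro s hs
    obtain ⟨P, hKP⟩ := exists_invariant_sylow (p := s) (Y ⊔ A) (Cfsg.sigmaCore H) hKσ hKcop
      (Or.inl hKsolv)
    refine ⟨P, ?_⟩
    set R := (P : Subgroup ↥(Cfsg.sigmaCore H)).map (Cfsg.sigmaCore H).subtype with hR
    suffices hRY : R ≤ Subgroup.centralizer (Y : Set G) by
      intro x hx
      rw [Subgroup.mem_subgroupOf]
      exact hRY ⟨x, hx, rfl⟩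
    have hRp : IsPGroup s ↥R := P.2.map _
    have hRσ : R ≤ Cfsg.sigmaCore H := Subgroup.map_subtype_le _
    have hRcard : Nat.card R = s ^ (Nat.card (Cfsg.sigmaCore H)).factorization s := by
      rw [hR, Subgroup.card_map_of_injective (Subgroup.subtype_injective _)]
      exact P.card_eq_multiplicity
    by_cases hsσ : s ∈ Cfsg.sigma H
    · have hsp : s ≠ p := fun h => hpσ (h ▸ hsσ)
      have hsq : s ≠ q := fun h => hqH (h ▸ hsσ)
      have hfG : (Nat.card (Cfsg.sigmaCore H)).factorization s =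
          (Nat.card G).factorization s :=
        factorization_eq_of_not_dvd_index hs.out (not_dvd_index_sigmaCore hG hH hs.out hsσ)
      have hfH : (Nat.card (Cfsg.sigmaCore H)).factorization s =
          (Nat.card H).factorization s :=
        factorization_eq_of_not_dvd_relIndex sigmaCore_le hs.out
          (not_dvd_relIndex_sigmaCore hG hH hs.out hsσ)
      have hNR : Subgroup.normalizer (R : Set G) ≤ H :=
        normalizer_le_of_sylow_of_mem_sigma hG hH hsσ (hRσ.trans sigmaCore_le) hRp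
          (by rw [hRcard, hfH])
      have hAR : A ≤ Subgroup.normalizer (R : Set G) := le_sup_right.trans hKP
      have hYR : Y ≤ Subgroup.normalizer (R : Set G) := le_sup_left.trans hKP
      have hRmem : R ∈ Cfsg.maxInvSubgroups ⊤ A {s} :=
        mem_maxInvSubgroups_of_sylow hRp (by rw [hRcard, hfG]) hAR
      have key : ∀ g : G, MulAut.conj g • A₀ ≤ A →
          Cfsg.sigmaCore M ⊓ Subgroup.centralizer ((MulAut.conj g • A₀ : Subgroup G) : Set G) = ⊥ →
          R ⊓ Subgroup.centralizer ((MulAut.conj g • A₀ : Subgroup G) : Set G) = ⊥ →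
          R ≤ Subgroup.centralizer (Y : Set G) := by
        intro g hBA hfpf hCR
        rw [← Subgroup.commutator_eq_bot_iff_le_centralizer]
        exact Cfsg.Agent.Helper3.FrobG2.commutator_eq_bot_of_frobenius hsq hsp Y
          (MulAut.conj g • A₀) R hYq (hcardB g) hRp (hBA.trans hAY) (hYfpf _ hfpf) hYR
          (hBA.trans hAR) hCR
      rcases e.trivial_centralizer_of_sylow hH.1 hAH hX' hn hnM hsp hRmem hNR with h | h
      · exact key n hB₁A hfpf₁ h
      · exact key (n ^ 2) hB₂A hfpf₂ h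
    · have hnd : ¬ s ∣ Nat.card (Cfsg.sigmaCore H) :=
        fun hd => hsσ (mem_sigma_of_dvd_card_sigmaCore hs.out hd)
      rw [Nat.factorization_eq_zero_of_not_dvd hnd, pow_zero] at hRcard
      rw [Subgroup.card_eq_one.1 hRcard]
      exact bot_le
  -- `H` normalizes `Y`
  have hHY : H ≤ Subgroup.normalizer (Y : Set G) := by
    intro h hh
    obtain ⟨a, ha, b, hb, rfl⟩ := hE.2.2.2 h hh
    exact Subgroup.mul_mem _ (hEY ha) (Subgroup.centralizer_le_normalizer _ (hcent hb))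
  have hYtop : Y ≠ ⊤ := fun h => hH.1 (top_le_iff.1 (h ▸ hYH))
  have hNY : Subgroup.normalizer (Y : Set G) = H := normalizer_eq_of_coatom hG hH hHY hY1 hYtop
  -- `Y = Q₁`
  have hYQ₁ : Y = Q₁ := by
    by_contra hne
    have hlt : Y < Q₁ := lt_of_le_of_ne hYQ hne
    obtain ⟨g, hgQ, hgN, hgY⟩ := Cfsg.Agent.Helper4.exists_mem_normalizer_not_mem Q₁ c.pgroup Y hlt
    exact hgY ⟨hgQ, hNY ▸ hgN⟩
  apply hHM
  rw [← hNY, hYQ₁, hNQ]

end Cfsg.Agent.Lead.BG12
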