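import Mathlib
import Cfsg.Prelude
import Cfsg.Agent.Lead.BG114b
import Cfsg.Agent.Lead.T36Final
import Cfsg.Agent.Helper4.BG11y
import Cfsg.Agent.Helper4.BG11z

set_option autoImplicit false
set_option linter.unusedSectionVars false
set_option linter.unusedVariables false

/-!
Bender–Glauberman Lemma 12.3 (`nonuniq_p2Elem_cent_sigma`), assuming the normality statement
`M* ≤ N(M*_σ A)` for exceptional maximal subgroups as an explicit hypothesis.
-/

namespace Cfsg.Agent.Lead.BG12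

open Cfsg Cfsg.Agent.Helper1 Cfsg.Agent.Helper2 Cfsg.Agent.Helper1.BGT Cfsg.Agent.Helper1.BGU
  Cfsg.Agent.Helper1.BGV Cfsg.Agent.Helper1.BGW Cfsg.Agent.Helper1.BGX
open scoped commutatorElement Pointwise

universe u

variable {G : Type u} [Group G] [Finite G]

/-- In the exceptional situation, `M` is the only maximal subgroup containing `M_σ A`. -/
theorem Exc.eq_of_sigmaCore_le {M : Subgroup G} {p : ℕ} [hp : Fact p.Prime] {A₀ A : Subgroup G}
    (e : Exc M p A₀ A) {H : Subgroup G} (hH : IsCoatom H) (hAH : A ≤ H)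
    (hσH : Cfsg.sigmaCore M ≤ H) : H = M := by
  by_contra hne
  have h1 := e.sigmaCore_inf_eq_bot hH hAH hne
  rw [inf_eq_left.2 hσH] at h1
  exact sigmaCore_ne_bot e.min e.coatom h1

/-- `σ` is invariant under conjugation (one direction). -/
theorem mem_sigma_of_mem_sigma_conj_smul (hG : Cfsg.IsMinSimpleOddOrder G) {M : Subgroup G}
    {x : G} (hMx : IsCoatom (MulAut.conj x • M)) {p : ℕ} [hp : Fact p.Prime]
    (h : p ∈ Cfsg.sigma (MulAut.conj x • M)) : p ∈ Cfsg.sigma M := by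
  obtain ⟨P, c⟩ := exists_sigCtx hG hMx h
  have hP'M : MulAut.conj x⁻¹ • P ≤ M := by
    have := conj_smul_mono (k := x⁻¹) c.le
    rwa [conj_smul_inv_smul] at this
  have hP'p : IsPGroup p ↥(MulAut.conj x⁻¹ • P) := by
    rw [conj_smul_eq_map]; exact c.pgroup.map _
  have hP'card : Nat.card ↥(MulAut.conj x⁻¹ • P) = p ^ (Nat.card M).factorization p := by
    apply Cfsg.Agent.Lead.card_eq_ppart_of_le hP'M le_top hP'p
    rw [card_conj_smul, Subgroup.card_top]
    exact c.cardG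
  have hP1 : P ≠ ⊥ := by
    intro hb
    have h1 := c.cardM
    rw [hb, Subgroup.card_bot] at h1
    have h2 : 1 ≤ (Nat.card ↥(MulAut.conj x • M)).factorization p :=
      (hp.out.dvd_iff_one_le_factorization Nat.card_pos.ne').1 h.2.1
    have h3 : 1 < p ^ (Nat.card ↥(MulAut.conj x • M)).factorization p :=
      Nat.one_lt_pow (by omega) hp.out.one_lt
    omega
  have hN : Subgroup.normalizer ((MulAut.conj x⁻¹ • P : Subgroup G) : Set G) ≤ M := by
    rw [normalizer_conj_smul']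
    have := conj_smul_mono (k := x⁻¹) c.norm
    rwa [conj_smul_inv_smul] at this
  exact mem_sigma_of_normalizer_le hP'M (conj_smul_ne_bot hP1) hP'p hP'card hN

/-- If `p ∈ σ(M*)`, `A ≤ M ∩ M*` a nontrivial `p`-group with `C(A) ≤ M*` and `M* ≠ M`, then `M*` is
not conjugate to `M`. -/
theorem not_conj_of_mem_sigma (hG : Cfsg.IsMinSimpleOddOrder G) {M Ms : Subgroup G}
    (hM : IsCoatom M) (hMs : IsCoatom Ms) (hne : Ms ≠ M) {p : ℕ} [hp : Fact p.Prime]
    {A : Subgroup G} (hAp : IsPGroup p ↥A) (hA1 : A ≠ ⊥) (hAM : A ≤ M) (hAMs : A ≤ Ms)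
    (hCA : Subgroup.centralizer (A : Set G) ≤ Ms) (hpσ : p ∈ Cfsg.sigma Ms) :
    ∀ x : G, Ms ≠ MulAut.conj x • M := by
  rintro x rfl
  have hpM : p ∈ Cfsg.sigma M := mem_sigma_of_mem_sigma_conj_smul hG hMs hpσ
  obtain ⟨P, c⟩ := exists_sigCtx hG hM hpM
  obtain ⟨m, hm, c', hc', eg⟩ := c.trans A hAM hAp hA1 x⁻¹ (by
    intro a ha
    have := hAMs ha
    rw [mem_conj_smul] at this
    rwa [inv_inv])
  have hc'Ms : c' ∈ MulAut.conj x • M := hCA hc'
  apply hne
  -- `x • M = c'⁻¹ • M`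
  have hx : x = c'⁻¹ * m⁻¹ := by
    have h1 : x = (x⁻¹)⁻¹ := (inv_inv x).symm
    rw [h1, eg, mul_inv_rev]
  have h2 : MulAut.conj x • M = MulAut.conj c'⁻¹ • M := by
    rw [hx, ← conj_smul_smul, conj_smul_eq_self_of_mem (M.inv_mem hm)]
  have h3 : MulAut.conj c' • (MulAut.conj x • M) = MulAut.conj x • M :=
    conj_smul_eq_self_of_mem hc'Ms
  rw [← h3]
  conv_lhs => rw [h2]
  rw [conj_smul_smul, mul_inv_cancel, map_one, one_smul]

/-- **Bender–Glauberman Lemma 12.3**, given the normality statement (D) for exceptional maximal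
subgroups. -/
theorem lemma123 (hG : Cfsg.IsMinSimpleOddOrder G) {M Ms : Subgroup G} (hM : IsCoatom M)
    (hMs : IsCoatom Ms) (hne : Ms ≠ M) {p : ℕ} [hp : Fact p.Prime] {A A₀ : Subgroup G}
    (hAM : A ≤ M) (hAe : Cfsg.IsElementaryAbelian p A) (hAcard : Nat.card A = p ^ 2)
    (hA₀A : A₀ ≤ A) (hA₀card : Nat.card A₀ = p)
    (hN : Subgroup.normalizer (A₀ : Set G) ≤ Ms)
    (hD : Exc Ms p A₀ A →
      Ms ≤ Subgroup.normalizer ((Cfsg.sigmaCore Ms ⊔ A : Subgroup G) : Set G)) :
    (p ∉ Cfsg.sigma M → Cfsg.sigmaCore M ⊓ Ms ≤ Subgroup.centralizer (A : Set G)) ∧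
      (p ∉ Cfsg.alpha M → Cfsg.alphaCore M ⊓ Ms ≤ Subgroup.centralizer (A : Set G)) := by
  have hAcomm : A ≤ Subgroup.centralizer (A : Set G) := by
    intro a ha
    refine Subgroup.mem_centralizer_iff.2 ?_
    intro b hb
    exact isElementaryAbelian_commute hAe hb ha
  have hCA : Subgroup.centralizer (A : Set G) ≤ Ms :=
    ((Subgroup.centralizer_le (SetLike.coe_subset_coe.mpr hA₀A)).trans
      (Subgroup.centralizer_le_normalizer _)).trans hN
  have hAMs : A ≤ Ms := hAcomm.trans hCA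
  have hAp : IsPGroup p ↥A := IsPGroup.of_card hAcard
  have hA1 : A ≠ ⊥ := by
    intro h
    rw [h, Subgroup.card_bot] at hAcard
    have h2 : 1 < p ^ 2 := Nat.one_lt_pow (by norm_num) hp.out.one_lt
    omega
  have hασ : Cfsg.alphaCore M ≤ Cfsg.sigmaCore M := (thm102 hG M hM).2.2.1
  by_cases hpσ : p ∈ Cfsg.sigma Ms
  · have hnc := not_conj_of_mem_sigma hG hM hMs hne hAp hA1 hAM hAMs hCA hpσ
    exact ⟨fun hpM => Cfsg.Agent.Helper4.BG11.sigmaCore_inf_le_centralizer_of_mem_sigma hG hM hMs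
        hnc hAp hAM hAMs hpσ hpM,
      fun _ => Cfsg.Agent.Helper4.BG11.alphaCore_inf_le_centralizer_of_mem_sigma hG hM hMs hnc hAp
        hAM hAMs hpσ⟩
  · -- `M*` is exceptional
    have e : Exc Ms p A₀ A :=
      ⟨hG, Cfsg.Agent.Lead.T36Red.pl1_holds hG, hMs, hpσ, hAMs, hAe, hAcard, hA₀A, hA₀card, hN⟩
    have hDn := hD e
    have hbot : Cfsg.sigmaCore Ms ⊓ M = ⊥ := e.sigmaCore_inf_eq_bot hM hAM (Ne.symm hne)
    -- the common argument
    have key : ∀ X : Subgroup G, X ≤ Cfsg.sigmaCore M → X ≤ Ms →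
        A ≤ Subgroup.normalizer (X : Set G) → ¬ p ∣ Nat.card X →
        X ≤ Subgroup.centralizer (A : Set G) := by
      intro X hXσ hXMs hAX hpX
      intro x hx
      refine Subgroup.mem_centralizer_iff.2 ?_
      intro a ha
      -- the commutator `x a x⁻¹ a⁻¹`
      have hw1 : x * (a * x⁻¹ * a⁻¹) ∈ X :=
        X.mul_mem hx ((Subgroup.mem_normalizer_iff.1 (hAX ha) x⁻¹).1 (X.inv_mem hx))
      have hw2 : (x * a * x⁻¹) * a⁻¹ ∈ Cfsg.sigmaCore Ms ⊔ A := by
        refine Subgroup.mul_mem _ ?_ (Subgroup.inv_mem _ (Subgroup.mem_sup_right ha))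
        exact (Subgroup.mem_normalizer_iff.1 (hDn (hXMs hx)) a).1 (Subgroup.mem_sup_right ha)
      have hweq : x * (a * x⁻¹ * a⁻¹) = (x * a * x⁻¹) * a⁻¹ := by group
      set w := x * (a * x⁻¹ * a⁻¹) with hw
      -- `w` is a `p'`-element of `M*_σ A`, hence lies in `M*_σ`
      have hAN : A ≤ Subgroup.normalizer ((Cfsg.sigmaCore Ms : Subgroup G) : Set G) :=
        hAMs.trans (le_normalizer_sigmaCore Ms)
      have hLN : Cfsg.sigmaCore Ms ⊔ A ≤
          Subgroup.normalizer ((Cfsg.sigmaCore Ms : Subgroup G) : Set G) :=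
        sup_le Subgroup.le_normalizer hAN
      have hdisj : A ⊓ Cfsg.sigmaCore Ms = ⊥ :=
        disjoint_iff.1 (Subgroup.disjoint_of_coprime_natCard (e.coprime_card le_rfl A hAp))
      have hrel : (Cfsg.sigmaCore Ms).relIndex (Cfsg.sigmaCore Ms ⊔ A) = p ^ 2 := by
        have h1 := relIndex_mul_card_of_le (le_sup_left : Cfsg.sigmaCore Ms ≤ Cfsg.sigmaCore Ms ⊔ A)
        rw [card_sup_of_le_normalizer hAN hdisj, hAcard] at h1
        exact Nat.eq_of_mul_eq_mul_right Nat.card_pos h1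
      have hcop : (Nat.card X).Coprime ((Cfsg.sigmaCore Ms).relIndex (Cfsg.sigmaCore Ms ⊔ A)) := by
        rw [hrel]
        exact Nat.Coprime.pow_right 2 ((Nat.Prime.coprime_iff_not_dvd hp.out).2 hpX).symm
      have hwσ : w ∈ Cfsg.sigmaCore Ms := by
        apply mem_of_pow_eq_one_of_coprime_relIndex hLN hcop
        · rw [hweq]; exact hw2
        · exact pow_card_eq_one_of_mem hw1
      have hwM : w ∈ M := sigmaCore_le (hXσ hw1)
      have hw1' : w = 1 := by
        have : w ∈ Cfsg.sigmaCore Ms ⊓ M := ⟨hwσ, hwM⟩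
        rw [hbot] at this
        exact Subgroup.mem_bot.1 this
      have h3 : x * a = a * x := by
        have h4 : x * a = w * (a * x) := by rw [hw]; group
        rw [h4, hw1', one_mul]
      exact h3.symm
    constructor
    · intro hpM
      apply key _ inf_le_left inf_le_right
        (le_normalizer_inf (hAM.trans (le_normalizer_sigmaCore M))
          (hAMs.trans Subgroup.le_normalizer))
      intro hd
      exact hpM (mem_sigma_of_dvd_card_sigmaCore hp.out
        (hd.trans (Subgroup.card_dvd_of_le inf_le_left)))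
    · intro hpα
      apply key _ (inf_le_left.trans hασ) inf_le_right
        (le_normalizer_inf (hAM.trans (Cfsg.Agent.Helper4.BG11.le_normalizer_alphaCore M))
          (hAMs.trans Subgroup.le_normalizer))
      intro hd
      exact hpα (mem_alpha_of_dvd_card_alphaCore hp.out
        (hd.trans (Subgroup.card_dvd_of_le inf_le_left)))

end Cfsg.Agent.Lead.BG12
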