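import Mathlib
import Cfsg.Prelude
import Cfsg.Agent.Lead.BG123
import Cfsg.Agent.Helper1.BG1011

set_option autoImplicit false
set_option linter.unusedSectionVars false
set_option linter.unusedVariables false

/-!
Bender–Glauberman Theorem 12.4 (`p2Elem_mmax`): preparations.
-/

namespace Cfsg.Agent.Lead.BG12

open Cfsg Cfsg.Agent.Helper1 Cfsg.Agent.Helper2 Cfsg.Agent.Helper1.BGT Cfsg.Agent.Helper1.BGU
  Cfsg.Agent.Helper1.BGV Cfsg.Agent.Helper1.BGW Cfsg.Agent.Helper1.BGX
open scoped commutatorElement Pointwise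

universe u

variable {G : Type u} [Group G] [Finite G]

/-- the transitivity hypothesis for an elementary abelian subgroup of order `p ^ 2` of `M`,
`p ∉ σ(M)` -/
theorem transHyp_of_not_mem_sigma (hG : Cfsg.IsMinSimpleOddOrder G) {M : Subgroup G}
    (hM : IsCoatom M) {p : ℕ} [hp : Fact p.Prime] (hpσ : p ∉ Cfsg.sigma M) {A : Subgroup G}
    (hAM : A ≤ M) (hAe : Cfsg.IsElementaryAbelian p A) (hAcard : Nat.card A = p ^ 2) :
    Cfsg.TransitivityHypothesis A ∧
      ∀ B : Subgroup G, Cfsg.IsElementaryAbelian p B → A ≤ B → B = A := by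
  have hr2 : Cfsg.PRankLE p 2 ↥M := pRankLE_of_not_mem_sigma hG hM hp.out hpσ
  have hr1 : ¬ Cfsg.PRankLE p 1 ↥M := by
    apply not_pRankLE_of_hasEA
    refine ⟨A, hAM, hAe, ?_⟩
    rw [hAcard, pow_one]
    have := hp.out.one_lt
    nlinarith
  have hmax := (lemma105 hG M hM p hpσ hr2 hr1).2 A hAM hAe hAcard
  refine ⟨?_, hmax⟩
  have homega : ∀ x ∈ Subgroup.centralizer (A : Set G), x ^ p = 1 ↔ x ∈ A := by
    intro x hxC
    constructor
    · intro hx
      exact Cfsg.Agent.Helper1.SCN3.mem_of_centralizes_of_maximal hAe hmax hxC hx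
    · intro hx
      exact hAe.2 x hx
  have hdvd : p ∣ Nat.card G := by
    have h1 : p ∣ Nat.card A := by rw [hAcard]; exact dvd_pow_self p (by norm_num)
    exact h1.trans (Subgroup.card_subgroup_dvd_card A)
  exact transitivityHypothesis_of_pLength hG hdvd (IsPGroup.of_card hAcard) hAe.1 homega
    (fun H hH => Cfsg.Agent.Lead.T36Red.pl1_holds hG p H hH)

/-- a Sylow subgroup of a nilpotent subgroup `D` is normalized by everything normalizing `D` -/
theorem le_normalizer_of_sylow_of_isNilpotent {D P N : Subgroup G} {p : ℕ} [hp : Fact p.Prime]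
    (hD : Group.IsNilpotent ↥D) (hPD : P ≤ D)
    (hPcard : Nat.card P = p ^ (Nat.card D).factorization p)
    (hND : N ≤ Subgroup.normalizer (D : Set G)) : N ≤ Subgroup.normalizer (P : Set G) := by
  have hrel : P.relIndex D = Nat.card D / p ^ (Nat.card D).factorization p := by
    have h := relIndex_mul_card_of_le hPD
    rw [hPcard] at h
    exact (Nat.div_eq_of_eq_mul_left (pow_pos hp.out.pos _) h.symm).symm
  have hcop : (Nat.card P).Coprime (P.relIndex D) := by
    rw [hPcard, hrel]
    exact Nat.Coprime.pow_left _ (Nat.coprime_ordCompl hp.out Nat.card_pos.ne')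
  have hDP : D ≤ Subgroup.normalizer (P : Set G) := le_normalizer_of_hall_nilpotent hD hPD hcop
  intro x hx
  apply Cfsg.Agent.Helper3.IrrCyclic.mem_normalizer_of_conj_le
  intro b hb
  have h1 : MulAut.conj x • P ≤ D := by
    have h2 := conj_smul_mono (k := x) hPD
    rwa [conj_smul_eq_of_mem_normalizer' (hND hx)] at h2
  have h3 : MulAut.conj x • P ≤ P :=
    le_of_normal_hall_rel hPD hDP h1 hcop (by rw [card_conj_smul])
  exact h3 (conj_mem_conj_smul hb)

/-- if `M_α = 1` then `M'` is nilpotent -/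
theorem commutator_isNilpotent_of_alphaCore_eq_bot (hG : Cfsg.IsMinSimpleOddOrder G)
    {M : Subgroup G} (hM : IsCoatom M) (hα : Cfsg.alphaCore M = ⊥) :
    Group.IsNilpotent ↥⁅M, M⁆ := by
  have h := (thm102 hG M hM).2.2.2.2
  have hbot : Cfsg.piCore (Cfsg.alpha M) ↥M = ⊥ := by
    unfold Cfsg.alphaCore at hα
    exact (Subgroup.map_eq_bot_iff_of_injective _ M.subtype_injective).mp hα
  -- the quotient map is injective
  have hinj : Function.Injective (QuotientGroup.mk' (Cfsg.piCore (Cfsg.alpha M) ↥M)) := by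
    rw [injective_iff_map_eq_one]
    intro x hx
    have : x ∈ Cfsg.piCore (Cfsg.alpha M) ↥M := (QuotientGroup.eq_one_iff x).1 hx
    rw [hbot] at this
    exact Subgroup.mem_bot.1 this
  have h1 : Group.IsNilpotent ↥(commutator ↥M) :=
    Group.nilpotent_of_mulEquiv
      ((commutator ↥M).equivMapOfInjective _ hinj).symm
  have h2 : Group.IsNilpotent ↥((commutator ↥M).map M.subtype) :=
    Group.nilpotent_of_mulEquiv ((commutator ↥M).equivMapOfInjective _ M.subtype_injective)
  rw [_root_.commutator_def, Subgroup.map_commutator, ← MonoidHom.range_eq_map,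
    Subgroup.range_subtype] at h2
  exact h2

/-- if `M_α ≤ L` for a maximal subgroup `L ≠ M` then `M_α = 1` -/
theorem alphaCore_eq_bot_of_le (hG : Cfsg.IsMinSimpleOddOrder G) {M L : Subgroup G}
    (hM : IsCoatom M) (hL : IsCoatom L) (hne : L ≠ M) (h : Cfsg.alphaCore M ≤ L) :
    Cfsg.alphaCore M = ⊥ := by
  by_contra hα
  have hcard : Nat.card (Cfsg.alphaCore M) ≠ 1 := fun h1 => hα (Subgroup.card_eq_one.mp h1)
  obtain ⟨r, hr, hrd⟩ := Nat.exists_prime_and_dvd hcard
  have := Fact.mk hr
  have hrα : r ∈ Cfsg.alpha M := mem_alpha_of_dvd_card_alphaCore hr hrd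
  obtain ⟨P, hP1, c, -, huniq, -⟩ := exists_sylow_of_mem_alpha hG hM hrα
  have hPα : P ≤ Cfsg.alphaCore M := by
    intro x hx
    exact ⟨⟨x, c.le hx⟩, le_alphaCore hG hM hrα c.le c.pgroup (Subgroup.mem_subgroupOf.mpr hx), rfl⟩
  exact hne (huniq L hL (hPα.trans h))

/-- Generation: an `A`-invariant `p'`-subgroup `X` lies in `C(A)` as soon as `X ∩ C(B) ≤ C(A)` for
every nonidentity cyclic subgroup `B` of `A`. -/
theorem le_centralizer_of_forall_point {p : ℕ} [hp : Fact p.Prime] {A X : Subgroup G}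
    (hAe : Cfsg.IsElementaryAbelian p A) (hAcard : Nat.card A = p ^ 2)
    (hpX : ¬ p ∣ Nat.card X) (hAX : A ≤ Subgroup.normalizer (X : Set G))
    (h : ∀ b ∈ A, b ≠ 1 →
      X ⊓ Subgroup.centralizer ((Subgroup.zpowers b : Subgroup G) : Set G) ≤
        Subgroup.centralizer (A : Set G)) :
    X ≤ Subgroup.centralizer (A : Set G) := by
  have hgen := Cfsg.Agent.Helper2.le_iSup_hyperplane_centralizers p (Nat.card A) A X rfl hAe hpX hAX
  refine hgen.trans (iSup_le ?_)
  rintro ⟨Bs, hBsA, hBsi⟩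
  have hBs1 : 1 < Nat.card Bs := by
    have h2 : Nat.card A = Nat.card Bs * Bs.relIndex A :=
      (relIndex_mul_card_of_le hBsA).symm.trans (mul_comm _ _)
    by_contra hle
    have h3 : Nat.card Bs = 1 := by
      have : 0 < Nat.card Bs := Nat.card_pos
      omega
    rw [h3, one_mul, hAcard] at h2
    have h4 : p < p ^ 2 := by
      have := hp.out.one_lt
      nlinarith
    omega
  obtain ⟨b, hb, hb1⟩ := exists_ne_one_of_one_lt_card hBs1
  refine le_trans (inf_le_inf_left _ (Subgroup.centralizer_le ?_)) (h b (hBsA hb) hb1)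
  intro z hz
  exact (Subgroup.zpowers_le.2 hb) hz

end Cfsg.Agent.Lead.BG12
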