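import Mathlib
import Cfsg.Prelude
import Cfsg.Agent.Lead.BG124a

set_option autoImplicit false
set_option linter.unusedSectionVars false
set_option linter.unusedVariables false

/-!
Bender–Glauberman Theorem 12.4 (`p2Elem_mmax`), assuming the normality statement (D) for
exceptional maximal subgroups and the uniqueness statement for `p ∈ α(M)` as explicit hypotheses.
-/

namespace Cfsg.Agent.Lead.BG12

open Cfsg Cfsg.Agent.Helper1 Cfsg.Agent.Helper2 Cfsg.Agent.Helper1.BGT Cfsg.Agent.Helper1.BGU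
  Cfsg.Agent.Helper1.BGV Cfsg.Agent.Helper1.BGW Cfsg.Agent.Helper1.BGX
open scoped commutatorElement Pointwise

universe u

variable {G : Type u} [Group G] [Finite G]

/-- the hypothesis (D): an exceptional maximal subgroup normalizes `M_σ A` -/
def HypD (G : Type u) [Group G] : Prop :=
  ∀ (Ms : Subgroup G) (p : ℕ) [Fact p.Prime] (A₀ A : Subgroup G), Exc Ms p A₀ A →
    Ms ≤ Subgroup.normalizer ((Cfsg.sigmaCore Ms ⊔ A : Subgroup G) : Set G)

/-- the non-uniqueness hypothesis of 12.4(b) -/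
def NonUniq (M : Subgroup G) (p : ℕ) (A : Subgroup G) : Prop :=
  ∀ A₀ : Subgroup G, A₀ ≤ A → Nat.card A₀ = p →
    ¬ (Subgroup.normalizer (A₀ : Set G) ≤ M ∧
      ∀ L : Subgroup G, IsCoatom L → Subgroup.normalizer (A₀ : Set G) ≤ L → L = M)

/-- the hypothesis (Step 2): for `p ∈ α(M)` uniqueness holds for some `A₀` -/
def HypAlpha (G : Type u) [Group G] : Prop :=
  ∀ (M : Subgroup G), IsCoatom M → ∀ (p : ℕ) [Fact p.Prime] (A : Subgroup G), A ≤ M →
    Cfsg.IsElementaryAbelian p A → Nat.card A = p ^ 2 → p ∈ Cfsg.alpha M → ¬ NonUniq M p A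

theorem card_zpowers_of_mem_elementary {p : ℕ} [hp : Fact p.Prime] {A : Subgroup G}
    (hAe : Cfsg.IsElementaryAbelian p A) {b : G} (hb : b ∈ A) (hb1 : b ≠ 1) :
    Nat.card (Subgroup.zpowers b) = p := by
  rw [Nat.card_zpowers]
  exact orderOf_eq_prime (hAe.2 b hb) hb1

/-- under non-uniqueness, every point of `A` has its normalizer in a maximal subgroup `≠ M` -/
theorem NonUniq.exists_coatom (hG : Cfsg.IsMinSimpleOddOrder G) {M : Subgroup G}
    (hM : IsCoatom M) {p : ℕ} [hp : Fact p.Prime] {A : Subgroup G}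
    (hAe : Cfsg.IsElementaryAbelian p A) (hno : NonUniq M p A) {A₀ : Subgroup G}
    (hA₀A : A₀ ≤ A) (hA₀card : Nat.card A₀ = p) :
    ∃ Ms : Subgroup G, IsCoatom Ms ∧ Ms ≠ M ∧ Subgroup.normalizer (A₀ : Set G) ≤ Ms := by
  have hA₀1 : A₀ ≠ ⊥ := by
    intro h
    rw [h, Subgroup.card_bot] at hA₀card
    exact hp.out.one_lt.ne hA₀card
  have hA₀top : A₀ ≠ ⊤ := by
    intro h
    exact sylow_ne_top hG p A₀ (IsPGroup.of_card (n := 1) (by rw [hA₀card, pow_one])) h
  have hNtop := normalizer_ne_top_of_simple hG hA₀1 hA₀top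
  obtain ⟨L, hL, hNL⟩ := exists_coatom_ge hNtop
  by_cases hLM : L = M
  · have h1 := hno A₀ hA₀A hA₀card
    push Not at h1
    obtain ⟨L', hL', hNL', hne⟩ := h1 (hLM ▸ hNL)
    exact ⟨L', hL', hne, hNL'⟩
  · exact ⟨L, hL, hLM, hNL⟩

/-- under non-uniqueness, `M_σ ≤ C(A)` if `p ∉ σ(M)` and `M_α ≤ C(A)` if `p ∉ α(M)` -/
theorem NonUniq.le_centralizer (hG : Cfsg.IsMinSimpleOddOrder G) (hD : HypD G) {M : Subgroup G}
    (hM : IsCoatom M) {p : ℕ} [hp : Fact p.Prime] {A : Subgroup G} (hAM : A ≤ M)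
    (hAe : Cfsg.IsElementaryAbelian p A) (hAcard : Nat.card A = p ^ 2) (hno : NonUniq M p A) :
    (p ∉ Cfsg.sigma M → Cfsg.sigmaCore M ≤ Subgroup.centralizer (A : Set G)) ∧
      (p ∉ Cfsg.alpha M → Cfsg.alphaCore M ≤ Subgroup.centralizer (A : Set G)) := by
  have key : ∀ b ∈ A, b ≠ 1 → ∃ Ms : Subgroup G,
      Subgroup.centralizer ((Subgroup.zpowers b : Subgroup G) : Set G) ≤ Ms ∧
      (p ∉ Cfsg.sigma M → Cfsg.sigmaCore M ⊓ Ms ≤ Subgroup.centralizer (A : Set G)) ∧
      (p ∉ Cfsg.alpha M → Cfsg.alphaCore M ⊓ Ms ≤ Subgroup.centralizer (A : Set G)) := by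
    intro b hb hb1
    have hbA : Subgroup.zpowers b ≤ A := Subgroup.zpowers_le.2 hb
    have hbc : Nat.card (Subgroup.zpowers b) = p := card_zpowers_of_mem_elementary hAe hb hb1
    obtain ⟨Ms, hMs, hne, hN⟩ := hno.exists_coatom hG hM hAe hbA hbc
    refine ⟨Ms, (Subgroup.centralizer_le_normalizer _).trans hN, ?_⟩
    exact lemma123 hG hM hMs hne hAM hAe hAcard hbA hbc hN (hD Ms p _ A)
  constructor
  · intro hpσ
    apply le_centralizer_of_forall_point hAe hAcard
      (fun hd => hpσ (mem_sigma_of_dvd_card_sigmaCore hp.out hd))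
      (hAM.trans (le_normalizer_sigmaCore M))
    intro b hb hb1
    obtain ⟨Ms, hC, h1, -⟩ := key b hb hb1
    exact (inf_le_inf_left _ hC).trans (h1 hpσ)
  · intro hpα
    apply le_centralizer_of_forall_point hAe hAcard
      (fun hd => hpα (mem_alpha_of_dvd_card_alphaCore hp.out hd))
      (hAM.trans (Cfsg.Agent.Helper4.BG11.le_normalizer_alphaCore M))
    intro b hb hb1
    obtain ⟨Ms, hC, -, h1⟩ := key b hb hb1
    exact (inf_le_inf_left _ hC).trans (h1 hpα)

theorem not_rankLE_one_of_card_sq {p : ℕ} [hp : Fact p.Prime] {A : Subgroup G}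
    (hAe : Cfsg.IsElementaryAbelian p A) (hAcard : Nat.card A = p ^ 2) :
    ¬ Cfsg.RankLE 1 ↥(A ⊓ Subgroup.centralizer (A : Set G)) := by
  intro hr
  have hAcomm : A ≤ Subgroup.centralizer (A : Set G) := by
    intro a ha
    refine Subgroup.mem_centralizer_iff.2 ?_
    intro b hb
    exact isElementaryAbelian_commute hAe hb ha
  have h1 : A ⊓ Subgroup.centralizer (A : Set G) = A := inf_eq_left.2 hAcomm
  rw [h1] at hr
  have hc : IsMulCommutative ↥(⊤ : Subgroup ↥A) := by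
    refine ⟨⟨fun a b => ?_⟩⟩
    apply Subtype.ext
    exact hAe.1.is_comm.comm a.1 b.1
  have h2 := hr p hp.out ⊤ hc (by
    intro a _
    apply Subtype.ext
    have := hAe.2 (a : G) a.2
    simpa using this)
  rw [Subgroup.card_top, hAcard, pow_one] at h2
  have := hp.out.one_lt
  nlinarith

theorem exists_point_of_card_sq {p : ℕ} [hp : Fact p.Prime] {A : Subgroup G}
    (hAe : Cfsg.IsElementaryAbelian p A) (hAcard : Nat.card A = p ^ 2) :
    ∃ b ∈ A, b ≠ 1 ∧ Subgroup.zpowers b ≤ A ∧ Nat.card (Subgroup.zpowers b) = p := by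
  have h1 : 1 < Nat.card A := by
    rw [hAcard]
    exact Nat.one_lt_pow (by norm_num) hp.out.one_lt
  obtain ⟨b, hb, hb1⟩ := exists_ne_one_of_one_lt_card h1
  exact ⟨b, hb, hb1, Subgroup.zpowers_le.2 hb, card_zpowers_of_mem_elementary hAe hb hb1⟩

/-- Step 1 of 12.4(b): under non-uniqueness, `p ∈ σ(M)` -/
theorem NonUniq.mem_sigma (hG : Cfsg.IsMinSimpleOddOrder G) (hD : HypD G) {M : Subgroup G}
    (hM : IsCoatom M) {p : ℕ} [hp : Fact p.Prime] {A : Subgroup G} (hAM : A ≤ M)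
    (hAe : Cfsg.IsElementaryAbelian p A) (hAcard : Nat.card A = p ^ 2) (hno : NonUniq M p A) :
    p ∈ Cfsg.sigma M := by
  by_contra hpσ
  have hσC := (hno.le_centralizer hG hD hM hAM hAe hAcard).1 hpσ
  obtain ⟨b, hb, hb1, hbA, hbc⟩ := exists_point_of_card_sq hAe hAcard
  obtain ⟨Ms, hMs, hne, hN⟩ := hno.exists_coatom hG hM hAe hbA hbc
  have hCA : Subgroup.centralizer (A : Set G) ≤ Ms :=
    ((Subgroup.centralizer_le (SetLike.coe_subset_coe.mpr hbA)).trans
      (Subgroup.centralizer_le_normalizer _)).trans hN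
  have hαbot : Cfsg.alphaCore M = ⊥ :=
    alphaCore_eq_bot_of_le hG hM hMs hne (((thm102 hG M hM).2.2.1).trans (hσC.trans hCA))
  have hnil := commutator_isNilpotent_of_alphaCore_eq_bot hG hM hαbot
  obtain ⟨s, hs⟩ := sigma_nonempty hG hM
  have := Fact.mk hs.1
  obtain ⟨S, c⟩ := exists_sigCtx hG hM hs
  have hSC : S ≤ Subgroup.centralizer (A : Set G) := c.le_sigmaCore.trans hσC
  obtain ⟨htrans, hmax⟩ := transHyp_of_not_mem_sigma hG hM hpσ hAM hAe hAcard
  have hsp : s ≠ p := fun h => hpσ (h ▸ hs)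
  have hsA : ¬ s ∣ Nat.card A := by
    rw [hAcard]
    intro hd
    exact hsp ((Nat.prime_dvd_prime_iff_eq hs.1 hp.out).1 (hs.1.dvd_of_dvd_pow hd))
  have hyp := Hyp.of hG htrans hs.1 hsA
  have hZ := not_rankLE_one_of_card_sq hAe hAcard
  have hS1 : S ≠ ⊥ := by
    intro hb
    have h1 := c.cardM
    rw [hb, Subgroup.card_bot] at h1
    have h2 : 1 ≤ (Nat.card ↥M).factorization s :=
      (hs.1.dvd_iff_one_le_factorization Nat.card_pos.ne').1 hs.2.1
    have h3 : 1 < s ^ (Nat.card ↥M).factorization s :=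
      Nat.one_lt_pow (by omega) hs.1.one_lt
    omega
  have hsC : s ∣ Nat.card (Subgroup.centralizer (A : Set G)) :=
    (dvd_card_of_isPGroup_ne_bot c.pgroup hS1).trans (Subgroup.card_dvd_of_le hSC)
  have hAS : A ≤ Subgroup.normalizer (S : Set G) := by
    refine le_trans ?_ (Subgroup.centralizer_le_normalizer _)
    intro a ha
    refine Subgroup.mem_centralizer_iff.2 ?_
    intro x hx
    exact (Subgroup.mem_centralizer_iff.1 (hSC hx) a ha).symm
  have hSmem := mem_maxInvSubgroups_of_sylow c.pgroup c.cardG hAS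
  obtain ⟨P, hAP, -, hPN, -⟩ :=
    Cfsg.Agent.Helper1.BG1011.thm1011 hG hyp (IsPGroup.of_card hAcard) hZ hsC hSmem
  have hPM' : (P : Subgroup G) ≤ ⁅M, M⁆ := hPN.trans (Subgroup.commutator_mono c.norm c.norm)
  have hPM : (P : Subgroup G) ≤ M := hPM'.trans (Subgroup.commutator_le_self M)
  have hPcardG : Nat.card (P : Subgroup G) = p ^ (Nat.card (⊤ : Subgroup G)).factorization p := by
    rw [Subgroup.card_top]
    exact P.card_eq_multiplicity
  have hPcard' := Cfsg.Agent.Lead.card_eq_ppart_of_le hPM' le_top P.2 hPcardG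
  have hPcardM := Cfsg.Agent.Lead.card_eq_ppart_of_le hPM le_top P.2 hPcardG
  have hMN : M ≤ Subgroup.normalizer ((P : Subgroup G) : Set G) :=
    le_normalizer_of_sylow_of_isNilpotent hnil hPM' hPcard' (le_normalizer_commutator_self M)
  have hP1 : (P : Subgroup G) ≠ ⊥ := by
    intro h
    have hA1 : A = ⊥ := le_bot_iff.1 (h ▸ hAP)
    rw [hA1, Subgroup.card_bot] at hAcard
    have h2 : 1 < p ^ 2 := Nat.one_lt_pow (by norm_num) hp.out.one_lt
    omega
  have hPtop : (P : Subgroup G) ≠ ⊤ := sylow_ne_top hG p _ P.2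
  have hNP := normalizer_eq_of_coatom hG hM hMN hP1 hPtop
  exact hpσ (mem_sigma_of_normalizer_le hPM hP1 P.2 hPcardM hNP.le)

/-- **Bender–Glauberman Theorem 12.4(b)** given (D) and Step 2. -/
theorem thm124b (hG : Cfsg.IsMinSimpleOddOrder G) (hD : HypD G) (hα : HypAlpha G)
    {M : Subgroup G} (hM : IsCoatom M) {p : ℕ} [hp : Fact p.Prime] {A : Subgroup G}
    (hAM : A ≤ M) (hAe : Cfsg.IsElementaryAbelian p A) (hAcard : Nat.card A = p ^ 2)
    (hno : NonUniq M p A) :
    p ∈ Cfsg.sigma M ∧ Cfsg.alphaCore M = ⊥ ∧ Group.IsNilpotent ↥(Cfsg.sigmaCore M) := by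
  have hpσ := hno.mem_sigma hG hD hM hAM hAe hAcard
  have hpα : p ∉ Cfsg.alpha M := fun h => hα M hM p A hAM hAe hAcard h hno
  have hαC := (hno.le_centralizer hG hD hM hAM hAe hAcard).2 hpα
  obtain ⟨b, hb, hb1, hbA, hbc⟩ := exists_point_of_card_sq hAe hAcard
  obtain ⟨Ms, hMs, hne, hN⟩ := hno.exists_coatom hG hM hAe hbA hbc
  have hCA : Subgroup.centralizer (A : Set G) ≤ Ms :=
    ((Subgroup.centralizer_le (SetLike.coe_subset_coe.mpr hbA)).trans
      (Subgroup.centralizer_le_normalizer _)).trans hN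
  have hαbot : Cfsg.alphaCore M = ⊥ :=
    alphaCore_eq_bot_of_le hG hM hMs hne (hαC.trans hCA)
  have hnil := commutator_isNilpotent_of_alphaCore_eq_bot hG hM hαbot
  exact ⟨hpσ, hαbot, Cfsg.Agent.Helper1.isNilpotent_of_le (sigmaCore_le_commutator hG hM) hnil⟩

/-- **Bender–Glauberman Theorem 12.4(a)** given (D) and Step 2. -/
theorem thm124a (hG : Cfsg.IsMinSimpleOddOrder G) (hD : HypD G) (hα : HypAlpha G)
    {M : Subgroup G} (hM : IsCoatom M) {p : ℕ} [hp : Fact p.Prime] {A : Subgroup G}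
    (hAM : A ≤ M) (hAe : Cfsg.IsElementaryAbelian p A) (hAcard : Nat.card A = p ^ 2) :
    Subgroup.centralizer (A : Set G) ≤ M := by
  by_cases hno : NonUniq M p A
  · obtain ⟨hpσ, hαbot, hnil⟩ := thm124b hG hD hα hM hAM hAe hAcard hno
    have hpα : p ∉ Cfsg.alpha M := fun h => hα M hM p A hAM hAe hAcard h hno
    have hr2 : Cfsg.PRankLE p 2 ↥M := pRankLE_of_not_mem_alpha hp.out hpα
    obtain ⟨P, c⟩ := exists_sigCtx hG hM hpσ
    have hNP : Subgroup.normalizer (P : Set G) = M :=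
      Cfsg.Agent.Helper4.BG11.normalizer_eq_of_isNilpotent_sigmaCore c hnil
    have hAp : IsPGroup p ↥A := IsPGroup.of_card hAcard
    have hAP : A ≤ P := le_of_isPGroup_of_normalizer_eq c hNP hAM hAp
    have hA1 : A ≠ ⊥ := by
      intro h
      rw [h, Subgroup.card_bot] at hAcard
      have h2 : 1 < p ^ 2 := Nat.one_lt_pow (by norm_num) hp.out.one_lt
      omega
    have hP1 : P ≠ ⊥ := fun h => hA1 (le_bot_iff.1 (h ▸ hAP))
    -- elements of order `p` of `Z(P)` lie in `A`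
    have key : ∀ z ∈ P, z ∈ Subgroup.centralizer (P : Set G) → z ^ p = 1 → z ∈ A := by
      intro z hzP hzC hzp
      by_contra hzA
      have hzCA : Subgroup.zpowers z ≤ Subgroup.centralizer (A : Set G) :=
        Subgroup.zpowers_le.2 (Subgroup.centralizer_le (SetLike.coe_subset_coe.mpr hAP) hzC)
      have hBe := Cfsg.Agent.Helper1.SCN3.elementary_sup_of_le_centralizer hAe
        (Cfsg.Agent.Helper1.SCN3.elementary_zpowers hzp) hzCA
      have hBM : A ⊔ Subgroup.zpowers z ≤ M :=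
        sup_le hAM (Subgroup.zpowers_le.2 (c.le hzP))
      have hlt : A < A ⊔ Subgroup.zpowers z := by
        refine lt_of_le_of_ne le_sup_left ?_
        intro h
        apply hzA
        rw [h]
        exact Subgroup.mem_sup_right (Subgroup.mem_zpowers z)
      have hcardlt : p ^ 2 < Nat.card ↥(A ⊔ Subgroup.zpowers z) := by
        rw [← hAcard]
        exact Cfsg.Agent.Lead.card_lt_of_lt hlt
      exact not_pRankLE_of_hasEA ⟨_, hBM, hBe, hcardlt⟩ hr2
    -- `Z₀ = Ω₁(Z(P))`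
    obtain ⟨z₀, hz₀, hz₀1, hz₀p⟩ := exists_central_of_order c.pgroup hP1
    have hz₀A : z₀ ∈ A := key z₀ hz₀.1 hz₀.2 hz₀p
    have hZ1 : A ⊓ Subgroup.centralizer (P : Set G) ≠ ⊥ := by
      intro h
      have : z₀ ∈ A ⊓ Subgroup.centralizer (P : Set G) := Subgroup.mem_inf.2 ⟨hz₀A, hz₀.2⟩
      rw [h] at this
      exact hz₀1 (Subgroup.mem_bot.1 this)
    have hZtop : A ⊓ Subgroup.centralizer (P : Set G) ≠ ⊤ := by
      intro h
      have h1 : (⊤ : Subgroup G) ≤ M := h ▸ (inf_le_left.trans hAM)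
      exact hM.1 (top_le_iff.1 h1)
    have hMN : M ≤ Subgroup.normalizer
        ((A ⊓ Subgroup.centralizer (P : Set G) : Subgroup G) : Set G) := by
      intro n hn
      have hnP : n ∈ Subgroup.normalizer (P : Set G) := hNP ▸ hn
      apply Cfsg.Agent.Helper3.IrrCyclic.mem_normalizer_of_conj_le
      intro a ha
      obtain ⟨haA, haC⟩ := Subgroup.mem_inf.1 ha
      have h1 : n * a * n⁻¹ ∈ P := (Subgroup.mem_normalizer_iff.1 hnP a).1 (hAP haA)
      have h2 : n * a * n⁻¹ ∈ Subgroup.centralizer (P : Set G) := by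
        refine Subgroup.mem_centralizer_iff.2 ?_
        intro y hy
        have hy' : n⁻¹ * y * n ∈ P := by
          have := (Subgroup.mem_normalizer_iff.1 (Subgroup.inv_mem _ hnP) y).1 hy
          simpa using this
        have h3 := Subgroup.mem_centralizer_iff.1 haC _ hy'
        calc y * (n * a * n⁻¹) = n * ((n⁻¹ * y * n) * a) * n⁻¹ := by group
          _ = n * (a * (n⁻¹ * y * n)) * n⁻¹ := by rw [h3]
          _ = n * a * n⁻¹ * y := by group
      have h3 : (n * a * n⁻¹) ^ p = 1 := by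
        rw [conj_pow, hAe.2 a haA]
        group
      exact Subgroup.mem_inf.2 ⟨key _ h1 h2 h3, h2⟩
    have hNZ := normalizer_eq_of_coatom hG hM hMN hZ1 hZtop
    -- the order of `Z₀`
    have hdvd : Nat.card ↥(A ⊓ Subgroup.centralizer (P : Set G)) ∣ p ^ 2 := by
      rw [← hAcard]
      exact Subgroup.card_dvd_of_le inf_le_left
    obtain ⟨k, hk2, hk⟩ := (Nat.dvd_prime_pow hp.out).1 hdvd
    have hk0 : k ≠ 0 := by
      rintro rfl
      rw [pow_zero] at hk
      exact hZ1 (Subgroup.card_eq_one.mp hk)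
    have hk12 : k = 1 ∨ k = 2 := by omega
    rcases hk12 with rfl | rfl
    · exfalso
      rw [pow_one] at hk
      refine hno _ inf_le_left hk ⟨hNZ.le, ?_⟩
      intro L hL hNL
      rw [hNZ] at hNL
      by_contra hLM
      exact hL.1 (hM.2 L (lt_of_le_of_ne hNL (Ne.symm hLM)))
    · have hZA : A ⊓ Subgroup.centralizer (P : Set G) = A :=
        Subgroup.eq_of_le_of_card_ge inf_le_left (by rw [hk, hAcard])
      rw [hZA] at hNZ
      exact (Subgroup.centralizer_le_normalizer _).trans hNZ.le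
  · unfold NonUniq at hno
    push Not at hno
    obtain ⟨A₀, hA₀A, hA₀card, hN, -⟩ := hno
    exact ((Subgroup.centralizer_le (SetLike.coe_subset_coe.mpr hA₀A)).trans
      (Subgroup.centralizer_le_normalizer _)).trans hN

/-- **Bender–Glauberman Theorem 12.4** given (D) and Step 2. -/
theorem thm124 (hG : Cfsg.IsMinSimpleOddOrder G) (hD : HypD G) (hα : HypAlpha G)
    (M : Subgroup G) (hM : IsCoatom M) (p : ℕ) [hp : Fact p.Prime] (A : Subgroup G)
    (hA : A ≤ M ∧ Cfsg.IsElementaryAbelian p A ∧ Nat.card A = p ^ 2) :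
    Subgroup.centralizer (A : Set G) ≤ M ∧
      ((∀ A₀ : Subgroup G, A₀ ≤ A → Nat.card A₀ = p →
          ¬ (Subgroup.normalizer (A₀ : Set G) ≤ M ∧ ∀ L : Subgroup G, IsCoatom L →
            Subgroup.normalizer (A₀ : Set G) ≤ L → L = M)) →
        p ∈ Cfsg.sigma M ∧ Cfsg.alphaCore M = ⊥ ∧ Group.IsNilpotent (Cfsg.sigmaCore M)) :=
  ⟨thm124a hG hD hα hM hA.1 hA.2.1 hA.2.2,
    fun hno => thm124b hG hD hα hM hA.1 hA.2.1 hA.2.2 hno⟩

end Cfsg.Agent.Lead.BG12
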