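import Mathlib
import Cfsg.Prelude
import Cfsg.Agent.Lead.BG124b
import Cfsg.Agent.Lead.BG1012d
import Cfsg.Agent.Helper4.BG12a
import Cfsg.Agent.Helper4.SylowCoprime
import Cfsg.Agent.Helper1.CNGroup

set_option autoImplicit false
set_option linter.unusedSectionVars false
set_option linter.unusedVariables false

/-!
Bender–Glauberman Theorem 12.7 (`nonabelian_tau2`): general preparations.
-/

namespace Cfsg.Agent.Lead.BG127

open Cfsg Cfsg.Agent.Helper1 Cfsg.Agent.Helper2 Cfsg.Agent.Helper1.BGT Cfsg.Agent.Helper1.BGU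
  Cfsg.Agent.Helper1.BGV Cfsg.Agent.Helper1.BGW Cfsg.Agent.Helper1.BGX Cfsg.Agent.Lead.BG12
open scoped commutatorElement Pointwise

universe u

variable {G : Type u} [Group G] [Finite G]

omit [Finite G] in
/-- conjugating the centralizer of a cyclic subgroup -/
theorem conj_mem_centralizer_zpowers {x c : G} (g : G)
    (hc : c ∈ Subgroup.centralizer ((Subgroup.zpowers x : Subgroup G) : Set G)) :
    g * c * g⁻¹ ∈
      Subgroup.centralizer ((Subgroup.zpowers (g * x * g⁻¹) : Subgroup G) : Set G) := by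
  have h1 : x * c = c * x := Subgroup.mem_centralizer_iff.1 hc x (Subgroup.mem_zpowers x)
  have h2 : Subgroup.zpowers (g * x * g⁻¹) ≤ Subgroup.centralizer ({g * c * g⁻¹} : Set G) := by
    rw [Subgroup.zpowers_le]
    refine Subgroup.mem_centralizer_iff.2 ?_
    intro y hy
    rw [Set.mem_singleton_iff] at hy
    subst hy
    calc g * c * g⁻¹ * (g * x * g⁻¹) = g * (c * x) * g⁻¹ := by group
      _ = g * (x * c) * g⁻¹ := by rw [h1]
      _ = g * x * g⁻¹ * (g * c * g⁻¹) := by group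
  refine Subgroup.mem_centralizer_iff.2 ?_
  intro y hy
  exact (Subgroup.mem_centralizer_iff.1 (h2 hy) _ rfl).symm

/-- an `r`-group normalizing a group `A` of order `p ^ 2` centralizes it unless `r` divides
`p ^ 2 - 1` or `p ^ 2 - p` -/
theorem le_centralizer_of_isPGroup_of_not_dvd {p r : ℕ} [hp : Fact p.Prime] [hr : Fact r.Prime]
    {A R : Subgroup G} (hAcard : Nat.card A = p ^ 2) (hR : IsPGroup r ↥R)
    (hRN : R ≤ Subgroup.normalizer (A : Set G)) (h1 : ¬ r ∣ p ^ 2 - 1) (h2 : ¬ r ∣ p ^ 2 - p) :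
    A ≤ Subgroup.centralizer (R : Set G) := by
  have h := Cfsg.Agent.Helper4.card_modEq_card_inf_centralizer R A hR hRN
  have hdvd : Nat.card ↥(A ⊓ Subgroup.centralizer (R : Set G)) ∣ p ^ 2 := by
    rw [← hAcard]
    exact Subgroup.card_dvd_of_le inf_le_left
  obtain ⟨k, hk2, hk⟩ := (Nat.dvd_prime_pow hp.out).1 hdvd
  rw [hAcard, hk] at h
  have hp1 := hp.out.one_lt
  have hk012 : k = 0 ∨ k = 1 ∨ k = 2 := by omega
  rcases hk012 with rfl | rfl | rfl
  · exfalso
    rw [pow_zero] at h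
    have h3 : 1 ≤ p ^ 2 := Nat.one_le_pow _ _ hp.out.pos
    exact h1 ((Nat.modEq_iff_dvd' h3).1 h.symm)
  · exfalso
    rw [pow_one] at h
    have h3 : p ≤ p ^ 2 := by nlinarith
    exact h2 ((Nat.modEq_iff_dvd' h3).1 h.symm)
  · have : A ⊓ Subgroup.centralizer (R : Set G) = A :=
      Subgroup.eq_of_le_of_card_ge inf_le_left (by rw [hk, hAcard])
    exact inf_eq_left.1 this

/-- arithmetic: an odd prime `r ≠ p` dividing `p ^ 2 - 1` or `p ^ 2 - p` (`p` odd) is less than
`p` -/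
theorem lt_of_dvd_sq_sub {p r : ℕ} (hp : p.Prime) (hr : r.Prime) (hp2 : p ≠ 2) (hr2 : r ≠ 2)
    (hne : r ≠ p) (h : r ∣ p ^ 2 - 1 ∨ r ∣ p ^ 2 - p) : r < p := by
  have hp3 : 3 ≤ p := by
    have := hp.two_le
    omega
  have hpodd : Odd p := hp.odd_of_ne_two hp2
  have key1 : r ∣ p - 1 → r < p := by
    intro hd
    have : r ≤ p - 1 := Nat.le_of_dvd (by omega) hd
    omega
  have key2 : r ∣ p + 1 → r < p := by
    intro hd
    obtain ⟨m, hm⟩ := hpodd
    have h1 : p + 1 = 2 * (m + 1) := by omega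
    rw [h1] at hd
    have h2 : r ∣ m + 1 := by
      rcases (hr.dvd_mul).1 hd with h3 | h3
      · exfalso
        exact hr2 ((Nat.prime_dvd_prime_iff_eq hr Nat.prime_two).1 h3)
      · exact h3
    have : r ≤ m + 1 := Nat.le_of_dvd (by omega) h2
    omega
  rcases h with h | h
  · have h1 : p ^ 2 - 1 = (p - 1) * (p + 1) := by
      have : p ^ 2 = (p - 1) * (p + 1) + 1 := by
        obtain ⟨k, rfl⟩ : ∃ k, p = k + 1 := ⟨p - 1, by omega⟩
        simp
        ring
      omega
    rw [h1] at h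
    rcases (hr.dvd_mul).1 h with h3 | h3
    · exact key1 h3
    · exact key2 h3
  · have h1 : p ^ 2 - p = p * (p - 1) := by
      obtain ⟨k, rfl⟩ : ∃ k, p = k + 1 := ⟨p - 1, by omega⟩
      simp
      ring_nf
      omega
    rw [h1] at h
    rcases (hr.dvd_mul).1 h with h3 | h3
    · exfalso
      exact hne ((Nat.prime_dvd_prime_iff_eq hr hp).1 h3)
    · exact key1 h3

/-- a conjugate of `M_σ` inside `M` is `M_σ`, so the conjugating element lies in `M` -/
theorem mem_of_conj_sigmaCore_le (hG : Cfsg.IsMinSimpleOddOrder G) {M : Subgroup G}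
    (hM : IsCoatom M) {g : G} (h : MulAut.conj g • Cfsg.sigmaCore M ≤ M) : g ∈ M := by
  have hhall := (Cfsg.Agent.Lead.BG12.sigmaCore_hall hG M hM).1
  have hcop : (Nat.card (Cfsg.sigmaCore M)).Coprime ((Cfsg.sigmaCore M).relIndex M) := by
    apply Nat.coprime_of_dvd
    intro r hr h1 h2
    exact hhall.2.2 r hr (hhall.2.1 r hr h1) h2
  have h3 : MulAut.conj g • Cfsg.sigmaCore M ≤ Cfsg.sigmaCore M :=
    le_of_normal_hall_rel sigmaCore_le (le_normalizer_sigmaCore M) h hcop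
      (by rw [card_conj_smul])
  have h4 : MulAut.conj g • Cfsg.sigmaCore M = Cfsg.sigmaCore M :=
    Subgroup.eq_of_le_of_card_ge h3 (by rw [card_conj_smul])
  have h5 := mem_normalizer_of_conj_smul_eq h4
  have hσ1 : Cfsg.sigmaCore M ≠ ⊥ := sigmaCore_ne_bot hG hM
  have hσtop : Cfsg.sigmaCore M ≠ ⊤ := by
    intro h6
    exact hM.1 (top_le_iff.1 (h6 ▸ (sigmaCore_le (M := M))))
  rw [normalizer_eq_of_coatom hG hM (le_normalizer_sigmaCore M) hσ1 hσtop] at h5
  exact h5

end Cfsg.Agent.Lead.BG127
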