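import Mathlib
import Cfsg.Prelude
import Cfsg.Agent.Lead.BG127a
import Cfsg.Agent.Helper1.TypeP
import Cfsg.Agent.Helper1.ChiefFitting

set_option autoImplicit false
set_option linter.unusedSectionVars false
set_option linter.unusedVariables false

/-!
Bender–Glauberman Theorem 12.7 (`nonabelian_tau2`): general preparations, continued.
-/

namespace Cfsg.Agent.Lead.BG127

open Cfsg Cfsg.Agent.Helper1 Cfsg.Agent.Helper2 Cfsg.Agent.Helper1.BGT Cfsg.Agent.Helper1.BGU
  Cfsg.Agent.Helper1.BGV Cfsg.Agent.Helper1.BGW Cfsg.Agent.Helper1.BGX Cfsg.Agent.Lead.BG12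
open scoped commutatorElement Pointwise

universe u

variable {G : Type u} [Group G] [Finite G]

/-- complements of `M_σ` in `M` are conjugate in `M` -/
theorem exists_conj_compl (hG : Cfsg.IsMinSimpleOddOrder G) {M : Subgroup G} (hM : IsCoatom M)
    {E E' : Subgroup G} (hE : Cfsg.IsComplIn E (Cfsg.sigmaCore M) M)
    (hE' : Cfsg.IsComplIn E' (Cfsg.sigmaCore M) M) :
    ∃ m ∈ M, MulAut.conj m • E' = E := by
  have hsolv : Group.IsSolvable ↥M := hG.2.2.2 M hM.1
  have h1 := IsComplIn_card_mul hE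
  have h1' := IsComplIn_card_mul hE'
  have hcard : Nat.card E' = Nat.card E :=
    Nat.eq_of_mul_eq_mul_right Nat.card_pos (h1'.trans h1.symm)
  have hhall := (Cfsg.Agent.Lead.BG12.sigmaCore_hall hG M hM).1
  have hrel : (Cfsg.sigmaCore M).relIndex M = Nat.card E := by
    have h2 := relIndex_mul_card_of_le (sigmaCore_le (M := M))
    rw [← h1] at h2
    exact Nat.eq_of_mul_eq_mul_right Nat.card_pos h2
  have hd : Cfsg.Agent.Helper3.PiDecomp (Cfsg.sigma M)ᶜ (Nat.card M) (Nat.card E)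
      (Nat.card (Cfsg.sigmaCore M)) := by
    refine ⟨h1.symm, ?_, ?_⟩
    · intro r hr hrd hrσ
      exact hhall.2.2 r hr hrσ (hrel ▸ hrd)
    · intro r hr hrd h
      exact h (hhall.2.1 r hr hrd)
  exact (Cfsg.Agent.Helper3.hall_internal M hsolv hd).1 E' E hE'.1 hE.1 hcard rfl

/-- for `q ∈ τ₂(M)`, a complement `E` of `M_σ` contains an elementary abelian subgroup of order
`q ^ 2` -/
theorem exists_elementary_le_compl (hG : Cfsg.IsMinSimpleOddOrder G) {M : Subgroup G}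
    (hM : IsCoatom M) {E : Subgroup G} (hE : Cfsg.IsComplIn E (Cfsg.sigmaCore M) M) {q : ℕ}
    [hq : Fact q.Prime] (hqτ : q ∈ Cfsg.tau2 M) :
    ∃ B : Subgroup G, B ≤ E ∧ Cfsg.IsElementaryAbelian q B ∧ Nat.card B = q ^ 2 := by
  obtain ⟨-, hqσ, hr2, hr1⟩ := hqτ
  obtain ⟨F, hFM, hFe, hFcard⟩ := hasEA_of_not_pRankLE hr1
  have hFq : IsPGroup q ↥F := isElementaryAbelian_isPGroup hFe
  obtain ⟨k, hk⟩ := IsPGroup.iff_card.mp hFq
  have hle : Nat.card F ≤ q ^ 2 := by
    by_contra hlt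
    push Not at hlt
    exact not_pRankLE_of_hasEA ⟨F, hFM, hFe, hlt⟩ hr2
  have hFc : Nat.card F = q ^ 2 := by
    rw [hk] at hFcard hle ⊢
    have h1 : 1 < k := (Nat.pow_lt_pow_iff_right hq.out.one_lt).1 hFcard
    have h2 : k ≤ 2 := (Nat.pow_le_pow_iff_right hq.out.one_lt).1 hle
    have : k = 2 := by omega
    rw [this]
  have hFσ : ∀ r : ℕ, r.Prime → r ∣ Nat.card F → r ∉ Cfsg.sigma M := by
    intro r hr hrd
    rw [hFc] at hrd
    have : r = q := (Nat.prime_dvd_prime_iff_eq hr hq.out).1 (hr.dvd_of_dvd_pow hrd)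
    rw [this]
    exact hqσ
  obtain ⟨E', hE', hFE'⟩ := exists_compl_sigmaCore_ge hG hM hFM hFσ
  obtain ⟨m, hm, hmE⟩ := exists_conj_compl hG hM hE hE'
  refine ⟨MulAut.conj m • F, ?_, ?_, ?_⟩
  · rw [← hmE]
    exact conj_smul_mono hFE'
  · constructor
    · refine ⟨⟨?_⟩⟩
      rintro ⟨x, hx⟩ ⟨y, hy⟩
      apply Subtype.ext
      show x * y = y * x
      rw [mem_conj_smul] at hx hy
      have := isElementaryAbelian_commute hFe hx hy
      calc x * y = m * ((m⁻¹ * x * m) * (m⁻¹ * y * m)) * m⁻¹ := by group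
        _ = m * ((m⁻¹ * y * m) * (m⁻¹ * x * m)) * m⁻¹ := by rw [this]
        _ = y * x := by group
    · intro x hx
      rw [mem_conj_smul] at hx
      have := hFe.2 _ hx
      have h2 : x = m * (m⁻¹ * x * m) * m⁻¹ := by group
      rw [h2, conj_pow, this]
      group
  · rw [card_conj_smul, hFc]

/-- if all Sylow `p`-subgroups of `M` are abelian, then two elements of `M` lying in a common
`p`-subgroup commute -/
theorem commute_of_sylow_abelian {M : Subgroup G} {p : ℕ} [hp : Fact p.Prime]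
    (hab : ∀ P : Sylow p M, IsMulCommutative (P : Subgroup M)) {S : Subgroup G}
    (hS : IsPGroup p ↥S) {x y : G} (hx : x ∈ S ⊓ M) (hy : y ∈ S ⊓ M) : x * y = y * x := by
  have hT : IsPGroup p ↥((S ⊓ M).subgroupOf M) :=
    (hS.to_le inf_le_left).comap_subtype
  obtain ⟨P, hP⟩ := hT.exists_le_sylow
  have hxP : (⟨x, hx.2⟩ : ↥M) ∈ (P : Subgroup M) := hP (Subgroup.mem_subgroupOf.2 hx)
  have hyP : (⟨y, hy.2⟩ : ↥M) ∈ (P : Subgroup M) := hP (Subgroup.mem_subgroupOf.2 hy)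
  have h1 := (hab P).is_comm.comm ⟨_, hxP⟩ ⟨_, hyP⟩
  have h2 := congrArg (fun t : ↥(P : Subgroup M) => ((t : ↥M) : G)) h1
  exact h2

/-- rank one: an element of order `r` commuting with `z₀` of order `r` is a power of `z₀` -/
theorem mem_zpowers_of_rank_one {M : Subgroup G} {r : ℕ} [hr : Fact r.Prime]
    (h1 : Cfsg.PRankLE r 1 ↥M) {z₀ y : G} (hz₀M : z₀ ∈ M) (hz₀1 : z₀ ≠ 1) (hz₀r : z₀ ^ r = 1)
    (hyM : y ∈ M) (hyr : y ^ r = 1) (hc : z₀ * y = y * z₀) : y ∈ Subgroup.zpowers z₀ := by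
  by_contra hy
  have hyC : Subgroup.zpowers y ≤
      Subgroup.centralizer ((Subgroup.zpowers z₀ : Subgroup G) : Set G) := by
    rw [Subgroup.zpowers_le]
    have h2 : Subgroup.zpowers z₀ ≤ Subgroup.centralizer ({y} : Set G) := by
      rw [Subgroup.zpowers_le]
      refine Subgroup.mem_centralizer_iff.2 ?_
      intro t ht
      rw [Set.mem_singleton_iff] at ht
      subst ht
      exact hc.symm
    refine Subgroup.mem_centralizer_iff.2 ?_
    intro t ht
    exact (Subgroup.mem_centralizer_iff.1 (h2 ht) _ rfl).symm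
  have hBe := Cfsg.Agent.Helper1.SCN3.elementary_sup_of_le_centralizer
    (Cfsg.Agent.Helper1.SCN3.elementary_zpowers hz₀r)
    (Cfsg.Agent.Helper1.SCN3.elementary_zpowers hyr) hyC
  have hBM : Subgroup.zpowers z₀ ⊔ Subgroup.zpowers y ≤ M :=
    sup_le (Subgroup.zpowers_le.2 hz₀M) (Subgroup.zpowers_le.2 hyM)
  have hlt : Subgroup.zpowers z₀ < Subgroup.zpowers z₀ ⊔ Subgroup.zpowers y := by
    refine lt_of_le_of_ne le_sup_left ?_
    intro h
    apply hy
    rw [h]
    exact Subgroup.mem_sup_right (Subgroup.mem_zpowers y)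
  have hcardlt : r ^ 1 < Nat.card ↥(Subgroup.zpowers z₀ ⊔ Subgroup.zpowers y) := by
    have h3 : Nat.card (Subgroup.zpowers z₀) = r := by
      rw [Nat.card_zpowers]
      exact orderOf_eq_prime hz₀r hz₀1
    rw [pow_one, ← h3]
    exact Cfsg.Agent.Lead.card_lt_of_lt hlt
  exact not_pRankLE_of_hasEA ⟨_, hBM, hBe, hcardlt⟩ h1

/-- Generation: an `A`-invariant `p'`-subgroup `X` lies in `K` as soon as `X ∩ C(B) ≤ K` for
every nonidentity cyclic subgroup `B` of `A`. -/
theorem le_of_forall_point {p : ℕ} [hp : Fact p.Prime] {A X K : Subgroup G}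
    (hAe : Cfsg.IsElementaryAbelian p A) (hAcard : Nat.card A = p ^ 2)
    (hpX : ¬ p ∣ Nat.card X) (hAX : A ≤ Subgroup.normalizer (X : Set G))
    (h : ∀ b ∈ A, b ≠ 1 →
      X ⊓ Subgroup.centralizer ((Subgroup.zpowers b : Subgroup G) : Set G) ≤ K) :
    X ≤ K := by
  have hgen := Cfsg.Agent.Helper2.le_iSup_hyperplane_centralizers p (Nat.card A) A X rfl hAe hpX hAX
  refine hgen.trans (iSup_le ?_)
  rintro ⟨Bs, hBsA, hBsi⟩
  have hBs1 : 1 < Nat.card Bs := by
    have h2 : Nat.card A = Nat.card Bs * Bs.relIndex A :=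
      (relIndex_mul_card_of_le hBsA).symm.trans (mul_comm _ _)
    by_contra hle
    have h3 : Nat.card Bs = 1 := by
      have : 0 < Nat.card Bs := Nat.card_pos
      omega
    rw [h3, one_mul, hAcard] at h2
    have h4 : p < p ^ 2 := by
      have := hp.out.one_lt
      nlinarith
    omega
  obtain ⟨b, hb, hb1⟩ := exists_ne_one_of_one_lt_card hBs1
  refine le_trans (inf_le_inf_left _ (Subgroup.centralizer_le ?_)) (h b (hBsA hb) hb1)
  intro z hz
  exact (Subgroup.zpowers_le.2 hb) hz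

/-- a nilpotent subgroup normalized by `M` lies in `F(M)` -/
theorem le_fittingOf_of_normal_nilpotent {M N : Subgroup G} (hNM : N ≤ M)
    (hMN : M ≤ Subgroup.normalizer (N : Set G)) (hnil : Group.IsNilpotent ↥N) :
    N ≤ Cfsg.fittingOf M := by
  have h1 : (N.subgroupOf M).Normal := by
    constructor
    intro n hn g
    rw [Subgroup.mem_subgroupOf] at hn ⊢
    have := (Subgroup.mem_normalizer_iff.mp (hMN g.2) (n : G)).mp hn
    simpa using this
  have h2 : Group.IsNilpotent ↥(N.subgroupOf M) :=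
    Cfsg.Agent.Helper2.isNilpotent_of_mulEquiv (Subgroup.subgroupOfEquivOfLe hNM).symm hnil
  have h3 := le_fittingSubgroup h1 h2
  intro x hx
  exact ⟨⟨x, hNM hx⟩, h3 (Subgroup.mem_subgroupOf.2 hx), rfl⟩

/-- in a cyclic `p`-group `Y` with a subgroup `Z₀` of order `p`, every nonidentity element has a
power which is a nonidentity element of `Z₀` -/
theorem exists_pow_mem_of_isCyclic {p : ℕ} [hp : Fact p.Prime] {Y Z₀ : Subgroup G}
    (hYc : IsCyclic ↥Y) (hYp : IsPGroup p ↥Y) (hZY : Z₀ ≤ Y) (hZcard : Nat.card Z₀ = p)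
    {w : G} (hwY : w ∈ Y) (hw1 : w ≠ 1) : ∃ m : ℕ, w ^ m ∈ Z₀ ∧ w ^ m ≠ 1 := by
  obtain ⟨k, hk⟩ := exists_orderOf_eq_pow_of_mem_isPGroup hYp hwY
  have hk0 : k ≠ 0 := by
    rintro rfl
    rw [pow_zero, orderOf_eq_one_iff] at hk
    exact hw1 hk
  obtain ⟨j, rfl⟩ : ∃ j, k = j + 1 := ⟨k - 1, by omega⟩
  refine ⟨p ^ j, ?_, ?_⟩
  · have ho : orderOf (w ^ p ^ j) = p := by
      rw [orderOf_pow' w (pow_ne_zero j hp.out.ne_zero), hk, pow_succ,
        Nat.gcd_eq_right (Dvd.intro _ rfl), Nat.mul_div_cancel_left _ (pow_pos hp.out.pos j)]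
    have hmem : w ^ p ^ j ∈ Y := Y.pow_mem hwY _
    have hcard : Nat.card ((Subgroup.zpowers (w ^ p ^ j)).subgroupOf Y) =
        Nat.card (Z₀.subgroupOf Y) := by
      rw [Cfsg.Agent.Lead.card_subgroupOf_of_le (Subgroup.zpowers_le.2 hmem),
        Cfsg.Agent.Lead.card_subgroupOf_of_le hZY, Nat.card_zpowers, ho, hZcard]
    have heq := eq_of_card_eq_of_isCyclic hcard
    have h1 : (⟨w ^ p ^ j, hmem⟩ : ↥Y) ∈ (Subgroup.zpowers (w ^ p ^ j)).subgroupOf Y :=
      Subgroup.mem_subgroupOf.2 (Subgroup.mem_zpowers _)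
    rw [heq] at h1
    exact Subgroup.mem_subgroupOf.1 h1
  · intro h
    have h2 := orderOf_dvd_of_pow_eq_one h
    rw [hk] at h2
    have h3 : p ^ (j + 1) ≤ p ^ j := Nat.le_of_dvd (pow_pos hp.out.pos j) h2
    have h4 : p ^ j < p ^ (j + 1) := Nat.pow_lt_pow_right hp.out.one_lt (by omega)
    omega

end Cfsg.Agent.Lead.BG127
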