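import Mathlib
import Cfsg.Prelude
import Cfsg.Agent.Lead.BG127b

set_option autoImplicit false
set_option linter.unusedSectionVars false
set_option linter.unusedVariables false

/-!
Bender–Glauberman Theorem 12.7 (`nonabelian_tau2`): the configuration, parts (b) (order of `A₀`)
and (c).
-/

namespace Cfsg.Agent.Lead.BG127

open Cfsg Cfsg.Agent.Helper1 Cfsg.Agent.Helper2 Cfsg.Agent.Helper1.BGT Cfsg.Agent.Helper1.BGU
  Cfsg.Agent.Helper1.BGV Cfsg.Agent.Helper1.BGW Cfsg.Agent.Helper1.BGX Cfsg.Agent.Lead.BG12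
  Cfsg.Agent.Helper4.BG12
open scoped commutatorElement Pointwise

universe u

variable {G : Type u} [Group G] [Finite G]

/-- Theorem 12.5 for `p ∈ τ₂(M)`, given (D) and Step 2 -/
theorem tau2_thm125 (hG : Cfsg.IsMinSimpleOddOrder G) (hD : HypD G) (hα : HypAlpha G)
    {M : Subgroup G} (hM : IsCoatom M) {p : ℕ} [hp : Fact p.Prime] (hpτ : p ∈ Cfsg.tau2 M)
    {A : Subgroup G} (hA : A ≤ M ∧ Cfsg.IsElementaryAbelian p A ∧ Nat.card A = p ^ 2) :
    Group.IsNilpotent (Cfsg.sigmaCore M) ∧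
      (∀ P : Sylow p M, IsMulCommutative (P : Subgroup M) ∧
        (A ≤ (P : Subgroup M).map M.subtype →
          (∀ x ∈ (P : Subgroup M).map M.subtype, x ^ p = 1 ↔ x ∈ A) ∧
          ¬ Subgroup.normalizer ((((P : Subgroup M).map M.subtype : Subgroup G)) : Set G) ≤ M)) ∧
      M ≤ Subgroup.normalizer ((Cfsg.sigmaCore M ⊔ A : Subgroup G) : Set G) ∧
      Cfsg.sigmaCore M ⊓ Subgroup.centralizer (A : Set G) = ⊥ ∧
      (∀ Mstar : Subgroup G, IsCoatom Mstar → Mstar ≠ M → A ≤ Mstar →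
        Cfsg.sigmaCore M ⊓ Mstar = ⊥) ∧
      ∃ A₁ : Subgroup G, A₁ ≤ A ∧ Nat.card A₁ = p ∧
        Cfsg.sigmaCore M ⊓ Subgroup.centralizer (A₁ : Set G) = ⊥ := by
  obtain ⟨A₀, e⟩ := exists_exc_of_tau2 hG hM hpτ hA (thm124 hG hD hα M hM p A hA).2
  exact Cfsg.Agent.Helper4.BG12.Exc.thm125 e (hD M p A₀ A e)

/-- Corollary 12.6 for `p ∈ τ₂(M)`, given (D) and Step 2 -/
theorem tau2_cor126 (hG : Cfsg.IsMinSimpleOddOrder G) (hD : HypD G) (hα : HypAlpha G)
    {M : Subgroup G} (hM : IsCoatom M) {E : Subgroup G}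
    (hE : Cfsg.IsComplIn E (Cfsg.sigmaCore M) M) {p : ℕ} [hp : Fact p.Prime]
    (hpτ : p ∈ Cfsg.tau2 M) {A : Subgroup G}
    (hA : A ≤ E ∧ Cfsg.IsElementaryAbelian p A ∧ Nat.card A = p ^ 2) :
    (E ≤ Subgroup.normalizer (A : Set G) ∧ ∀ X : Subgroup G, X ≤ E → Nat.card X = p → X ≤ A) ∧
      (Subgroup.centralizer (A : Set G) ≤ M ⊓ Subgroup.normalizer (A : Set G) ∧
        M ⊓ Subgroup.normalizer (A : Set G) = E ∧
        ¬ Subgroup.normalizer (A : Set G) ≤ M) ∧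
      ∀ X : Subgroup G, X ≤ A → Nat.card X = p →
        Cfsg.sigmaCore M ⊓ Subgroup.centralizer (X : Set G) ≠ ⊥ →
        (Subgroup.centralizer (X : Set G) ≤ M ∧ ∀ L : Subgroup G, IsCoatom L →
          Subgroup.centralizer (X : Set G) ≤ L → L = M) := by
  have hA' : A ≤ M ∧ Cfsg.IsElementaryAbelian p A ∧ Nat.card A = p ^ 2 :=
    ⟨hA.1.trans hE.1, hA.2⟩
  have h16 := thm124 hG hD hα M hM p A hA'
  obtain ⟨A₀, e⟩ := exists_exc_of_tau2 hG hM hpτ hA' h16.2
  exact Cfsg.Agent.Helper4.BG12.Exc.cor126 e (hD M p A₀ A e) h16.1 hE hA.1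

/-- the standing context -/
structure Ctx (M E : Subgroup G) (p : ℕ) (A : Subgroup G) : Prop where
  min : Cfsg.IsMinSimpleOddOrder G
  hD : HypD G
  hα : HypAlpha G
  coatom : IsCoatom M
  compl : Cfsg.IsComplIn E (Cfsg.sigmaCore M) M
  tau : p ∈ Cfsg.tau2 M
  le : A ≤ E
  elem : Cfsg.IsElementaryAbelian p A
  card : Nat.card A = p ^ 2

variable {M E : Subgroup G} {p : ℕ} [hp : Fact p.Prime] {A : Subgroup G}

theorem Ctx.leM (c : Ctx M E p A) : A ≤ M := c.le.trans c.compl.1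

theorem Ctx.t125 (c : Ctx M E p A) :
    Group.IsNilpotent (Cfsg.sigmaCore M) ∧
      (∀ P : Sylow p M, IsMulCommutative (P : Subgroup M) ∧
        (A ≤ (P : Subgroup M).map M.subtype →
          (∀ x ∈ (P : Subgroup M).map M.subtype, x ^ p = 1 ↔ x ∈ A) ∧
          ¬ Subgroup.normalizer ((((P : Subgroup M).map M.subtype : Subgroup G)) : Set G) ≤ M)) ∧
      M ≤ Subgroup.normalizer ((Cfsg.sigmaCore M ⊔ A : Subgroup G) : Set G) ∧
      Cfsg.sigmaCore M ⊓ Subgroup.centralizer (A : Set G) = ⊥ ∧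
      (∀ Mstar : Subgroup G, IsCoatom Mstar → Mstar ≠ M → A ≤ Mstar →
        Cfsg.sigmaCore M ⊓ Mstar = ⊥) ∧
      ∃ A₁ : Subgroup G, A₁ ≤ A ∧ Nat.card A₁ = p ∧
        Cfsg.sigmaCore M ⊓ Subgroup.centralizer (A₁ : Set G) = ⊥ :=
  tau2_thm125 c.min c.hD c.hα c.coatom c.tau ⟨c.leM, c.elem, c.card⟩

theorem Ctx.c126 (c : Ctx M E p A) :
    (E ≤ Subgroup.normalizer (A : Set G) ∧ ∀ X : Subgroup G, X ≤ E → Nat.card X = p → X ≤ A) ∧
      (Subgroup.centralizer (A : Set G) ≤ M ⊓ Subgroup.normalizer (A : Set G) ∧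
        M ⊓ Subgroup.normalizer (A : Set G) = E ∧
        ¬ Subgroup.normalizer (A : Set G) ≤ M) ∧
      ∀ X : Subgroup G, X ≤ A → Nat.card X = p →
        Cfsg.sigmaCore M ⊓ Subgroup.centralizer (X : Set G) ≠ ⊥ →
        (Subgroup.centralizer (X : Set G) ≤ M ∧ ∀ L : Subgroup G, IsCoatom L →
          Subgroup.centralizer (X : Set G) ≤ L → L = M) :=
  tau2_cor126 c.min c.hD c.hα c.coatom c.compl c.tau ⟨c.le, c.elem, c.card⟩

theorem Ctx.cent_le (c : Ctx M E p A) : Subgroup.centralizer (A : Set G) ≤ M :=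
  c.c126.2.1.1.trans inf_le_left

theorem Ctx.hmax (c : Ctx M E p A) :
    ∀ B : Subgroup G, Cfsg.IsElementaryAbelian p B → A ≤ B → B = A :=
  (transHyp_of_not_mem_sigma c.min c.coatom c.tau.2.1 c.leM c.elem c.card).2

theorem Ctx.isPGroup (c : Ctx M E p A) : IsPGroup p ↥A := IsPGroup.of_card c.card

theorem Ctx.ne_bot (c : Ctx M E p A) : A ≠ ⊥ := by
  intro h
  have h1 := c.card
  rw [h, Subgroup.card_bot] at h1
  have h2 : 1 < p ^ 2 := Nat.one_lt_pow (by norm_num) hp.out.one_lt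
  omega

theorem Ctx.le_normalizer_sigmaCore (c : Ctx M E p A) :
    A ≤ Subgroup.normalizer ((Cfsg.sigmaCore M : Subgroup G) : Set G) :=
  c.leM.trans (Cfsg.Agent.Lead.BG12.le_normalizer_sigmaCore M)

theorem Ctx.not_dvd_card_sigmaCore (c : Ctx M E p A) : ¬ p ∣ Nat.card (Cfsg.sigmaCore M) :=
  fun hd => c.tau.2.1 (Cfsg.Agent.Lead.BG12.mem_sigma_of_dvd_card_sigmaCore hp.out hd)

theorem Ctx.comm (c : Ctx M E p A) {a b : G} (ha : a ∈ A) (hb : b ∈ A) : a * b = b * a :=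
  isElementaryAbelian_commute c.elem ha hb

theorem Ctx.le_centralizer (c : Ctx M E p A) : A ≤ Subgroup.centralizer (A : Set G) := by
  intro a ha
  refine Subgroup.mem_centralizer_iff.2 ?_
  intro b hb
  exact c.comm hb ha

theorem Ctx.card_zpowers (c : Ctx M E p A) {b : G} (hb : b ∈ A) (hb1 : b ≠ 1) :
    Nat.card (Subgroup.zpowers b) = p := card_zpowers_of_mem_elementary c.elem hb hb1

/-- a point with non-contained centralizer is regular -/
theorem Ctx.fpf_of_centralizer_not_le (c : Ctx M E p A) {X : Subgroup G} (hXA : X ≤ A)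
    (hXcard : Nat.card X = p) (hX : ¬ Subgroup.centralizer (X : Set G) ≤ M) :
    Cfsg.sigmaCore M ⊓ Subgroup.centralizer (X : Set G) = ⊥ := by
  by_contra h
  exact hX (c.c126.2.2 X hXA hXcard h).1

/-- conjugates of singular points under elements of `N(A)` outside `M` are regular -/
theorem Ctx.conj_regular (c : Ctx M E p A) {x : G} (hx : x ∈ A) (hx1 : x ≠ 1)
    (hsing : Cfsg.sigmaCore M ⊓
      Subgroup.centralizer ((Subgroup.zpowers x : Subgroup G) : Set G) ≠ ⊥)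
    {n : G} (hnN : n ∈ Subgroup.normalizer (A : Set G)) (hnM : n ∉ M) :
    Cfsg.sigmaCore M ⊓
      Subgroup.centralizer ((Subgroup.zpowers (n * x * n⁻¹) : Subgroup G) : Set G) = ⊥ := by
  by_contra h
  have hG := c.min
  have hM := c.coatom
  have hx' : n * x * n⁻¹ ∈ A := (Subgroup.mem_normalizer_iff.1 hnN x).1 hx
  have hx'1 : n * x * n⁻¹ ≠ 1 := by
    intro h1
    apply hx1
    have : x = n⁻¹ * (n * x * n⁻¹) * n := by group
    rw [this, h1]
    group
  obtain ⟨h1, -⟩ := c.c126.2.2 _ (Subgroup.zpowers_le.2 hx) (c.card_zpowers hx hx1) hsing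
  obtain ⟨-, h2⟩ := c.c126.2.2 _ (Subgroup.zpowers_le.2 hx') (c.card_zpowers hx' hx'1) h
  -- `C(x')` lies in the conjugate of `M`
  have h3 : Subgroup.centralizer ((Subgroup.zpowers (n * x * n⁻¹) : Subgroup G) : Set G) ≤
      MulAut.conj n • M := by
    intro y hy
    rw [mem_conj_smul]
    apply h1
    have := conj_mem_centralizer_zpowers n⁻¹ hy
    have h4 : n⁻¹ * (n * x * n⁻¹) * n⁻¹⁻¹ = x := by group
    rw [h4] at this
    simpa using this
  have h5 := h2 _ (isCoatom_conj_smul n hM) h3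
  have h6 := mem_normalizer_of_conj_smul_eq h5
  have hM1 : M ≠ ⊥ := coatom_ne_bot hG hM
  rw [normalizer_eq_of_coatom hG hM Subgroup.le_normalizer hM1 hM.1] at h6
  exact hnM h6

/-- there is a singular point -/
theorem Ctx.exists_singular (c : Ctx M E p A) :
    ∃ x ∈ A, x ≠ 1 ∧ Cfsg.sigmaCore M ⊓
      Subgroup.centralizer ((Subgroup.zpowers x : Subgroup G) : Set G) ≠ ⊥ := by
  by_contra hcon
  push Not at hcon
  have h1 : Cfsg.sigmaCore M ≤ Subgroup.centralizer (A : Set G) := by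
    apply le_centralizer_of_forall_point c.elem c.card c.not_dvd_card_sigmaCore
      c.le_normalizer_sigmaCore
    intro b hb hb1
    rw [hcon b hb hb1]
    exact bot_le
  have h2 := c.t125.2.2.2.1
  rw [inf_eq_left.2 h1] at h2
  exact sigmaCore_ne_bot c.min c.coatom h2

end Cfsg.Agent.Lead.BG127
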