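import Mathlib
import Cfsg.Prelude
import Cfsg.Agent.Lead.BG127c

set_option autoImplicit false
set_option linter.unusedSectionVars false
set_option linter.unusedVariables false

/-!
Bender–Glauberman Theorem 12.7 (`nonabelian_tau2`): the configuration with a nonabelian Sylow
subgroup; parts (b) (order of `A₀`) and (c).
-/

namespace Cfsg.Agent.Lead.BG127

open Cfsg Cfsg.Agent.Helper1 Cfsg.Agent.Helper2 Cfsg.Agent.Helper1.BGT Cfsg.Agent.Helper1.BGU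
  Cfsg.Agent.Helper1.BGV Cfsg.Agent.Helper1.BGW Cfsg.Agent.Helper1.BGX Cfsg.Agent.Lead.BG12
  Cfsg.Agent.Helper4.BG12
open scoped commutatorElement Pointwise

universe u

variable {G : Type u} [Group G] [Finite G]

/-- the configuration: `S` a nonabelian `p`-subgroup containing `A` with the data of
Lemma 10.12, and a singular point `⟨x₀⟩` -/
structure Big (M E : Subgroup G) (p : ℕ) (A S Z₀ Y : Subgroup G) (x₀ : G) : Prop where
  ctx : Ctx M E p A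
  hSp : IsPGroup p ↥S
  hAS : A ≤ S
  hSM : ¬ S ≤ M
  hZcard : Nat.card Z₀ = p
  hZA : Z₀ ≤ A
  hZc : Z₀ ≤ Subgroup.centralizer (S : Set G)
  hYc : IsCyclic ↥Y
  hZY : Z₀ ≤ Y
  hYS : Y ≤ S
  hdec : ∀ x ∈ A, x ∉ Z₀ → Subgroup.zpowers x ⊓ Y = ⊥ ∧
      Subgroup.zpowers x ⊔ Y = S ⊓ Subgroup.centralizer (A : Set G)
  htrans : ∀ x y, x ∈ A → x ∉ Z₀ → y ∈ A → y ∉ Z₀ →
      ∃ g ∈ S, g ∈ Subgroup.normalizer (A : Set G) ∧
        Subgroup.zpowers y = Subgroup.zpowers (g * x * g⁻¹)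
  hx₀ : x₀ ∈ A
  hx₀1 : x₀ ≠ 1
  hsing : Cfsg.sigmaCore M ⊓
      Subgroup.centralizer ((Subgroup.zpowers x₀ : Subgroup G) : Set G) ≠ ⊥

variable {M E : Subgroup G} {p : ℕ} [hp : Fact p.Prime] {A S Z₀ Y : Subgroup G} {x₀ : G}

/-- a nonabelian `p`-subgroup is not contained in `M` -/
theorem Ctx.not_le_of_not_comm (c : Ctx M E p A) {S : Subgroup G} (hSp : IsPGroup p ↥S)
    (hS : ¬ IsMulCommutative ↥S) : ¬ S ≤ M := by
  intro hSM
  apply hS
  refine ⟨⟨?_⟩⟩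
  rintro ⟨x, hx⟩ ⟨y, hy⟩
  apply Subtype.ext
  exact commute_of_sylow_abelian (fun P => (c.t125.2.1 P).1) hSp
    (Subgroup.mem_inf.2 ⟨hx, hSM hx⟩) (Subgroup.mem_inf.2 ⟨hy, hSM hy⟩)

/-- existence of the configuration -/
theorem Ctx.exists_big (c : Ctx M E p A)
    (hS : ∀ S : Sylow p G, ¬ IsMulCommutative ((S : Subgroup G))) {P₀ : Subgroup G}
    (hP₀ : IsPGroup p ↥P₀) (hAP₀ : A ≤ P₀) :
    ∃ S Z₀ Y : Subgroup G, ∃ x₀ : G, P₀ ≤ S ∧ Big M E p A S Z₀ Y x₀ := by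
  obtain ⟨Q, hQ⟩ := hP₀.exists_le_sylow
  have hAQ : A ≤ (Q : Subgroup G) := hAP₀.trans hQ
  obtain ⟨Z₀, Y, hZcard, hZA, hZchar, hYc, hZY, hYS, hdec, htrans⟩ :=
    Cfsg.Agent.Lead.BG1012.basic_p2maxElem_structure c.min p A (Q : Subgroup G) c.elem c.card
      c.hmax Q.2 hAQ (hS Q)
  obtain ⟨x₀, hx₀, hx₀1, hsing⟩ := c.exists_singular
  refine ⟨(Q : Subgroup G), Z₀, Y, x₀, hQ, c, Q.2, hAQ, c.not_le_of_not_comm Q.2 (hS Q), hZcard,
    hZA, ?_, hYc, hZY, hYS, hdec, htrans, hx₀, hx₀1, hsing⟩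
  intro z hz
  exact ((hZchar z).1 hz).2.1

theorem Big.le_centralizer_Z (b : Big M E p A S Z₀ Y x₀) :
    S ≤ Subgroup.centralizer (Z₀ : Set G) := by
  intro s hs
  refine Subgroup.mem_centralizer_iff.2 ?_
  intro z hz
  exact (Subgroup.mem_centralizer_iff.1 (b.hZc hz) s hs).symm

theorem Big.Z_regular (b : Big M E p A S Z₀ Y x₀) :
    Cfsg.sigmaCore M ⊓ Subgroup.centralizer (Z₀ : Set G) = ⊥ :=
  b.ctx.fpf_of_centralizer_not_le b.hZA b.hZcard (fun h => b.hSM (b.le_centralizer_Z.trans h))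

theorem Big.zpowers_eq_Z (b : Big M E p A S Z₀ Y x₀) {y : G} (hy : y ∈ Z₀) (hy1 : y ≠ 1) :
    Subgroup.zpowers y = Z₀ :=
  Subgroup.eq_of_le_of_card_ge (Subgroup.zpowers_le.2 hy)
    (by rw [b.ctx.card_zpowers (b.hZA hy) hy1, b.hZcard])

theorem Big.x₀_not_mem (b : Big M E p A S Z₀ Y x₀) : x₀ ∉ Z₀ := by
  intro h
  apply b.hsing
  rw [b.zpowers_eq_Z h b.hx₀1]
  exact b.Z_regular

/-- elements of `S ∩ M` commute with `A` -/
theorem Big.commute_of_mem (b : Big M E p A S Z₀ Y x₀) {g a : G} (hgS : g ∈ S) (hgM : g ∈ M)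
    (ha : a ∈ A) : g * a = a * g :=
  commute_of_sylow_abelian (fun P => (b.ctx.t125.2.1 P).1) b.hSp
    (Subgroup.mem_inf.2 ⟨hgS, hgM⟩) (Subgroup.mem_inf.2 ⟨b.hAS ha, b.ctx.leM ha⟩)

/-- uniqueness of the singular point -/
theorem Big.uniq (b : Big M E p A S Z₀ Y x₀) {y : G} (hy : y ∈ A) (hy1 : y ≠ 1)
    (hne : Subgroup.zpowers y ≠ Subgroup.zpowers x₀) :
    Cfsg.sigmaCore M ⊓
      Subgroup.centralizer ((Subgroup.zpowers y : Subgroup G) : Set G) = ⊥ := by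
  by_cases hyZ : y ∈ Z₀
  · rw [b.zpowers_eq_Z hyZ hy1]
    exact b.Z_regular
  · obtain ⟨g, hgS, hgN, hg⟩ := b.htrans x₀ y b.hx₀ b.x₀_not_mem hy hyZ
    by_cases hgM : g ∈ M
    · exfalso
      apply hne
      rw [hg, b.commute_of_mem hgS hgM b.hx₀, mul_inv_cancel_right]
    · rw [hg]
      exact b.ctx.conj_regular b.hx₀ b.hx₀1 b.hsing hgN hgM

/-- `M_σ` centralizes the singular point -/
theorem Big.sigmaCore_le (b : Big M E p A S Z₀ Y x₀) :
    Cfsg.sigmaCore M ≤ Subgroup.centralizer ((Subgroup.zpowers x₀ : Subgroup G) : Set G) := by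
  apply le_of_forall_point b.ctx.elem b.ctx.card b.ctx.not_dvd_card_sigmaCore
    b.ctx.le_normalizer_sigmaCore
  intro y hy hy1
  by_cases hne : Subgroup.zpowers y = Subgroup.zpowers x₀
  · rw [hne]
    exact inf_le_right
  · rw [b.uniq hy hy1 hne]
    exact bot_le

/-- `A₀ = C_A(M_σ) = ⟨x₀⟩` -/
theorem Big.inf_eq (b : Big M E p A S Z₀ Y x₀) :
    A ⊓ Subgroup.centralizer ((Cfsg.sigmaCore M : Subgroup G) : Set G) = Subgroup.zpowers x₀ := by
  have hle : Subgroup.zpowers x₀ ≤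
      A ⊓ Subgroup.centralizer ((Cfsg.sigmaCore M : Subgroup G) : Set G) := by
    refine le_inf (Subgroup.zpowers_le.2 b.hx₀) ?_
    intro y hy
    refine Subgroup.mem_centralizer_iff.2 ?_
    intro s hs
    exact (Subgroup.mem_centralizer_iff.1 (b.sigmaCore_le hs) y hy).symm
  have hdvd : Nat.card ↥(A ⊓ Subgroup.centralizer ((Cfsg.sigmaCore M : Subgroup G) : Set G)) ∣
      p ^ 2 := by
    rw [← b.ctx.card]
    exact Subgroup.card_dvd_of_le inf_le_left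
  obtain ⟨k, hk2, hk⟩ := (Nat.dvd_prime_pow hp.out).1 hdvd
  have hx₀c := b.ctx.card_zpowers b.hx₀ b.hx₀1
  have hk2' : k ≠ 2 := by
    rintro rfl
    have h1 : A ⊓ Subgroup.centralizer ((Cfsg.sigmaCore M : Subgroup G) : Set G) = A :=
      Subgroup.eq_of_le_of_card_ge inf_le_left (by rw [hk, b.ctx.card])
    have h2 : A ≤ Subgroup.centralizer ((Cfsg.sigmaCore M : Subgroup G) : Set G) :=
      inf_eq_left.1 h1
    have h3 : Cfsg.sigmaCore M ≤ Subgroup.centralizer (A : Set G) := by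
      intro s hs
      refine Subgroup.mem_centralizer_iff.2 ?_
      intro a ha
      exact (Subgroup.mem_centralizer_iff.1 (h2 ha) s hs).symm
    have h4 := b.ctx.t125.2.2.2.1
    rw [inf_eq_left.2 h3] at h4
    exact sigmaCore_ne_bot b.ctx.min b.ctx.coatom h4
  have hk1 : 1 ≤ k := by
    have h1 := Subgroup.card_le_of_le hle
    rw [hx₀c, hk] at h1
    by_contra h0
    have : k = 0 := by omega
    rw [this, pow_zero] at h1
    have := hp.out.one_lt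
    omega
  have hk' : k = 1 := by omega
  rw [hk', pow_one] at hk
  exact (Subgroup.eq_of_le_of_card_ge hle (by rw [hk, hx₀c])).symm

theorem Big.card_inf (b : Big M E p A S Z₀ Y x₀) :
    Nat.card ↥(A ⊓ Subgroup.centralizer ((Cfsg.sigmaCore M : Subgroup G) : Set G)) = p := by
  rw [b.inf_eq]
  exact b.ctx.card_zpowers b.hx₀ b.hx₀1

theorem Big.inf_Z (b : Big M E p A S Z₀ Y x₀) : Subgroup.zpowers x₀ ⊓ Z₀ = ⊥ := by
  have h1 := (b.hdec x₀ b.hx₀ b.x₀_not_mem).1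
  exact le_bot_iff.1 (h1 ▸ inf_le_inf_left _ b.hZY)

/-- there is an element of `S ∩ N(A)` outside `M` -/
theorem Big.exists_g (b : Big M E p A S Z₀ Y x₀) :
    ∃ g ∈ S, g ∈ Subgroup.normalizer (A : Set G) ∧ g ∉ M := by
  have hZ1 : 1 < Nat.card Z₀ := by rw [b.hZcard]; exact hp.out.one_lt
  obtain ⟨z, hz, hz1⟩ := exists_ne_one_of_one_lt_card hZ1
  have hyA : x₀ * z ∈ A := A.mul_mem b.hx₀ (b.hZA hz)
  have hyZ : x₀ * z ∉ Z₀ := by
    intro h
    apply b.x₀_not_mem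
    have := Z₀.mul_mem h (Z₀.inv_mem hz)
    rwa [mul_inv_cancel_right] at this
  obtain ⟨g, hgS, hgN, hg⟩ := b.htrans x₀ (x₀ * z) b.hx₀ b.x₀_not_mem hyA hyZ
  refine ⟨g, hgS, hgN, ?_⟩
  intro hgM
  rw [b.commute_of_mem hgS hgM b.hx₀, mul_inv_cancel_right] at hg
  have h1 : x₀ * z ∈ Subgroup.zpowers x₀ := hg ▸ Subgroup.mem_zpowers _
  have h2 : z ∈ Subgroup.zpowers x₀ := by
    have := (Subgroup.zpowers x₀).mul_mem (Subgroup.inv_mem _ (Subgroup.mem_zpowers x₀)) h1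
    rwa [inv_mul_cancel_left] at this
  have h3 : z ∈ Subgroup.zpowers x₀ ⊓ Z₀ := Subgroup.mem_inf.2 ⟨h2, hz⟩
  rw [b.inf_Z] at h3
  exact hz1 (Subgroup.mem_bot.1 h3)

/-- **part (c)** -/
theorem Big.partc (b : Big M E p A S Z₀ Y x₀) (X : Subgroup G) (hXE : X ≤ E)
    (hXcard : Nat.card X = p)
    (hne : X ≠ A ⊓ Subgroup.centralizer ((Cfsg.sigmaCore M : Subgroup G) : Set G)) :
    Cfsg.sigmaCore M ⊓ Subgroup.centralizer (X : Set G) = ⊥ ∧
      ¬ Subgroup.centralizer (X : Set G) ≤ M := by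
  have c := b.ctx
  have hXA : X ≤ A := c.c126.1.2 X hXE hXcard
  have hX1 : 1 < Nat.card X := by rw [hXcard]; exact hp.out.one_lt
  obtain ⟨y, hy, hy1⟩ := exists_ne_one_of_one_lt_card hX1
  have hXy : Subgroup.zpowers y = X :=
    Subgroup.eq_of_le_of_card_ge (Subgroup.zpowers_le.2 hy)
      (by rw [c.card_zpowers (hXA hy) hy1, hXcard])
  rw [b.inf_eq, ← hXy] at hne
  rw [← hXy]
  refine ⟨b.uniq (hXA hy) hy1 hne, ?_⟩
  by_cases hyZ : y ∈ Z₀
  · rw [b.zpowers_eq_Z hyZ hy1]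
    exact fun h => b.hSM (b.le_centralizer_Z.trans h)
  · obtain ⟨g, hgS, hgN, hg⟩ := b.htrans x₀ y b.hx₀ b.x₀_not_mem (hXA hy) hyZ
    have hgM : g ∉ M := by
      intro hgM
      apply hne
      rw [hg, b.commute_of_mem hgS hgM b.hx₀, mul_inv_cancel_right]
    intro hle
    apply hgM
    apply mem_of_conj_sigmaCore_le c.min c.coatom
    intro s hs
    rw [mem_conj_smul] at hs
    apply hle
    rw [hg]
    have := conj_mem_centralizer_zpowers g (b.sigmaCore_le hs)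
    have h2 : g * (g⁻¹ * s * g) * g⁻¹ = s := by group
    rwa [h2] at this

end Cfsg.Agent.Lead.BG127
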