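import Mathlib
import Cfsg.Prelude
import Cfsg.Agent.Lead.BG127d

set_option autoImplicit false
set_option linter.unusedSectionVars false
set_option linter.unusedVariables false

/-!
Bender–Glauberman Theorem 12.7 (`nonabelian_tau2`): part (a), `τ₂(M) = {p}`.
-/

namespace Cfsg.Agent.Lead.BG127

open Cfsg Cfsg.Agent.Helper1 Cfsg.Agent.Helper2 Cfsg.Agent.Helper1.BGT Cfsg.Agent.Helper1.BGU
  Cfsg.Agent.Helper1.BGV Cfsg.Agent.Helper1.BGW Cfsg.Agent.Helper1.BGX Cfsg.Agent.Lead.BG12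
  Cfsg.Agent.Helper4.BG12
open scoped commutatorElement Pointwise

universe u

variable {G : Type u} [Group G] [Finite G]

variable {M E : Subgroup G} {p : ℕ} [hp : Fact p.Prime] {A : Subgroup G}

theorem Ctx.ne_two (c : Ctx M E p A) : p ≠ 2 := by
  rintro rfl
  have h1 : 2 ∣ Nat.card G := by
    have h2 : Nat.card A ∣ Nat.card G := Subgroup.card_subgroup_dvd_card A
    rw [c.card] at h2
    exact dvd_trans (dvd_pow_self 2 (by norm_num)) h2
  exact (Nat.not_even_iff_odd.mpr c.min.1) (even_iff_two_dvd.mpr h1)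

/-- elements of order `p` in a `p`-subgroup of `M` containing `A` lie in `A` -/
theorem Ctx.mem_of_pow_eq_one (c : Ctx M E p A) {T : Subgroup G} (hTp : IsPGroup p ↥T)
    (hTM : T ≤ M) (hAT : A ≤ T) {y : G} (hy : y ∈ T) (hyp : y ^ p = 1) : y ∈ A := by
  have hT' : IsPGroup p ↥(T.subgroupOf M) := hTp.comap_subtype
  obtain ⟨P, hP⟩ := hT'.exists_le_sylow
  have hTP : T ≤ (P : Subgroup M).map M.subtype := by
    intro t ht
    exact ⟨⟨t, hTM ht⟩, hP (Subgroup.mem_subgroupOf.2 ht), rfl⟩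
  exact (((c.t125.2.1 P).2 (hAT.trans hTP)).1 y (hTP hy)).1 hyp

/-- the `τ₂`-subgroups for different primes centralize each other -/
theorem Ctx.le_centralizer_of_ne (c : Ctx M E p A) {q : ℕ} [hq : Fact q.Prime] {B : Subgroup G}
    (cB : Ctx M E q B) (hpq : p ≠ q) : B ≤ Subgroup.centralizer (A : Set G) := by
  have hcop : (Nat.card A).Coprime (Nat.card B) := by
    rw [c.card, cB.card]
    exact Nat.Coprime.pow _ _ ((Nat.coprime_primes hp.out hq.out).2 hpq)
  have hdisj : A ⊓ B = ⊥ := disjoint_iff.1 (Subgroup.disjoint_of_coprime_natCard hcop)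
  intro b hb
  refine Subgroup.mem_centralizer_iff.2 ?_
  intro a ha
  have h1 : a * b * a⁻¹ ∈ B :=
    (Subgroup.mem_normalizer_iff.1 (cB.c126.1.1 (c.le ha)) b).1 hb
  have h2 : b * a⁻¹ * b⁻¹ ∈ A :=
    (Subgroup.mem_normalizer_iff.1 (c.c126.1.1 (cB.le hb)) a⁻¹).1 (A.inv_mem ha)
  have h3 : a * b * a⁻¹ * b⁻¹ ∈ A ⊓ B := by
    refine Subgroup.mem_inf.2 ⟨?_, B.mul_mem h1 (B.inv_mem hb)⟩
    have : a * b * a⁻¹ * b⁻¹ = a * (b * a⁻¹ * b⁻¹) := by group
    rw [this]
    exact A.mul_mem ha h2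
  rw [hdisj, Subgroup.mem_bot] at h3
  calc a * b = a * b * a⁻¹ * b⁻¹ * (b * a) := by group
    _ = b * a := by rw [h3, one_mul]

/-- `N(A) ≤ N(B)` for the `τ₂`-subgroups for different primes -/
theorem Ctx.normalizer_le (c : Ctx M E p A) {q : ℕ} [hq : Fact q.Prime] {B : Subgroup G}
    (cB : Ctx M E q B) (hpq : p ≠ q) :
    Subgroup.normalizer (A : Set G) ≤ Subgroup.normalizer (B : Set G) := by
  intro n hn
  apply Cfsg.Agent.Helper3.IrrCyclic.mem_normalizer_of_conj_le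
  intro b hb
  have hbC := c.le_centralizer_of_ne cB hpq hb
  have h1 : n * b * n⁻¹ ∈ Subgroup.centralizer (A : Set G) := by
    refine Subgroup.mem_centralizer_iff.2 ?_
    intro a ha
    have ha' : n⁻¹ * a * n ∈ A := by
      have := (Subgroup.mem_normalizer_iff.1 (Subgroup.inv_mem _ hn) a).1 ha
      simpa using this
    have h2 := Subgroup.mem_centralizer_iff.1 hbC _ ha'
    calc a * (n * b * n⁻¹) = n * ((n⁻¹ * a * n) * b) * n⁻¹ := by group
      _ = n * (b * (n⁻¹ * a * n)) * n⁻¹ := by rw [h2]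
      _ = n * b * n⁻¹ * a := by group
  have h2 : n * b * n⁻¹ ∈ E := by
    have := c.c126.2.1.1 h1
    rw [c.c126.2.1.2.1] at this
    exact this
  by_cases h3 : n * b * n⁻¹ = 1
  · rw [h3]; exact B.one_mem
  · have h4 : (n * b * n⁻¹) ^ q = 1 := by
      rw [conj_pow, cB.elem.2 b hb]
      group
    have h5 : Nat.card (Subgroup.zpowers (n * b * n⁻¹)) = q := by
      rw [Nat.card_zpowers]
      exact orderOf_eq_prime h4 h3
    exact cB.c126.1.2 _ (Subgroup.zpowers_le.2 h2) h5 (Subgroup.mem_zpowers _)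

/-- a `p`-group acting nontrivially on a group of order `q ^ 2` (`p`, `q` odd, distinct) has
`p < q` -/
theorem lt_of_not_le_centralizer {p q : ℕ} [hp : Fact p.Prime] [hq : Fact q.Prime]
    (hp2 : p ≠ 2) (hq2 : q ≠ 2) (hpq : p ≠ q) {B R : Subgroup G} (hBcard : Nat.card B = q ^ 2)
    (hR : IsPGroup p ↥R) (hRN : R ≤ Subgroup.normalizer (B : Set G))
    (hnot : ¬ B ≤ Subgroup.centralizer (R : Set G)) : p < q := by
  apply lt_of_dvd_sq_sub hq.out hp.out hq2 hp2 hpq
  by_contra hcon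
  push Not at hcon
  exact hnot (le_centralizer_of_isPGroup_of_not_dvd hBcard hR hRN hcon.1 hcon.2)

/-- commutators of elements of coprime order of `M'` lie in `M_α` -/
theorem commutator_mem_alphaCore (hG : Cfsg.IsMinSimpleOddOrder G) {M : Subgroup G}
    (hM : IsCoatom M) {x y : G} (hx : x ∈ ⁅M, M⁆) (hy : y ∈ ⁅M, M⁆)
    (hcop : (orderOf x).Coprime (orderOf y)) : x * y * x⁻¹ * y⁻¹ ∈ Cfsg.alphaCore M := by
  have hnil := (thm102 hG M hM).2.2.2.2
  rw [← Subgroup.map_subtype_commutator] at hx hy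
  obtain ⟨x', hx', rfl⟩ := hx
  obtain ⟨y', hy', rfl⟩ := hy
  set K := Cfsg.piCore (Cfsg.alpha M) ↥M with hK
  have hx'' : QuotientGroup.mk' K x' ∈ (commutator ↥M).map (QuotientGroup.mk' K) :=
    ⟨x', hx', rfl⟩
  have hy'' : QuotientGroup.mk' K y' ∈ (commutator ↥M).map (QuotientGroup.mk' K) :=
    ⟨y', hy', rfl⟩
  have hcop' : (orderOf (QuotientGroup.mk' K x')).Coprime (orderOf (QuotientGroup.mk' K y')) := by
    have h1 : orderOf (QuotientGroup.mk' K x') ∣ orderOf (M.subtype x') :=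
      (orderOf_map_dvd _ x').trans (by rw [orderOf_injective M.subtype M.subtype_injective])
    have h2 : orderOf (QuotientGroup.mk' K y') ∣ orderOf (M.subtype y') :=
      (orderOf_map_dvd _ y').trans (by rw [orderOf_injective M.subtype M.subtype_injective])
    exact Nat.Coprime.of_dvd h1 h2 hcop
  have hc := commute_of_coprime_orderOf_of_mem hnil hx'' hy'' hcop'
  have h3 : QuotientGroup.mk' K (x' * y' * x'⁻¹ * y'⁻¹) = 1 := by
    rw [map_mul, map_mul, map_mul, map_inv, map_inv, hc]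
    group
  have h4 : x' * y' * x'⁻¹ * y'⁻¹ ∈ K := by
    rw [← QuotientGroup.ker_mk' K]
    exact h3
  exact ⟨x' * y' * x'⁻¹ * y'⁻¹, h4, by simp⟩

end Cfsg.Agent.Lead.BG127
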