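import Mathlib
import Cfsg.Prelude
import Cfsg.Agent.Lead.BG127e

set_option autoImplicit false
set_option linter.unusedSectionVars false
set_option linter.unusedVariables false
set_option maxHeartbeats 800000

/-!
Bender–Glauberman Theorem 12.7 (`nonabelian_tau2`): part (a), `τ₂(M) = {p}`, main argument.
-/

namespace Cfsg.Agent.Lead.BG127

open Cfsg Cfsg.Agent.Helper1 Cfsg.Agent.Helper2 Cfsg.Agent.Helper1.BGT Cfsg.Agent.Helper1.BGU
  Cfsg.Agent.Helper1.BGV Cfsg.Agent.Helper1.BGW Cfsg.Agent.Helper1.BGX Cfsg.Agent.Lead.BG12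
  Cfsg.Agent.Helper4.BG12
open scoped commutatorElement Pointwise

universe u

variable {G : Type u} [Group G] [Finite G]

variable {M E : Subgroup G} {p : ℕ} [hp : Fact p.Prime] {A S Z₀ Y : Subgroup G} {x₀ : G}

omit [Finite G] in
theorem mem_centralizer_of_le_centralizer_zpowers {B : Subgroup G} {g : G}
    (h : B ≤ Subgroup.centralizer ((Subgroup.zpowers g : Subgroup G) : Set G)) :
    g ∈ Subgroup.centralizer (B : Set G) := by
  refine Subgroup.mem_centralizer_iff.2 ?_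
  intro b hb
  exact (Subgroup.mem_centralizer_iff.1 (h hb) g (Subgroup.mem_zpowers g)).symm

/-- no other prime lies in `τ₂(M)` -/
theorem Big.false_of_tau2 (b : Big M E p A S Z₀ Y x₀) {q : ℕ} [hq : Fact q.Prime]
    (hqτ : q ∈ Cfsg.tau2 M) (hne : q ≠ p) : False := by
  have c := b.ctx
  have hG := c.min
  have hM := c.coatom
  obtain ⟨B, hBE, hBe, hBcard⟩ := exists_elementary_le_compl hG hM c.compl hqτ
  have cB : Ctx M E q B := ⟨hG, c.hD, c.hα, hM, c.compl, hqτ, hBE, hBe, hBcard⟩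
  obtain ⟨g, hgS, hgN, hgM⟩ := b.exists_g
  have hpq : p ≠ q := Ne.symm hne
  have hp2 := c.ne_two
  have hq2 := cB.ne_two
  have hBA : B ≤ Subgroup.centralizer (A : Set G) := c.le_centralizer_of_ne cB hpq
  have hAB : A ≤ Subgroup.centralizer (B : Set G) := cB.le_centralizer_of_ne c hne
  have hNAB := c.normalizer_le cB hpq
  have hNBA := cB.normalizer_le c hne
  have hgNB : g ∈ Subgroup.normalizer (B : Set G) := hNAB hgN
  have hgCB : g ∉ Subgroup.centralizer (B : Set G) := fun h => hgM (cB.cent_le h)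
  have hRp : IsPGroup p ↥(Subgroup.zpowers g) := b.hSp.to_le (Subgroup.zpowers_le.2 hgS)
  have hlt1 : p < q :=
    lt_of_not_le_centralizer hp2 hq2 hpq hBcard hRp (Subgroup.zpowers_le.2 hgNB)
      (fun h => hgCB (mem_centralizer_of_le_centralizer_zpowers h))
  -- the maximal subgroup `M*` containing `N(A)`
  have hAtop : A ≠ ⊤ := by
    intro h
    exact hM.1 (top_le_iff.1 (h ▸ c.leM))
  obtain ⟨Ms, hMs, hNMs⟩ := exists_coatom_ge (normalizer_ne_top_of_simple hG c.ne_bot hAtop)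
  have hAMs : A ≤ Ms := Subgroup.le_normalizer.trans hNMs
  have hEMs : E ≤ Ms := c.c126.1.1.trans hNMs
  have hBMs : B ≤ Ms := hBE.trans hEMs
  have hgMs : g ∈ Ms := hNMs hgN
  have hp1 := hp.out.one_lt
  have hq1 := hq.out.one_lt
  -- `p ∈ σ(M*)`
  have hpσ : p ∈ Cfsg.sigma Ms := by
    by_contra hpσ
    have hpτ' : p ∈ Cfsg.tau2 Ms :=
      ⟨hp.out, hpσ, pRankLE_of_not_mem_sigma hG hMs hp.out hpσ,
        not_pRankLE_of_hasEA ⟨A, hAMs, c.elem, by rw [c.card, pow_one]; nlinarith⟩⟩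
    have h125 := tau2_thm125 hG c.hD c.hα hMs hpτ' ⟨hAMs, c.elem, c.card⟩
    apply hgM
    apply c.cent_le
    refine Subgroup.mem_centralizer_iff.2 ?_
    intro a ha
    exact (commute_of_sylow_abelian (fun P => (h125.2.1 P).1) b.hSp
      (Subgroup.mem_inf.2 ⟨hgS, hgMs⟩) (Subgroup.mem_inf.2 ⟨b.hAS ha, hAMs ha⟩)).symm
  -- `q ∈ σ(M*)`
  have hqσ : q ∈ Cfsg.sigma Ms := by
    by_contra hqσ
    have hqτ' : q ∈ Cfsg.tau2 Ms :=
      ⟨hq.out, hqσ, pRankLE_of_not_mem_sigma hG hMs hq.out hqσ,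
        not_pRankLE_of_hasEA ⟨B, hBMs, hBe, by rw [hBcard, pow_one]; nlinarith⟩⟩
    have h125 := tau2_thm125 hG c.hD c.hα hMs hqτ' ⟨hBMs, hBe, hBcard⟩
    have h1 : Cfsg.sigmaCore Ms ⊓ Subgroup.centralizer (B : Set G) = ⊥ := h125.2.2.2.1
    have h2 : A ≤ Cfsg.sigmaCore Ms := le_sigmaCore' hG hMs hpσ hAMs c.isPGroup
    have h3 : A ≤ ⊥ := h1 ▸ le_inf h2 hAB
    exact c.ne_bot (le_bot_iff.1 h3)
  -- `q ∉ α(M*)`
  have hqα : q ∉ Cfsg.alpha Ms := by
    intro hqα
    obtain ⟨F', hF'Ms, hF'e, hF'card⟩ := hasEA_of_not_pRankLE hqα.2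
    obtain ⟨Qs, hBQs, hQsMs, hQsq, hQscard⟩ :=
      Cfsg.Agent.Lead.exists_le_card_eq_ppart cB.isPGroup hBMs
    have hQsM : Qs ≤ M := by
      by_contra hnot
      have hlt : Qs ⊓ M ≠ Qs := fun h => hnot (h ▸ inf_le_right)
      obtain ⟨u, huQ, huD, huN⟩ :=
        Cfsg.Agent.Helper4.BG11.exists_mem_normalizer_not_mem hQsq inf_le_left hlt
      have huM : u ∉ M := fun h => huD (Subgroup.mem_inf.2 ⟨huQ, h⟩)
      have huNB : u ∈ Subgroup.normalizer (B : Set G) := by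
        apply Cfsg.Agent.Helper3.IrrCyclic.mem_normalizer_of_conj_le
        intro b' hb'
        have h1 : u * b' * u⁻¹ ∈ Qs ⊓ M :=
          (Subgroup.mem_normalizer_iff.1 huN b').1
            (Subgroup.mem_inf.2 ⟨hBQs hb', cB.leM hb'⟩)
        have h2 : (u * b' * u⁻¹) ^ q = 1 := by
          rw [conj_pow, hBe.2 b' hb']
          group
        exact cB.mem_of_pow_eq_one (hQsq.to_le inf_le_left) inf_le_right
          (le_inf hBQs cB.leM) h1 h2
      have huNA := hNBA huNB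
      have huCA : u ∉ Subgroup.centralizer (A : Set G) := fun h => huM (c.cent_le h)
      have hUq : IsPGroup q ↥(Subgroup.zpowers u) := hQsq.to_le (Subgroup.zpowers_le.2 huQ)
      have hlt2 : q < p :=
        lt_of_not_le_centralizer hq2 hp2 hne c.card hUq (Subgroup.zpowers_le.2 huNA)
          (fun h => huCA (mem_centralizer_of_le_centralizer_zpowers h))
      omega
    obtain ⟨m, hm, hmF⟩ := Cfsg.Agent.Lead.exists_conj_le_of_card_eq_ppart hQsMs hQscard hF'Ms
      (isElementaryAbelian_isPGroup hF'e)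
    have hle : F'.map (MulAut.conj m).toMonoidHom ≤ B := by
      intro y hy
      have hyQ := hmF hy
      obtain ⟨f, hf, rfl⟩ := hy
      have h2 : ((MulAut.conj m).toMonoidHom f) ^ q = 1 := by
        rw [← map_pow, hF'e.2 f hf, map_one]
      exact cB.mem_of_pow_eq_one hQsq hQsM hBQs hyQ h2
    have h3 := Subgroup.card_le_of_le hle
    rw [Subgroup.card_map_of_injective (MulAut.conj m).injective, hBcard] at h3
    omega
  -- the final contradiction
  have hgσ : g ∈ Cfsg.sigmaCore Ms :=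
    le_sigmaCore' hG hMs hpσ (Subgroup.zpowers_le.2 hgMs) hRp (Subgroup.mem_zpowers g)
  have hBσ : B ≤ Cfsg.sigmaCore Ms := le_sigmaCore' hG hMs hqσ hBMs cB.isPGroup
  have hσc : Cfsg.sigmaCore Ms ≤ ⁅Ms, Ms⁆ := sigmaCore_le_commutator hG hMs
  obtain ⟨k, hk⟩ := exists_orderOf_eq_pow_of_mem_isPGroup b.hSp hgS
  apply hgCB
  refine Subgroup.mem_centralizer_iff.2 ?_
  intro b' hb'
  have hob' : orderOf b' ∣ q := orderOf_dvd_of_pow_eq_one (hBe.2 b' hb')
  have hcop : (orderOf g).Coprime (orderOf b') := by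
    rw [hk]
    exact Nat.Coprime.of_dvd (dvd_refl _) hob'
      (Nat.Coprime.pow_left k ((Nat.coprime_primes hp.out hq.out).2 hpq))
  have h1 := commutator_mem_alphaCore hG hMs (hσc hgσ) (hσc (hBσ hb')) hcop
  have h2 : g * b' * g⁻¹ * b'⁻¹ ∈ B :=
    B.mul_mem ((Subgroup.mem_normalizer_iff.1 hgNB b').1 hb') (B.inv_mem hb')
  have hcop2 : (Nat.card (Cfsg.alphaCore Ms)).Coprime (Nat.card B) := by
    rw [hBcard]
    apply Nat.Coprime.pow_right
    rw [Nat.coprime_comm]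
    exact (Nat.Prime.coprime_iff_not_dvd hq.out).2
      (fun hd => hqα (mem_alpha_of_dvd_card_alphaCore hq.out hd))
  have hdisj : Cfsg.alphaCore Ms ⊓ B = ⊥ :=
    disjoint_iff.1 (Subgroup.disjoint_of_coprime_natCard hcop2)
  have h3 : g * b' * g⁻¹ * b'⁻¹ ∈ Cfsg.alphaCore Ms ⊓ B := Subgroup.mem_inf.2 ⟨h1, h2⟩
  rw [hdisj, Subgroup.mem_bot] at h3
  calc b' * g = (g * b' * g⁻¹ * b'⁻¹)⁻¹ * (g * b') := by group
    _ = g * b' := by rw [h3, inv_one, one_mul]

/-- **part (a)**: `τ₂(M) = {p}` -/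
theorem Big.tau2_eq (b : Big M E p A S Z₀ Y x₀) : Cfsg.tau2 M = {p} := by
  ext q
  constructor
  · intro hq
    by_contra hne
    have := Fact.mk hq.1
    exact b.false_of_tau2 hq hne
  · intro hq
    rw [Set.mem_singleton_iff] at hq
    rw [hq]
    exact b.ctx.tau

end Cfsg.Agent.Lead.BG127
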