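import Mathlib
import Cfsg.Prelude
import Cfsg.Agent.Lead.BG127f

set_option autoImplicit false
set_option linter.unusedSectionVars false
set_option linter.unusedVariables false
set_option maxHeartbeats 800000

/-!
Bender–Glauberman Theorem 12.7 (`nonabelian_tau2`): part (b), `F(M) = M_σ × A₀`.
-/

namespace Cfsg.Agent.Lead.BG127

open Cfsg Cfsg.Agent.Helper1 Cfsg.Agent.Helper2 Cfsg.Agent.Helper1.BGT Cfsg.Agent.Helper1.BGU
  Cfsg.Agent.Helper1.BGV Cfsg.Agent.Helper1.BGW Cfsg.Agent.Helper1.BGX Cfsg.Agent.Lead.BG12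
  Cfsg.Agent.Helper4.BG12
open scoped commutatorElement Pointwise

universe u

variable {G : Type u} [Group G] [Finite G]

variable {M E : Subgroup G} {p : ℕ} [hp : Fact p.Prime] {A S Z₀ Y : Subgroup G} {x₀ : G}

/-- an `r`-group normalizing a group of order `r` centralizes it -/
theorem le_centralizer_of_card_prime {r : ℕ} [hr : Fact r.Prime] {Y₀ R : Subgroup G}
    (hY : Nat.card Y₀ = r) (hR : IsPGroup r ↥R) (hRN : R ≤ Subgroup.normalizer (Y₀ : Set G)) :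
    Y₀ ≤ Subgroup.centralizer (R : Set G) := by
  have h := Cfsg.Agent.Helper4.card_modEq_card_inf_centralizer R Y₀ hR hRN
  rw [hY] at h
  have hdvd : Nat.card ↥(Y₀ ⊓ Subgroup.centralizer (R : Set G)) ∣ r := by
    rw [← hY]
    exact Subgroup.card_dvd_of_le inf_le_left
  rcases (Nat.dvd_prime hr.out).1 hdvd with h1 | h1
  · exfalso
    rw [h1] at h
    have h2 : r ∣ 1 := by
      have := (Nat.modEq_iff_dvd' hr.out.one_lt.le).1 h.symm
      have h3 : r ∣ r := dvd_refl r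
      exact (Nat.dvd_sub_iff_right hr.out.one_lt.le h3).1 this
    exact hr.out.one_lt.ne' (Nat.dvd_one.1 h2)
  · have : Y₀ ⊓ Subgroup.centralizer (R : Set G) = Y₀ :=
      Subgroup.eq_of_le_of_card_ge inf_le_left (by rw [h1, hY])
    exact inf_eq_left.1 this

theorem Big.x₀_mem_centralizer (b : Big M E p A S Z₀ Y x₀) :
    x₀ ∈ Subgroup.centralizer ((Cfsg.sigmaCore M : Subgroup G) : Set G) := by
  have : x₀ ∈ A ⊓ Subgroup.centralizer ((Cfsg.sigmaCore M : Subgroup G) : Set G) := by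
    rw [b.inf_eq]; exact Subgroup.mem_zpowers x₀
  exact this.2

theorem Big.card_sup (b : Big M E p A S Z₀ Y x₀) :
    Nat.card ↥(Cfsg.sigmaCore M ⊔ A) = p ^ 2 * Nat.card (Cfsg.sigmaCore M) := by
  have c := b.ctx
  have hcop : (Nat.card A).Coprime (Nat.card (Cfsg.sigmaCore M)) := by
    rw [c.card]
    exact Nat.Coprime.pow_left 2 ((Nat.Prime.coprime_iff_not_dvd hp.out).2 c.not_dvd_card_sigmaCore)
  have hdisj : A ⊓ Cfsg.sigmaCore M = ⊥ :=
    disjoint_iff.1 (Subgroup.disjoint_of_coprime_natCard hcop)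
  rw [Cfsg.Agent.Helper1.card_sup_of_le_normalizer c.le_normalizer_sigmaCore hdisj, c.card]

/-- `A₀ = ⟨x₀⟩` is normal in `M` -/
theorem Big.le_normalizer_zpowers (b : Big M E p A S Z₀ Y x₀) :
    M ≤ Subgroup.normalizer ((Subgroup.zpowers x₀ : Subgroup G) : Set G) := by
  have c := b.ctx
  have hG := c.min
  have hM := c.coatom
  have hMN := c.t125.2.2.1
  set H := Cfsg.sigmaCore M ⊔ A with hH
  have hAH : A ≤ H := le_sup_right
  have hσH : Cfsg.sigmaCore M ≤ H := le_sup_left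
  have hHM : H ≤ M := sup_le Cfsg.Agent.Lead.BG12.sigmaCore_le c.leM
  have hAcardH : Nat.card A = p ^ (Nat.card H).factorization p := by
    rw [b.card_sup, Nat.factorization_mul (pow_ne_zero 2 hp.out.ne_zero) Nat.card_pos.ne',
      Finsupp.add_apply, Nat.factorization_eq_zero_of_not_dvd c.not_dvd_card_sigmaCore, add_zero,
      Nat.Prime.factorization_pow hp.out, Finsupp.single_eq_same, c.card]
  -- `H` centralizes `x₀`
  have hHC : H ≤ Subgroup.centralizer ((Subgroup.zpowers x₀ : Subgroup G) : Set G) := by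
    refine sup_le b.sigmaCore_le ?_
    intro a ha
    refine Subgroup.mem_centralizer_iff.2 ?_
    intro y hy
    exact c.comm ((Subgroup.zpowers_le.2 b.hx₀) hy) ha
  have key : ∀ g ∈ M, g * x₀ * g⁻¹ ∈ Subgroup.zpowers x₀ := by
    intro g hg
    set w := g * x₀ * g⁻¹ with hw
    have hwH : w ∈ H := (Subgroup.mem_normalizer_iff.1 (hMN hg) x₀).1 (hAH b.hx₀)
    have hwp : w ^ p = 1 := by
      rw [hw, conj_pow, c.elem.2 x₀ b.hx₀]
      group
    have hwC : w ∈ Subgroup.centralizer ((Cfsg.sigmaCore M : Subgroup G) : Set G) := by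
      refine Subgroup.mem_centralizer_iff.2 ?_
      intro s hs
      have hs' : g⁻¹ * s * g ∈ Cfsg.sigmaCore M := by
        have := (Subgroup.mem_normalizer_iff.1
          (Subgroup.inv_mem _ (Cfsg.Agent.Lead.BG12.le_normalizer_sigmaCore M hg)) s).1 hs
        simpa using this
      have h2 := Subgroup.mem_centralizer_iff.1 b.x₀_mem_centralizer _ hs'
      calc s * w = g * ((g⁻¹ * s * g) * x₀) * g⁻¹ := by rw [hw]; group
        _ = g * (x₀ * (g⁻¹ * s * g)) * g⁻¹ := by rw [h2]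
        _ = w * s := by rw [hw]; group
    have hTp : IsPGroup p ↥(Subgroup.zpowers w) :=
      isElementaryAbelian_isPGroup (Cfsg.Agent.Helper1.SCN3.elementary_zpowers hwp)
    obtain ⟨h, hh, hconj⟩ := Cfsg.Agent.Lead.exists_conj_le_of_card_eq_ppart hAH hAcardH
      (Subgroup.zpowers_le.2 hwH) hTp
    have h1 : h * w * h⁻¹ ∈ A := hconj ⟨w, Subgroup.mem_zpowers w, rfl⟩
    have h2 : h * w * h⁻¹ ∈ Subgroup.centralizer ((Cfsg.sigmaCore M : Subgroup G) : Set G) := by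
      refine Subgroup.mem_centralizer_iff.2 ?_
      intro s hs
      have hs' : h⁻¹ * s * h ∈ Cfsg.sigmaCore M := by
        have := (Subgroup.mem_normalizer_iff.1
          (Subgroup.inv_mem _ (Cfsg.Agent.Lead.BG12.le_normalizer_sigmaCore M (hHM hh))) s).1 hs
        simpa using this
      have h3 := Subgroup.mem_centralizer_iff.1 hwC _ hs'
      calc s * (h * w * h⁻¹) = h * ((h⁻¹ * s * h) * w) * h⁻¹ := by group
        _ = h * (w * (h⁻¹ * s * h)) * h⁻¹ := by rw [h3]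
        _ = h * w * h⁻¹ * s := by group
    have h3 : h * w * h⁻¹ ∈ Subgroup.zpowers x₀ := by
      rw [← b.inf_eq]
      exact Subgroup.mem_inf.2 ⟨h1, h2⟩
    -- `h` centralizes `⟨x₀⟩`
    have h4 := Subgroup.mem_centralizer_iff.1 (hHC hh) _ h3
    have h5 : w = h * w * h⁻¹ := by
      calc w = h⁻¹ * ((h * w * h⁻¹) * h) := by group
        _ = h⁻¹ * (h * (h * w * h⁻¹)) := by rw [h4]
        _ = h * w * h⁻¹ := by group
    rw [h5]
    exact h3
  intro g hg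
  apply Cfsg.Agent.Helper3.IrrCyclic.mem_normalizer_of_conj_le
  intro y hy
  obtain ⟨k, rfl⟩ := Subgroup.mem_zpowers_iff.1 hy
  have : g * x₀ ^ k * g⁻¹ = (g * x₀ * g⁻¹) ^ k := by
    rw [conj_zpow]
  rw [this]
  exact Subgroup.zpow_mem _ (key g hg) k

/-- `O_r(M) = 1` for `r ∉ σ(M)`, `r ≠ p` -/
theorem Big.pcoreOf_eq_bot (b : Big M E p A S Z₀ Y x₀) {r : ℕ} [hr : Fact r.Prime]
    (hrσ : r ∉ Cfsg.sigma M) (hrp : r ≠ p) : pcoreOf r M = ⊥ := by
  by_contra hR1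
  have c := b.ctx
  have hG := c.min
  have hM := c.coatom
  have hr2 : Cfsg.PRankLE r 2 ↥M := pRankLE_of_not_mem_sigma hG hM hr.out hrσ
  have hr1 : Cfsg.PRankLE r 1 ↥M := by
    by_contra h
    have : r ∈ Cfsg.tau2 M := ⟨hr.out, hrσ, hr2, h⟩
    rw [b.tau2_eq, Set.mem_singleton_iff] at this
    exact hrp this
  obtain ⟨z₀, hz₀, hz₀1, hz₀r⟩ := exists_central_of_order (pCoreOf_isPGroup r M) hR1
  have hz₀M : z₀ ∈ M := pCoreOf_le r M hz₀.1
  have hMN : M ≤ Subgroup.normalizer ((Subgroup.zpowers z₀ : Subgroup G) : Set G) := by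
    intro g hg
    apply Cfsg.Agent.Helper3.IrrCyclic.mem_normalizer_of_conj_le
    intro y hy
    obtain ⟨k, rfl⟩ := Subgroup.mem_zpowers_iff.1 hy
    have h1 : g * z₀ * g⁻¹ ∈ pcoreOf r M :=
      (Subgroup.mem_normalizer_iff.1 (le_normalizer_pCoreOf r M hg) z₀).1 hz₀.1
    have h2 : (g * z₀ * g⁻¹) ^ r = 1 := by
      rw [conj_pow, hz₀r]; group
    have h3 : z₀ * (g * z₀ * g⁻¹) = (g * z₀ * g⁻¹) * z₀ :=
      (Subgroup.mem_centralizer_iff.1 hz₀.2 _ h1).symm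
    have h4 := mem_zpowers_of_rank_one hr1 hz₀M hz₀1 hz₀r (pCoreOf_le r M h1) h2 h3
    have : g * z₀ ^ k * g⁻¹ = (g * z₀ * g⁻¹) ^ k := by rw [conj_zpow]
    rw [this]
    exact Subgroup.zpow_mem _ h4 k
  have hYcard : Nat.card (Subgroup.zpowers z₀) = r := by
    rw [Nat.card_zpowers]; exact orderOf_eq_prime hz₀r hz₀1
  have hY1 : Subgroup.zpowers z₀ ≠ ⊥ := by
    intro h
    rw [h, Subgroup.card_bot] at hYcard
    exact hr.out.one_lt.ne hYcard
  have hYtop : Subgroup.zpowers z₀ ≠ ⊤ := by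
    intro h
    exact hM.1 (top_le_iff.1 (h ▸ Subgroup.zpowers_le.2 hz₀M))
  have hNY := normalizer_eq_of_coatom hG hM hMN hY1 hYtop
  -- `Y₀ ≤ C(A)`
  have hdisj : Subgroup.zpowers z₀ ⊓ (Cfsg.sigmaCore M ⊔ A) = ⊥ := by
    apply disjoint_iff.1
    apply Subgroup.disjoint_of_coprime_natCard
    rw [hYcard, b.card_sup]
    apply Nat.Coprime.mul_right
    · exact Nat.Coprime.pow_right 2 ((Nat.coprime_primes hr.out hp.out).2 hrp)
    · exact (Nat.Prime.coprime_iff_not_dvd hr.out).2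
        (fun hd => hrσ (Cfsg.Agent.Lead.BG12.mem_sigma_of_dvd_card_sigmaCore hr.out hd))
  have hz₀C : z₀ ∈ Subgroup.centralizer (A : Set G) := by
    refine Subgroup.mem_centralizer_iff.2 ?_
    intro a ha
    have haM := c.leM ha
    have h1 : a * z₀ * a⁻¹ ∈ Subgroup.zpowers z₀ :=
      (Subgroup.mem_normalizer_iff.1 (hMN haM) z₀).1 (Subgroup.mem_zpowers z₀)
    have h2 : z₀ * a⁻¹ * z₀⁻¹ ∈ Cfsg.sigmaCore M ⊔ A :=
      (Subgroup.mem_normalizer_iff.1 (c.t125.2.2.1 hz₀M) a⁻¹).1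
        (Subgroup.mem_sup_right (A.inv_mem ha))
    have h3 : a * z₀ * a⁻¹ * z₀⁻¹ ∈ Subgroup.zpowers z₀ ⊓ (Cfsg.sigmaCore M ⊔ A) := by
      refine Subgroup.mem_inf.2 ⟨Subgroup.mul_mem _ h1
        (Subgroup.inv_mem _ (Subgroup.mem_zpowers z₀)), ?_⟩
      have : a * z₀ * a⁻¹ * z₀⁻¹ = a * (z₀ * a⁻¹ * z₀⁻¹) := by group
      rw [this]
      exact Subgroup.mul_mem _ (Subgroup.mem_sup_right ha) h2
    rw [hdisj, Subgroup.mem_bot] at h3
    calc a * z₀ = a * z₀ * a⁻¹ * z₀⁻¹ * (z₀ * a) := by group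
      _ = z₀ * a := by rw [h3, one_mul]
  obtain ⟨g, hgS, hgN, hgM⟩ := b.exists_g
  -- `g z₀ g⁻¹ ∈ C(A) ≤ M`
  have h1 : g * z₀ * g⁻¹ ∈ Subgroup.centralizer (A : Set G) := by
    refine Subgroup.mem_centralizer_iff.2 ?_
    intro a ha
    have ha' : g⁻¹ * a * g ∈ A := by
      have := (Subgroup.mem_normalizer_iff.1 (Subgroup.inv_mem _ hgN) a).1 ha
      simpa using this
    have h2 := Subgroup.mem_centralizer_iff.1 hz₀C _ ha'
    calc a * (g * z₀ * g⁻¹) = g * ((g⁻¹ * a * g) * z₀) * g⁻¹ := by group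
      _ = g * (z₀ * (g⁻¹ * a * g)) * g⁻¹ := by rw [h2]
      _ = g * z₀ * g⁻¹ * a := by group
  have h2 : g * z₀ * g⁻¹ ∈ M := c.cent_le h1
  have h3 : (g * z₀ * g⁻¹) ^ r = 1 := by
    rw [conj_pow, hz₀r]; group
  have hRr : IsPGroup r ↥(Subgroup.zpowers (g * z₀ * g⁻¹)) :=
    isElementaryAbelian_isPGroup (Cfsg.Agent.Helper1.SCN3.elementary_zpowers h3)
  have h4 := le_centralizer_of_card_prime hYcard hRr
    ((Subgroup.zpowers_le.2 h2).trans hMN)
  have h5 : z₀ * (g * z₀ * g⁻¹) = (g * z₀ * g⁻¹) * z₀ :=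
    (Subgroup.mem_centralizer_iff.1 (h4 (Subgroup.mem_zpowers z₀)) _
      (Subgroup.mem_zpowers _)).symm
  have h6 := mem_zpowers_of_rank_one hr1 hz₀M hz₀1 hz₀r h2 h3 h5
  apply hgM
  rw [← hNY]
  apply Cfsg.Agent.Helper3.IrrCyclic.mem_normalizer_of_conj_le
  intro y hy
  obtain ⟨k, rfl⟩ := Subgroup.mem_zpowers_iff.1 hy
  have : g * z₀ ^ k * g⁻¹ = (g * z₀ * g⁻¹) ^ k := by rw [conj_zpow]
  rw [this]
  exact Subgroup.zpow_mem _ h6 k

end Cfsg.Agent.Lead.BG127
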