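import Mathlib
import Cfsg.Prelude
import Cfsg.Agent.Lead.BG127g
import Cfsg.Agent.Helper1.Cores

set_option autoImplicit false
set_option linter.unusedSectionVars false
set_option linter.unusedVariables false
set_option maxHeartbeats 800000

/-!
Bender–Glauberman Theorem 12.7 (`nonabelian_tau2`): `O_p(M) = A₀`, the Fitting subgroup, and the
assembly.
-/

namespace Cfsg.Agent.Lead.BG127

open Cfsg Cfsg.Agent.Helper1 Cfsg.Agent.Helper2 Cfsg.Agent.Helper1.BGT Cfsg.Agent.Helper1.BGU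
  Cfsg.Agent.Helper1.BGV Cfsg.Agent.Helper1.BGW Cfsg.Agent.Helper1.BGX Cfsg.Agent.Lead.BG12
  Cfsg.Agent.Helper4.BG12
open scoped commutatorElement Pointwise

universe u

variable {G : Type u} [Group G] [Finite G]

variable {M E : Subgroup G} {p : ℕ} [hp : Fact p.Prime] {A S Z₀ Y : Subgroup G} {x₀ : G}

/-- `O_p(M) ≤ A₀` -/
theorem Big.pcoreOf_le (b : Big M E p A S Z₀ Y x₀) (hO : pcoreOf p M ≤ S) :
    pcoreOf p M ≤ Subgroup.zpowers x₀ := by
  have c := b.ctx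
  have hG := c.min
  have hM := c.coatom
  have hKp : IsPGroup p ↥(pcoreOf p M) := pCoreOf_isPGroup p M
  have hKM : pcoreOf p M ≤ M := pCoreOf_le p M
  -- `K ≤ C(A)`
  have hKA : pcoreOf p M ≤ Subgroup.centralizer (A : Set G) := by
    intro k hk
    refine Subgroup.mem_centralizer_iff.2 ?_
    intro a ha
    exact (b.commute_of_mem (hO hk) (hKM hk) ha).symm
  -- `K ≤ C(M_σ)`
  have hcop : (Nat.card (pcoreOf p M)).Coprime (Nat.card (Cfsg.sigmaCore M)) := by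
    obtain ⟨j, hj⟩ := IsPGroup.iff_card.mp hKp
    rw [hj]
    exact Nat.Coprime.pow_left j
      ((Nat.Prime.coprime_iff_not_dvd hp.out).2 c.not_dvd_card_sigmaCore)
  have hdisj : pcoreOf p M ⊓ Cfsg.sigmaCore M = ⊥ :=
    disjoint_iff.1 (Subgroup.disjoint_of_coprime_natCard hcop)
  have hKσ : pcoreOf p M ≤ Subgroup.centralizer ((Cfsg.sigmaCore M : Subgroup G) : Set G) := by
    intro k hk
    refine Subgroup.mem_centralizer_iff.2 ?_
    intro s hs
    have hsM : s ∈ M := Cfsg.Agent.Lead.BG12.sigmaCore_le hs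
    have h1 : s * k * s⁻¹ ∈ pcoreOf p M :=
      (Subgroup.mem_normalizer_iff.1 (le_normalizer_pCoreOf p M hsM) k).1 hk
    have h2 : k * s⁻¹ * k⁻¹ ∈ Cfsg.sigmaCore M :=
      (Subgroup.mem_normalizer_iff.1
        (Cfsg.Agent.Lead.BG12.le_normalizer_sigmaCore M (hKM hk)) s⁻¹).1 (Subgroup.inv_mem _ hs)
    have h3 : s * k * s⁻¹ * k⁻¹ ∈ pcoreOf p M ⊓ Cfsg.sigmaCore M := by
      refine Subgroup.mem_inf.2 ⟨Subgroup.mul_mem _ h1 (Subgroup.inv_mem _ hk), ?_⟩
      have : s * k * s⁻¹ * k⁻¹ = s * (k * s⁻¹ * k⁻¹) := by group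
      rw [this]
      exact Subgroup.mul_mem _ hs h2
    rw [hdisj, Subgroup.mem_bot] at h3
    calc s * k = s * k * s⁻¹ * k⁻¹ * (k * s) := by group
      _ = k * s := by rw [h3, one_mul]
  obtain ⟨hinf, hsup⟩ := b.hdec x₀ b.hx₀ b.x₀_not_mem
  have hYCA : Y ≤ Subgroup.centralizer (A : Set G) := by
    have : Y ≤ S ⊓ Subgroup.centralizer (A : Set G) := hsup ▸ le_sup_right
    exact this.trans inf_le_right
  have hYN : Y ≤ Subgroup.normalizer ((Subgroup.zpowers x₀ : Subgroup G) : Set G) := by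
    refine le_trans ?_ (Subgroup.centralizer_le_normalizer _)
    exact hYCA.trans (Subgroup.centralizer_le (Subgroup.zpowers_le.2 b.hx₀))
  intro k hk
  have hk' : k ∈ Subgroup.zpowers x₀ ⊔ Y := by
    rw [hsup]
    exact Subgroup.mem_inf.2 ⟨hO hk, hKA hk⟩
  obtain ⟨n, hn, y', hy', rfl⟩ := mem_sup_of_le_normalizer hYN hk'
  have hnA : n ∈ A := (Subgroup.zpowers_le.2 b.hx₀) hn
  have hcomm : Commute n y' := (Subgroup.mem_centralizer_iff.1 (hYCA hy') n hnA)
  by_cases hy'1 : y' = 1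
  · rw [hy'1, mul_one]; exact hn
  · exfalso
    obtain ⟨m, hmZ, hm1⟩ := exists_pow_mem_of_isCyclic b.hYc (b.hSp.to_le b.hYS) b.hZY b.hZcard
      hy' hy'1
    have h1 : (n * y') ^ m = n ^ m * y' ^ m := hcomm.mul_pow m
    have h2 : (n * y') ^ m ∈ pcoreOf p M := Subgroup.pow_mem _ hk m
    have hu : n ^ m ∈ Subgroup.zpowers x₀ := Subgroup.pow_mem _ hn m
    have h3 : n ^ m * y' ^ m ∈ A :=
      A.mul_mem ((Subgroup.zpowers_le.2 b.hx₀) hu) (b.hZA hmZ)
    have h4 : n ^ m * y' ^ m ∈ Subgroup.zpowers x₀ := by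
      rw [← b.inf_eq]
      refine Subgroup.mem_inf.2 ⟨h3, ?_⟩
      rw [← h1]
      exact hKσ h2
    have h5 : y' ^ m ∈ Subgroup.zpowers x₀ := by
      have := Subgroup.mul_mem _ (Subgroup.inv_mem _ hu) h4
      rwa [inv_mul_cancel_left] at this
    have h6 : y' ^ m ∈ Subgroup.zpowers x₀ ⊓ Z₀ := Subgroup.mem_inf.2 ⟨h5, hmZ⟩
    rw [b.inf_Z] at h6
    exact hm1 (Subgroup.mem_bot.1 h6)

/-- **part (b)**: `F(M) = M_σ A₀` -/
theorem Big.fitting_eq (b : Big M E p A S Z₀ Y x₀) (hO : pcoreOf p M ≤ S) :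
    Cfsg.fittingOf M = Cfsg.sigmaCore M ⊔
      (A ⊓ Subgroup.centralizer ((Cfsg.sigmaCore M : Subgroup G) : Set G)) := by
  have c := b.ctx
  have hG := c.min
  have hM := c.coatom
  rw [b.inf_eq]
  apply le_antisymm
  · apply fittingOf_le_of_forall
    intro r hr
    have := Fact.mk hr
    by_cases hrσ : r ∈ Cfsg.sigma M
    · exact (le_sigmaCore' hG hM hrσ (pCoreOf_le r M) (pCoreOf_isPGroup r M)).trans le_sup_left
    · by_cases hrp : r = p
      · subst hrp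
        exact (b.pcoreOf_le hO).trans le_sup_right
      · rw [b.pcoreOf_eq_bot hrσ hrp]
        exact bot_le
  · refine sup_le ?_ ?_
    · exact le_fittingOf_of_normal_nilpotent Cfsg.Agent.Lead.BG12.sigmaCore_le
        (Cfsg.Agent.Lead.BG12.le_normalizer_sigmaCore M) c.t125.1
    · refine le_fittingOf_of_normal_nilpotent (Subgroup.zpowers_le.2 (c.leM b.hx₀))
        b.le_normalizer_zpowers ?_
      letI := IsCyclic.commGroup (α := ↥(Subgroup.zpowers x₀))
      exact CommGroup.isNilpotent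

/-- **Bender–Glauberman Theorem 12.7**, given (D) and Step 2. -/
theorem thm127 (hG : Cfsg.IsMinSimpleOddOrder G) (hD : HypD G) (hα : HypAlpha G)
    (M : Subgroup G) (hM : IsCoatom M) (E : Subgroup G)
    (hE : Cfsg.IsComplIn E (Cfsg.sigmaCore M) M) (p : ℕ) [hp : Fact p.Prime]
    (hpτ : p ∈ Cfsg.tau2 M) (hS : ∀ S : Sylow p G, ¬ IsMulCommutative (S : Subgroup G))
    (A : Subgroup G) (hA : (A ≤ E ∧ Cfsg.IsElementaryAbelian p A ∧ Nat.card A = p ^ 2)) :
    Cfsg.tau2 M = {p} ∧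
      (Nat.card ↥(A ⊓ Subgroup.centralizer (Cfsg.sigmaCore M : Set G)) = p ∧
        Cfsg.fittingOf M = Cfsg.sigmaCore M ⊔
          (A ⊓ Subgroup.centralizer (Cfsg.sigmaCore M : Set G))) ∧
      ∀ X : Subgroup G, X ≤ E → Nat.card X = p →
        X ≠ A ⊓ Subgroup.centralizer (Cfsg.sigmaCore M : Set G) →
        Cfsg.sigmaCore M ⊓ Subgroup.centralizer (X : Set G) = ⊥ ∧
          ¬ Subgroup.centralizer (X : Set G) ≤ M := by
  have c : Ctx M E p A := ⟨hG, hD, hα, hM, hE, hpτ, hA.1, hA.2.1, hA.2.2⟩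
  -- a Sylow `p`-subgroup of `M` containing `A`
  have hA' : IsPGroup p ↥(A.subgroupOf M) := c.isPGroup.comap_subtype
  obtain ⟨P, hP⟩ := hA'.exists_le_sylow
  have hAP : A ≤ (P : Subgroup M).map M.subtype := by
    intro a ha
    exact ⟨⟨a, c.leM ha⟩, hP (Subgroup.mem_subgroupOf.2 ha), rfl⟩
  obtain ⟨S, Z₀, Y, x₀, hPS, b⟩ := c.exists_big hS (P.2.map M.subtype) hAP
  have hO : pcoreOf p M ≤ S := by
    refine le_trans ?_ hPS
    exact Subgroup.map_mono (Cfsg.Agent.Helper1.pCore_le_sylow P)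
  exact ⟨b.tau2_eq, ⟨b.card_inf, b.fitting_eq hO⟩, b.partc⟩

end Cfsg.Agent.Lead.BG127
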