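import Mathlib
import Cfsg.Prelude
import Cfsg.Agent.Helper4.BG13b

set_option autoImplicit false
set_option linter.unusedSectionVars false
set_option linter.unusedVariables false

/-!
Bender–Glauberman 13.6, step (iii): if `α(M) ⊆ β(M)` then `M_α ∩ C` is a Hall subgroup of every
subgroup `C` of `G`.
-/

namespace Cfsg.Agent.Lead.BG13iii

open Cfsg
open scoped commutatorElement Pointwise

universe u

variable {G : Type u} [Group G] [Finite G]

/-- coprimality from equality of the relevant prime parts -/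
theorem exists_coprime_of_factorization_eq {a c : ℕ} (ha : a ≠ 0) (hc : c ≠ 0) (hac : a ∣ c)
    (h : ∀ r : ℕ, r.Prime → r ∣ a → c.factorization r = a.factorization r) :
    ∃ n : ℕ, c = a * n ∧ a.Coprime n := by
  obtain ⟨n, rfl⟩ := hac
  refine ⟨n, rfl, ?_⟩
  have hn : n ≠ 0 := fun h0 => hc (by rw [h0, mul_zero])
  rw [Nat.coprime_iff_gcd_eq_one]
  by_contra hg
  obtain ⟨r, hr, hrd⟩ := Nat.exists_prime_and_dvd hg
  have hra : r ∣ a := hrd.trans (Nat.gcd_dvd_left a n)
  have hrn : r ∣ n := hrd.trans (Nat.gcd_dvd_right a n)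
  have h1 := h r hr hra
  rw [Nat.factorization_mul ha hn] at h1
  have h2 : 0 < n.factorization r := hr.factorization_pos_of_dvd hn hrn
  simp only [Finsupp.coe_add, Pi.add_apply] at h1
  omega

theorem alphaCore_inf_hall (hG : Cfsg.IsMinSimpleOddOrder G) {M : Subgroup G} (hM : IsCoatom M)
    (hab : ∀ t ∈ Cfsg.alpha M, t ∈ Cfsg.beta M) (C : Subgroup G) :
    ∃ n : ℕ, Nat.card C = Nat.card ↥(Cfsg.alphaCore M ⊓ C) * n ∧
      (Nat.card ↥(Cfsg.alphaCore M ⊓ C)).Coprime n := by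
  set Y := Cfsg.alphaCore M ⊓ C with hY
  have hYC : Y ≤ C := inf_le_right
  have hYα : Y ≤ Cfsg.alphaCore M := inf_le_left
  have hαM : Cfsg.alphaCore M ≤ M := by
    unfold Cfsg.alphaCore
    exact Subgroup.map_subtype_le _
  apply exists_coprime_of_factorization_eq Nat.card_pos.ne' Nat.card_pos.ne'
    (Subgroup.card_dvd_of_le hYC)
  intro r hr hrY
  have : Fact r.Prime := ⟨hr⟩
  have hrα : r ∈ Cfsg.alpha M :=
    Cfsg.Agent.Helper1.BGX.mem_alpha_of_dvd_card_alphaCore hr (hrY.trans (Subgroup.card_dvd_of_le hYα))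
  have hrβ : r ∈ Cfsg.beta M := hab r hrα
  -- a Sylow `r`-subgroup `R0` of `Y`
  obtain ⟨R0, -, hR0Y, hR0r, hR0card⟩ :=
    Cfsg.Agent.Lead.exists_le_card_eq_ppart (p := r) (H := Y) (U := ⊥) IsPGroup.of_bot bot_le
  have hR0ne : R0 ≠ ⊥ := by
    intro h0
    rw [h0, Subgroup.card_bot] at hR0card
    have hpos : 0 < (Nat.card Y).factorization r :=
      hr.factorization_pos_of_dvd Nat.card_pos.ne' hrY
    have : 1 < r ^ (Nat.card Y).factorization r := Nat.one_lt_pow hpos.ne' hr.one_lt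
    omega
  -- a Sylow `r`-subgroup `R1` of `C` containing `R0`
  obtain ⟨R1, hR01, hR1C, hR1r, hR1card⟩ :=
    Cfsg.Agent.Lead.exists_le_card_eq_ppart (p := r) (H := C) (U := R0) hR0r (hR0Y.trans hYC)
  have hR1ne : R1 ≠ ⊥ := fun h0 => hR0ne (le_bot_iff.mp (h0 ▸ hR01))
  obtain ⟨z, hz, hz1, hzr⟩ := Cfsg.Agent.Helper1.BGW.exists_central_of_order hR1r hR1ne
  have hzR1 : z ∈ R1 := hz.1
  have hzc : z ∈ Subgroup.centralizer (R1 : Set G) := hz.2
  have hR0M : R0 ≤ M := (hR0Y.trans hYα).trans hαM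
  have hR0β : ∀ p : ℕ, p.Prime → p ∣ Nat.card R0 → p ∈ Cfsg.beta M := by
    intro p hp hd
    rw [hR0card] at hd
    have := (Nat.prime_dvd_prime_iff_eq hp hr).mp (hp.dvd_of_dvd_pow hd)
    rw [this]; exact hrβ
  have hNR0 := Cfsg.Agent.Helper4.BG10.normalizer_le_of_beta_subgroup hG hM hR0M hR0ne hR0β
  have hzM : z ∈ M := by
    apply hNR0
    apply Subgroup.centralizer_le_normalizer
    exact Subgroup.centralizer_le (show (R0 : Set G) ⊆ R1 from hR01) hzc
  -- `Z = ⟨z⟩`
  set Z := Subgroup.zpowers z with hZ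
  have hZM : Z ≤ M := by
    rw [hZ, Subgroup.zpowers_le]; exact hzM
  have hZne : Z ≠ ⊥ := by
    rw [hZ, Ne, Subgroup.zpowers_eq_bot]; exact hz1
  have hZcard : Nat.card Z = r := by
    rw [hZ, Nat.card_zpowers]
    exact orderOf_eq_prime hzr hz1
  have hZβ : ∀ p : ℕ, p.Prime → p ∣ Nat.card Z → p ∈ Cfsg.beta M := by
    intro p hp hd
    rw [hZcard] at hd
    have := (Nat.prime_dvd_prime_iff_eq hp hr).mp hd
    rw [this]; exact hrβ
  have hNZ := Cfsg.Agent.Helper4.BG10.normalizer_le_of_beta_subgroup hG hM hZM hZne hZβ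
  have hR1M : R1 ≤ M := by
    intro x hx
    apply hNZ
    apply Subgroup.centralizer_le_normalizer
    rw [Subgroup.mem_centralizer_iff]
    intro y hy
    have hy' : y ∈ Subgroup.zpowers z := hy
    obtain ⟨k, rfl⟩ := Subgroup.mem_zpowers_iff.mp hy'
    have hcomm : Commute z x := by
      have := Subgroup.mem_centralizer_iff.mp hzc x hx
      exact this.symm
    exact ((hcomm.zpow_left k)).eq
  have hR1α : R1 ≤ Cfsg.alphaCore M := by
    have h1 := Cfsg.Agent.Helper1.BGX.le_alphaCore hG hM hrα hR1M hR1r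
    unfold Cfsg.alphaCore
    intro x hx
    exact ⟨⟨x, hR1M hx⟩, h1 (by rw [Subgroup.mem_subgroupOf]; exact hx), rfl⟩
  have hR1Y : R1 ≤ Y := le_inf hR1α hR1C
  have hd : r ^ (Nat.card C).factorization r ∣ Nat.card Y := hR1card ▸ Subgroup.card_dvd_of_le hR1Y
  have h1 : (Nat.card C).factorization r ≤ (Nat.card Y).factorization r :=
    (hr.pow_dvd_iff_le_factorization Nat.card_pos.ne').mp hd
  have h2 : (Nat.card Y).factorization r ≤ (Nat.card C).factorization r :=
    (Nat.factorization_le_iff_dvd Nat.card_pos.ne' Nat.card_pos.ne').mpr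
      (Subgroup.card_dvd_of_le hYC) r
  omega

end Cfsg.Agent.Lead.BG13iii
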