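import Mathlib
import Cfsg.Prelude
import Cfsg.Agent.Lead.BG127h
import Cfsg.Agent.Lead.BG108e
import Cfsg.Agent.Lead.PCubeExtra
import Cfsg.Agent.Helper3.BGAlpha
import Cfsg.Agent.S1403

set_option autoImplicit false
set_option linter.unusedSectionVars false
set_option linter.unusedVariables false

/-!
Bender–Glauberman, Section 12: general lemmas for the uniqueness statement on subgroups of
order `p` for `p ∈ σ(M)` (B–G 12.13 in the numbering of the team notes).
-/

namespace Cfsg.Agent.Lead.BG1213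

open Cfsg Cfsg.Agent.Helper1 Cfsg.Agent.Helper2 Cfsg.Agent.Helper1.BGT Cfsg.Agent.Helper1.BGU
  Cfsg.Agent.Helper1.BGV Cfsg.Agent.Helper1.BGW Cfsg.Agent.Helper1.BGX
  Cfsg.Agent.Helper3.BGAlpha
open scoped commutatorElement Pointwise

universe u

variable {G : Type u} [Group G] [Finite G]

/-- A subgroup of `M` containing an elementary abelian subgroup of rank at least three lies in no
other maximal subgroup. -/
theorem uniq_of_ea3 (hG : Cfsg.IsMinSimpleOddOrder G) {M B : Subgroup G} (hM : IsCoatom M)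
    {p : ℕ} [hp : Fact p.Prime] (hBM : B ≤ M) (hBe : Cfsg.IsElementaryAbelian p B)
    (hcard : p ^ 2 < Nat.card B) :
    ∀ L : Subgroup G, IsCoatom L → B ≤ L → L = M := by
  have hp1 := hp.out.one_lt
  have hBp : IsPGroup p ↥B := Cfsg.Agent.Helper3.BGAlpha.isPGroup_of_elementary hBe
  have hBtop : B ≠ ⊤ := sylow_ne_top hG p B hBp
  have h1 : ¬ Cfsg.RankLE 1 ↥B := by
    intro h
    refine not_pRankLE_of_hasEA ⟨B, le_rfl, hBe, ?_⟩ (h p hp.out)
    rw [pow_one]
    nlinarith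
  have h2 : ¬ Cfsg.RankLE 2 ↥B := by
    intro h
    exact not_pRankLE_of_hasEA ⟨B, le_rfl, hBe, hcard⟩ (h p hp.out)
  have hBU := Cfsg.Agent.S1403.result hG B hBtop h1 (Or.inl h2)
  intro L hL hBL
  exact hBU.unique ⟨hL, hBL⟩ ⟨hM, hBM⟩

/-- If `Q ≤ C(X)` lies in the unique maximal subgroup `M`, then so does `C(X)`. -/
theorem uniqCent_of_le (hG : Cfsg.IsMinSimpleOddOrder G) {M X Q : Subgroup G} (hM : IsCoatom M)
    (hX1 : X ≠ ⊥) (hXtop : X ≠ ⊤) (hQC : Q ≤ Subgroup.centralizer (X : Set G))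
    (huniq : ∀ L : Subgroup G, IsCoatom L → Q ≤ L → L = M) :
    Subgroup.centralizer (X : Set G) ≤ M ∧
      ∀ L : Subgroup G, IsCoatom L → Subgroup.centralizer (X : Set G) ≤ L → L = M := by
  have hNtop := normalizer_ne_top_of_simple hG hX1 hXtop
  obtain ⟨L₀, hL₀, hNL₀⟩ := exists_coatom_ge hNtop
  have hCL₀ : Subgroup.centralizer (X : Set G) ≤ L₀ :=
    (Subgroup.centralizer_le_normalizer _).trans hNL₀
  have hL₀M : L₀ = M := huniq L₀ hL₀ (hQC.trans hCL₀)
  exact ⟨hL₀M ▸ hCL₀, fun L hL hCL => huniq L hL (hQC.trans hCL)⟩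

/-- Modulo a normal `p`-complement, the commutator subgroup is that of a Sylow `p`-subgroup. -/
theorem exists_commutator_mod_npc {H : Type u} [Group H] [Finite H] {p : ℕ} [hp : Fact p.Prime]
    (N : Subgroup H) [hN : N.Normal] (hcop : (Nat.card N).Coprime p) {k : ℕ}
    (hk : N.index = p ^ k) (S : Subgroup H) (hS : IsPGroup p ↥S)
    (hcard : Nat.card S = p ^ (Nat.card H).factorization p) {x : H} (hx : x ∈ commutator H) :
    ∃ y ∈ ⁅S, S⁆, y⁻¹ * x ∈ N := by
  have h1 : Nat.card N * p ^ k = Nat.card H := by rw [← hk]; exact Subgroup.card_mul_index N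
  have hnd : ¬ p ∣ Nat.card N := by
    intro hd
    have := Nat.Coprime.eq_one_of_dvd hcop.symm hd
    exact hp.out.one_lt.ne' this
  have hfac : (Nat.card H).factorization p = k := by
    rw [← h1, Nat.factorization_mul Nat.card_pos.ne' (pow_pos hp.out.pos k).ne',
      Finsupp.add_apply, Nat.factorization_eq_zero_of_not_dvd hnd, zero_add,
      Nat.Prime.factorization_pow hp.out]
    simp
  have hScard : Nat.card S = p ^ k := by rw [hcard, hfac]
  have hcompl : Subgroup.IsComplement' N S :=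
    Subgroup.isComplement'_of_coprime (by rw [hScard]; exact h1)
      (by rw [hScard]; exact Nat.Coprime.pow_right k hcop)
  have hsup : N ⊔ S = ⊤ := hcompl.sup_eq_top
  have hsurj : Function.Surjective (QuotientGroup.mk' N) := QuotientGroup.mk'_surjective N
  have htop : (⊤ : Subgroup H).map (QuotientGroup.mk' N) = ⊤ := by
    rw [← MonoidHom.range_eq_map, MonoidHom.range_eq_top]; exact hsurj
  have hNmap : N.map (QuotientGroup.mk' N) = ⊥ := by
    rw [Subgroup.map_eq_bot_iff, QuotientGroup.ker_mk']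
  have hSmap : S.map (QuotientGroup.mk' N) = ⊤ := by
    have h := htop
    rw [← hsup, Subgroup.map_sup, hNmap, bot_sup_eq] at h
    exact h
  have h2 : (commutator H).map (QuotientGroup.mk' N) = (⁅S, S⁆).map (QuotientGroup.mk' N) := by
    rw [commutator_def, Subgroup.map_commutator, Subgroup.map_commutator, hSmap, htop]
  have h3 : QuotientGroup.mk' N x ∈ (⁅S, S⁆).map (QuotientGroup.mk' N) :=
    h2 ▸ Subgroup.mem_map_of_mem _ hx
  obtain ⟨y, hy, hyx⟩ := h3
  exact ⟨y, hy, QuotientGroup.eq.1 hyx⟩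

/-- The subgroup version: with a normal `p`-complement in `K`, an element of `K'` differs from an
element of `S'` (`S` a Sylow `p`-subgroup of `K`) by a `p'`-element. -/
theorem exists_commutator_coprime {K S : Subgroup G} {p : ℕ} [hp : Fact p.Prime]
    (hnpc : Cfsg.Agent.Lead.BG108.NPC p ↥K) (hSK : S ≤ K) (hS : IsPGroup p ↥S)
    (hcard : Nat.card S = p ^ (Nat.card K).factorization p) {x : G} (hx : x ∈ ⁅K, K⁆) :
    ∃ y ∈ ⁅S, S⁆, (orderOf (y⁻¹ * x)).Coprime p := by
  obtain ⟨N, hN, hcop, k, hk⟩ := hnpc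
  rw [← Subgroup.map_subtype_commutator K] at hx
  obtain ⟨x', hx', rfl⟩ := hx
  have hS' : IsPGroup p ↥(S.subgroupOf K) := hS.comap_subtype
  have hcard' : Nat.card (S.subgroupOf K) = p ^ (Nat.card K).factorization p := by
    rw [Cfsg.Agent.Lead.card_subgroupOf_of_le hSK]; exact hcard
  obtain ⟨y, hy, hyN⟩ := exists_commutator_mod_npc N hcop hk (S.subgroupOf K) hS' hcard' hx'
  refine ⟨(y : G), ?_, ?_⟩
  · have h1 : (⁅S.subgroupOf K, S.subgroupOf K⁆).map K.subtype = ⁅S, S⁆ := by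
      rw [Subgroup.map_commutator, Subgroup.map_subgroupOf_eq_of_le hSK]
    rw [← h1]
    exact Subgroup.mem_map_of_mem _ hy
  · have h1 : orderOf (y⁻¹ * x') ∣ Nat.card N := by
      have h := orderOf_dvd_natCard (⟨y⁻¹ * x', hyN⟩ : N)
      rwa [Subgroup.orderOf_mk] at h
    have h2 : orderOf ((y : G)⁻¹ * K.subtype x') = orderOf (y⁻¹ * x') := by
      rw [← Subgroup.orderOf_coe]
      simp
    rw [h2]
    exact Nat.Coprime.coprime_dvd_left h1 hcop

omit [Finite G] in
theorem commutatorElement_mul_of_commute {a b g : G} (h : Commute b g) : ⁅a * b, g⁆ = ⁅a, g⁆ := by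
  rw [commutatorElement_def, commutatorElement_def, mul_inv_rev]
  have h1 : b * g * b⁻¹ = g := by rw [h.eq, mul_inv_cancel_right]
  calc a * b * g * (b⁻¹ * a⁻¹) * g⁻¹ = a * (b * g * b⁻¹) * a⁻¹ * g⁻¹ := by group
    _ = a * g * a⁻¹ * g⁻¹ := by rw [h1]

omit [Finite G] in
theorem commutatorElement_mul_of_commute' {a b g : G} (h : Commute b g) : ⁅g, a * b⁆ = ⁅g, a⁆ := by
  rw [← commutatorElement_inv (a * b) g, commutatorElement_mul_of_commute h,
    commutatorElement_inv]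

/-- In a central product of a group of order `p ^ 3` with a cyclic group, the commutator subgroup
is central. -/
theorem commutator_le_centralizer_of_central_product {p : ℕ} [hp : Fact p.Prime]
    {S P₁ P₂ : Subgroup G} (hsup : P₁ ⊔ P₂ = S)
    (hcomm : ∀ a ∈ P₁, ∀ b ∈ P₂, a * b = b * a) (hP₂ : IsCyclic ↥P₂)
    (hcard : Nat.card P₁ = p ^ 3) : ⁅S, S⁆ ≤ Subgroup.centralizer (S : Set G) := by
  have hP₂comm : ∀ b ∈ P₂, ∀ b' ∈ P₂, b * b' = b' * b := by
    intro b hb b' hb'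
    have := IsCyclic.isMulCommutative.is_comm.comm (⟨b, hb⟩ : P₂) ⟨b', hb'⟩
    exact congrArg Subtype.val this
  have hP₂N : P₂ ≤ Subgroup.normalizer (P₁ : Set G) := by
    refine le_trans ?_ (Subgroup.centralizer_le_normalizer _)
    intro b hb
    refine Subgroup.mem_centralizer_iff.2 ?_
    intro a ha
    exact hcomm a ha b hb
  -- elements of `P₂` are central in `S`
  have hcent : ∀ b ∈ P₂, ∀ s ∈ S, Commute b s := by
    intro b hb s hs
    rw [← hsup] at hs
    obtain ⟨a, ha, b', hb', rfl⟩ := mem_sup_of_le_normalizer hP₂N hs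
    have h1 : Commute b a := (hcomm a ha b hb).symm
    have h2 : Commute b b' := hP₂comm b hb b' hb'
    exact h1.mul_right h2
  have hP₁S : P₁ ≤ S := hsup ▸ le_sup_left
  have hP₂S : P₂ ≤ S := hsup ▸ le_sup_right
  -- commutators of `P₁` are central in `P₁`
  have hcube : ∀ a₁ ∈ P₁, ∀ a₂ ∈ P₁, ∀ a₃ ∈ P₁, Commute ⁅a₁, a₂⁆ a₃ := by
    intro a₁ ha₁ a₂ ha₂ a₃ ha₃
    by_cases hnc : ∃ a b : P₁, a * b ≠ b * a
    · have hle := Cfsg.Agent.Lead.PCubeExtra.commutator_le_center_of_card_cube hcard hnc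
      have hmem : ⁅(⟨a₁, ha₁⟩ : P₁), ⟨a₂, ha₂⟩⁆ ∈ commutator ↥P₁ := by
        rw [commutator_def]
        exact Subgroup.commutator_mem_commutator (Subgroup.mem_top _) (Subgroup.mem_top _)
      have h := Subgroup.mem_center_iff.1 (hle hmem) ⟨a₃, ha₃⟩
      have h' := congrArg Subtype.val h
      simp only [commutatorElement_def, Subgroup.coe_mul, Subgroup.coe_inv] at h'
      rw [commutatorElement_def]
      exact h'.symm
    · push Not at hnc
      have h12 : a₁ * a₂ = a₂ * a₁ := congrArg Subtype.val (hnc ⟨a₁, ha₁⟩ ⟨a₂, ha₂⟩)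
      have : ⁅a₁, a₂⁆ = 1 := commutatorElement_eq_one_iff_commute.2 h12
      rw [this]
      exact Commute.one_left a₃
  rw [Subgroup.commutator_le]
  intro g₁ hg₁ g₂ hg₂
  have hg₁' := hg₁
  have hg₂' := hg₂
  rw [← hsup] at hg₁' hg₂'
  obtain ⟨a₁, ha₁, b₁, hb₁, rfl⟩ := mem_sup_of_le_normalizer hP₂N hg₁'
  obtain ⟨a₂, ha₂, b₂, hb₂, rfl⟩ := mem_sup_of_le_normalizer hP₂N hg₂'
  rw [commutatorElement_mul_of_commute (hcent b₁ hb₁ _ hg₂),
    commutatorElement_mul_of_commute' (hcent b₂ hb₂ a₁ (hP₁S ha₁))]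
  refine Subgroup.mem_centralizer_iff.2 ?_
  intro s hs
  have hs' : s ∈ P₁ ⊔ P₂ := by rw [hsup]; exact hs
  obtain ⟨a₃, ha₃, b₃, hb₃, rfl⟩ := mem_sup_of_le_normalizer hP₂N hs'
  have hmemS : ⁅a₁, a₂⁆ ∈ S := by
    rw [commutatorElement_def]
    exact S.mul_mem (S.mul_mem (S.mul_mem (hP₁S ha₁) (hP₁S ha₂)) (S.inv_mem (hP₁S ha₁)))
      (S.inv_mem (hP₁S ha₂))
  have h1 : Commute ⁅a₁, a₂⁆ a₃ := hcube a₁ ha₁ a₂ ha₂ a₃ ha₃
  have h2 : Commute ⁅a₁, a₂⁆ b₃ := (hcent b₃ hb₃ _ hmemS).symm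
  exact ((h1.mul_right h2).eq).symm

end Cfsg.Agent.Lead.BG1213
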