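import Mathlib
import Cfsg.Prelude
import Cfsg.Agent.Lead.BG1213a
import Cfsg.Agent.Helper2.BGU2
import Cfsg.Agent.Helper4.BG12d
import Cfsg.Agent.S1412
import Cfsg.Agent.Helper1.BG127a

set_option autoImplicit false
set_option linter.unusedSectionVars false
set_option linter.unusedVariables false

/-!
Bender–Glauberman, Section 12: the uniqueness statement on subgroups of order `p` for
`p ∈ σ(M)`, proved from the statement that non-abelian `p`-subgroups lie in a unique maximal
subgroup (taken as a hypothesis here).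
-/

namespace Cfsg.Agent.Lead.BG1213

open Cfsg Cfsg.Agent.Helper1 Cfsg.Agent.Helper2 Cfsg.Agent.Helper1.BGT Cfsg.Agent.Helper1.BGU
  Cfsg.Agent.Helper1.BGV Cfsg.Agent.Helper1.BGW Cfsg.Agent.Helper1.BGX
  Cfsg.Agent.Helper3.BGAlpha
open scoped commutatorElement Pointwise

universe u

variable {G : Type u} [Group G] [Finite G]

/-- The uniqueness statement for non-abelian `p`-subgroups, as a hypothesis. -/
def HypU (G : Type u) [Group G] : Prop :=
  ∀ (p : ℕ) [Fact p.Prime] (P : Subgroup G), IsPGroup p ↥P → ¬ IsMulCommutative ↥P →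
    Cfsg.InUniqueMaximal P

variable {M : Subgroup G} {p : ℕ} [hp : Fact p.Prime]

/-- A Sylow `p`-subgroup of `M`, `p ∈ σ(M)`, lies in no other maximal subgroup when `p ∈ β(M)`
or it is non-abelian. -/
theorem sylow_uniq (hG : Cfsg.IsMinSimpleOddOrder G) (hU : HypU G) (hM : IsCoatom M)
    (hpσ : p ∈ Cfsg.sigma M) {S : Subgroup G} (hSM : S ≤ M) (hSp : IsPGroup p ↥S)
    (hSc : Nat.card S = p ^ (Nat.card G).factorization p)
    (h : p ∈ Cfsg.beta M ∨ ¬ IsMulCommutative ↥S) :
    ∀ L : Subgroup G, IsCoatom L → S ≤ L → L = M := by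
  rcases h with hβ | hna
  · obtain ⟨F, hFM, hFe, hFcard⟩ := hasEA_of_not_pRankLE hβ.1.2
    have hFp : IsPGroup p ↥F := Cfsg.Agent.Helper3.BGAlpha.isPGroup_of_elementary hFe
    have hScM : Nat.card S = p ^ (Nat.card M).factorization p := by
      apply Cfsg.Agent.Lead.card_eq_ppart_of_le hSM (le_top : M ≤ ⊤) hSp
      rw [Subgroup.card_top]; exact hSc
    obtain ⟨m, hm, hmF⟩ := Cfsg.Agent.Lead.exists_conj_le_of_card_eq_ppart hSM hScM hFM hFp
    have hcard : p ^ 2 < Nat.card ↥(F.map (MulAut.conj m).toMonoidHom) := by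
      rw [Cfsg.Agent.Lead.card_map_conj]; exact hFcard
    intro L hL hSL
    exact uniq_of_ea3 hG hM (hmF.trans hSM) (elementary_map_conj hFe m) hcard L hL
      (hmF.trans hSL)
  · intro L hL hSL
    exact (hU p S hSp hna).unique ⟨hL, hSL⟩ ⟨hM, hSM⟩

omit [Finite G] in
theorem ne_bot_of_card_prime {X : Subgroup G} (hX : Nat.card X = p) : X ≠ ⊥ := by
  intro h
  rw [h, Subgroup.card_bot] at hX
  exact hp.out.one_lt.ne hX

/-- A subgroup of prime order is generated by any of its non-identity elements. -/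
theorem exists_zpowers_eq_of_card_prime {X : Subgroup G} (hX : Nat.card X = p) :
    ∃ x : G, x ≠ 1 ∧ x ^ p = 1 ∧ Subgroup.zpowers x = X := by
  have hX1 := ne_bot_of_card_prime hX
  obtain ⟨x, hx1⟩ := (Subgroup.ne_bot_iff_exists_ne_one).1 hX1
  have hxX : (x : G) ∈ X := x.2
  have hxp : (x : G) ^ p = 1 := by
    have h := pow_card_eq_one' (G := X) (x := x)
    rw [hX] at h
    have h' := congrArg Subtype.val h
    simpa using h'
  have hord : orderOf (x : G) = p := by
    have hd : orderOf (x : G) ∣ p := orderOf_dvd_of_pow_eq_one hxp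
    rcases (Nat.dvd_prime hp.out).1 hd with h1 | h1
    · exfalso
      apply hx1
      apply Subtype.ext
      exact orderOf_eq_one_iff.1 h1
    · exact h1
  have hz : Subgroup.zpowers (x : G) = X := by
    apply Subgroup.eq_of_le_of_card_ge (Subgroup.zpowers_le.2 hxX)
    rw [Nat.card_zpowers, hord, hX]
  exact ⟨x, fun h => hx1 (Subtype.ext h), hxp, hz⟩

/-- The centralizer statement in the case `p ∈ β(M)`. -/
theorem cent_uniq_beta (hG : Cfsg.IsMinSimpleOddOrder G) (hM : IsCoatom M)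
    (hβ : p ∈ Cfsg.beta M) {S : Subgroup G} (hSM : S ≤ M) (hSp : IsPGroup p ↥S)
    (hSc : Nat.card S = p ^ (Nat.card G).factorization p) {X : Subgroup G} (hXS : X ≤ S)
    (hX : Nat.card X = p) :
    Subgroup.centralizer (X : Set G) ≤ M ∧
      ∀ L : Subgroup G, IsCoatom L → Subgroup.centralizer (X : Set G) ≤ L → L = M := by
  have hp1 := hp.out.one_lt
  have hX1 := ne_bot_of_card_prime hX
  have hXp : IsPGroup p ↥X := hSp.to_le hXS
  have hXtop : X ≠ ⊤ := sylow_ne_top hG p X hXp
  suffices h : ∃ B : Subgroup G, B ≤ S ∧ B ≤ Subgroup.centralizer (X : Set G) ∧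
      Cfsg.IsElementaryAbelian p B ∧ p ^ 2 < Nat.card B by
    obtain ⟨B, hBS, hBC, hBe, hBc⟩ := h
    exact uniqCent_of_le hG hM hX1 hXtop hBC (uniq_of_ea3 hG hM (hBS.trans hSM) hBe hBc)
  obtain ⟨x, hx1, hxp, rfl⟩ := exists_zpowers_eq_of_card_prime hX
  have hxS : x ∈ S := hXS (Subgroup.mem_zpowers x)
  have hSbot : S ≠ ⊥ := fun h => hX1 (le_bot_iff.1 (h ▸ hXS))
  obtain ⟨z, hz, hz1, hzp⟩ := exists_central_of_order hSp hSbot
  obtain ⟨hzS, hzC⟩ := Subgroup.mem_inf.1 hz
  have hzx : x * z = z * x := (Subgroup.mem_centralizer_iff.1 hzC x hxS)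
  by_cases hzX : z ∈ Subgroup.zpowers x
  · -- `S ≤ C(X)`
    have hZX : Subgroup.zpowers z = Subgroup.zpowers x := by
      have hcz : Nat.card (Subgroup.zpowers z) = p := by
        rw [Nat.card_zpowers]
        have hd : orderOf z ∣ p := orderOf_dvd_of_pow_eq_one hzp
        rcases (Nat.dvd_prime hp.out).1 hd with h1 | h1
        · exact absurd (orderOf_eq_one_iff.1 h1) hz1
        · exact h1
      exact Cfsg.Agent.Helper1.BG127.eq_of_card_prime_of_mem hcz hX (Subgroup.mem_zpowers z) hzX hz1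
    have hSC : S ≤ Subgroup.centralizer ((Subgroup.zpowers x : Subgroup G) : Set G) := by
      rw [← hZX]
      intro s hs
      rw [Cfsg.Agent.Helper1.BG127.mem_centralizer_zpowers_iff]
      exact (Subgroup.mem_centralizer_iff.1 hzC s hs).symm
    obtain ⟨F, hFM, hFe, hFcard⟩ := hasEA_of_not_pRankLE hβ.1.2
    have hFp : IsPGroup p ↥F := Cfsg.Agent.Helper3.BGAlpha.isPGroup_of_elementary hFe
    have hScM : Nat.card S = p ^ (Nat.card M).factorization p := by
      apply Cfsg.Agent.Lead.card_eq_ppart_of_le hSM (le_top : M ≤ ⊤) hSp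
      rw [Subgroup.card_top]; exact hSc
    obtain ⟨m, hm, hmF⟩ := Cfsg.Agent.Lead.exists_conj_le_of_card_eq_ppart hSM hScM hFM hFp
    refine ⟨_, hmF, hmF.trans hSC, elementary_map_conj hFe m, ?_⟩
    rw [Cfsg.Agent.Lead.card_map_conj]; exact hFcard
  · have hXe : Cfsg.IsElementaryAbelian p (Subgroup.zpowers x) :=
      Cfsg.Agent.Helper1.SCN3.elementary_zpowers hxp
    have hZe : Cfsg.IsElementaryAbelian p (Subgroup.zpowers z) :=
      Cfsg.Agent.Helper1.SCN3.elementary_zpowers hzp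
    have hZC : Subgroup.zpowers z ≤
        Subgroup.centralizer ((Subgroup.zpowers x : Subgroup G) : Set G) := by
      rw [Subgroup.zpowers_le, Cfsg.Agent.Helper1.BG127.mem_centralizer_zpowers_iff]
      exact hzx
    have hA₂e := Cfsg.Agent.Helper1.SCN3.elementary_sup_of_le_centralizer hXe hZe hZC
    have hcz : Nat.card (Subgroup.zpowers z) = p := by
      rw [Nat.card_zpowers]
      have hd : orderOf z ∣ p := orderOf_dvd_of_pow_eq_one hzp
      rcases (Nat.dvd_prime hp.out).1 hd with h1 | h1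
      · exact absurd (orderOf_eq_one_iff.1 h1) hz1
      · exact h1
    have hdisj : Subgroup.zpowers z ⊓ Subgroup.zpowers x = ⊥ := by
      by_contra hne
      obtain ⟨y, hy1⟩ := (Subgroup.ne_bot_iff_exists_ne_one).1 hne
      obtain ⟨hyz, hyx⟩ := Subgroup.mem_inf.1 y.2
      have hy1' : (y : G) ≠ 1 := fun h => hy1 (Subtype.ext h)
      have := Cfsg.Agent.Helper1.BG127.eq_of_card_prime_of_mem hcz hX hyz hyx hy1'
      exact hzX (this ▸ Subgroup.mem_zpowers z)
    have hcardA₂ : Nat.card ↥(Subgroup.zpowers x ⊔ Subgroup.zpowers z) = p ^ 2 := by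
      rw [card_sup_of_le_normalizer (hZC.trans (Subgroup.centralizer_le_normalizer _)) hdisj,
        hcz, hX, sq]
    obtain ⟨B, hBS, hBe, hlt⟩ := hβ.2.2.2 (Sylow.ofCard S hSc)
      (Subgroup.zpowers x ⊔ Subgroup.zpowers z) (sup_le hXS (Subgroup.zpowers_le.2 hzS)) hA₂e
      hcardA₂
    refine ⟨B, hBS, ?_, hBe, ?_⟩
    · intro b hb
      rw [Cfsg.Agent.Helper1.BG127.mem_centralizer_zpowers_iff]
      exact isElementaryAbelian_commute hBe (hlt.le (Subgroup.mem_sup_left (Subgroup.mem_zpowers x))) hb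
    · rw [← hcardA₂]
      exact Cfsg.Agent.Lead.card_lt_of_lt hlt

end Cfsg.Agent.Lead.BG1213
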