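import Mathlib
import Cfsg.Prelude
import Cfsg.Agent.Lead.BG1213b

set_option autoImplicit false
set_option linter.unusedSectionVars false
set_option linter.unusedVariables false

/-!
Bender–Glauberman, Section 12: the uniqueness statement on subgroups of order `p` for
`p ∈ σ(M)` (continued).
-/

namespace Cfsg.Agent.Lead.BG1213

open Cfsg Cfsg.Agent.Helper1 Cfsg.Agent.Helper2 Cfsg.Agent.Helper1.BGT Cfsg.Agent.Helper1.BGU
  Cfsg.Agent.Helper1.BGV Cfsg.Agent.Helper1.BGW Cfsg.Agent.Helper1.BGX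
  Cfsg.Agent.Helper3.BGAlpha
open scoped commutatorElement Pointwise

universe u

variable {G : Type u} [Group G] [Finite G]

variable {M : Subgroup G} {p : ℕ} [hp : Fact p.Prime]

/-- The centralizer statement when `X ≤ S'` for a Sylow `p`-subgroup `S` lying in the unique
maximal subgroup `M`. -/
theorem cent_uniq_comm (hG : Cfsg.IsMinSimpleOddOrder G) (hM : IsCoatom M)
    {S : Subgroup G} (hSM : S ≤ M) (hSp : IsPGroup p ↥S)
    (hSc : Nat.card S = p ^ (Nat.card G).factorization p)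
    (hna : ¬ IsMulCommutative ↥S)
    (huniq : ∀ L : Subgroup G, IsCoatom L → S ≤ L → L = M)
    {X : Subgroup G} (hXS : X ≤ ⁅S, S⁆) (hX : Nat.card X = p) :
    Subgroup.centralizer (X : Set G) ≤ M ∧
      ∀ L : Subgroup G, IsCoatom L → Subgroup.centralizer (X : Set G) ≤ L → L = M := by
  have hp1 := hp.out.one_lt
  have hX1 := ne_bot_of_card_prime hX
  have hXS' : X ≤ S := hXS.trans (Subgroup.commutator_le_self S)
  have hXp : IsPGroup p ↥X := hSp.to_le hXS'
  have hXtop : X ≠ ⊤ := sylow_ne_top hG p X hXp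
  have hp2 : p ≠ 2 := by
    rintro rfl
    have hd : 2 ∣ Nat.card G := by
      have h1 : Nat.card X ∣ Nat.card G := Subgroup.card_subgroup_dvd_card X
      rwa [hX] at h1
    exact (Nat.not_even_iff_odd.2 hG.1) (even_iff_two_dvd.2 hd)
  by_cases hr : Cfsg.PRankLE p 2 ↥S
  · -- `S ≤ C(X)`
    have h12 := Cfsg.Agent.S1412.result hG p (Sylow.ofCard S hSc) hr
    rcases h12 with hab | ⟨P₁, P₂, hsup, hcomm, -, hcard, -, hcyc, -⟩
    · exact absurd hab hna
    · have hsup' : P₁ ⊔ P₂ = S := hsup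
      have hle := commutator_le_centralizer_of_central_product hsup' hcomm hcyc hcard
      have hSC : S ≤ Subgroup.centralizer (X : Set G) := by
        rw [Subgroup.le_centralizer_iff]
        exact hXS.trans hle
      exact uniqCent_of_le hG hM hX1 hXtop hSC huniq
  · obtain ⟨x, hx1, hxp, rfl⟩ := exists_zpowers_eq_of_card_prime hX
    have hxc : x ∈ ⁅S, S⁆ := hXS (Subgroup.mem_zpowers x)
    obtain ⟨B, hB, hBe, hBc⟩ :=
      Cfsg.Agent.Helper2.BGU2.exists_ea3_inf_centralizer hp2 hSp hr hxc hxp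
    have hBC : B ≤ Subgroup.centralizer ((Subgroup.zpowers x : Subgroup G) : Set G) := by
      intro b hb
      rw [Cfsg.Agent.Helper1.BG127.mem_centralizer_zpowers_iff]
      have := (Subgroup.mem_inf.1 (hB hb)).2
      exact (Subgroup.mem_centralizer_iff.1 this x (Set.mem_singleton x))
    have hBcard : p ^ 2 < Nat.card B := by
      refine lt_of_lt_of_le ?_ hBc
      exact Nat.pow_lt_pow_right hp1 (by norm_num)
    exact uniqCent_of_le hG hM hX1 hXtop hBC
      (uniq_of_ea3 hG hM ((hB.trans inf_le_left).trans hSM) hBe hBcard)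

/-- With a normal `p`-complement in `M_σ` and a subgroup of order `p` in `(M_σ)'`, the Sylow
`p`-subgroups of `M` are non-abelian. -/
theorem sylow_not_comm (hG : Cfsg.IsMinSimpleOddOrder G) (hM : IsCoatom M)
    (hpσ : p ∈ Cfsg.sigma M) (hnpc : Cfsg.Agent.Lead.BG108.NPC p ↥(Cfsg.sigmaCore M))
    {S : Subgroup G} (hSM : S ≤ M) (hSp : IsPGroup p ↥S)
    (hSc : Nat.card S = p ^ (Nat.card G).factorization p)
    {X : Subgroup G} (hX : Nat.card X = p)
    (hXc : X ≤ ⁅Cfsg.sigmaCore M, Cfsg.sigmaCore M⁆) : ¬ IsMulCommutative ↥S := by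
  intro hab
  have hSσ : S ≤ Cfsg.sigmaCore M := Cfsg.Agent.Lead.BG12.le_sigmaCore' hG hM hpσ hSM hSp
  have hScσ : Nat.card S = p ^ (Nat.card (Cfsg.sigmaCore M)).factorization p := by
    apply Cfsg.Agent.Lead.card_eq_ppart_of_le hSσ (le_top : Cfsg.sigmaCore M ≤ ⊤) hSp
    rw [Subgroup.card_top]; exact hSc
  obtain ⟨x, hx1, hxp, rfl⟩ := exists_zpowers_eq_of_card_prime hX
  obtain ⟨y, hy, hcop⟩ := exists_commutator_coprime hnpc hSσ hSp hScσ
    (hXc (Subgroup.mem_zpowers x))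
  have hbot : ⁅S, S⁆ = ⊥ := by
    rw [Subgroup.commutator_eq_bot_iff_le_centralizer]
    intro a ha
    refine Subgroup.mem_centralizer_iff.2 ?_
    intro b hb
    exact congrArg Subtype.val (hab.is_comm.comm (⟨b, hb⟩ : S) ⟨a, ha⟩)
  rw [hbot, Subgroup.mem_bot] at hy
  rw [hy, inv_one, one_mul] at hcop
  have hord : orderOf x = p := by
    rw [← Nat.card_zpowers]; exact hX
  rw [hord] at hcop
  exact hp.out.one_lt.ne' ((Nat.coprime_self p).1 hcop)

/-- ... and a subgroup of order `p` of `(M_σ)'` inside a Sylow `p`-subgroup `S` lies in `S'`. -/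
theorem le_commutator_sylow (hG : Cfsg.IsMinSimpleOddOrder G) (hM : IsCoatom M)
    (hpσ : p ∈ Cfsg.sigma M) (hnpc : Cfsg.Agent.Lead.BG108.NPC p ↥(Cfsg.sigmaCore M))
    {S : Subgroup G} (hSM : S ≤ M) (hSp : IsPGroup p ↥S)
    (hSc : Nat.card S = p ^ (Nat.card G).factorization p)
    {X : Subgroup G} (hXS : X ≤ S)
    (hXc : X ≤ ⁅Cfsg.sigmaCore M, Cfsg.sigmaCore M⁆) : X ≤ ⁅S, S⁆ := by
  have hSσ : S ≤ Cfsg.sigmaCore M := Cfsg.Agent.Lead.BG12.le_sigmaCore' hG hM hpσ hSM hSp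
  have hScσ : Nat.card S = p ^ (Nat.card (Cfsg.sigmaCore M)).factorization p := by
    apply Cfsg.Agent.Lead.card_eq_ppart_of_le hSσ (le_top : Cfsg.sigmaCore M ≤ ⊤) hSp
    rw [Subgroup.card_top]; exact hSc
  intro x hx
  obtain ⟨y, hy, hcop⟩ := exists_commutator_coprime hnpc hSσ hSp hScσ (hXc hx)
  have hyS : y ∈ S := Subgroup.commutator_le_self S hy
  have hmem : y⁻¹ * x ∈ S := S.mul_mem (S.inv_mem hyS) (hXS hx)
  obtain ⟨k, hk⟩ := exists_orderOf_eq_pow_of_mem_isPGroup hSp hmem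
  have h1 : orderOf (y⁻¹ * x) = 1 := by
    rw [hk] at hcop ⊢
    rcases Nat.eq_zero_or_pos k with h0 | h0
    · rw [h0, pow_zero]
    · exfalso
      have hd : p ∣ p ^ k := dvd_pow_self p h0.ne'
      have := Nat.Coprime.eq_one_of_dvd hcop.symm hd
      exact hp.out.one_lt.ne' this
  have h2 : y⁻¹ * x = 1 := orderOf_eq_one_iff.1 h1
  have h3 : x = y := by
    have := congrArg (fun t => y * t) h2
    simpa using this
  rw [h3]; exact hy

/-- **B–G 12.13** (numbering of the team notes), from the uniqueness statement on non-abelian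
`p`-subgroups. -/
theorem thm1213 (hG : Cfsg.IsMinSimpleOddOrder G) (hU : HypU G) (M : Subgroup G)
    (hM : IsCoatom M) (p : ℕ) [hp : Fact p.Prime] (hpσ : p ∈ Cfsg.sigma M) (X : Subgroup G)
    (hXM : X ≤ M) (hX : Nat.card X = p) (P : Sylow p ↥(Cfsg.sigmaCore M))
    (h : p ∈ Cfsg.beta M ∨ X ≤ ⁅Cfsg.sigmaCore M, Cfsg.sigmaCore M⁆) :
    (Subgroup.centralizer (X : Set G) ≤ M ∧
      ∀ L : Subgroup G, IsCoatom L → Subgroup.centralizer (X : Set G) ≤ L → L = M) ∧
    Cfsg.InUniqueMaximal ((P : Subgroup ↥(Cfsg.sigmaCore M)).map (Cfsg.sigmaCore M).subtype) ∧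
      (P : Subgroup ↥(Cfsg.sigmaCore M)).map (Cfsg.sigmaCore M).subtype ≤ M := by
  have hp1 := hp.out.one_lt
  -- the Sylow subgroup `P`
  have hPM : (P : Subgroup ↥(Cfsg.sigmaCore M)).map (Cfsg.sigmaCore M).subtype ≤ M :=
    (Subgroup.map_subtype_le _).trans Cfsg.Agent.Lead.BG12.sigmaCore_le
  have hPp : IsPGroup p ↥((P : Subgroup ↥(Cfsg.sigmaCore M)).map (Cfsg.sigmaCore M).subtype) :=
    P.2.map _
  have hPc : Nat.card ↥((P : Subgroup ↥(Cfsg.sigmaCore M)).map (Cfsg.sigmaCore M).subtype) =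
      p ^ (Nat.card G).factorization p := by
    rw [Subgroup.card_map_of_injective (Cfsg.sigmaCore M).subtype_injective,
      P.card_eq_multiplicity,
      Cfsg.Agent.Lead.BG12.factorization_eq_of_not_dvd_index hp.out
        (Cfsg.Agent.Lead.BG12.not_dvd_index_sigmaCore hG hM hp.out hpσ)]
  -- a Sylow subgroup `S` containing `X`
  have hXp : IsPGroup p ↥X := IsPGroup.of_card (n := 1) (by rw [hX, pow_one])
  obtain ⟨S, hXS, hSM, hSp, hScM⟩ := Cfsg.Agent.Lead.exists_le_card_eq_ppart hXp hXM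
  have hSc : Nat.card S = p ^ (Nat.card G).factorization p := by
    rw [hScM, Cfsg.Agent.Helper4.BG12.factorization_eq_of_mem_sigma hG hM hpσ]
  by_cases hβ : p ∈ Cfsg.beta M
  · refine ⟨cent_uniq_beta hG hM hβ hSM hSp hSc hXS hX, ?_, hPM⟩
    have hu := sylow_uniq hG hU hM hpσ hPM hPp hPc (Or.inl hβ)
    exact ⟨M, ⟨hM, hPM⟩, fun L hL => hu L hL.1 hL.2⟩
  · have hXc : X ≤ ⁅Cfsg.sigmaCore M, Cfsg.sigmaCore M⁆ := h.resolve_left hβ
    have hnpc := (Cfsg.Agent.Lead.BG108.prime_part hG hM hp.out hpσ.2.1 hβ).2.1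
    have hnaP := sylow_not_comm hG hM hpσ hnpc hPM hPp hPc hX hXc
    have hnaS := sylow_not_comm hG hM hpσ hnpc hSM hSp hSc hX hXc
    have huP := sylow_uniq hG hU hM hpσ hPM hPp hPc (Or.inr hnaP)
    have huS := sylow_uniq hG hU hM hpσ hSM hSp hSc (Or.inr hnaS)
    have hXS' := le_commutator_sylow hG hM hpσ hnpc hSM hSp hSc hXS hXc
    refine ⟨cent_uniq_comm hG hM hSM hSp hSc hnaS huS hXS' hX, ?_, hPM⟩
    exact ⟨M, ⟨hM, hPM⟩, fun L hL => huP L hL.1 hL.2⟩

end Cfsg.Agent.Lead.BG1213
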