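import Mathlib
import Cfsg.Prelude
import Cfsg.Agent.Lead.BG1213c
import Cfsg.Agent.Helper2.RankEmb

set_option autoImplicit false
set_option linter.unusedSectionVars false
set_option linter.unusedVariables false

/-!
Bender–Glauberman, Sections 15/16: first consequences of Section 12 for the standard
factorisation `M = K U M_σ`.
-/

namespace Cfsg.Agent.Lead.BG15

open Cfsg Cfsg.Agent.Helper1 Cfsg.Agent.Helper2 Cfsg.Agent.Helper1.BGT Cfsg.Agent.Helper1.BGU
  Cfsg.Agent.Helper1.BGV Cfsg.Agent.Helper1.BGW Cfsg.Agent.Helper1.BGX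
open scoped commutatorElement Pointwise

universe u

variable {G : Type u} [Group G] [Finite G]

/-- In a standard factorisation, `U` meets `M_σ` trivially. -/
theorem SigmaDecomp_inf_sigmaCore {M K U : Subgroup G} (hKU : Cfsg.IsSigmaDecomposition M K U) :
    U ⊓ Cfsg.sigmaCore M = ⊥ := by
  have h := hKU.compl.2.2.1
  rw [eq_bot_iff, ← h]
  exact inf_le_inf_left _ le_sup_right

/-- The prime divisors of `|U|` lie outside `σ(M)`. -/
theorem not_mem_sigma_of_isPGroup_le (hG : Cfsg.IsMinSimpleOddOrder G) {M K U : Subgroup G}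
    (hM : IsCoatom M) (hKU : Cfsg.IsSigmaDecomposition M K U) {p : ℕ} [hp : Fact p.Prime]
    {W : Subgroup G} (hWU : W ≤ U) (hWp : IsPGroup p ↥W) (hW1 : W ≠ ⊥) : p ∉ Cfsg.sigma M := by
  intro hpσ
  have hUM : U ≤ M := hKU.compl.1
  have h1 : W ≤ Cfsg.sigmaCore M :=
    Cfsg.Agent.Lead.BG12.le_sigmaCore' hG hM hpσ (hWU.trans hUM) hWp
  apply hW1
  rw [eq_bot_iff, ← SigmaDecomp_inf_sigmaCore hKU]
  exact le_inf hWU h1

/-- The Sylow subgroups of `U` are abelian of rank at most two. -/
theorem sylow_U (hG : Cfsg.IsMinSimpleOddOrder G) (M : Subgroup G) (hM : IsCoatom M)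
    (K U : Subgroup G) (hKU : Cfsg.IsSigmaDecomposition M K U) :
    ∀ (p : ℕ), p.Prime → ∀ P : Sylow p U,
      IsMulCommutative (P : Subgroup U) ∧ Cfsg.PRankLE p 2 (P : Subgroup U) := by
  intro p hp P
  have hpF : Fact p.Prime := Fact.mk hp
  have hUM : U ≤ M := hKU.compl.1
  by_cases hW1 : (P : Subgroup U).map U.subtype = ⊥
  · have hP1 : (P : Subgroup U) = ⊥ := (Subgroup.map_eq_bot_iff_of_injective _ U.subtype_injective).1 hW1
    have hall : ∀ x : (P : Subgroup U), x = 1 := by
      intro x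
      have h1 : (x : ↥U) ∈ (P : Subgroup U) := x.2
      have h2 : (x : ↥U) ∈ (⊥ : Subgroup U) := hP1 ▸ h1
      exact Subtype.ext (Subgroup.mem_bot.1 h2)
    constructor
    · refine ⟨⟨fun a b => ?_⟩⟩
      rw [hall a, hall b]
    · intro A hA hAe
      have : Nat.card A = 1 := by
        rw [Subgroup.card_eq_one, eq_bot_iff]
        intro a ha
        rw [Subgroup.mem_bot]
        exact hall a
      rw [this]
      exact Nat.one_le_pow _ _ hp.pos
  · have hWU : (P : Subgroup U).map U.subtype ≤ U := Subgroup.map_subtype_le _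
    have hWp : IsPGroup p ↥((P : Subgroup U).map U.subtype) := P.2.map _
    have hpσ := not_mem_sigma_of_isPGroup_le hG hM hKU hWU hWp hW1
    constructor
    · have hc := Cfsg.Agent.Helper4.BG12.commute_of_isPGroup_of_not_mem_sigma hG hM hpσ
        (hWU.trans hUM) hWp
      refine ⟨⟨fun a b => ?_⟩⟩
      apply Subtype.ext
      apply Subtype.ext
      exact hc _ ⟨a.1, a.2, rfl⟩ _ ⟨b.1, b.2, rfl⟩
    · have hr : Cfsg.PRankLE p 2 ↥M :=
        Cfsg.Agent.Lead.BG12.pRankLE_of_not_mem_sigma hG hM hp hpσ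
      let f : ↥(P : Subgroup U) →* ↥M :=
        (Subgroup.inclusion hUM).comp (P : Subgroup U).subtype
      have hf : Function.Injective f :=
        (Subgroup.inclusion_injective hUM).comp (P : Subgroup U).subtype_injective
      exact Cfsg.Agent.Helper2.pRankLE_of_injective p 2 f hf hr

end Cfsg.Agent.Lead.BG15
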