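import Mathlib
import Cfsg.Prelude
import Cfsg.Agent.Helper4.BG14P6
import Cfsg.Agent.S1423
import Cfsg.Agent.S1425
import Cfsg.Agent.S1426

set_option autoImplicit false
set_option linter.unusedSectionVars false
set_option linter.unusedVariables false
set_option linter.style.haveILetI false

/-!
Bender–Glauberman 14.2 (`S1430`, `S1431`) in the non-regular case of BG 13.9: the complement `E`
of `M_σ` acts semiprimely on `M_σ`, every subgroup of prime order of `E` is normal in `E`, all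
primes of `E` lie in `κ(M)` and `M_σ = M_β`.  Then `K = E`, `U = 1`.
-/

namespace Cfsg.Agent.Lead.BG14II

open Cfsg Cfsg.Agent.Helper1 Cfsg.Agent.Lead.BG12
open scoped commutatorElement Pointwise

universe u

variable {G : Type u} [Group G] [Finite G]

/-- The conclusion of Bender–Glauberman 13.9 (non-regular `τ₃`-action). -/
structure IsII2 (M E : Subgroup G) : Prop where
  compl : Cfsg.IsComplIn E (Cfsg.sigmaCore M) M
  kappa : ∀ q : ℕ, q.Prime → q ∣ Nat.card E → q ∈ Cfsg.kappa M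
  semiprime : ∀ e ∈ E, e ≠ 1 →
    Cfsg.sigmaCore M ⊓ Subgroup.centralizer ({e} : Set G) =
      Cfsg.sigmaCore M ⊓ Subgroup.centralizer (E : Set G)
  normal : ∀ X : Subgroup G, X ≤ E → (Nat.card X).Prime →
    E ≤ Subgroup.normalizer (X : Set G)
  beta : ∀ q : ℕ, q.Prime → q ∣ Nat.card (Cfsg.sigmaCore M) → q ∈ Cfsg.beta M

variable {M E : Subgroup G}

theorem IsII2.conj_eq (h : IsII2 M E) {b x : G} (hb : b ∈ Cfsg.sigmaCore M) (hx : x ∈ E)
    (hbx : b * x * b⁻¹ ∈ E) : b * x * b⁻¹ = x := by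
  have h1 : b * x * b⁻¹ * x⁻¹ ∈ E := E.mul_mem hbx (E.inv_mem hx)
  have hxn : x ∈ Subgroup.normalizer ((Cfsg.sigmaCore M : Subgroup G) : Set G) :=
    le_normalizer_sigmaCore M (h.compl.1 hx)
  have h2 : x * b⁻¹ * x⁻¹ ∈ Cfsg.sigmaCore M :=
    (Subgroup.mem_normalizer_iff.mp hxn b⁻¹).mp ((Cfsg.sigmaCore M).inv_mem hb)
  have h3 : b * x * b⁻¹ * x⁻¹ ∈ Cfsg.sigmaCore M := by
    have : b * x * b⁻¹ * x⁻¹ = b * (x * b⁻¹ * x⁻¹) := by group
    rw [this]
    exact (Cfsg.sigmaCore M).mul_mem hb h2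
  have h4 : b * x * b⁻¹ * x⁻¹ ∈ E ⊓ Cfsg.sigmaCore M := Subgroup.mem_inf.mpr ⟨h1, h3⟩
  rw [h.compl.2.2.1, Subgroup.mem_bot] at h4
  exact mul_inv_eq_one.mp h4

theorem IsII2.mem_fix (h : IsII2 M E) {b x : G} (hb : b ∈ Cfsg.sigmaCore M) (hx : x ∈ E)
    (hx1 : x ≠ 1) (hbx : b * x * b⁻¹ ∈ E) :
    b ∈ Cfsg.sigmaCore M ⊓ Subgroup.centralizer (E : Set G) := by
  have h1 := h.conj_eq hb hx hbx
  rw [← h.semiprime x hx hx1]
  refine Subgroup.mem_inf.mpr ⟨hb, ?_⟩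
  rw [Subgroup.mem_centralizer_singleton_iff]
  calc b * x = b * x * b⁻¹ * b := by group
    _ = x * b := by rw [h1]

theorem IsII2.fix_le_normalizer (h : IsII2 M E) {X : Subgroup G} (hXE : X ≤ E) :
    Cfsg.sigmaCore M ⊓ Subgroup.centralizer (E : Set G) ≤ Subgroup.normalizer (X : Set G) :=
  inf_le_right.trans ((Subgroup.centralizer_le (show (X : Set G) ⊆ E from hXE)).trans
    (Subgroup.centralizer_le_normalizer _))

/-- `N_M(X) = E × C_{M_σ}(E)` for `X ≤ E` nontrivial and normal in `E`. -/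
theorem IsII2.inf_normalizer_eq (h : IsII2 M E) {X : Subgroup G} (hXE : X ≤ E) (hX1 : X ≠ ⊥)
    (hEX : E ≤ Subgroup.normalizer (X : Set G)) :
    M ⊓ Subgroup.normalizer (X : Set G) =
      E ⊔ (Cfsg.sigmaCore M ⊓ Subgroup.centralizer (E : Set G)) := by
  apply le_antisymm
  · intro g hg
    obtain ⟨hgM, hgN⟩ := Subgroup.mem_inf.mp hg
    obtain ⟨a, ha, b, hb, rfl⟩ := h.compl.2.2.2 g hgM
    have hbN : b ∈ Subgroup.normalizer (X : Set G) := by
      have : b = a⁻¹ * (a * b) := by group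
      rw [this]
      exact Subgroup.mul_mem _ (Subgroup.inv_mem _ (hEX ha)) hgN
    obtain ⟨x, hx⟩ := (Subgroup.ne_bot_iff_exists_ne_one.mp hX1)
    have hxX : (x : G) ∈ X := x.2
    have hx1' : (x : G) ≠ 1 := fun hh => hx (Subtype.ext hh)
    have hbx : b * (x : G) * b⁻¹ ∈ X := (Subgroup.mem_normalizer_iff.mp hbN _).mp hxX
    exact Subgroup.mul_mem_sup ha (h.mem_fix hb (hXE hxX) hx1' (hXE hbx))
  · refine sup_le (le_inf h.compl.1 hEX) (le_inf ?_ (h.fix_le_normalizer hXE))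
    exact inf_le_left.trans sigmaCore_le

theorem IsII2.ne_bot_of_prime (h : IsII2 M E) {X : Subgroup G} (hXE : X ≤ E)
    (hXp : (Nat.card X).Prime) : X ≠ ⊥ ∧ E ≠ ⊥ := by
  have hX1 : X ≠ ⊥ := by
    intro hX
    rw [hX, Subgroup.card_bot] at hXp
    exact Nat.not_prime_one hXp
  refine ⟨hX1, ?_⟩
  intro hE
  rw [hE, le_bot_iff] at hXE
  exact hX1 hXE

/-- `S1430` (Bender–Glauberman 14.2(a),(b),(c),(e)) in the non-regular case: `K = E`, `U = 1`. -/
theorem IsII2.s1430 (hG : Cfsg.IsMinSimpleOddOrder G) (hM : IsCoatom M) (h : IsII2 M E) :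
    (∀ k ∈ E, k ≠ 1 → Cfsg.sigmaCore M ⊓ Subgroup.centralizer ({k} : Set G) =
        (Cfsg.sigmaCore M ⊓ Subgroup.centralizer (E : Set G))) ∧
      (∃ U : Subgroup G, IsMulCommutative U ∧
        Cfsg.IsPiHallOf {q | q.Prime ∧ q ∉ Cfsg.kappa M ∧ q ∉ Cfsg.sigma M} U M ∧
        E ≤ Subgroup.normalizer (U : Set G) ∧
        ∀ k ∈ E, k ≠ 1 → U ⊓ Subgroup.centralizer ({k} : Set G) = ⊥) ∧
      ∀ X : Subgroup G, X ≤ E → (Nat.card X).Prime →
        M ⊓ Subgroup.normalizer (X : Set G) =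
            E ⊔ (Cfsg.sigmaCore M ⊓ Subgroup.centralizer (E : Set G)) ∧
          M ⊓ Subgroup.normalizer (E : Set G) =
            E ⊔ (Cfsg.sigmaCore M ⊓ Subgroup.centralizer (E : Set G)) ∧
          ∀ Mstar : Subgroup G, IsCoatom Mstar → Subgroup.normalizer (X : Set G) ≤ Mstar →
            X ≤ Cfsg.sigmaCore Mstar := by
  refine ⟨h.semiprime, ⟨⊥, ⟨⟨fun a b => Subsingleton.elim _ _⟩⟩, ⟨bot_le, ?_, ?_⟩, ?_,
    fun k _ _ => bot_inf_eq _⟩, ?_⟩
  · intro p hp hd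
    rw [Subgroup.card_bot] at hd
    exact (hp.ne_one (Nat.dvd_one.mp hd)).elim
  · intro p hp hpπ hd
    rw [Subgroup.relIndex_bot_left, ← IsComplIn_card_mul h.compl] at hd
    rcases (Nat.Prime.dvd_mul hp).mp hd with hd | hd
    · exact hpπ.2.1 (h.kappa p hp hd)
    · exact hpπ.2.2 (mem_sigma_of_dvd_card_sigmaCore hp hd)
  · intro e _
    rw [Subgroup.mem_normalizer_iff]
    intro x
    simp [Subgroup.mem_bot]
  · intro X hXE hXp
    obtain ⟨hX1, hE1⟩ := h.ne_bot_of_prime hXE hXp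
    refine ⟨h.inf_normalizer_eq hXE hX1 (h.normal X hXE hXp),
      h.inf_normalizer_eq le_rfl hE1 Subgroup.le_normalizer, ?_⟩
    intro Mstar hMstar hNX
    haveI : Fact (Nat.card X).Prime := ⟨hXp⟩
    have hpκ : Nat.card X ∈ Cfsg.kappa M := h.kappa _ hXp (Subgroup.card_dvd_of_le hXE)
    exact (Cfsg.Agent.Helper4.BG14.le_sigmaCore_of_mem_kappa' hG hM hMstar hpκ
      (hXE.trans h.compl.1) rfl hNX).2

omit [Finite G] in
theorem exists_le_card_prime [Finite G] {H : Subgroup G} {p : ℕ} (hp : p.Prime)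
    (hd : p ∣ Nat.card H) : ∃ X : Subgroup G, X ≤ H ∧ Nat.card X = p := by
  haveI := Fact.mk hp
  obtain ⟨x, hx⟩ := exists_prime_orderOf_dvd_card' p hd
  refine ⟨(Subgroup.zpowers x).map H.subtype, Subgroup.map_subtype_le _, ?_⟩
  rw [Subgroup.card_map_of_injective H.subtype_injective, Nat.card_zpowers, hx]

/-- In the non-regular case `M_σ = M_β` is a TI-subgroup with normalizer `M`. -/
theorem IsII2.ti (hG : Cfsg.IsMinSimpleOddOrder G) (hM : IsCoatom M) (h : IsII2 M E) {g : G}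
    (hg : g ∉ M) : Cfsg.sigmaCore M ⊓ M.map (MulAut.conj g).toMonoidHom = ⊥ := by
  obtain ⟨-, hβ, -⟩ := (Cfsg.Agent.S1426.result hG M hM E h.compl).2.2 g hg
  by_contra hne
  have hcard : Nat.card ↥(Cfsg.sigmaCore M ⊓ M.map (MulAut.conj g).toMonoidHom) ≠ 1 :=
    fun hc => hne (Subgroup.card_eq_one.mp hc)
  obtain ⟨q, hq, hqd⟩ := Nat.exists_prime_and_dvd hcard
  exact hβ q hq hqd (h.beta q hq (hqd.trans (Subgroup.card_dvd_of_le inf_le_left)))

/-- `S1431` (Bender–Glauberman 14.2(d)) in the non-regular case. -/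
theorem IsII2.s1431 (hG : Cfsg.IsMinSimpleOddOrder G) (hM : IsCoatom M) (h : IsII2 M E)
    (hE1 : E ≠ ⊥) :
    (∀ g : G, g ∉ M → (Cfsg.sigmaCore M ⊓ Subgroup.centralizer (E : Set G)) ⊓
        M.map (MulAut.conj g).toMonoidHom = ⊥) ∧
      (∀ g ∈ M, g ∉ E ⊔ (Cfsg.sigmaCore M ⊓ Subgroup.centralizer (E : Set G)) →
        E ⊓ E.map (MulAut.conj g).toMonoidHom = ⊥) ∧
      (∀ (p : ℕ), p.Prime →
        p ∣ Nat.card ↥(Cfsg.sigmaCore M ⊓ Subgroup.centralizer (E : Set G)) →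
        ∀ S : Sylow p ↥(Cfsg.sigmaCore M),
          Cfsg.InUniqueMaximal ((S : Subgroup ↥(Cfsg.sigmaCore M)).map
            (Cfsg.sigmaCore M).subtype) ∧
          (S : Subgroup ↥(Cfsg.sigmaCore M)).map (Cfsg.sigmaCore M).subtype ≤ M ∧
          ¬ (S : Subgroup ↥(Cfsg.sigmaCore M)).map (Cfsg.sigmaCore M).subtype ≤
            (Cfsg.sigmaCore M ⊓ Subgroup.centralizer (E : Set G))) ∧
      ∀ Y : Subgroup G, (∀ p : ℕ, p.Prime → p ∣ Nat.card Y → p ∈ Cfsg.sigma M) →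
        Y ⊓ (Cfsg.sigmaCore M ⊓ Subgroup.centralizer (E : Set G)) ≠ ⊥ →
        Y ≤ Cfsg.sigmaCore M := by
  have hd1 : ∀ g : G, g ∉ M → (Cfsg.sigmaCore M ⊓ Subgroup.centralizer (E : Set G)) ⊓
      M.map (MulAut.conj g).toMonoidHom = ⊥ := by
    intro g hg
    rw [eq_bot_iff, ← h.ti hG hM hg]
    exact inf_le_inf_right _ inf_le_left
  refine ⟨hd1, ?_, ?_, ?_⟩
  · intro g hgM hgn
    rw [eq_bot_iff]
    intro z hz
    obtain ⟨hzE, x, hxE, rfl⟩ := Subgroup.mem_inf.mp hz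
    rw [Subgroup.mem_bot]
    by_contra hne
    have hx1 : x ≠ 1 := by
      rintro rfl
      exact hne (map_one _)
    obtain ⟨a, ha, b, hb, rfl⟩ := h.compl.2.2.2 g hgM
    have hzE' : a * b * x * (a * b)⁻¹ ∈ E := by
      have h0 : (MulAut.conj (a * b)).toMonoidHom x = a * b * x * (a * b)⁻¹ := by
        simp only [MulEquiv.coe_toMonoidHom, MulAut.conj_apply]
      rw [← h0]
      exact hzE
    have hbx : b * x * b⁻¹ ∈ E := by
      have : b * x * b⁻¹ = a⁻¹ * (a * b * x * (a * b)⁻¹) * a := by group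
      rw [this]
      exact E.mul_mem (E.mul_mem (E.inv_mem ha) hzE') ha
    exact hgn (Subgroup.mul_mem_sup ha (h.mem_fix hb hxE hx1 hbx))
  · intro p hp hpd S
    haveI := Fact.mk hp
    have hpd' : p ∣ Nat.card (Cfsg.sigmaCore M) :=
      hpd.trans (Subgroup.card_dvd_of_le inf_le_left)
    have hpβ : p ∈ Cfsg.beta M := h.beta p hp hpd'
    have hpσ : p ∈ Cfsg.sigma M := mem_sigma_of_dvd_card_sigmaCore hp hpd'
    obtain ⟨X, hXY, hX⟩ := exists_le_card_prime hp hpd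
    have hXM : X ≤ M := hXY.trans (inf_le_left.trans sigmaCore_le)
    obtain ⟨-, huniq, hSM⟩ := Cfsg.Agent.S1423.result hG M hM p hpσ X hXM hX S (Or.inl hpβ)
    refine ⟨huniq, hSM, ?_⟩
    intro hSY
    have hEcard : Nat.card E ≠ 1 := fun hc => hE1 (Subgroup.card_eq_one.mp hc)
    obtain ⟨r, hr, hrd⟩ := Nat.exists_prime_and_dvd hEcard
    haveI := Fact.mk hr
    obtain ⟨X0, hX0E, hX0⟩ := exists_le_card_prime hr hrd
    have hX0p : (Nat.card X0).Prime := hX0 ▸ hr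
    obtain ⟨hX01, -⟩ := h.ne_bot_of_prime hX0E hX0p
    have hX0r : IsPGroup r ↥X0 := IsPGroup.of_card (n := 1) (by rw [hX0, pow_one])
    have hX0top : X0 ≠ ⊤ := Cfsg.Agent.Helper1.BGU.sylow_ne_top hG r X0 hX0r
    obtain ⟨H, hH, hNH⟩ := Cfsg.Agent.Helper1.BGU.exists_coatom_ge
      (Cfsg.Agent.Helper1.BGU.normalizer_ne_top_of_simple hG hX01 hX0top)
    have hSH : (S : Subgroup ↥(Cfsg.sigmaCore M)).map (Cfsg.sigmaCore M).subtype ≤ H :=
      hSY.trans ((h.fix_le_normalizer hX0E).trans hNH)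
    have hHM : H = M := huniq.unique ⟨hH, hSH⟩ ⟨hM, hSM⟩
    subst hHM
    have hpκ : Nat.card X0 ∈ Cfsg.kappa H := h.kappa _ hX0p (Subgroup.card_dvd_of_le hX0E)
    haveI : Fact (Nat.card X0).Prime := ⟨hX0p⟩
    have hle := (Cfsg.Agent.Helper4.BG14.le_sigmaCore_of_mem_kappa' hG hM hM hpκ
      (hX0E.trans h.compl.1) rfl hNH).2
    have hbot : X0 ≤ E ⊓ Cfsg.sigmaCore H := le_inf hX0E hle
    rw [h.compl.2.2.1, le_bot_iff] at hbot
    exact hX01 hbot
  · intro Y hYσ hYne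
    have hY1 : Y ≠ ⊥ := by
      rintro rfl
      exact hYne (bot_inf_eq _)
    obtain ⟨g, hg⟩ := Cfsg.Agent.S1425.result hG M hM Y hY1 hYσ
    by_cases hgM : g ∈ M
    · intro y hy
      have h1 : g * y * g⁻¹ ∈ Cfsg.sigmaCore M := by
        apply hg
        exact ⟨y, hy, by simp [MulAut.conj_apply]⟩
      have hgn : g⁻¹ ∈ Subgroup.normalizer ((Cfsg.sigmaCore M : Subgroup G) : Set G) :=
        le_normalizer_sigmaCore M (M.inv_mem hgM)
      have h2 := (Subgroup.mem_normalizer_iff.mp hgn _).mp h1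
      have : g⁻¹ * (g * y * g⁻¹) * g⁻¹⁻¹ = y := by group
      rwa [this] at h2
    · exfalso
      have hginv : g⁻¹ ∉ M := fun hh => hgM (by simpa using M.inv_mem hh)
      obtain ⟨x, hx⟩ := Subgroup.ne_bot_iff_exists_ne_one.mp hYne
      obtain ⟨hxY, hxF⟩ := Subgroup.mem_inf.mp x.2
      have h1 : g * (x : G) * g⁻¹ ∈ Cfsg.sigmaCore M := by
        apply hg
        exact ⟨x, hxY, by simp [MulAut.conj_apply]⟩
      have h2 : (x : G) ∈ M.map (MulAut.conj g⁻¹).toMonoidHom := by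
        refine ⟨g * (x : G) * g⁻¹, sigmaCore_le h1, ?_⟩
        simp only [MulEquiv.coe_toMonoidHom, MulAut.conj_apply]
        group
      have h3 : (x : G) ∈ (Cfsg.sigmaCore M ⊓ Subgroup.centralizer (E : Set G)) ⊓
          M.map (MulAut.conj g⁻¹).toMonoidHom := Subgroup.mem_inf.mpr ⟨hxF, h2⟩
      rw [hd1 g⁻¹ hginv, Subgroup.mem_bot] at h3
      exact hx (Subtype.ext h3)

end Cfsg.Agent.Lead.BG14II
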