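import Mathlib
import Cfsg.Prelude
import Cfsg.Agent.Lead.BG14II
import Cfsg.Agent.Helper1.BG139e
import Cfsg.Agent.Helper4.BG14L

set_option autoImplicit false
set_option linter.unusedSectionVars false
set_option linter.unusedVariables false
set_option linter.style.haveILetI false

/-!
Glue for Bender–Glauberman 14.2 (`S1430`, `S1431`): a Hall `κ(M)`-subgroup `K` either satisfies
`κ(M) ⊆ τ₁(M)` (regular branch, helper4) or `K` is a complement of `M_σ` acting semiprimely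
(BG 13.9, helper1 + `Lead.BG14II`).
-/

namespace Cfsg.Agent.Lead.BG14II

open Cfsg Cfsg.Agent.Helper1 Cfsg.Agent.Lead.BG12
open scoped commutatorElement Pointwise

universe u

variable {G : Type u} [Group G] [Finite G]

theorem isII2_of_not_regular (hG : Cfsg.IsMinSimpleOddOrder G) {M : Subgroup G}
    (hM : IsCoatom M) {K : Subgroup G} (hK : Cfsg.IsPiHallOf (Cfsg.kappa M) K M)
    (hκ : ¬ ∀ p : ℕ, p ∈ Cfsg.kappa M → p ∈ Cfsg.tau1 M) : IsII2 M K := by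
  obtain ⟨p, hpκ, hpτ1⟩ : ∃ p : ℕ, p ∈ Cfsg.kappa M ∧ p ∉ Cfsg.tau1 M := by
    by_contra hcon
    apply hκ
    intro p hp
    by_contra h2
    exact hcon ⟨p, hp, h2⟩
  have hp : p.Prime := hpκ.1
  haveI := Fact.mk hp
  have hp1 : Cfsg.PRankLE p 1 ↥M := Cfsg.Agent.Helper4.BG14.pRankLE_one_of_mem_kappa hpκ
  have hpτ3 : p ∈ Cfsg.tau3 M := by
    refine ⟨hp, hpκ.2.2.1, ?_, hp1⟩
    by_contra hnd
    exact hpτ1 ⟨hp, hpκ.2.2.1, hpκ.2.1, hnd, hp1⟩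
  have hK' := hK
  obtain ⟨hKM, hKπ, hKidx⟩ := hK
  have hKσ : ∀ t : ℕ, t.Prime → t ∣ Nat.card K → t ∉ Cfsg.sigma M :=
    fun t ht hd => (hKπ t ht hd).2.2.1
  obtain ⟨E, hE, hKE⟩ := Cfsg.Agent.Helper4.BG10.exists_compl_sigmaCore_ge hG hM hKM hKσ
  have hpK : p ∣ Nat.card K := by
    have h1 : p ∣ K.relIndex M * Nat.card K := by
      rw [Cfsg.Agent.Helper1.relIndex_mul_card_of_le hKM]; exact hpκ.2.1
    exact ((Nat.Prime.dvd_mul hp).mp h1).resolve_left (hKidx p hp hpκ)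
  obtain ⟨X, hXK, hX⟩ := exists_le_card_prime hp hpK
  have hXE : X ≤ E := hXK.trans hKE
  have hY := Cfsg.Agent.Helper4.BG14.sigmaCore_inf_centralizer_ne_bot_of_mem_kappa hpκ
    (hXE.trans hE.1) hX
  obtain ⟨hτ2, hsemi, hYne, hnorm, hβ, -⟩ :=
    Cfsg.Agent.Helper1.BG139.tau13_nonregular hG hM hE hpτ3 hXE hX hY
  have hEcard : Nat.card E = (Cfsg.sigmaCore M).relIndex M := by
    have h1 := IsComplIn_card_mul hE
    have h2 := Cfsg.Agent.Helper1.relIndex_mul_card_of_le (sigmaCore_le (M := M))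
    exact Nat.eq_of_mul_eq_mul_right Nat.card_pos (h1.trans h2.symm)
  have hEκ : ∀ q : ℕ, q.Prime → q ∣ Nat.card E → q ∈ Cfsg.kappa M := by
    intro q hq hqd
    haveI := Fact.mk hq
    have hqσ : q ∉ Cfsg.sigma M := by
      intro hqσ
      exact not_dvd_relIndex_sigmaCore hG hM hq hqσ (hEcard ▸ hqd)
    have hq1 : Cfsg.PRankLE q 1 ↥M := by
      by_contra hn
      have h3 : q ∈ Cfsg.tau2 M := ⟨hq, hqσ, pRankLE_of_not_mem_sigma hG hM hq hqσ, hn⟩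
      rw [hτ2] at h3
      exact h3
    obtain ⟨d, hd⟩ := exists_prime_orderOf_dvd_card' q hqd
    obtain ⟨y, hy⟩ := Subgroup.ne_bot_iff_exists_ne_one.mp hYne
    obtain ⟨hyσ, hyC⟩ := Subgroup.mem_inf.mp y.2
    have hdo : orderOf (d : G) = q := by
      rw [Subgroup.orderOf_coe]; exact hd
    refine Cfsg.Agent.Helper4.BG14.mem_kappa_of_commute hG hqσ hq1 (hE.1 d.2) hdo hyσ
      (fun hh => hy (Subtype.ext hh)) ?_
    exact ((Subgroup.mem_centralizer_iff.mp hyC) d d.2)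
  have hdvd : Nat.card E ∣ Nat.card K := by
    apply Cfsg.Agent.Helper4.BG14.card_dvd_of_forall_pgroup Nat.card_pos.ne'
    intro r hr T hTE hTr
    by_cases hT : T = ⊥
    · rw [hT, Subgroup.card_bot]; exact one_dvd _
    · have hrd : r ∣ Nat.card T := Cfsg.Agent.Helper1.BGV.dvd_card_of_isPGroup_ne_bot hTr hT
      have hrκ : r ∈ Cfsg.kappa M :=
        hEκ r hr.out (hrd.trans (Subgroup.card_dvd_of_le hTE))
      exact Cfsg.Agent.Helper4.BG14.card_dvd_card_of_isPiHallOf hK' hrκ (hTE.trans hE.1) hTr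
  have hKeq : K = E :=
    Subgroup.eq_of_le_of_card_ge hKE (Nat.le_of_dvd Nat.card_pos hdvd)
  subst hKeq
  exact ⟨hE, hEκ, hsemi, hnorm, hβ⟩

/-- Bender–Glauberman 14.2 (a),(b),(c),(e) = `S1430`. -/
theorem s1430 (hG : Cfsg.IsMinSimpleOddOrder G)
    (M : Subgroup G) (hM : IsCoatom M) (K : Subgroup G)
    (hK : Cfsg.IsPiHallOf (Cfsg.kappa M) K M) (hK1 : K ≠ ⊥) :
    (∀ k ∈ K, k ≠ 1 → Cfsg.sigmaCore M ⊓ Subgroup.centralizer ({k} : Set G) = (Cfsg.sigmaCore M ⊓ Subgroup.centralizer (K : Set G))) ∧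
      (∃ U : Subgroup G, IsMulCommutative U ∧ Cfsg.IsPiHallOf {q | q.Prime ∧ q ∉ Cfsg.kappa M ∧ q ∉ Cfsg.sigma M} U M ∧
        K ≤ Subgroup.normalizer (U : Set G) ∧ ∀ k ∈ K, k ≠ 1 → U ⊓ Subgroup.centralizer ({k} : Set G) = ⊥) ∧
      ∀ X : Subgroup G, X ≤ K → (Nat.card X).Prime →
        M ⊓ Subgroup.normalizer (X : Set G) = K ⊔ (Cfsg.sigmaCore M ⊓ Subgroup.centralizer (K : Set G)) ∧ M ⊓ Subgroup.normalizer (K : Set G) = K ⊔ (Cfsg.sigmaCore M ⊓ Subgroup.centralizer (K : Set G)) ∧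
        ∀ Mstar : Subgroup G, IsCoatom Mstar → Subgroup.normalizer (X : Set G) ≤ Mstar → X ≤ Cfsg.sigmaCore Mstar := by
  by_cases hκ : ∀ p : ℕ, p ∈ Cfsg.kappa M → p ∈ Cfsg.tau1 M
  · exact Cfsg.Agent.Helper4.BG14.s1430_regular hG M hM K hK hK1 hκ
  · exact (isII2_of_not_regular hG hM hK hκ).s1430 hG hM

/-- Bender–Glauberman 14.2 (d) = `S1431`. -/
theorem s1431 (hG : Cfsg.IsMinSimpleOddOrder G)
    (M : Subgroup G) (hM : IsCoatom M) (K : Subgroup G)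
    (hK : Cfsg.IsPiHallOf (Cfsg.kappa M) K M) (hK1 : K ≠ ⊥) :
    (∀ g : G, g ∉ M → (Cfsg.sigmaCore M ⊓ Subgroup.centralizer (K : Set G)) ⊓ M.map (MulAut.conj g).toMonoidHom = ⊥) ∧
      (∀ g ∈ M, g ∉ K ⊔ (Cfsg.sigmaCore M ⊓ Subgroup.centralizer (K : Set G)) → K ⊓ K.map (MulAut.conj g).toMonoidHom = ⊥) ∧
      (∀ (p : ℕ), p.Prime → p ∣ Nat.card ↥(Cfsg.sigmaCore M ⊓ Subgroup.centralizer (K : Set G)) → ∀ S : Sylow p ↥(Cfsg.sigmaCore M),
        Cfsg.InUniqueMaximal ((S : Subgroup ↥(Cfsg.sigmaCore M)).map (Cfsg.sigmaCore M).subtype) ∧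
        (S : Subgroup ↥(Cfsg.sigmaCore M)).map (Cfsg.sigmaCore M).subtype ≤ M ∧
        ¬ (S : Subgroup ↥(Cfsg.sigmaCore M)).map (Cfsg.sigmaCore M).subtype ≤ (Cfsg.sigmaCore M ⊓ Subgroup.centralizer (K : Set G))) ∧
      ∀ Y : Subgroup G, (∀ p : ℕ, p.Prime → p ∣ Nat.card Y → p ∈ Cfsg.sigma M) → Y ⊓ (Cfsg.sigmaCore M ⊓ Subgroup.centralizer (K : Set G)) ≠ ⊥ → Y ≤ Cfsg.sigmaCore M := by
  by_cases hκ : ∀ p : ℕ, p ∈ Cfsg.kappa M → p ∈ Cfsg.tau1 M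
  · exact Cfsg.Agent.Helper4.BG14.s1431_regular hG M hM K hK hK1 hκ
  · exact (isII2_of_not_regular hG hM hK hκ).s1431 hG hM hK1

end Cfsg.Agent.Lead.BG14II
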