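import Mathlib
import Cfsg.Prelude
import Cfsg.Agent.Helper2.BG144e
import Cfsg.Agent.Helper1.BG147m
import Cfsg.Agent.Helper4.BG15M
import Cfsg.Agent.Lead.BG12b
import Cfsg.Agent.S1357
import Cfsg.Agent.S1375

set_option autoImplicit false

/-!
Bender–Glauberman Theorem 14.4(g), easy parts (first and third clauses of S1376): if `x ∈ M_σ`
is "bad" (`C_G(x) ⊄ M`) and the maximal subgroup `N ⊇ C_G(x)` has `κ(N) ≠ ∅`, then `κ(M) = ∅`;
and `M_F` is then not a TI-subset.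
-/

namespace Cfsg.Agent.Lead.BG144g

open Cfsg
open scoped Pointwise

universe u

variable {G : Type u} [Group G] [Finite G]

/-- transport of a Hall subgroup by an inner automorphism of the ambient subgroup -/
theorem isPiHallOf_map_conj {π : Set ℕ} {K N : Subgroup G} (hK : Cfsg.IsPiHallOf π K N) {n : G}
    (hn : n ∈ N) : Cfsg.IsPiHallOf π (K.map (MulAut.conj n).toMonoidHom) N := by
  have hinj : Function.Injective (MulAut.conj n).toMonoidHom := (MulAut.conj n).injective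
  have hle : K.map (MulAut.conj n).toMonoidHom ≤ N := by
    rintro _ ⟨a, ha, rfl⟩
    simp only [MulEquiv.coe_toMonoidHom, MulAut.conj_apply]
    exact N.mul_mem (N.mul_mem hn (hK.1 ha)) (N.inv_mem hn)
  have hcard : Nat.card ↥(K.map (MulAut.conj n).toMonoidHom) = Nat.card ↥K :=
    Subgroup.card_map_of_injective hinj
  refine ⟨hle, fun p hp hd => hK.2.1 p hp (hcard ▸ hd), fun p hp hpπ hd => hK.2.2 p hp hpπ ?_⟩
  have h1 := Cfsg.Agent.Helper1.relIndex_mul_card_of_le hle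
  have h2 := Cfsg.Agent.Helper1.relIndex_mul_card_of_le hK.1
  rw [hcard] at h1
  have h3 : (K.map (MulAut.conj n).toMonoidHom).relIndex N = K.relIndex N :=
    Nat.eq_of_mul_eq_mul_right Nat.card_pos (h1.trans h2.symm)
  rwa [h3] at hd

theorem kappa_eq_empty_of_bad (hG : Cfsg.IsMinSimpleOddOrder G) {M : Subgroup G} (hM : IsCoatom M)
    {x : G} (hx : x ∈ Cfsg.sigmaCore M) (hx1 : x ≠ 1)
    (hxM : ¬ Subgroup.centralizer ({x} : Set G) ≤ M) {N : Subgroup G} (hN : IsCoatom N)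
    (hxN : Subgroup.centralizer ({x} : Set G) ≤ N) (hkN : (Cfsg.kappa N).Nonempty) :
    Cfsg.kappa M = ∅ := by
  classical
  obtain ⟨N0, d0⟩ := Cfsg.Agent.Helper2.BG144.exists_badData hG hM hx hx1 hxM
  have hNN0 : N = N0 := Cfsg.Agent.Helper2.BG144.unique_of_badData hG hM hx hx1 hxM d0 N hN hxN
  subst hNN0
  have d := d0
  have hsolvN : Group.IsSolvable ↥N := hG.2.2.2 N hN.1
  -- a prime `p ∈ κ(N)` and an element of order `p` in `M ∩ N`
  obtain ⟨p, hpκ⟩ := hkN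
  have hp : p.Prime := hpκ.1
  have hpF : Fact p.Prime := Fact.mk hp
  have hpN : p ∣ Nat.card N := hpκ.2.1
  have hpσ : p ∉ Cfsg.sigma N := hpκ.2.2.1
  have hcm := Cfsg.Agent.Helper1.IsComplIn_card_mul d.compl
  have hpMN : p ∣ Nat.card ↥(M ⊓ N) := by
    rw [← hcm] at hpN
    rcases (Nat.Prime.dvd_mul hp).1 hpN with h | h
    · exact h
    · exact absurd (Cfsg.Agent.Lead.BG12.mem_sigma_of_dvd_card_sigmaCore hp h) hpσ
  obtain ⟨⟨k, hkMN⟩, hko⟩ := exists_prime_orderOf_dvd_card' (G := ↥(M ⊓ N)) p hpMN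
  have hko' : orderOf k = p := by
    have := Subgroup.orderOf_coe (⟨k, hkMN⟩ : ↥(M ⊓ N))
    rw [← this] at hko
    exact hko
  have hk1 : k ≠ 1 := by
    intro h; rw [h, orderOf_one] at hko'; exact hp.one_lt.ne hko'
  have hXcard : Nat.card ↥(Subgroup.zpowers k) = p := by rw [Nat.card_zpowers, hko']
  have hXp : IsPGroup p ↥(Subgroup.zpowers k) := IsPGroup.of_card (n := 1) (by rw [hXcard, pow_one])
  -- a Hall `κ(N)`-subgroup containing `⟨k⟩`
  obtain ⟨KH, hKH, hKH1⟩ := Cfsg.Agent.Helper1.BG147.exists_kappaHall_ne_bot hG hN ⟨p, hpκ⟩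
  have hXN : Subgroup.zpowers k ≤ N := Subgroup.zpowers_le.2 hkMN.2
  obtain ⟨n, hn, hXK⟩ := Cfsg.Agent.Helper1.BG147.exists_conj_ge_of_hall hsolvN hKH hXN (by
    intro r hr hd
    rw [hXcard] at hd
    rw [(Nat.prime_dvd_prime_iff_eq hr hp).1 hd]
    exact hpκ)
  set K₁ : Subgroup G := KH.map (MulAut.conj n).toMonoidHom with hK₁def
  have hK₁ : Cfsg.IsPiHallOf (Cfsg.kappa N) K₁ N := isPiHallOf_map_conj hKH hn
  have hkK₁ : k ∈ K₁ := hXK (Subgroup.mem_zpowers k)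
  have hK₁1 : K₁ ≠ ⊥ := by
    intro h; rw [h, Subgroup.mem_bot] at hkK₁; exact hk1 hkK₁
  obtain ⟨Ns, e⟩ := Cfsg.Agent.Helper1.BG147.exists_emb' hG hN hK₁ hK₁1
  have P := Cfsg.Agent.Helper1.BG147.p142' hG hN hK₁ hK₁1
  have PNs := Cfsg.Agent.Helper1.BG147.p142' hG e.coatom e.hall P.kstar_ne
  have hkNs : k ∈ Cfsg.sigmaCore Ns := by
    have := hkK₁
    rw [e.K_eq] at this
    exact this.1
  have hXle : Subgroup.zpowers k ≤ Cfsg.sigmaCore Ns ⊓ Subgroup.centralizer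
      ((Cfsg.sigmaCore N ⊓ Subgroup.centralizer (K₁ : Set G) : Subgroup G) : Set G) := by
    rw [← e.K_eq]; exact hXK
  have huniq := PNs.uniq (Subgroup.zpowers k) hXle (by rw [hXcard]; exact hp)
  rw [Cfsg.Agent.Helper1.BG147.centralizer_zpowers_eq] at huniq
  -- suppose `κ(M) ≠ ∅`
  by_contra hκM
  have hκM' : (Cfsg.kappa M).Nonempty := Set.nonempty_iff_ne_empty.2 hκM
  obtain ⟨g, hg | hg⟩ :=
    Cfsg.Agent.Helper1.BG147.conj_of_kappa_nonempty hG hN hK₁ hK₁1 e hM hκM'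
  · -- `M` conjugate to `N`
    apply d.not_conj g⁻¹
    rw [hg, Cfsg.Agent.Helper2.BG144.map_conj_map_conj, inv_mul_cancel,
      Cfsg.Agent.Helper2.BG144.map_conj_one]
  · -- `M` conjugate to `Ns`
    have hσ : Cfsg.sigma M = Cfsg.sigma Ns := by
      rw [hg]; exact Cfsg.Agent.Helper2.BG144.sigma_map_conj hG e.coatom g
    have hpσNs : p ∈ Cfsg.sigma Ns := by
      apply Cfsg.Agent.Lead.BG12.mem_sigma_of_dvd_card_sigmaCore hp
      have : orderOf (⟨k, hkNs⟩ : ↥(Cfsg.sigmaCore Ns)) = p := by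
        rw [← Subgroup.orderOf_coe]; exact hko'
      rw [← this]; exact orderOf_dvd_natCard _
    have hpσM : p ∈ Cfsg.sigma M := hσ ▸ hpσNs
    have hXM : Subgroup.zpowers k ≤ M := Subgroup.zpowers_le.2 hkMN.1
    have hkσM : k ∈ Cfsg.sigmaCore M :=
      Cfsg.Agent.Lead.BG12.le_sigmaCore' hG hM hpσM hXM hXp (Subgroup.mem_zpowers k)
    by_cases hCk : Subgroup.centralizer ({k} : Set G) ≤ M
    · have hMNs : M = Ns := huniq.2 M hM hCk
      have h1 := Cfsg.Agent.Helper1.BG147.sigmaCore_inf_Ms hG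
        (Cfsg.Agent.Helper4.BG147H.hyp142 hG) hN hK₁ hK₁1 e
      rw [← hMNs, d.inf_bot] at h1
      exact P.kstar_ne h1.symm
    · obtain ⟨N1, ⟨hN1, -⟩, hu1, -, -, -, -, hdec⟩ :=
        Cfsg.Agent.S1375.result hG M hM k hkσM hk1 hCk
      have hN1Ns : Ns = N1 := hu1 Ns e.coatom huniq.1
      subst hN1Ns
      obtain ⟨K', U', hKU'⟩ := Cfsg.Agent.Helper4.BG15.exists_sigmaDecomposition hG hN1
      exact (hdec K' U' hKU').2.2 hkNs

theorem kappa_eq_empty_of_bad' (hG : Cfsg.IsMinSimpleOddOrder G) {M : Subgroup G} (hM : IsCoatom M)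
    {x : G} (hx : x ∈ Cfsg.sigmaCore M) (hx1 : x ≠ 1)
    (hxM : ¬ Subgroup.centralizer ({x} : Set G) ≤ M) {N : Subgroup G} (hN : IsCoatom N)
    (hxN : Subgroup.centralizer ({x} : Set G) ≤ N) (hkM : (Cfsg.kappa M).Nonempty) :
    Cfsg.kappa N = ∅ := by
  by_contra h
  have := kappa_eq_empty_of_bad hG hM hx hx1 hxM hN hxN (Set.nonempty_iff_ne_empty.2 h)
  rw [this] at hkM
  exact Set.not_nonempty_empty hkM

/-- when `κ(M) = ∅`, `M_F = M_σ` -/
theorem fittingHallOf_eq_sigmaCore_of_kappa_empty (hG : Cfsg.IsMinSimpleOddOrder G)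
    {M : Subgroup G} (hM : IsCoatom M) (hκ : Cfsg.kappa M = ∅) :
    Cfsg.fittingHallOf M = Cfsg.sigmaCore M := by
  by_contra hne
  obtain ⟨K, U, hKU⟩ := Cfsg.Agent.Helper4.BG15.exists_sigmaDecomposition hG hM
  obtain ⟨-, -, hKp⟩ := Cfsg.Agent.S1357.result hG M hM K U hKU hne
  have := hKU.hall.2.1 _ hKp (dvd_refl _)
  rw [hκ] at this
  exact this

theorem fittingHallOf_not_TI_of_bad (hG : Cfsg.IsMinSimpleOddOrder G) {M : Subgroup G}
    (hM : IsCoatom M) {x : G} (hx : x ∈ Cfsg.sigmaCore M) (hx1 : x ≠ 1)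
    (hxM : ¬ Subgroup.centralizer ({x} : Set G) ≤ M) (hκ : Cfsg.kappa M = ∅) :
    ¬ Cfsg.IsTISubset (Cfsg.fittingHallOf M : Set G) := by
  intro hTI
  rw [fittingHallOf_eq_sigmaCore_of_kappa_empty hG hM hκ] at hTI
  apply hxM
  intro c hc
  by_contra hcM
  have hσ1 : Cfsg.sigmaCore M ≠ ⊥ := by
    intro h; rw [h, Subgroup.mem_bot] at hx; exact hx1 hx
  have hσtop : Cfsg.sigmaCore M ≠ ⊤ := by
    intro h
    have : M = ⊤ := top_le_iff.1 (h ▸ Cfsg.Agent.Lead.BG12.sigmaCore_le)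
    exact hM.1 this
  have hNσ : Subgroup.normalizer ((Cfsg.sigmaCore M : Subgroup G) : Set G) = M :=
    Cfsg.Agent.Helper1.BGU.normalizer_eq_of_coatom hG hM
      (Cfsg.Agent.Lead.BG12.le_normalizer_sigmaCore M) hσ1 hσtop
  have hcn : c ∉ Subgroup.normalizer ((Cfsg.sigmaCore M : Subgroup G) : Set G) := by
    rw [hNσ]; exact hcM
  have hcx : c * x * c⁻¹ = x := by
    rw [Subgroup.mem_centralizer_singleton_iff] at hc
    rw [hc]; group
  exact hx1 (hTI c hcn x hx (by rw [hcx]; exact hx))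

end Cfsg.Agent.Lead.BG144g
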