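import Mathlib
import Cfsg.Prelude
import Cfsg.Agent.Helper4.BG15K
import Cfsg.Agent.Helper4.BG147I
import Cfsg.Agent.Helper1.BG147b
import Cfsg.Agent.S1430

set_option autoImplicit false
set_option linter.unusedSectionVars false
set_option linter.unusedVariables false
set_option linter.style.haveILetI false

/-!
Bender–Glauberman, the theorem on maximal subgroups `M = K U M_σ` with `K ≠ 1` and `U ≠ 1`
(part a): `U` is a Hall subgroup, abelian, `K` acts on it without fixed points, `|K|` is prime.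
-/

namespace Cfsg.Agent.Lead.BG152

open Cfsg Cfsg.Agent.Helper1 Cfsg.Agent.Lead.BG12 Cfsg.Agent.Helper4.BG15
open scoped commutatorElement Pointwise

universe u

variable {G : Type u} [Group G] [Finite G] {M K U : Subgroup G}

/-- `U` is a Hall subgroup of `M` for the primes outside `κ(M) ∪ σ(M)`. -/
theorem decomp_U_hall (hG : Cfsg.IsMinSimpleOddOrder G) (hM : IsCoatom M)
    (hKU : Cfsg.IsSigmaDecomposition M K U) :
    Cfsg.IsPiHallOf {q | q.Prime ∧ q ∉ Cfsg.kappa M ∧ q ∉ Cfsg.sigma M} U M := by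
  refine ⟨decomp_U_le hKU, ?_, ?_⟩
  · intro p hp hd
    obtain ⟨h1, h2⟩ := decomp_U_primes hG hM hKU hp hd
    exact ⟨hp, h2, h1⟩
  · intro p hp hπ hd
    have h1 := relIndex_mul_card_of_le (decomp_U_le hKU)
    have h2 := decomp_card hKU
    have h3 : U.relIndex M = Nat.card K * Nat.card (Cfsg.sigmaCore M) := by
      apply Nat.eq_of_mul_eq_mul_right (Nat.card_pos (α := ↥U))
      rw [h1, ← h2]; ring
    rw [h3] at hd
    rcases (Nat.Prime.dvd_mul hp).mp hd with h | h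
    · exact hπ.2.1 (hKU.hall.2.1 p hp h)
    · exact hπ.2.2 (mem_sigma_of_dvd_card_sigmaCore hp h)

/-- `U` is abelian when `K ≠ 1`. -/
theorem decomp_U_abelian (hG : Cfsg.IsMinSimpleOddOrder G) (hM : IsCoatom M)
    (hKU : Cfsg.IsSigmaDecomposition M K U) (hK1 : K ≠ ⊥) : IsMulCommutative U := by
  have hsolvM : Group.IsSolvable ↥M := hG.2.2.2 M hM.1
  obtain ⟨U', hU'ab, hU'hall, -, -⟩ := (Cfsg.Agent.S1430.result hG M hM K hKU.hall hK1).2.1
  have hUhall := decomp_U_hall hG hM hKU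
  obtain ⟨m, hm, hle⟩ := Cfsg.Agent.Helper1.BG147.exists_conj_ge_of_hall hsolvM hU'hall hUhall.1
    hUhall.2.1
  refine ⟨⟨?_⟩⟩
  rintro ⟨a, ha⟩ ⟨b, hb⟩
  apply Subtype.ext
  show a * b = b * a
  obtain ⟨a', ha', rfl⟩ := Subgroup.mem_map.mp (hle ha)
  obtain ⟨b', hb', rfl⟩ := Subgroup.mem_map.mp (hle hb)
  have hc : a' * b' = b' * a' := by
    have := hU'ab.is_comm.comm (⟨a', ha'⟩ : ↥U') ⟨b', hb'⟩
    exact congrArg Subtype.val this
  rw [← map_mul, ← map_mul, hc]

/-- `K` acts on `U` without fixed points. -/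
theorem decomp_fpf (hG : Cfsg.IsMinSimpleOddOrder G) (hM : IsCoatom M)
    (hKU : Cfsg.IsSigmaDecomposition M K U) (hK1 : K ≠ ⊥) :
    ∀ k ∈ K, k ≠ 1 → U ⊓ Subgroup.centralizer ({k} : Set G) = ⊥ := by
  intro k hk hk1
  obtain ⟨-, -, h3⟩ := Cfsg.Agent.S1430.result hG M hM K hKU.hall hK1
  -- a subgroup of prime order of `⟨k⟩`
  have hcard : Nat.card (Subgroup.zpowers k) ≠ 1 := by
    intro h
    rw [Subgroup.card_eq_one, Subgroup.zpowers_eq_bot] at h
    exact hk1 h
  obtain ⟨p, hp, hpd⟩ := Nat.exists_prime_and_dvd hcard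
  haveI : Fact p.Prime := ⟨hp⟩
  obtain ⟨x, hx⟩ := exists_prime_orderOf_dvd_card' (G := ↥(Subgroup.zpowers k)) p hpd
  set X : Subgroup G := Subgroup.zpowers (x : G) with hX
  have hxk : (x : G) ∈ Subgroup.zpowers k := x.2
  have hXK : X ≤ K := by
    rw [hX, Subgroup.zpowers_le]
    exact (Subgroup.zpowers_le.mpr hk) hxk
  have hXcard : Nat.card X = p := by
    rw [hX, Nat.card_zpowers, Subgroup.orderOf_coe]
    exact hx
  have hXp : (Nat.card X).Prime := hXcard ▸ hp
  obtain ⟨hN, -, -⟩ := h3 X hXK hXp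
  rw [eq_bot_iff]
  intro u hu
  have huU : u ∈ U := hu.1
  have huc : u ∈ Subgroup.centralizer ({k} : Set G) := hu.2
  rw [Subgroup.mem_centralizer_iff] at huc
  have huk : k * u = u * k := huc k (Set.mem_singleton k)
  -- `u` centralizes `⟨k⟩`, hence normalizes `X`
  have hux : ∀ y ∈ Subgroup.zpowers k, y * u = u * y := by
    intro y hy
    obtain ⟨n, rfl⟩ := Subgroup.mem_zpowers_iff.mp hy
    exact (Commute.zpow_left (show Commute k u from huk) n).eq
  have huN : u ∈ Subgroup.normalizer (X : Set G) := by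
    apply (Subgroup.centralizer_le_normalizer (X : Set G))
    rw [Subgroup.mem_centralizer_iff]
    intro y hy
    have hy' : y ∈ Subgroup.zpowers k := by
      have : X ≤ Subgroup.zpowers k := by
        rw [hX, Subgroup.zpowers_le]; exact hxk
      exact this hy
    exact hux y hy'
  have huM : u ∈ M := decomp_U_le hKU huU
  have hmem : u ∈ K ⊔ (Cfsg.sigmaCore M ⊓ Subgroup.centralizer (K : Set G)) := by
    rw [← hN]
    exact ⟨huM, huN⟩
  have hle : K ⊔ (Cfsg.sigmaCore M ⊓ Subgroup.centralizer (K : Set G)) ≤ K ⊔ Cfsg.sigmaCore M :=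
    sup_le_sup_left inf_le_left K
  have : u ∈ U ⊓ (K ⊔ Cfsg.sigmaCore M) := ⟨huU, hle hmem⟩
  rw [hKU.compl.2.2.1] at this
  exact this

/-- `|K|` is prime when `K ≠ 1` and `U ≠ 1`. -/
theorem decomp_card_K_prime (hG : Cfsg.IsMinSimpleOddOrder G) (hM : IsCoatom M)
    (hKU : Cfsg.IsSigmaDecomposition M K U) (hK1 : K ≠ ⊥) (hU1 : U ≠ ⊥) :
    (Nat.card K).Prime :=
  Cfsg.Agent.Helper4.BG147H.card_kappaHall_prime hG hM hKU.hall hK1 (decomp_U_hall hG hM hKU) hU1
    hKU.normal (decomp_fpf hG hM hKU hK1)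

end Cfsg.Agent.Lead.BG152
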