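import Mathlib
import Cfsg.Prelude
import Cfsg.Agent.Lead.T36Final
import Cfsg.Agent.Lead.BG12b
import Cfsg.Agent.Helper3.CoprimeHall
import Cfsg.Agent.Helper4.CyclicSylowA

set_option autoImplicit false
set_option linter.unusedSectionVars false
set_option linter.unusedVariables false

/-!
Fusion in nilpotent Hall subgroups of a minimal simple group of odd order is controlled by the
normalizer: the ingredients (fusion control for Sylow subgroups in every subgroup, conjugacy of Hall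
subgroups in solvable subgroups, the Sylow decomposition of a nilpotent group).
-/

namespace Cfsg.Agent.Lead.NilHall

open Cfsg Cfsg.Agent.Helper1 Cfsg.Agent.Helper1.BGX
open scoped Pointwise

universe u

variable {G : Type u} [Group G] [Finite G]

/-- Fusion control for a Sylow subgroup of `G`. -/
theorem sylow_control_top (hG : Cfsg.IsMinSimpleOddOrder G) {p : ℕ} [hp : Fact p.Prime]
    {P : Subgroup G} (hPp : IsPGroup p ↥P)
    (hPc : Nat.card P = p ^ (Nat.card G).factorization p) {a g : G} (ha : a ∈ P)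
    (hga : g * a * g⁻¹ ∈ P) :
    ∃ n ∈ Subgroup.normalizer (P : Set G), ∃ c ∈ Subgroup.centralizer ({a} : Set G),
      g = n * c := by
  by_cases ha1 : a = 1
  · refine ⟨1, Subgroup.one_mem _, g, ?_, (one_mul g).symm⟩
    refine Subgroup.mem_centralizer_iff.2 ?_
    intro y hy
    rw [Set.mem_singleton_iff.1 hy, ha1, mul_one, one_mul]
  have hpl := Cfsg.Agent.Lead.T36Red.pl1_holds hG
  have hP1 : P ≠ ⊥ := by
    intro h
    rw [h, Subgroup.mem_bot] at ha
    exact ha1 ha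
  obtain ⟨M, c⟩ := exists_sigCtx_of_sylow hG (Sylow.ofCard P hPc) (by
    rw [Sylow.coe_ofCard]; exact hP1)
  rw [Sylow.coe_ofCard] at c
  have hQP : Subgroup.zpowers a ≤ P := Subgroup.zpowers_le.2 ha
  have hQ1 : Subgroup.zpowers a ≠ ⊥ := fun h => ha1 (Subgroup.zpowers_eq_bot.1 h)
  have hconj : ∀ y ∈ Subgroup.zpowers a, g * y * g⁻¹ ∈ P := by
    intro y hy
    obtain ⟨k, rfl⟩ := Subgroup.mem_zpowers_iff.1 hy
    have : g * a ^ k * g⁻¹ = (g * a * g⁻¹) ^ k := by
      rw [conj_zpow]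
    rw [this]
    exact P.zpow_mem hga k
  obtain ⟨m, hm, c₁, hc₁, e₁⟩ := c.trans (Subgroup.zpowers a) (hQP.trans c.le)
    (c.pgroup.to_le hQP) hQ1 g (fun y hy => c.le (hconj y hy))
  obtain ⟨g', hg', c', hc', e₂⟩ := c.fusion hpl hQP hm (by
    intro y hy
    have h1 : c₁ * y = y * c₁ := (Subgroup.mem_centralizer_iff.1 hc₁ y hy).symm
    have h2 : m = g * c₁⁻¹ := by rw [e₁]; group
    have h3 : m * y * m⁻¹ = g * y * g⁻¹ := by
      rw [h2]
      have : c₁⁻¹ * y * c₁ = y := by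
        rw [mul_assoc, ← h1, ← mul_assoc, inv_mul_cancel, one_mul]
      calc g * c₁⁻¹ * y * (g * c₁⁻¹)⁻¹ = g * (c₁⁻¹ * y * c₁) * g⁻¹ := by group
        _ = g * y * g⁻¹ := by rw [this]
    rw [h3]
    exact hconj y hy)
  refine ⟨g', hg', c' * c₁, ?_, ?_⟩
  · have h : c' * c₁ ∈ Subgroup.centralizer ((Subgroup.zpowers a : Subgroup G) : Set G) :=
      Subgroup.mul_mem _ hc' hc₁
    exact Subgroup.centralizer_le (Set.singleton_subset_iff.2 (Subgroup.mem_zpowers a)) h
  · rw [← mul_assoc, e₂, e₁]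

/-- Fusion control for a Sylow subgroup of a proper subgroup. -/
theorem sylow_control_proper (hG : Cfsg.IsMinSimpleOddOrder G) {L : Subgroup G} (hL : L ≠ ⊤)
    {p : ℕ} [hp : Fact p.Prime] {P : Subgroup G} (hPL : P ≤ L) (hPp : IsPGroup p ↥P)
    (hPc : Nat.card P = p ^ (Nat.card L).factorization p) {a g : G} (ha : a ∈ P) (hg : g ∈ L)
    (hga : g * a * g⁻¹ ∈ P) :
    ∃ n ∈ L ⊓ Subgroup.normalizer (P : Set G), ∃ c ∈ L ⊓ Subgroup.centralizer ({a} : Set G),
      g = n * c := by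
  have hpl := Cfsg.Agent.Lead.T36Red.pl1_holds hG p L hL
  have hsolv : Group.IsSolvable ↥L := hG.2.2.2 L hL
  have hcard : Nat.card (P.subgroupOf L) = p ^ (Nat.card L).factorization p := by
    rw [Cfsg.Agent.Lead.card_subgroupOf_of_le hPL]; exact hPc
  obtain ⟨-, h2, -⟩ := pLength_one_facts p hpl (Sylow.ofCard (P.subgroupOf L) hcard)
  rw [Sylow.coe_ofCard] at h2
  obtain ⟨g₁, hg₁, c, hc, e⟩ := h2 {(⟨a, hPL ha⟩ : ↥L)} ⟨g, hg⟩ (by
      intro y hy
      rw [Set.mem_singleton_iff.1 hy]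
      exact Subgroup.mem_subgroupOf.2 ha) (by
      rintro _ ⟨y, hy, rfl⟩
      rw [Set.mem_singleton_iff.1 hy]
      exact Subgroup.mem_subgroupOf.2 hga)
  refine ⟨g₁.1, Subgroup.mem_inf.2 ⟨g₁.2, ?_⟩, c.1, Subgroup.mem_inf.2 ⟨c.2, ?_⟩, ?_⟩
  · apply Subgroup.mem_normalizer_fintype
    intro y hy
    have h1 := (Subgroup.mem_normalizer_iff.1 hg₁ ⟨y, hPL hy⟩).1 (Subgroup.mem_subgroupOf.2 hy)
    exact Subgroup.mem_subgroupOf.1 h1
  · refine Subgroup.mem_centralizer_iff.2 ?_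
    intro y hy
    rw [Set.mem_singleton_iff.1 hy]
    have h1 := Subgroup.mem_centralizer_iff.1 hc ⟨a, hPL ha⟩ (Set.mem_singleton _)
    exact congrArg Subtype.val h1
  · have := congrArg Subtype.val e
    simpa using this.symm

/-- Fusion control for a Sylow subgroup of any subgroup. -/
theorem sylow_control (hG : Cfsg.IsMinSimpleOddOrder G) (L : Subgroup G)
    {p : ℕ} [hp : Fact p.Prime] {P : Subgroup G} (hPL : P ≤ L) (hPp : IsPGroup p ↥P)
    (hPc : Nat.card P = p ^ (Nat.card L).factorization p) {a g : G} (ha : a ∈ P) (hg : g ∈ L)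
    (hga : g * a * g⁻¹ ∈ P) :
    ∃ n ∈ L ⊓ Subgroup.normalizer (P : Set G), ∃ c ∈ L ⊓ Subgroup.centralizer ({a} : Set G),
      g = n * c := by
  by_cases hL : L = ⊤
  · subst hL
    rw [Subgroup.card_top] at hPc
    obtain ⟨n, hn, c, hc, e⟩ := sylow_control_top hG hPp hPc ha hga
    exact ⟨n, Subgroup.mem_inf.2 ⟨Subgroup.mem_top _, hn⟩, c,
      Subgroup.mem_inf.2 ⟨Subgroup.mem_top _, hc⟩, e⟩
  · exact sylow_control_proper hG hL hPL hPp hPc ha hg hga

end Cfsg.Agent.Lead.NilHall
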