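import Mathlib
import Cfsg.Prelude
import Cfsg.Agent.Lead.NilHallFusionA

set_option autoImplicit false
set_option linter.unusedSectionVars false
set_option linter.unusedVariables false

/-!
Fusion in nilpotent Hall subgroups (continued): Hall conjugacy and the Sylow decomposition.
-/

namespace Cfsg.Agent.Lead.NilHall

open Cfsg Cfsg.Agent.Helper1 Cfsg.Agent.Helper1.BGX
open scoped Pointwise

universe u

variable {G : Type u} [Group G] [Finite G]

/-- Conjugacy of Hall subgroups in a solvable subgroup. -/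
theorem hall_conj (C : Subgroup G) (hsolv : Group.IsSolvable ↥C) {K K₁ : Subgroup G}
    (hKC : K ≤ C) (hK₁C : K₁ ≤ C) (hcard : Nat.card K₁ = Nat.card K)
    (hcop : (Nat.card K).Coprime (K.relIndex C)) :
    ∃ d ∈ C, MulAut.conj d • K₁ = K := by
  have hd : Cfsg.Agent.Helper3.PiDecomp {q | q ∣ Nat.card K} (Nat.card C) (Nat.card K)
      (K.relIndex C) := by
    refine ⟨?_, fun q _ h => h, ?_⟩
    · rw [← Cfsg.Agent.Lead.card_subgroupOf_of_le hKC]
      exact (Subgroup.card_mul_index (K.subgroupOf C)).symm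
    · intro q hq hqi hqK
      have := Nat.Coprime.eq_one_of_dvd (Nat.Coprime.coprime_dvd_left hqK hcop) hqi
      exact hq.one_lt.ne' this
  exact (Cfsg.Agent.Helper3.hall_internal C hsolv hd).1 K₁ K hK₁C hKC hcard rfl

/-- The Sylow decomposition of a finite nilpotent group at a prime. -/
theorem exists_sylow_compl_of_isNilpotent {Γ : Type u} [Group Γ] [Finite Γ]
    [hn : Group.IsNilpotent Γ] (p : ℕ) [hp : Fact p.Prime] :
    ∃ S K : Subgroup Γ, S.Normal ∧ K.Normal ∧ IsPGroup p ↥S ∧
      Nat.card S = p ^ (Nat.card Γ).factorization p ∧ (Nat.card K).Coprime p ∧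
      Nat.card S * Nat.card K = Nat.card Γ ∧ S ⊔ K = ⊤ ∧ S ⊓ K = ⊥ := by
  obtain ⟨S⟩ : Nonempty (Sylow p Γ) := inferInstance
  have hSn : (S : Subgroup Γ).Normal :=
    Cfsg.Agent.Lead.BG12.normal_of_hall_of_isNilpotent (S : Subgroup Γ) S.card_coprime_index
  obtain ⟨K, hK⟩ := Subgroup.exists_right_complement'_of_coprime (N := (S : Subgroup Γ))
    S.card_coprime_index
  have hmul : Nat.card (S : Subgroup Γ) * Nat.card K = Nat.card Γ := hK.card_mul
  have hKidx : Nat.card K = (S : Subgroup Γ).index := by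
    have h1 := Subgroup.card_mul_index (S : Subgroup Γ)
    have h2 : Nat.card (S : Subgroup Γ) * Nat.card K =
        Nat.card (S : Subgroup Γ) * (S : Subgroup Γ).index := by rw [hmul, h1]
    exact Nat.eq_of_mul_eq_mul_left Nat.card_pos h2
  have hKp : (Nat.card K).Coprime p := by
    rw [hKidx]
    exact ((Nat.Prime.coprime_iff_not_dvd hp.out).2 S.not_dvd_index).symm
  have hKcop : (Nat.card K).Coprime K.index := by
    have h1 := Subgroup.card_mul_index K
    have h2 : K.index = Nat.card (S : Subgroup Γ) := by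
      have h3 : Nat.card K * K.index = Nat.card K * Nat.card (S : Subgroup Γ) := by
        rw [h1, mul_comm, hmul]
      exact Nat.eq_of_mul_eq_mul_left Nat.card_pos h3
    rw [h2, S.card_eq_multiplicity]
    exact Nat.Coprime.pow_right _ hKp
  have hKn : K.Normal := Cfsg.Agent.Lead.BG12.normal_of_hall_of_isNilpotent K hKcop
  exact ⟨S, K, hSn, hKn, S.2, S.card_eq_multiplicity, hKp, hmul, hK.sup_eq_top,
    hK.isCompl.inf_eq_bot⟩

end Cfsg.Agent.Lead.NilHall
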