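import Mathlib

/-!
# Abstract Brauer-Suzuki-Wall theorem (S3282): definitions shared by all pieces.
Architects: lead (group side), helper1 (character side).
-/

set_option autoImplicit false

namespace Cfsg.Agent.Lead.Bsw

variable {G : Type*} [Group G]

/-- The hypotheses of S3282, bundled. -/
structure Hyp (t : G) (K : Subgroup G) (s : G) : Prop where
  ht : orderOf t = 2
  hKab : IsMulCommutative ↥K
  hKH : K ≤ Subgroup.centralizer ({t} : Set G)
  htK : t ∈ K
  hs : orderOf s = 2
  hsH : s ∈ Subgroup.centralizer ({t} : Set G)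
  hsK : s ∉ K
  hH : K ⊔ Subgroup.zpowers s = Subgroup.centralizer ({t} : Set G)
  hCK : K ⊓ Subgroup.centralizer ({s} : Set G) = Subgroup.zpowers t
  hinv : ∀ x ∈ K, s * x * s⁻¹ = x⁻¹
  hTI : ∀ g : G, g ∉ Subgroup.centralizer ({t} : Set G) →
    K ⊓ K.map (MulAut.conj g).toMonoidHom = ⊥
  hconj : ∀ x y : G, orderOf x = 2 → orderOf y = 2 → IsConj x y

/-- `Kz z`: for an involution `z`, the conjugate of `K` inside `C_G(z)` (choice-free definition). -/
def Kz (z : G) : Subgroup G :=
  Subgroup.closure {x | x ∈ Subgroup.centralizer ({z} : Set G) ∧ (orderOf x ≠ 2 ∨ x = z)}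

/-- `y` is inverted by some involution. -/
def IsReal (y : G) : Prop := ∃ z : G, orderOf z = 2 ∧ z * y * z⁻¹ = y⁻¹

/-- non-real elements: not `1`, not an involution, inverted by no involution. -/
def IsNR (y : G) : Prop := y ≠ 1 ∧ orderOf y ≠ 2 ∧ ¬ IsReal y

/-- elements of the tori of the second kind: real, `≠ 1`, centralizer of odd order. -/
def IsTorusElt (y : G) : Prop :=
  y ≠ 1 ∧ IsReal y ∧ Odd (Nat.card (Subgroup.centralizer ({y} : Set G)))

/-- number of ways of writing `y` as a product of two involutions. -/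
noncomputable def F (y : G) : ℕ :=
  Nat.card {p : G × G // orderOf p.1 = 2 ∧ orderOf p.2 = 2 ∧ p.1 * p.2 = y}

/-- number of involutions. -/
noncomputable def nInv (G : Type*) [Group G] : ℕ := Nat.card {z : G // orderOf z = 2}

theorem Kz_def (z : G) : Kz z =
    Subgroup.closure {x | x ∈ Subgroup.centralizer ({z} : Set G) ∧ (orderOf x ≠ 2 ∨ x = z)} := rfl

theorem F_def (y : G) : F y =
    Nat.card {p : G × G // orderOf p.1 = 2 ∧ orderOf p.2 = 2 ∧ p.1 * p.2 = y} := rfl

theorem nInv_def (G : Type*) [Group G] : nInv G = Nat.card {z : G // orderOf z = 2} := rfl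

end Cfsg.Agent.Lead.Bsw
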