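import Mathlib
import Cfsg.Prelude.Def_Transfer
import Cfsg.Agent.Helper2.ThompsonTransfer2

set_option autoImplicit false

namespace Cfsg.Agent.Lead

open DihedralGroup

/-- The rotation subgroup of a dihedral group. -/
def dihedralRot (m : ℕ) : Subgroup (DihedralGroup m) where
  carrier := {x | ∃ i, x = r i}
  one_mem' := ⟨0, rfl⟩
  mul_mem' := by
    rintro _ _ ⟨i, rfl⟩ ⟨j, rfl⟩
    exact ⟨i + j, r_mul_r i j⟩
  inv_mem' := by
    rintro _ ⟨i, rfl⟩
    exact ⟨-i, rfl⟩

theorem r_mem_dihedralRot (m : ℕ) (i : ZMod m) : r i ∈ dihedralRot m := ⟨i, rfl⟩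

theorem sr_not_mem_dihedralRot (m : ℕ) (i : ZMod m) : sr i ∉ dihedralRot m := by
  rintro ⟨j, hj⟩
  exact absurd hj (by simp)

theorem dihedralRot_index (m : ℕ) : (dihedralRot m).index = 2 := by
  rw [Subgroup.index_eq_two_iff]
  refine ⟨sr 0, fun b => ?_⟩
  cases b with
  | r i =>
    rw [r_mul_sr]
    exact Or.inr ⟨r_mem_dihedralRot m i, sr_not_mem_dihedralRot m _⟩
  | sr i =>
    rw [sr_mul_sr]
    exact Or.inl ⟨r_mem_dihedralRot m _, sr_not_mem_dihedralRot m i⟩

/-- The only rotation of order two in a dihedral `2`-group. -/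
theorem r_eq_of_orderOf_eq_two (n : ℕ) (hn : 1 ≤ n) (i : ZMod (2 ^ n))
    (hi : orderOf (r i : DihedralGroup (2 ^ n)) = 2) : i = ((2 ^ (n - 1) : ℕ) : ZMod (2 ^ n)) := by
  have : NeZero (2 ^ n) := ⟨by positivity⟩
  have h1 : (r i : DihedralGroup (2 ^ n)) ^ 2 = 1 := by
    have := pow_orderOf_eq_one (r i : DihedralGroup (2 ^ n))
    rwa [hi] at this
  have h2 : (r i : DihedralGroup (2 ^ n)) ≠ 1 := by
    intro h
    rw [h, orderOf_one] at hi
    omega
  rw [pow_two, r_mul_r, one_def] at h1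
  have h3 : i + i = 0 := r.inj h1
  have h4 : i ≠ 0 := by
    intro h
    apply h2
    rw [h, one_def]
  have hv : (i.val + i.val) % 2 ^ n = 0 := by
    have := congrArg ZMod.val h3
    rwa [ZMod.val_add, ZMod.val_zero] at this
  have hlt : i.val < 2 ^ n := ZMod.val_lt i
  have hpos : 0 < i.val := by
    rcases Nat.eq_zero_or_pos i.val with h | h
    · exact absurd ((ZMod.val_eq_zero i).mp h) h4
    · exact h
  have hpow : 2 ^ n = 2 * 2 ^ (n - 1) := by
    rw [← pow_succ']
    congr 1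
    omega
  have hval : i.val = 2 ^ (n - 1) := by
    have h5 : i.val + i.val = 2 ^ n := by
      have h6 : i.val + i.val < 2 * 2 ^ n := by omega
      have h7 : 2 ^ n ∣ i.val + i.val := Nat.dvd_of_mod_eq_zero hv
      obtain ⟨c, hc⟩ := h7
      have hc1 : c = 1 := by
        have h8 : 2 ^ n * c < 2 ^ n * 2 := by rw [← hc, mul_comm]; exact h6
        have h9 : c < 2 := Nat.lt_of_mul_lt_mul_left h8
        have h10 : c ≠ 0 := by
          intro h0
          rw [h0, mul_zero] at hc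
          omega
        omega
      rw [hc, hc1, mul_one]
    omega
  rw [← hval, ZMod.natCast_zmod_val]

/-- Conjugates of involutions: being conjugate is symmetric and transitive in the explicit form. -/
theorem conj_symm' {G : Type*} [Group G] {x y : G} (h : ∃ g : G, g * x * g⁻¹ = y) :
    ∃ g : G, g * y * g⁻¹ = x := by
  obtain ⟨g, rfl⟩ := h
  exact ⟨g⁻¹, by group⟩

theorem conj_trans' {G : Type*} [Group G] {x y z : G} (h₁ : ∃ g : G, g * x * g⁻¹ = y)
    (h₂ : ∃ g : G, g * y * g⁻¹ = z) : ∃ g : G, g * x * g⁻¹ = z := by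
  obtain ⟨g, rfl⟩ := h₁
  obtain ⟨h, rfl⟩ := h₂
  exact ⟨h * g, by group⟩

/-- S0107. -/
theorem one_class_involutions_of_dihedral {G : Type*} [Group G] [Finite G] (T : Sylow 2 G) (n : ℕ)
    (hn : 2 ≤ n) (hT : Nonempty ((T : Subgroup G) ≃* DihedralGroup (2 ^ n)))
    (hO : Cfsg.pResidual 2 G = ⊤) (x y : G) (hx : orderOf x = 2) (hy : orderOf y = 2) :
    ∃ g : G, g * x * g⁻¹ = y := by
  obtain ⟨e⟩ := hT
  have : NeZero (2 ^ n) := ⟨by positivity⟩
  -- no normal subgroup of index two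
  have hno : ∀ M : Subgroup G, M.Normal → M.index = 2 → False := by
    intro M hMn hMi
    have hle : Cfsg.pResidual 2 G ≤ M := by
      unfold Cfsg.pResidual
      rw [Subgroup.closure_le]
      intro g hg
      have hg' : Nat.Coprime (orderOf g) 2 := hg
      have h1 : (g : G ⧸ M) ^ 2 = 1 := by
        have := orderOf_dvd_natCard (g : G ⧸ M)
        have hcard : Nat.card (G ⧸ M) = 2 := hMi
        rw [hcard] at this
        exact orderOf_dvd_iff_pow_eq_one.mp this
      have h2 : (g : G ⧸ M) ^ orderOf g = 1 := by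
        rw [← QuotientGroup.mk_pow, pow_orderOf_eq_one]
        rfl
      have h3 : (g : G ⧸ M) ^ Nat.gcd (orderOf g) 2 = 1 := pow_gcd_eq_one.mpr ⟨h2, h1⟩
      rw [hg', pow_one] at h3
      exact (QuotientGroup.eq_one_iff g).mp h3
    rw [hO] at hle
    have : M = ⊤ := top_le_iff.mp hle
    rw [this, Subgroup.index_top] at hMi
    omega
  -- the central involution
  set z₀ : (T : Subgroup G) := e.symm (r ((2 ^ (n - 1) : ℕ) : ZMod (2 ^ n))) with hz₀
  set Q : Subgroup G := ((dihedralRot (2 ^ n)).comap e.toMonoidHom).map (T : Subgroup G).subtype with hQ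
  have hQT : Q ≤ (T : Subgroup G) := by
    rintro _ ⟨t, -, rfl⟩
    exact t.2
  have hQi : Q.relIndex (T : Subgroup G) = 2 := by
    rw [Subgroup.relIndex]
    have h1 : Q.subgroupOf (T : Subgroup G) = (dihedralRot (2 ^ n)).comap e.toMonoidHom := by
      ext t
      rw [Subgroup.mem_subgroupOf, hQ]
      constructor
      · rintro ⟨t', ht', htt'⟩
        have : t' = t := Subtype.ext htt'
        rw [← this]
        exact ht'
      · intro ht
        exact ⟨t, ht, rfl⟩
    rw [h1, Subgroup.index_comap_of_surjective (dihedralRot (2 ^ n)) e.surjective, dihedralRot_index]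
  -- every involution of `T` is conjugate to `z₀`
  have key : ∀ u : G, orderOf u = 2 → u ∈ (T : Subgroup G) → ∃ g : G, g * u * g⁻¹ = (z₀ : G) := by
    intro u hu huT
    have hinQ : ∀ v : G, orderOf v = 2 → v ∈ Q → v = (z₀ : G) := by
      rintro _ hv ⟨t, ht, rfl⟩
      have ht' : e t ∈ dihedralRot (2 ^ n) := ht
      obtain ⟨i, hi⟩ := ht'
      have ho : orderOf (r i : DihedralGroup (2 ^ n)) = 2 := by
        rw [← hi, MulEquiv.orderOf_eq, ← Subgroup.orderOf_coe]
        exact hv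
      have hi2 := r_eq_of_orderOf_eq_two n (by omega) i ho
      have : t = z₀ := by
        rw [hz₀, ← hi2, ← hi, MulEquiv.symm_apply_apply]
      rw [this]
      rfl
    by_cases huQ : u ∈ Q
    · exact ⟨1, by rw [hinQ u hu huQ]; group⟩
    · rcases Cfsg.Agent.Helper2.thompson_transfer_classical T Q hQi u hu with ⟨M, hMn, hMi, -⟩ | ⟨g, hg⟩
      · exact absurd (hno M hMn hMi) id
      · refine ⟨g, hinQ _ ?_ hg⟩
        have hsc : SemiconjBy g u (g * u * g⁻¹) := by unfold SemiconjBy; group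
        rw [← SemiconjBy.orderOf_eq g hsc]
        exact hu
  -- conjugate into `T`
  have hconjT : ∀ u : G, orderOf u = 2 → ∃ g : G, g * u * g⁻¹ ∈ (T : Subgroup G) ∧
      orderOf (g * u * g⁻¹) = 2 := by
    intro u hu
    have hp : IsPGroup 2 (Subgroup.zpowers u) := by
      apply IsPGroup.of_card (n := 1)
      rw [Nat.card_zpowers, hu, pow_one]
    obtain ⟨g, hg⟩ := hp.exists_le_sylow
    obtain ⟨a, ha⟩ := MulAction.exists_smul_eq G g T
    refine ⟨a, ?_, ?_⟩
    · rw [← ha, Sylow.coe_subgroup_smul]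
      exact Subgroup.smul_mem_pointwise_smul _ _ _ (hg (Subgroup.mem_zpowers u))
    · have hsc : SemiconjBy a u (a * u * a⁻¹) := by unfold SemiconjBy; group
      rw [← SemiconjBy.orderOf_eq a hsc]
      exact hu
  obtain ⟨g₁, hg₁T, hg₁o⟩ := hconjT x hx
  obtain ⟨g₂, hg₂T, hg₂o⟩ := hconjT y hy
  have h1 : ∃ g : G, g * x * g⁻¹ = (z₀ : G) :=
    conj_trans' ⟨g₁, rfl⟩ (key _ hg₁o hg₁T)
  have h2 : ∃ g : G, g * y * g⁻¹ = (z₀ : G) :=
    conj_trans' ⟨g₂, rfl⟩ (key _ hg₂o hg₂T)
  exact conj_trans' h1 (conj_symm' h2)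

end Cfsg.Agent.Lead
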