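import Mathlib
import Cfsg.Prelude.Def_Transfer
import Cfsg.Agent.Lead.DihedralAut
import Cfsg.Agent.Lead.DihedralInvolutions
import Cfsg.Agent.Lead.ConjAutDef
import Cfsg.Agent.Helper1.FrobPCompl

set_option autoImplicit false

namespace Cfsg.Agent.Lead

/-- An automorphism of odd order stabilizing a cyclic `2`-subgroup of index at most two is trivial. -/
theorem aut_odd_trivial_of_cyclic_index_two {H : Type*} [Group H] [Finite H] (A : Subgroup H)
    (hAc : IsCyclic A) (hA2 : IsPGroup 2 A) (hidx : A = ⊤ ∨ A.index = 2) (β : MulAut H)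
    (hβA : ∀ x ∈ A, β x ∈ A) (m : ℕ) (hm : Odd m) (hβ : β ^ m = 1) : β = 1 := by
  obtain ⟨a, ha⟩ := hAc.exists_generator
  obtain ⟨s, hs⟩ := IsPGroup.iff_card.mp hA2
  have hoa : orderOf a = 2 ^ s := by rw [orderOf_eq_card_of_forall_mem_zpowers ha, hs]
  have hoa' : orderOf (a : H) = 2 ^ s := by rw [Subgroup.orderOf_coe, hoa]
  -- every element of `A` is a natural power of `a`
  have hpowA : ∀ x ∈ A, ∃ k : ℕ, x = (a : H) ^ k := by
    intro x hx
    have h1 := ha ⟨x, hx⟩
    rw [← mem_powers_iff_mem_zpowers] at h1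
    obtain ⟨k, hk⟩ := h1
    have hk' : a ^ k = ⟨x, hx⟩ := hk
    exact ⟨k, by rw [← Subgroup.coe_pow, hk']⟩
  -- `β a = a`
  obtain ⟨j, hj⟩ := hpowA (β a) (hβA a a.2)
  have hpow : ∀ n : ℕ, (β ^ n) (a : H) = (a : H) ^ (j ^ n) := by
    intro n
    induction n with
    | zero => simp
    | succ n ih =>
      rw [pow_succ', MulAut.mul_apply, ih, map_pow, hj, ← pow_mul, pow_succ']
  have hjm : (a : H) ^ (j ^ m) = (a : H) ^ 1 := by
    rw [← hpow m, hβ, MulAut.one_apply, pow_one]
  rw [pow_eq_pow_iff_modEq, hoa'] at hjm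
  have hjz : ((j : ZMod (2 ^ s))) ^ m = 1 := by
    have := (ZMod.natCast_eq_natCast_iff _ _ _).mpr hjm
    push_cast at this
    exact this
  have hj1 := zmod_two_pow_eq_one_of_odd_pow _ s rfl _ m hm hjz
  have hj1' : j ≡ 1 [MOD 2 ^ s] := by
    apply (ZMod.natCast_eq_natCast_iff _ _ _).mp
    push_cast
    exact hj1
  have hβa : β (a : H) = a := by
    rw [hj]
    conv_rhs => rw [← pow_one (a : H)]
    rw [pow_eq_pow_iff_modEq, hoa']
    exact hj1'
  have hβA' : ∀ x ∈ A, β x = x := by
    intro x hx
    obtain ⟨k, rfl⟩ := hpowA x hx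
    rw [map_pow, hβa]
  ext x
  rw [MulAut.one_apply]
  by_cases hx : x ∈ A
  · exact hβA' x hx
  · rcases hidx with htop | h2
    · exact absurd (htop ▸ Subgroup.mem_top x) hx
    have hβx : β x ∉ A := by
      intro h
      have h1 := hβA' (β x) h
      exact hx (β.injective h1 ▸ h)
    have hc : x⁻¹ * β x ∈ A := by
      rw [Subgroup.mul_mem_iff_of_index_two h2, inv_mem_iff]
      exact ⟨fun h => absurd h hx, fun h => absurd h hβx⟩
    set c := x⁻¹ * β x with hcdef
    have hβc : β c = c := hβA' c hc
    have hxc : β x = x * c := by rw [hcdef]; group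
    have hpowx : ∀ n : ℕ, (β ^ n) x = x * c ^ n := by
      intro n
      induction n with
      | zero => simp
      | succ n ih =>
        rw [pow_succ', MulAut.mul_apply, ih, map_mul, map_pow, hβc, hxc, pow_succ']
        group
    have hcm : c ^ m = 1 := by
      have := hpowx m
      rw [hβ, MulAut.one_apply] at this
      exact mul_left_cancel (a := x) (by rw [← this, mul_one])
    have hc2 : c ^ (2 ^ s) = 1 := by
      have h1 : (⟨c, hc⟩ : A) ^ Nat.card A = 1 := pow_card_eq_one'
      rw [hs] at h1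
      exact congrArg Subtype.val h1
    have hcop : Nat.gcd m (2 ^ s) = 1 := by
      apply Nat.Coprime.pow_right
      rw [Nat.coprime_two_right]
      exact hm
    have hc1 : c ^ Nat.gcd m (2 ^ s) = 1 := pow_gcd_eq_one.mpr ⟨hcm, hc2⟩
    rw [hcop, pow_one] at hc1
    rw [hxc, hc1, mul_one]

open DihedralGroup in
theorem isCyclic_dihedralRot (n : ℕ) [NeZero n] : IsCyclic (dihedralRot n) := by
  refine ⟨⟨⟨r 1, r_mem_dihedralRot n 1⟩, fun x => ?_⟩⟩
  obtain ⟨i, hi⟩ := x.2
  refine ⟨(i.val : ℤ), ?_⟩
  apply Subtype.ext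
  show ((⟨r 1, r_mem_dihedralRot n 1⟩ : dihedralRot n) ^ (i.val : ℤ) : dihedralRot n).1 = x.1
  rw [zpow_natCast, Subgroup.coe_pow, hi]
  show (r 1 : DihedralGroup n) ^ i.val = r i
  rw [r_one_pow, ZMod.natCast_zmod_val]

open DihedralGroup in
/-- Odd-order automorphisms of a group embedding in a dihedral group and fixing a non-identity element
are trivial. -/
theorem aut_odd_trivial_of_embeds_dihedral {H : Type*} [Group H] [Finite H] (n : ℕ) [NeZero n]
    (f : H →* DihedralGroup n) (hf : Function.Injective f) (hH : IsPGroup 2 H) (β : MulAut H)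
    (m : ℕ) (hm : Odd m) (hβ : β ^ m = 1) (t : H) (ht1 : t ≠ 1) (hβt : β t = t) : β = 1 := by
  set A : Subgroup H := (dihedralRot n).comap f with hA
  have hAc : IsCyclic A := by
    have := isCyclic_dihedralRot n
    let g : A →* dihedralRot n := (f.comp A.subtype).codRestrict (dihedralRot n) (fun x => x.2)
    apply isCyclic_of_injective g
    intro x y hxy
    have h1 : f x = f y := congrArg (fun z : dihedralRot n => (z : DihedralGroup n)) hxy
    exact Subtype.ext (hf h1)
  have hA2 : IsPGroup 2 A := hH.to_subgroup A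
  have hAidx : A = ⊤ ∨ A.index = 2 := by
    have h1 : A.index ∣ 2 := by
      rw [hA, Subgroup.index_comap, ← dihedralRot_index n]
      have : (dihedralRot n).Normal := Subgroup.normal_of_index_eq_two (dihedralRot_index n)
      exact Subgroup.relIndex_dvd_index_of_normal _ _
    rcases (Nat.dvd_prime Nat.prime_two).mp h1 with h | h
    · exact Or.inl (Subgroup.index_eq_one.mp h)
    · exact Or.inr h
  have hout : ∀ x : H, x ∉ A → x ^ 2 = 1 := by
    intro x hx
    apply hf
    rw [map_pow, map_one]
    have hfx : f x ∉ dihedralRot n := hx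
    cases h : f x with
    | r i => exact absurd (h ▸ r_mem_dihedralRot n i) hfx
    | sr i => rw [pow_two, sr_mul_self]
  by_cases hbig : ∃ a ∈ A, a ^ 2 ≠ 1
  · obtain ⟨a, haA, ha2⟩ := hbig
    apply aut_odd_trivial_of_cyclic_index_two A hAc hA2 hAidx β ?_ m hm hβ
    -- `β` stabilizes `A`
    obtain ⟨g, hg⟩ := hAc.exists_generator
    have hg2 : (g : H) ^ 2 ≠ 1 := by
      intro h
      apply ha2
      have h1 := hg ⟨a, haA⟩
      obtain ⟨k, hk⟩ := h1
      have h2 : a = (g : H) ^ k := by
        have := congrArg Subtype.val hk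
        simpa using this.symm
      rw [h2, ← zpow_natCast, ← zpow_mul, mul_comm, zpow_mul, zpow_natCast, h, one_zpow]
    have hβg : β (g : H) ∈ A := by
      by_contra hcon
      have := hout _ hcon
      rw [← map_pow] at this
      have h3 : (g : H) ^ 2 = 1 := β.injective (by rw [this, map_one])
      exact hg2 h3
    intro x hx
    obtain ⟨k, hk⟩ := hg ⟨x, hx⟩
    have h2 : x = (g : H) ^ k := by
      have := congrArg Subtype.val hk
      simpa using this.symm
    rw [h2, map_zpow]
    exact A.zpow_mem hβg k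
  · push Not at hbig
    -- `H` has exponent two; use `⟨t⟩`
    have hexp : ∀ x : H, x ^ 2 = 1 := by
      intro x
      by_cases hx : x ∈ A
      · exact hbig x hx
      · exact hout x hx
    have hAcard : Nat.card A ≤ 2 := by
      obtain ⟨g, hg⟩ := hAc.exists_generator
      rw [← orderOf_eq_card_of_forall_mem_zpowers hg]
      apply orderOf_le_of_pow_eq_one (by norm_num)
      exact Subtype.ext (hbig g g.2)
    have hHcard : Nat.card H ≤ 4 := by
      rw [← Subgroup.card_mul_index A]
      rcases hAidx with h | h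
      · rw [h, Subgroup.index_top]
        have : Nat.card (⊤ : Subgroup H) ≤ 2 := h ▸ hAcard
        omega
      · rw [h]
        omega
    have hot : orderOf t = 2 := orderOf_eq_prime (hexp t) ht1
    have hTc : IsCyclic (Subgroup.zpowers t) := inferInstance
    have hTcard : Nat.card (Subgroup.zpowers t) = 2 := by rw [Nat.card_zpowers, hot]
    have hT2 : IsPGroup 2 (Subgroup.zpowers t) := IsPGroup.of_card (n := 1) (by rw [hTcard, pow_one])
    have hTidx : Subgroup.zpowers t = ⊤ ∨ (Subgroup.zpowers t).index = 2 := by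
      have h1 := Subgroup.card_mul_index (Subgroup.zpowers t)
      rw [hTcard] at h1
      have h2 : (Subgroup.zpowers t).index ≤ 2 := by omega
      have h3 : (Subgroup.zpowers t).index ≠ 0 := Subgroup.index_ne_zero_of_finite
      rcases Nat.lt_or_ge (Subgroup.zpowers t).index 2 with h | h
      · left
        apply Subgroup.index_eq_one.mp
        omega
      · right
        omega
    apply aut_odd_trivial_of_cyclic_index_two (Subgroup.zpowers t) hTc hT2 hTidx β ?_ m hm hβ
    intro x hx
    obtain ⟨k, rfl⟩ := hx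
    rw [map_zpow, hβt]
    exact Subgroup.zpow_mem_zpowers t k

end Cfsg.Agent.Lead
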