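import Mathlib
import Cfsg.Prelude.Def_Transfer
import Cfsg.Agent.Lead.DihedralSylowCent

set_option autoImplicit false

namespace Cfsg.Agent.Lead

/-- S0514: with dihedral Sylow `2`-subgroups, involution centralizers have normal `2`-complements. -/
theorem exists_normal_two_complement_centralizer {X : Type*} [Group X] [Finite X]
    (S : Sylow 2 X) (n : ℕ) (hn : 2 ≤ n) (hS : Nonempty ((S : Subgroup X) ≃* DihedralGroup n)) (t : X)
    (ht : orderOf t = 2) :
    ∃ N : Subgroup (Subgroup.centralizer ({t} : Set X)), N.Normal ∧ Odd (Nat.card N) ∧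
      ∃ k : ℕ, N.index = 2 ^ k := by
  obtain ⟨e⟩ := hS
  have : NeZero n := ⟨by omega⟩
  have htC : t ∈ Subgroup.centralizer ({t} : Set X) :=
    Subgroup.mem_centralizer_iff.mpr (fun y hy => by rw [Set.mem_singleton_iff.mp hy])
  have ht1 : t ≠ 1 := by
    intro h
    rw [h, orderOf_one] at ht
    omega
  have hPLC : Cfsg.Agent.Helper1.PLocalCentral 2 (Subgroup.centralizer ({t} : Set X)) := by
    intro Q hQ g hg hcop
    set tC : Subgroup.centralizer ({t} : Set X) := ⟨t, htC⟩ with htCdef
    have htcentral : ∀ c : Subgroup.centralizer ({t} : Set X), tC * c = c * tC := by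
      intro c
      apply Subtype.ext
      exact (Subgroup.mem_centralizer_iff.mp c.2) t rfl
    have hZn : (Subgroup.zpowers tC).Normal := by
      constructor
      rintro _ ⟨k, rfl⟩ c
      refine ⟨k, ?_⟩
      show tC ^ k = c * tC ^ k * c⁻¹
      have h1 : Commute c (tC ^ k) := Commute.zpow_right (show Commute c tC from (htcentral c).symm) k
      rw [h1.eq]
      group
    have hZp : IsPGroup 2 (Subgroup.zpowers tC) := by
      apply IsPGroup.of_card (n := 1)
      rw [Nat.card_zpowers, pow_one]
      rw [← ht]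
      exact Subgroup.orderOf_mk t htC
    have hQ₁p : IsPGroup 2 ↥(Q ⊔ Subgroup.zpowers tC) := hQ.to_sup_of_normal_right hZp
    -- `g` normalizes `Q ⊔ ⟨t⟩`
    have hconj : ∀ g' : Subgroup.centralizer ({t} : Set X),
        g' ∈ Subgroup.normalizer (Q : Set (Subgroup.centralizer ({t} : Set X))) →
        ∀ y ∈ Q ⊔ Subgroup.zpowers tC, g' * y * g'⁻¹ ∈ Q ⊔ Subgroup.zpowers tC := by
      intro g' hg' y hy
      have h : Q ⊔ Subgroup.zpowers tC ≤
          (Q ⊔ Subgroup.zpowers tC).comap (MulAut.conj g').toMonoidHom := by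
        apply sup_le
        · intro x hx
          rw [Subgroup.mem_comap]
          exact Subgroup.mem_sup_left ((Subgroup.mem_normalizer_iff.mp hg' x).mp hx)
        · rintro _ ⟨k, rfl⟩
          rw [Subgroup.mem_comap]
          apply Subgroup.mem_sup_right
          refine ⟨k, ?_⟩
          show tC ^ k = g' * tC ^ k * g'⁻¹
          have h1 : Commute g' (tC ^ k) := Commute.zpow_right (show Commute g' tC from (htcentral g').symm) k
          rw [h1.eq]
          group
      exact h hy
    have hgQ₁ : g ∈ Subgroup.normalizer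
        ((Q ⊔ Subgroup.zpowers tC : Subgroup (Subgroup.centralizer ({t} : Set X))) :
          Set (Subgroup.centralizer ({t} : Set X))) := by
      rw [Subgroup.mem_normalizer_iff]
      intro y
      constructor
      · exact hconj g hg y
      · intro hy
        have := hconj g⁻¹ (Subgroup.inv_mem _ hg) _ hy
        have h2 : g⁻¹ * (g * y * g⁻¹) * g⁻¹⁻¹ = y := by group
        rwa [h2] at this
    -- embed into the dihedral group
    have hQ₂p : IsPGroup 2 ↥((Q ⊔ Subgroup.zpowers tC).map
        (Subgroup.centralizer ({t} : Set X)).subtype) := hQ₁p.map _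
    obtain ⟨S', hS'⟩ := hQ₂p.exists_le_sylow
    obtain ⟨a, ha⟩ := MulAction.exists_smul_eq X S' S
    have hmem : ∀ q : ↥(Q ⊔ Subgroup.zpowers tC),
        ((MulAut.conj a).toMonoidHom.comp ((Subgroup.centralizer ({t} : Set X)).subtype.comp
          (Q ⊔ Subgroup.zpowers tC).subtype)) q ∈ (S : Subgroup X) := by
      intro q
      rw [← ha, Sylow.coe_subgroup_smul]
      exact Subgroup.smul_mem_pointwise_smul _ _ _ (hS' ⟨q.1, q.2, rfl⟩)
    set f : ↥(Q ⊔ Subgroup.zpowers tC) →* DihedralGroup n :=
      e.toMonoidHom.comp (((MulAut.conj a).toMonoidHom.comp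
        ((Subgroup.centralizer ({t} : Set X)).subtype.comp
          (Q ⊔ Subgroup.zpowers tC).subtype)).codRestrict (S : Subgroup X) hmem) with hf
    have hfinj : Function.Injective f := by
      intro x y hxy
      have h1 := e.injective hxy
      have h2 : a * ((x : Subgroup.centralizer ({t} : Set X)) : X) * a⁻¹ =
          a * ((y : Subgroup.centralizer ({t} : Set X)) : X) * a⁻¹ := congrArg Subtype.val h1
      have h3 : ((x : Subgroup.centralizer ({t} : Set X)) : X) =
          ((y : Subgroup.centralizer ({t} : Set X)) : X) := mul_left_cancel (mul_right_cancel h2)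
      exact Subtype.ext (Subtype.ext h3)
    -- the automorphism
    set β : MulAut ↥(Q ⊔ Subgroup.zpowers tC) := conjAut (Q ⊔ Subgroup.zpowers tC) g hgQ₁ with hβ
    have hβpow : β ^ orderOf g = 1 :=
      orderOf_dvd_iff_pow_eq_one.mp (orderOf_conjAut_dvd _ g hgQ₁)
    have hodd : Odd (orderOf g) := Nat.coprime_two_right.mp hcop
    set tQ : ↥(Q ⊔ Subgroup.zpowers tC) :=
      ⟨tC, Subgroup.mem_sup_right (Subgroup.mem_zpowers tC)⟩ with htQ
    have htQ1 : tQ ≠ 1 := by
      intro h
      apply ht1
      have h1 : (tQ : Subgroup.centralizer ({t} : Set X)) = 1 := congrArg Subtype.val h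
      exact congrArg Subtype.val h1
    have hβt : β tQ = tQ := by
      apply Subtype.ext
      show g * tC * g⁻¹ = tC
      rw [← htcentral g]
      group
    have hβ1 := aut_odd_trivial_of_embeds_dihedral n f hfinj hQ₁p β (orderOf g) hodd hβpow tQ htQ1 hβt
    rw [Subgroup.mem_centralizer_iff]
    intro q hq
    have h1 := congrArg (fun γ : MulAut ↥(Q ⊔ Subgroup.zpowers tC) =>
      ((γ ⟨q, Subgroup.mem_sup_left hq⟩ : ↥(Q ⊔ Subgroup.zpowers tC)) :
        Subgroup.centralizer ({t} : Set X))) hβ1
    have h2 : g * q * g⁻¹ = q := h1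
    calc q * g = (g * q * g⁻¹) * g := by rw [h2]
      _ = g * q := by group
  obtain ⟨P, N, hNn, hNP⟩ := Cfsg.Agent.Helper1.frobenius_pcomplement hPLC
  have h1 := hNP.card_mul_card
  have h2 := Subgroup.card_mul_index (P : Subgroup (Subgroup.centralizer ({t} : Set X)))
  have h3 := Subgroup.card_mul_index N
  have hPpos : 0 < Nat.card (P : Subgroup (Subgroup.centralizer ({t} : Set X))) := Nat.card_pos
  have hNpos : 0 < Nat.card N := Nat.card_pos
  refine ⟨N, hNn, ?_, ?_⟩
  · have h4 : Nat.card N = (P : Subgroup (Subgroup.centralizer ({t} : Set X))).index := by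
      have : Nat.card (P : Subgroup (Subgroup.centralizer ({t} : Set X))) * Nat.card N =
          Nat.card (P : Subgroup (Subgroup.centralizer ({t} : Set X))) *
            (P : Subgroup (Subgroup.centralizer ({t} : Set X))).index := by
        rw [h2, mul_comm, h1]
      exact Nat.eq_of_mul_eq_mul_left hPpos this
    rw [h4]
    have h5 := P.not_dvd_index
    rw [Nat.odd_iff]
    omega
  · obtain ⟨k, hk⟩ := IsPGroup.iff_card.mp P.isPGroup'
    refine ⟨k, ?_⟩
    rw [← hk]
    have : Nat.card N * N.index = Nat.card N *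
        Nat.card (P : Subgroup (Subgroup.centralizer ({t} : Set X))) := by rw [h3, h1]
    exact Nat.eq_of_mul_eq_mul_left hNpos this

end Cfsg.Agent.Lead
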