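import Mathlib
import Cfsg.Agent.Lead.BswDefs

/-! S3282 group side, pieces A1–A12 and A28 (lead). -/

set_option autoImplicit false
set_option linter.unusedSectionVars false
set_option linter.style.haveILetI false
namespace Cfsg.Agent.Lead.Bsw
variable {G : Type*} [Group G] [Finite G] {t s : G} {K : Subgroup G}

theorem lead_inv_of_order_two {x : G} (hx : orderOf x = 2) : x⁻¹ = x := by
  have h2 : x ^ 2 = 1 := by rw [← hx]; exact pow_orderOf_eq_one x
  have : x * x = 1 := by rw [← pow_two]; exact h2
  exact inv_eq_of_mul_eq_one_left this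

theorem lead_ne_one_of_order_two {x : G} (hx : orderOf x = 2) : x ≠ 1 := by
  intro h; rw [h, orderOf_one] at hx; omega

theorem lead_order_two_of {x : G} (h2 : x * x = 1) (h1 : x ≠ 1) : orderOf x = 2 := by
  haveI : Fact (Nat.Prime 2) := ⟨Nat.prime_two⟩
  exact orderOf_eq_prime (by rw [pow_two]; exact h2) h1

theorem lead_K_comm (h : Hyp t K s) {a b : G} (ha : a ∈ K) (hb : b ∈ K) : a * b = b * a := by
  have := h.hKab.is_comm.comm (⟨a, ha⟩ : K) ⟨b, hb⟩
  exact congrArg Subtype.val this

theorem lead_s_conj (h : Hyp t K s) {x : G} (hx : x ∈ K) : s * x = x⁻¹ * s := by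
  have := h.hinv x hx
  have : s * x = x⁻¹ * s := by
    calc s * x = (s * x * s⁻¹) * s := by group
      _ = x⁻¹ * s := by rw [this]
  exact this

-- A1
theorem mem_cent_t (h : Hyp t K s) (g : G) :
    g ∈ Subgroup.centralizer ({t} : Set G) ↔ g ∈ K ∨ ∃ x ∈ K, g = x * s := by
  have hsi : s⁻¹ = s := lead_inv_of_order_two h.hs
  have hss : s * s = 1 := by
    have := mul_inv_cancel s; rwa [hsi] at this
  constructor
  · intro hg
    rw [← h.hH] at hg
    -- build the subgroup K ∪ Ks
    let T : Subgroup G :=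
      { carrier := {g | g ∈ K ∨ ∃ x ∈ K, g = x * s}
        one_mem' := Or.inl K.one_mem
        mul_mem' := by
          rintro a b (ha | ⟨x, hx, rfl⟩) (hb | ⟨y, hy, rfl⟩)
          · exact Or.inl (K.mul_mem ha hb)
          · exact Or.inr ⟨a * y, K.mul_mem ha hy, by group⟩
          · refine Or.inr ⟨x * b⁻¹, K.mul_mem hx (K.inv_mem hb), ?_⟩
            rw [mul_assoc, lead_s_conj h hb, mul_assoc]
          · refine Or.inl ?_
            have : x * s * (y * s) = x * y⁻¹ := by
              calc x * s * (y * s) = x * (s * y) * s := by group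
                _ = x * (y⁻¹ * s) * s := by rw [lead_s_conj h hy]
                _ = x * y⁻¹ * (s * s) := by group
                _ = x * y⁻¹ := by rw [hss, mul_one]
            rw [this]; exact K.mul_mem hx (K.inv_mem hy)
        inv_mem' := by
          rintro a (ha | ⟨x, hx, rfl⟩)
          · exact Or.inl (K.inv_mem ha)
          · refine Or.inr ⟨x, hx, ?_⟩
            calc (x * s)⁻¹ = s⁻¹ * x⁻¹ := by group
              _ = s * x⁻¹ := by rw [hsi]
              _ = (x⁻¹)⁻¹ * s := lead_s_conj h (K.inv_mem hx)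
              _ = x * s := by rw [inv_inv] }
    have hle : K ⊔ Subgroup.zpowers s ≤ T := by
      apply sup_le
      · intro a ha; exact Or.inl ha
      · rw [Subgroup.zpowers_le]; exact Or.inr ⟨1, K.one_mem, by simp⟩
    exact hle hg
  · rintro (hg | ⟨x, hx, rfl⟩)
    · exact h.hKH hg
    · exact Subgroup.mul_mem _ (h.hKH hx) h.hsH

-- A3
theorem inv_of_mem_K (h : Hyp t K s) {x : G} (hx : x ∈ K) (hx2 : orderOf x = 2) : x = t := by
  have hxi : x⁻¹ = x := lead_inv_of_order_two hx2
  have hcs : x ∈ Subgroup.centralizer ({s} : Set G) := by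
    rw [Subgroup.mem_centralizer_singleton_iff]
    have := lead_s_conj h hx
    rw [hxi] at this
    exact this.symm
  have hz : x ∈ Subgroup.zpowers t := by
    rw [← h.hCK]; exact ⟨hx, hcs⟩
  obtain ⟨n, rfl⟩ := Subgroup.mem_zpowers_iff.mp hz
  have ht2 : t ^ (2 : ℤ) = 1 := by
    have := pow_orderOf_eq_one t; rw [h.ht] at this; exact_mod_cast this
  rcases Int.emod_two_eq_zero_or_one n with h0 | h1
  · exfalso
    have : t ^ n = 1 := by
      have hn : n = 2 * (n / 2) := by omega
      rw [hn, zpow_mul, ht2, one_zpow]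
    exact lead_ne_one_of_order_two hx2 this
  · have hn : n = 2 * (n / 2) + 1 := by omega
    rw [hn, zpow_add, zpow_mul, ht2, one_zpow, one_mul, zpow_one]

-- A4
theorem orderOf_mul_s (h : Hyp t K s) {x : G} (hx : x ∈ K) : orderOf (x * s) = 2 := by
  have hsi : s⁻¹ = s := lead_inv_of_order_two h.hs
  have hss : s * s = 1 := by
    have := mul_inv_cancel s; rwa [hsi] at this
  apply lead_order_two_of
  · calc x * s * (x * s) = x * (s * x) * s := by group
      _ = x * (x⁻¹ * s) * s := by rw [lead_s_conj h hx]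
      _ = s * s := by group
      _ = 1 := hss
  · intro h1
    apply h.hsK
    have : s = x⁻¹ := by
      calc s = x⁻¹ * (x * s) := by group
        _ = x⁻¹ := by rw [h1, mul_one]
    rw [this]; exact K.inv_mem hx

-- A5
theorem mul_s_inverts (h : Hyp t K s) {x y : G} (hx : x ∈ K) (hy : y ∈ K) :
    (x * s) * y * (x * s)⁻¹ = y⁻¹ := by
  have h1 := h.hinv y hy
  calc (x * s) * y * (x * s)⁻¹ = x * (s * y * s⁻¹) * x⁻¹ := by group
    _ = x * y⁻¹ * x⁻¹ := by rw [h1]
    _ = y⁻¹ * x * x⁻¹ := by rw [lead_K_comm h hx (K.inv_mem hy)]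
    _ = y⁻¹ := by group

-- A2
theorem card_cent_t (h : Hyp t K s) :
    Nat.card (Subgroup.centralizer ({t} : Set G)) = 2 * Nat.card K := by
  classical
  have hset : ((Subgroup.centralizer ({t} : Set G) : Subgroup G) : Set G) =
      (K : Set G) ∪ (fun x => x * s) '' (K : Set G) := by
    ext g
    rw [SetLike.mem_coe, mem_cent_t h g]
    constructor
    · rintro (hg | ⟨x, hx, rfl⟩)
      · exact Or.inl hg
      · exact Or.inr ⟨x, hx, rfl⟩
    · rintro (hg | ⟨x, hx, rfl⟩)
      · exact Or.inl hg
      · exact Or.inr ⟨x, hx, rfl⟩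
  have hdisj : Disjoint (K : Set G) ((fun x => x * s) '' (K : Set G)) := by
    rw [Set.disjoint_left]
    rintro a ha ⟨x, hx, rfl⟩
    apply h.hsK
    have : s = x⁻¹ * (x * s) := by group
    rw [this]; exact K.mul_mem (K.inv_mem hx) ha
  have hinj : Function.Injective (fun x : G => x * s) := mul_left_injective s
  calc Nat.card (Subgroup.centralizer ({t} : Set G))
      = Set.ncard ((Subgroup.centralizer ({t} : Set G) : Subgroup G) : Set G) :=
        Nat.card_coe_set_eq _
    _ = Set.ncard ((K : Set G) ∪ (fun x => x * s) '' (K : Set G)) := by rw [hset]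
    _ = Set.ncard (K : Set G) + Set.ncard ((fun x => x * s) '' (K : Set G)) :=
        Set.ncard_union_eq hdisj (Set.toFinite _) (Set.toFinite _)
    _ = Set.ncard (K : Set G) + Set.ncard (K : Set G) := by
        rw [Set.ncard_image_of_injective _ hinj]
    _ = 2 * Nat.card K := by
        have : Set.ncard (K : Set G) = Nat.card K := (Nat.card_coe_set_eq _).symm
        rw [this]; ring

-- A6
theorem even_card_K (h : Hyp t K s) : Even (Nat.card K) := by
  have := Subgroup.orderOf_dvd_natCard K h.htK
  rw [h.ht] at this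
  exact (even_iff_two_dvd).mpr this

-- A7
theorem TI_elt (h : Hyp t K s) {g x : G} (hx : x ∈ K) (hx1 : x ≠ 1) (hgx : g * x * g⁻¹ ∈ K) :
    g ∈ Subgroup.centralizer ({t} : Set G) := by
  by_contra hg
  have hbot := h.hTI g hg
  have hmem2 : g * x * g⁻¹ ∈ K.map (MulAut.conj g).toMonoidHom := by
    rw [Subgroup.mem_map]
    exact ⟨x, hx, by simp [MulAut.conj_apply]⟩
  have hmem : g * x * g⁻¹ ∈ K ⊓ K.map (MulAut.conj g).toMonoidHom := Subgroup.mem_inf.mpr ⟨hgx, hmem2⟩
  rw [hbot, Subgroup.mem_bot] at hmem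
  apply hx1
  have : x = g⁻¹ * (g * x * g⁻¹) * g := by group
  rw [this, hmem]; group

-- A8
theorem cent_of_mem_K (h : Hyp t K s) {x : G} (hx : x ∈ K) (hx2 : x * x ≠ 1) :
    Subgroup.centralizer ({x} : Set G) = K := by
  have hx1 : x ≠ 1 := by rintro rfl; exact hx2 (by simp)
  apply le_antisymm
  · intro g hg
    rw [Subgroup.mem_centralizer_singleton_iff] at hg
    have hgx : g * x * g⁻¹ = x := by rw [hg]; group
    have hgt := TI_elt h hx hx1 (by rw [hgx]; exact hx)
    rcases (mem_cent_t h g).mp hgt with hgK | ⟨y, hy, rfl⟩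
    · exact hgK
    · exfalso
      have := mul_s_inverts h hy hx
      rw [hgx] at this
      apply hx2
      calc x * x = x * x⁻¹ := by rw [← this]
        _ = 1 := mul_inv_cancel x
  · intro g hg
    rw [Subgroup.mem_centralizer_singleton_iff]
    exact lead_K_comm h hg hx

-- A9
theorem normalizer_sub_K (h : Hyp t K s) {X : Subgroup G} (hX : X ≤ K) (hX1 : X ≠ ⊥) :
    Subgroup.normalizer (X : Set G) = Subgroup.centralizer ({t} : Set G) := by
  apply le_antisymm
  · intro g hg
    rw [Subgroup.mem_normalizer_iff] at hg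
    obtain ⟨a, ha⟩ := (Subgroup.ne_bot_iff_exists_ne_one (H := X)).mp hX1
    obtain ⟨x, hxX, hx1⟩ : ∃ x : G, x ∈ X ∧ x ≠ 1 := ⟨(a : G), a.2, fun h1 => ha (Subtype.ext h1)⟩
    exact TI_elt h (hX hxX) hx1 (hX ((hg x).mp hxX))
  · intro g hg
    rw [Subgroup.mem_normalizer_iff]
    rcases (mem_cent_t h g).mp hg with hgK | ⟨y, hy, rfl⟩
    · intro a
      constructor
      · intro ha
        have : g * a * g⁻¹ = a := by rw [lead_K_comm h hgK (hX ha)]; group
        rw [this]; exact ha
      · intro ha
        have hK : g * a * g⁻¹ ∈ K := hX ha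
        have haK : a ∈ K := by
          have : a = g⁻¹ * (g * a * g⁻¹) * g := by group
          rw [this]; exact K.mul_mem (K.mul_mem (K.inv_mem hgK) hK) hgK
        have : g * a * g⁻¹ = a := by rw [lead_K_comm h hgK haK]; group
        rw [this] at ha; exact ha
    · intro a
      constructor
      · intro ha
        rw [mul_s_inverts h hy (hX ha)]; exact X.inv_mem ha
      · intro ha
        have hK : (y * s) * a * (y * s)⁻¹ ∈ K := hX ha
        have hysi : (y * s)⁻¹ = y * s := lead_inv_of_order_two (orderOf_mul_s h hy)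
        have haK : a ∈ K := by
          have e : a = (y * s) * ((y * s) * a * (y * s)⁻¹) * (y * s)⁻¹ := by
            rw [hysi]
            have h2 : (y * s) * (y * s) = 1 := by
              have := mul_inv_cancel (y * s); rwa [hysi] at this
            calc a = 1 * a * 1 := by group
              _ = ((y * s) * (y * s)) * a * ((y * s) * (y * s)) := by rw [h2]
              _ = _ := by group
          rw [e, mul_s_inverts h hy hK]; exact K.inv_mem hK
        have := mul_s_inverts h hy haK
        rw [this] at ha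
        have := X.inv_mem ha
        rwa [inv_inv] at this

-- A28
theorem Kz_map_conj (g z : G) : (Kz z).map (MulAut.conj g).toMonoidHom = Kz (g * z * g⁻¹) := by
  unfold Kz
  rw [MonoidHom.map_closure]
  congr 1
  ext y
  constructor
  · rintro ⟨x, ⟨hxc, hx⟩, rfl⟩
    refine ⟨?_, ?_⟩
    · rw [Subgroup.mem_centralizer_singleton_iff] at hxc ⊢
      simp only [MulEquiv.coe_toMonoidHom, MulAut.conj_apply]
      calc g * x * g⁻¹ * (g * z * g⁻¹) = g * (x * z) * g⁻¹ := by group
        _ = g * (z * x) * g⁻¹ := by rw [hxc]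
        _ = g * z * g⁻¹ * (g * x * g⁻¹) := by group
    · rcases hx with hx | rfl
      · left
        have : orderOf ((MulAut.conj g).toMonoidHom x) = orderOf x := (MulAut.conj g).orderOf_eq x
        rw [this]; exact hx
      · right; simp [MulAut.conj_apply]
  · rintro ⟨hyc, hy⟩
    refine ⟨g⁻¹ * y * g, ⟨?_, ?_⟩, ?_⟩
    · rw [Subgroup.mem_centralizer_singleton_iff] at hyc ⊢
      have e : y * g * z = g * z * g⁻¹ * y * g := by
        calc y * g * z = (y * (g * z * g⁻¹)) * g := by group
          _ = (g * z * g⁻¹ * y) * g := by rw [hyc]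
      calc g⁻¹ * y * g * z = g⁻¹ * (y * g * z) := by group
        _ = g⁻¹ * (g * z * g⁻¹ * y * g) := by rw [e]
        _ = z * (g⁻¹ * y * g) := by group
    · rcases hy with hy | rfl
      · left
        have : orderOf ((MulAut.conj g⁻¹).toMonoidHom y) = orderOf y := (MulAut.conj g⁻¹).orderOf_eq y
        simp only [MulEquiv.coe_toMonoidHom, MulAut.conj_apply, inv_inv] at this
        rw [this]; exact hy
      · right; group
    · simp only [MulEquiv.coe_toMonoidHom, MulAut.conj_apply]; group

-- A12
theorem Kz_t (h : Hyp t K s) : Kz t = K := by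
  unfold Kz
  have hset : {x | x ∈ Subgroup.centralizer ({t} : Set G) ∧ (orderOf x ≠ 2 ∨ x = t)} = (K : Set G) := by
    ext x
    constructor
    · rintro ⟨hxc, hx⟩
      rcases (mem_cent_t h x).mp hxc with hxK | ⟨y, hy, rfl⟩
      · exact hxK
      · exfalso
        rcases hx with hx | hx
        · exact hx (orderOf_mul_s h hy)
        · apply h.hsK
          have : s = y⁻¹ * (y * s) := by group
          rw [this, hx]; exact K.mul_mem (K.inv_mem hy) h.htK
    · intro hxK
      refine ⟨h.hKH hxK, ?_⟩
      by_cases hx2 : orderOf x = 2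
      · right; exact inv_of_mem_K h hxK hx2
      · left; exact hx2
  rw [hset, Subgroup.closure_eq]

-- A10
theorem Kz_conj (h : Hyp t K s) (g : G) :
    Kz (g * t * g⁻¹) = K.map (MulAut.conj g).toMonoidHom := by
  rw [← Kz_map_conj, Kz_t h]

-- A11
theorem exists_conj_t (h : Hyp t K s) {z : G} (hz : orderOf z = 2) : ∃ g : G, z = g * t * g⁻¹ := by
  obtain ⟨c, hc⟩ := isConj_iff.mp (h.hconj t z h.ht hz)
  exact ⟨c, hc.symm⟩

end Cfsg.Agent.Lead.Bsw
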