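import Mathlib
import Cfsg.Prelude.Def_Characters
import Cfsg.Agent.Helper1.BswChDefs

set_option autoImplicit false

namespace Cfsg.Agent.Helper1.BswCh

/-- Q3 -/
theorem solve_signs (e s1 s2 f d1 d2 : ℤ) (k n : ℕ) (he : e = 1 ∨ e = -1)
    (hs1 : s1 = 1 ∨ s1 = -1) (hs2 : s2 = 1 ∨ s2 = -1) (hf : 1 ≤ f) (hd1 : 1 ≤ d1) (hd2 : 1 ≤ d2)
    (hfe : 1 ≤ f + e) (hk : 0 < k) (hn : 0 < n)
    (hdeg : 1 + e * f + s1 * d1 + s2 * d2 = 0)
    (hEa : (1 : ℚ) + (e : ℚ) / (f : ℚ) - 4 * (e : ℚ) / ((f : ℚ) + (e : ℚ)) =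
      2 * (k : ℚ) ^ 2 / (n : ℚ))
    (hEb : (1 : ℚ) + (e : ℚ) / (f : ℚ) + (s1 : ℚ) / (d1 : ℚ) + (s2 : ℚ) / (d2 : ℚ) =
      2 * (k : ℚ) ^ 2 / (n : ℚ)) :
    s1 = -e ∧ s2 = -e ∧ 2 * d1 = f + e ∧ 2 * d2 = f + e ∧
      (n : ℤ) * (f - e) ^ 2 = 2 * (k : ℤ) ^ 2 * f * (f + e) := by
  have hE2 : (e : ℚ) * e = 1 := by rcases he with rfl | rfl <;> norm_num
  have hS1 : (s1 : ℚ) * s1 = 1 := by rcases hs1 with rfl | rfl <;> norm_num
  have hS2 : (s2 : ℚ) * s2 = 1 := by rcases hs2 with rfl | rfl <;> norm_num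
  have hF : (0 : ℚ) < f := by exact_mod_cast hf
  have hD1 : (0 : ℚ) < d1 := by exact_mod_cast hd1
  have hD2 : (0 : ℚ) < d2 := by exact_mod_cast hd2
  have hFE : (0 : ℚ) < (f : ℚ) + e := by exact_mod_cast hfe
  have hN : (0 : ℚ) < n := by exact_mod_cast hn
  have hdegQ : (1 : ℚ) + e * f + s1 * d1 + s2 * d2 = 0 := by exact_mod_cast hdeg
  have h1 : (s1 : ℚ) / d1 + s2 / d2 = -(4 * e / (f + e)) := by linarith
  have h2 : ((s1 : ℚ) * d2 + s2 * d1) * (f + e) = -4 * e * (d1 * d2) := by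
    have hne1 : (d1 : ℚ) ≠ 0 := ne_of_gt hD1
    have hne2 : (d2 : ℚ) ≠ 0 := ne_of_gt hD2
    have hne3 : (f : ℚ) + e ≠ 0 := ne_of_gt hFE
    have h1' := h1
    rw [div_add_div _ _ hne1 hne2, ← neg_div, div_eq_div_iff (mul_ne_zero hne1 hne2) hne3] at h1'
    linear_combination h1'
  have h3 : (s1 : ℚ) * d1 + s2 * d2 = -(1 + e * f) := by linarith
  have h4 : (s1 : ℚ) * s2 * (s1 * d2 + s2 * d1) = s1 * d1 + s2 * d2 := by
    linear_combination (s2 * d2 : ℚ) * hS1 + (s1 * d1 : ℚ) * hS2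
  have h5 : ((s1 : ℚ) * d1 + s2 * d2) * (f + e) = -4 * e * (s1 * s2 * d1 * d2) := by
    linear_combination (s1 * s2 : ℚ) * h2 - ((f : ℚ) + e) * h4
  have h6 : 4 * ((s1 : ℚ) * d1) * (s2 * d2) = (f + e) ^ 2 := by
    linear_combination ((f : ℚ) * (f + e) - 4 * s1 * s2 * d1 * d2) * hE2 + (e : ℚ) * h5
      - (e : ℚ) * (f + e) * h3
  have h7 : ((s1 : ℚ) * d1 - s2 * d2) ^ 2 = 0 := by
    linear_combination ((s1 : ℚ) * d1 + s2 * d2 - 1 - e * f) * h3 + ((f : ℚ) ^ 2 - 1) * hE2 - h6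
  have h8 : (s1 : ℚ) * d1 = s2 * d2 := by
    have := pow_eq_zero_iff (two_ne_zero) |>.mp h7
    linarith
  have h8z : s1 * d1 = s2 * d2 := by exact_mod_cast h8
  have h9 : (n : ℚ) * ((f : ℚ) - e) ^ 2 = 2 * (k : ℚ) ^ 2 * f * (f + e) := by
    have hne0 : (f : ℚ) ≠ 0 := ne_of_gt hF
    have hne3 : (f : ℚ) + e ≠ 0 := ne_of_gt hFE
    have hneN : (n : ℚ) ≠ 0 := ne_of_gt hN
    have hEa' := hEa
    field_simp at hEa'
    linear_combination hEa'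
  have h9z : (n : ℤ) * (f - e) ^ 2 = 2 * (k : ℤ) ^ 2 * f * (f + e) := by exact_mod_cast h9
  refine ⟨?_, ?_, ?_, ?_, h9z⟩ <;>
  · rcases he with rfl | rfl <;> rcases hs1 with rfl | rfl <;> rcases hs2 with rfl | rfl <;> omega

/-- Q6: the final value of `F` -/
theorem F_final (e : ℤ) (k n : ℕ) (c Fy : ℂ) (he : e = 1 ∨ e = -1) (hk : 4 ≤ k)
    (hn : (n : ℤ) = (2 * (k : ℤ) + e) * ((k : ℤ) + e))
    (h : Fy = (n : ℂ) / (2 * (k : ℂ)) *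
      (1 + c / ((2 * (k : ℤ) + e : ℤ) : ℂ) +
        2 * ((k : ℂ) - 1) * (c + (e : ℂ)) / (((2 * (k : ℤ) + e : ℤ) : ℂ) + (e : ℂ)))) :
    (e = 1 → Fy = 2 * (k : ℂ) + 1 + (k : ℂ) * c) ∧ (e = -1 → Fy = ((k : ℂ) - 1) * c) := by
  have hnC : (n : ℂ) = (2 * (k : ℂ) + (e : ℂ)) * ((k : ℂ) + (e : ℂ)) := by
    have := congrArg (fun z : ℤ => (z : ℂ)) hn
    push_cast at this
    exact this
  have hkR : (4 : ℝ) ≤ (k : ℝ) := by exact_mod_cast hk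
  have hk0 : (k : ℂ) ≠ 0 := by
    have : (k : ℝ) ≠ 0 := by linarith
    exact_mod_cast this
  constructor
  · intro he1
    subst he1
    have h1 : (2 * (k : ℂ) + 1) ≠ 0 := by
      have : (2 * (k : ℝ) + 1) ≠ 0 := by linarith
      exact_mod_cast this
    have h2 : ((k : ℂ) + 1) ≠ 0 := by
      have : ((k : ℝ) + 1) ≠ 0 := by linarith
      exact_mod_cast this
    have h3 : (2 * (k : ℂ) + 1 + 1) ≠ 0 := by
      have : (2 * (k : ℝ) + 1 + 1) ≠ 0 := by linarith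
      exact_mod_cast this
    rw [h, hnC]
    push_cast
    field_simp
    ring
  · intro he1
    subst he1
    have h1 : (2 * (k : ℂ) + -1) ≠ 0 := by
      have : (2 * (k : ℝ) + -1) ≠ 0 := by linarith
      exact_mod_cast this
    have h2 : ((k : ℂ) + -1) ≠ 0 := by
      have : ((k : ℝ) + -1) ≠ 0 := by linarith
      exact_mod_cast this
    have h3 : (2 * (k : ℂ) + -1 + -1) ≠ 0 := by
      have : (2 * (k : ℝ) + -1 + -1) ≠ 0 := by linarith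
      exact_mod_cast this
    rw [h, hnC]
    push_cast
    field_simp
    ring

end Cfsg.Agent.Helper1.BswCh
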