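import Mathlib
import Cfsg.Agent.Lead.BswDefs

/-!
# S3282: second definitions file (endgame hypotheses, conclusion).
-/

set_option autoImplicit false

namespace Cfsg.Agent.Lead.Bsw

variable {G : Type*} [Group G]

/-- Output of Stage 1 (character side) in the case `e = +1`. -/
structure HypPlus (t : G) (K : Subgroup G) (s : G) : Prop where
  h : Hyp t K s
  hk : 4 ≤ Nat.card K
  hn : nInv G = (2 * Nat.card K + 1) * (Nat.card K + 1)
  hF : ∀ y : G, y ≠ 1 → (∀ g : G, g * y * g⁻¹ ∉ K) →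
    ∃ c : ℤ, (F y : ℤ) = 2 * (Nat.card K : ℤ) + 1 + (Nat.card K : ℤ) * c

/-- Output of Stage 1 (character side) in the case `e = -1`. -/
structure HypMinus (t : G) (K : Subgroup G) (s : G) : Prop where
  h : Hyp t K s
  hk : 4 ≤ Nat.card K
  hn : nInv G = (2 * Nat.card K - 1) * (Nat.card K - 1)
  hF : ∀ y : G, y ≠ 1 → (∀ g : G, g * y * g⁻¹ ∉ K) →
    ∃ c : ℤ, (F y : ℤ) = ((Nat.card K : ℤ) - 1) * c

/-- The conclusion of S3282 (verbatim). -/
def Concl (G : Type*) [Group G] : Prop :=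
  ∃ Q D : Subgroup G, 2 * Nat.card G = Nat.card ↥Q * (Nat.card ↥Q + 1) * (Nat.card ↥Q - 1) ∧
      (∀ x ∈ Q, x ≠ 1 → Subgroup.centralizer ({x} : Set G) = Q) ∧
      IsMulCommutative ↥D ∧ 2 * Nat.card ↥D + 1 = Nat.card ↥Q ∧ Q ⊓ D = ⊥ ∧
      Subgroup.normalizer (Q : Set G) = Q ⊔ D ∧
      ∀ X : Subgroup G, X ≤ D → X ≠ ⊥ →
        Subgroup.normalizer (X : Set G) = Subgroup.normalizer (D : Set G) ∧
        ∃ u : G, orderOf u = 2 ∧ u ∉ D ∧ (∀ d ∈ D, u * d * u⁻¹ = d⁻¹) ∧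
          Subgroup.normalizer (D : Set G) = D ⊔ Subgroup.zpowers u

theorem Concl_def (G : Type*) [Group G] : Concl G ↔
  ∃ Q D : Subgroup G, 2 * Nat.card G = Nat.card ↥Q * (Nat.card ↥Q + 1) * (Nat.card ↥Q - 1) ∧
      (∀ x ∈ Q, x ≠ 1 → Subgroup.centralizer ({x} : Set G) = Q) ∧
      IsMulCommutative ↥D ∧ 2 * Nat.card ↥D + 1 = Nat.card ↥Q ∧ Q ⊓ D = ⊥ ∧
      Subgroup.normalizer (Q : Set G) = Q ⊔ D ∧
      ∀ X : Subgroup G, X ≤ D → X ≠ ⊥ →
        Subgroup.normalizer (X : Set G) = Subgroup.normalizer (D : Set G) ∧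
        ∃ u : G, orderOf u = 2 ∧ u ∉ D ∧ (∀ d ∈ D, u * d * u⁻¹ = d⁻¹) ∧
          Subgroup.normalizer (D : Set G) = D ⊔ Subgroup.zpowers u := Iff.rfl

/-- The interface theorem to be proved by the character side (as a Prop, so that both sides can refer to it). -/
def Stage1 (t : G) (K : Subgroup G) (s : G) : Prop :=
  HypPlus t K s ∨ HypMinus t K s

end Cfsg.Agent.Lead.Bsw
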