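import Cfsg.Agent.Lead.GenPairFin
import Cfsg.Agent.Helper1.Coprime

/-!
# Generating pairs of a Sylow `p`-subgroup acting on a normal `p'`-subgroup (`p ≥ 3`)
-/

namespace Cfsg.Agent.Lead.GenPair

open Cfsg.Agent.Lead.GenPairFin
open scoped Pointwise

universe u

/-- The hypotheses of the theorem, bundled. -/
structure Hyp (p : ℕ) {G : Type u} [Group G] (P N : Subgroup G) (C D : Set G) : Prop where
  normal : N.Normal
  pgroup : IsPGroup p P
  coprime : (Nat.card N).Coprime p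
  sup : N ⊔ P = ⊤
  hC : Subgroup.closure C = P
  hD : Subgroup.closure D = P
  h : ∀ x ∈ N, ∀ c ∈ C, ∀ d ∈ D, IsPGroup p ↥(Subgroup.closure ({x * c * x⁻¹, d} : Set G))

variable {G : Type u} [Group G]

theorem Hyp.map [Finite G] {G' : Type u} [Group G'] (f : G →* G') (hf : Function.Surjective f)
    {p : ℕ} {P N : Subgroup G} {C D : Set G} (h : Hyp p P N C D) :
    Hyp p (P.map f) (N.map f) (f '' C) (f '' D) := by
  haveI := h.normal
  refine ⟨Subgroup.Normal.map h.normal f hf, h.pgroup.map f, ?_, ?_, ?_, ?_, ?_⟩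
  · have hdvd : Nat.card (N.map f) ∣ Nat.card N :=
      Subgroup.card_dvd_of_surjective (f.subgroupMap N) (f.subgroupMap_surjective N)
    exact Nat.Coprime.coprime_dvd_left hdvd h.coprime
  · rw [← Subgroup.map_sup, h.sup, ← MonoidHom.range_eq_map, MonoidHom.range_eq_top.2 hf]
  · rw [← MonoidHom.map_closure, h.hC]
  · rw [← MonoidHom.map_closure, h.hD]
  · rintro x' ⟨x, hx, rfl⟩ c' ⟨c, hc, rfl⟩ d' ⟨d, hd, rfl⟩
    have h1 : Subgroup.closure ({f x * f c * (f x)⁻¹, f d} : Set G') =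
        (Subgroup.closure ({x * c * x⁻¹, d} : Set G)).map f := by
      rw [MonoidHom.map_closure, Set.image_pair, map_mul, map_mul, map_inv]
    rw [h1]
    exact (h.h x hx c hc d hd).map f

theorem closure_preimage_subtype (H : Subgroup G) {P : Subgroup G} (hPH : P ≤ H) {C : Set G}
    (hC : Subgroup.closure C = P) :
    Subgroup.closure (H.subtype ⁻¹' C) = P.subgroupOf H := by
  apply Subgroup.map_injective H.subtype_injective
  rw [MonoidHom.map_closure, Subgroup.map_subgroupOf_eq_of_le hPH]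
  have hsub : C ⊆ Set.range H.subtype := by
    intro c hc
    have : c ∈ H := hPH (hC ▸ Subgroup.subset_closure hc)
    exact ⟨⟨c, this⟩, rfl⟩
  rw [Set.image_preimage_eq_of_subset hsub, hC]

theorem Hyp.sub [Finite G] {p : ℕ} {P N : Subgroup G} {C D : Set G} (h : Hyp p P N C D)
    (H : Subgroup G) (hPH : P ≤ H) :
    Hyp p (P.subgroupOf H) (N.subgroupOf H) (H.subtype ⁻¹' C) (H.subtype ⁻¹' D) := by
  haveI := h.normal
  refine ⟨Subgroup.Normal.subgroupOf h.normal H, h.pgroup.comap_subtype, ?_, ?_,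
    closure_preimage_subtype H hPH h.hC, closure_preimage_subtype H hPH h.hD, ?_⟩
  · have h1 : Nat.card (N.subgroupOf H) = Nat.card ((N.subgroupOf H).map H.subtype) :=
      (Subgroup.card_map_of_injective H.subtype_injective).symm
    rw [Subgroup.subgroupOf_map_subtype] at h1
    rw [h1]
    exact Nat.Coprime.coprime_dvd_left (Subgroup.card_dvd_of_le inf_le_left) h.coprime
  · apply le_antisymm le_top
    intro x _
    have hx : (x : G) ∈ N ⊔ P := by rw [h.sup]; exact Subgroup.mem_top _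
    obtain ⟨n, hn, g, hg, hng⟩ := Subgroup.mem_sup_of_normal_left.1 hx
    have hnH : n ∈ H := by
      have : n = (x : G) * g⁻¹ := by rw [← hng]; group
      rw [this]
      exact H.mul_mem x.2 (H.inv_mem (hPH hg))
    have hx' : x = (⟨n, hnH⟩ : H) * ⟨g, hPH hg⟩ := Subtype.ext hng.symm
    rw [hx']
    exact Subgroup.mul_mem _ (Subgroup.mem_sup_left (Subgroup.mem_subgroupOf.2 hn))
      (Subgroup.mem_sup_right (Subgroup.mem_subgroupOf.2 hg))
  · intro x hx c hc d hd
    have h0 := h.h (x : G) (Subgroup.mem_subgroupOf.1 hx) (c : G) hc (d : G) hd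
    have h1 : (Subgroup.closure ({x * c * x⁻¹, d} : Set H)).map H.subtype =
        Subgroup.closure ({(x : G) * c * (x : G)⁻¹, (d : G)} : Set G) := by
      rw [MonoidHom.map_closure, Set.image_pair]
      rfl
    rw [← h1] at h0
    exact h0.of_equiv (Subgroup.equivMapOfInjective _ H.subtype H.subtype_injective).symm

theorem Hyp.disj {p : ℕ} [hp : Fact p.Prime] [Finite G] {P N : Subgroup G} {C D : Set G}
    (h : Hyp p P N C D) : N ⊓ P = ⊥ := by
  obtain ⟨k, hk⟩ := IsPGroup.iff_card.1 h.pgroup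
  apply Subgroup.inf_eq_bot_of_coprime
  rw [hk]
  exact Nat.Coprime.pow_right k h.coprime

theorem Hyp.card [Finite G] {p : ℕ} [hp : Fact p.Prime] {P N : Subgroup G} {C D : Set G}
    (h : Hyp p P N C D) : Nat.card G = Nat.card P * Nat.card N := by
  haveI := h.normal
  have h1 : P ≤ Subgroup.normalizer (N : Set G) := by
    rw [Subgroup.normalizer_eq_top]; exact le_top
  have h2 := Cfsg.Agent.Helper1.card_sup_of_le_normalizer h1 (by rw [inf_comm]; exact h.disj)
  rw [h.sup, Subgroup.card_top] at h2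
  exact h2

/-- The factorization `N = C_N(d) C_N(c)`. -/
theorem Hyp.fact [Finite G] {p : ℕ} [hp : Fact p.Prime] {P N : Subgroup G} {C D : Set G}
    (h : Hyp p P N C D) :
    ∀ x ∈ N, ∀ c ∈ C, ∀ d ∈ D, ∃ a ∈ N, ∃ b ∈ N, x = a * b ∧ a * d = d * a ∧ b * c = c * b := by
  intro x hx c hc d hd
  haveI := h.normal
  have hcP : c ∈ P := h.hC ▸ Subgroup.subset_closure hc
  have hdP : d ∈ P := h.hD ▸ Subgroup.subset_closure hd
  have hidx : ¬ p ∣ P.index := by
    have h1 := P.card_mul_index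
    rw [h.card] at h1
    have h2 : P.index = Nat.card N := Nat.eq_of_mul_eq_mul_left Nat.card_pos h1
    rw [h2]
    intro hdvd
    have := Nat.Coprime.eq_one_of_dvd h.coprime.symm hdvd
    exact hp.out.one_lt.ne' this
  obtain ⟨PS, hPS⟩ : ∃ PS : Sylow p G, (PS : Subgroup G) = P := ⟨h.pgroup.toSylow hidx, rfl⟩
  obtain ⟨Q, hTQ⟩ := (h.h x hx c hc d hd).exists_le_sylow
  obtain ⟨g, hg⟩ := MulAction.exists_smul_eq G PS Q
  have hmemQ : ∀ t : G, t ∈ (Q : Subgroup G) → g⁻¹ * t * g ∈ P := by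
    intro t ht
    have ht' : t ∈ MulAut.conj g • (PS : Subgroup G) := by
      rw [← Sylow.coe_subgroup_smul, hg]; exact ht
    rw [Subgroup.mem_pointwise_smul_iff_inv_smul_mem, hPS] at ht'
    simpa [MulAut.smul_def] using ht'
  have hgtop : g ∈ N ⊔ P := by rw [h.sup]; exact Subgroup.mem_top _
  obtain ⟨n, hn, k, hk, hnk⟩ := Subgroup.mem_sup_of_normal_left.1 hgtop
  have hmemP : ∀ t : G, t ∈ (Q : Subgroup G) → n⁻¹ * t * n ∈ P := by
    intro t ht
    have h1 := hmemQ t ht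
    have h2 : n⁻¹ * t * n = k * (g⁻¹ * t * g) * k⁻¹ := by rw [← hnk]; group
    rw [h2]
    exact P.mul_mem (P.mul_mem hk h1) (P.inv_mem hk)
  have hd1 := hmemP d (hTQ (Subgroup.subset_closure (by simp)))
  have hc1 := hmemP (x * c * x⁻¹) (hTQ (Subgroup.subset_closure (by simp)))
  have hbot : ∀ e : G, e ∈ N → e ∈ P → e = 1 := by
    intro e heN heP
    have : e ∈ N ⊓ P := ⟨heN, heP⟩
    rw [h.disj] at this
    exact Subgroup.mem_bot.1 this
  -- n commutes with d
  have hnd : n * d = d * n := by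
    have e1 : d⁻¹ * (n⁻¹ * d * n) ∈ P := P.mul_mem (P.inv_mem hdP) hd1
    have e2 : d⁻¹ * (n⁻¹ * d * n) ∈ N := by
      have : d⁻¹ * (n⁻¹ * d * n) = (d⁻¹ * n⁻¹ * d⁻¹⁻¹) * n := by group
      rw [this]
      exact N.mul_mem (h.normal.conj_mem _ (N.inv_mem hn) _) hn
    have e3 := hbot _ e2 e1
    calc n * d = d * n * (d⁻¹ * (n⁻¹ * d * n))⁻¹ := by group
      _ = d * n := by rw [e3, inv_one, mul_one]
  -- m = n⁻¹ x commutes with c
  have hmN : n⁻¹ * x ∈ N := N.mul_mem (N.inv_mem hn) hx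
  have hmc : (n⁻¹ * x) * c = c * (n⁻¹ * x) := by
    have e1 : (n⁻¹ * (x * c * x⁻¹) * n) * c⁻¹ ∈ P := P.mul_mem hc1 (P.inv_mem hcP)
    have e2 : (n⁻¹ * (x * c * x⁻¹) * n) * c⁻¹ ∈ N := by
      have : (n⁻¹ * (x * c * x⁻¹) * n) * c⁻¹ = (n⁻¹ * x) * (c * (n⁻¹ * x)⁻¹ * c⁻¹) := by group
      rw [this]
      exact N.mul_mem hmN (h.normal.conj_mem _ (N.inv_mem hmN) _)
    have e3 := hbot _ e2 e1
    calc (n⁻¹ * x) * c = ((n⁻¹ * (x * c * x⁻¹) * n) * c⁻¹) * c * (n⁻¹ * x) := by group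
      _ = c * (n⁻¹ * x) := by rw [e3, one_mul]
  exact ⟨n, hn, n⁻¹ * x, hmN, by group, hnd, hmc⟩

/-- A `P`-invariant Sylow `q`-subgroup of `N`. -/
theorem exists_invariant_sylow [Finite G] {p : ℕ} [hp : Fact p.Prime] (P N : Subgroup G)
    [hN : N.Normal] (hP : IsPGroup p P) (hcop : (Nat.card N).Coprime p) (q : ℕ) [hq : Fact q.Prime] :
    ∃ Q : Subgroup G, Q ≤ N ∧ P ≤ Subgroup.normalizer (Q : Set G) ∧ IsPGroup q Q ∧
      Nat.card Q = q ^ (Nat.card N).factorization q := by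
  classical
  let φ : ↥P →* MulAut ↥N := (MulAut.conjNormal (H := N)).comp P.subtype
  letI : MulDistribMulAction ↥P ↥N := MulDistribMulAction.compHom ↥N φ
  have hsmul : ∀ (g : ↥P) (n : ↥N), ((g • n : ↥N) : G) = g * n * (g : G)⁻¹ := fun g n => rfl
  have hcard : ¬ p ∣ Nat.card (Sylow q ↥N) := by
    obtain ⟨Q₀⟩ : Nonempty (Sylow q ↥N) := inferInstance
    have h1 := Q₀.card_dvd_index
    have h2 : (Q₀ : Subgroup N).index ∣ Nat.card N := Subgroup.index_dvd_card _
    intro hdvd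
    have h3 : p ∣ Nat.card N := (hdvd.trans h1).trans h2
    exact (hp.out.coprime_iff_not_dvd.1 hcop.symm) h3
  obtain ⟨Q₀, hQ₀⟩ := hP.nonempty_fixed_point_of_prime_not_dvd_card (Sylow q ↥N) hcard
  have hconj : ∀ g ∈ P, ∀ x ∈ (Q₀ : Subgroup N).map N.subtype,
      g * x * g⁻¹ ∈ (Q₀ : Subgroup N).map N.subtype := by
    rintro g hg x ⟨y, hy, rfl⟩
    have h1 : (⟨g, hg⟩ : ↥P) • y ∈ ((⟨g, hg⟩ : ↥P) • (Q₀ : Subgroup N)) :=
      Subgroup.smul_mem_pointwise_smul y _ _ hy
    rw [← Sylow.pointwise_smul_def, hQ₀ ⟨g, hg⟩] at h1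
    exact ⟨_, h1, hsmul ⟨g, hg⟩ y⟩
  refine ⟨(Q₀ : Subgroup N).map N.subtype, Subgroup.map_subtype_le _, ?_, Q₀.isPGroup'.map _, ?_⟩
  · intro g hg
    rw [Subgroup.mem_normalizer_iff]
    intro x
    constructor
    · exact hconj g hg x
    · intro hx
      have := hconj g⁻¹ (P.inv_mem hg) _ hx
      have e : g⁻¹ * (g * x * g⁻¹) * g⁻¹⁻¹ = x := by group
      rwa [e] at this
  · rw [Subgroup.card_map_of_injective N.subtype_injective]
    exact Q₀.card_eq_multiplicity

/-- If `[g, n]` commutes with `g`, with `g` a `p`-element and `n` in a normal `p'`-subgroup, then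
`[g, n] = 1`. -/
theorem comm_of_comm_commutator [Finite G] {p : ℕ} [hp : Fact p.Prime] {P N : Subgroup G}
    (hP : IsPGroup p P) (hN : N.Normal) (hcop : (Nat.card N).Coprime p)
    {g n : G} (hg : g ∈ P) (hn : n ∈ N)
    (hcomm : g * (g * n * g⁻¹ * n⁻¹) = (g * n * g⁻¹ * n⁻¹) * g) : g * n = n * g := by
  obtain ⟨m, hm⟩ : ∃ m, m = g * n * g⁻¹ * n⁻¹ := ⟨_, rfl⟩
  rw [← hm] at hcomm
  have hmN : m ∈ N := by
    rw [hm]; exact N.mul_mem (hN.conj_mem n hn g) (N.inv_mem hn)
  have hgn : g * n * g⁻¹ = m * n := by rw [hm]; group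
  have hgm : ∀ k : ℕ, g * m ^ k * g⁻¹ = m ^ k := by
    intro k
    have : g * m ^ k = m ^ k * g := by
      induction k with
      | zero => simp
      | succ k ih => rw [pow_succ, ← mul_assoc, ih, mul_assoc, hcomm, ← mul_assoc]
    rw [this, mul_inv_cancel_right]
  have hk : ∀ k : ℕ, g ^ k * n * (g ^ k)⁻¹ = m ^ k * n := by
    intro k
    induction k with
    | zero => simp
    | succ k ih =>
      have : g ^ (k + 1) * n * (g ^ (k + 1))⁻¹ = g * (g ^ k * n * (g ^ k)⁻¹) * g⁻¹ := by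
        rw [pow_succ']; group
      rw [this, ih]
      have h2 : g * (m ^ k * n) * g⁻¹ = (g * m ^ k * g⁻¹) * (g * n * g⁻¹) := by group
      rw [h2, hgm, hgn, ← mul_assoc, ← pow_succ]
  have h1 := hk (orderOf g)
  rw [pow_orderOf_eq_one, one_mul, inv_one, mul_one] at h1
  have h2 : m ^ orderOf g = 1 := by
    have : m ^ orderOf g * n = 1 * n := by rw [← h1, one_mul]
    exact mul_right_cancel this
  obtain ⟨j, hj⟩ := (IsPGroup.iff_orderOf.1 hP) ⟨g, hg⟩
  have hj' : orderOf g = p ^ j := by rw [← hj, Subgroup.orderOf_mk]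
  have h3 : orderOf m ∣ p ^ j := by rw [← hj']; exact orderOf_dvd_of_pow_eq_one h2
  have h4 : orderOf m ∣ Nat.card N := Subgroup.orderOf_dvd_natCard N hmN
  have h5 : orderOf m = 1 :=
    Nat.eq_one_of_dvd_coprimes (Nat.Coprime.pow_right j hcop) h4 h3
  have h6 : m = 1 := orderOf_eq_one_iff.1 h5
  rw [h6, one_mul] at hgn
  calc g * n = g * n * g⁻¹ * g := by group
    _ = n * g := by rw [hgn]

theorem final_contra [Finite G] {p : ℕ} [hp : Fact p.Prime] (hp3 : 3 ≤ p) {P N : Subgroup G}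
    {C D : Set G} (h : Hyp p P N C D) (hab : ∀ a ∈ N, ∀ b ∈ N, a * b = b * a)
    (hK : P ⊓ Subgroup.centralizer (N : Set G) = ⊥)
    (hmin : ∀ L : Subgroup G, L.Normal → L ≤ N → L = ⊥ ∨ L = N)
    (hcon : ∃ g ∈ P, ∃ n ∈ N, g * n ≠ n * g) : False := by
  classical
  haveI := h.normal
  letI iC : CommGroup ↥N :=
    { (inferInstance : Group ↥N) with mul_comm := fun a b => Subtype.ext (hab a a.2 b b.2) }
  let φ : ↥P →* MulAut ↥N := (MulAut.conjNormal (H := N)).comp P.subtype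
  letI iA : MulDistribMulAction ↥P ↥N := MulDistribMulAction.compHom ↥N φ
  have hsmul : ∀ (g : ↥P) (n : ↥N), ((g • n : ↥N) : G) = g * n * (g : G)⁻¹ := fun g n => rfl
  obtain ⟨g₀, hg₀, n₀, hn₀, hgn⟩ := hcon
  have hV : Nontrivial ↥N := by
    refine ⟨⟨⟨n₀, hn₀⟩, 1, ?_⟩⟩
    intro h1
    have : n₀ = 1 := congrArg Subtype.val h1
    apply hgn
    rw [this, mul_one, one_mul]
  have hRnt : Nontrivial ↥P := by
    refine ⟨⟨⟨g₀, hg₀⟩, 1, ?_⟩⟩
    intro h1
    have : g₀ = 1 := congrArg Subtype.val h1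
    apply hgn
    rw [this, mul_one, one_mul]
  refine fin_contra (R := ↥P) (V := ↥N) hp3 h.pgroup h.coprime hV hRnt ?_ ?_
    (P.subtype ⁻¹' C) (P.subtype ⁻¹' D) ?_ ?_ ?_
  · -- faithful
    intro g hg
    have hmem : (g : G) ∈ P ⊓ Subgroup.centralizer (N : Set G) := by
      refine Subgroup.mem_inf.2 ⟨g.2, ?_⟩
      rw [Subgroup.mem_centralizer_iff]
      intro n hn
      have h1 := congrArg Subtype.val (hg ⟨n, hn⟩)
      rw [hsmul] at h1
      calc n * (g : G) = ((g : G) * n * (g : G)⁻¹) * g := by rw [h1]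
        _ = g * n := by group
    rw [hK] at hmem
    exact Subtype.ext (Subgroup.mem_bot.1 hmem)
  · -- irreducible
    intro X hX
    have hLn : (X.map N.subtype).Normal := by
      refine ⟨fun l hl x => ?_⟩
      obtain ⟨y, hy, rfl⟩ := hl
      have hxtop : x ∈ N ⊔ P := by rw [h.sup]; exact Subgroup.mem_top _
      obtain ⟨n, hn, g, hg, rfl⟩ := Subgroup.mem_sup_of_normal_left.1 hxtop
      have h1 : (⟨g, hg⟩ : ↥P) • y ∈ X := hX _ _ hy
      have h2 : n * g * (N.subtype y) * (n * g)⁻¹ = n * (g * y * g⁻¹) * n⁻¹ := by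
        simp only [Subgroup.coe_subtype]; group
      rw [h2]
      have h3 : g * (y : G) * g⁻¹ ∈ N := h.normal.conj_mem _ y.2 g
      have h4 : n * (g * y * g⁻¹) * n⁻¹ = g * y * g⁻¹ := by
        rw [hab n hn _ h3, mul_inv_cancel_right]
      rw [h4]
      exact ⟨_, h1, hsmul ⟨g, hg⟩ y⟩
    rcases hmin _ hLn (Subgroup.map_subtype_le X) with h1 | h1
    · left
      exact (Subgroup.map_eq_bot_iff_of_injective X N.subtype_injective).1 h1
    · right
      apply le_antisymm le_top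
      intro v _
      have : (v : G) ∈ X.map N.subtype := by rw [h1]; exact v.2
      obtain ⟨y, hy, hyv⟩ := this
      have : y = v := Subtype.ext hyv
      rwa [← this]
  · rw [closure_preimage_subtype P le_rfl h.hC, Subgroup.subgroupOf_self]
  · rw [closure_preimage_subtype P le_rfl h.hD, Subgroup.subgroupOf_self]
  · intro c hc d hd v
    obtain ⟨a, ha, b, hb, hv, had, hbc⟩ := h.fact (v : G) v.2 (c : G) hc (d : G) hd
    refine ⟨⟨a, ha⟩, ⟨b, hb⟩, Subtype.ext hv, Subtype.ext ?_, Subtype.ext ?_⟩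
    · rw [hsmul]
      change (d : G) * a * (d : G)⁻¹ = a
      rw [← had, mul_inv_cancel_right]
    · rw [hsmul]
      change (c : G) * b * (c : G)⁻¹ = b
      rw [← hbc, mul_inv_cancel_right]

theorem main_aux (p : ℕ) [hp : Fact p.Prime] (hp3 : 3 ≤ p) :
    ∀ (k : ℕ) (G : Type u) [Group G] [Finite G], Nat.card G = k →
      ∀ (P N : Subgroup G) (C D : Set G), Hyp p P N C D → ∀ g ∈ P, ∀ n ∈ N, g * n = n * g := by
  intro k
  induction k using Nat.strong_induction_on with
  | _ k ih =>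
  intro G _ _ hk P N C D hyp
  by_contra hcon
  push Not at hcon
  haveI hNn := hyp.normal
  have hdisj : N ⊓ P = ⊥ := hyp.disj
  have hcardG : Nat.card G = Nat.card P * Nat.card N := hyp.card
  have hbot : ∀ e : G, e ∈ N → e ∈ P → e = 1 := by
    intro e heN heP
    have : e ∈ N ⊓ P := ⟨heN, heP⟩
    rw [hdisj] at this
    exact Subgroup.mem_bot.1 this
  have hcomN : ∀ g n : G, n ∈ N → g * n * g⁻¹ * n⁻¹ ∈ N := fun g n hn =>
    N.mul_mem (hNn.conj_mem n hn g) (N.inv_mem hn)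
  have hcomm_of : ∀ g n : G, g * n * g⁻¹ * n⁻¹ = 1 → g * n = n * g := by
    intro g n h1
    calc g * n = (g * n * g⁻¹ * n⁻¹) * n * g := by group
      _ = n * g := by rw [h1, one_mul]
  -- quotients
  have F1 : ∀ L : Subgroup G, L.Normal → L ≠ ⊥ → ∀ g ∈ P, ∀ n ∈ N, g * n * g⁻¹ * n⁻¹ ∈ L := by
    intro L hL hLne g hg n hn
    haveI := hL
    have hlt : Nat.card (G ⧸ L) < k := by
      rw [← hk, Subgroup.card_eq_card_quotient_mul_card_subgroup L]
      have h1 : 1 < Nat.card L := (Subgroup.one_lt_card_iff_ne_bot L).2 hLne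
      have hpos : 0 < Nat.card (G ⧸ L) := Nat.card_pos
      nlinarith
    have h1 := ih _ hlt (G ⧸ L) rfl _ _ _ _
      (hyp.map (QuotientGroup.mk' L) (QuotientGroup.mk'_surjective L))
      (QuotientGroup.mk' L g) (Subgroup.mem_map_of_mem _ hg)
      (QuotientGroup.mk' L n) (Subgroup.mem_map_of_mem _ hn)
    rw [← QuotientGroup.eq_one_iff]
    have h2 : ((g * n * g⁻¹ * n⁻¹ : G) : G ⧸ L) =
        (QuotientGroup.mk' L g) * (QuotientGroup.mk' L n) * (QuotientGroup.mk' L g)⁻¹ *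
          (QuotientGroup.mk' L n)⁻¹ := by
      simp
    rw [h2, h1]
    group
  -- subgroups
  have F2 : ∀ M : Subgroup G, M ≤ N → M ≠ N → P ≤ Subgroup.normalizer (M : Set G) →
      ∀ g ∈ P, ∀ m ∈ M, g * m = m * g := by
    intro M hMN hMne hPM g hg m hm
    have hPH : P ≤ M ⊔ P := le_sup_right
    have hdM : P ⊓ M = ⊥ := by
      apply le_antisymm _ bot_le
      rw [← hdisj, inf_comm]
      exact inf_le_inf_right P hMN
    have hlt : Nat.card (M ⊔ P : Subgroup G) < k := by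
      rw [← hk, hcardG, Cfsg.Agent.Helper1.card_sup_of_le_normalizer hPM hdM]
      have h1 : Nat.card M < Nat.card N := by
        by_contra hc
        push Not at hc
        exact hMne (Subgroup.eq_of_le_of_card_ge hMN hc)
      exact Nat.mul_lt_mul_of_pos_left h1 Nat.card_pos
    have h1 := ih _ hlt (↥(M ⊔ P)) rfl _ _ _ _ (hyp.sub (M ⊔ P) hPH)
      ⟨g, hPH hg⟩ (Subgroup.mem_subgroupOf.2 hg)
      ⟨m, (le_sup_left : M ≤ M ⊔ P) hm⟩ (Subgroup.mem_subgroupOf.2 (hMN hm))
    exact congrArg Subtype.val h1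
  -- faithful
  have hKn : (P ⊓ Subgroup.centralizer (N : Set G)).Normal := by
    refine ⟨fun t ht x => ?_⟩
    obtain ⟨htP, htC⟩ := Subgroup.mem_inf.1 ht
    have hxtop : x ∈ N ⊔ P := by rw [hyp.sup]; exact Subgroup.mem_top _
    obtain ⟨n, hn, g, hg, rfl⟩ := Subgroup.mem_sup_of_normal_left.1 hxtop
    rw [Subgroup.mem_centralizer_iff] at htC
    have h1 : g * t * g⁻¹ ∈ P := P.mul_mem (P.mul_mem hg htP) (P.inv_mem hg)
    have h2 : g * t * g⁻¹ ∈ Subgroup.centralizer (N : Set G) := by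
      rw [Subgroup.mem_centralizer_iff]
      intro m hm
      have hm' : g⁻¹ * m * g⁻¹⁻¹ ∈ N := hNn.conj_mem m hm g⁻¹
      have h3 := htC _ hm'
      calc m * (g * t * g⁻¹) = g * ((g⁻¹ * m * g⁻¹⁻¹) * t) * g⁻¹ := by group
        _ = g * (t * (g⁻¹ * m * g⁻¹⁻¹)) * g⁻¹ := by rw [h3]
        _ = g * t * g⁻¹ * m := by group
    have h4 : n * g * t * (n * g)⁻¹ = g * t * g⁻¹ := by
      rw [Subgroup.mem_centralizer_iff] at h2
      have h5 := h2 n hn
      calc n * g * t * (n * g)⁻¹ = (n * (g * t * g⁻¹)) * n⁻¹ := by group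
        _ = ((g * t * g⁻¹) * n) * n⁻¹ := by rw [h5]
        _ = g * t * g⁻¹ := by group
    rw [h4]
    exact Subgroup.mem_inf.2 ⟨h1, h2⟩
  have hK : P ⊓ Subgroup.centralizer (N : Set G) = ⊥ := by
    by_contra hKne
    obtain ⟨g, hg, n, hn, hgn⟩ := hcon
    have h1 := F1 _ hKn hKne g hg n hn
    have h2 := hbot _ (hcomN g n hn) (Subgroup.mem_inf.1 h1).1
    exact hgn (hcomm_of g n h2)
  -- minimal normal
  have hmin : ∀ L : Subgroup G, L.Normal → L ≤ N → L = ⊥ ∨ L = N := by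
    intro L hLn hLN
    by_contra hc
    push Not at hc
    obtain ⟨g, hg, n, hn, hgn⟩ := hcon
    have h1 := F1 L hLn hc.1 g hg n hn
    have hPL : P ≤ Subgroup.normalizer (L : Set G) := by
      rw [Subgroup.normalizer_eq_top]; exact le_top
    have h2 := F2 L hLN hc.2 hPL g hg _ h1
    exact hgn (comm_of_comm_commutator hyp.pgroup hNn hyp.coprime hg hn h2)
  -- N is nontrivial
  have hNne : N ≠ ⊥ := by
    intro h
    obtain ⟨g, hg, n, hn, hgn⟩ := hcon
    rw [h, Subgroup.mem_bot] at hn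
    apply hgn
    rw [hn, mul_one, one_mul]
  -- N is abelian
  have hab : ∀ a ∈ N, ∀ b ∈ N, a * b = b * a := by
    by_cases hq : ∃ q : ℕ, q.Prime ∧ IsPGroup q N
    · obtain ⟨q, hqp, hqN⟩ := hq
      haveI : Fact q.Prime := ⟨hqp⟩
      haveI : Nontrivial ↥N := (Subgroup.nontrivial_iff_ne_bot N).2 hNne
      have hZn : ((Subgroup.center ↥N).map N.subtype).Normal := inferInstance
      have hZne : (Subgroup.center ↥N).map N.subtype ≠ ⊥ := by
        intro h
        have h1 := (Subgroup.map_eq_bot_iff_of_injective _ N.subtype_injective).1 h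
        have h2 := hqN.bot_lt_center
        rw [h1] at h2
        exact lt_irrefl _ h2
      rcases hmin _ hZn (Subgroup.map_subtype_le _) with h1 | h1
      · exact absurd h1 hZne
      · intro a ha b hb
        have : a ∈ (Subgroup.center ↥N).map N.subtype := by rw [h1]; exact ha
        obtain ⟨y, hy, rfl⟩ := this
        have hy' : y ∈ Subgroup.center ↥N := hy
        rw [Subgroup.mem_center_iff] at hy'
        have := hy' ⟨b, hb⟩
        exact (congrArg Subtype.val this).symm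
    · exfalso
      push Not at hq
      -- every invariant Sylow subgroup is centralized by P
      have hall : ∀ q : ℕ, q.Prime →
          q ^ (Nat.card N).factorization q ∣ Nat.card (N ⊓ Subgroup.centralizer (P : Set G) : Subgroup G) := by
        intro q hqp
        haveI : Fact q.Prime := ⟨hqp⟩
        obtain ⟨Q, hQN, hPQ, hQq, hQcard⟩ := exists_invariant_sylow P N hyp.pgroup hyp.coprime q
        have hQne : Q ≠ N := by
          intro h
          exact hq q hqp (h ▸ hQq)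
        have h1 := F2 Q hQN hQne hPQ
        have hle : Q ≤ N ⊓ Subgroup.centralizer (P : Set G) := by
          intro x hx
          refine Subgroup.mem_inf.2 ⟨hQN hx, ?_⟩
          rw [Subgroup.mem_centralizer_iff]
          intro g hg
          exact h1 g hg x hx
        rw [← hQcard]
        exact Subgroup.card_dvd_of_le hle
      have hdvd : Nat.card N ∣ Nat.card (N ⊓ Subgroup.centralizer (P : Set G) : Subgroup G) := by
        have hN0 : Nat.card N ≠ 0 := Nat.card_pos.ne'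
        have hM0 : Nat.card (N ⊓ Subgroup.centralizer (P : Set G) : Subgroup G) ≠ 0 := Nat.card_pos.ne'
        rw [← Nat.factorization_prime_le_iff_dvd hN0 hM0]
        intro q hqp
        exact (hqp.pow_dvd_iff_le_factorization hM0).1 (hall q hqp)
      have heq : N ⊓ Subgroup.centralizer (P : Set G) = N :=
        Subgroup.eq_of_le_of_card_ge inf_le_left (Nat.le_of_dvd Nat.card_pos hdvd)
      obtain ⟨g, hg, n, hn, hgn⟩ := hcon
      have : n ∈ N ⊓ Subgroup.centralizer (P : Set G) := by rw [heq]; exact hn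
      have h2 := (Subgroup.mem_inf.1 this).2
      rw [Subgroup.mem_centralizer_iff] at h2
      exact hgn (h2 g hg)
  exact final_contra hp3 hyp hab hK hmin hcon

/-- Main theorem. -/
theorem main [Finite G] (p : ℕ) [hp : Fact p.Prime] (hp3 : 3 ≤ p) (P N : Subgroup G) (C D : Set G)
    (hyp : Hyp p P N C D) : ∀ g ∈ P, ∀ n ∈ N, g * n = n * g :=
  main_aux p hp3 _ G rfl P N C D hyp

theorem s2277 {G : Type u} [Group G] [Finite G] (p : ℕ) [Fact p.Prime] (hp3 : 3 ≤ p) (P : Sylow p G)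
    (N : Subgroup G) [hNn : N.Normal] (hN : (Nat.card N).Coprime p)
    (hNP : N ⊔ (P : Subgroup G) = ⊤)
    (C D : Set G) (hC : Subgroup.closure C = (P : Subgroup G))
    (hD : Subgroup.closure D = (P : Subgroup G))
    (h : ∀ x ∈ N, ∀ c ∈ C, ∀ d ∈ D,
      IsPGroup p ↥(Subgroup.closure ({x * c * x⁻¹, d} : Set G))) :
    ⁅(P : Subgroup G), N⁆ = ⊥ := by
  have hyp : Hyp p (P : Subgroup G) N C D := ⟨hNn, P.isPGroup', hN, hNP, hC, hD, h⟩
  rw [Subgroup.commutator_eq_bot_iff_le_centralizer]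
  intro g hg
  rw [Subgroup.mem_centralizer_iff]
  intro n hn
  exact (main p hp3 _ N C D hyp g hg n hn).symm

end Cfsg.Agent.Lead.GenPair
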