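import Mathlib

/-!
Lead: S4291 (Frobenius complements: the unique normal subgroup `N` with cyclic Sylow subgroups and
`G / N ∈ {1, V₄, A₄, S₄, A₅, S₅}`): shared definitions only.  Plan: `notes/lead_S4291_blueprint.md`.
-/

set_option autoImplicit false

namespace Cfsg.Agent.Lead.FC

/-- every Sylow subgroup of `G` is cyclic or generalized quaternion (as delivered by S0040) -/
def SylQ (G : Type*) [Group G] : Prop :=
  ∀ (p : ℕ) [Fact p.Prime] (P : Sylow p G), IsCyclic P ∨ ∃ n : ℕ, Nonempty (P ≃* QuaternionGroup (2 ^ n))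

/-- the quotient by `N` is trivial or one of `V₄, A₄, S₄, A₅, S₅` (exactly the shape of the statement S4291) -/
def QuotIn {G : Type*} [Group G] (N : Subgroup G) : Prop :=
  N = ⊤ ∨
    (∃ f : G →* DihedralGroup 2, Function.Surjective f ∧ f.ker = N) ∨
    (∃ f : G →* alternatingGroup (Fin 4), Function.Surjective f ∧ f.ker = N) ∨
    (∃ f : G →* Equiv.Perm (Fin 4), Function.Surjective f ∧ f.ker = N) ∨
    (∃ f : G →* alternatingGroup (Fin 5), Function.Surjective f ∧ f.ker = N) ∨
    (∃ f : G →* Equiv.Perm (Fin 5), Function.Surjective f ∧ f.ker = N)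

/-- the property of `N` in S4291 -/
def Good {G : Type*} [Group G] (N : Subgroup G) : Prop :=
  N.Normal ∧ (∀ (p : ℕ) [Fact p.Prime] (P : Sylow p N), IsCyclic P) ∧ QuotIn N

end Cfsg.Agent.Lead.FC
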