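import Mathlib
import Cfsg.Prelude.Def_Transfer
import Cfsg.Agent.Lead.SylowLemmas

set_option autoImplicit false

namespace Cfsg.Agent.Lead

open Cfsg

variable {G : Type*} [Group G]

theorem isElementaryAbelian_map_of_injective {H : Type*} [Group H] (p : ℕ) (f : G →* H)
    (A : Subgroup G) (hA : IsElementaryAbelian p A) : IsElementaryAbelian p (A.map f) := by
  obtain ⟨hc, he⟩ := hA
  refine ⟨?_, ?_⟩
  · refine ⟨⟨?_⟩⟩
    rintro ⟨_, a, ha, rfl⟩ ⟨_, b, hb, rfl⟩
    apply Subtype.ext
    show f a * f b = f b * f a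
    rw [← map_mul, ← map_mul]
    congr 1
    exact congrArg Subtype.val (hc.is_comm.comm ⟨a, ha⟩ ⟨b, hb⟩)
  · rintro _ ⟨a, ha, rfl⟩
    rw [← map_pow, he a ha, map_one]

theorem isElementaryAbelian_subgroupOf (p : ℕ) (B P : Subgroup G) (hB : IsElementaryAbelian p B) :
    IsElementaryAbelian p (B.subgroupOf P) := by
  obtain ⟨hc, he⟩ := hB
  refine ⟨?_, ?_⟩
  · refine ⟨⟨?_⟩⟩
    rintro ⟨a, ha⟩ ⟨b, hb⟩
    apply Subtype.ext
    apply Subtype.ext
    rw [Subgroup.mem_subgroupOf] at ha hb
    have := congrArg Subtype.val (hc.is_comm.comm ⟨a.1, ha⟩ ⟨b.1, hb⟩)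
    exact this
  · intro a ha
    rw [Subgroup.mem_subgroupOf] at ha
    apply Subtype.ext
    simpa using he a.1 ha

theorem thompsonSubgroupOf_le (p : ℕ) (P : Subgroup G) : thompsonSubgroupOf p P ≤ P := by
  rintro _ ⟨x, _, rfl⟩
  exact x.2

/-- A member of the defining family lies in `J(P)`. -/
theorem map_le_thompsonSubgroupOf (p : ℕ) (P : Subgroup G) (A' : Subgroup P)
    (hA' : A' ∈ maxElementaryAbelianSubgroups p P) : A'.map P.subtype ≤ thompsonSubgroupOf p P :=
  Subgroup.map_mono (le_sSup hA')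

/-- An elementary abelian subgroup of `P` of the maximal order lies in `J(P)`. -/
theorem le_thompsonSubgroupOf_of_card (p : ℕ) (P B : Subgroup G) (hBP : B ≤ P)
    (hB : IsElementaryAbelian p B) (A' : Subgroup P) (hA' : A' ∈ maxElementaryAbelianSubgroups p P)
    (hcard : Nat.card A' ≤ Nat.card B) : B ≤ thompsonSubgroupOf p P := by
  have h1 : B.subgroupOf P ∈ maxElementaryAbelianSubgroups p P := by
    refine ⟨isElementaryAbelian_subgroupOf p B P hB, ?_⟩
    intro C hC
    rw [card_subgroupOf_of_le hBP]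
    exact (hA'.2 C hC).trans hcard
  have h2 := map_le_thompsonSubgroupOf p P _ h1
  rwa [Subgroup.map_subgroupOf_eq_of_le hBP] at h2

/-- `J(P)` is weakly closed in `P`: a conjugate of `J(P)` lying in `P` equals `J(P)`. -/
theorem thompsonSubgroupOf_map_conj_eq (p : ℕ) (P : Subgroup G) [Finite P] (h : G)
    (hle : (thompsonSubgroupOf p P).map (MulAut.conj h).toMonoidHom ≤ P) :
    (thompsonSubgroupOf p P).map (MulAut.conj h).toMonoidHom = thompsonSubgroupOf p P := by
  have hfin : Finite (thompsonSubgroupOf p P) :=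
    Finite.of_injective (Subgroup.inclusion (thompsonSubgroupOf_le p P))
      (Subgroup.inclusion_injective _)
  have hle2 : (thompsonSubgroupOf p P).map (MulAut.conj h).toMonoidHom ≤ thompsonSubgroupOf p P := by
    conv_lhs => rw [thompsonSubgroupOf, thompsonSubgroup]
    rw [Subgroup.map_map, Subgroup.map_le_iff_le_comap, sSup_le_iff]
    intro A' hA'
    rw [← Subgroup.map_le_iff_le_comap, ← Subgroup.map_map]
    apply le_thompsonSubgroupOf_of_card p P _ _ _ A' hA'
    · rw [card_map_conj, Subgroup.card_map_of_injective P.subtype_injective]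
    · exact (Subgroup.map_mono (map_le_thompsonSubgroupOf p P A' hA')).trans hle
    · apply isElementaryAbelian_map_of_injective
      apply isElementaryAbelian_map_of_injective
      exact hA'.1
  exact Subgroup.eq_of_le_of_card_ge hle2 (le_of_eq (card_map_conj _ h).symm)

end Cfsg.Agent.Lead
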