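import Mathlib
import Cfsg.Prelude.Def_FischerSpaces
import Cfsg.Prelude.Def_Solvable
import Cfsg.Prelude.Def_CaseTheorems
import Cfsg.Agent.Helper2.ZStarH
import Cfsg.Agent.Helper6.InvolSylowA
import Cfsg.Agent.Helper1.Cores
import Cfsg.Agent.Helper1.Fitting
import Cfsg.Agent.Helper1.SylowProd
import Cfsg.Agent.Helper5.ProdCard

set_option autoImplicit false

/-!
# 3-transposition groups of width one (via Glauberman's Z*-theorem)
-/

namespace Cfsg.Agent.Lead.TTW

open scoped Pointwise

variable {G : Type*} [Group G]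

theorem commute_iff_sq {a b : G} (ha : a * a = 1) (hb : b * b = 1) :
    Commute a b ↔ (a * b) ^ 2 = 1 := by
  have hai : a⁻¹ = a := inv_eq_of_mul_eq_one_left ha
  have hbi : b⁻¹ = b := inv_eq_of_mul_eq_one_left hb
  constructor
  · intro h
    have h' : a * b = b * a := h
    calc (a * b) ^ 2 = a * b * (a * b) := sq _
      _ = a * b * (b * a) := by rw [h']
      _ = a * (b * b) * a := by group
      _ = 1 := by rw [hb, mul_one, ha]
  · intro h
    have h1 : a * b * (a * b) = 1 := by rw [← sq]; exact h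
    have h2 : a * b = (a * b)⁻¹ := eq_inv_of_mul_eq_one_left h1
    show a * b = b * a
    rw [h2, mul_inv_rev, hai, hbi]

/-- arithmetic: if `q ^ v_q(n)` divides `c` for all primes `q ≠ 3` and `c ∣ n` then `n = c * 3 ^ a`. -/
theorem exists_pow_three {n c : ℕ} (hn : n ≠ 0) (hcn : c ∣ n)
    (h : ∀ q : ℕ, q.Prime → q ≠ 3 → q ^ (n.factorization q) ∣ c) :
    ∃ a : ℕ, n = c * 3 ^ a := by
  obtain ⟨m, rfl⟩ := hcn
  have hc0 : c ≠ 0 := fun h0 => hn (by rw [h0, zero_mul])
  have hm0 : m ≠ 0 := fun h0 => hn (by rw [h0, mul_zero])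
  have : m = 3 ^ m.primeFactorsList.length := by
    apply Nat.eq_prime_pow_of_unique_prime_dvd hm0
    intro q hq hqm
    by_contra hq3
    have h1 := h q hq hq3
    have h2 : q ^ ((c * m).factorization q + 1) ∣ c * m := by
      rw [pow_succ]
      exact mul_dvd_mul h1 hqm
    have h3 := (hq.pow_dvd_iff_le_factorization hn).mp h2
    omega
  exact ⟨_, by rw [← this]⟩

variable [Finite G]

/-- Key lemma: if `d` is an involution such that `d * (g d g⁻¹)` has order dividing 3 for all `g`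
and `d` commutes with none of its other conjugates, then the elements `d * (g d g⁻¹)` generate a
normal 3-subgroup. -/
theorem exists_normal_three {d : G} (hd : d * d = 1) (hd1 : d ≠ 1)
    (h3 : ∀ g : G, (d * (g * d * g⁻¹)) ^ 3 = 1)
    (hiso : ∀ g : G, Commute d (g * d * g⁻¹) → g * d * g⁻¹ = d) :
    ∃ N : Subgroup G, N.Normal ∧ IsPGroup 3 N ∧ ∀ g : G, d * (g * d * g⁻¹) ∈ N := by
  classical
  have hdi : d⁻¹ = d := inv_eq_of_mul_eq_one_left hd
  have hord : orderOf d = 2 := orderOf_eq_prime (by rw [sq]; exact hd) hd1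
  -- Z*
  have hZ : ∀ g : G, d * (g * d * g⁻¹) ∈ Cfsg.oddCore G := by
    intro g
    have := Cfsg.Agent.Helper2.ZStar.glauberman_zstar d ⟨hord, hiso⟩ g
    have e : d * (g * d * g⁻¹) = d * g * d⁻¹ * g⁻¹ := by rw [hdi]; group
    rw [e]; exact this
  obtain ⟨K, hK⟩ : ∃ K : Subgroup G, K = Cfsg.oddCore G := ⟨_, rfl⟩
  have hKn : K.Normal := by rw [hK]; infer_instance
  have hKodd : Odd (Nat.card K) := by
    rw [hK]
    exact (Cfsg.Agent.Helper1.card_pPrimeCore_coprime (G := G) 2).odd_of_right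
  have hdK : ∀ k ∈ K, d * k * d⁻¹ ∈ K := fun k hk => hKn.conj_mem k hk d
  obtain ⟨C, hC⟩ : ∃ C : Subgroup G, C = K ⊓ Subgroup.centralizer {d} := ⟨_, rfl⟩
  have hCK : C ≤ K := hC ▸ inf_le_left
  have hCd : ∀ c ∈ C, c * d = d * c := by
    intro c hc
    rw [hC] at hc
    have := Subgroup.mem_centralizer_singleton_iff.mp (Subgroup.mem_inf.mp hc).2
    exact this
  -- invariant Sylow q-subgroups for q ≠ 3 lie in C
  have hq : ∀ q : ℕ, q.Prime → q ≠ 3 → q ^ ((Nat.card K).factorization q) ∣ Nat.card C := by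
    intro q hqp hq3
    haveI : Fact q.Prime := ⟨hqp⟩
    obtain ⟨Q, hQK, hQcard, hQd⟩ :=
      Cfsg.Agent.Helper6.exists_invariant_sylow_of_odd q K hKodd d hd hdK
    have hQC : Q ≤ C := by
      intro y hy
      rw [hC]
      refine Subgroup.mem_inf.mpr ⟨hQK hy, Subgroup.mem_centralizer_singleton_iff.mpr ?_⟩
      -- u = (d y d⁻¹) y⁻¹ ∈ Q has order dividing 3 and a power of q
      have hu : d * (y * d * y⁻¹) ∈ Q := by
        have e : d * (y * d * y⁻¹) = (d * y * d⁻¹) * y⁻¹ := by rw [hdi]; group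
        rw [e]
        exact Q.mul_mem (hQd y hy) (Q.inv_mem hy)
      have h1 : orderOf (d * (y * d * y⁻¹)) ∣ 3 := orderOf_dvd_of_pow_eq_one (h3 y)
      have h2 : orderOf (⟨_, hu⟩ : Q) ∣ q ^ ((Nat.card K).factorization q) := by
        rw [← hQcard]; exact orderOf_dvd_natCard _
      rw [Subgroup.orderOf_mk] at h2
      have h4 : orderOf (d * (y * d * y⁻¹)) = 1 := by
        have hcop : Nat.Coprime 3 (q ^ ((Nat.card K).factorization q)) :=
          Nat.Coprime.pow_right _ ((Nat.coprime_primes Nat.prime_three hqp).mpr (Ne.symm hq3))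
        exact Nat.eq_one_of_dvd_coprimes hcop h1 h2
      have h5 : d * (y * d * y⁻¹) = 1 := orderOf_eq_one_iff.mp h4
      have h6 : y * d * y⁻¹ = d := by
        have := eq_inv_of_mul_eq_one_right h5
        rw [this, hdi]
      calc y * d = (y * d * y⁻¹) * y := by group
        _ = d * y := by rw [h6]
    rw [← hQcard]
    exact Subgroup.card_dvd_of_le hQC
  have hKpos : Nat.card K ≠ 0 := Nat.card_pos.ne'
  obtain ⟨a, ha⟩ := exists_pow_three hKpos (Subgroup.card_dvd_of_le hCK) hq
  -- invariant Sylow 3-subgroup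
  haveI : Fact (Nat.Prime 3) := ⟨Nat.prime_three⟩
  obtain ⟨P, hPK, hPcard, hPd⟩ :=
    Cfsg.Agent.Helper6.exists_invariant_sylow_of_odd 3 K hKodd d hd hdK
  have hCpos : Nat.card C ≠ 0 := Nat.card_pos.ne'
  have hfac : (Nat.card K).factorization 3 = (Nat.card C).factorization 3 + a := by
    rw [ha, Nat.factorization_mul hCpos (pow_ne_zero _ (by norm_num)),
      Nat.Prime.factorization_pow Nat.prime_three]
    simp
  -- |C ⊓ P| = 3^b, b ≤ v₃|C|
  have hCPp : IsPGroup 3 (C ⊓ P : Subgroup G) :=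
    (IsPGroup.of_card hPcard).to_le inf_le_right
  obtain ⟨b, hb⟩ := IsPGroup.iff_card.mp hCPp
  have hb_le : b ≤ (Nat.card C).factorization 3 := by
    have : 3 ^ b ∣ Nat.card C := hb ▸ Subgroup.card_dvd_of_le inf_le_left
    exact (Nat.prime_three.pow_dvd_iff_le_factorization hCpos).mp this
  have hprod := Cfsg.Agent.Helper5.card_mul_set_mul_card_inf C P
  have hsub : ((C : Set G) * (P : Set G) : Set G) ⊆ (K : Set G) := by
    rintro _ ⟨c, hc, p, hp, rfl⟩
    exact K.mul_mem (hCK hc) (hPK hp)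
  have hle : Nat.card ((C : Set G) * (P : Set G) : Set G) ≤ Nat.card K :=
    Nat.card_mono (Set.toFinite _) hsub
  have hbeq : b = (Nat.card C).factorization 3 := by
    by_contra hne
    have hlt : b < (Nat.card C).factorization 3 := lt_of_le_of_ne hb_le hne
    -- |C*P| * 3^b = |C| * 3^(v+a) ; |C*P| ≤ |C| * 3^a
    rw [hb, hPcard, hfac] at hprod
    have h1 : Nat.card ((C : Set G) * (P : Set G) : Set G) * 3 ^ b ≤
        Nat.card C * 3 ^ a * 3 ^ b := by
      rw [ha] at hle
      exact Nat.mul_le_mul_right _ hle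
    rw [hprod] at h1
    have h2 : Nat.card C * 3 ^ ((Nat.card C).factorization 3 + a) =
        Nat.card C * 3 ^ a * 3 ^ ((Nat.card C).factorization 3) := by
      rw [pow_add]; ring
    rw [h2] at h1
    have h3 : 3 ^ ((Nat.card C).factorization 3) ≤ 3 ^ b := by
      have hpos : 0 < Nat.card C * 3 ^ a := Nat.mul_pos (Nat.pos_of_ne_zero hCpos) (by positivity)
      exact Nat.le_of_mul_le_mul_left h1 hpos
    have h4 := (Nat.pow_le_pow_iff_right (by norm_num : 1 < 3)).mp h3
    omega
  have hcardeq : Nat.card C * Nat.card P = Nat.card K * Nat.card (C ⊓ P : Subgroup G) := by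
    rw [hb, hPcard, hfac, ha, hbeq, pow_add]; ring
  have hKCP : (K : Set G) = (C : Set G) * (P : Set G) :=
    Cfsg.Agent.Helper1.coe_mul_eq_of_card hCK hPK hcardeq
  -- every d * (k d k⁻¹), k ∈ K, lies in P
  have hKP : ∀ k ∈ K, d * (k * d * k⁻¹) ∈ P := by
    intro k hk
    have hk' : k⁻¹ ∈ (K : Set G) := K.inv_mem hk
    rw [hKCP] at hk'
    obtain ⟨c, hc, p, hp, hcp⟩ := hk'
    have hkk : k = p⁻¹ * c⁻¹ := by
      have : k = (k⁻¹)⁻¹ := (inv_inv k).symm
      rw [this, ← hcp, mul_inv_rev]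
    have hcd : c⁻¹ * d * c = d := by
      have := hCd c hc
      calc c⁻¹ * d * c = c⁻¹ * (d * c) := by group
        _ = c⁻¹ * (c * d) := by rw [this]
        _ = d := by group
    have e : d * (k * d * k⁻¹) = (d * p⁻¹ * d⁻¹) * p := by
      rw [hkk, hdi]
      calc d * (p⁻¹ * c⁻¹ * d * (p⁻¹ * c⁻¹)⁻¹) = d * (p⁻¹ * (c⁻¹ * d * c) * p) := by group
        _ = d * p⁻¹ * d * p := by rw [hcd]; group
    rw [e]
    exact P.mul_mem (hPd _ (P.inv_mem hp)) hp
  -- every d * (g d g⁻¹) lies in P
  have hGP : ∀ g : G, d * (g * d * g⁻¹) ∈ P := by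
    intro g
    obtain ⟨u, hu⟩ : ∃ u, u = d * (g * d * g⁻¹) := ⟨_, rfl⟩
    have huK : u ∈ K := by rw [hu, hK]; exact hZ g
    have hu3 : u ^ 3 = 1 := by rw [hu]; exact h3 g
    have hinv : d * u * d⁻¹ = u⁻¹ := by
      rw [hu, hdi]
      have : (d * (g * d * g⁻¹))⁻¹ = g * d * g⁻¹ * d := by
        rw [mul_inv_rev, hdi, mul_inv_rev, mul_inv_rev, inv_inv, hdi]; group
      rw [this]
      calc d * (d * (g * d * g⁻¹)) * d = (d * d) * (g * d * g⁻¹) * d := by group
        _ = g * d * g⁻¹ * d := by rw [hd, one_mul]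
    have h1 := hKP u huK
    have e : d * (u * d * u⁻¹) = u := by
      have h2 : d * u * d = u⁻¹ := by rw [← hinv, hdi]
      calc d * (u * d * u⁻¹) = (d * u * d) * u⁻¹ := by group
        _ = u⁻¹ * u⁻¹ := by rw [h2]
        _ = u := by
          have : u * u * u = 1 := by rw [← hu3, pow_three']
          have h3' : u⁻¹ = u * u := by
            apply inv_eq_of_mul_eq_one_left
            exact this
          calc u⁻¹ * u⁻¹ = u⁻¹ * (u * u) := by rw [← h3']
            _ = u := by group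
    rw [← hu]
    rw [e] at h1
    exact h1
  refine ⟨Subgroup.closure {x | ∃ g : G, x = d * (g * d * g⁻¹)}, ?_, ?_, ?_⟩
  · -- normal
    refine ⟨fun n hn h => ?_⟩
    have hcl : ∀ x ∈ Subgroup.closure {x | ∃ g : G, x = d * (g * d * g⁻¹)},
        h * x * h⁻¹ ∈ Subgroup.closure {x | ∃ g : G, x = d * (g * d * g⁻¹)} := by
      intro x hx
      induction hx using Subgroup.closure_induction with
      | mem x hx =>
        obtain ⟨g, rfl⟩ := hx
        have e : h * (d * (g * d * g⁻¹)) * h⁻¹ =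
            (d * (h * d * h⁻¹))⁻¹ * (d * ((h * g) * d * (h * g)⁻¹)) := by
          rw [mul_inv_rev d, hdi]
          calc h * (d * (g * d * g⁻¹)) * h⁻¹
              = (h * d * h⁻¹) * (d * d) * ((h * g) * d * (h * g)⁻¹) := by
                rw [hd]; group
            _ = (h * d * h⁻¹)⁻¹⁻¹ * d * (d * ((h * g) * d * (h * g)⁻¹)) := by group
            _ = (h * d * h⁻¹)⁻¹ * d * (d * ((h * g) * d * (h * g)⁻¹)) := by
                have : (h * d * h⁻¹)⁻¹ = h * d * h⁻¹ := by
                  rw [mul_inv_rev, mul_inv_rev, inv_inv, hdi]; group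
                rw [inv_inv, this]
        rw [e]
        exact Subgroup.mul_mem _ (Subgroup.inv_mem _ (Subgroup.subset_closure ⟨h, rfl⟩))
          (Subgroup.subset_closure ⟨h * g, rfl⟩)
      | one => simp
      | mul x y _ _ hx hy =>
        have e : h * (x * y) * h⁻¹ = (h * x * h⁻¹) * (h * y * h⁻¹) := by group
        rw [e]; exact Subgroup.mul_mem _ hx hy
      | inv x _ hx =>
        have e : h * x⁻¹ * h⁻¹ = (h * x * h⁻¹)⁻¹ := by group
        rw [e]; exact Subgroup.inv_mem _ hx
    exact hcl n hn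
  · have hle : Subgroup.closure {x | ∃ g : G, x = d * (g * d * g⁻¹)} ≤ P := by
      rw [Subgroup.closure_le]
      rintro x ⟨g, rfl⟩
      exact hGP g
    exact (IsPGroup.of_card hPcard).to_le hle
  · intro g
    exact Subgroup.subset_closure ⟨g, rfl⟩


theorem width_one_iff_aux [Finite G] {D : Set G} {d : G} (hd : d ∈ D) :
    Cfsg.commutingWidth D = 1 ↔ ∀ a ∈ D, ∀ b ∈ D, Commute a b → a = b := by
  unfold Cfsg.commutingWidth
  have hbdd : BddAbove {n : ℕ | ∃ E : Set G, E ⊆ D ∧ E.Finite ∧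
      (∀ a ∈ E, ∀ b ∈ E, Commute a b) ∧ E.ncard = n} := by
    refine ⟨Nat.card G, ?_⟩
    rintro n ⟨E, -, -, -, rfl⟩
    exact Set.ncard_le_card E
  have h1 : (1 : ℕ) ∈ {n : ℕ | ∃ E : Set G, E ⊆ D ∧ E.Finite ∧
      (∀ a ∈ E, ∀ b ∈ E, Commute a b) ∧ E.ncard = n} := by
    refine ⟨{d}, ?_, Set.finite_singleton d, ?_, Set.ncard_singleton d⟩
    · intro x hx
      rw [Set.mem_singleton_iff] at hx
      rw [hx]; exact hd
    · intro a ha b hb
      rw [Set.mem_singleton_iff] at ha hb
      rw [ha, hb]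
  constructor
  · intro h a ha b hb hab
    by_contra hne
    have h2 : (2 : ℕ) ∈ {n : ℕ | ∃ E : Set G, E ⊆ D ∧ E.Finite ∧
        (∀ a ∈ E, ∀ b ∈ E, Commute a b) ∧ E.ncard = n} := by
      refine ⟨{a, b}, ?_, Set.toFinite _, ?_, Set.ncard_pair hne⟩
      · intro x hx
        rcases hx with rfl | hx
        · exact ha
        · rw [Set.mem_singleton_iff] at hx; rw [hx]; exact hb
      · intro x hx y hy
        rcases hx with rfl | hx <;> rcases hy with rfl | hy
        · exact Commute.refl _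
        · rw [Set.mem_singleton_iff] at hy; rw [hy]; exact hab
        · rw [Set.mem_singleton_iff] at hx; rw [hx]; exact hab.symm
        · rw [Set.mem_singleton_iff] at hx hy; rw [hx, hy]
    have := le_csSup hbdd h2
    omega
  · intro h
    apply le_antisymm
    · apply csSup_le ⟨1, h1⟩
      rintro n ⟨E, hED, hEf, hEc, rfl⟩
      rw [Set.ncard_le_one hEf]
      intro a ha b hb
      exact h a (hED ha) b (hED hb) (hEc a ha b hb)
    · exact le_csSup hbdd h1

theorem width_one_iff [Finite G] {D : Set G} (hD : Cfsg.IsThreeTranspositionGroup D) {d : G}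
    (hd : d ∈ D) :
    Cfsg.commutingWidth D = 1 ↔ Subgroup.zpowers d ⊔ Cfsg.pCore 3 G = ⊤ := by
  obtain ⟨⟨hord, h23⟩, hconj, hgen⟩ := hD
  have hsq : ∀ x ∈ D, x * x = 1 := by
    intro x hx
    have := pow_orderOf_eq_one x
    rw [hord x hx, sq] at this
    exact this
  have hne1 : ∀ x ∈ D, x ≠ 1 := by
    intro x hx h1
    have := hord x hx
    rw [h1, orderOf_one] at this
    omega
  have hinv : ∀ x ∈ D, x⁻¹ = x := fun x hx => inv_eq_of_mul_eq_one_left (hsq x hx)
  haveI : Fact (Nat.Prime 3) := ⟨by norm_num⟩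
  rw [width_one_iff_aux hd]
  constructor
  · intro hw
    -- all products have cube one
    have hcube : ∀ b ∈ D, (d * b) ^ 3 = 1 := by
      intro b hb
      rcases h23 d hd b hb with h2 | h3
      · have hc : Commute d b := (commute_iff_sq (hsq d hd) (hsq b hb)).mpr h2
        have := hw d hd b hb hc
        rw [← this, hsq d hd, one_pow]
      · exact h3
    obtain ⟨N, hNn, hN3, hNmem⟩ := exists_normal_three (hsq d hd) (hne1 d hd)
      (fun g => hcube _ (hconj g d hd))
      (fun g hc => (hw d hd _ (hconj g d hd) hc).symm)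
    have hNle : N ≤ Cfsg.pCore 3 G := Cfsg.Agent.Helper1.le_pCore hNn hN3
    rw [eq_top_iff, ← hgen, Subgroup.closure_le]
    intro b hb
    have h3 := hcube b hb
    -- b * d * b⁻¹ = d * b * d
    have hbd : b * d * b⁻¹ = d * b * d := by
      rw [hinv b hb]
      have h3' : d * b * (d * b) * (d * b) = 1 := by rw [← h3, pow_three']
      have : (d * b * d) * (b * d * b) = 1 := by rw [← h3']; group
      have h4 : b * d * b = (d * b * d)⁻¹ := eq_inv_of_mul_eq_one_right this
      rw [h4, mul_inv_rev, mul_inv_rev, hinv d hd, hinv b hb, mul_assoc]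
    have hmem := hNmem b
    rw [hbd] at hmem
    have e : d * (d * b * d) = b * d := by
      calc d * (d * b * d) = (d * d) * b * d := by group
        _ = b * d := by rw [hsq d hd, one_mul]
    rw [e] at hmem
    have hb' : b = (b * d) * d := by
      rw [mul_assoc, hsq d hd, mul_one]
    show b ∈ Subgroup.zpowers d ⊔ Cfsg.pCore 3 G
    rw [hb']
    exact Subgroup.mul_mem _ (Subgroup.mem_sup_right (hNle hmem))
      (Subgroup.mem_sup_left (Subgroup.mem_zpowers d))
  · intro htop a ha b hb hab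
    have hN3 : IsPGroup 3 (Cfsg.pCore 3 G) := Cfsg.Agent.Helper1.pCore_isPGroup 3
    -- every element is in N or d * x ∈ N
    have hcases : ∀ x : G, x ∈ Cfsg.pCore 3 G ∨ d * x ∈ Cfsg.pCore 3 G := by
      intro x
      have hx : x ∈ Subgroup.zpowers d ⊔ Cfsg.pCore 3 G := by rw [htop]; exact Subgroup.mem_top x
      rw [Subgroup.mem_sup_of_normal_right] at hx
      obtain ⟨h, hh, n, hn, rfl⟩ := hx
      rw [Subgroup.mem_zpowers_iff] at hh
      obtain ⟨k, rfl⟩ := hh
      rcases Int.even_or_odd' k with ⟨m, hm | hm⟩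
      · left
        have : d ^ k = 1 := by
          rw [hm, zpow_mul, zpow_ofNat, sq, hsq d hd, one_zpow]
        rw [this, one_mul]; exact hn
      · right
        have : d ^ k = d := by
          rw [hm, zpow_add, zpow_mul, zpow_ofNat, sq, hsq d hd, one_zpow, one_mul, zpow_one]
        rw [this, ← mul_assoc, hsq d hd, one_mul]; exact hn
    -- involutions are not in N
    have hnot : ∀ x ∈ D, x ∉ Cfsg.pCore 3 G := by
      intro x hx hxN
      obtain ⟨k, hk⟩ := hN3 ⟨x, hxN⟩
      have hk' : x ^ (3 ^ k) = 1 := by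
        have := congrArg Subtype.val hk
        simpa using this
      have hdvd := orderOf_dvd_of_pow_eq_one hk'
      rw [hord x hx] at hdvd
      have := Nat.Prime.dvd_of_dvd_pow Nat.prime_two hdvd
      omega
    have h1 : d * a ∈ Cfsg.pCore 3 G := (hcases a).resolve_left (hnot a ha)
    have h2 : d * b ∈ Cfsg.pCore 3 G := (hcases b).resolve_left (hnot b hb)
    have h3 : a * b ∈ Cfsg.pCore 3 G := by
      have e : a * b = (d * a)⁻¹ * (d * b) := by
        rw [mul_inv_rev, hinv a ha]; group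
      rw [e]
      exact Subgroup.mul_mem _ (Subgroup.inv_mem _ h1) h2
    have hab2 : (a * b) ^ 2 = 1 := (commute_iff_sq (hsq a ha) (hsq b hb)).mp hab
    obtain ⟨k, hk⟩ := hN3 ⟨a * b, h3⟩
    have hk' : (a * b) ^ (3 ^ k) = 1 := by
      have := congrArg Subtype.val hk
      simpa using this
    have hd1 := orderOf_dvd_of_pow_eq_one hab2
    have hd2 := orderOf_dvd_of_pow_eq_one hk'
    have hcop : Nat.Coprime 2 (3 ^ k) := Nat.Coprime.pow_right k (by norm_num)
    have hone : orderOf (a * b) = 1 := Nat.eq_one_of_dvd_coprimes hcop hd1 hd2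
    rw [orderOf_eq_one_iff] at hone
    have : a = b⁻¹ := eq_inv_of_mul_eq_one_left hone
    rw [this, hinv b hb]

end Cfsg.Agent.Lead.TTW
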