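import Mathlib
import Cfsg.Agent.Lead.ThreeTransWidth

set_option autoImplicit false

/-!
# The blocks `W_d` of a class of 3-transpositions: `W_d = D ∩ d O₃(G) = d ^ O₃(G)`
-/

namespace Cfsg.Agent.Lead.TTW

variable {G : Type*} [Group G]

/-- the members of `D` other than `a` commuting with `a` -/
def star (D : Set G) (a : G) : Set G := {y | y ∈ D ∧ y ≠ a ∧ Commute a y}

/-- same proper commuting members -/
def WRel (D : Set G) (a b : G) : Prop := star D a = star D b

theorem WRel.refl' (D : Set G) (a : G) : WRel D a a := rfl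

theorem WRel.symm' {D : Set G} {a b : G} (h : WRel D a b) : WRel D b a := Eq.symm h

theorem WRel.trans' {D : Set G} {a b c : G} (h : WRel D a b) (h' : WRel D b c) : WRel D a c :=
  Eq.trans h h'

/-- basic data of a conjugation-closed set of 3-transpositions -/
structure TT3 (D : Set G) : Prop where
  sq : ∀ x ∈ D, x * x = 1
  ne : ∀ x ∈ D, x ≠ 1
  conj : ∀ (g : G), ∀ x ∈ D, g * x * g⁻¹ ∈ D
  cube : ∀ x ∈ D, ∀ y ∈ D, ¬ Commute x y → (x * y) ^ 3 = 1

theorem TT3.inv {D : Set G} (h : TT3 D) {x : G} (hx : x ∈ D) : x⁻¹ = x :=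
  inv_eq_of_mul_eq_one_left (h.sq x hx)

theorem tt3_of_set {D : Set G} (hD : Cfsg.IsThreeTranspositionSet D)
    (hc : ∀ (g : G), ∀ d ∈ D, g * d * g⁻¹ ∈ D) : TT3 D := by
  have hsq : ∀ d ∈ D, d * d = 1 := by
    intro d hd
    have := hD.1 d hd
    rw [← pow_two, ← this]; exact pow_orderOf_eq_one d
  refine ⟨hsq, ?_, hc, ?_⟩
  · intro x hx h1
    have := hD.1 x hx
    rw [h1, orderOf_one] at this
    omega
  · intro d hd e he hne
    rcases hD.2 d hd e he with h2 | h3
    · exact absurd ((commute_iff_sq (hsq d hd) (hsq e he)).mpr h2) hne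
    · exact h3

theorem tt3_of_class {D : Set G} (hD : Cfsg.IsThreeTranspositionClass D) : TT3 D := by
  obtain ⟨hS, ⟨d₀, hd₀, hDeq⟩, _⟩ := hD
  apply tt3_of_set hS
  intro g d hd
  rw [hDeq] at hd ⊢
  obtain ⟨c, hc⟩ := isConj_iff.mp hd
  apply isConj_iff.mpr
  refine ⟨g * c, ?_⟩
  rw [← hc]; group

theorem commute_conj_iff' (g a e : G) :
    Commute (g * a * g⁻¹) e ↔ Commute a (g⁻¹ * e * g) := by
  constructor
  · intro h
    have h' : g * a * g⁻¹ * e = e * (g * a * g⁻¹) := h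
    show a * (g⁻¹ * e * g) = g⁻¹ * e * g * a
    calc a * (g⁻¹ * e * g) = g⁻¹ * (g * a * g⁻¹ * e) * g := by group
      _ = g⁻¹ * (e * (g * a * g⁻¹)) * g := by rw [h']
      _ = g⁻¹ * e * g * a := by group
  · intro h
    have h' : a * (g⁻¹ * e * g) = g⁻¹ * e * g * a := h
    show g * a * g⁻¹ * e = e * (g * a * g⁻¹)
    calc g * a * g⁻¹ * e = g * (a * (g⁻¹ * e * g)) * g⁻¹ := by group
      _ = g * (g⁻¹ * e * g * a) * g⁻¹ := by rw [h']
      _ = e * (g * a * g⁻¹) := by group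

theorem mem_star_conj {D : Set G} (h : TT3 D) (g a y : G) :
    y ∈ star D (g * a * g⁻¹) ↔ g⁻¹ * y * g ∈ star D a := by
  unfold star
  simp only [Set.mem_setOf_eq]
  constructor
  · rintro ⟨hy, hne, hc⟩
    refine ⟨?_, ?_, ?_⟩
    · have := h.conj g⁻¹ y hy
      rwa [inv_inv] at this
    · intro he
      apply hne
      rw [← he]; group
    · exact (commute_conj_iff' g a y).mp hc
  · rintro ⟨hy, hne, hc⟩
    refine ⟨?_, ?_, ?_⟩
    · have := h.conj g _ hy
      have e : g * (g⁻¹ * y * g) * g⁻¹ = y := by group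
      rwa [e] at this
    · intro he
      apply hne
      rw [he]; group
    · exact (commute_conj_iff' g a y).mpr hc

theorem WRel.conj {D : Set G} (h : TT3 D) {a b : G} (hab : WRel D a b) (g : G) :
    WRel D (g * a * g⁻¹) (g * b * g⁻¹) := by
  unfold WRel at hab ⊢
  ext y
  rw [mem_star_conj h, mem_star_conj h, hab]

theorem WRel.not_commute {D : Set G} {a b : G} (hb : b ∈ D) (hab : WRel D a b) (hne : a ≠ b) :
    ¬ Commute a b := by
  intro hc
  have hm : b ∈ star D a := ⟨hb, hne.symm, hc⟩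
  unfold WRel at hab
  rw [hab] at hm
  exact hm.2.1 rfl

theorem WRel.commute_imp {D : Set G} {a b e : G} (hab : WRel D a b) (he : e ∈ D) (hea : e ≠ a)
    (heb : e ≠ b) (hc : Commute a e) : Commute b e := by
  have hm : e ∈ star D a := ⟨he, hea, hc⟩
  unfold WRel at hab
  rw [hab] at hm
  exact hm.2.2

theorem WRel.conj_self {D : Set G} (h : TT3 D) {a b : G} (hab : WRel D a b) :
    WRel D (b * a * b⁻¹) a := by
  have h1 := hab.conj h b
  rw [mul_inv_cancel_right] at h1
  exact h1.trans' hab.symm'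

theorem braid {a b : G} (ha : a * a = 1) (hb : b * b = 1) (h3 : (a * b) ^ 3 = 1) :
    a * b * a = b * a * b := by
  have hai : a⁻¹ = a := inv_eq_of_mul_eq_one_left ha
  have hbi : b⁻¹ = b := inv_eq_of_mul_eq_one_left hb
  have h3' : a * b * (a * b) * (a * b) = 1 := by rw [← h3, pow_three']
  have : (a * b * a) * (b * a * b) = 1 := by rw [← h3']; group
  have h4 : b * a * b = (a * b * a)⁻¹ := eq_inv_of_mul_eq_one_right this
  rw [h4, mul_inv_rev, mul_inv_rev, hai, hbi, mul_assoc]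

theorem conj_prod {a b : G} (ha : a * a = 1) (hb : b * b = 1) (h3 : (a * b) ^ 3 = 1) :
    (a * b) * a * (a * b)⁻¹ = b := by
  have hai : a⁻¹ = a := inv_eq_of_mul_eq_one_left ha
  have hbi : b⁻¹ = b := inv_eq_of_mul_eq_one_left hb
  have hbr := braid ha hb h3
  calc (a * b) * a * (a * b)⁻¹ = (a * b * a) * b * a := by
        rw [mul_inv_rev, hai, hbi]; group
    _ = (b * a * b) * b * a := by rw [hbr]
    _ = b * a * (b * b) * a := by group
    _ = b := by rw [hb, mul_one, mul_assoc, ha, mul_one]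

/-- the block of `d` -/
def blk (D : Set G) (d : G) : Set G := {w | w ∈ D ∧ WRel D d w}

theorem mem_blk_self {D : Set G} {d : G} (hd : d ∈ D) : d ∈ blk D d := ⟨hd, WRel.refl' D d⟩

theorem blk_eq {D : Set G} {d e : G} (hde : WRel D d e) : blk D d = blk D e := by
  ext w
  constructor
  · rintro ⟨hw, hr⟩
    exact ⟨hw, hde.symm'.trans' hr⟩
  · rintro ⟨hw, hr⟩
    exact ⟨hw, hde.trans' hr⟩

theorem blk_conj_mem {D : Set G} (h : TT3 D) {d a w : G} (ha : a ∈ blk D d) (hw : w ∈ blk D d) :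
    a * w * a⁻¹ ∈ blk D d := by
  refine ⟨h.conj a w hw.1, ?_⟩
  have hwa : WRel D w a := hw.2.symm'.trans' ha.2
  exact hw.2.trans' (hwa.conj_self h).symm'

theorem blk_subset_normalizer {D : Set G} (h : TT3 D) {d a : G} (ha : a ∈ blk D d) :
    a ∈ Subgroup.normalizer (blk D d) := by
  rw [Subgroup.mem_set_normalizer_iff]
  intro w
  constructor
  · intro hw
    exact blk_conj_mem h ha hw
  · intro hw
    have := blk_conj_mem h ha hw
    have e : a * (a * w * a⁻¹) * a⁻¹ = w := by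
      rw [h.inv ha.1]
      calc a * (a * w * a) * a = (a * a) * w * (a * a) := by group
        _ = w := by rw [h.sq a ha.1, one_mul, mul_one]
    rwa [e] at this

/-- relative form of `exists_normal_three` -/
theorem exists_three_rel [Finite G] (H : Subgroup G) {d : G} (hdH : d ∈ H) (hd : d * d = 1)
    (hd1 : d ≠ 1) (h3 : ∀ g ∈ H, (d * (g * d * g⁻¹)) ^ 3 = 1)
    (hiso : ∀ g ∈ H, Commute d (g * d * g⁻¹) → g * d * g⁻¹ = d) :
    ∃ N : Subgroup G, IsPGroup 3 N ∧ ∀ g ∈ H, d * (g * d * g⁻¹) ∈ N := by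
  have hd' : (⟨d, hdH⟩ : H) * ⟨d, hdH⟩ = 1 := Subtype.ext hd
  have hd1' : (⟨d, hdH⟩ : H) ≠ 1 := by
    intro h
    exact hd1 (congrArg Subtype.val h)
  obtain ⟨N', -, hN3, hmem⟩ := exists_normal_three (G := H) hd' hd1'
    (by
      intro g
      apply Subtype.ext
      simp only [Subgroup.coe_pow, Subgroup.coe_mul, Subgroup.coe_inv, Subgroup.coe_one]
      exact h3 g g.2)
    (by
      intro g hc
      apply Subtype.ext
      simp only [Subgroup.coe_mul, Subgroup.coe_inv]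
      apply hiso g g.2
      have := congrArg Subtype.val hc.eq
      have h' : d * ((g : G) * d * (g : G)⁻¹) = (g : G) * d * (g : G)⁻¹ * d := by simpa using this
      exact h')
  refine ⟨N'.map H.subtype, hN3.map H.subtype, ?_⟩
  intro g hg
  have := hmem ⟨g, hg⟩
  have h2 := Subgroup.mem_map_of_mem H.subtype this
  simpa using h2

/-- products of two members of a block lie in a common 3-subgroup -/
theorem blk_prod_three [Finite G] {D : Set G} (h : TT3 D) {d : G} (hd : d ∈ D) :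
    ∃ N : Subgroup G, IsPGroup 3 N ∧ ∀ a ∈ blk D d, ∀ b ∈ blk D d, a * b ∈ N := by
  have hle : Subgroup.closure (blk D d) ≤ Subgroup.normalizer (blk D d) := by
    rw [Subgroup.closure_le]
    intro a ha
    exact blk_subset_normalizer h ha
  have hdb : d ∈ blk D d := mem_blk_self hd
  have hconj : ∀ g ∈ Subgroup.closure (blk D d), g * d * g⁻¹ ∈ blk D d := by
    intro g hg
    exact ((Subgroup.mem_set_normalizer_iff.mp (hle hg)) d).mp hdb
  have hcomm : ∀ x ∈ blk D d, Commute d x → x = d := by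
    intro x hx hc
    by_contra hne
    exact WRel.not_commute hx.1 hx.2 (Ne.symm hne) hc
  have hcube : ∀ x ∈ blk D d, (d * x) ^ 3 = 1 := by
    intro x hx
    by_cases hc : Commute d x
    · rw [hcomm x hx hc, h.sq d hd, one_pow]
    · exact h.cube d hd x hx.1 hc
  obtain ⟨N, hN3, hN⟩ := exists_three_rel (Subgroup.closure (blk D d))
    (Subgroup.subset_closure hdb) (h.sq d hd) (h.ne d hd)
    (fun g hg => hcube _ (hconj g hg)) (fun g hg hc => hcomm _ (hconj g hg) hc)
  refine ⟨N, hN3, ?_⟩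
  have hda : ∀ a ∈ blk D d, d * a ∈ N := by
    intro a ha
    have hg : d * a ∈ Subgroup.closure (blk D d) :=
      Subgroup.mul_mem _ (Subgroup.subset_closure hdb) (Subgroup.subset_closure ha)
    have := hN (d * a) hg
    rwa [conj_prod (h.sq d hd) (h.sq a ha.1) (hcube a ha)] at this
  intro a ha b hb
  have e : a * b = (d * a)⁻¹ * (d * b) := by
    rw [mul_inv_rev, h.inv hd, h.inv ha.1]
    calc a * b = a * (d * d) * b := by rw [h.sq d hd, mul_one]
      _ = a * d * (d * b) := by group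
  rw [e]
  exact Subgroup.mul_mem _ (Subgroup.inv_mem _ (hda a ha)) (hda b hb)

/-- the subgroup generated by the products of two members of the block of `d` -/
def RR (D : Set G) (d : G) : Subgroup G :=
  Subgroup.closure {x | ∃ a ∈ blk D d, ∃ b ∈ blk D d, x = a * b}

theorem RR_isPGroup [Finite G] {D : Set G} (h : TT3 D) {d : G} (hd : d ∈ D) :
    IsPGroup 3 (RR D d) := by
  obtain ⟨N, hN3, hN⟩ := blk_prod_three h hd
  apply hN3.to_le
  unfold RR
  rw [Subgroup.closure_le]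
  rintro x ⟨a, ha, b, hb, rfl⟩
  exact hN a ha b hb

/-- the kernel of the action on the set of blocks -/
def KK (D : Set G) (h : TT3 D) : Subgroup G where
  carrier := {g | ∀ e ∈ D, WRel D (g * e * g⁻¹) e}
  one_mem' := by
    intro e _
    rw [one_mul, inv_one, mul_one]
    exact WRel.refl' D e
  mul_mem' := by
    intro g₁ g₂ h1 h2 e he
    have e1 : g₁ * g₂ * e * (g₁ * g₂)⁻¹ = g₁ * (g₂ * e * g₂⁻¹) * g₁⁻¹ := by group
    rw [e1]
    exact (h1 _ (h.conj g₂ e he)).trans' (h2 e he)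
  inv_mem' := by
    intro g hg e he
    have he' : g⁻¹ * e * g⁻¹⁻¹ ∈ D := h.conj g⁻¹ e he
    have := hg _ he'
    have e1 : g * (g⁻¹ * e * g⁻¹⁻¹) * g⁻¹ = e := by group
    rw [e1] at this
    exact this.symm'

theorem mem_KK {D : Set G} (h : TT3 D) (g : G) :
    g ∈ KK D h ↔ ∀ e ∈ D, WRel D (g * e * g⁻¹) e := Iff.rfl

theorem KK_normalizes_blk {D : Set G} (h : TT3 D) {k : G} (hk : k ∈ KK D h) {e w : G}
    (hw : w ∈ blk D e) : k * w * k⁻¹ ∈ blk D e :=
  ⟨h.conj k w hw.1, hw.2.trans' (hk w hw.1).symm'⟩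

theorem KK_normalizes_RR {D : Set G} (h : TT3 D) {k : G} (hk : k ∈ KK D h) (e : G) :
    ∀ x ∈ RR D e, k * x * k⁻¹ ∈ RR D e := by
  intro x hx
  unfold RR at hx ⊢
  induction hx using Subgroup.closure_induction with
  | mem x hx =>
    obtain ⟨a, ha, b, hb, rfl⟩ := hx
    apply Subgroup.subset_closure
    refine ⟨k * a * k⁻¹, KK_normalizes_blk h hk ha, k * b * k⁻¹, KK_normalizes_blk h hk hb, ?_⟩
    group
  | one => simp
  | mul x y _ _ hx hy =>
    have e1 : k * (x * y) * k⁻¹ = (k * x * k⁻¹) * (k * y * k⁻¹) := by group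
    rw [e1]; exact Subgroup.mul_mem _ hx hy
  | inv x _ hx =>
    have e1 : k * x⁻¹ * k⁻¹ = (k * x * k⁻¹)⁻¹ := by group
    rw [e1]; exact Subgroup.inv_mem _ hx

/-- the subgroup generated by the products of two related members -/
def MM (D : Set G) : Subgroup G :=
  Subgroup.closure {x | ∃ a ∈ D, ∃ b ∈ D, WRel D a b ∧ x = a * b}

theorem key_rel {D : Set G} (h : TT3 D) {a b e : G} (ha : a ∈ D) (hb : b ∈ D) (he : e ∈ D)
    (hab : WRel D a b) : WRel D (b * e * b⁻¹) (a * e * a⁻¹) := by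
  by_cases hea : e = a
  · rw [hea, mul_inv_cancel_right]
    exact hab.conj_self h
  by_cases heb : e = b
  · rw [heb, mul_inv_cancel_right]
    exact (hab.symm'.conj_self h).symm'
  by_cases hc : Commute a e
  · have hc' : Commute b e := hab.commute_imp he hea heb hc
    have e1 : a * e * a⁻¹ = e := by
      rw [hc.eq]; group
    have e2 : b * e * b⁻¹ = e := by
      rw [hc'.eq]; group
    rw [e1, e2]
    exact WRel.refl' D e
  · have hc' : ¬ Commute b e := fun hcb => hc (hab.symm'.commute_imp he heb hea hcb)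
    have e1 : a * e * a⁻¹ = e * a * e⁻¹ := by
      rw [h.inv ha, h.inv he]
      exact braid (h.sq a ha) (h.sq e he) (h.cube a ha e he hc)
    have e2 : b * e * b⁻¹ = e * b * e⁻¹ := by
      rw [h.inv hb, h.inv he]
      exact braid (h.sq b hb) (h.sq e he) (h.cube b hb e he hc')
    rw [e1, e2]
    exact hab.symm'.conj h e

theorem MM_le_KK {D : Set G} (h : TT3 D) : MM D ≤ KK D h := by
  unfold MM
  rw [Subgroup.closure_le]
  rintro x ⟨a, ha, b, hb, hab, rfl⟩
  show a * b ∈ KK D h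
  rw [mem_KK]
  intro e he
  have hk := key_rel h ha hb he hab
  have h1 := hk.conj h a
  have e1 : a * b * e * (a * b)⁻¹ = a * (b * e * b⁻¹) * a⁻¹ := by group
  have e2 : a * (a * e * a⁻¹) * a⁻¹ = e := by
    rw [h.inv ha]
    calc a * (a * e * a) * a = (a * a) * e * (a * a) := by group
      _ = e := by rw [h.sq a ha, one_mul, mul_one]
  rw [e2] at h1
  rw [e1]
  exact h1

theorem MM_normal {D : Set G} (h : TT3 D) : (MM D).Normal := by
  refine ⟨fun n hn g => ?_⟩
  unfold MM at hn ⊢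
  induction hn using Subgroup.closure_induction with
  | mem x hx =>
    obtain ⟨a, ha, b, hb, hab, rfl⟩ := hx
    apply Subgroup.subset_closure
    refine ⟨g * a * g⁻¹, h.conj g a ha, g * b * g⁻¹, h.conj g b hb, hab.conj h g, ?_⟩
    group
  | one => simp
  | mul x y _ _ hx hy =>
    have e1 : g * (x * y) * g⁻¹ = (g * x * g⁻¹) * (g * y * g⁻¹) := by group
    rw [e1]; exact Subgroup.mul_mem _ hx hy
  | inv x _ hx =>
    have e1 : g * x⁻¹ * g⁻¹ = (g * x * g⁻¹)⁻¹ := by group
    rw [e1]; exact Subgroup.inv_mem _ hx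

theorem RR_le_MM {D : Set G} (e : G) : RR D e ≤ MM D := by
  unfold RR MM
  rw [Subgroup.closure_le]
  rintro x ⟨a, ha, b, hb, rfl⟩
  apply Subgroup.subset_closure
  exact ⟨a, ha.1, b, hb.1, ha.2.symm'.trans' hb.2, rfl⟩

theorem MM_isPGroup [Finite G] {D : Set G} (h : TT3 D) : IsPGroup 3 (MM D) := by
  haveI : Fact (Nat.Prime 3) := ⟨by norm_num⟩
  obtain ⟨P⟩ : Nonempty (Sylow 3 (MM D)) := inferInstance
  have hle : MM D ≤ (P : Subgroup (MM D)).map (MM D).subtype := by
    conv_lhs => unfold MM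
    rw [Subgroup.closure_le]
    rintro x ⟨a, ha, b, hb, hab, rfl⟩
    have hxR : a * b ∈ RR D a := by
      apply Subgroup.subset_closure
      exact ⟨a, mem_blk_self ha, b, ⟨hb, hab⟩, rfl⟩
    have hxM : a * b ∈ MM D := RR_le_MM a hxR
    haveI : ((RR D a).subgroupOf (MM D)).Normal := by
      rw [Subgroup.normal_subgroupOf_iff (RR_le_MM a)]
      intro x k hx hk
      exact KK_normalizes_RR h (MM_le_KK h hk) a x hx
    have hp : IsPGroup 3 ((RR D a).subgroupOf (MM D)) := (RR_isPGroup h ha).comap_subtype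
    have hleP : (RR D a).subgroupOf (MM D) ≤ P := hp.le_sylow_of_normal P
    have hmem : (⟨a * b, hxM⟩ : MM D) ∈ (P : Subgroup (MM D)) := by
      apply hleP
      rw [Subgroup.mem_subgroupOf]
      exact hxR
    exact ⟨⟨a * b, hxM⟩, hmem, rfl⟩
  exact (P.isPGroup'.map (MM D).subtype).to_le hle

theorem MM_le_pCore [Finite G] {D : Set G} (h : TT3 D) : MM D ≤ Cfsg.pCore 3 G :=
  Cfsg.Agent.Helper1.le_pCore (MM_normal h) (MM_isPGroup h)

/-- an element of a 3-group whose square is one is trivial -/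
theorem eq_one_of_sq_of_three {N : Subgroup G} (hN : IsPGroup 3 N) {x : G} (hx : x ∈ N)
    (h2 : x * x = 1) : x = 1 := by
  obtain ⟨k, hk⟩ := hN ⟨x, hx⟩
  have hk' : x ^ (3 ^ k) = 1 := by
    have := congrArg Subtype.val hk
    simpa using this
  have hd1 : orderOf x ∣ 2 := orderOf_dvd_of_pow_eq_one (by rw [sq]; exact h2)
  have hd2 := orderOf_dvd_of_pow_eq_one hk'
  have hcop : Nat.Coprime 2 (3 ^ k) := Nat.Coprime.pow_right k (by norm_num)
  have hone : orderOf x = 1 := Nat.eq_one_of_dvd_coprimes hcop hd1 hd2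
  exact orderOf_eq_one_iff.mp hone

theorem star_subset_of_prod_mem {D : Set G} (h : TT3 D) {N : Subgroup G} (hNn : N.Normal)
    (hN : IsPGroup 3 N) {a b : G} (ha : a ∈ D) (hb : b ∈ D) (hab : a * b ∈ N) :
    star D a ⊆ star D b := by
  rintro y ⟨hy, hya, hc⟩
  have hay2 : (a * y) * (a * y) = 1 := by
    rw [← sq]; exact (commute_iff_sq (h.sq a ha) (h.sq y hy)).mp hc
  have hyb : y ≠ b := by
    intro hyb
    rw [hyb] at hc hya
    have h2 : (a * b) * (a * b) = 1 := by
      rw [← sq]; exact (commute_iff_sq (h.sq a ha) (h.sq b hb)).mp hc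
    have h1 := eq_one_of_sq_of_three hN hab h2
    have : a = b⁻¹ := eq_inv_of_mul_eq_one_left h1
    rw [h.inv hb] at this
    exact hya this.symm
  refine ⟨hy, hyb, ?_⟩
  by_contra hnc
  have h3 : (b * y) ^ 3 = 1 := h.cube b hb y hy hnc
  -- (b y)^2 ∈ N
  have hsqN : (b * y) * (b * y) ∈ N := by
    have hcy : y * a = a * y := hc.eq.symm
    have e : (b * y) * (b * y) = (a * (a * b) * a⁻¹) * (y * (a * b) * y⁻¹) := by
      rw [h.inv ha, h.inv hy]
      calc (b * y) * (b * y) = (a * a) * b * y * ((a * a) * b) * y := by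
            rw [h.sq a ha, one_mul]; group
        _ = a * (a * b) * (y * a) * (a * b) * y := by group
        _ = a * (a * b) * (a * y) * (a * b) * y := by rw [hcy]
        _ = (a * (a * b) * a) * (y * (a * b) * y) := by group
    rw [e]
    exact Subgroup.mul_mem _ (hNn.conj_mem _ hab a) (hNn.conj_mem _ hab y)
  have hbyN : b * y ∈ N := by
    have e : b * y = ((b * y) * (b * y))⁻¹ := by
      rw [eq_inv_iff_mul_eq_one]
      rw [← h3, pow_three']; group
    rw [e]
    exact Subgroup.inv_mem _ hsqN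
  have hayN : a * y ∈ N := by
    have e : a * y = (a * b) * (b * y) := by
      calc a * y = a * (b * b) * y := by rw [h.sq b hb, mul_one]
        _ = (a * b) * (b * y) := by group
    rw [e]
    exact Subgroup.mul_mem _ hab hbyN
  have h1 := eq_one_of_sq_of_three hN hayN hay2
  have : a = y⁻¹ := eq_inv_of_mul_eq_one_left h1
  rw [h.inv hy] at this
  exact hya this.symm

theorem main_W [Finite G] {D : Set G} (h : TT3 D) {d : G} (hd : d ∈ D) :
    {w : G | w ∈ D ∧ {y : G | y ∈ D ∧ y ≠ d ∧ Commute d y} =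
        {y : G | y ∈ D ∧ y ≠ w ∧ Commute w y}} =
      {w : G | w ∈ D ∧ d⁻¹ * w ∈ Cfsg.pCore 3 G} ∧
    {w : G | w ∈ D ∧ {y : G | y ∈ D ∧ y ≠ d ∧ Commute d y} =
        {y : G | y ∈ D ∧ y ≠ w ∧ Commute w y}} =
      {w : G | ∃ g ∈ Cfsg.pCore 3 G, w = g * d * g⁻¹} := by
  haveI : Fact (Nat.Prime 3) := ⟨by norm_num⟩
  have hN3 : IsPGroup 3 (Cfsg.pCore 3 G) := Cfsg.Agent.Helper1.pCore_isPGroup 3
  have hNn : (Cfsg.pCore 3 G).Normal := inferInstance
  -- A ⊆ C
  have hAC : ∀ w, w ∈ blk D d → ∃ g ∈ Cfsg.pCore 3 G, w = g * d * g⁻¹ := by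
    intro w hw
    by_cases hwd : w = d
    · exact ⟨1, Subgroup.one_mem _, by rw [hwd]; group⟩
    · have hnc : ¬ Commute d w := WRel.not_commute hw.1 hw.2 (Ne.symm hwd)
      have h3 := h.cube d hd w hw.1 hnc
      refine ⟨d * w, ?_, (conj_prod (h.sq d hd) (h.sq w hw.1) h3).symm⟩
      apply MM_le_pCore h
      apply Subgroup.subset_closure
      exact ⟨d, hd, w, hw.1, hw.2, rfl⟩
  -- C ⊆ B
  have hCB : ∀ w, (∃ g ∈ Cfsg.pCore 3 G, w = g * d * g⁻¹) →
      w ∈ D ∧ d⁻¹ * w ∈ Cfsg.pCore 3 G := by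
    rintro w ⟨g, hg, rfl⟩
    refine ⟨h.conj g d hd, ?_⟩
    have e : d⁻¹ * (g * d * g⁻¹) = (d⁻¹ * g * d⁻¹⁻¹) * g⁻¹ := by group
    rw [e]
    exact Subgroup.mul_mem _ (hNn.conj_mem g hg d⁻¹) (Subgroup.inv_mem _ hg)
  -- B ⊆ A
  have hBA : ∀ w, (w ∈ D ∧ d⁻¹ * w ∈ Cfsg.pCore 3 G) → w ∈ blk D d := by
    rintro w ⟨hw, hm⟩
    refine ⟨hw, ?_⟩
    rw [h.inv hd] at hm
    have hm' : w * d ∈ Cfsg.pCore 3 G := by
      have e : w * d = (d * w)⁻¹ := by rw [mul_inv_rev, h.inv hd, h.inv hw]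
      rw [e]; exact Subgroup.inv_mem _ hm
    exact Set.Subset.antisymm (star_subset_of_prod_mem h hNn hN3 hd hw hm)
      (star_subset_of_prod_mem h hNn hN3 hw hd hm')
  have hA : {w : G | w ∈ D ∧ {y : G | y ∈ D ∧ y ≠ d ∧ Commute d y} =
        {y : G | y ∈ D ∧ y ≠ w ∧ Commute w y}} = blk D d := rfl
  rw [hA]
  constructor
  · ext w
    exact ⟨fun hw => hCB w (hAC w hw), fun hw => hBA w hw⟩
  · ext w
    exact ⟨fun hw => hAC w hw, fun hw => hBA w (hCB w hw)⟩

end Cfsg.Agent.Lead.TTW
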