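import Mathlib
import Cfsg.Agent.Lead.ThreeTransW
import Cfsg.Agent.Helper3.S4Pres
import Cfsg.Agent.Helper5.ThreeTransB

set_option autoImplicit false

/-!
# A class of 3-transpositions with `D_d = V_d` of size two generates `S₄`
-/

namespace Cfsg.Agent.Lead.TTS4

open Cfsg.Agent.Lead.TTW

variable {G : Type*} [Group G]

/-- `h'` is the unique other member commuting with `h`, and has the same commuting members -/
structure Pair (D : Set G) (h h' : G) : Prop where
  mem : h ∈ D
  mem' : h' ∈ D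
  ne : h ≠ h'
  comm : Commute h h'
  only : ∀ y ∈ D, Commute h y → y = h ∨ y = h'
  same : ∀ e ∈ D, Commute h' e ↔ Commute h e

theorem Pair.symm {D : Set G} {h h' : G} (p : Pair D h h') : Pair D h' h where
  mem := p.mem'
  mem' := p.mem
  ne := p.ne.symm
  comm := p.comm.symm
  only := fun y hy hc => (p.only y hy ((p.same y hy).mp hc)).symm
  same := fun e he => (p.same e he).symm

theorem Pair.conj {D : Set G} (hT : TT3 D) {h h' : G} (p : Pair D h h') (g : G) :
    Pair D (g * h * g⁻¹) (g * h' * g⁻¹) where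
  mem := hT.conj g h p.mem
  mem' := hT.conj g h' p.mem'
  ne := by
    intro heq
    exact p.ne (mul_left_cancel (mul_right_cancel heq))
  comm := by
    have e : g⁻¹ * (g * h' * g⁻¹) * g = h' := by group
    rw [commute_conj_iff', e]; exact p.comm
  only := by
    intro y hy hc
    rw [commute_conj_iff'] at hc
    have hy' : g⁻¹ * y * g ∈ D := by
      have := hT.conj g⁻¹ y hy
      rwa [inv_inv] at this
    rcases p.only _ hy' hc with hh | hh
    · left; rw [← hh]; group
    · right; rw [← hh]; group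
  same := by
    intro e he
    have he' : g⁻¹ * e * g ∈ D := by
      have := hT.conj g⁻¹ e he
      rwa [inv_inv] at this
    rw [commute_conj_iff', commute_conj_iff']
    exact p.same _ he'

theorem Pair.unique {D : Set G} {h a b : G} (p₁ : Pair D h a) (p₂ : Pair D h b) : a = b :=
  ((p₁.only b p₂.mem' p₂.comm).resolve_left p₂.ne.symm).symm

theorem Pair.zsq {D : Set G} (hT : TT3 D) {h h' : G} (p : Pair D h h') :
    (h * h') * (h * h') = 1 := by
  rw [← pow_two]; exact (commute_iff_sq (hT.sq h p.mem) (hT.sq h' p.mem')).mp p.comm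

theorem Pair.zne {D : Set G} (hT : TT3 D) {h h' : G} (p : Pair D h h') : h * h' ≠ 1 := by
  intro h1
  have : h = h'⁻¹ := eq_inv_of_mul_eq_one_left h1
  rw [hT.inv p.mem'] at this
  exact p.ne this

theorem exists_pair_base {D : Set G} {d : G} (hd : d ∈ D)
    (hV : {y : G | y ∈ D ∧ Commute d y} = {v : G | v ∈ D ∧ ∀ e ∈ D, Commute v e ↔ Commute d e})
    (hm : {y : G | y ∈ D ∧ Commute d y}.ncard = 2) : ∃ d', Pair D d d' := by
  have key : ∀ d', d' ≠ d → {y : G | y ∈ D ∧ Commute d y} = {d, d'} → Pair D d d' := by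
    intro d' hne hS
    have hd'S : d' ∈ {y : G | y ∈ D ∧ Commute d y} := by
      rw [hS]; exact Set.mem_insert_of_mem _ rfl
    have hd'V := hd'S
    rw [hV] at hd'V
    refine ⟨hd, hd'S.1, hne.symm, hd'S.2, ?_, hd'V.2⟩
    intro y hy hc
    have : y ∈ {y : G | y ∈ D ∧ Commute d y} := ⟨hy, hc⟩
    rw [hS] at this
    rcases this with h1 | h1
    · left; exact h1
    · right; exact h1
  obtain ⟨x, y, hxy, hS⟩ := Set.ncard_eq_two.mp hm
  have hdS : d ∈ {y : G | y ∈ D ∧ Commute d y} := ⟨hd, Commute.refl d⟩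
  rw [hS] at hdS
  rcases hdS with h1 | h1
  · refine ⟨y, key y ?_ ?_⟩
    · rw [h1]; exact hxy.symm
    · rw [hS, h1]
  · rw [Set.mem_singleton_iff] at h1
    refine ⟨x, key x ?_ ?_⟩
    · rw [h1]; exact hxy
    · rw [hS, h1, Set.pair_comm]

theorem exists_pair {D : Set G} (hD : Cfsg.IsThreeTranspositionClass D) {d : G} (hd : d ∈ D)
    (hV : {y : G | y ∈ D ∧ Commute d y} = {v : G | v ∈ D ∧ ∀ e ∈ D, Commute v e ↔ Commute d e})
    (hm : {y : G | y ∈ D ∧ Commute d y}.ncard = 2) : ∀ h ∈ D, ∃ h', Pair D h h' := by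
  have hT := tt3_of_class hD
  obtain ⟨d', hp⟩ := exists_pair_base hd hV hm
  obtain ⟨_, ⟨d₀, _, hDeq⟩, _⟩ := hD
  intro h hh
  rw [hDeq] at hh hd
  obtain ⟨c, hc⟩ := isConj_iff.mp hh
  obtain ⟨c', hc'⟩ := isConj_iff.mp hd
  have e : h = (c * c'⁻¹) * d * (c * c'⁻¹)⁻¹ := by
    rw [← hc, ← hc']; group
  rw [e]
  exact ⟨_, hp.conj hT _⟩

/-! ### identities in `S₄` -/

theorem id1 : (Equiv.swap (0 : Fin 4) 3) * Equiv.swap 1 2 = Equiv.swap 1 2 * Equiv.swap 0 3 := by
  decide

theorem id2 : (Equiv.swap (0 : Fin 4) 3) =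
    Equiv.swap 1 3 * Equiv.swap 0 1 * (Equiv.swap (1 : Fin 4) 3)⁻¹ := by
  decide

theorem id3 : (Equiv.swap (1 : Fin 4) 2) * (Equiv.swap 0 1 * Equiv.swap 2 3) *
    (Equiv.swap (1 : Fin 4) 2)⁻¹ =
      (Equiv.swap 0 1 * Equiv.swap 2 3) * (Equiv.swap 1 2 * Equiv.swap 0 3) := by
  decide

theorem id4 : (Equiv.swap (0 : Fin 4) 1 * Equiv.swap 2 3) * (Equiv.swap 1 2 * Equiv.swap 0 3) =
    (Equiv.swap 1 2 * Equiv.swap 0 3) * (Equiv.swap 0 1 * Equiv.swap 2 3) := by
  decide

theorem id5 : (Equiv.swap (0 : Fin 4) 1 * Equiv.swap 2 3) =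
    Equiv.swap 1 2 * ((Equiv.swap 0 1 * Equiv.swap 2 3) * (Equiv.swap 1 2 * Equiv.swap 0 3)⁻¹) *
      (Equiv.swap (1 : Fin 4) 2)⁻¹ := by
  decide

theorem id6 : (Equiv.swap (0 : Fin 4) 1 * Equiv.swap 2 3) =
    Equiv.swap 0 2 * (Equiv.swap 1 2 * Equiv.swap 0 3) * (Equiv.swap (0 : Fin 4) 2)⁻¹ := by
  decide

set_option maxRecDepth 100000 in
theorem id7 : ∀ σ : Equiv.Perm (Fin 4), σ ≠ 1 → ∃ a b : Equiv.Perm (Fin 4),
    a * σ * a⁻¹ * (b * σ * b⁻¹) = Equiv.swap 0 1 * Equiv.swap 2 3 := by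
  decide +kernel

/-- the `S₄` generated by `h`, `k`, `h'` -/
theorem s4_of_pair {D : Set G} (hT : TT3 D) {h h' k k' : G} (p : Pair D h h') (q : Pair D k k')
    (hnc : ¬ Commute h k) :
    ∃ φ : Equiv.Perm (Fin 4) →* G, φ (Equiv.swap 0 1) = h ∧ φ (Equiv.swap 1 2) = k ∧
      φ (Equiv.swap 2 3) = h' ∧ φ (Equiv.swap 0 3) = k' := by
  have hnc' : ¬ Commute k h' := fun hc => hnc ((p.same k q.mem).mp hc.symm)
  obtain ⟨φ, h1, h2, h3⟩ := Cfsg.Agent.Helper3.S4Pres.exists_hom h k h'
    (by rw [sq]; exact hT.sq h p.mem) (by rw [sq]; exact hT.sq k q.mem)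
    (by rw [sq]; exact hT.sq h' p.mem') (hT.cube h p.mem k q.mem hnc)
    (hT.cube k q.mem h' p.mem' hnc') (by rw [sq]; exact p.zsq hT)
  refine ⟨φ, h1, h2, h3, ?_⟩
  have hyD : φ (Equiv.swap 0 3) ∈ D := by
    rw [id2, map_mul, map_mul, map_inv, h1]
    exact hT.conj _ h p.mem
  have hyc : Commute k (φ (Equiv.swap 0 3)) := by
    show k * φ (Equiv.swap 0 3) = φ (Equiv.swap 0 3) * k
    rw [← h2, ← map_mul, ← map_mul, id1]
  rcases q.only _ hyD hyc with hy | hy
  · exfalso
    -- then `(12)(03)` is in the kernel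
    have hk1 : φ (Equiv.swap 1 2 * Equiv.swap 0 3) = 1 := by
      rw [map_mul, hy, h2]; exact hT.sq k q.mem
    have : φ (Equiv.swap 0 1 * Equiv.swap 2 3) = 1 := by
      rw [id6, map_mul, map_mul, hk1, mul_one, map_inv, mul_inv_cancel]
    rw [map_mul, h1, h3] at this
    exact p.zne hT this
  · exact hy

theorem s4_rel {D : Set G} (hT : TT3 D) {h h' k k' : G} (p : Pair D h h') (q : Pair D k k')
    (hnc : ¬ Commute h k) :
    k * (h * h') * k⁻¹ = (h * h') * (k * k') ∧ Commute (h * h') (k * k') ∧ h * h' ≠ k * k' := by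
  obtain ⟨φ, h1, h2, h3, h4⟩ := s4_of_pair hT p q hnc
  have ez : φ (Equiv.swap 0 1 * Equiv.swap 2 3) = h * h' := by rw [map_mul, h1, h3]
  have ew : φ (Equiv.swap 1 2 * Equiv.swap 0 3) = k * k' := by rw [map_mul, h2, h4]
  refine ⟨?_, ?_, ?_⟩
  · rw [← ez, ← ew, ← h2, ← map_inv, ← map_mul, ← map_mul, ← map_mul, id3]
  · show h * h' * (k * k') = k * k' * (h * h')
    rw [← ez, ← ew, ← map_mul, ← map_mul, id4]
  · intro heq
    have hx : φ ((Equiv.swap 0 1 * Equiv.swap 2 3) * (Equiv.swap 1 2 * Equiv.swap 0 3)⁻¹) = 1 := by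
      rw [map_mul, map_inv, ez, ew, heq, mul_inv_cancel]
    have : φ (Equiv.swap 0 1 * Equiv.swap 2 3) = 1 := by
      rw [id5, map_mul, map_mul, hx, mul_one, map_inv, mul_inv_cancel]
    rw [ez] at this
    exact p.zne hT this

theorem comm_calc {a b c : G} (hab : Commute a b) (hac : Commute a c) (hbc : Commute b c)
    (ha : a * a = 1) (hb : b * b = 1) (hc : c * c = 1) :
    b * (c * (a * b)) = a * c ∧ a * (c * (a * b)) = b * c ∧ (a * c) * (c * (a * b)) = b := by
  have hab' : a * b = b * a := hab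
  have hac' : a * c = c * a := hac
  have hbc' : b * c = c * b := hbc
  refine ⟨?_, ?_, ?_⟩
  · calc b * (c * (a * b)) = b * (c * (b * a)) := by rw [hab']
      _ = b * ((c * b) * a) := by group
      _ = b * ((b * c) * a) := by rw [hbc']
      _ = (b * b) * (c * a) := by group
      _ = a * c := by rw [hb, one_mul, hac']
  · calc a * (c * (a * b)) = a * ((c * a) * b) := by group
      _ = a * ((a * c) * b) := by rw [hac']
      _ = (a * a) * (c * b) := by group
      _ = b * c := by rw [ha, one_mul, hbc']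
  · calc (a * c) * (c * (a * b)) = a * (c * c) * (a * b) := by group
      _ = (a * a) * b := by rw [hc, mul_one]; group
      _ = b := by rw [ha, one_mul]

theorem main_S4 [Finite G] {D : Set G} (hD : Cfsg.IsThreeTranspositionClass D)
    (hD2 : ∃ a ∈ D, ∃ b ∈ D, a ≠ b) {d : G} (hd : d ∈ D)
    (hV : {y : G | y ∈ D ∧ Commute d y} = {v : G | v ∈ D ∧ ∀ e ∈ D, Commute v e ↔ Commute d e})
    (hm : {y : G | y ∈ D ∧ Commute d y}.ncard = 2) :
    Nonempty (G ≃* Equiv.Perm (Fin 4)) := by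
  have hT := tt3_of_class hD
  have hpair := exists_pair hD hd hV hm
  obtain ⟨e, he, hde⟩ := Cfsg.Agent.Helper5.ThreeTrans.exists_not_commute hD hD2 hd
  obtain ⟨d', pd⟩ := hpair d hd
  obtain ⟨e', pe⟩ := hpair e he
  obtain ⟨φ, h1, h2, h3, h4⟩ := s4_of_pair hT pd pe hde
  have hgen : Subgroup.closure D = ⊤ := hD.2.2
  -- the pair `g, g'`
  have pg : Pair D (e * d * e⁻¹) (e * d' * e⁻¹) := pd.conj hT e
  have hgr : e * d * e⁻¹ = φ (Equiv.swap 1 2 * Equiv.swap 0 1 * (Equiv.swap 1 2)⁻¹) := by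
    rw [map_mul, map_mul, map_inv, h1, h2]
  have hg'r : e * d' * e⁻¹ = φ (Equiv.swap 1 2 * Equiv.swap 2 3 * (Equiv.swap 1 2)⁻¹) := by
    rw [map_mul, map_mul, map_inv, h3, h2]
  -- all members lie in the range
  have hrange : ∀ f ∈ D, f ∈ φ.range := by
    intro f hf
    by_contra hfr
    obtain ⟨f', pf⟩ := hpair f hf
    have hdf : ¬ Commute d f := by
      intro hc
      rcases pd.only f hf hc with h | h
      · exact hfr ⟨_, h1.trans h.symm⟩
      · exact hfr ⟨_, h3.trans h.symm⟩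
    have hef : ¬ Commute e f := by
      intro hc
      rcases pe.only f hf hc with h | h
      · exact hfr ⟨_, h2.trans h.symm⟩
      · exact hfr ⟨_, h4.trans h.symm⟩
    have hgf : ¬ Commute (e * d * e⁻¹) f := by
      intro hc
      rcases pg.only f hf hc with h | h
      · exact hfr ⟨_, hgr.symm.trans h.symm⟩
      · exact hfr ⟨_, hg'r.symm.trans h.symm⟩
    have hfg : ¬ Commute f (e * d * e⁻¹) := fun hc => hgf hc.symm
    obtain ⟨F1, C1, -⟩ := s4_rel hT pd pf hdf
    obtain ⟨F2, C2, -⟩ := s4_rel hT pe pf hef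
    obtain ⟨F3, -, N3⟩ := s4_rel hT pf pg hfg
    obtain ⟨F4, C4, -⟩ := s4_rel hT pd pe hde
    -- abbreviations
    set a := d * d' with ha
    set b := e * e' with hb
    set c := f * f' with hc
    have hzg : (e * d * e⁻¹) * (e * d' * e⁻¹) = a * b := by
      rw [← F4, ha]; group
    rw [hzg] at F3 N3
    have haa : a * a = 1 := pd.zsq hT
    have hbb : b * b = 1 := pe.zsq hT
    have hcc : c * c = 1 := pf.zsq hT
    obtain ⟨K1, K2, K3⟩ := comm_calc C4 C1 C2 haa hbb hcc
    -- `g` swaps `a` and `b`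
    have hga : (e * d * e⁻¹) * a * (e * d * e⁻¹)⁻¹ = b := by
      have hnc : ¬ Commute d (e * d * e⁻¹) := by
        intro hcm
        rcases pd.only _ pg.mem hcm with h | h
        · apply hde
          show d * e = e * d
          have : e * d = d * e := by
            calc e * d = (e * d * e⁻¹) * e := by group
              _ = d * e := by rw [h]
          exact this.symm
        · -- `e d e⁻¹ = d'`
          have hbr := braid (hT.sq e he) (hT.sq d hd) (hT.cube e he d hd (fun hc => hde hc.symm))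
          rw [hT.inv he] at h
          rw [hbr] at h
          -- d e d = d' so e = d d' d = d'
          have : e = d' := by
            have h' : d * (d * e * d) * d = d * d' * d := by rw [h]
            have hl : d * (d * e * d) * d = e := by
              calc d * (d * e * d) * d = (d * d) * e * (d * d) := by group
                _ = e := by rw [hT.sq d hd, one_mul, mul_one]
            rw [hl] at h'
            rw [h', pd.comm.eq, mul_assoc, hT.sq d hd, mul_one]
          exact hde (by rw [this]; exact pd.comm)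
      obtain ⟨F5, -, -⟩ := s4_rel hT pd pg hnc
      rw [F5, hzg]
      calc a * (a * b) = (a * a) * b := by group
        _ = b := by rw [haa, one_mul]
    have hgb : (e * d * e⁻¹) * b * (e * d * e⁻¹)⁻¹ = a := by
      have hgg : (e * d * e⁻¹) * (e * d * e⁻¹) = 1 := hT.sq _ pg.mem
      rw [← hga]
      calc e * d * e⁻¹ * (e * d * e⁻¹ * a * (e * d * e⁻¹)⁻¹) * (e * d * e⁻¹)⁻¹
          = ((e * d * e⁻¹) * (e * d * e⁻¹)) * a * ((e * d * e⁻¹) * (e * d * e⁻¹))⁻¹ := by group
        _ = a := by rw [hgg, one_mul, inv_one, mul_one]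
    -- `f` fixes `c`
    have hfc : f * c * f⁻¹ = c := by
      have e1 : f * (f * f') * f⁻¹ = f * f' := by
        calc f * (f * f') * f⁻¹ = f * (f' * f) * f⁻¹ := by rw [pf.comm.eq]
          _ = f * f' := by group
      exact e1
    -- the element `u = g f`
    set g := e * d * e⁻¹ with hg
    set u := g * f with hu
    have hu3 : u * u * u = 1 := by
      rw [← pow_three']; exact hT.cube g pg.mem f hf hgf
    have conj_mul : ∀ x y : G, u * (x * y) * u⁻¹ = (u * x * u⁻¹) * (u * y * u⁻¹) := by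
      intro x y; group
    have conj_u : ∀ x : G, u * x * u⁻¹ = g * (f * x * f⁻¹) * g⁻¹ := by
      intro x; rw [hu]; group
    have conj_g : ∀ x y : G, g * (x * y) * g⁻¹ = (g * x * g⁻¹) * (g * y * g⁻¹) := by
      intro x y; group
    have A1 : u * a * u⁻¹ = a * c := by
      rw [conj_u, F1, conj_g, hga, F3, K1]
    have A2 : u * c * u⁻¹ = c * (a * b) := by
      rw [conj_u, hfc, F3]
    have A3 : u * b * u⁻¹ = b * c := by
      rw [conj_u, F2, conj_g, hgb, F3, K2]
    have A4 : u * (u * a * u⁻¹) * u⁻¹ = b := by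
      rw [A1, conj_mul, A1, A2, K3]
    have A5 : u * (u * (u * a * u⁻¹) * u⁻¹) * u⁻¹ = b * c := by
      rw [A4, A3]
    have A6 : u * (u * (u * a * u⁻¹) * u⁻¹) * u⁻¹ = a := by
      calc u * (u * (u * a * u⁻¹) * u⁻¹) * u⁻¹ = (u * u * u) * a * (u * u * u)⁻¹ := by group
        _ = a := by rw [hu3, one_mul, inv_one, mul_one]
    have hab : a = b * c := A6.symm.trans A5
    apply N3
    -- c = a b
    have : b * a = c := by
      rw [hab, ← mul_assoc, hbb, one_mul]
    rw [← this, C4.eq]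
  -- surjectivity
  have hsurj : Function.Surjective φ := by
    rw [← MonoidHom.range_eq_top, eq_top_iff, ← hgen, Subgroup.closure_le]
    exact hrange
  have hinj : Function.Injective φ := by
    rw [injective_iff_map_eq_one]
    intro σ hσ
    by_contra hne
    obtain ⟨x, y, hxy⟩ := id7 σ hne
    have : φ (Equiv.swap 0 1 * Equiv.swap 2 3) = 1 := by
      rw [← hxy]
      simp only [map_mul, map_inv, hσ, mul_one, mul_inv_cancel]
    rw [map_mul, h1, h3] at this
    exact pd.zne hT this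
  exact ⟨(MulEquiv.ofBijective φ ⟨hinj, hsurj⟩).symm⟩

end Cfsg.Agent.Lead.TTS4
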