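import Mathlib
import Cfsg.Agent.Lead.ThreeTransS4
import Cfsg.Agent.S5347
import Cfsg.Agent.S5348
import Cfsg.Agent.Helper2.Layer4
import Cfsg.Agent.Helper2.Component
import Cfsg.Agent.Helper1.Fitting

set_option autoImplicit false

/-!
# The trichotomy `O₂ / O₃ / E(G)` for a class of 3-transpositions
-/

namespace Cfsg.Agent.Lead.TTF

open Cfsg.Agent.Lead.TTW Cfsg.Agent.Lead.TTS4

open scoped commutatorElement

variable {G : Type*} [Group G]

theorem group_of_class {D : Set G} (hD : Cfsg.IsThreeTranspositionClass D) :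
    Cfsg.IsThreeTranspositionGroup D :=
  ⟨hD.1, (tt3_of_class hD).conj, hD.2.2⟩

theorem exists_conj_of_class {D : Set G} (hD : Cfsg.IsThreeTranspositionClass D) {d e : G}
    (hd : d ∈ D) (he : e ∈ D) : ∃ c : G, e = c * d * c⁻¹ := by
  obtain ⟨_, ⟨d₀, _, hDeq⟩, _⟩ := hD
  rw [hDeq] at hd he
  obtain ⟨c, hc⟩ := isConj_iff.mp he
  obtain ⟨c', hc'⟩ := isConj_iff.mp hd
  refine ⟨c * c'⁻¹, ?_⟩
  rw [← hc, ← hc']; group

theorem le_center_of_commute {D : Set G} (hgen : Subgroup.closure D = ⊤) (N : Subgroup G)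
    (h : ∀ d ∈ D, ∀ x ∈ N, Commute d x) : N ≤ Subgroup.center G := by
  intro x hx
  rw [Subgroup.mem_center_iff]
  intro g
  have hg : g ∈ Subgroup.closure D := by rw [hgen]; exact Subgroup.mem_top g
  induction hg using Subgroup.closure_induction with
  | mem d hd => exact (h d hd x hx).eq
  | one => rw [one_mul, mul_one]
  | mul a b _ _ ha hb =>
    calc a * b * x = a * (b * x) := by group
      _ = a * (x * b) := by rw [hb]
      _ = (a * x) * b := by group
      _ = (x * a) * b := by rw [ha]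
      _ = x * (a * b) := by group
  | inv a _ ha =>
    calc a⁻¹ * x = a⁻¹ * (x * a) * a⁻¹ := by group
      _ = a⁻¹ * (a * x) * a⁻¹ := by rw [ha]
      _ = x * a⁻¹ := by group

theorem pCore_le_center_of_gt_three [Finite G] {D : Set G} (hD : Cfsg.IsThreeTranspositionClass D)
    {p : ℕ} (hp : p.Prime) (hp3 : 3 < p) : Cfsg.pCore p G ≤ Subgroup.center G := by
  haveI : Fact p.Prime := ⟨hp⟩
  apply le_center_of_commute hD.2.2
  intro d hd x hx
  have hn : d ∈ Subgroup.normalizer ((Cfsg.pCore p G : Subgroup G) : Set G) := by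
    rw [Subgroup.normalizer_eq_top]; exact Subgroup.mem_top d
  exact Cfsg.Agent.S5347.result (group_of_class hD) hp hp3 (Cfsg.pCore p G)
    (Cfsg.Agent.Helper1.pCore_isPGroup p) hd hn x hx

/-- a noncentral normal subgroup moves every member of the class -/
theorem noncentral_move {D : Set G} (hD : Cfsg.IsThreeTranspositionClass D) (N : Subgroup G)
    [hN : N.Normal] (hnc : ¬ N ≤ Subgroup.center G) {d : G} (hd : d ∈ D) :
    ∃ x ∈ N, x * d * x⁻¹ ≠ d := by
  by_contra hcon
  push Not at hcon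
  apply hnc
  apply le_center_of_commute hD.2.2
  intro e he x hx
  obtain ⟨c, rfl⟩ := exists_conj_of_class hD hd he
  have h1 := hcon (c⁻¹ * x * c) (by
    have := hN.conj_mem x hx c⁻¹
    rwa [inv_inv] at this)
  show c * d * c⁻¹ * x = x * (c * d * c⁻¹)
  have h2 : d * (c⁻¹ * x * c) = (c⁻¹ * x * c) * d := by
    calc d * (c⁻¹ * x * c) = ((c⁻¹ * x * c) * d * (c⁻¹ * x * c)⁻¹) * (c⁻¹ * x * c) := by rw [h1]
      _ = (c⁻¹ * x * c) * d := by group
  calc c * d * c⁻¹ * x = c * (d * (c⁻¹ * x * c)) * c⁻¹ := by group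
    _ = c * ((c⁻¹ * x * c) * d) * c⁻¹ := by rw [h2]
    _ = x * (c * d * c⁻¹) := by group

/-- the layer commutes with a normal `p`-subgroup -/
theorem layer_commute_pCore [Finite G] (p : ℕ) [Fact p.Prime] {l x : G} (hl : l ∈ Cfsg.layer G)
    (hx : x ∈ Cfsg.pCore p G) : l * x = x * l := by
  apply Cfsg.Agent.Helper2.layer_commute_fitting hl
  rw [Cfsg.Agent.Helper1.fittingSubgroup_eq_fitJoin]
  exact Cfsg.Agent.Helper1.pCore_le_fitJoin p hx

/-- if all commutators `d (l d l⁻¹)` lie in a solvable subgroup normalized by the component `L`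
then `L` centralizes `d` -/
theorem component_centralizes {L N : Subgroup G} (hL : Cfsg.IsComponent L)
    (hsolv : Group.IsSolvable ↥N) (hinv : L ≤ Subgroup.normalizer (N : Set G)) {d : G}
    (hd : d * d = 1) (hmem : ∀ l ∈ L, d * (l * d * l⁻¹) ∈ N) :
    ∀ l ∈ L, d * l = l * d := by
  have hdi : d⁻¹ = d := inv_eq_of_mul_eq_one_left hd
  have h1 : ⁅L, N⁆ = ⊥ := Cfsg.Agent.Helper2.component_commutator_solvable_eq_bot L N hL hsolv hinv
  have h2 : ⁅Subgroup.zpowers d, L⁆ ≤ N := by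
    rw [Subgroup.commutator_le]
    intro g hg l hl
    rw [Subgroup.mem_zpowers_iff] at hg
    obtain ⟨k, rfl⟩ := hg
    rcases Int.even_or_odd' k with ⟨m, hm | hm⟩
    · have : d ^ k = 1 := by
        rw [hm, zpow_mul, zpow_ofNat, sq, hd, one_zpow]
      rw [this, commutatorElement_one_left]
      exact Subgroup.one_mem _
    · have : d ^ k = d := by
        rw [hm, zpow_add, zpow_mul, zpow_ofNat, sq, hd, one_zpow, one_mul, zpow_one]
      rw [this, commutatorElement_def]
      have e : d * l * d⁻¹ * l⁻¹ = d * (l * d * l⁻¹) := by rw [hdi]; group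
      rw [e]
      exact hmem l hl
  have h3 : ⁅⁅Subgroup.zpowers d, L⁆, L⁆ = ⊥ := by
    rw [eq_bot_iff, ← h1, Subgroup.commutator_comm L N]
    exact Subgroup.commutator_mono h2 le_rfl
  have h4 := Cfsg.Agent.Helper2.commutator_eq_bot_of_commutator_commutator_eq_bot
    (Cfsg.Agent.Helper2.component_perfect hL) h3
  rw [Subgroup.commutator_eq_bot_iff_le_centralizer] at h4
  intro l hl
  have := h4 (Subgroup.mem_zpowers d)
  rw [Subgroup.mem_centralizer_iff] at this
  exact (this l hl).symm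

/-- a component is not centralized by the whole class -/
theorem component_not_central {D : Set G} (hgen : Subgroup.closure D = ⊤) {L : Subgroup G}
    (hL : Cfsg.IsComponent L) (h : ∀ d ∈ D, ∀ l ∈ L, d * l = l * d) : False := by
  have hc : L ≤ Subgroup.center G := le_center_of_commute hgen L (fun d hd l hl => h d hd l hl)
  apply Cfsg.Agent.Helper2.component_not_commutative hL
  intro a ha b _
  have := hc ha
  rw [Subgroup.mem_center_iff] at this
  exact (this b).symm

theorem exists_component_of_layer_ne_bot (h : Cfsg.layer G ≠ ⊥) :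
    ∃ L : Subgroup G, Cfsg.IsComponent L := by
  by_contra hcon
  push Not at hcon
  apply h
  unfold Cfsg.layer
  rw [eq_bot_iff]
  apply sSup_le
  intro K hK
  exact absurd hK (hcon K)

/-- the orbit of `d` under the layer -/
def orb (d : G) : Set G := {t | ∃ l ∈ Cfsg.layer G, t = l * d * l⁻¹}

/-- the subgroup generated by the products of two members of the orbit -/
def PT (d : G) : Subgroup G := Subgroup.closure {x | ∃ a ∈ orb d, ∃ b ∈ orb d, x = a * b}

theorem mem_orb_self (d : G) : d ∈ orb d := ⟨1, Subgroup.one_mem _, by group⟩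

theorem orb_conj {d : G} {t l : G} (ht : t ∈ orb d) (hl : l ∈ Cfsg.layer G) :
    l * t * l⁻¹ ∈ orb d := by
  obtain ⟨l₁, hl₁, rfl⟩ := ht
  exact ⟨l * l₁, Subgroup.mul_mem _ hl hl₁, by group⟩

theorem layer_le_normalizer_PT (d : G) :
    Cfsg.layer G ≤ Subgroup.normalizer ((PT d : Subgroup G) : Set G) := by
  intro l hl
  have key : ∀ l ∈ Cfsg.layer G, ∀ x ∈ PT d, l * x * l⁻¹ ∈ PT d := by
    intro l hl x hx
    unfold PT at hx ⊢
    induction hx using Subgroup.closure_induction with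
    | mem x hx =>
      obtain ⟨a, ha, b, hb, rfl⟩ := hx
      apply Subgroup.subset_closure
      exact ⟨l * a * l⁻¹, orb_conj ha hl, l * b * l⁻¹, orb_conj hb hl, by group⟩
    | one => simp
    | mul x y _ _ hx hy =>
      have e1 : l * (x * y) * l⁻¹ = (l * x * l⁻¹) * (l * y * l⁻¹) := by group
      rw [e1]; exact Subgroup.mul_mem _ hx hy
    | inv x _ hx =>
      have e1 : l * x⁻¹ * l⁻¹ = (l * x * l⁻¹)⁻¹ := by group
      rw [e1]; exact Subgroup.inv_mem _ hx
  rw [Subgroup.mem_set_normalizer_iff]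
  intro x
  constructor
  · intro hx
    exact key l hl x hx
  · intro hx
    have := key l⁻¹ (Subgroup.inv_mem _ hl) _ hx
    have e : l⁻¹ * (l * x * l⁻¹) * l⁻¹⁻¹ = x := by group
    rwa [e] at this

theorem orb_conj_mem {D : Set G} (hT : TT3 D) {d : G} (hd : d ∈ D) {a w : G} (ha : a ∈ orb d)
    (hw : w ∈ orb d) : a * w * a⁻¹ ∈ orb d := by
  obtain ⟨l₁, hl₁, rfl⟩ := ha
  obtain ⟨l₂, hl₂, rfl⟩ := hw
  have hn : (Cfsg.layer G).Normal := inferInstance
  refine ⟨l₁ * (d * (l₁⁻¹ * l₂) * d⁻¹), ?_, ?_⟩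
  · exact Subgroup.mul_mem _ hl₁
      (hn.conj_mem _ (Subgroup.mul_mem _ (Subgroup.inv_mem _ hl₁) hl₂) d)
  · group

theorem orb_subset {D : Set G} (hT : TT3 D) {d : G} (hd : d ∈ D) : orb d ⊆ D := by
  rintro t ⟨l, _, rfl⟩
  exact hT.conj l d hd

/-- general width one lemma -/
theorem prod_three_of_width_one [Finite G] {D : Set G} (h : TT3 D) {T : Set G} (hTD : T ⊆ D)
    (hconj : ∀ a ∈ T, ∀ w ∈ T, a * w * a⁻¹ ∈ T)
    (hw : ∀ a ∈ T, ∀ b ∈ T, Commute a b → a = b) {d : G} (hd : d ∈ T) :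
    ∃ N : Subgroup G, IsPGroup 3 N ∧ ∀ a ∈ T, ∀ b ∈ T, a * b ∈ N := by
  have hsub : ∀ a ∈ T, a ∈ Subgroup.normalizer T := by
    intro a ha
    rw [Subgroup.mem_set_normalizer_iff]
    intro w
    constructor
    · intro hw'
      exact hconj a ha w hw'
    · intro hw'
      have := hconj a ha _ hw'
      have e : a * (a * w * a⁻¹) * a⁻¹ = w := by
        rw [h.inv (hTD ha)]
        calc a * (a * w * a) * a = (a * a) * w * (a * a) := by group
          _ = w := by rw [h.sq a (hTD ha), one_mul, mul_one]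
      rwa [e] at this
  have hle : Subgroup.closure T ≤ Subgroup.normalizer T := by
    rw [Subgroup.closure_le]
    exact hsub
  have hconj' : ∀ g ∈ Subgroup.closure T, g * d * g⁻¹ ∈ T := by
    intro g hg
    exact ((Subgroup.mem_set_normalizer_iff.mp (hle hg)) d).mp hd
  have hcomm : ∀ x ∈ T, Commute d x → x = d := fun x hx hc => (hw d hd x hx hc).symm
  have hcube : ∀ x ∈ T, (d * x) ^ 3 = 1 := by
    intro x hx
    by_cases hc : Commute d x
    · rw [hcomm x hx hc, h.sq d (hTD hd), one_pow]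
    · exact h.cube d (hTD hd) x (hTD hx) hc
  obtain ⟨N, hN3, hN⟩ := exists_three_rel (Subgroup.closure T)
    (Subgroup.subset_closure hd) (h.sq d (hTD hd)) (h.ne d (hTD hd))
    (fun g hg => hcube _ (hconj' g hg)) (fun g hg hc => hcomm _ (hconj' g hg) hc)
  refine ⟨N, hN3, ?_⟩
  have hda : ∀ a ∈ T, d * a ∈ N := by
    intro a ha
    have hg : d * a ∈ Subgroup.closure T :=
      Subgroup.mul_mem _ (Subgroup.subset_closure hd) (Subgroup.subset_closure ha)
    have := hN (d * a) hg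
    rwa [conj_prod (h.sq d (hTD hd)) (h.sq a (hTD ha)) (hcube a ha)] at this
  intro a ha b hb
  have e : a * b = (d * a)⁻¹ * (d * b) := by
    rw [mul_inv_rev, h.inv (hTD hd), h.inv (hTD ha)]
    calc a * b = a * (d * d) * b := by rw [h.sq d (hTD hd), mul_one]
      _ = a * d * (d * b) := by group
  rw [e]
  exact Subgroup.mul_mem _ (Subgroup.inv_mem _ (hda a ha)) (hda b hb)

theorem s4_noncomm : (Equiv.swap (0 : Fin 4) 1 * Equiv.swap 2 3) * Equiv.swap 1 2 *
    (Equiv.swap (0 : Fin 4) 1 * Equiv.swap 2 3)⁻¹ * (Equiv.swap (1 : Fin 4) 2)⁻¹ ≠ 1 := by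
  decide

/-- if `O₂(G)` is not central then a member commutes with its conjugates under the layer -/
theorem commute_layer_conj_two [Finite G] {D : Set G} (hD : Cfsg.IsThreeTranspositionClass D)
    (hD2 : ∃ a ∈ D, ∃ b ∈ D, a ≠ b) (h2 : ¬ Cfsg.pCore 2 G ≤ Subgroup.center G) {d : G}
    (hd : d ∈ D) {l : G} (hl : l ∈ Cfsg.layer G) : Commute d (l * d * l⁻¹) := by
  haveI : Fact (Nat.Prime 2) := ⟨Nat.prime_two⟩
  have hT := tt3_of_class hD
  obtain ⟨x, hx, hne⟩ := noncentral_move hD (Cfsg.pCore 2 G) h2 hd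
  have hS := (Cfsg.Agent.Helper5.ThreeTrans.main_S5349 hD hD2 hd).2
  have hv : x * d * x⁻¹ ∈ {v : G | v ∈ D ∧ ∀ e ∈ D, Commute v e ↔ Commute d e} := by
    rw [hS]; exact ⟨x, hx, rfl⟩
  obtain ⟨hvD, hsame⟩ := hv
  set v := x * d * x⁻¹ with hvdef
  have heD : l * d * l⁻¹ ∈ D := hT.conj l d hd
  by_contra hnc
  have hnc' : ¬ Commute (l * d * l⁻¹) v := fun hc => hnc ((hsame _ heD).mp hc.symm)
  have hdv : Commute d v := ((hsame d hd).mpr (Commute.refl d)).symm
  obtain ⟨φ, h1, h2', h3⟩ := Cfsg.Agent.Helper3.S4Pres.exists_hom d (l * d * l⁻¹) v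
    (by rw [sq]; exact hT.sq d hd) (by rw [sq]; exact hT.sq _ heD)
    (by rw [sq]; exact hT.sq v hvD) (hT.cube d hd _ heD hnc)
    (hT.cube _ heD v hvD hnc') ((commute_iff_sq (hT.sq d hd) (hT.sq v hvD)).mp hdv)
  -- `z = d v` lies in `O₂(G)` and commutes with `l` and `d`
  have hz : d * v ∈ Cfsg.pCore 2 G := by
    have hn : (Cfsg.pCore 2 G).Normal := inferInstance
    have e : d * v = (d * x * d⁻¹) * x⁻¹ := by rw [hvdef, hT.inv hd]; group
    rw [e]
    exact Subgroup.mul_mem _ (hn.conj_mem x hx d) (Subgroup.inv_mem _ hx)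
  have hzl : l * (d * v) = (d * v) * l := layer_commute_pCore 2 hl hz
  have hzd : (d * v) * d = d * (d * v) := by
    rw [mul_assoc, hdv.eq.symm]
  have hze : (d * v) * (l * d * l⁻¹) * (d * v)⁻¹ * (l * d * l⁻¹)⁻¹ = 1 := by
    have e1 : (d * v) * (l * d * l⁻¹) = (l * d * l⁻¹) * (d * v) := by
      calc (d * v) * (l * d * l⁻¹) = ((d * v) * l) * d * l⁻¹ := by group
        _ = (l * (d * v)) * d * l⁻¹ := by rw [hzl]
        _ = l * ((d * v) * d) * l⁻¹ := by group
        _ = l * (d * (d * v)) * l⁻¹ := by rw [hzd]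
        _ = l * d * ((d * v) * l⁻¹) := by group
        _ = l * d * (l⁻¹ * (d * v)) := by
            have : (d * v) * l⁻¹ = l⁻¹ * (d * v) := by
              calc (d * v) * l⁻¹ = l⁻¹ * (l * (d * v)) * l⁻¹ := by group
                _ = l⁻¹ * ((d * v) * l) * l⁻¹ := by rw [hzl]
                _ = l⁻¹ * (d * v) := by group
            rw [this]
        _ = (l * d * l⁻¹) * (d * v) := by group
    rw [e1]; group
  have hker : φ ((Equiv.swap (0 : Fin 4) 1 * Equiv.swap 2 3) * Equiv.swap 1 2 *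
      (Equiv.swap (0 : Fin 4) 1 * Equiv.swap 2 3)⁻¹ * (Equiv.swap (1 : Fin 4) 2)⁻¹) = 1 := by
    simp only [map_mul, map_inv, h1, h2', h3]
    exact hze
  obtain ⟨a, b, hab⟩ := id7 _ s4_noncomm
  have : φ (Equiv.swap 0 1 * Equiv.swap 2 3) = 1 := by
    rw [← hab]
    simp only [map_mul, map_inv, hker, mul_one, mul_inv_cancel]
  rw [map_mul, h1, h3] at this
  have : d = v⁻¹ := eq_inv_of_mul_eq_one_left this
  rw [hT.inv hvD] at this
  exact hne this.symm

/-- if `O₃(G)` is not central then a member commuting with a conjugate under the layer equals it -/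
theorem eq_of_commute_layer_conj_three [Finite G] {D : Set G}
    (hD : Cfsg.IsThreeTranspositionClass D) (h3 : ¬ Cfsg.pCore 3 G ≤ Subgroup.center G) {d : G}
    (hd : d ∈ D) {l : G} (hl : l ∈ Cfsg.layer G) (hc : Commute d (l * d * l⁻¹)) :
    l * d * l⁻¹ = d := by
  haveI : Fact (Nat.Prime 3) := ⟨by norm_num⟩
  have hT := tt3_of_class hD
  obtain ⟨x, hx, hne⟩ := noncentral_move hD (Cfsg.pCore 3 G) h3 hd
  have hS := (main_W hT hd).2
  have hw : x * d * x⁻¹ ∈ {w : G | w ∈ D ∧ {y : G | y ∈ D ∧ y ≠ d ∧ Commute d y} =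
        {y : G | y ∈ D ∧ y ≠ w ∧ Commute w y}} := by
    rw [hS]; exact ⟨x, hx, rfl⟩
  obtain ⟨hwD, hrel⟩ := hw
  set w := x * d * x⁻¹ with hwdef
  have heD : l * d * l⁻¹ ∈ D := hT.conj l d hd
  by_contra hned
  -- `e` commutes with `w`
  have hmem : l * d * l⁻¹ ∈ {y : G | y ∈ D ∧ y ≠ d ∧ Commute d y} := ⟨heD, hned, hc⟩
  rw [hrel] at hmem
  have hcw : Commute w (l * d * l⁻¹) := hmem.2.2
  -- `y = d w`
  have hy : d * w ∈ Cfsg.pCore 3 G := by
    have hn : (Cfsg.pCore 3 G).Normal := inferInstance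
    have e : d * w = (d * x * d⁻¹) * x⁻¹ := by rw [hwdef, hT.inv hd]; group
    rw [e]
    exact Subgroup.mul_mem _ (hn.conj_mem x hx d) (Subgroup.inv_mem _ hx)
  have hyl : l * (d * w) = (d * w) * l := layer_commute_pCore 3 hl hy
  have hdi : d⁻¹ = d := hT.inv hd
  have hwi : w⁻¹ = w := hT.inv hwD
  -- `e` commutes with `y`
  have h1 : (l * d * l⁻¹) * (d * w) = (d * w) * (l * d * l⁻¹) := by
    calc (l * d * l⁻¹) * (d * w) = ((l * d * l⁻¹) * d) * w := by group
      _ = (d * (l * d * l⁻¹)) * w := by rw [hc.eq]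
      _ = d * ((l * d * l⁻¹) * w) := by group
      _ = d * (w * (l * d * l⁻¹)) := by rw [hcw.eq]
      _ = (d * w) * (l * d * l⁻¹) := by group
  -- `e` inverts `y`
  have h2 : (l * d * l⁻¹) * (d * w) = (d * w)⁻¹ * (l * d * l⁻¹) := by
    have hli : l⁻¹ * (d * w) = (d * w) * l⁻¹ := by
      calc l⁻¹ * (d * w) = l⁻¹ * ((d * w) * l) * l⁻¹ := by group
        _ = l⁻¹ * (l * (d * w)) * l⁻¹ := by rw [hyl]
        _ = (d * w) * l⁻¹ := by group
    have hdy : d * (d * w) = (d * w)⁻¹ * d := by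
      rw [mul_inv_rev, hdi, hwi]
      calc d * (d * w) = (d * d) * w := by group
        _ = w := by rw [hT.sq d hd, one_mul]
        _ = w * (d * d) := by rw [hT.sq d hd, mul_one]
        _ = w * d * d := by group
    calc (l * d * l⁻¹) * (d * w) = l * d * (l⁻¹ * (d * w)) := by group
      _ = l * d * ((d * w) * l⁻¹) := by rw [hli]
      _ = l * (d * (d * w)) * l⁻¹ := by group
      _ = l * ((d * w)⁻¹ * d) * l⁻¹ := by rw [hdy]
      _ = (l * (d * w)⁻¹) * d * l⁻¹ := by group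
      _ = ((d * w)⁻¹ * l) * d * l⁻¹ := by
          have : l * (d * w)⁻¹ = (d * w)⁻¹ * l := by
            calc l * (d * w)⁻¹ = (d * w)⁻¹ * ((d * w) * l) * (d * w)⁻¹ := by group
              _ = (d * w)⁻¹ * (l * (d * w)) * (d * w)⁻¹ := by rw [hyl]
              _ = (d * w)⁻¹ * l := by group
          rw [this]
      _ = (d * w)⁻¹ * (l * d * l⁻¹) := by group
  have h3' : d * w = (d * w)⁻¹ := by
    have := h1.symm.trans h2
    exact mul_right_cancel this
  have hsq : (d * w) * (d * w) = 1 := by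
    nth_rewrite 1 [h3']
    exact inv_mul_cancel _
  have hone := eq_one_of_sq_of_three (Cfsg.Agent.Helper1.pCore_isPGroup 3) hy hsq
  have : d = w⁻¹ := eq_inv_of_mul_eq_one_left hone
  rw [hwi] at this
  exact hne this.symm

theorem layer_eq_bot_of_two [Finite G] {D : Set G} (hD : Cfsg.IsThreeTranspositionClass D)
    (hD2 : ∃ a ∈ D, ∃ b ∈ D, a ≠ b) (h2 : ¬ Cfsg.pCore 2 G ≤ Subgroup.center G) :
    Cfsg.layer G = ⊥ := by
  by_contra hne
  obtain ⟨L, hL⟩ := exists_component_of_layer_ne_bot hne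
  have hT := tt3_of_class hD
  have hLE : L ≤ Cfsg.layer G := Cfsg.Agent.Helper2.component_le_layer hL
  apply component_not_central hD.2.2 hL
  intro d hd
  -- members of the orbit pairwise commute
  have hcomm : ∀ a ∈ orb d, ∀ b ∈ orb d, Commute a b := by
    rintro a ⟨l₁, hl₁, rfl⟩ b ⟨l₂, hl₂, rfl⟩
    have := commute_layer_conj_two hD hD2 h2 (hT.conj l₁ d hd)
      (Subgroup.mul_mem _ hl₂ (Subgroup.inv_mem _ hl₁))
    have e : l₂ * l₁⁻¹ * (l₁ * d * l₁⁻¹) * (l₂ * l₁⁻¹)⁻¹ = l₂ * d * l₂⁻¹ := by group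
    rwa [e] at this
  have hsolv : Group.IsSolvable ↥(PT d) := by
    apply Group.isSolvable_of_comm
    have hgen : ∀ x ∈ {x | ∃ a ∈ orb d, ∃ b ∈ orb d, x = a * b},
        ∀ y ∈ {x | ∃ a ∈ orb d, ∃ b ∈ orb d, x = a * b}, x * y = y * x := by
      rintro x ⟨a, ha, b, hb, rfl⟩ y ⟨a', ha', b', hb', rfl⟩
      have c1 := (hcomm a ha a' ha').eq
      have c2 := (hcomm a ha b' hb').eq
      have c3 := (hcomm b hb a' ha').eq
      have c4 := (hcomm b hb b' hb').eq
      calc a * b * (a' * b') = a * (b * a') * b' := by group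
        _ = a * (a' * b) * b' := by rw [c3]
        _ = (a * a') * (b * b') := by group
        _ = (a' * a) * (b' * b) := by rw [c1, c4]
        _ = a' * (a * b') * b := by group
        _ = a' * (b' * a) * b := by rw [c2]
        _ = a' * b' * (a * b) := by group
    have hcl : ∀ x ∈ PT d, ∀ y ∈ PT d, x * y = y * x := by
      intro x hx y hy
      have hle : PT d ≤ Subgroup.centralizer ((PT d : Subgroup G) : Set G) := by
        unfold PT
        rw [Subgroup.closure_le]
        intro s hs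
        rw [SetLike.mem_coe, Subgroup.mem_centralizer_iff]
        intro t ht
        -- `t` in the closure commutes with the generator `s`
        induction ht using Subgroup.closure_induction with
        | mem t ht => exact hgen t ht s hs
        | one => rw [one_mul, mul_one]
        | mul u v _ _ hu hv =>
          calc u * v * s = u * (v * s) := by group
            _ = u * (s * v) := by rw [hv]
            _ = (u * s) * v := by group
            _ = (s * u) * v := by rw [hu]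
            _ = s * (u * v) := by group
        | inv u _ hu =>
          calc u⁻¹ * s = u⁻¹ * (s * u) * u⁻¹ := by group
            _ = u⁻¹ * (u * s) * u⁻¹ := by rw [hu]
            _ = s * u⁻¹ := by group
      have := hle hx
      rw [Subgroup.mem_centralizer_iff] at this
      exact (this y hy).symm
    intro a b
    exact Subtype.ext (hcl a a.2 b b.2)
  apply component_centralizes hL hsolv (hLE.trans (layer_le_normalizer_PT d)) (hT.sq d hd)
  intro l hl
  apply Subgroup.subset_closure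
  exact ⟨d, mem_orb_self d, l * d * l⁻¹, ⟨l, hLE hl, rfl⟩, rfl⟩

theorem layer_eq_bot_of_three [Finite G] {D : Set G} (hD : Cfsg.IsThreeTranspositionClass D)
    (h3 : ¬ Cfsg.pCore 3 G ≤ Subgroup.center G) : Cfsg.layer G = ⊥ := by
  haveI : Fact (Nat.Prime 3) := ⟨by norm_num⟩
  by_contra hne
  obtain ⟨L, hL⟩ := exists_component_of_layer_ne_bot hne
  have hT := tt3_of_class hD
  have hLE : L ≤ Cfsg.layer G := Cfsg.Agent.Helper2.component_le_layer hL
  apply component_not_central hD.2.2 hL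
  intro d hd
  have hw : ∀ a ∈ orb d, ∀ b ∈ orb d, Commute a b → a = b := by
    rintro a ⟨l₁, hl₁, rfl⟩ b ⟨l₂, hl₂, rfl⟩ hc
    have e : l₂ * l₁⁻¹ * (l₁ * d * l₁⁻¹) * (l₂ * l₁⁻¹)⁻¹ = l₂ * d * l₂⁻¹ := by group
    have := eq_of_commute_layer_conj_three hD h3 (hT.conj l₁ d hd)
      (Subgroup.mul_mem _ hl₂ (Subgroup.inv_mem _ hl₁)) (by rw [e]; exact hc)
    rw [e] at this
    exact this.symm
  obtain ⟨N, hN3, hN⟩ := prod_three_of_width_one hT (orb_subset hT hd)
    (fun a ha w hw' => orb_conj_mem hT hd ha hw') hw (mem_orb_self d)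
  have hPT3 : IsPGroup 3 (PT d) := by
    apply hN3.to_le
    unfold PT
    rw [Subgroup.closure_le]
    rintro x ⟨a, ha, b, hb, rfl⟩
    exact hN a ha b hb
  have hsolv : Group.IsSolvable ↥(PT d) := by
    haveI : Group.IsNilpotent ↥(PT d) := hPT3.isNilpotent
    infer_instance
  apply component_centralizes hL hsolv (hLE.trans (layer_le_normalizer_PT d)) (hT.sq d hd)
  intro l hl
  apply Subgroup.subset_closure
  exact ⟨d, mem_orb_self d, l * d * l⁻¹, ⟨l, hLE hl, rfl⟩, rfl⟩

theorem not_both [Finite G] {D : Set G} (hD : Cfsg.IsThreeTranspositionClass D)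
    (hD2 : ∃ a ∈ D, ∃ b ∈ D, a ≠ b) (h2 : ¬ Cfsg.pCore 2 G ≤ Subgroup.center G)
    (h3 : ¬ Cfsg.pCore 3 G ≤ Subgroup.center G) : False := by
  have hT := tt3_of_class hD
  obtain ⟨d, hd, -⟩ := hD2
  obtain ⟨x, hx, hne⟩ := noncentral_move hD (Cfsg.pCore 2 G) h2 hd
  obtain ⟨x', hx', hne'⟩ := noncentral_move hD (Cfsg.pCore 3 G) h3 hd
  have hS := (Cfsg.Agent.Helper5.ThreeTrans.main_S5349 hD ⟨d, hd, x * d * x⁻¹, hT.conj x d hd,
    fun h => hne h.symm⟩ hd).2
  have hv : x * d * x⁻¹ ∈ {v : G | v ∈ D ∧ ∀ e ∈ D, Commute v e ↔ Commute d e} := by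
    rw [hS]; exact ⟨x, hx, rfl⟩
  have hS' := (main_W hT hd).2
  have hw : x' * d * x'⁻¹ ∈ {w : G | w ∈ D ∧ {y : G | y ∈ D ∧ y ≠ d ∧ Commute d y} =
        {y : G | y ∈ D ∧ y ≠ w ∧ Commute w y}} := by
    rw [hS']; exact ⟨x', hx', rfl⟩
  rcases Cfsg.Agent.S5348.result (group_of_class hD) hd with h | h
  · rw [h] at hv
    exact hne hv
  · rw [h] at hw
    exact hne' hw

theorem layer_ne_bot_of_central [Finite G] {D : Set G} (hD : Cfsg.IsThreeTranspositionClass D)
    (hD2 : ∃ a ∈ D, ∃ b ∈ D, a ≠ b) (h2 : Cfsg.pCore 2 G ≤ Subgroup.center G)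
    (h3 : Cfsg.pCore 3 G ≤ Subgroup.center G) : Cfsg.layer G ≠ ⊥ := by
  intro hE
  have hF : Cfsg.fittingSubgroup G ≤ Subgroup.center G := by
    rw [Cfsg.Agent.Helper1.fittingSubgroup_eq_fitJoin]
    unfold Cfsg.Agent.Helper1.fitJoin
    apply iSup_le
    intro p
    by_cases hp2 : (p : ℕ) = 2
    · rw [hp2]; exact h2
    by_cases hp3 : (p : ℕ) = 3
    · rw [hp3]; exact h3
    · apply pCore_le_center_of_gt_three hD p.2
      have := p.2.two_le
      omega
  have hcen := Cfsg.Agent.Helper2.center_eq_top_of_fitting_layer_central hF (by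
    intro K hK
    have := Cfsg.Agent.Helper2.component_le_layer hK
    rw [hE] at this
    exact this.trans bot_le)
  -- `G` is abelian, so the class is a singleton
  obtain ⟨a, ha, b, hb, hab⟩ := hD2
  obtain ⟨c, hc⟩ := exists_conj_of_class hD ha hb
  apply hab
  have hcc : c ∈ Subgroup.center G := by rw [hcen]; exact Subgroup.mem_top c
  rw [Subgroup.mem_center_iff] at hcc
  rw [hc, ← hcc a, mul_assoc, mul_inv_cancel, mul_one]

theorem main_F [Finite G] {D : Set G} (hD : Cfsg.IsThreeTranspositionClass D)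
    (hD2 : ∃ a ∈ D, ∃ b ∈ D, a ≠ b) :
    (∀ p : ℕ, p.Prime → 3 < p → Cfsg.pCore p G ≤ Subgroup.center G) ∧
    ((¬ Cfsg.pCore 2 G ≤ Subgroup.center G ∧ Cfsg.pCore 3 G ≤ Subgroup.center G ∧
        Cfsg.layer G = ⊥) ∨
      (Cfsg.pCore 2 G ≤ Subgroup.center G ∧ ¬ Cfsg.pCore 3 G ≤ Subgroup.center G ∧
        Cfsg.layer G = ⊥) ∨
      (Cfsg.pCore 2 G ≤ Subgroup.center G ∧ Cfsg.pCore 3 G ≤ Subgroup.center G ∧
        Cfsg.layer G ≠ ⊥)) := by
  refine ⟨fun p hp hp3 => pCore_le_center_of_gt_three hD hp hp3, ?_⟩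
  by_cases h2 : Cfsg.pCore 2 G ≤ Subgroup.center G
  · by_cases h3 : Cfsg.pCore 3 G ≤ Subgroup.center G
    · right; right
      exact ⟨h2, h3, layer_ne_bot_of_central hD hD2 h2 h3⟩
    · right; left
      exact ⟨h2, h3, layer_eq_bot_of_three hD h3⟩
  · left
    refine ⟨h2, ?_, layer_eq_bot_of_two hD hD2 h2⟩
    by_contra h3
    exact not_both hD hD2 h2 h3

end Cfsg.Agent.Lead.TTF
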