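import Mathlib
import Cfsg.Agent.Lead.ThreeTransF
import Cfsg.Agent.Helper2.Conj
import Cfsg.Agent.Helper2.Quasisimple
import Cfsg.Agent.Helper4.ExpSixB

set_option autoImplicit false

/-!
# 3-transposition classes with `O₂`, `O₃` central: `F*(G) = L Z(G)` with `L` quasisimple
-/

namespace Cfsg.Agent.Lead.TTG

open Cfsg.Agent.Lead.TTW Cfsg.Agent.Lead.TTS4 Cfsg.Agent.Lead.TTF

open scoped commutatorElement

variable {G : Type*} [Group G]

/-- the orbit of `d` under `E` -/
def orbE (E : Subgroup G) (d : G) : Set G := {t | ∃ l ∈ E, t = l * d * l⁻¹}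

/-- the subgroup generated by the products of two members of the orbit -/
def PTE (E : Subgroup G) (d : G) : Subgroup G :=
  Subgroup.closure {x | ∃ a ∈ orbE E d, ∃ b ∈ orbE E d, x = a * b}

theorem mem_orbE_self (E : Subgroup G) (d : G) : d ∈ orbE E d :=
  ⟨1, Subgroup.one_mem _, by group⟩

theorem orbE_conj {E : Subgroup G} {d t l : G} (ht : t ∈ orbE E d) (hl : l ∈ E) :
    l * t * l⁻¹ ∈ orbE E d := by
  obtain ⟨l₁, hl₁, rfl⟩ := ht
  exact ⟨l * l₁, Subgroup.mul_mem _ hl hl₁, by group⟩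

theorem le_normalizer_PTE (E : Subgroup G) (d : G) :
    E ≤ Subgroup.normalizer ((PTE E d : Subgroup G) : Set G) := by
  intro l hl
  have key : ∀ l ∈ E, ∀ x ∈ PTE E d, l * x * l⁻¹ ∈ PTE E d := by
    intro l hl x hx
    unfold PTE at hx ⊢
    induction hx using Subgroup.closure_induction with
    | mem x hx =>
      obtain ⟨a, ha, b, hb, rfl⟩ := hx
      apply Subgroup.subset_closure
      exact ⟨l * a * l⁻¹, orbE_conj ha hl, l * b * l⁻¹, orbE_conj hb hl, by group⟩
    | one => simp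
    | mul x y _ _ hx hy =>
      have e1 : l * (x * y) * l⁻¹ = (l * x * l⁻¹) * (l * y * l⁻¹) := by group
      rw [e1]; exact Subgroup.mul_mem _ hx hy
    | inv x _ hx =>
      have e1 : l * x⁻¹ * l⁻¹ = (l * x * l⁻¹)⁻¹ := by group
      rw [e1]; exact Subgroup.inv_mem _ hx
  rw [Subgroup.mem_set_normalizer_iff]
  intro x
  constructor
  · intro hx
    exact key l hl x hx
  · intro hx
    have := key l⁻¹ (Subgroup.inv_mem _ hl) _ hx
    have e : l⁻¹ * (l * x * l⁻¹) * l⁻¹⁻¹ = x := by group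
    rwa [e] at this

theorem orbE_conj_mem {E : Subgroup G} (hn : E.Normal) {d a w : G} (ha : a ∈ orbE E d)
    (hw : w ∈ orbE E d) : a * w * a⁻¹ ∈ orbE E d := by
  obtain ⟨l₁, hl₁, rfl⟩ := ha
  obtain ⟨l₂, hl₂, rfl⟩ := hw
  refine ⟨l₁ * (d * (l₁⁻¹ * l₂) * d⁻¹), ?_, ?_⟩
  · exact Subgroup.mul_mem _ hl₁
      (hn.conj_mem _ (Subgroup.mul_mem _ (Subgroup.inv_mem _ hl₁) hl₂) d)
  · group

theorem orbE_subset {D : Set G} (hT : TT3 D) (E : Subgroup G) {d : G} (hd : d ∈ D) :
    orbE E d ⊆ D := by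
  rintro t ⟨l, _, rfl⟩
  exact hT.conj l d hd

theorem PTE_le {E : Subgroup G} (hn : E.Normal) {D : Set G} (hT : TT3 D) {d : G} (hd : d ∈ D) :
    PTE E d ≤ E := by
  unfold PTE
  rw [Subgroup.closure_le]
  rintro x ⟨a, ⟨l₁, hl₁, rfl⟩, b, ⟨l₂, hl₂, rfl⟩, rfl⟩
  have e : l₁ * d * l₁⁻¹ * (l₂ * d * l₂⁻¹) = l₁ * (d * (l₁⁻¹ * l₂) * d⁻¹) * l₂⁻¹ := by
    rw [hT.inv hd]; group
  rw [e]
  exact Subgroup.mul_mem _ (Subgroup.mul_mem _ hl₁
    (hn.conj_mem _ (Subgroup.mul_mem _ (Subgroup.inv_mem _ hl₁) hl₂) d)) (Subgroup.inv_mem _ hl₂)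

/-- a subgroup generated by pairwise commuting elements is solvable -/
theorem isSolvable_closure_of_comm {S : Set G} (h : ∀ x ∈ S, ∀ y ∈ S, x * y = y * x) :
    Group.IsSolvable ↥(Subgroup.closure S) := by
  apply Group.isSolvable_of_comm
  have hcl : ∀ x ∈ Subgroup.closure S, ∀ y ∈ Subgroup.closure S, x * y = y * x := by
    intro x hx y hy
    have hle : Subgroup.closure S ≤ Subgroup.centralizer ((Subgroup.closure S : Subgroup G) : Set G) := by
      rw [Subgroup.closure_le]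
      intro s hs
      rw [SetLike.mem_coe, Subgroup.mem_centralizer_iff]
      intro t ht
      induction ht using Subgroup.closure_induction with
      | mem t ht => exact h t ht s hs
      | one => rw [one_mul, mul_one]
      | mul u v _ _ hu hv =>
        calc u * v * s = u * (v * s) := by group
          _ = u * (s * v) := by rw [hv]
          _ = (u * s) * v := by group
          _ = (s * u) * v := by rw [hu]
          _ = s * (u * v) := by group
      | inv u _ hu =>
        calc u⁻¹ * s = u⁻¹ * (s * u) * u⁻¹ := by group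
          _ = u⁻¹ * (u * s) * u⁻¹ := by rw [hu]
          _ = s * u⁻¹ := by group
    have := hle hx
    rw [Subgroup.mem_centralizer_iff] at this
    exact (this y hy).symm
  intro a b
  exact Subtype.ext (hcl a a.2 b b.2)

/-- if `PTE L d` is solvable then the component `L` centralizes `d` -/
theorem centralizes_of_solvable_PTE {L : Subgroup G} (hL : Cfsg.IsComponent L) {d : G}
    (hd : d * d = 1) (hsolv : Group.IsSolvable ↥(PTE L d)) : ∀ l ∈ L, d * l = l * d := by
  apply component_centralizes hL hsolv (le_normalizer_PTE L d) hd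
  intro l hl
  apply Subgroup.subset_closure
  exact ⟨d, mem_orbE_self L d, l * d * l⁻¹, ⟨l, hl, rfl⟩, rfl⟩

/-- a normal component is centralized by no member of the class -/
theorem not_centralizes {D : Set G} (hD : Cfsg.IsThreeTranspositionClass D) {L : Subgroup G}
    (hL : Cfsg.IsComponent L) (hLn : L.Normal) {d : G} (hd : d ∈ D)
    (h : ∀ l ∈ L, d * l = l * d) : False := by
  apply component_not_central hD.2.2 hL
  intro e he l hl
  obtain ⟨c, rfl⟩ := exists_conj_of_class hD hd he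
  have h1 := h (c⁻¹ * l * c) (by
    have := hLn.conj_mem l hl c⁻¹
    rwa [inv_inv] at this)
  calc c * d * c⁻¹ * l = c * (d * (c⁻¹ * l * c)) * c⁻¹ := by group
    _ = c * ((c⁻¹ * l * c) * d) * c⁻¹ := by rw [h1]
    _ = l * (c * d * c⁻¹) := by group

theorem conj_pair_commute_iff (d l₁ l₂ : G) :
    Commute (l₁ * d * l₁⁻¹) (l₂ * d * l₂⁻¹) ↔
      Commute d ((l₁⁻¹ * l₂) * d * (l₁⁻¹ * l₂)⁻¹) := by
  rw [commute_conj_iff']
  have e : l₁⁻¹ * (l₂ * d * l₂⁻¹) * l₁ = (l₁⁻¹ * l₂) * d * (l₁⁻¹ * l₂)⁻¹ := by group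
  rw [e]

theorem exists_noncommuting_conj {D : Set G} (hD : Cfsg.IsThreeTranspositionClass D)
    {L : Subgroup G} (hL : Cfsg.IsComponent L) (hLn : L.Normal) {d : G} (hd : d ∈ D) :
    ∃ l ∈ L, ¬ Commute d (l * d * l⁻¹) := by
  by_contra hcon
  push Not at hcon
  have hT := tt3_of_class hD
  have hcomm : ∀ a ∈ orbE L d, ∀ b ∈ orbE L d, Commute a b := by
    rintro a ⟨l₁, hl₁, rfl⟩ b ⟨l₂, hl₂, rfl⟩
    rw [conj_pair_commute_iff]
    exact hcon _ (Subgroup.mul_mem _ (Subgroup.inv_mem _ hl₁) hl₂)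
  have hsolv : Group.IsSolvable ↥(PTE L d) := by
    apply isSolvable_closure_of_comm
    rintro x ⟨a, ha, b, hb, rfl⟩ y ⟨a', ha', b', hb', rfl⟩
    have c1 := (hcomm a ha a' ha').eq
    have c2 := (hcomm a ha b' hb').eq
    have c3 := (hcomm b hb a' ha').eq
    have c4 := (hcomm b hb b' hb').eq
    calc a * b * (a' * b') = a * (b * a') * b' := by group
      _ = a * (a' * b) * b' := by rw [c3]
      _ = (a * a') * (b * b') := by group
      _ = (a' * a) * (b' * b) := by rw [c1, c4]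
      _ = a' * (a * b') * b := by group
      _ = a' * (b' * a) * b := by rw [c2]
      _ = a' * b' * (a * b) := by group
  exact not_centralizes hD hL hLn hd (centralizes_of_solvable_PTE hL (hT.sq d hd) hsolv)

theorem exists_commuting_conj [Finite G] {D : Set G} (hD : Cfsg.IsThreeTranspositionClass D)
    {L : Subgroup G} (hL : Cfsg.IsComponent L) (hLn : L.Normal) {d : G} (hd : d ∈ D) :
    ∃ l ∈ L, l * d * l⁻¹ ≠ d ∧ Commute d (l * d * l⁻¹) := by
  haveI : Fact (Nat.Prime 3) := ⟨by norm_num⟩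
  by_contra hcon
  push Not at hcon
  have hT := tt3_of_class hD
  have hw : ∀ a ∈ orbE L d, ∀ b ∈ orbE L d, Commute a b → a = b := by
    rintro a ⟨l₁, hl₁, rfl⟩ b ⟨l₂, hl₂, rfl⟩ hc
    rw [conj_pair_commute_iff] at hc
    have hmem : l₁⁻¹ * l₂ ∈ L := Subgroup.mul_mem _ (Subgroup.inv_mem _ hl₁) hl₂
    have := not_not.mp (fun hne => hcon _ hmem hne hc)
    -- `(l₁⁻¹ l₂) d (l₁⁻¹ l₂)⁻¹ = d`
    calc l₁ * d * l₁⁻¹ = l₁ * ((l₁⁻¹ * l₂) * d * (l₁⁻¹ * l₂)⁻¹) * l₁⁻¹ := by rw [this]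
      _ = l₂ * d * l₂⁻¹ := by group
  obtain ⟨N, hN3, hN⟩ := prod_three_of_width_one hT (orbE_subset hT L hd)
    (fun a ha w hw' => orbE_conj_mem hLn ha hw') hw (mem_orbE_self L d)
  have hPT3 : IsPGroup 3 (PTE L d) := by
    apply hN3.to_le
    unfold PTE
    rw [Subgroup.closure_le]
    rintro x ⟨a, ha, b, hb, rfl⟩
    exact hN a ha b hb
  have hsolv : Group.IsSolvable ↥(PTE L d) := by
    haveI : Group.IsNilpotent ↥(PTE L d) := hPT3.isNilpotent
    infer_instance
  exact not_centralizes hD hL hLn hd (centralizes_of_solvable_PTE hL (hT.sq d hd) hsolv)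

/-- every member of the class normalizes every component -/
theorem mem_normalizer_component [Finite G] {D : Set G} (hD : Cfsg.IsThreeTranspositionClass D)
    {L : Subgroup G} (hL : Cfsg.IsComponent L) {d : G} (hd : d ∈ D) :
    d ∈ Subgroup.normalizer (L : Set G) := by
  by_contra hn
  have hT := tt3_of_class hD
  rw [Cfsg.Agent.Helper2.mem_normalizer_iff_cj] at hn
  have hL' := Cfsg.Agent.Helper2.isComponent_cj hL d
  have hcomm := Cfsg.Agent.Helper2.components_commute hL' hL hn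
  rw [Subgroup.commutator_eq_bot_iff_le_centralizer] at hcomm
  have hcm : ∀ x ∈ Cfsg.Agent.Helper2.cj d L, ∀ m ∈ L, m * x = x * m := by
    intro x hx m hm
    have := hcomm hx
    rw [Subgroup.mem_centralizer_iff] at this
    exact this m hm
  have hdi : d⁻¹ = d := hT.inv hd
  -- sixth powers are central in `L`
  have key : ∀ l ∈ L, ∀ m ∈ L, l ^ 6 * m = m * l ^ 6 := by
    intro l hl m hm
    have hl' : d * l * d⁻¹ ∈ Cfsg.Agent.Helper2.cj d L := Cfsg.Agent.Helper2.conj_mem_cj L d l hl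
    have hprod : d * (l * d * l⁻¹) = (d * l * d⁻¹) * l⁻¹ := by
      rw [hdi]; group
    have hc : Commute (d * l * d⁻¹) l⁻¹ := (hcm _ hl' _ (Subgroup.inv_mem _ hl)).symm
    have hpow : ∀ n : ℕ, (d * (l * d * l⁻¹)) ^ n = 1 → ∀ m ∈ L, l ^ n * m = m * l ^ n := by
      intro n hn1 m hm
      rw [hprod, hc.mul_pow, inv_pow, mul_inv_eq_one] at hn1
      rw [← hn1]
      have : (d * l * d⁻¹) ^ n ∈ Cfsg.Agent.Helper2.cj d L := Subgroup.pow_mem _ hl' n
      exact (hcm _ this m hm).symm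
    have heD : l * d * l⁻¹ ∈ D := hT.conj l d hd
    by_cases hcd : Commute d (l * d * l⁻¹)
    · have h2 := (commute_iff_sq (hT.sq d hd) (hT.sq _ heD)).mp hcd
      have hc2 : Commute (l ^ 2) m := hpow 2 h2 m hm
      have : l ^ 6 = (l ^ 2) ^ 3 := by rw [← pow_mul]
      rw [this]
      exact (hc2.pow_left 3).eq
    · have h3 := hT.cube d hd _ heD hcd
      have hc3 : Commute (l ^ 3) m := hpow 3 h3 m hm
      have : l ^ 6 = (l ^ 3) ^ 2 := by rw [← pow_mul]
      rw [this]
      exact (hc3.pow_left 2).eq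
  -- so `L / Z(L)` has exponent dividing six
  have h6 : ∀ x : ↥L ⧸ Subgroup.center ↥L, x ^ 6 = 1 := by
    intro x
    induction x using QuotientGroup.induction_on with
    | H y =>
      rw [← QuotientGroup.mk_pow, QuotientGroup.eq_one_iff, Subgroup.mem_center_iff]
      intro g
      apply Subtype.ext
      simp only [Subgroup.coe_mul, Subgroup.coe_pow]
      exact (key y y.2 g g.2).symm
  haveI hs1 : Group.IsSolvable (↥L ⧸ Subgroup.center ↥L) :=
    Cfsg.Agent.Helper4.ExpSix.isSolvable_of_exp_six h6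
  haveI hs0 : Group.IsSolvable ↥(Subgroup.center ↥L) :=
    Group.isSolvable_of_comm (fun a b => Subtype.ext (Subgroup.mem_center_iff.mp b.2 a))
  have hs : Group.IsSolvable ↥L := by
    apply solvable_of_ker_le_range (Subgroup.center ↥L).subtype
      (QuotientGroup.mk' (Subgroup.center ↥L))
    rw [QuotientGroup.ker_mk', Subgroup.range_subtype]
  exact Cfsg.Agent.Helper2.component_not_solvable hL hs

theorem component_normal [Finite G] {D : Set G} (hD : Cfsg.IsThreeTranspositionClass D)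
    {L : Subgroup G} (hL : Cfsg.IsComponent L) : L.Normal := by
  rw [← Subgroup.normalizer_eq_top_iff, eq_top_iff, ← hD.2.2, Subgroup.closure_le]
  intro d hd
  exact mem_normalizer_component hD hL hd

theorem component_unique [Finite G] {D : Set G} (hD : Cfsg.IsThreeTranspositionClass D)
    (hD2 : ∃ a ∈ D, ∃ b ∈ D, a ≠ b) {L K : Subgroup G} (hL : Cfsg.IsComponent L)
    (hK : Cfsg.IsComponent K) : K = L := by
  by_contra hne
  have hT := tt3_of_class hD
  have hLn := component_normal hD hL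
  have hKn := component_normal hD hK
  obtain ⟨d, hd, -⟩ := hD2
  have hdi : d⁻¹ = d := hT.inv hd
  obtain ⟨l, hl, hnc⟩ := exists_noncommuting_conj hD hL hLn hd
  obtain ⟨k, hk, hkne, hkc⟩ := exists_commuting_conj hD hK hKn hd
  have hcomm := Cfsg.Agent.Helper2.components_commute hK hL hne
  rw [Subgroup.commutator_eq_bot_iff_le_centralizer] at hcomm
  have hcm : ∀ x ∈ K, ∀ m ∈ L, m * x = x * m := by
    intro x hx m hm
    have := hcomm hx
    rw [Subgroup.mem_centralizer_iff] at this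
    exact this m hm
  -- `u = d e ∈ L`, `v = d f ∈ K`
  have huL : (d * l * d⁻¹) * l⁻¹ ∈ L :=
    Subgroup.mul_mem _ (hLn.conj_mem l hl d) (Subgroup.inv_mem _ hl)
  have hvK : (d * k * d⁻¹) * k⁻¹ ∈ K :=
    Subgroup.mul_mem _ (hKn.conj_mem k hk d) (Subgroup.inv_mem _ hk)
  have hu : d * (l * d * l⁻¹) = (d * l * d⁻¹) * l⁻¹ := by rw [hdi]; group
  have hv : d * (k * d * k⁻¹) = (d * k * d⁻¹) * k⁻¹ := by rw [hdi]; group
  have hg : d * ((l * k) * d * (l * k)⁻¹) = (d * (l * d * l⁻¹)) * (d * (k * d * k⁻¹)) := by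
    have h1 : l⁻¹ * ((d * k * d⁻¹) * k⁻¹) = ((d * k * d⁻¹) * k⁻¹) * l⁻¹ :=
      hcm _ hvK _ (Subgroup.inv_mem _ hl)
    rw [hu, hv]
    calc d * ((l * k) * d * (l * k)⁻¹) = d * ((l * k) * d⁻¹ * (l * k)⁻¹) := by rw [hdi]
      _ = (d * l * d⁻¹) * (((d * k * d⁻¹) * k⁻¹) * l⁻¹) := by group
      _ = (d * l * d⁻¹) * (l⁻¹ * ((d * k * d⁻¹) * k⁻¹)) := by rw [h1]
      _ = (d * l * d⁻¹) * l⁻¹ * ((d * k * d⁻¹) * k⁻¹) := by group
  have huv : Commute (d * (l * d * l⁻¹)) (d * (k * d * k⁻¹)) := by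
    rw [hu, hv]
    exact hcm _ hvK _ huL
  have heD : l * d * l⁻¹ ∈ D := hT.conj l d hd
  have hfD : k * d * k⁻¹ ∈ D := hT.conj k d hd
  have hgD : (l * k) * d * (l * k)⁻¹ ∈ D := hT.conj (l * k) d hd
  have hu3 : (d * (l * d * l⁻¹)) ^ 3 = 1 := hT.cube d hd _ heD hnc
  have hv2 : (d * (k * d * k⁻¹)) ^ 2 = 1 := (commute_iff_sq (hT.sq d hd) (hT.sq _ hfD)).mp hkc
  by_cases hcg : Commute d ((l * k) * d * (l * k)⁻¹)
  · have h2 := (commute_iff_sq (hT.sq d hd) (hT.sq _ hgD)).mp hcg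
    rw [hg, huv.mul_pow, hv2, mul_one] at h2
    exact hnc ((commute_iff_sq (hT.sq d hd) (hT.sq _ heD)).mpr h2)
  · have h3 := hT.cube d hd _ hgD hcg
    rw [hg, huv.mul_pow, hu3, one_mul] at h3
    -- `v ^ 3 = 1` and `v ^ 2 = 1` give `v = 1`
    have hv1 : d * (k * d * k⁻¹) = 1 := by
      have : (d * (k * d * k⁻¹)) ^ 3 = (d * (k * d * k⁻¹)) ^ 2 * (d * (k * d * k⁻¹)) := pow_succ _ 2
      rw [h3, hv2, one_mul] at this
      exact this.symm
    have : d = (k * d * k⁻¹)⁻¹ := eq_inv_of_mul_eq_one_left hv1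
    rw [hT.inv hfD] at this
    exact hkne this.symm

theorem fitting_eq_center [Finite G] {D : Set G} (hD : Cfsg.IsThreeTranspositionClass D)
    (h2 : Cfsg.pCore 2 G ≤ Subgroup.center G) (h3 : Cfsg.pCore 3 G ≤ Subgroup.center G) :
    Cfsg.fittingSubgroup G = Subgroup.center G := by
  apply le_antisymm
  · rw [Cfsg.Agent.Helper1.fittingSubgroup_eq_fitJoin]
    unfold Cfsg.Agent.Helper1.fitJoin
    apply iSup_le
    intro p
    by_cases hp2 : (p : ℕ) = 2
    · rw [hp2]; exact h2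
    by_cases hp3 : (p : ℕ) = 3
    · rw [hp3]; exact h3
    · apply pCore_le_center_of_gt_three hD p.2
      have := p.2.two_le
      omega
  · apply Cfsg.Agent.Helper1.le_fittingSubgroup inferInstance
    open scoped IsMulCommutative in infer_instance

/-- the image of the class in `G / L` has width one -/
theorem width_one_mod [Finite G] {D : Set G} (hD : Cfsg.IsThreeTranspositionClass D)
    {L : Subgroup G} (hL : Cfsg.IsComponent L) (hLn : L.Normal) {a b : G} (ha : a ∈ D)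
    (hb : b ∈ D) (hab : a * b * a⁻¹ * b⁻¹ ∈ L) : a⁻¹ * b ∈ L := by
  by_contra hnot
  have hT := tt3_of_class hD
  have hai : a⁻¹ = a := hT.inv ha
  have hbi : b⁻¹ = b := hT.inv hb
  -- `b` commutes with every `L`-conjugate of `a`
  have hbc : ∀ l ∈ L, Commute b (l * a * l⁻¹) := by
    intro l hl
    by_contra hnc
    have hcD : l * a * l⁻¹ ∈ D := hT.conj l a ha
    have h3 := hT.cube b hb _ hcD hnc
    set m := (a⁻¹ * l * a) * l⁻¹ with hm
    have hmL : m ∈ L := by
      have := hLn.conj_mem l hl a⁻¹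
      rw [inv_inv] at this
      exact Subgroup.mul_mem _ this (Subgroup.inv_mem _ hl)
    have hc : l * a * l⁻¹ = a * m := by rw [hm]; group
    have hsq : (b * (l * a * l⁻¹)) ^ 2 ∈ L := by
      have e : (b * (l * a * l⁻¹)) ^ 2 =
          (a * b * a⁻¹ * b⁻¹)⁻¹ * (a * ((b * m * b⁻¹) * m⁻¹) * a⁻¹) := by
        rw [sq, hc]
        have : b * (a * m) * (b * (a * m)) = b * (a * m) * (b⁻¹ * (a * m)⁻¹) := by
          have h1 : (a * m)⁻¹ = a * m := by
            rw [← hc]; exact hT.inv hcD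
          rw [hbi, h1]
        rw [this]; group
      rw [e]
      exact Subgroup.mul_mem _ (Subgroup.inv_mem _ hab)
        (hLn.conj_mem _ (Subgroup.mul_mem _ (hLn.conj_mem m hmL b) (Subgroup.inv_mem _ hmL)) a)
    have hbcL : b * (l * a * l⁻¹) ∈ L := by
      have e : b * (l * a * l⁻¹) = ((b * (l * a * l⁻¹)) ^ 2)⁻¹ := by
        rw [eq_inv_iff_mul_eq_one, ← pow_succ']
        exact h3
      rw [e]
      exact Subgroup.inv_mem _ hsq
    apply hnot
    -- `b a ∈ L` hence `a b ∈ L`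
    have hba : b * a ∈ L := by
      have e : b * a = (b * (l * a * l⁻¹)) * m⁻¹ := by rw [hc]; group
      rw [e]
      exact Subgroup.mul_mem _ hbcL (Subgroup.inv_mem _ hmL)
    have e : a⁻¹ * b = (b * a)⁻¹ := by rw [mul_inv_rev, hbi]
    rw [e]
    exact Subgroup.inv_mem _ hba
  -- so `b` centralizes `PTE L a`
  have hbP : ∀ x ∈ PTE L a, b * x = x * b := by
    intro x hx
    unfold PTE at hx
    induction hx using Subgroup.closure_induction with
    | mem x hx =>
      obtain ⟨s, ⟨l₁, hl₁, rfl⟩, t, ⟨l₂, hl₂, rfl⟩, rfl⟩ := hx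
      have c1 := (hbc l₁ hl₁).eq
      have c2 := (hbc l₂ hl₂).eq
      calc b * (l₁ * a * l₁⁻¹ * (l₂ * a * l₂⁻¹)) = (b * (l₁ * a * l₁⁻¹)) * (l₂ * a * l₂⁻¹) := by
            group
        _ = (l₁ * a * l₁⁻¹) * (b * (l₂ * a * l₂⁻¹)) := by rw [c1]; group
        _ = (l₁ * a * l₁⁻¹) * ((l₂ * a * l₂⁻¹) * b) := by rw [c2]
        _ = l₁ * a * l₁⁻¹ * (l₂ * a * l₂⁻¹) * b := by group
    | one => rw [one_mul, mul_one]
    | mul u v _ _ hu hv =>
      calc b * (u * v) = (b * u) * v := by group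
        _ = (u * b) * v := by rw [hu]
        _ = u * (b * v) := by group
        _ = u * (v * b) := by rw [hv]
        _ = u * v * b := by group
    | inv u _ hu =>
      calc b * u⁻¹ = u⁻¹ * (u * b) * u⁻¹ := by group
        _ = u⁻¹ * (b * u) * u⁻¹ := by rw [hu]
        _ = u⁻¹ * b := by group
  -- `PTE L a` is a normal subgroup of the quasisimple group `L`
  have hPle : PTE L a ≤ L := PTE_le hLn hT ha
  have hPn : ((PTE L a).subgroupOf L).Normal :=
    (Subgroup.normal_subgroupOf_iff_le_normalizer hPle).mpr (le_normalizer_PTE L a)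
  rcases Cfsg.Agent.Helper2.isSubnormal_quasisimple hL.2 _ hPn.isSubnormal with htop | hcen
  · -- `L ≤ PTE L a`, so `b` centralizes `L`
    apply not_centralizes hD hL hLn hb
    intro l hl
    have : (⟨l, hl⟩ : L) ∈ (PTE L a).subgroupOf L := by rw [htop]; exact Subgroup.mem_top _
    rw [Subgroup.mem_subgroupOf] at this
    exact hbP l this
  · -- `PTE L a` is central in `L`, hence abelian, so `a` centralizes `L`
    have hcomm : ∀ x ∈ PTE L a, ∀ y ∈ PTE L a, x * y = y * x := by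
      intro x hx y hy
      have hxc : (⟨x, hPle hx⟩ : L) ∈ Subgroup.center ↥L := hcen (by
        rw [Subgroup.mem_subgroupOf]; exact hx)
      rw [Subgroup.mem_center_iff] at hxc
      have := congrArg Subtype.val (hxc ⟨y, hPle hy⟩)
      simp only [Subgroup.coe_mul] at this
      exact this.symm
    have hsolv : Group.IsSolvable ↥(PTE L a) := by
      apply Group.isSolvable_of_comm
      intro x y
      exact Subtype.ext (hcomm x x.2 y y.2)
    exact not_centralizes hD hL hLn ha (centralizes_of_solvable_PTE hL (hT.sq a ha) hsolv)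

theorem main_G [Finite G] {D : Set G} (hD : Cfsg.IsThreeTranspositionClass D)
    (hD2 : ∃ a ∈ D, ∃ b ∈ D, a ≠ b) (h2 : Cfsg.pCore 2 G ≤ Subgroup.center G)
    (h3 : Cfsg.pCore 3 G ≤ Subgroup.center G) :
    ∃ L : Subgroup G, L.Normal ∧ Cfsg.IsQuasisimple L ∧
      Cfsg.generalizedFittingSubgroup G = L ⊔ Subgroup.center G ∧
      (L = ⊤ ∨ ∀ a ∈ D, ∀ b ∈ D, a * b * a⁻¹ * b⁻¹ ∈ L → a⁻¹ * b ∈ L) := by
  obtain ⟨L, hL⟩ := exists_component_of_layer_ne_bot (layer_ne_bot_of_central hD hD2 h2 h3)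
  have hLn := component_normal hD hL
  have hlayer : Cfsg.layer G = L := by
    apply le_antisymm
    · unfold Cfsg.layer
      apply sSup_le
      intro K hK
      rw [component_unique hD hD2 hL hK]
    · exact Cfsg.Agent.Helper2.component_le_layer hL
  refine ⟨L, hLn, hL.2, ?_, Or.inr ?_⟩
  · unfold Cfsg.generalizedFittingSubgroup
    rw [hlayer, fitting_eq_center hD h2 h3]
  · intro a ha b hb hab
    exact width_one_mod hD hL hLn ha hb hab

end Cfsg.Agent.Lead.TTG
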