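import Mathlib
import Cfsg.Agent.Lead.ThreeTransG
import Cfsg.Agent.Helper2.Layer3

set_option autoImplicit false

/-!
# Primitivity of the conjugation action on a class of 3-transpositions
-/

namespace Cfsg.Agent.Lead.TTP

open Cfsg.Agent.Lead.TTW Cfsg.Agent.Lead.TTS4 Cfsg.Agent.Lead.TTF Cfsg.Agent.Lead.TTG

open scoped commutatorElement

variable {G : Type*} [Group G]

/-- a block in elementwise form -/
def Blk (B : Set G) : Prop :=
  ∀ g : G, g ∈ Subgroup.normalizer B ∨ ∀ x ∈ B, g * x * g⁻¹ ∉ B

theorem blk_of_image {B : Set G}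
    (h : ∀ g : G, (fun x => g * x * g⁻¹) '' B = B ∨ Disjoint ((fun x => g * x * g⁻¹) '' B) B) :
    Blk B := by
  intro g
  rcases h g with h1 | h1
  · left
    rw [Subgroup.mem_set_normalizer_iff]
    intro x
    constructor
    · intro hx
      rw [← h1]
      exact ⟨x, hx, rfl⟩
    · intro hx
      rw [← h1] at hx
      obtain ⟨y, hy, hyx⟩ := hx
      have : y = x := by
        have h2 : g * y * g⁻¹ = g * x * g⁻¹ := hyx
        exact mul_left_cancel (mul_right_cancel h2)
      rw [← this]; exact hy
  · right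
    intro x hx hgx
    exact (Set.disjoint_left.mp h1) ⟨x, hx, rfl⟩ hgx

theorem Blk.mem_normalizer {B : Set G} (hB : Blk B) {g x : G} (hx : x ∈ B)
    (hgx : g * x * g⁻¹ ∈ B) : g ∈ Subgroup.normalizer B := by
  rcases hB g with h | h
  · exact h
  · exact absurd hgx (h x hx)

theorem Blk.self_mem_normalizer {B : Set G} (hB : Blk B) {b : G} (hb : b ∈ B) :
    b ∈ Subgroup.normalizer B :=
  hB.mem_normalizer hb (by rw [mul_inv_cancel_right]; exact hb)

theorem conj_mem_of_mem_normalizer {B : Set G} {g x : G} (hg : g ∈ Subgroup.normalizer B)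
    (hx : x ∈ B) : g * x * g⁻¹ ∈ B :=
  ((Subgroup.mem_set_normalizer_iff.mp hg) x).mp hx

/-- intersecting conjugates of a block: the conjugating elements differ by the normalizer -/
theorem Blk.inv_mul_mem {B : Set G} (hB : Blk B) {g₁ g₂ y₁ y₂ : G} (h1 : y₁ ∈ B) (h2 : y₂ ∈ B)
    (h : g₁ * y₁ * g₁⁻¹ = g₂ * y₂ * g₂⁻¹) : g₂⁻¹ * g₁ ∈ Subgroup.normalizer B := by
  apply hB.mem_normalizer h1
  have e : g₂⁻¹ * g₁ * y₁ * (g₂⁻¹ * g₁)⁻¹ = g₂⁻¹ * (g₁ * y₁ * g₁⁻¹) * g₂ := by group
  rw [e, h]
  have e2 : g₂⁻¹ * (g₂ * y₂ * g₂⁻¹) * g₂ = y₂ := by group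
  rw [e2]; exact h2

/-- a member outside a block commutes with all or none of the block -/
theorem Blk.commute_all {D B : Set G} (hT : TT3 D) (hBD : B ⊆ D) (hB : Blk B) {a b c : G}
    (ha : a ∈ D) (haB : a ∉ B) (hb : b ∈ B) (hc : c ∈ B) (hab : Commute a b) : Commute a c := by
  by_contra hnc
  have haN : a ∈ Subgroup.normalizer B := by
    apply hB.mem_normalizer hb
    have : a * b * a⁻¹ = b := by rw [hab.eq]; group
    rw [this]; exact hb
  have h1 : a * c * a⁻¹ ∈ B := conj_mem_of_mem_normalizer haN hc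
  have hbr : a * c * a⁻¹ = c * a * c⁻¹ := by
    rw [hT.inv ha, hT.inv (hBD hc)]
    exact braid (hT.sq a ha) (hT.sq c (hBD hc)) (hT.cube a ha c (hBD hc) hnc)
  rw [hbr] at h1
  have hcN := hB.self_mem_normalizer hc
  exact haB (((Subgroup.mem_set_normalizer_iff.mp hcN) a).mpr h1)

/-- the product of two members of a block normalizes every conjugate of the block -/
theorem Blk.prod_mem_normalCore {D B : Set G} (hT : TT3 D) (hBD : B ⊆ D) (hB : Blk B) {b b' : G}
    (hb : b ∈ B) (hb' : b' ∈ B) : b * b' ∈ (Subgroup.normalizer B).normalCore := by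
  intro g
  -- we show `g (b b') g⁻¹` normalizes `B`
  have hbD := hBD hb
  have hb'D := hBD hb'
  set a := g⁻¹ * b * g with ha
  -- reformulate with `a = g⁻¹ b g`: we use `y = b` and the conjugate `g⁻¹ B g`
  -- direct approach: consider `c = g⁻¹`-conjugates
  by_cases hgN : g ∈ Subgroup.normalizer B
  · exact Subgroup.mul_mem _ (Subgroup.mul_mem _ hgN
      (Subgroup.mul_mem _ (hB.self_mem_normalizer hb) (hB.self_mem_normalizer hb')))
      (Subgroup.inv_mem _ hgN)
  · -- `g⁻¹` does not normalize `B` either, so `g⁻¹ y g ∉ B` for `y ∈ B`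
    have hginv : g⁻¹ ∉ Subgroup.normalizer B := fun h => hgN (by
      have := Subgroup.inv_mem _ h
      rwa [inv_inv] at this)
    have haB : a ∉ B := by
      intro haB
      apply hginv
      exact hB.mem_normalizer hb (by rw [inv_inv]; exact haB)
    have haD : a ∈ D := by
      have := hT.conj g⁻¹ b hbD
      rwa [inv_inv] at this
    -- `x = g (b b') g⁻¹`; we show it maps `b` ... use `a`-version: conjugate everything by `g⁻¹`
    -- It suffices: `(b b')` normalizes `g⁻¹ B g`, i.e. `g (b b') g⁻¹ ∈ N(B)`.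
    -- Work with the element `a' = g b g⁻¹`-free formulation below.
    by_cases hac : ∀ c ∈ B, Commute a c
    · -- `a` commutes with `b`, `b'`; then `g (b b') g⁻¹` fixes `b`
      apply hB.mem_normalizer hb
      have h1 : (b * b') * a = a * (b * b') := by
        rw [mul_assoc, (hac b' hb').eq.symm, ← mul_assoc, (hac b hb).eq.symm, mul_assoc]
      have e : g * (b * b') * g⁻¹ * b * (g * (b * b') * g⁻¹)⁻¹ =
          g * ((b * b') * a * (b * b')⁻¹) * g⁻¹ := by rw [ha]; group
      rw [e, h1]
      have e2 : g * (a * (b * b') * (b * b')⁻¹) * g⁻¹ = b := by rw [ha]; group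
      rw [e2]; exact hb
    · push Not at hac
      obtain ⟨c, hc, hnc⟩ := hac
      have hnone : ∀ c' ∈ B, ¬ Commute a c' := fun c' hc' hcc =>
        hnc (hB.commute_all hT hBD haD haB hc' hc hcc)
      -- `b a b⁻¹ = a b a⁻¹`, `b' a b'⁻¹ = a b' a⁻¹`
      have hbr : b * a * b⁻¹ = a * b * a⁻¹ := by
        rw [hT.inv hbD, hT.inv haD]
        exact braid (hT.sq b hbD) (hT.sq a haD)
          (hT.cube b hbD a haD (fun h => hnone b hb h.symm))
      have hbr' : b' * a * b'⁻¹ = a * b' * a⁻¹ := by
        rw [hT.inv hb'D, hT.inv haD]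
        exact braid (hT.sq b' hb'D) (hT.sq a haD)
          (hT.cube b' hb'D a haD (fun h => hnone b' hb' h.symm))
      -- `(b g⁻¹) b (b g⁻¹)⁻¹ = a b a⁻¹`
      have h1 : (b * g⁻¹) * b * (b * g⁻¹)⁻¹ = a * b * a⁻¹ := by
        rw [← hbr, ha]; group
      have h2 : (b' * g⁻¹) * b * (b' * g⁻¹)⁻¹ = a * b' * a⁻¹ := by
        rw [← hbr', ha]; group
      have m1 : a⁻¹ * (b * g⁻¹) ∈ Subgroup.normalizer B := hB.inv_mul_mem hb hb h1
      have m2 : a⁻¹ * (b' * g⁻¹) ∈ Subgroup.normalizer B := hB.inv_mul_mem hb hb' h2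
      have e : g * (b * b') * g⁻¹ = (a⁻¹ * (b * g⁻¹))⁻¹ * (a⁻¹ * (b' * g⁻¹)) := by
        have : (a⁻¹ * (b * g⁻¹))⁻¹ = g * b * a := by
          rw [mul_inv_rev, mul_inv_rev, inv_inv, inv_inv, hT.inv hbD]
        rw [this]; group
      rw [e]
      exact Subgroup.mul_mem _ (Subgroup.inv_mem _ m1) m2

/-- the centralizer of `L` is central -/
theorem centralizer_le_center [Finite G] (L : Subgroup G) [hLn : L.Normal]
    (hF : Cfsg.generalizedFittingSubgroup G = L ⊔ Subgroup.center G)
    (hfit : Cfsg.fittingSubgroup G = Subgroup.center G) :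
    Subgroup.centralizer (L : Set G) ≤ Subgroup.center G := by
  intro x hx
  have hxL : ∀ l ∈ L, l * x = x * l := fun l hl => (Subgroup.mem_centralizer_iff.mp hx) l hl
  have hxF : x ∈ Subgroup.centralizer ((Cfsg.generalizedFittingSubgroup G : Subgroup G) : Set G) := by
    rw [Subgroup.mem_centralizer_iff]
    intro y hy
    rw [SetLike.mem_coe, hF, Subgroup.mem_sup_of_normal_right] at hy
    obtain ⟨l, hl, z, hz, rfl⟩ := hy
    have hzc := Subgroup.mem_center_iff.mp hz
    calc l * z * x = l * (z * x) := by group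
      _ = l * (x * z) := by rw [← hzc x]
      _ = (l * x) * z := by group
      _ = (x * l) * z := by rw [hxL l hl]
      _ = x * (l * z) := by group
  have hxF' := Cfsg.Agent.Helper2.centralizer_generalizedFittingSubgroup_le hxF
  rw [hF, Subgroup.mem_sup_of_normal_right] at hxF'
  obtain ⟨l, hl, z, hz, hlz⟩ := hxF'
  have hzc := Subgroup.mem_center_iff.mp hz
  -- `l` centralizes `L`
  have hlc : l ∈ Subgroup.centralizer (L : Set G) := by
    have e : l = x * z⁻¹ := by rw [← hlz]; group
    rw [e]
    exact Subgroup.mul_mem _ hx (Subgroup.inv_mem _ (by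
      rw [Subgroup.mem_centralizer_iff]
      intro y _
      exact hzc y))
  -- `L ⊓ C(L)` is an abelian normal subgroup
  have hZ0 : L ⊓ Subgroup.centralizer (L : Set G) ≤ Subgroup.center G := by
    rw [← hfit]
    apply Cfsg.Agent.Helper1.le_fittingSubgroup inferInstance
    haveI : IsMulCommutative ↥(L ⊓ Subgroup.centralizer (L : Set G)) := by
      refine ⟨⟨fun a b => ?_⟩⟩
      apply Subtype.ext
      have ha := (Subgroup.mem_inf.mp a.2).2
      have hb := (Subgroup.mem_inf.mp b.2).1
      rw [Subgroup.mem_centralizer_iff] at ha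
      exact (ha b hb).symm
    open scoped IsMulCommutative in infer_instance
  have hl' : l ∈ Subgroup.center G := hZ0 ⟨hl, hlc⟩
  rw [← hlz]
  exact Subgroup.mul_mem _ hl' hz

theorem primitive_of_index [Finite G] {D : Set G} (hD : Cfsg.IsThreeTranspositionClass D)
    (hD2 : ∃ a ∈ D, ∃ b ∈ D, a ≠ b) (h2 : Cfsg.pCore 2 G ≤ Subgroup.center G)
    (h3 : Cfsg.pCore 3 G ≤ Subgroup.center G) (L : Subgroup G) [hLn : L.Normal]
    (hL : Cfsg.IsQuasisimple L)
    (hF : Cfsg.generalizedFittingSubgroup G = L ⊔ Subgroup.center G) (hidx : L.index ≤ 2) :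
    Cfsg.IsPrimitiveUnderConj D := by
  haveI : Fact (Nat.Prime 2) := ⟨Nat.prime_two⟩
  have hT := tt3_of_class hD
  have hLc : Cfsg.IsComponent L := ⟨hLn.isSubnormal, hL⟩
  refine ⟨?_, hD2, ?_⟩
  · intro a ha b hb
    obtain ⟨c, hc⟩ := exists_conj_of_class hD ha hb
    exact ⟨c, hc.symm⟩
  intro B hBD himg
  have hB : Blk B := blk_of_image himg
  by_contra hcon
  push Not at hcon
  obtain ⟨hns, hne⟩ := hcon
  obtain ⟨b, hb, b', hb', hbb'⟩ := hns
  -- the normal core of the normalizer contains no member of `D`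
  have hND : ∀ e ∈ D, e ∉ (Subgroup.normalizer B).normalCore := by
    intro e he heN
    apply hne
    have hall : ∀ g : G, g ∈ Subgroup.normalizer B := by
      intro g
      have hg : g ∈ Subgroup.closure D := by rw [hD.2.2]; exact Subgroup.mem_top g
      have hle : Subgroup.closure D ≤ (Subgroup.normalizer B).normalCore := by
        rw [Subgroup.closure_le]
        intro e' he'
        obtain ⟨c, rfl⟩ := exists_conj_of_class hD he he'
        exact (Subgroup.normalCore_normal _).conj_mem e heN c
      exact Subgroup.normalCore_le _ (hle hg)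
    apply Set.Subset.antisymm hBD
    intro e' he'
    obtain ⟨c, rfl⟩ := exists_conj_of_class hD (hBD hb) he'
    exact conj_mem_of_mem_normalizer (hall c) hb
  have hxN : b * b' ∈ (Subgroup.normalizer B).normalCore := hB.prod_mem_normalCore hT hBD hb hb'
  have hNn : ((Subgroup.normalizer B).normalCore).Normal := Subgroup.normalCore_normal _
  rcases Cfsg.Agent.Helper2.component_le_or_commutator_eq_bot L
      ((Subgroup.normalizer B).normalCore) hLc (by
        rw [Subgroup.normalizer_eq_top]; exact le_top) with hle | hcm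
  · -- `L ≤ N`: then `G = L ⟨b⟩` normalizes `B`
    have hbL : b ∉ L := fun h => hND b (hBD hb) (hle h)
    have hidx2 : L.index = 2 := by
      have h0 : L.index ≠ 0 := Subgroup.index_ne_zero_of_finite
      have h1 : L.index ≠ 1 := by
        intro h1
        rw [Subgroup.index_eq_one] at h1
        exact hbL (by rw [h1]; exact Subgroup.mem_top b)
      omega
    apply hne
    have hall : ∀ g : G, g ∈ Subgroup.normalizer B := by
      intro g
      by_cases hg : g ∈ L
      · exact Subgroup.normalCore_le _ (hle hg)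
      · have : b⁻¹ * g ∈ L := by
          rw [Subgroup.mul_mem_iff_of_index_two hidx2]
          constructor
          · intro h; exact absurd (by simpa using Subgroup.inv_mem _ h) hbL
          · intro h; exact absurd h hg
        have e : g = b * (b⁻¹ * g) := by group
        rw [e]
        exact Subgroup.mul_mem _ (hB.self_mem_normalizer hb)
          (Subgroup.normalCore_le _ (hle this))
    apply Set.Subset.antisymm hBD
    intro e' he'
    obtain ⟨c, rfl⟩ := exists_conj_of_class hD (hBD hb) he'
    exact conj_mem_of_mem_normalizer (hall c) hb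
  · -- `[L, N] = 1`: then `b b'` is central
    have hfit := fitting_eq_center hD h2 h3
    have hzc : b * b' ∈ Subgroup.center G := by
      apply centralizer_le_center L hF hfit
      rw [Subgroup.commutator_comm, Subgroup.commutator_eq_bot_iff_le_centralizer] at hcm
      exact hcm hxN
    have hbD := hBD hb
    have hb'D := hBD hb'
    -- `b b'` is an involution in `O₂(G)`
    have hzc' := Subgroup.mem_center_iff.mp hzc
    have hcomm : b * b' = b' * b := by
      have := hzc' b
      -- b * (b * b') = (b * b') * b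
      calc b * b' = b * (b * (b * b')) := by
            rw [← mul_assoc b b, hT.sq b hbD, one_mul]
        _ = b * ((b * b') * b) := by rw [this]
        _ = (b * b) * b' * b := by group
        _ = b' * b := by rw [hT.sq b hbD, one_mul]
    have hzsq : (b * b') * (b * b') = 1 := by
      rw [← sq]; exact (commute_iff_sq (hT.sq b hbD) (hT.sq b' hb'D)).mp hcomm
    have hzO : b * b' ∈ Cfsg.pCore 2 G := by
      have hn : (Subgroup.zpowers (b * b')).Normal := by
        refine ⟨fun n hn g => ?_⟩
        have hnc : n ∈ Subgroup.center G :=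
          (Subgroup.zpowers_le.mpr hzc) hn
        have := Subgroup.mem_center_iff.mp hnc g
        have e : g * n * g⁻¹ = n := by rw [this]; group
        rw [e]; exact hn
      have hp : IsPGroup 2 ↥(Subgroup.zpowers (b * b')) := by
        intro y
        refine ⟨1, ?_⟩
        obtain ⟨k, hk⟩ := Subgroup.mem_zpowers_iff.mp y.2
        apply Subtype.ext
        simp only [Subgroup.coe_pow, Subgroup.coe_one, pow_one]
        rw [← hk, sq, ← zpow_add, ← two_mul, zpow_mul, zpow_ofNat, sq, hzsq, one_zpow]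
      exact Cfsg.Agent.Helper1.le_pCore hn hp (Subgroup.mem_zpowers _)
    have hS := Cfsg.Agent.Helper5.ThreeTrans.main_S5349 hD hD2 hbD
    have hb'V : b' ∈ {v : G | v ∈ D ∧ b⁻¹ * v ∈ Cfsg.pCore 2 G} := by
      refine ⟨hb'D, ?_⟩
      rw [hT.inv hbD]; exact hzO
    rw [← hS.1, hS.2] at hb'V
    obtain ⟨g, hg, hgb⟩ := hb'V
    have hgc := Subgroup.mem_center_iff.mp (h2 hg)
    apply hbb'
    rw [hgb, ← hgc b, mul_assoc, mul_inv_cancel, mul_one]

theorem index_of_connected [Finite G] {D : Set G} (hD : Cfsg.IsThreeTranspositionClass D)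
    (hD2 : ∃ a ∈ D, ∃ b ∈ D, a ≠ b) (L : Subgroup G) [hLn : L.Normal]
    (hL : Cfsg.IsQuasisimple L) (hconn : (Cfsg.commutingGraph D).Connected) :
    L.index ≤ 2 := by
  have hT := tt3_of_class hD
  have hLc : Cfsg.IsComponent L := ⟨hLn.isSubnormal, hL⟩
  obtain ⟨d, hd, -⟩ := hD2
  -- adjacent members are congruent modulo `L`
  have hadj : ∀ a b : D, (Cfsg.commutingGraph D).Adj a b → (a : G)⁻¹ * (b : G) ∈ L := by
    intro a b hab
    unfold Cfsg.commutingGraph at hab
    rw [SimpleGraph.fromRel_adj] at hab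
    have hc : Commute (a : G) (b : G) := by
      rcases hab.2 with h | h
      · exact h
      · exact h.symm
    apply width_one_mod hD hLc hLn a.2 b.2
    have : (a : G) * b * (a : G)⁻¹ * (b : G)⁻¹ = 1 := by rw [hc.eq]; group
    rw [this]; exact Subgroup.one_mem _
  have hreach : ∀ a b : D, (Cfsg.commutingGraph D).Reachable a b → (a : G)⁻¹ * (b : G) ∈ L := by
    intro a b hab
    obtain ⟨w⟩ := hab
    induction w with
    | nil => rw [inv_mul_cancel]; exact Subgroup.one_mem _
    | cons h p ih =>
      have h1 := hadj _ _ h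
      have e : ∀ x y z : G, x⁻¹ * z = (x⁻¹ * y) * (y⁻¹ * z) := by intro x y z; group
      rw [e _ _ _]
      exact Subgroup.mul_mem _ h1 ih
  have hall : ∀ e ∈ D, d⁻¹ * e ∈ L := by
    intro e he
    exact hreach ⟨d, hd⟩ ⟨e, he⟩ (hconn.preconnected _ _)
  -- every element of the quotient is `1` or the image of `d`
  have hq : ∀ q : G ⧸ L, q = 1 ∨ q = (QuotientGroup.mk d : G ⧸ L) := by
    intro q
    induction q using QuotientGroup.induction_on with
    | H g =>
      have hg : g ∈ Subgroup.closure D := by rw [hD.2.2]; exact Subgroup.mem_top g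
      induction hg using Subgroup.closure_induction with
      | mem e he =>
        right
        rw [eq_comm, QuotientGroup.eq]
        exact hall e he
      | one => left; rfl
      | mul x y _ _ hx hy =>
        have hdd : (QuotientGroup.mk d : G ⧸ L) * QuotientGroup.mk d = 1 := by
          rw [← QuotientGroup.mk_mul, hT.sq d hd]; rfl
        rw [QuotientGroup.mk_mul]
        rcases hx with hx | hx <;> rcases hy with hy | hy <;> rw [hx, hy]
        · left; rw [one_mul]
        · right; rw [one_mul]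
        · right; rw [mul_one]
        · left; exact hdd
      | inv x _ hx =>
        have hdd : (QuotientGroup.mk d : G ⧸ L)⁻¹ = QuotientGroup.mk d := by
          rw [← QuotientGroup.mk_inv, hT.inv hd]
        rw [QuotientGroup.mk_inv]
        rcases hx with hx | hx <;> rw [hx]
        · left; rw [inv_one]
        · right; exact hdd
  unfold Subgroup.index
  have hsub : (Set.univ : Set (G ⧸ L)) ⊆ {1, (QuotientGroup.mk d : G ⧸ L)} := by
    intro q _
    rcases hq q with h | h
    · left; exact h
    · right; exact h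
  calc Nat.card (G ⧸ L) = (Set.univ : Set (G ⧸ L)).ncard := (Set.ncard_univ _).symm
    _ ≤ ({1, (QuotientGroup.mk d : G ⧸ L)} : Set (G ⧸ L)).ncard :=
        Set.ncard_le_ncard hsub (Set.toFinite _)
    _ ≤ 2 := by
        refine (Set.ncard_insert_le _ _).trans ?_
        rw [Set.ncard_singleton]

theorem main_P [Finite G] {D : Set G} (hD : Cfsg.IsThreeTranspositionClass D)
    (hD2 : ∃ a ∈ D, ∃ b ∈ D, a ≠ b) (h2 : Cfsg.pCore 2 G ≤ Subgroup.center G)
    (h3 : Cfsg.pCore 3 G ≤ Subgroup.center G) (L : Subgroup G) [L.Normal]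
    (hL : Cfsg.IsQuasisimple L)
    (hF : Cfsg.generalizedFittingSubgroup G = L ⊔ Subgroup.center G) :
    (L.index ≤ 2 → Cfsg.IsPrimitiveUnderConj D) ∧
      ((Cfsg.commutingGraph D).Connected → L.index ≤ 2) :=
  ⟨fun h => primitive_of_index hD hD2 h2 h3 L hL hF h,
    fun h => index_of_connected hD hD2 L hL h⟩

end Cfsg.Agent.Lead.TTP
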