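import Mathlib
import Cfsg.Agent.Lead.ThreeTransP

set_option autoImplicit false

/-!
# Primitive classes of 3-transpositions: simple commutator subgroup, trivial cores, connectedness
-/

namespace Cfsg.Agent.Lead.TTQ

open Cfsg.Agent.Lead.TTW Cfsg.Agent.Lead.TTS4 Cfsg.Agent.Lead.TTF Cfsg.Agent.Lead.TTG
  Cfsg.Agent.Lead.TTP

open scoped commutatorElement

variable {G : Type*} [Group G]

/-- the blocks of a conjugation-invariant equivalence relation -/
theorem block_of_rel {D : Set G} (hconjD : ∀ (g : G), ∀ x ∈ D, g * x * g⁻¹ ∈ D)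
    (E : G → G → Prop) (hsymm : ∀ a b, E a b → E b a)
    (htrans : ∀ a b c, E a b → E b c → E a c)
    (hconj : ∀ a b (g : G), E a b → E (g * a * g⁻¹) (g * b * g⁻¹)) (d : G) :
    ∀ g : G, (fun x => g * x * g⁻¹) '' {v | v ∈ D ∧ E d v} = {v | v ∈ D ∧ E d v} ∨
      Disjoint ((fun x => g * x * g⁻¹) '' {v | v ∈ D ∧ E d v}) {v | v ∈ D ∧ E d v} := by
  intro g
  by_cases hg : E d (g * d * g⁻¹)
  · left
    apply Set.Subset.antisymm
    · rintro _ ⟨x, ⟨hxD, hx⟩, rfl⟩
      exact ⟨hconjD g x hxD, htrans _ _ _ hg (hconj _ _ g hx)⟩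
    · rintro y ⟨hyD, hy⟩
      refine ⟨g⁻¹ * y * g, ⟨?_, ?_⟩, ?_⟩
      · have := hconjD g⁻¹ y hyD
        rwa [inv_inv] at this
      · have h1 := hconj _ _ g⁻¹ hg
        have e1 : g⁻¹ * (g * d * g⁻¹) * g⁻¹⁻¹ = d := by group
        rw [e1, inv_inv] at h1
        have h2 := hconj _ _ g⁻¹ hy
        rw [inv_inv] at h2
        exact htrans _ _ _ (hsymm _ _ h1) h2
      · show g * (g⁻¹ * y * g) * g⁻¹ = y
        group
  · right
    rw [Set.disjoint_left]
    rintro _ ⟨x, ⟨_, hx⟩, rfl⟩ ⟨_, hy⟩
    exact hg (htrans _ _ _ hy (hsymm _ _ (hconj _ _ g hx)))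

/-- one step of the commuting relation -/
def Rst (D : Set G) (a b : G) : Prop := a ∈ D ∧ b ∈ D ∧ Commute a b

/-- reachability in the commuting graph, on elements -/
def Rch (D : Set G) : G → G → Prop := Relation.ReflTransGen (Rst D)

theorem Rch.symm' {D : Set G} {a b : G} (h : Rch D a b) : Rch D b a := by
  induction h with
  | refl => exact Relation.ReflTransGen.refl
  | tail _ hbc ih => exact Relation.ReflTransGen.head ⟨hbc.2.1, hbc.1, hbc.2.2.symm⟩ ih

theorem Rch.conj' {D : Set G} (hconjD : ∀ (g : G), ∀ x ∈ D, g * x * g⁻¹ ∈ D) {a b : G}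
    (h : Rch D a b) (g : G) : Rch D (g * a * g⁻¹) (g * b * g⁻¹) := by
  have hstep : ∀ x y, Rst D x y → Rst D (g * x * g⁻¹) (g * y * g⁻¹) := by
    rintro x y ⟨hx, hy, hc⟩
    refine ⟨hconjD g x hx, hconjD g y hy, ?_⟩
    rw [commute_conj_iff']
    have e : g⁻¹ * (g * y * g⁻¹) * g = y := by group
    rw [e]; exact hc
  induction h with
  | refl => exact Relation.ReflTransGen.refl
  | tail _ hbc ih => exact Relation.ReflTransGen.tail ih (hstep _ _ hbc)

theorem reachable_of_rch {D : Set G} {a b : G} (h : Rch D a b) (ha : a ∈ D) (hb : b ∈ D) :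
    (Cfsg.commutingGraph D).Reachable ⟨a, ha⟩ ⟨b, hb⟩ := by
  induction h with
  | refl => exact SimpleGraph.Reachable.refl _
  | tail hab hbc ih =>
    rename_i b' c
    have hb' : b' ∈ D := hbc.1
    have h1 := ih hb'
    by_cases hEq : b' = c
    · subst hEq; exact h1
    · apply h1.trans
      apply SimpleGraph.Adj.reachable
      unfold Cfsg.commutingGraph
      rw [SimpleGraph.fromRel_adj]
      refine ⟨?_, Or.inl hbc.2.2⟩
      intro h
      exact hEq (congrArg Subtype.val h)

theorem index_le_two_of_congr {D : Set G} (hT : TT3 D) (hgen : Subgroup.closure D = ⊤)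
    (L : Subgroup G) [hLn : L.Normal] {d : G} (hd : d ∈ D) (hall : ∀ e ∈ D, d⁻¹ * e ∈ L) :
    (∀ q : G ⧸ L, q = 1 ∨ q = (QuotientGroup.mk d : G ⧸ L)) ∧ L.index ≤ 2 := by
  have hq : ∀ q : G ⧸ L, q = 1 ∨ q = (QuotientGroup.mk d : G ⧸ L) := by
    intro q
    induction q using QuotientGroup.induction_on with
    | H g =>
      have hg : g ∈ Subgroup.closure D := by rw [hgen]; exact Subgroup.mem_top g
      induction hg using Subgroup.closure_induction with
      | mem e he =>
        right
        rw [eq_comm, QuotientGroup.eq]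
        exact hall e he
      | one => left; rfl
      | mul x y _ _ hx hy =>
        have hdd : (QuotientGroup.mk d : G ⧸ L) * QuotientGroup.mk d = 1 := by
          rw [← QuotientGroup.mk_mul, hT.sq d hd]; rfl
        rw [QuotientGroup.mk_mul]
        rcases hx with hx | hx <;> rcases hy with hy | hy <;> rw [hx, hy]
        · left; rw [one_mul]
        · right; rw [one_mul]
        · right; rw [mul_one]
        · left; exact hdd
      | inv x _ hx =>
        have hdd : (QuotientGroup.mk d : G ⧸ L)⁻¹ = QuotientGroup.mk d := by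
          rw [← QuotientGroup.mk_inv, hT.inv hd]
        rw [QuotientGroup.mk_inv]
        rcases hx with hx | hx <;> rw [hx]
        · left; rw [inv_one]
        · right; exact hdd
  refine ⟨hq, ?_⟩
  unfold Subgroup.index
  have hsub : (Set.univ : Set (G ⧸ L)) ⊆ {1, (QuotientGroup.mk d : G ⧸ L)} := by
    intro q _
    rcases hq q with h | h
    · left; exact h
    · right; exact h
  calc Nat.card (G ⧸ L) = (Set.univ : Set (G ⧸ L)).ncard := (Set.ncard_univ _).symm
    _ ≤ ({1, (QuotientGroup.mk d : G ⧸ L)} : Set (G ⧸ L)).ncard :=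
        Set.ncard_le_ncard hsub (Set.toFinite _)
    _ ≤ 2 := by
        refine (Set.ncard_insert_le _ _).trans ?_
        rw [Set.ncard_singleton]

/-- primitivity forces `O₂ = O₃ = 1` (trivial centre) and a connected commuting graph -/
theorem of_primitive [Finite G] {D : Set G} (hD : Cfsg.IsThreeTranspositionClass D)
    (hZ : Subgroup.center G = ⊥) (hw : ∃ a ∈ D, ∃ b ∈ D, a ≠ b ∧ Commute a b)
    (hprim : Cfsg.IsPrimitiveUnderConj D) :
    Cfsg.pCore 2 G = ⊥ ∧ Cfsg.pCore 3 G = ⊥ ∧ (Cfsg.commutingGraph D).Connected := by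
  have hT := tt3_of_class hD
  obtain ⟨hconjAll, hD2, hblocks⟩ := hprim
  obtain ⟨a₀, ha₀, b₀, hb₀, hab₀, hcomm₀⟩ := hw
  have hd := ha₀
  set d := a₀ with hddef
  refine ⟨?_, ?_, ?_⟩
  · -- `O₂(G) = 1`
    by_contra hne
    have hnc : ¬ Cfsg.pCore 2 G ≤ Subgroup.center G := by
      rw [hZ, le_bot_iff]; exact hne
    obtain ⟨x, hx, hxd⟩ := noncentral_move hD (Cfsg.pCore 2 G) hnc hd
    have hS := (Cfsg.Agent.Helper5.ThreeTrans.main_S5349 hD hD2 hd).2
    have hv : x * d * x⁻¹ ∈ {v : G | v ∈ D ∧ ∀ e ∈ D, Commute v e ↔ Commute d e} := by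
      rw [hS]; exact ⟨x, hx, rfl⟩
    have hdv : d ∈ {v : G | v ∈ D ∧ ∀ e ∈ D, Commute v e ↔ Commute d e} :=
      ⟨hd, fun e _ => Iff.rfl⟩
    have hblk := block_of_rel hT.conj (fun a b => ∀ e ∈ D, Commute b e ↔ Commute a e)
      (fun a b h e he => (h e he).symm)
      (fun a b c h1 h2 e he => (h2 e he).trans (h1 e he))
      (fun a b g h e he => by
        have he' : g⁻¹ * e * g ∈ D := by
          have := hT.conj g⁻¹ e he
          rwa [inv_inv] at this
        rw [commute_conj_iff', commute_conj_iff']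
        exact h _ he') d
    rcases hblocks _ (fun v hv => hv.1) hblk with hsub | hall
    · exact hxd (hsub hv hdv)
    · -- every member has the same commuting set as `d`, so `d` is central
      have hcen : d ∈ Subgroup.center G := by
        have : Subgroup.zpowers d ≤ Subgroup.center G := by
          apply le_center_of_commute hD.2.2
          intro e he y hy
          have heV : e ∈ {v : G | v ∈ D ∧ ∀ e ∈ D, Commute v e ↔ Commute d e} := by
            rw [hall]; exact he
          have hce : Commute d e := (heV.2 e he).mp (Commute.refl e)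
          obtain ⟨k, rfl⟩ := Subgroup.mem_zpowers_iff.mp hy
          exact (hce.symm.zpow_right k)
        exact this (Subgroup.mem_zpowers d)
      rw [hZ, Subgroup.mem_bot] at hcen
      exact hT.ne d hd hcen
  · -- `O₃(G) = 1`
    by_contra hne
    have hnc : ¬ Cfsg.pCore 3 G ≤ Subgroup.center G := by
      rw [hZ, le_bot_iff]; exact hne
    obtain ⟨x, hx, hxd⟩ := noncentral_move hD (Cfsg.pCore 3 G) hnc hd
    have hS := (main_W hT hd).2
    have hv : x * d * x⁻¹ ∈ blk D d := by
      show x * d * x⁻¹ ∈ {w : G | w ∈ D ∧ {y : G | y ∈ D ∧ y ≠ d ∧ Commute d y} =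
        {y : G | y ∈ D ∧ y ≠ w ∧ Commute w y}}
      rw [hS]; exact ⟨x, hx, rfl⟩
    have hblk := block_of_rel hT.conj (WRel D) (fun a b h => h.symm')
      (fun a b c h1 h2 => h1.trans' h2) (fun a b g h => h.conj hT g) d
    rcases hblocks (blk D d) (fun v hv => hv.1) hblk with hsub | hall
    · exact hxd (hsub hv (mem_blk_self hd))
    · have h1 : d ∈ blk D d := mem_blk_self hd
      have h2 : b₀ ∈ blk D d := by rw [hall]; exact hb₀
      exact WRel.not_commute hb₀ h2.2 hab₀ hcomm₀
  · -- connectedness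
    have hblk := block_of_rel hT.conj (Rch D) (fun a b h => h.symm')
      (fun a b c h1 h2 => Relation.ReflTransGen.trans h1 h2)
      (fun a b g h => h.conj' hT.conj g) d
    rcases hblocks _ (fun v hv => hv.1) hblk with hsub | hall
    · exfalso
      have h1 : d ∈ {v | v ∈ D ∧ Rch D d v} := ⟨hd, Relation.ReflTransGen.refl⟩
      have h2 : b₀ ∈ {v | v ∈ D ∧ Rch D d v} :=
        ⟨hb₀, Relation.ReflTransGen.single ⟨hd, hb₀, hcomm₀⟩⟩
      exact hab₀ (hsub h1 h2)
    · have hr : ∀ e (he : e ∈ D), (Cfsg.commutingGraph D).Reachable ⟨d, hd⟩ ⟨e, he⟩ := by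
        intro e he
        have : e ∈ {v | v ∈ D ∧ Rch D d v} := by rw [hall]; exact he
        exact reachable_of_rch this.2 hd he
      haveI : Nonempty D := ⟨⟨d, hd⟩⟩
      exact ⟨fun u v => (hr u.1 u.2).symm.trans (hr v.1 v.2)⟩

theorem congr_of_connected [Finite G] {D : Set G} (hD : Cfsg.IsThreeTranspositionClass D)
    (L : Subgroup G) [hLn : L.Normal] (hL : Cfsg.IsQuasisimple L)
    (hconn : (Cfsg.commutingGraph D).Connected) {d : G} (hd : d ∈ D) :
    ∀ e ∈ D, d⁻¹ * e ∈ L := by
  have hLc : Cfsg.IsComponent L := ⟨hLn.isSubnormal, hL⟩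
  have hadj : ∀ a b : D, (Cfsg.commutingGraph D).Adj a b → (a : G)⁻¹ * (b : G) ∈ L := by
    intro a b hab
    unfold Cfsg.commutingGraph at hab
    rw [SimpleGraph.fromRel_adj] at hab
    have hc : Commute (a : G) (b : G) := by
      rcases hab.2 with h | h
      · exact h
      · exact h.symm
    apply width_one_mod hD hLc hLn a.2 b.2
    have : (a : G) * b * (a : G)⁻¹ * (b : G)⁻¹ = 1 := by rw [hc.eq]; group
    rw [this]; exact Subgroup.one_mem _
  have hreach : ∀ a b : D, (Cfsg.commutingGraph D).Reachable a b → (a : G)⁻¹ * (b : G) ∈ L := by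
    intro a b hab
    obtain ⟨w⟩ := hab
    induction w with
    | nil => rw [inv_mul_cancel]; exact Subgroup.one_mem _
    | cons h p ih =>
      have h1 := hadj _ _ h
      have e : ∀ x y z : G, x⁻¹ * z = (x⁻¹ * y) * (y⁻¹ * z) := by intro x y z; group
      rw [e _ _ _]
      exact Subgroup.mul_mem _ h1 ih
  intro e he
  exact hreach ⟨d, hd⟩ ⟨e, he⟩ (hconn.preconnected _ _)

/-- structure when `O₂ = O₃ = 1` and the commuting graph is connected -/
theorem structure_of_connected [Finite G] {D : Set G} (hD : Cfsg.IsThreeTranspositionClass D)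
    (hD2 : ∃ a ∈ D, ∃ b ∈ D, a ≠ b) (hZ : Subgroup.center G = ⊥)
    (h2 : Cfsg.pCore 2 G = ⊥) (h3 : Cfsg.pCore 3 G = ⊥)
    (hconn : (Cfsg.commutingGraph D).Connected) :
    Cfsg.IsPrimitiveUnderConj D ∧ IsSimpleGroup (commutator G) := by
  have hT := tt3_of_class hD
  have h2' : Cfsg.pCore 2 G ≤ Subgroup.center G := by rw [h2]; exact bot_le
  have h3' : Cfsg.pCore 3 G ≤ Subgroup.center G := by rw [h3]; exact bot_le
  obtain ⟨L, hLn, hLq, hF, -⟩ := main_G hD hD2 h2' h3'
  haveI := hLn
  have hLc : Cfsg.IsComponent L := ⟨hLn.isSubnormal, hLq⟩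
  obtain ⟨d, hd, -⟩ := id hD2
  have hall := congr_of_connected hD L hLq hconn hd
  obtain ⟨hq, hidx⟩ := index_le_two_of_congr hT hD.2.2 L hd hall
  refine ⟨primitive_of_index hD hD2 h2' h3' L hLq hF hidx, ?_⟩
  -- the commutator subgroup is `L`
  have hcomm : commutator G = L := by
    apply le_antisymm
    · rw [commutator_def, Subgroup.commutator_le]
      intro a _ b _
      rw [← QuotientGroup.eq_one_iff]
      show ((QuotientGroup.mk' L) ⁅a, b⁆ : G ⧸ L) = 1
      rw [map_commutatorElement]
      rw [commutatorElement_eq_one_iff_mul_comm]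
      rcases hq (QuotientGroup.mk a) with h1 | h1 <;> rcases hq (QuotientGroup.mk b) with h2 | h2
      all_goals
        show (QuotientGroup.mk a : G ⧸ L) * QuotientGroup.mk b = QuotientGroup.mk b * QuotientGroup.mk a
        rw [h1, h2]
      · rw [one_mul, mul_one]
      · rw [mul_one, one_mul]
    · have := Cfsg.Agent.Helper2.component_perfect hLc
      rw [commutator_def]
      calc L = ⁅L, L⁆ := this.symm
        _ ≤ ⁅(⊤ : Subgroup G), ⊤⁆ := Subgroup.commutator_mono le_top le_top
  -- `L` is simple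
  have hfit := fitting_eq_center hD h2' h3'
  have hc0 : Subgroup.center ↥L = ⊥ := by
    rw [eq_bot_iff]
    intro x hx
    rw [Subgroup.mem_bot]
    have hxc : (x : G) ∈ Subgroup.centralizer (L : Set G) := by
      rw [Subgroup.mem_centralizer_iff]
      intro l hl
      have := Subgroup.mem_center_iff.mp hx ⟨l, hl⟩
      have h' := congrArg Subtype.val this
      simpa using h'
    have := centralizer_le_center L hF hfit hxc
    rw [hZ, Subgroup.mem_bot] at this
    exact Subtype.ext this
  haveI : IsSimpleGroup (↥L ⧸ Subgroup.center ↥L) := hLq.2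
  have hLs : IsSimpleGroup ↥L :=
    ((QuotientGroup.quotientMulEquivOfEq hc0).trans QuotientGroup.quotientBot).symm.isSimpleGroup
  rw [hcomm]
  exact hLs

/-- a simple commutator subgroup gives primitivity -/
theorem primitive_of_simple [Finite G] {D : Set G} (hD : Cfsg.IsThreeTranspositionClass D)
    (hZ : Subgroup.center G = ⊥) (hw : ∃ a ∈ D, ∃ b ∈ D, a ≠ b ∧ Commute a b)
    (hS : IsSimpleGroup (commutator G)) : Cfsg.IsPrimitiveUnderConj D := by
  have hT := tt3_of_class hD
  obtain ⟨a, ha, b, hb, hab, hcab⟩ := hw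
  have hD2 : ∃ a ∈ D, ∃ b ∈ D, a ≠ b := ⟨a, ha, b, hb, hab⟩
  -- members are congruent modulo the commutator subgroup
  have hcong : ∀ x ∈ D, ∀ y ∈ D, x⁻¹ * y ∈ commutator G := by
    intro x hx y hy
    obtain ⟨c, rfl⟩ := exists_conj_of_class hD hx hy
    have : x⁻¹ * (c * x * c⁻¹) = ⁅x⁻¹, c⁆ := by
      rw [commutatorElement_def, inv_inv]; group
    rw [this, commutator_def]
    exact Subgroup.commutator_mem_commutator (Subgroup.mem_top _) (Subgroup.mem_top _)
  by_cases hc : ∀ x y : ↥(commutator G), x * y = y * x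
  · -- abelian simple commutator subgroup: impossible
    exfalso
    have hz : a⁻¹ * b ∈ commutator G := hcong a ha b hb
    rw [hT.inv ha] at hz
    have hzsq : (a * b) * (a * b) = 1 := by
      rw [← sq]; exact (commute_iff_sq (hT.sq a ha) (hT.sq b hb)).mp hcab
    have hz1 : a * b ≠ 1 := by
      intro h1
      have : a = b⁻¹ := eq_inv_of_mul_eq_one_left h1
      rw [hT.inv hb] at this
      exact hab this
    let zS : ↥(commutator G) := ⟨a * b, hz⟩
    have hNn : (Subgroup.zpowers zS).Normal := by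
      refine ⟨fun n hn g => ?_⟩
      have : g * n * g⁻¹ = n := by rw [hc g n, mul_inv_cancel_right]
      rw [this]; exact hn
    rcases hS.eq_bot_or_eq_top_of_normal _ hNn with hbot | htop
    · have : zS ∈ Subgroup.zpowers zS := Subgroup.mem_zpowers zS
      rw [hbot, Subgroup.mem_bot] at this
      exact hz1 (congrArg Subtype.val this)
    · -- every element of the commutator subgroup is `1` or `a b`
      have hel : ∀ s ∈ commutator G, s = 1 ∨ s = a * b := by
        intro s hs
        have : (⟨s, hs⟩ : ↥(commutator G)) ∈ Subgroup.zpowers zS := by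
          rw [htop]; exact Subgroup.mem_top _
        obtain ⟨k, hk⟩ := Subgroup.mem_zpowers_iff.mp this
        have hk' : (a * b) ^ k = s := by
          have := congrArg Subtype.val hk
          simpa [zS] using this
        rcases Int.even_or_odd' k with ⟨m, hm | hm⟩
        · left
          rw [← hk', hm, zpow_mul, zpow_ofNat, sq, hzsq, one_zpow]
        · right
          rw [← hk', hm, zpow_add, zpow_mul, zpow_ofNat, sq, hzsq, one_zpow, one_mul, zpow_one]
      have hcen : a * b ∈ Subgroup.center G := by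
        rw [Subgroup.mem_center_iff]
        intro g
        have hn : (commutator G).Normal := inferInstance
        have hg := hn.conj_mem (a * b) hz g
        rcases hel _ hg with h1 | h1
        · exfalso
          apply hz1
          have : a * b = g⁻¹ * (g * (a * b) * g⁻¹) * g := by group
          rw [this, h1]; group
        · calc g * (a * b) = (g * (a * b) * g⁻¹) * g := by group
            _ = (a * b) * g := by rw [h1]
      rw [hZ, Subgroup.mem_bot] at hcen
      exact hz1 hcen
  · -- nonabelian simple commutator subgroup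
    have hncomm : ¬ IsMulCommutative ↥(commutator G) := by
      intro h
      apply hc
      intro x y
      exact h.is_comm.comm x y
    have hperf : commutator ↥(commutator G) = ⊤ :=
      Cfsg.Agent.Helper2.commutator_eq_top_of_simple_nonabelian hS hncomm
    have hc0 : Subgroup.center ↥(commutator G) = ⊥ := by
      rcases hS.eq_bot_or_eq_top_of_normal _
          (inferInstance : (Subgroup.center ↥(commutator G)).Normal) with h | h
      · exact h
      · exfalso
        apply hc
        intro x y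
        have hx : x ∈ Subgroup.center ↥(commutator G) := by rw [h]; exact Subgroup.mem_top x
        exact ((Subgroup.mem_center_iff.mp hx) y).symm
    have hSq : Cfsg.IsQuasisimple ↥(commutator G) := by
      refine ⟨⟨hperf⟩, ?_⟩
      haveI := hS
      exact ((QuotientGroup.quotientMulEquivOfEq hc0).trans QuotientGroup.quotientBot).isSimpleGroup
    have hSn : (commutator G).Normal := inferInstance
    have hSc : Cfsg.IsComponent (commutator G) := ⟨hSn.isSubnormal, hSq⟩
    have hlayer : Cfsg.layer G ≠ ⊥ := by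
      intro hbot
      have := Cfsg.Agent.Helper2.component_le_layer hSc
      rw [hbot, le_bot_iff] at this
      exact Cfsg.Agent.Helper2.component_ne_bot hSc this
    obtain ⟨-, hcases⟩ := main_F hD hD2
    rcases hcases with ⟨-, -, hE⟩ | ⟨-, -, hE⟩ | ⟨h2, h3, -⟩
    · exact absurd hE hlayer
    · exact absurd hE hlayer
    · obtain ⟨L, hLn, hLq, hF, -⟩ := main_G hD hD2 h2 h3
      have hLc : Cfsg.IsComponent L := ⟨hLn.isSubnormal, hLq⟩
      have hSL : commutator G = L := component_unique hD hD2 hLc hSc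
      rw [← hSL] at hF
      have hall : ∀ e ∈ D, a⁻¹ * e ∈ commutator G := fun e he => hcong a ha e he
      obtain ⟨-, hidx⟩ := index_le_two_of_congr hT hD.2.2 (commutator G) ha hall
      exact primitive_of_index hD hD2 h2 h3 (commutator G) hSq hF hidx

theorem main_Q [Finite G] {D : Set G} (hD : Cfsg.IsThreeTranspositionClass D)
    (hZ : Subgroup.center G = ⊥) (hw : ∃ a ∈ D, ∃ b ∈ D, a ≠ b ∧ Commute a b) :
    (IsSimpleGroup (commutator G) ↔ Cfsg.IsPrimitiveUnderConj D) ∧
      (Cfsg.IsPrimitiveUnderConj D ↔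
        (Cfsg.pCore 2 G = ⊥ ∧ Cfsg.pCore 3 G = ⊥ ∧ (Cfsg.commutingGraph D).Connected)) := by
  have hD2 : ∃ a ∈ D, ∃ b ∈ D, a ≠ b := by
    obtain ⟨a, ha, b, hb, hab, -⟩ := hw
    exact ⟨a, ha, b, hb, hab⟩
  refine ⟨⟨fun hS => primitive_of_simple hD hZ hw hS, fun hprim => ?_⟩,
    ⟨fun hprim => of_primitive hD hZ hw hprim, fun h => ?_⟩⟩
  · obtain ⟨h2, h3, hconn⟩ := of_primitive hD hZ hw hprim
    exact (structure_of_connected hD hD2 hZ h2 h3 hconn).2
  · exact (structure_of_connected hD hD2 hZ h.1 h.2.1 h.2.2).1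

end Cfsg.Agent.Lead.TTQ
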