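import Mathlib
import Cfsg.Agent.Lead.ThreeTransQ

set_option autoImplicit false

/-!
# Primitive 3-transposition groups: transitivity on the non-commuting members, maximality
-/

namespace Cfsg.Agent.Lead.TTM

open Cfsg.Agent.Lead.TTW Cfsg.Agent.Lead.TTS4 Cfsg.Agent.Lead.TTF Cfsg.Agent.Lead.TTG
  Cfsg.Agent.Lead.TTP Cfsg.Agent.Lead.TTQ

variable {G : Type*} [Group G]

/-- members of `D` commuting with `d` -/
def Cd (D : Set G) (d : G) : Set G := {y | y ∈ D ∧ Commute d y}

/-- the subgroup generated by the members of `D` commuting with `d` -/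
def Hd (D : Set G) (d : G) : Subgroup G := Subgroup.closure (Cd D d)

theorem Hd_commute {D : Set G} {d h : G} (hh : h ∈ Hd D d) : Commute h d := by
  have hle : Hd D d ≤ Subgroup.centralizer {d} := by
    unfold Hd
    rw [Subgroup.closure_le]
    intro y hy
    rw [SetLike.mem_coe, Subgroup.mem_centralizer_iff]
    intro x hx
    rw [Set.mem_singleton_iff] at hx
    subst hx
    exact hy.2.eq
  have h1 := hle hh
  rw [Subgroup.mem_centralizer_iff] at h1
  exact (h1 d rfl).symm

theorem conj_eq_of_commute {h d : G} (hc : Commute h d) : h * d * h⁻¹ = d := by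
  rw [hc.eq, mul_inv_cancel_right]

/-- the orbit relation of `Hd` -/
def Orb (D : Set G) (d a b : G) : Prop := ∃ h ∈ Hd D d, h * a * h⁻¹ = b

theorem Orb.refl' (D : Set G) (d a : G) : Orb D d a a := ⟨1, Subgroup.one_mem _, by group⟩

theorem Orb.symm' {D : Set G} {d a b : G} (h : Orb D d a b) : Orb D d b a := by
  obtain ⟨x, hx, rfl⟩ := h
  exact ⟨x⁻¹, Subgroup.inv_mem _ hx, by group⟩

theorem Orb.trans' {D : Set G} {d a b c : G} (h : Orb D d a b) (h' : Orb D d b c) :
    Orb D d a c := by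
  obtain ⟨x, hx, rfl⟩ := h
  obtain ⟨y, hy, rfl⟩ := h'
  exact ⟨y * x, Subgroup.mul_mem _ hy hx, by group⟩

theorem Orb.not_commute {D : Set G} {d a b : G} (h : Orb D d a b) (ha : ¬ Commute d a) :
    ¬ Commute d b := by
  obtain ⟨x, hx, rfl⟩ := h
  intro hc
  apply ha
  have hxd : Commute x d := Hd_commute hx
  have h1 : Commute (x * d * x⁻¹) (x * a * x⁻¹) := by
    rw [conj_eq_of_commute hxd]; exact hc
  exact (Commute.conj_iff x).mp h1

theorem Orb.of_mem {D : Set G} {d e a : G} (he : e ∈ D) (hed : Commute d e) :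
    Orb D d a (e * a * e⁻¹) :=
  ⟨e, Subgroup.subset_closure ⟨he, hed⟩, rfl⟩

/-! ### identities in `S₄` -/

theorem s4a : (Equiv.swap (0 : Fin 4) 3) =
    (Equiv.swap 0 1 * Equiv.swap 2 3) * Equiv.swap 1 2 * (Equiv.swap 0 1 * Equiv.swap 2 3)⁻¹ := by
  decide +kernel

theorem s4b : (Equiv.swap (1 : Fin 4) 2) * Equiv.swap 0 3 = Equiv.swap 0 3 * Equiv.swap 1 2 := by
  decide +kernel

theorem s4c : (Equiv.swap (0 : Fin 4) 3 * Equiv.swap 1 2) * Equiv.swap 0 1 *
    (Equiv.swap 0 3 * Equiv.swap 1 2)⁻¹ = Equiv.swap 2 3 := by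
  decide +kernel

theorem s4d : (Equiv.swap (1 : Fin 4) 2 * Equiv.swap 2 3 * (Equiv.swap 1 2)⁻¹) *
    (Equiv.swap 0 1 * Equiv.swap 1 2 * (Equiv.swap 0 1)⁻¹) =
    (Equiv.swap 0 1 * Equiv.swap 1 2 * (Equiv.swap 0 1)⁻¹) *
      (Equiv.swap 1 2 * Equiv.swap 2 3 * (Equiv.swap 1 2)⁻¹) := by
  decide +kernel

/-- commuting members of `A_d` are conjugate under `Hd` -/
theorem orb_of_commute {D : Set G} (hT : TT3 D) {d a b : G} (hd : d ∈ D) (ha : a ∈ D)
    (hb : b ∈ D) (had : ¬ Commute d a) (hbd : ¬ Commute d b) (hab : Commute a b) :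
    Orb D d a b := by
  have had' : ¬ Commute a d := fun h => had h.symm
  have habsq : (a * b) ^ 2 = 1 := (commute_iff_sq (hT.sq a ha) (hT.sq b hb)).mp hab
  obtain ⟨φ, h1, h2, h3⟩ := Cfsg.Agent.Helper3.S4Pres.exists_hom a d b
    (by rw [sq]; exact hT.sq a ha) (by rw [sq]; exact hT.sq d hd) (by rw [sq]; exact hT.sq b hb)
    (hT.cube a ha d hd had') (hT.cube d hd b hb hbd) habsq
  have heD : φ (Equiv.swap 0 3) ∈ D := by
    rw [s4a, map_mul, map_mul, map_inv, h2]
    exact hT.conj _ d hd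
  have hec : Commute d (φ (Equiv.swap 0 3)) := by
    show d * φ (Equiv.swap 0 3) = φ (Equiv.swap 0 3) * d
    rw [← h2, ← map_mul, ← map_mul, s4b]
  refine ⟨φ (Equiv.swap 0 3) * d, Subgroup.mul_mem _ (Subgroup.subset_closure ⟨heD, hec⟩)
    (Subgroup.subset_closure ⟨hd, Commute.refl d⟩), ?_⟩
  have key := congrArg φ s4c
  simp only [map_mul, map_inv, h1, h2, h3] at key
  exact key

theorem orb_conj_self {D : Set G} {d a : G} (hd : d ∈ D) : Orb D d a (d * a * d⁻¹) :=
  Orb.of_mem hd (Commute.refl d)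

/-- members of `A_d` in different orbits do not commute -/
theorem not_commute_of_not_orb {D : Set G} (hT : TT3 D) {d a b : G} (hd : d ∈ D) (ha : a ∈ D)
    (hb : b ∈ D) (had : ¬ Commute d a) (hbd : ¬ Commute d b) (hno : ¬ Orb D d a b) :
    ¬ Commute a b := fun h => hno (orb_of_commute hT hd ha hb had hbd h)

/-- a common commuting member of two members of `A_d` in different orbits commutes with `d` -/
theorem commute_of_common {D : Set G} (hT : TT3 D) {d a b y : G} (hd : d ∈ D) (ha : a ∈ D)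
    (hb : b ∈ D) (hy : y ∈ D) (had : ¬ Commute d a) (hbd : ¬ Commute d b)
    (hno : ¬ Orb D d a b) (hya : Commute y a) (hyb : Commute y b) : Commute y d := by
  by_contra hyd
  have hyd' : ¬ Commute d y := fun h => hyd h.symm
  exact hno ((orb_of_commute hT hd ha hy had hyd' hya.symm).trans'
    (orb_of_commute hT hd hy hb hyd' hbd hyb))

/-- the third member of the line through two members of `A_d` in different orbits is in `A_d` -/
theorem third_not_commute {D : Set G} (hT : TT3 D) {d a b : G} (hd : d ∈ D) (ha : a ∈ D)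
    (hb : b ∈ D) (had : ¬ Commute d a) (hbd : ¬ Commute d b) (hno : ¬ Orb D d a b) :
    ¬ Commute d (a * b * a⁻¹) := by
  intro hc
  apply hno
  have hnab : ¬ Commute a b := not_commute_of_not_orb hT hd ha hb had hbd hno
  have hcD : a * b * a⁻¹ ∈ D := hT.conj a b hb
  refine Orb.symm' ⟨a * b * a⁻¹, Subgroup.subset_closure ⟨hcD, hc⟩, ?_⟩
  have hai := hT.inv ha
  have hbi := hT.inv hb
  have hbr := braid (hT.sq a ha) (hT.sq b hb) (hT.cube a ha b hb hnab)
  have haa := hT.sq a ha
  have hbb := hT.sq b hb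
  calc a * b * a⁻¹ * b * (a * b * a⁻¹)⁻¹ = (a * b * a) * b * (a * b * a) := by
        rw [mul_inv_rev, mul_inv_rev, inv_inv, hai, hbi]; group
    _ = (b * a * b) * b * (a * b * a) := by rw [hbr]
    _ = b * a * (b * b) * a * b * a := by group
    _ = b * (a * a) * b * a := by rw [hbb]; group
    _ = a := by rw [haa, mul_one, hbb, one_mul]

/-- if `e` commutes with `d` and `a` but not with `b`, the third point of the line `ab` is in the
orbit of `b` -/
theorem orb_third {D : Set G} (hT : TT3 D) {d a b e : G} (hd : d ∈ D) (ha : a ∈ D)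
    (hb : b ∈ D) (had : ¬ Commute d a) (hbd : ¬ Commute d b) (hno : ¬ Orb D d a b)
    (he : e ∈ D) (hed : Commute e d) (hea : Commute e a) (heb : ¬ Commute e b) :
    Orb D d b (b * a * b⁻¹) := by
  have hnab : ¬ Commute a b := not_commute_of_not_orb hT hd ha hb had hbd hno
  have hnba : ¬ Commute b a := fun h => hnab h.symm
  have heasq : (e * a) ^ 2 = 1 := (commute_iff_sq (hT.sq e he) (hT.sq a ha)).mp hea
  obtain ⟨φ, h1, h2, h3⟩ := Cfsg.Agent.Helper3.S4Pres.exists_hom e b a
    (by rw [sq]; exact hT.sq e he) (by rw [sq]; exact hT.sq b hb) (by rw [sq]; exact hT.sq a ha)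
    (hT.cube e he b hb heb) (hT.cube b hb a ha hnba) heasq
  have hcomm : Commute (b * a * b⁻¹) (e * b * e⁻¹) := by
    have key := congrArg φ s4d
    simp only [map_mul, map_inv, h1, h2, h3] at key
    exact key
  have hcD : b * a * b⁻¹ ∈ D := hT.conj b a ha
  have hbeD : e * b * e⁻¹ ∈ D := hT.conj e b hb
  have hno' : ¬ Orb D d b a := fun h => hno h.symm'
  have hcd : ¬ Commute d (b * a * b⁻¹) := third_not_commute hT hd hb ha hbd had hno'
  have o1 : Orb D d b (e * b * e⁻¹) := Orb.of_mem he hed.symm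
  have hbed : ¬ Commute d (e * b * e⁻¹) := o1.not_commute hbd
  exact o1.trans' (orb_of_commute hT hd hbeD hcD hbed hcd hcomm.symm)

/-- common commuting members -/
def T (D : Set G) (x y : G) : Set G := {z | z ∈ D ∧ Commute z x ∧ Commute z y}

/-- the sets `T d a` for `a` in different orbits on `A_d` are nested -/
theorem nested {D : Set G} (hT : TT3 D) {d a b : G} (hd : d ∈ D) (ha : a ∈ D)
    (hb : b ∈ D) (had : ¬ Commute d a) (hbd : ¬ Commute d b) (hno : ¬ Orb D d a b) :
    T D d a ⊆ T D d b ∨ T D d b ⊆ T D d a := by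
  by_contra hcon
  rw [not_or] at hcon
  obtain ⟨h1, h2⟩ := hcon
  rw [Set.not_subset] at h1 h2
  obtain ⟨e, ⟨heD, hed, hea⟩, he2⟩ := h1
  obtain ⟨e', ⟨heD', hed', heb'⟩, he2'⟩ := h2
  have heb : ¬ Commute e b := fun h => he2 ⟨heD, hed, h⟩
  have hea' : ¬ Commute e' a := fun h => he2' ⟨heD', hed', h⟩
  have o1 := orb_third hT hd ha hb had hbd hno heD hed hea heb
  have o2 := orb_third hT hd hb ha hbd had (fun h => hno h.symm') heD' hed' heb' hea'
  have hnab : ¬ Commute a b := not_commute_of_not_orb hT hd ha hb had hbd hno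
  have hbr := braid (hT.sq a ha) (hT.sq b hb) (hT.cube a ha b hb hnab)
  have e1 : b * a * b⁻¹ = a * b * a⁻¹ := by rw [hT.inv ha, hT.inv hb]; exact hbr.symm
  rw [e1] at o1
  exact hno (o2.trans' o1.symm')

/-- the number of common commuting members -/
noncomputable def NN (D : Set G) (x y : G) : ℕ := (T D x y).ncard

theorem T_conj {D : Set G} (hT : TT3 D) (g x y : G) :
    T D (g * x * g⁻¹) (g * y * g⁻¹) = (fun z => g * z * g⁻¹) '' T D x y := by
  ext z
  constructor
  · rintro ⟨hz, h1, h2⟩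
    refine ⟨g⁻¹ * z * g, ⟨?_, ?_, ?_⟩, by group⟩
    · have := hT.conj g⁻¹ z hz
      rwa [inv_inv] at this
    · apply (Commute.conj_iff g).mp
      have e : g * (g⁻¹ * z * g) * g⁻¹ = z := by group
      rw [e]; exact h1
    · apply (Commute.conj_iff g).mp
      have e : g * (g⁻¹ * z * g) * g⁻¹ = z := by group
      rw [e]; exact h2
  · rintro ⟨w, ⟨hw, h1, h2⟩, rfl⟩
    exact ⟨hT.conj g w hw, (Commute.conj_iff g).mpr h1, (Commute.conj_iff g).mpr h2⟩

theorem NN_conj {D : Set G} (hT : TT3 D) (g x y : G) :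
    NN D (g * x * g⁻¹) (g * y * g⁻¹) = NN D x y := by
  unfold NN
  rw [T_conj hT]
  apply Set.ncard_image_of_injective
  intro u v huv
  have huv' : g * u * g⁻¹ = g * v * g⁻¹ := huv
  have := mul_right_cancel huv'
  exact mul_left_cancel this

theorem T_symm (D : Set G) (x y : G) : T D x y = T D y x := by
  ext z
  constructor
  · rintro ⟨hz, h1, h2⟩; exact ⟨hz, h2, h1⟩
  · rintro ⟨hz, h1, h2⟩; exact ⟨hz, h2, h1⟩

theorem NN_symm (D : Set G) (x y : G) : NN D x y = NN D y x := by
  unfold NN; rw [T_symm]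

/-- one step of the propagation argument -/
theorem step_A [Finite G] {D : Set G} (hT : TT3 D) {m : ℕ} {x b x' : G} (hx : x ∈ D)
    (hb : b ∈ D) (hx' : x' ∈ D) (hxb : ¬ Commute x b) (hlt : NN D x b < m)
    (hxx' : ¬ Commute x x') (hm : NN D x x' = m) :
    ¬ Commute x' b ∧ NN D x' b = NN D x b := by
  have hno : ¬ Orb D x b x' := by
    rintro ⟨h, hh, rfl⟩
    have hc : h * x * h⁻¹ = x := conj_eq_of_commute (Hd_commute hh)
    have h1 := NN_conj hT h x b
    rw [hc] at h1
    omega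
  have hnc : ¬ Commute b x' := fun h => hno (orb_of_commute hT hx hb hx' hxb hxx' h)
  refine ⟨fun h => hnc h.symm, ?_⟩
  have hTeq : T D x' b = T D x b ∩ T D x x' := by
    ext z
    constructor
    · rintro ⟨hz, h1, h2⟩
      have hzx : Commute z x := commute_of_common hT hx hb hx' hz hxb hxx' hno h2 h1
      exact ⟨⟨hz, hzx, h2⟩, ⟨hz, hzx, h1⟩⟩
    · rintro ⟨⟨hz, _, h2⟩, ⟨_, _, h3⟩⟩
      exact ⟨hz, h3, h2⟩
  rcases nested hT hx hb hx' hxb hxx' hno with hsub | hsub
  · unfold NN
    rw [hTeq, Set.inter_eq_left.mpr hsub]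
  · exfalso
    have := Set.ncard_le_ncard hsub (Set.toFinite _)
    unfold NN at hlt hm
    omega

/-- the relation "non-commuting with `m` common commuting members" -/
def RR' (D : Set G) (m : ℕ) (x y : G) : Prop := x ∈ D ∧ y ∈ D ∧ ¬ Commute x y ∧ NN D x y = m

theorem rtg_symm {R : G → G → Prop} (hs : ∀ a b, R a b → R b a) {a b : G}
    (h : Relation.ReflTransGen R a b) : Relation.ReflTransGen R b a := by
  induction h with
  | refl => exact Relation.ReflTransGen.refl
  | tail _ hbc ih => exact Relation.ReflTransGen.head (hs _ _ hbc) ih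

theorem rtg_conj {R : G → G → Prop} (hc : ∀ a b (g : G), R a b → R (g * a * g⁻¹) (g * b * g⁻¹))
    {a b : G} (h : Relation.ReflTransGen R a b) (g : G) :
    Relation.ReflTransGen R (g * a * g⁻¹) (g * b * g⁻¹) := by
  induction h with
  | refl => exact Relation.ReflTransGen.refl
  | tail _ hbc ih => exact Relation.ReflTransGen.tail ih (hc _ _ g hbc)

theorem no_small [Finite G] {D : Set G} (hT : TT3 D) {m : ℕ} {x b : G} (hx : x ∈ D) (hb : b ∈ D)
    (hxb : ¬ Commute x b) (hlt : NN D x b < m)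
    (hpath : Relation.ReflTransGen (RR' D m) x b) : False := by
  have key : ∀ y, Relation.ReflTransGen (RR' D m) x y →
      y ∈ D ∧ ¬ Commute y b ∧ NN D y b = NN D x b := by
    intro y hy
    induction hy with
    | refl => exact ⟨hx, hxb, rfl⟩
    | tail _ hstep ih =>
      obtain ⟨hyD, hyb, hyN⟩ := ih
      obtain ⟨_, hzD, hyz, hNm⟩ := hstep
      have h1 := step_A hT hyD hb hzD hyb (by rw [hyN]; exact hlt) hyz hNm
      exact ⟨hzD, h1.1, h1.2.trans hyN⟩
  exact (key b hpath).2.1 (Commute.refl b)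

/-- under primitivity all non-commuting pairs have the same number of common commuting members -/
theorem NN_const [Finite G] {D : Set G} (hT : TT3 D) (hprim : Cfsg.IsPrimitiveUnderConj D)
    (hnc : ∃ x ∈ D, ∃ y ∈ D, ¬ Commute x y) :
    ∃ m, ∀ x ∈ D, ∀ y ∈ D, ¬ Commute x y → NN D x y = m := by
  obtain ⟨x₀, hx₀, y₀, hy₀, hxy₀⟩ := hnc
  let ι := {p : G × G // p.1 ∈ D ∧ p.2 ∈ D ∧ ¬ Commute p.1 p.2}
  haveI : Nonempty ι := ⟨⟨(x₀, y₀), hx₀, hy₀, hxy₀⟩⟩
  obtain ⟨p₀, hp₀⟩ := Finite.exists_max (fun p : ι => NN D p.1.1 p.1.2)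
  obtain ⟨⟨d₀, a₀⟩, hd₀, ha₀, hda₀⟩ := p₀
  simp only at hp₀ hd₀ ha₀ hda₀
  refine ⟨NN D d₀ a₀, ?_⟩
  set m := NN D d₀ a₀ with hm
  have hsymm : ∀ a b, RR' D m a b → RR' D m b a := by
    rintro a b ⟨h1, h2, h3, h4⟩
    exact ⟨h2, h1, fun h => h3 h.symm, by rw [NN_symm]; exact h4⟩
  have hconj : ∀ a b (g : G), RR' D m a b → RR' D m (g * a * g⁻¹) (g * b * g⁻¹) := by
    rintro a b g ⟨h1, h2, h3, h4⟩
    exact ⟨hT.conj g a h1, hT.conj g b h2, fun h => h3 ((Commute.conj_iff g).mp h), by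
      rw [NN_conj hT]; exact h4⟩
  have hblk := block_of_rel hT.conj (Relation.ReflTransGen (RR' D m))
    (fun a b h => rtg_symm hsymm h)
    (fun a b c h1 h2 => Relation.ReflTransGen.trans h1 h2)
    (fun a b g h => rtg_conj hconj h g) d₀
  have hreach : ∀ y ∈ D, Relation.ReflTransGen (RR' D m) d₀ y := by
    rcases hprim.2.2 _ (fun v hv => hv.1) hblk with hsub | hall
    · exfalso
      have h1 : d₀ ∈ {v | v ∈ D ∧ Relation.ReflTransGen (RR' D m) d₀ v} :=
        ⟨hd₀, Relation.ReflTransGen.refl⟩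
      have h2 : a₀ ∈ {v | v ∈ D ∧ Relation.ReflTransGen (RR' D m) d₀ v} :=
        ⟨ha₀, Relation.ReflTransGen.single ⟨hd₀, ha₀, hda₀, rfl⟩⟩
      have := hsub h1 h2
      rw [this] at hda₀
      exact hda₀ (Commute.refl a₀)
    · intro y hy
      have : y ∈ {v | v ∈ D ∧ Relation.ReflTransGen (RR' D m) d₀ v} := by rw [hall]; exact hy
      exact this.2
  intro x hx y hy hxy
  have hle : NN D x y ≤ m := hp₀ ⟨(x, y), hx, hy, hxy⟩
  by_contra hne
  have hlt : NN D x y < m := lt_of_le_of_ne hle hne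
  have hpath : Relation.ReflTransGen (RR' D m) x y :=
    Relation.ReflTransGen.trans (rtg_symm hsymm (hreach x hx)) (hreach y hy)
  exact no_small hT hx hy hxy hlt hpath

/-- `Hd` is transitive on the members of `D` not commuting with `d` -/
theorem transitive [Finite G] {D : Set G} (hT : TT3 D) (hprim : Cfsg.IsPrimitiveUnderConj D)
    (hw : ∃ a ∈ D, ∃ b ∈ D, a ≠ b ∧ Commute a b) {d a b : G} (hd : d ∈ D) (ha : a ∈ D)
    (hb : b ∈ D) (had : ¬ Commute d a) (hbd : ¬ Commute d b) : Orb D d a b := by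
  by_contra hno
  obtain ⟨m, hm⟩ := NN_const hT hprim ⟨d, hd, a, ha, had⟩
  have hTeq : ∀ x ∈ D, ¬ Commute d x → ∀ y ∈ D, ¬ Commute d y → ¬ Orb D d x y →
      T D d x = T D d y := by
    intro x hx hxd y hy hyd hxy
    have h1 : NN D d x = m := hm d hd x hx hxd
    have h2 : NN D d y = m := hm d hd y hy hyd
    unfold NN at h1 h2
    rcases nested hT hd hx hy hxd hyd hxy with h | h
    · exact Set.eq_of_subset_of_ncard_le h (by rw [h1, h2]) (Set.toFinite _)
    · exact (Set.eq_of_subset_of_ncard_le h (by rw [h1, h2]) (Set.toFinite _)).symm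
  have hall : ∀ x ∈ D, ¬ Commute d x → T D d x = T D d a := by
    intro x hx hxd
    by_cases ho : Orb D d a x
    · have h1 : ¬ Orb D d x b := fun h => hno (ho.trans' h)
      rw [hTeq x hx hxd b hb hbd h1, hTeq a ha had b hb hbd hno]
    · exact (hTeq a ha had x hx hxd ho).symm
  have hiff : ∀ e ∈ D, Commute e d → ∀ x ∈ D, ¬ Commute d x → (Commute e x ↔ Commute e a) := by
    intro e he hed x hx hxd
    have hx' := hall x hx hxd
    constructor
    · intro h
      have h1 : e ∈ T D d x := ⟨he, hed, h⟩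
      rw [hx'] at h1
      exact h1.2.2
    · intro h
      have h1 : e ∈ T D d a := ⟨he, hed, h⟩
      rw [← hx'] at h1
      exact h1.2.2
  by_cases hcase : ∃ e ∈ D, e ≠ d ∧ Commute e d ∧ ¬ Commute e a
  · obtain ⟨e, he, hne, hed, hea⟩ := hcase
    have hsub : ∀ y ∈ D, Commute e y → Commute d y := by
      intro y hy hey
      by_contra hdy
      exact hea ((hiff e he hed y hy hdy).mp hey)
    have hsubT : T D e e ⊆ T D d d := by
      rintro z ⟨hz, h1, _⟩
      have := (hsub z hz h1.symm).symm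
      exact ⟨hz, this, this⟩
    obtain ⟨g, hg⟩ := hprim.1 d hd e he
    have hN : NN D e e = NN D d d := by rw [← hg]; exact NN_conj hT g d d
    unfold NN at hN
    have hEq : T D e e = T D d d :=
      Set.eq_of_subset_of_ncard_le hsubT (le_of_eq hN.symm) (Set.toFinite _)
    have hV : ∀ y ∈ D, Commute e y ↔ Commute d y := by
      intro y hy
      constructor
      · exact hsub y hy
      · intro h
        have h1 : y ∈ T D d d := ⟨hy, h.symm, h.symm⟩
        rw [← hEq] at h1
        exact h1.2.1.symm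
    have hblk := block_of_rel hT.conj (fun a b => ∀ e ∈ D, Commute b e ↔ Commute a e)
      (fun a b h e he => (h e he).symm)
      (fun a b c h1 h2 e he => (h2 e he).trans (h1 e he))
      (fun a b g h e he => by
        have he' : g⁻¹ * e * g ∈ D := by
          have := hT.conj g⁻¹ e he
          rwa [inv_inv] at this
        rw [commute_conj_iff', commute_conj_iff']
        exact h _ he') d
    rcases hprim.2.2 _ (fun v hv => hv.1) hblk with hsub' | hall'
    · exact hne (hsub' ⟨he, hV⟩ ⟨hd, fun _ _ => Iff.rfl⟩)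
    · have h1 : a ∈ {v | v ∈ D ∧ ∀ e ∈ D, Commute v e ↔ Commute d e} := by
        rw [hall']; exact ha
      exact had ((h1.2 d hd).mpr (Commute.refl d)).symm
  · push Not at hcase
    -- the component of `d` in the non-commuting graph
    have hsymm : ∀ x y : G, (x ∈ D ∧ y ∈ D ∧ ¬ Commute x y) → (y ∈ D ∧ x ∈ D ∧ ¬ Commute y x) := by
      rintro x y ⟨h1, h2, h3⟩
      exact ⟨h2, h1, fun h => h3 h.symm⟩
    have hconj : ∀ x y (g : G), (x ∈ D ∧ y ∈ D ∧ ¬ Commute x y) →
        (g * x * g⁻¹ ∈ D ∧ g * y * g⁻¹ ∈ D ∧ ¬ Commute (g * x * g⁻¹) (g * y * g⁻¹)) := by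
      rintro x y g ⟨h1, h2, h3⟩
      exact ⟨hT.conj g x h1, hT.conj g y h2, fun h => h3 ((Commute.conj_iff g).mp h)⟩
    have hclosed : ∀ y, Relation.ReflTransGen (fun x y : G => x ∈ D ∧ y ∈ D ∧ ¬ Commute x y) d y →
        y = d ∨ (y ∈ D ∧ ¬ Commute d y) := by
      intro y hy
      induction hy with
      | refl => left; rfl
      | @tail y z _ hstep ih =>
        obtain ⟨hyD, hzD, hyz⟩ := hstep
        rcases ih with rfl | ⟨_, hyd⟩
        · right; exact ⟨hzD, hyz⟩
        · by_cases hzd : z = d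
          · left; exact hzd
          · right
            refine ⟨hzD, fun hdz => ?_⟩
            have hza := hcase z hzD hzd hdz.symm
            have hzy := (hiff z hzD hdz.symm _ hyD hyd).mpr hza
            exact hyz hzy.symm
    have hblk := block_of_rel hT.conj
      (Relation.ReflTransGen (fun x y : G => x ∈ D ∧ y ∈ D ∧ ¬ Commute x y))
      (fun a b h => rtg_symm hsymm h)
      (fun a b c h1 h2 => Relation.ReflTransGen.trans h1 h2)
      (fun a b g h => rtg_conj hconj h g) d
    obtain ⟨a₁, ha₁, b₁, hb₁, hab₁, hcomm₁⟩ := hw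
    obtain ⟨g, hg⟩ := hprim.1 a₁ ha₁ d hd
    have heD : g * b₁ * g⁻¹ ∈ D := hT.conj g b₁ hb₁
    have hed : Commute d (g * b₁ * g⁻¹) := by
      rw [← hg]; exact (Commute.conj_iff g).mpr hcomm₁
    have hne : g * b₁ * g⁻¹ ≠ d := by
      intro h
      rw [← hg] at h
      have := mul_right_cancel h
      exact hab₁ (mul_left_cancel this).symm
    rcases hprim.2.2 _ (fun v hv => hv.1) hblk with hsub | hall'
    · have h1 : d ∈ {v | v ∈ D ∧ Relation.ReflTransGen
          (fun x y : G => x ∈ D ∧ y ∈ D ∧ ¬ Commute x y) d v} := ⟨hd, Relation.ReflTransGen.refl⟩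
      have h2 : a ∈ {v | v ∈ D ∧ Relation.ReflTransGen
          (fun x y : G => x ∈ D ∧ y ∈ D ∧ ¬ Commute x y) d v} :=
        ⟨ha, Relation.ReflTransGen.single ⟨hd, ha, had⟩⟩
      have := hsub h1 h2
      rw [this] at had
      exact had (Commute.refl a)
    · have h1 : g * b₁ * g⁻¹ ∈ {v | v ∈ D ∧ Relation.ReflTransGen
          (fun x y : G => x ∈ D ∧ y ∈ D ∧ ¬ Commute x y) d v} := by rw [hall']; exact heD
      rcases hclosed _ h1.2 with h | h
      · exact hne h
      · exact h.2 hed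

/-- a primitive set of 3-transpositions is a class -/
theorem class_of_primitive {D : Set G} (hD : Cfsg.IsThreeTranspositionGroup D)
    (hprim : Cfsg.IsPrimitiveUnderConj D) : Cfsg.IsThreeTranspositionClass D := by
  obtain ⟨hS, hconj, hgen⟩ := hD
  obtain ⟨d, hd, -⟩ := hprim.2.1
  refine ⟨hS, ⟨d, hd, ?_⟩, hgen⟩
  ext x
  constructor
  · intro hx
    obtain ⟨g, hg⟩ := hprim.1 d hd x hx
    exact isConj_iff.mpr ⟨g, hg⟩
  · intro hx
    obtain ⟨g, rfl⟩ := isConj_iff.mp hx
    exact hconj g d hd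

/-- primitivity forces `O₂` and `O₃` to be central and the commuting graph to be connected -/
theorem of_primitive' [Finite G] {D : Set G} (hD : Cfsg.IsThreeTranspositionClass D)
    (hw : ∃ a ∈ D, ∃ b ∈ D, a ≠ b ∧ Commute a b)
    (hprim : Cfsg.IsPrimitiveUnderConj D) :
    Cfsg.pCore 2 G ≤ Subgroup.center G ∧ Cfsg.pCore 3 G ≤ Subgroup.center G ∧
      (Cfsg.commutingGraph D).Connected := by
  have hT := tt3_of_class hD
  obtain ⟨hconjAll, hD2, hblocks⟩ := hprim
  obtain ⟨a₀, ha₀, b₀, hb₀, hab₀, hcomm₀⟩ := hw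
  have hd := ha₀
  set d := a₀ with hddef
  refine ⟨?_, ?_, ?_⟩
  · by_contra hnc
    obtain ⟨x, hx, hxd⟩ := noncentral_move hD (Cfsg.pCore 2 G) hnc hd
    have hS := (Cfsg.Agent.Helper5.ThreeTrans.main_S5349 hD hD2 hd).2
    have hv : x * d * x⁻¹ ∈ {v : G | v ∈ D ∧ ∀ e ∈ D, Commute v e ↔ Commute d e} := by
      rw [hS]; exact ⟨x, hx, rfl⟩
    have hdv : d ∈ {v : G | v ∈ D ∧ ∀ e ∈ D, Commute v e ↔ Commute d e} :=
      ⟨hd, fun e _ => Iff.rfl⟩
    have hblk := block_of_rel hT.conj (fun a b => ∀ e ∈ D, Commute b e ↔ Commute a e)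
      (fun a b h e he => (h e he).symm)
      (fun a b c h1 h2 e he => (h2 e he).trans (h1 e he))
      (fun a b g h e he => by
        have he' : g⁻¹ * e * g ∈ D := by
          have := hT.conj g⁻¹ e he
          rwa [inv_inv] at this
        rw [commute_conj_iff', commute_conj_iff']
        exact h _ he') d
    rcases hblocks _ (fun v hv => hv.1) hblk with hsub | hall
    · exact hxd (hsub hv hdv)
    · have hcen : d ∈ Subgroup.center G := by
        have : Subgroup.zpowers d ≤ Subgroup.center G := by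
          apply le_center_of_commute hD.2.2
          intro e he y hy
          have heV : e ∈ {v : G | v ∈ D ∧ ∀ e ∈ D, Commute v e ↔ Commute d e} := by
            rw [hall]; exact he
          have hce : Commute d e := (heV.2 e he).mp (Commute.refl e)
          obtain ⟨k, rfl⟩ := Subgroup.mem_zpowers_iff.mp hy
          exact (hce.symm.zpow_right k)
        exact this (Subgroup.mem_zpowers d)
      apply hxd
      rw [Subgroup.mem_center_iff] at hcen
      rw [hcen x, mul_inv_cancel_right]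
  · by_contra hnc
    obtain ⟨x, hx, hxd⟩ := noncentral_move hD (Cfsg.pCore 3 G) hnc hd
    have hS := (main_W hT hd).2
    have hv : x * d * x⁻¹ ∈ blk D d := by
      show x * d * x⁻¹ ∈ {w : G | w ∈ D ∧ {y : G | y ∈ D ∧ y ≠ d ∧ Commute d y} =
        {y : G | y ∈ D ∧ y ≠ w ∧ Commute w y}}
      rw [hS]; exact ⟨x, hx, rfl⟩
    have hblk := block_of_rel hT.conj (WRel D) (fun a b h => h.symm')
      (fun a b c h1 h2 => h1.trans' h2) (fun a b g h => h.conj hT g) d
    rcases hblocks (blk D d) (fun v hv => hv.1) hblk with hsub | hall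
    · exact hxd (hsub hv (mem_blk_self hd))
    · have h1 : d ∈ blk D d := mem_blk_self hd
      have h2 : b₀ ∈ blk D d := by rw [hall]; exact hb₀
      exact WRel.not_commute hb₀ h2.2 hab₀ hcomm₀
  · have hblk := block_of_rel hT.conj (Rch D) (fun a b h => h.symm')
      (fun a b c h1 h2 => Relation.ReflTransGen.trans h1 h2)
      (fun a b g h => h.conj' hT.conj g) d
    rcases hblocks _ (fun v hv => hv.1) hblk with hsub | hall
    · exfalso
      have h1 : d ∈ {v | v ∈ D ∧ Rch D d v} := ⟨hd, Relation.ReflTransGen.refl⟩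
      have h2 : b₀ ∈ {v | v ∈ D ∧ Rch D d v} :=
        ⟨hb₀, Relation.ReflTransGen.single ⟨hd, hb₀, hcomm₀⟩⟩
      exact hab₀ (hsub h1 h2)
    · have hr : ∀ e (he : e ∈ D), (Cfsg.commutingGraph D).Reachable ⟨d, hd⟩ ⟨e, he⟩ := by
        intro e he
        have : e ∈ {v | v ∈ D ∧ Rch D d v} := by rw [hall]; exact he
        exact reachable_of_rch this.2 hd he
      haveI : Nonempty D := ⟨⟨d, hd⟩⟩
      exact ⟨fun u v => (hr u.1 u.2).symm.trans (hr v.1 v.2)⟩

/-- some member of `D` does not commute with `d` -/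
theorem exists_not_commute {D : Set G} (hD : Cfsg.IsThreeTranspositionGroup D)
    (hprim : Cfsg.IsPrimitiveUnderConj D) {d : G} (hd : d ∈ D) :
    ∃ a ∈ D, ¬ Commute d a := by
  by_contra hcon
  push Not at hcon
  have hcen : Subgroup.zpowers d ≤ Subgroup.center G := by
    apply le_center_of_commute hD.2.2
    intro e he y hy
    obtain ⟨k, rfl⟩ := Subgroup.mem_zpowers_iff.mp hy
    exact ((hcon e he).symm.zpow_right k)
  have hdc : d ∈ Subgroup.center G := hcen (Subgroup.mem_zpowers d)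
  obtain ⟨a, ha, b, hb, hab⟩ := hprim.2.1
  obtain ⟨g, hg⟩ := hprim.1 d hd a ha
  obtain ⟨g', hg'⟩ := hprim.1 d hd b hb
  rw [Subgroup.mem_center_iff] at hdc
  apply hab
  rw [← hg, ← hg', hdc g, hdc g', mul_inv_cancel_right, mul_inv_cancel_right]

theorem main_M [Finite G] {D : Set G} (hD : Cfsg.IsThreeTranspositionGroup D)
    (hprim : Cfsg.IsPrimitiveUnderConj D) (hw : ∃ a ∈ D, ∃ b ∈ D, a ≠ b ∧ Commute a b) :
    (∃ L : Subgroup G, L.Normal ∧ Cfsg.IsQuasisimple L ∧ L.index ≤ 2 ∧
        Cfsg.generalizedFittingSubgroup G = L ⊔ Subgroup.center G) ∧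
      (Cfsg.commutingGraph D).Connected ∧
      ∀ d ∈ D, Subgroup.closure {y : G | y ∈ D ∧ Commute d y} ≠ ⊤ ∧
        ∀ H : Subgroup G, Cfsg.IsDSubgroup D H →
          Subgroup.closure {y : G | y ∈ D ∧ Commute d y} ≤ H →
          H = Subgroup.closure {y : G | y ∈ D ∧ Commute d y} ∨ H = ⊤ := by
  have hcls := class_of_primitive hD hprim
  have hT := tt3_of_class hcls
  obtain ⟨h2, h3, hconn⟩ := of_primitive' hcls hw hprim
  refine ⟨?_, hconn, ?_⟩
  · obtain ⟨L, hLn, hLq, hF, -⟩ := main_G hcls hprim.2.1 h2 h3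
    haveI := hLn
    exact ⟨L, hLn, hLq, index_of_connected hcls hprim.2.1 L hLq hconn, hF⟩
  · intro d hd
    obtain ⟨a, ha, had⟩ := exists_not_commute hD hprim hd
    refine ⟨?_, ?_⟩
    · intro htop
      have h1 : a ∈ Hd D d := by
        show a ∈ Subgroup.closure {y : G | y ∈ D ∧ Commute d y}
        rw [htop]; exact Subgroup.mem_top a
      exact had (Hd_commute h1).symm
    · intro H hH hle
      by_cases hex : ∃ x ∈ D, x ∈ H ∧ ¬ Commute d x
      · right
        obtain ⟨x, hxD, hxH, hxd⟩ := hex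
        rw [eq_top_iff, ← hD.2.2, Subgroup.closure_le]
        intro y hy
        by_cases hyd : Commute d y
        · exact hle (Subgroup.subset_closure ⟨hy, hyd⟩)
        · obtain ⟨h, hh, rfl⟩ := transitive hT hprim hw hd hxD hy hxd hyd
          have hhH : h ∈ H := hle hh
          exact H.mul_mem (H.mul_mem hhH hxH) (H.inv_mem hhH)
      · left
        push Not at hex
        apply le_antisymm _ hle
        unfold Cfsg.IsDSubgroup at hH
        rw [← hH]
        apply Subgroup.closure_mono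
        rintro x ⟨hxD, hxH⟩
        exact ⟨hxD, hex x hxD hxH⟩

end Cfsg.Agent.Lead.TTM
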