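import Mathlib
import Cfsg.Agent.Lead.ThreeTransM

set_option autoImplicit false

/-!
# Primitive 3-transposition groups: the members commuting with a given one

For a primitive class `D` of 3-transpositions containing a commuting pair, and `a ∈ D`, the
non-commuting graph on `D_a = {x ∈ D | x ≠ a, [x, a] = 1}` is connected, so that the subgroup
generated by `D_a` is transitive on `D_a`.
-/

namespace Cfsg.Agent.Lead.TTR

open Cfsg.Agent.Lead.TTW Cfsg.Agent.Lead.TTS4 Cfsg.Agent.Lead.TTF Cfsg.Agent.Lead.TTG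
  Cfsg.Agent.Lead.TTP Cfsg.Agent.Lead.TTQ Cfsg.Agent.Lead.TTM

variable {G : Type*} [Group G]

/-! ### Part A: the frame of four commuting members -/

/-- the switching element: it interchanges `p` and `q` -/
def sw (p q b : G) : G := b * ((p * q) * b * (p * q)⁻¹)

theorem s4x : (Equiv.swap (1 : Fin 4) 2 * ((Equiv.swap 0 1 * Equiv.swap 2 3) * Equiv.swap 1 2 *
      (Equiv.swap 0 1 * Equiv.swap 2 3)⁻¹)) *
    (Equiv.swap (1 : Fin 4) 2 * ((Equiv.swap 0 1 * Equiv.swap 2 3) * Equiv.swap 1 2 *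
      (Equiv.swap 0 1 * Equiv.swap 2 3)⁻¹)) = 1 := by
  decide +kernel

theorem s4y : (Equiv.swap (1 : Fin 4) 2 * ((Equiv.swap 0 1 * Equiv.swap 2 3) * Equiv.swap 1 2 *
      (Equiv.swap 0 1 * Equiv.swap 2 3)⁻¹)) * Equiv.swap 0 1 *
    (Equiv.swap (1 : Fin 4) 2 * ((Equiv.swap 0 1 * Equiv.swap 2 3) * Equiv.swap 1 2 *
      (Equiv.swap 0 1 * Equiv.swap 2 3)⁻¹))⁻¹ = Equiv.swap 2 3 := by
  decide +kernel

theorem s4z : (Equiv.swap (1 : Fin 4) 2 * ((Equiv.swap 0 1 * Equiv.swap 2 3) * Equiv.swap 1 2 *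
      (Equiv.swap 0 1 * Equiv.swap 2 3)⁻¹)) * Equiv.swap 2 3 *
    (Equiv.swap (1 : Fin 4) 2 * ((Equiv.swap 0 1 * Equiv.swap 2 3) * Equiv.swap 1 2 *
      (Equiv.swap 0 1 * Equiv.swap 2 3)⁻¹))⁻¹ = Equiv.swap 0 1 := by
  decide +kernel

theorem sw_props {p q b : G} (hp : p * p = 1) (hq : q * q = 1) (hb : b * b = 1)
    (hpq : Commute p q) (hpb : (p * b) ^ 3 = 1) (hbq : (b * q) ^ 3 = 1) :
    sw p q b * sw p q b = 1 ∧ sw p q b * p * (sw p q b)⁻¹ = q ∧
      sw p q b * q * (sw p q b)⁻¹ = p := by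
  obtain ⟨φ, h1, h2, h3⟩ := Cfsg.Agent.Helper3.S4Pres.exists_hom p b q
    (by rw [sq]; exact hp) (by rw [sq]; exact hb) (by rw [sq]; exact hq) hpb hbq
    ((commute_iff_sq hp hq).mp hpq)
  have k1 := congrArg φ s4x
  have k2 := congrArg φ s4y
  have k3 := congrArg φ s4z
  simp only [map_mul, map_inv, map_one, h1, h2, h3] at k1 k2 k3
  exact ⟨k1, k2, k3⟩

/-- the fourth member of the frame -/
def Wf (a e f b : G) : G := b * ((a * e * f) * b * (a * e * f)⁻¹) * b⁻¹

theorem sw_conj_third {a e f b : G} (hae : Commute a e) (haf : Commute a f)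
    (hbr : b * a * b⁻¹ = a * b * a⁻¹) :
    sw e f b * a * (sw e f b)⁻¹ = Wf a e f b := by
  unfold sw Wf
  have hc : Commute a (e * f) := hae.mul_right haf
  have h1 : (e * f)⁻¹ * a * (e * f) = a := by
    rw [mul_assoc, hc.eq, ← mul_assoc, inv_mul_cancel, one_mul]
  calc b * (e * f * b * (e * f)⁻¹) * a * (b * (e * f * b * (e * f)⁻¹))⁻¹
      = b * ((e * f) * (b * ((e * f)⁻¹ * a * (e * f)) * b⁻¹) * (e * f)⁻¹) * b⁻¹ := by group
    _ = b * ((e * f) * (b * a * b⁻¹) * (e * f)⁻¹) * b⁻¹ := by rw [h1]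
    _ = b * ((e * f) * (a * b * a⁻¹) * (e * f)⁻¹) * b⁻¹ := by rw [hbr]
    _ = b * (((e * f) * a) * b * ((e * f) * a)⁻¹) * b⁻¹ := by group
    _ = b * ((a * e * f) * b * (a * e * f)⁻¹) * b⁻¹ := by
        have e1 : e * f * a = a * e * f := by rw [← hc.eq, mul_assoc]
        rw [e1]

theorem conj_conj_of_sq {g x : G} (hg : g * g = 1) : g * (g * x * g⁻¹) * g⁻¹ = x := by
  calc g * (g * x * g⁻¹) * g⁻¹ = (g * g) * x * (g * g)⁻¹ := by group
    _ = x := by rw [hg, inv_one, one_mul, mul_one]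

/-- four pairwise commuting members of `D` permuted by a four-group of conjugations -/
structure Frame (D : Set G) (a e f w : G) : Prop where
  ha : a ∈ D
  he : e ∈ D
  hf : f ∈ D
  hw : w ∈ D
  hae : Commute a e
  haf : Commute a f
  haw : Commute a w
  hef : Commute e f
  hew : Commute e w
  hfw : Commute f w
  g1 : ∃ g : G, g * a * g⁻¹ = w ∧ g * w * g⁻¹ = a ∧ g * e * g⁻¹ = f ∧ g * f * g⁻¹ = e
  g2 : ∃ g : G, g * e * g⁻¹ = w ∧ g * w * g⁻¹ = e ∧ g * a * g⁻¹ = f ∧ g * f * g⁻¹ = a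
  g3 : ∃ g : G, g * f * g⁻¹ = w ∧ g * w * g⁻¹ = f ∧ g * a * g⁻¹ = e ∧ g * e * g⁻¹ = a

theorem Frame.swap_ew {D : Set G} {a e f w : G} (F : Frame D a e f w) : Frame D a w f e where
  ha := F.ha
  he := F.hw
  hf := F.hf
  hw := F.he
  hae := F.haw
  haf := F.haf
  haw := F.hae
  hef := F.hfw.symm
  hew := F.hew.symm
  hfw := F.hef.symm
  g1 := by
    obtain ⟨g, h1, h2, h3, h4⟩ := F.g3
    exact ⟨g, h3, h4, h2, h1⟩
  g2 := by
    obtain ⟨g, h1, h2, h3, h4⟩ := F.g2
    exact ⟨g, h2, h1, h3, h4⟩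
  g3 := by
    obtain ⟨g, h1, h2, h3, h4⟩ := F.g1
    exact ⟨g, h4, h3, h1, h2⟩

theorem Frame.swap_ef {D : Set G} {a e f w : G} (F : Frame D a e f w) : Frame D a f e w where
  ha := F.ha
  he := F.hf
  hf := F.he
  hw := F.hw
  hae := F.haf
  haf := F.hae
  haw := F.haw
  hef := F.hef.symm
  hew := F.hfw
  hfw := F.hew
  g1 := by
    obtain ⟨g, h1, h2, h3, h4⟩ := F.g1
    exact ⟨g, h1, h2, h4, h3⟩
  g2 := by
    obtain ⟨g, h1, h2, h3, h4⟩ := F.g3
    exact ⟨g, h1, h2, h3, h4⟩
  g3 := by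
    obtain ⟨g, h1, h2, h3, h4⟩ := F.g2
    exact ⟨g, h1, h2, h3, h4⟩

theorem Frame.w_ne_a {D : Set G} {a e f w : G} (F : Frame D a e f w) (hef : e ≠ f) : w ≠ a := by
  intro h
  obtain ⟨g, h1, _, _, h4⟩ := F.g2
  apply hef
  have : g * e * g⁻¹ = g * f * g⁻¹ := by rw [h1, h4, h]
  exact mul_left_cancel (mul_right_cancel this)

theorem braid_conj {D : Set G} (hT : TT3 D) {b x : G} (hb : b ∈ D) (hx : x ∈ D)
    (hbx : ¬ Commute b x) : b * x * b⁻¹ = x * b * x⁻¹ := by
  rw [hT.inv hb, hT.inv hx]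
  exact braid (hT.sq b hb) (hT.sq x hx) (hT.cube b hb x hx hbx)

theorem frame_exists {D : Set G} (hT : TT3 D) {a e f b : G} (ha : a ∈ D) (he : e ∈ D)
    (hf : f ∈ D) (hb : b ∈ D) (hae : Commute a e) (haf : Commute a f) (hef : Commute e f)
    (hab : ¬ Commute a b) (heb : ¬ Commute e b) (hfb : ¬ Commute f b) :
    Frame D a e f (Wf a e f b) := by
  have hba : ¬ Commute b a := fun h => hab h.symm
  have hbe : ¬ Commute b e := fun h => heb h.symm
  have hbf : ¬ Commute b f := fun h => hfb h.symm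
  have hwD : Wf a e f b ∈ D := hT.conj b _ (hT.conj (a * e * f) b hb)
  -- the three switching elements
  obtain ⟨p1, q1, r1⟩ := sw_props (hT.sq e he) (hT.sq f hf) (hT.sq b hb) hef
    (hT.cube e he b hb heb) (hT.cube b hb f hf hbf)
  obtain ⟨p2, q2, r2⟩ := sw_props (hT.sq a ha) (hT.sq f hf) (hT.sq b hb) haf
    (hT.cube a ha b hb hab) (hT.cube b hb f hf hbf)
  obtain ⟨p3, q3, r3⟩ := sw_props (hT.sq a ha) (hT.sq e he) (hT.sq b hb) hae
    (hT.cube a ha b hb hab) (hT.cube b hb e he hbe)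
  have t1 : sw e f b * a * (sw e f b)⁻¹ = Wf a e f b :=
    sw_conj_third hae haf (braid_conj hT hb ha hba)
  have t2 : sw a f b * e * (sw a f b)⁻¹ = Wf a e f b := by
    rw [sw_conj_third hae.symm hef (braid_conj hT hb he hbe)]
    unfold Wf
    rw [← hae.eq]
  have t3 : sw a e b * f * (sw a e b)⁻¹ = Wf a e f b := by
    rw [sw_conj_third haf.symm hef.symm (braid_conj hT hb hf hbf)]
    unfold Wf
    have : f * a * e = a * e * f := by
      rw [← haf.eq, mul_assoc, ← hef.eq, ← mul_assoc]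
    rw [this]
  have u1 : sw e f b * Wf a e f b * (sw e f b)⁻¹ = a := by
    rw [← t1]; exact conj_conj_of_sq p1
  have u2 : sw a f b * Wf a e f b * (sw a f b)⁻¹ = e := by
    rw [← t2]; exact conj_conj_of_sq p2
  have u3 : sw a e b * Wf a e f b * (sw a e b)⁻¹ = f := by
    rw [← t3]; exact conj_conj_of_sq p3
  refine ⟨ha, he, hf, hwD, hae, haf, ?_, hef, ?_, ?_, ⟨sw e f b, t1, u1, q1, r1⟩,
    ⟨sw a f b, t2, u2, q2, r2⟩, ⟨sw a e b, t3, u3, q3, r3⟩⟩
  · -- `a` and `w` commute: conjugate `f, e` by the second element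
    have := (Commute.conj_iff (sw a f b)).mpr hef.symm
    rwa [r2, t2] at this
  · have := (Commute.conj_iff (sw e f b)).mpr haf.symm
    rwa [r1, t1] at this
  · have := (Commute.conj_iff (sw e f b)).mpr hae.symm
    rwa [q1, t1] at this

/-! ### Part B: the non-commuting graph on the members commuting with `a` -/

/-- adjacency: both commute with `a`, and they do not commute -/
def Adj (D : Set G) (a x y : G) : Prop :=
  x ∈ D ∧ y ∈ D ∧ Commute a x ∧ Commute a y ∧ ¬ Commute x y

/-- same connected component -/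
def SC (D : Set G) (a : G) : G → G → Prop := Relation.ReflTransGen (Adj D a)

theorem Adj.symm' {D : Set G} {a x y : G} (h : Adj D a x y) : Adj D a y x :=
  ⟨h.2.1, h.1, h.2.2.2.1, h.2.2.1, fun hc => h.2.2.2.2 hc.symm⟩

theorem SC.symm' {D : Set G} {a x y : G} (h : SC D a x y) : SC D a y x :=
  rtg_symm (fun _ _ h => Adj.symm' h) h

theorem SC.trans' {D : Set G} {a x y z : G} (h : SC D a x y) (h' : SC D a y z) : SC D a x z :=
  Relation.ReflTransGen.trans h h'

theorem Adj.conj {D : Set G} (hT : TT3 D) {a x y : G} (h : Adj D a x y) (g : G) :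
    Adj D (g * a * g⁻¹) (g * x * g⁻¹) (g * y * g⁻¹) :=
  ⟨hT.conj g x h.1, hT.conj g y h.2.1, (Commute.conj_iff g).mpr h.2.2.1,
    (Commute.conj_iff g).mpr h.2.2.2.1, fun hc => h.2.2.2.2 ((Commute.conj_iff g).mp hc)⟩

theorem SC.conj {D : Set G} (hT : TT3 D) {a x y : G} (h : SC D a x y) (g : G) :
    SC D (g * a * g⁻¹) (g * x * g⁻¹) (g * y * g⁻¹) := by
  induction h with
  | refl => exact Relation.ReflTransGen.refl
  | tail _ hbc ih => exact Relation.ReflTransGen.tail ih (hbc.conj hT g)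

/-- membership in `D_a` is preserved along a path -/
theorem SC.mem_right {D : Set G} {a x y : G} (h : SC D a x y) (hx : x ∈ D) (hax : Commute a x)
    (hxa : x ≠ a) : y ∈ D ∧ Commute a y ∧ y ≠ a := by
  induction h with
  | refl => exact ⟨hx, hax, hxa⟩
  | @tail u v _ huv _ =>
    refine ⟨huv.2.1, huv.2.2.2.1, ?_⟩
    rintro rfl
    exact huv.2.2.2.2 huv.2.2.1.symm

/-- a member not commuting with two members of `D_a` in different components is not in `D_a` -/
theorem sep {D : Set G} {a x y z : G} (hx : x ∈ D) (hy : y ∈ D) (hz : z ∈ D)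
    (hax : Commute a x) (hay : Commute a y) (hns : ¬ SC D a x y) (hzx : ¬ Commute z x)
    (hzy : ¬ Commute z y) : ¬ Commute z a := by
  intro hza
  apply hns
  exact Relation.ReflTransGen.tail
    (Relation.ReflTransGen.single ⟨hx, hz, hax, hza.symm, fun h => hzx h.symm⟩)
    ⟨hz, hy, hza.symm, hay, hzy⟩

theorem Frame.iff {D : Set G} (hT : TT3 D) {a e f w : G} (F : Frame D a e f w)
    (hns : ¬ SC D a e f) {z : G} (hz : z ∈ D) :
    (¬ Commute z e ∧ ¬ Commute z f) ↔ (¬ Commute z a ∧ ¬ Commute z w) := by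
  constructor
  · rintro ⟨hze, hzf⟩
    refine ⟨sep F.he F.hf hz F.hae F.haf hns hze hzf, ?_⟩
    have hns' : ¬ SC D w e f := by
      intro h
      obtain ⟨g, h1, h2, h3, h4⟩ := F.g1
      have := h.conj hT g
      rw [h2, h3, h4] at this
      exact hns this.symm'
    exact sep F.he F.hf hz F.hew.symm F.hfw.symm hns' hze hzf
  · rintro ⟨hza, hzw⟩
    constructor
    · have hns' : ¬ SC D e a w := by
        intro h
        obtain ⟨g, h1, h2, h3, h4⟩ := F.g3
        have := h.conj hT g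
        rw [h4, h3, h2] at this
        exact hns this
      exact sep F.ha F.hw hz F.hae.symm F.hew hns' hza hzw
    · have hns' : ¬ SC D f a w := by
        intro h
        obtain ⟨g, h1, h2, h3, h4⟩ := F.g2
        have := h.conj hT g
        rw [h4, h3, h2] at this
        exact hns this.symm'
      exact sep F.ha F.hw hz F.haf.symm F.hfw hns' hza hzw

/-- the property `Q(e)` -/
theorem Frame.Q {D : Set G} (hT : TT3 D) {a e f w : G} (F : Frame D a e f w)
    (hns1 : ¬ SC D a e f) (hns2 : ¬ SC D a w f) {z : G} (hz : z ∈ D) (hze : ¬ Commute z e) :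
    ¬ Commute z a ↔ ¬ Commute z f := by
  constructor
  · intro hza
    exact ((F.swap_ew.iff hT hns2 hz).mpr ⟨hza, hze⟩).2
  · intro hzf
    exact ((F.iff hT hns1 hz).mp ⟨hze, hzf⟩).1

/-! ### Part C: connectedness -/

/-- adjacency in the non-commuting graph of `D` -/
def NC (D : Set G) (x y : G) : Prop := x ∈ D ∧ y ∈ D ∧ ¬ Commute x y

theorem nc_connected {D : Set G} (hD : Cfsg.IsThreeTranspositionGroup D) (hT : TT3 D)
    (hprim : Cfsg.IsPrimitiveUnderConj D) {x y : G} (hx : x ∈ D) (hy : y ∈ D) :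
    Relation.ReflTransGen (NC D) x y := by
  have hsymm : ∀ x y : G, NC D x y → NC D y x := by
    rintro x y ⟨h1, h2, h3⟩
    exact ⟨h2, h1, fun h => h3 h.symm⟩
  have hconj : ∀ x y (g : G), NC D x y → NC D (g * x * g⁻¹) (g * y * g⁻¹) := by
    rintro x y g ⟨h1, h2, h3⟩
    exact ⟨hT.conj g x h1, hT.conj g y h2, fun h => h3 ((Commute.conj_iff g).mp h)⟩
  have hblk := block_of_rel hT.conj (Relation.ReflTransGen (NC D))
    (fun a b h => rtg_symm hsymm h)
    (fun a b c h1 h2 => Relation.ReflTransGen.trans h1 h2)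
    (fun a b g h => rtg_conj hconj h g) x
  obtain ⟨c, hc, hxc⟩ := exists_not_commute hD hprim hx
  rcases hprim.2.2 _ (fun v hv => hv.1) hblk with hsub | hall
  · exfalso
    have h1 : x ∈ {v | v ∈ D ∧ Relation.ReflTransGen (NC D) x v} :=
      ⟨hx, Relation.ReflTransGen.refl⟩
    have h2 : c ∈ {v | v ∈ D ∧ Relation.ReflTransGen (NC D) x v} :=
      ⟨hc, Relation.ReflTransGen.single ⟨hx, hc, hxc⟩⟩
    have := hsub h1 h2
    rw [this] at hxc
    exact hxc (Commute.refl c)
  · have : y ∈ {v | v ∈ D ∧ Relation.ReflTransGen (NC D) x v} := by rw [hall]; exact hy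
    exact this.2

/-- conjugating by a member of `D` commuting with `a` stays in the component -/
theorem SC_gen {D : Set G} (hT : TT3 D) {a x y : G} (hx : x ∈ D) (hax : Commute a x)
    (hy : y ∈ D) (hay : Commute a y) : SC D a x (y * x * y⁻¹) := by
  by_cases hc : Commute x y
  · have : y * x * y⁻¹ = x := by rw [← hc.eq, mul_inv_cancel_right]
    rw [this]; exact Relation.ReflTransGen.refl
  · apply Relation.ReflTransGen.single
    refine ⟨hx, hT.conj y x hx, hax, ?_, ?_⟩
    · exact (hay.mul_right hax).mul_right hay.inv_right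
    · intro h
      apply hc
      have hyx : ¬ Commute y x := fun h' => hc h'.symm
      have e1 : y * x * y⁻¹ = x * y * x⁻¹ := braid_conj hT hy hx hyx
      rw [e1] at h
      have h' : Commute (x * x * x⁻¹) (x * y * x⁻¹) := by
        rw [mul_inv_cancel_right]; exact h
      exact (Commute.conj_iff x).mp h'

/-- the subgroup generated by the members commuting with `a` preserves the components -/
theorem SC_Hd {D : Set G} (hT : TT3 D) {a h : G} (hh : h ∈ Hd D a) :
    ∀ x, x ∈ D → Commute a x → x ≠ a → SC D a x (h * x * h⁻¹) := by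
  unfold Hd at hh
  induction hh using Subgroup.closure_induction with
  | mem y hy =>
    intro x hx hax _
    exact SC_gen hT hx hax hy.1 hy.2
  | one =>
    intro x _ _ _
    rw [one_mul, inv_one, mul_one]
    exact Relation.ReflTransGen.refl
  | mul h1 h2 _ _ ih1 ih2 =>
    intro x hx hax hxa
    have s2 := ih2 x hx hax hxa
    obtain ⟨m1, m2, m3⟩ := s2.mem_right hx hax hxa
    have s1 := ih1 _ m1 m2 m3
    have e : h1 * h2 * x * (h1 * h2)⁻¹ = h1 * (h2 * x * h2⁻¹) * h1⁻¹ := by group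
    rw [e]
    exact s2.trans' s1
  | inv h hmem ih =>
    intro x hx hax hxa
    have hha : Commute h a := Hd_commute (D := D) hmem
    have hx' : h⁻¹ * x * h ∈ D := by
      have := hT.conj h⁻¹ x hx
      rwa [inv_inv] at this
    have hax' : Commute a (h⁻¹ * x * h) :=
      (hha.symm.inv_right.mul_right hax).mul_right hha.symm
    have hxa' : h⁻¹ * x * h ≠ a := by
      intro he
      apply hxa
      have : x = h * a * h⁻¹ := by rw [← he]; group
      rw [this, conj_eq_of_commute hha]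
    have s := ih _ hx' hax' hxa'
    have e : h * (h⁻¹ * x * h) * h⁻¹ = x := by group
    rw [e] at s
    rw [inv_inv]
    exact s.symm'

/-- every member not commuting with `a` fails to commute with some member of each component -/
theorem exists_noncomm_in_comp [Finite G] {D : Set G} (hD : Cfsg.IsThreeTranspositionGroup D)
    (hT : TT3 D) (hprim : Cfsg.IsPrimitiveUnderConj D)
    (hw : ∃ a ∈ D, ∃ b ∈ D, a ≠ b ∧ Commute a b) {a b e : G} (ha : a ∈ D) (hb : b ∈ D)
    (he : e ∈ D) (hab : ¬ Commute a b) (hae : Commute a e) (hea : e ≠ a) :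
    ∃ e', SC D a e e' ∧ ¬ Commute e' b := by
  by_contra hcon
  push Not at hcon
  have step1 : ∀ b' ∈ D, ¬ Commute a b' → ∀ e', SC D a e e' → Commute e' b' := by
    intro b' hb' hab' e' he'
    obtain ⟨h, hh, rfl⟩ := transitive hT hprim hw ha hb hb' hab hab'
    obtain ⟨m1, m2, m3⟩ := he'.mem_right he hae hea
    have hhi : h⁻¹ ∈ Hd D a := Subgroup.inv_mem _ hh
    have s := SC_Hd hT hhi e' m1 m2 m3
    have hc := hcon _ (he'.trans' s)
    have := (Commute.conj_iff h).mpr hc
    have e1 : h * (h⁻¹ * e' * h⁻¹⁻¹) * h⁻¹ = e' := by group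
    rwa [e1] at this
  have hpath := nc_connected hD hT hprim he ha
  have key : ∀ y, Relation.ReflTransGen (NC D) e y → SC D a e y := by
    intro y hy
    induction hy with
    | refl => exact Relation.ReflTransGen.refl
    | @tail u v _ huv ih =>
      obtain ⟨huD, hvD, hnc⟩ := huv
      obtain ⟨m1, m2, m3⟩ := ih.mem_right he hae hea
      have hav : Commute a v := by
        by_contra hav
        exact hnc (step1 v hvD hav u ih)
      exact Relation.ReflTransGen.tail ih ⟨huD, hvD, m2, hav, hnc⟩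
  exact ((key a hpath).mem_right he hae hea).2.2 rfl

/-- distinct members have different commuting sets -/
theorem exists_sep [Finite G] {D : Set G} (hD : Cfsg.IsThreeTranspositionGroup D)
    (hT : TT3 D) (hprim : Cfsg.IsPrimitiveUnderConj D) {a f : G} (ha : a ∈ D) (hf : f ∈ D)
    (hne : a ≠ f) : ∃ z ∈ D, Commute z f ∧ ¬ Commute z a := by
  by_contra hcon
  push Not at hcon
  have hsubT : T D f f ⊆ T D a a := by
    rintro z ⟨hz, h1, _⟩
    have := hcon z hz h1
    exact ⟨hz, this, this⟩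
  obtain ⟨g, hg⟩ := hprim.1 a ha f hf
  have hN : NN D f f = NN D a a := by rw [← hg]; exact NN_conj hT g a a
  unfold NN at hN
  have hEq : T D f f = T D a a :=
    Set.eq_of_subset_of_ncard_le hsubT (le_of_eq hN.symm) (Set.toFinite _)
  have hV : ∀ y ∈ D, Commute f y ↔ Commute a y := by
    intro y hy
    constructor
    · intro h
      exact (hcon y hy h.symm).symm
    · intro h
      have h1 : y ∈ T D a a := ⟨hy, h.symm, h.symm⟩
      rw [← hEq] at h1
      exact h1.2.1.symm
  have hblk := block_of_rel hT.conj (fun a b => ∀ e ∈ D, Commute b e ↔ Commute a e)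
    (fun a b h e he => (h e he).symm)
    (fun a b c h1 h2 e he => (h2 e he).trans (h1 e he))
    (fun a b g h e he => by
      have he' : g⁻¹ * e * g ∈ D := by
        have := hT.conj g⁻¹ e he
        rwa [inv_inv] at this
      rw [commute_conj_iff', commute_conj_iff']
      exact h _ he') a
  rcases hprim.2.2 _ (fun v hv => hv.1) hblk with hsub' | hall'
  · exact hne (hsub' ⟨ha, fun _ _ => Iff.rfl⟩ ⟨hf, hV⟩)
  · obtain ⟨c, hc, hac⟩ := exists_not_commute hD hprim ha
    have h1 : c ∈ {v | v ∈ D ∧ ∀ e ∈ D, Commute v e ↔ Commute a e} := by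
      rw [hall']; exact hc
    exact hac ((h1.2 a ha).mpr (Commute.refl a)).symm

theorem commute_conj_fix {g z c : G} (hgc : Commute g c) :
    Commute (g⁻¹ * z * g) c ↔ Commute z c := by
  have h := Commute.conj_iff g (a := g⁻¹ * z * g) (b := c)
  have e1 : g * (g⁻¹ * z * g) * g⁻¹ = z := by group
  rw [e1, conj_eq_of_commute hgc] at h
  exact h.symm

/-- the two frame conditions cannot both fail -/
theorem key [Finite G] {D : Set G} (hD : Cfsg.IsThreeTranspositionGroup D)
    (hT : TT3 D) (hprim : Cfsg.IsPrimitiveUnderConj D)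
    (hw : ∃ a ∈ D, ∃ b ∈ D, a ≠ b ∧ Commute a b) {a e f w : G} (F : Frame D a e f w)
    (hea : e ≠ a) (hfa : f ≠ a) (hns1 : ¬ SC D a e f) (hns2 : ¬ SC D a w f) : False := by
  have Q : ∀ x, SC D a e x → ∀ z ∈ D, ¬ Commute z x → (¬ Commute z a ↔ ¬ Commute z f) := by
    intro x hx
    induction hx with
    | refl =>
      intro z hz hze
      exact F.Q hT hns1 hns2 hz hze
    | @tail x y hex hxy ih =>
      intro z hz hzy
      obtain ⟨hxD, hyD, hax, hay, hnxy⟩ := hxy
      have hfx : Commute f x := by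
        by_contra h
        exact hns1 (Relation.ReflTransGen.tail hex
          ⟨hxD, F.hf, hax, F.haf, fun h' => h h'.symm⟩)
      have hfy : Commute f y := by
        by_contra h
        exact hns1 (Relation.ReflTransGen.tail
          (Relation.ReflTransGen.tail hex ⟨hxD, hyD, hax, hay, hnxy⟩)
          ⟨hyD, F.hf, hay, F.haf, fun h' => h h'.symm⟩)
      have hga : Commute (x * y) a := (hax.mul_right hay).symm
      have hgf : Commute (x * y) f := (hfx.mul_right hfy).symm
      have hgx : (x * y) * x * (x * y)⁻¹ = y :=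
        conj_prod (hT.sq x hxD) (hT.sq y hyD) (hT.cube x hxD y hyD hnxy)
      have hz' : (x * y)⁻¹ * z * (x * y) ∈ D := by
        have := hT.conj (x * y)⁻¹ z hz
        rwa [inv_inv] at this
      have hz'x : ¬ Commute ((x * y)⁻¹ * z * (x * y)) x := by
        intro h
        apply hzy
        have := (Commute.conj_iff (x * y)).mpr h
        have e1 : (x * y) * ((x * y)⁻¹ * z * (x * y)) * (x * y)⁻¹ = z := by group
        rwa [e1, hgx] at this
      have := ih _ hz' hz'x
      rw [commute_conj_fix hga, commute_conj_fix hgf] at this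
      exact this
  obtain ⟨z, hz, hzf, hza⟩ := exists_sep hD hT hprim F.ha F.hf (Ne.symm hfa)
  obtain ⟨e', hSC, he'z⟩ := exists_noncomm_in_comp hD hT hprim hw F.ha hz F.he
    (fun h => hza h.symm) F.hae hea
  have := (Q e' hSC z hz (fun h => he'z h.symm)).mp hza
  exact this hzf

/-- the non-commuting graph on the members of `D` other than `a` commuting with `a` is
connected -/
theorem conn [Finite G] {D : Set G} (hD : Cfsg.IsThreeTranspositionGroup D)
    (hT : TT3 D) (hprim : Cfsg.IsPrimitiveUnderConj D)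
    (hw : ∃ a ∈ D, ∃ b ∈ D, a ≠ b ∧ Commute a b) {a e f : G} (ha : a ∈ D) (he : e ∈ D)
    (hf : f ∈ D) (hae : Commute a e) (haf : Commute a f) (hea : e ≠ a) (hfa : f ≠ a) :
    SC D a e f := by
  by_contra hns
  obtain ⟨b, hb, hab⟩ := exists_not_commute hD hprim ha
  obtain ⟨e', he1, he'b⟩ := exists_noncomm_in_comp hD hT hprim hw ha hb he hab hae hea
  obtain ⟨f', hf1, hf'b⟩ := exists_noncomm_in_comp hD hT hprim hw ha hb hf hab haf hfa
  obtain ⟨me1, me2, me3⟩ := he1.mem_right he hae hea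
  obtain ⟨mf1, mf2, mf3⟩ := hf1.mem_right hf haf hfa
  have hns' : ¬ SC D a e' f' := fun h => hns (he1.trans' (h.trans' hf1.symm'))
  have hcef : Commute e' f' := by
    by_contra h
    exact hns' (Relation.ReflTransGen.single ⟨me1, mf1, me2, mf2, h⟩)
  have F := frame_exists hT ha me1 mf1 hb me2 mf2 hcef hab he'b hf'b
  have h1 : SC D a (Wf a e' f' b) f' := by
    by_contra h
    exact key hD hT hprim hw F me3 mf3 hns' h
  have h2 : SC D a (Wf a e' f' b) e' := by
    by_contra h
    exact key hD hT hprim hw F.swap_ef mf3 me3 (fun h' => hns' h'.symm') h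
  exact hns' (h2.symm'.trans' h1)

/-- members in the same component are conjugate under the subgroup generated by `D_a` -/
theorem conj_of_SC {D : Set G} (hT : TT3 D) {a e f : G} (h : SC D a e f) :
    ∃ g ∈ Subgroup.closure {y : G | y ∈ D ∧ y ≠ a ∧ Commute a y}, g * e * g⁻¹ = f := by
  induction h with
  | refl => exact ⟨1, Subgroup.one_mem _, by group⟩
  | @tail x y _ hxy ih =>
    obtain ⟨g, hg, hge⟩ := ih
    obtain ⟨hxD, hyD, hax, hay, hnxy⟩ := hxy
    have hxa : x ≠ a := by
      intro h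
      rw [h] at hnxy
      exact hnxy hay
    have hya : y ≠ a := by
      intro h
      rw [h] at hnxy
      exact hnxy hax.symm
    refine ⟨(x * y) * g, Subgroup.mul_mem _ (Subgroup.mul_mem _
      (Subgroup.subset_closure ⟨hxD, hxa, hax⟩) (Subgroup.subset_closure ⟨hyD, hya, hay⟩)) hg, ?_⟩
    have e1 : x * y * g * e * (x * y * g)⁻¹ = (x * y) * (g * e * g⁻¹) * (x * y)⁻¹ := by group
    rw [e1, hge]
    exact conj_prod (hT.sq x hxD) (hT.sq y hyD) (hT.cube x hxD y hyD hnxy)

/-- the subgroup generated by `D_a` is transitive on `D_a` -/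
theorem transitive_Da [Finite G] {D : Set G} (hD : Cfsg.IsThreeTranspositionGroup D)
    (hprim : Cfsg.IsPrimitiveUnderConj D)
    (hw : ∃ a ∈ D, ∃ b ∈ D, a ≠ b ∧ Commute a b) {a : G} (ha : a ∈ D) :
    ∀ y ∈ {y : G | y ∈ D ∧ y ≠ a ∧ Commute a y}, ∀ y' ∈ {y : G | y ∈ D ∧ y ≠ a ∧ Commute a y},
      ∃ g ∈ Subgroup.closure {y : G | y ∈ D ∧ y ≠ a ∧ Commute a y}, g * y * g⁻¹ = y' := by
  have hT : TT3 D := tt3_of_set hD.1 hD.2.1
  rintro y ⟨hy, hya, hay⟩ y' ⟨hy', hy'a, hay'⟩
  exact conj_of_SC hT (conn hD hT hprim hw ha hy hy' hay hay' hya hy'a)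

end Cfsg.Agent.Lead.TTR
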