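import Mathlib
import Cfsg.Agent.Lead.ThreeTransR

set_option autoImplicit false
set_option linter.style.haveILetI false

/-!
# Primitivity of classes of 3-transpositions from hypotheses on normal subgroups
-/

namespace Cfsg.Agent.Lead.TTR

open Cfsg.Agent.Lead.TTW Cfsg.Agent.Lead.TTS4 Cfsg.Agent.Lead.TTF Cfsg.Agent.Lead.TTG
  Cfsg.Agent.Lead.TTP Cfsg.Agent.Lead.TTQ Cfsg.Agent.Lead.TTM

open scoped commutatorElement

variable {G : Type*} [Group G]

/-- members of a class are congruent modulo the commutator subgroup -/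
theorem cong_commutator {D : Set G} (hD : Cfsg.IsThreeTranspositionClass D) {x y : G}
    (hx : x ∈ D) (hy : y ∈ D) : x⁻¹ * y ∈ commutator G := by
  obtain ⟨c, rfl⟩ := exists_conj_of_class hD hx hy
  have : x⁻¹ * (c * x * c⁻¹) = ⁅x⁻¹, c⁆ := by
    rw [commutatorElement_def, inv_inv]; group
  rw [this, commutator_def]
  exact Subgroup.commutator_mem_commutator (Subgroup.mem_top _) (Subgroup.mem_top _)

/-- a non-abelian simple commutator subgroup gives primitivity -/
theorem primitive_of_simple_nonab [Finite G] {D : Set G}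
    (hD : Cfsg.IsThreeTranspositionClass D) (hD2 : ∃ a ∈ D, ∃ b ∈ D, a ≠ b)
    (hS : IsSimpleGroup (commutator G)) (hc : ¬ ∀ x y : ↥(commutator G), x * y = y * x) :
    Cfsg.IsPrimitiveUnderConj D := by
  have hT := tt3_of_class hD
  obtain ⟨a, ha, -⟩ := id hD2
  have hncomm : ¬ IsMulCommutative ↥(commutator G) := by
    intro h
    apply hc
    intro x y
    exact h.is_comm.comm x y
  have hperf : commutator ↥(commutator G) = ⊤ :=
    Cfsg.Agent.Helper2.commutator_eq_top_of_simple_nonabelian hS hncomm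
  have hc0 : Subgroup.center ↥(commutator G) = ⊥ := by
    rcases hS.eq_bot_or_eq_top_of_normal _
        (inferInstance : (Subgroup.center ↥(commutator G)).Normal) with h | h
    · exact h
    · exfalso
      apply hc
      intro x y
      have hx : x ∈ Subgroup.center ↥(commutator G) := by rw [h]; exact Subgroup.mem_top x
      exact ((Subgroup.mem_center_iff.mp hx) y).symm
  have hSq : Cfsg.IsQuasisimple ↥(commutator G) := by
    refine ⟨⟨hperf⟩, ?_⟩
    haveI := hS
    exact ((QuotientGroup.quotientMulEquivOfEq hc0).trans QuotientGroup.quotientBot).isSimpleGroup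
  have hSn : (commutator G).Normal := inferInstance
  have hSc : Cfsg.IsComponent (commutator G) := ⟨hSn.isSubnormal, hSq⟩
  have hlayer : Cfsg.layer G ≠ ⊥ := by
    intro hbot
    have := Cfsg.Agent.Helper2.component_le_layer hSc
    rw [hbot, le_bot_iff] at this
    exact Cfsg.Agent.Helper2.component_ne_bot hSc this
  obtain ⟨-, hcases⟩ := main_F hD hD2
  rcases hcases with ⟨-, -, hE⟩ | ⟨-, -, hE⟩ | ⟨h2, h3, -⟩
  · exact absurd hE hlayer
  · exact absurd hE hlayer
  · obtain ⟨L, hLn, hLq, hF, -⟩ := main_G hD hD2 h2 h3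
    have hLc : Cfsg.IsComponent L := ⟨hLn.isSubnormal, hLq⟩
    have hSL : commutator G = L := component_unique hD hD2 hLc hSc
    rw [← hSL] at hF
    have hall : ∀ e ∈ D, a⁻¹ * e ∈ commutator G := fun e he => cong_commutator hD ha he
    obtain ⟨-, hidx⟩ := index_le_two_of_congr hT hD.2.2 (commutator G) ha hall
    exact primitive_of_index hD hD2 h2 h3 (commutator G) hSq hF hidx

/-- a group generated by a conjugation-closed set of 3-transpositions without commuting pairs
is solvable -/
theorem isSolvable_of_width_one [Finite G] {D : Set G}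
    (hD : Cfsg.IsThreeTranspositionGroup D) {d : G} (hd : d ∈ D)
    (h : ∀ a ∈ D, ∀ b ∈ D, Commute a b → a = b) : Group.IsSolvable G := by
  haveI : Fact (Nat.Prime 3) := ⟨Nat.prime_three⟩
  have hw : Cfsg.commutingWidth D = 1 := (width_one_iff_aux hd).mpr h
  have htop := (width_one_iff hD hd).mp hw
  set N := Cfsg.pCore 3 G with hN
  haveI hNn : N.Normal := Cfsg.Agent.Helper1.pCore_normal 3
  haveI : Group.IsNilpotent N := (Cfsg.Agent.Helper1.pCore_isPGroup (G := G) 3).isNilpotent
  haveI : Group.IsSolvable N := inferInstance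
  haveI : Group.IsSolvable (G ⧸ N) := by
    apply Group.isSolvable_of_comm
    intro x y
    induction x using QuotientGroup.induction_on with
    | H x =>
    induction y using QuotientGroup.induction_on with
    | H y =>
    have hx : x ∈ Subgroup.zpowers d ⊔ N := by rw [htop]; exact Subgroup.mem_top x
    have hy : y ∈ Subgroup.zpowers d ⊔ N := by rw [htop]; exact Subgroup.mem_top y
    rw [Subgroup.mem_sup_of_normal_right] at hx hy
    obtain ⟨z₁, hz₁, n₁, hn₁, rfl⟩ := hx
    obtain ⟨z₂, hz₂, n₂, hn₂, rfl⟩ := hy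
    have e1 : ((z₁ * n₁ : G) : G ⧸ N) = (z₁ : G ⧸ N) := by
      rw [QuotientGroup.eq]
      have : (z₁ * n₁)⁻¹ * z₁ = n₁⁻¹ := by group
      rw [this]; exact Subgroup.inv_mem _ hn₁
    have e2 : ((z₂ * n₂ : G) : G ⧸ N) = (z₂ : G ⧸ N) := by
      rw [QuotientGroup.eq]
      have : (z₂ * n₂)⁻¹ * z₂ = n₂⁻¹ := by group
      rw [this]; exact Subgroup.inv_mem _ hn₂
    rw [e1, e2, ← QuotientGroup.mk_mul, ← QuotientGroup.mk_mul]
    obtain ⟨k₁, rfl⟩ := Subgroup.mem_zpowers_iff.mp hz₁
    obtain ⟨k₂, rfl⟩ := Subgroup.mem_zpowers_iff.mp hz₂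
    rw [← zpow_add, ← zpow_add, add_comm]
  exact Group.isSolvable_of_ker_le_range N.subtype (QuotientGroup.mk' N)
    (by rw [QuotientGroup.ker_mk', Subgroup.range_subtype])

theorem commutator_le_derivedSeries (hperf : ⁅commutator G, commutator G⁆ = commutator G)
    (n : ℕ) : commutator G ≤ derivedSeries G n := by
  induction n with
  | zero => rw [derivedSeries_zero]; exact le_top
  | succ n ih =>
    rw [derivedSeries_succ]
    calc commutator G = ⁅commutator G, commutator G⁆ := hperf.symm
      _ ≤ ⁅derivedSeries G n, derivedSeries G n⁆ := Subgroup.commutator_mono ih ih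

/-- with a perfect commutator subgroup, a solvable quotient is abelian -/
theorem commutator_le_of_solvable_quotient
    (hperf : ⁅commutator G, commutator G⁆ = commutator G) (L : Subgroup G) [L.Normal]
    (hs : Group.IsSolvable (G ⧸ L)) : commutator G ≤ L := by
  obtain ⟨n, hn⟩ := (Group.isSolvable_def (G ⧸ L)).mp hs
  have h1 := map_derivedSeries_eq (QuotientGroup.mk'_surjective L) n
  rw [hn, Subgroup.map_eq_bot_iff, QuotientGroup.ker_mk'] at h1
  exact (commutator_le_derivedSeries hperf n).trans h1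

/-- the index of the subgroup given by `main_G` -/
theorem index_le_two_of_main [Finite G] {D : Set G} (hD : Cfsg.IsThreeTranspositionClass D)
    (hperf : ⁅commutator G, commutator G⁆ = commutator G) (L : Subgroup G) [hLn : L.Normal]
    (hL1 : L = ⊤ ∨ ∀ a ∈ D, ∀ b ∈ D, a * b * a⁻¹ * b⁻¹ ∈ L → a⁻¹ * b ∈ L) :
    L.index ≤ 2 := by
  have hT := tt3_of_class hD
  rcases hL1 with hL1 | hL1
  · rw [hL1, Subgroup.index_top]; norm_num
  obtain ⟨d, hd, -⟩ := hD.2.1
  by_cases hdL : ∃ e ∈ D, e ∈ L
  · obtain ⟨e, he, heL⟩ := hdL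
    have : L = ⊤ := by
      rw [eq_top_iff, ← hD.2.2, Subgroup.closure_le]
      intro x hx
      obtain ⟨c, rfl⟩ := exists_conj_of_class hD he hx
      exact hLn.conj_mem e heL c
    rw [this, Subgroup.index_top]; norm_num
  push Not at hdL
  -- the image of `D` in the quotient
  set π := QuotientGroup.mk' L with hπ
  have hsurj : Function.Surjective π := QuotientGroup.mk'_surjective L
  have hDq : Cfsg.IsThreeTranspositionGroup (π '' D) := by
    refine ⟨⟨?_, ?_⟩, ?_, ?_⟩
    · rintro _ ⟨x, hx, rfl⟩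
      apply orderOf_eq_prime
      · rw [← map_pow, sq, hT.sq x hx, map_one]
      · intro h1
        exact hdL x hx ((QuotientGroup.eq_one_iff x).mp h1)
    · rintro _ ⟨x, hx, rfl⟩ _ ⟨y, hy, rfl⟩
      rcases hD.1.2 x hx y hy with h | h
      · left; rw [← map_mul, ← map_pow, h, map_one]
      · right; rw [← map_mul, ← map_pow, h, map_one]
    · rintro g _ ⟨x, hx, rfl⟩
      obtain ⟨g, rfl⟩ := hsurj g
      exact ⟨g * x * g⁻¹, hT.conj g x hx, by rw [map_mul, map_mul, map_inv]⟩
    · rw [← MonoidHom.map_closure, hD.2.2, Subgroup.map_top_of_surjective π hsurj]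
  have hsolv : Group.IsSolvable (G ⧸ L) := by
    apply isSolvable_of_width_one hDq (Set.mem_image_of_mem π hd)
    rintro _ ⟨x, hx, rfl⟩ _ ⟨y, hy, rfl⟩ hc
    have h1 : π (x * y * x⁻¹ * y⁻¹) = 1 := by
      rw [map_mul, map_mul, map_mul, map_inv, map_inv, hc.eq, mul_inv_cancel_right,
        mul_inv_cancel]
    have h2 := hL1 x hx y hy ((QuotientGroup.eq_one_iff _).mp h1)
    exact QuotientGroup.eq.mpr h2
  have hle := commutator_le_of_solvable_quotient hperf L hsolv
  exact (index_le_two_of_congr hT hD.2.2 L hd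
    (fun e he => hle (cong_commutator hD hd he))).2

theorem pCore_le_center_of_sol [Finite G]
    (hsol : ∀ N : Subgroup G, N.Normal → Group.IsSolvable ↥N → N = ⊥) (p : ℕ) [Fact p.Prime] :
    Cfsg.pCore p G ≤ Subgroup.center G := by
  have : Cfsg.pCore p G = ⊥ := by
    apply hsol _ (Cfsg.Agent.Helper1.pCore_normal p)
    haveI : Group.IsNilpotent (Cfsg.pCore p G) :=
      (Cfsg.Agent.Helper1.pCore_isPGroup (G := G) p).isNilpotent
    infer_instance
  rw [this]; exact bot_le

/-- no solvable normal subgroups and a perfect commutator subgroup give primitivity -/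
theorem primitive_of_sol_perf [Finite G]
    (hsol : ∀ N : Subgroup G, N.Normal → Group.IsSolvable ↥N → N = ⊥)
    (hperf : ⁅commutator G, commutator G⁆ = commutator G) {D : Set G}
    (hD : Cfsg.IsThreeTranspositionClass D) (hD2 : ∃ a ∈ D, ∃ b ∈ D, a ≠ b) :
    Cfsg.IsPrimitiveUnderConj D := by
  haveI : Fact (Nat.Prime 2) := ⟨Nat.prime_two⟩
  haveI : Fact (Nat.Prime 3) := ⟨Nat.prime_three⟩
  have h2 := pCore_le_center_of_sol hsol 2
  have h3 := pCore_le_center_of_sol hsol 3
  obtain ⟨L, hLn, hLq, hF, hL1⟩ := main_G hD hD2 h2 h3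
  haveI := hLn
  exact primitive_of_index hD hD2 h2 h3 L hLq hF (index_le_two_of_main hD hperf L hL1)

end Cfsg.Agent.Lead.TTR
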