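import Mathlib
import Cfsg.Agent.Lead.ThreeTransR2

set_option autoImplicit false
set_option linter.style.haveILetI false

/-!
# Maximum commuting sets of 3-transpositions: Sylow 2-subgroups and double transitivity
-/

namespace Cfsg.Agent.Lead.TTR

open Cfsg.Agent.Lead.TTW Cfsg.Agent.Lead.TTS4 Cfsg.Agent.Lead.TTF Cfsg.Agent.Lead.TTG
  Cfsg.Agent.Lead.TTP Cfsg.Agent.Lead.TTQ Cfsg.Agent.Lead.TTM

open scoped Pointwise

variable {G : Type*} [Group G]

/-- the members of `D` in a 2-subgroup commute pairwise -/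
theorem commute_of_mem_two_group {D : Set G} (hT : TT3 D) {Q : Subgroup G} (hQ : IsPGroup 2 Q)
    {x y : G} (hx : x ∈ D) (hy : y ∈ D) (hxQ : x ∈ Q) (hyQ : y ∈ Q) : Commute x y := by
  by_contra hc
  have h3 : (x * y) ^ 3 = 1 := hT.cube x hx y hy hc
  obtain ⟨k, hk⟩ := hQ ⟨x * y, Q.mul_mem hxQ hyQ⟩
  have hk' : (x * y) ^ (2 ^ k) = 1 := by
    have := congrArg Subtype.val hk
    simpa using this
  have hd1 := orderOf_dvd_of_pow_eq_one h3
  have hd2 := orderOf_dvd_of_pow_eq_one hk'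
  have hcop : Nat.Coprime 3 (2 ^ k) := Nat.Coprime.pow_right k (by norm_num)
  have hone : orderOf (x * y) = 1 := Nat.eq_one_of_dvd_coprimes hcop hd1 hd2
  rw [orderOf_eq_one_iff] at hone
  apply hc
  have : x = y⁻¹ := eq_inv_of_mul_eq_one_left hone
  rw [this, hT.inv hy]

/-- a maximum commuting subset of `D` consists of all members of `D` in any 2-subgroup
containing it -/
theorem inter_eq_of_max [Finite G] {D : Set G} (hT : TT3 D) {E : Set G} (hE : E ⊆ D)
    (hmax : ∀ E' : Set G, E' ⊆ D → (∀ a ∈ E', ∀ b ∈ E', Commute a b) → E'.ncard ≤ E.ncard)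
    {Q : Subgroup G} (hQ : IsPGroup 2 Q) (hEQ : E ⊆ Q) : {x | x ∈ D ∧ x ∈ Q} = E := by
  have hsub : E ⊆ {x | x ∈ D ∧ x ∈ Q} := fun x hx => ⟨hE hx, hEQ hx⟩
  have hle : ({x | x ∈ D ∧ x ∈ Q} : Set G).ncard ≤ E.ncard := by
    apply hmax _ (fun x hx => hx.1)
    intro a ha b hb
    exact commute_of_mem_two_group hT hQ ha.1 hb.1 ha.2 hb.2
  exact (Set.eq_of_subset_of_ncard_le hsub hle (Set.toFinite _)).symm

/-- commuting involutions generate a 2-group -/
theorem isPGroup_closure_of_comm {D : Set G} (hT : TT3 D) {E : Set G} (hE : E ⊆ D)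
    (hc : ∀ a ∈ E, ∀ b ∈ E, Commute a b) : IsPGroup 2 (Subgroup.closure E) := by
  have hcm := Subgroup.isMulCommutative_closure (k := E) (fun x hx y hy => (hc x hx y hy).eq)
  have hcomm : ∀ x ∈ Subgroup.closure E, ∀ y ∈ Subgroup.closure E, x * y = y * x := by
    intro x hx y hy
    exact congrArg Subtype.val (hcm.is_comm.comm ⟨x, hx⟩ ⟨y, hy⟩)
  have hsq : ∀ x ∈ Subgroup.closure E, x * x = 1 := by
    intro x hx
    induction hx using Subgroup.closure_induction with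
    | mem x hx => exact hT.sq x (hE hx)
    | one => rw [one_mul]
    | mul x y hx hy ihx ihy =>
      calc x * y * (x * y) = x * (y * x) * y := by group
        _ = x * (x * y) * y := by rw [hcomm y hy x hx]
        _ = (x * x) * (y * y) := by group
        _ = 1 := by rw [ihx, ihy, one_mul]
    | inv x hx ihx =>
      calc x⁻¹ * x⁻¹ = (x * x)⁻¹ := by group
        _ = 1 := by rw [ihx, inv_one]
  intro g
  refine ⟨1, ?_⟩
  apply Subtype.ext
  rw [pow_one, sq]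
  exact hsq g g.2

/-- a Sylow 2-subgroup normalizes each maximum commuting subset of `D` it contains -/
theorem exists_sylow_le_normalizer [Finite G] {D : Set G} (hT : TT3 D) {E : Set G}
    (hE : E ⊆ D) (hc : ∀ a ∈ E, ∀ b ∈ E, Commute a b)
    (hmax : ∀ E' : Set G, E' ⊆ D → (∀ a ∈ E', ∀ b ∈ E', Commute a b) → E'.ncard ≤ E.ncard) :
    ∃ P : Sylow 2 G, (P : Subgroup G) ≤ Subgroup.normalizer E := by
  obtain ⟨P, hP⟩ := (isPGroup_closure_of_comm hT hE hc).exists_le_sylow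
  refine ⟨P, ?_⟩
  have hEP : E ⊆ (P : Subgroup G) := fun x hx => hP (Subgroup.subset_closure hx)
  have hI := inter_eq_of_max hT hE hmax P.isPGroup' hEP
  intro p hp
  rw [Subgroup.mem_set_normalizer_iff]
  intro x
  constructor
  · intro hx
    rw [← hI]
    exact ⟨hT.conj p x (hE hx), Subgroup.mul_mem _ (Subgroup.mul_mem _ hp (hEP hx))
      (Subgroup.inv_mem _ hp)⟩
  · intro hx
    rw [← hI] at hx ⊢
    have e : x = p⁻¹ * (p * x * p⁻¹) * p⁻¹⁻¹ := by group
    constructor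
    · rw [e]; exact hT.conj p⁻¹ _ hx.1
    · rw [e]
      exact Subgroup.mul_mem _ (Subgroup.mul_mem _ (Subgroup.inv_mem _ hp) hx.2)
        (Subgroup.inv_mem _ (Subgroup.inv_mem _ hp))

/-- two maximum commuting subsets of `D` inside a subgroup `C` are conjugate under `C` -/
theorem exists_conj_in_subgroup [Finite G] {D : Set G} (hT : TT3 D) (C : Subgroup G)
    {E E' : Set G} (hE : E ⊆ D) (hc : ∀ a ∈ E, ∀ b ∈ E, Commute a b)
    (hmax : ∀ E'' : Set G, E'' ⊆ D → (∀ a ∈ E'', ∀ b ∈ E'', Commute a b) →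
      E''.ncard ≤ E.ncard)
    (hEC : E ⊆ C) (hE' : E' ⊆ D) (hc' : ∀ a ∈ E', ∀ b ∈ E', Commute a b)
    (hcard : E'.ncard = E.ncard) (hE'C : E' ⊆ C) :
    ∃ k ∈ C, ∀ x, x ∈ E ↔ k * x * k⁻¹ ∈ E' := by
  haveI : Fact (Nat.Prime 2) := ⟨Nat.prime_two⟩
  have hmax' : ∀ E'' : Set G, E'' ⊆ D → (∀ a ∈ E'', ∀ b ∈ E'', Commute a b) →
      E''.ncard ≤ E'.ncard := by
    intro E'' h1 h2
    rw [hcard]; exact hmax E'' h1 h2
  have hA := isPGroup_closure_of_comm hT hE hc
  have hA' := isPGroup_closure_of_comm hT hE' hc'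
  obtain ⟨S, hS⟩ := (hA.comap_subtype (K := C)).exists_le_sylow
  obtain ⟨S', hS'⟩ := (hA'.comap_subtype (K := C)).exists_le_sylow
  obtain ⟨k, hk⟩ := MulAction.exists_smul_eq ↥C S S'
  have hQ : IsPGroup 2 ((S : Subgroup ↥C).map C.subtype) := S.isPGroup'.map _
  have hQ' : IsPGroup 2 ((S' : Subgroup ↥C).map C.subtype) := S'.isPGroup'.map _
  have hEQ : E ⊆ ((S : Subgroup ↥C).map C.subtype : Subgroup G) := by
    intro x hx
    rw [SetLike.mem_coe, Subgroup.mem_map]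
    refine ⟨⟨x, hEC hx⟩, hS ?_, rfl⟩
    show x ∈ Subgroup.closure E
    exact Subgroup.subset_closure hx
  have hEQ' : E' ⊆ ((S' : Subgroup ↥C).map C.subtype : Subgroup G) := by
    intro x hx
    rw [SetLike.mem_coe, Subgroup.mem_map]
    refine ⟨⟨x, hE'C hx⟩, hS' ?_, rfl⟩
    show x ∈ Subgroup.closure E'
    exact Subgroup.subset_closure hx
  have hI := inter_eq_of_max hT hE hmax hQ hEQ
  have hI' := inter_eq_of_max hT hE' hmax' hQ' hEQ'
  have hmem : ∀ x : G, x ∈ (S : Subgroup ↥C).map C.subtype ↔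
      (k : G) * x * (k : G)⁻¹ ∈ (S' : Subgroup ↥C).map C.subtype := by
    intro x
    rw [Subgroup.mem_map, Subgroup.mem_map]
    have hS'eq : (S' : Subgroup ↥C) = MulAut.conj k • (S : Subgroup ↥C) := by
      rw [← hk]; exact Sylow.coe_subgroup_smul
    constructor
    · rintro ⟨y, hy, rfl⟩
      refine ⟨k * y * k⁻¹, ?_, by simp⟩
      rw [hS'eq, Cfsg.Agent.Helper1.mem_conj_smul_iff]
      have : k⁻¹ * (k * y * k⁻¹) * k = y := by group
      rw [this]; exact hy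
    · rintro ⟨y, hy, hyx⟩
      rw [hS'eq, Cfsg.Agent.Helper1.mem_conj_smul_iff] at hy
      refine ⟨k⁻¹ * y * k, hy, ?_⟩
      simp only [Subgroup.subtype_apply, Subgroup.coe_mul, Subgroup.coe_inv] at hyx ⊢
      rw [hyx]; group
  refine ⟨k, k.2, ?_⟩
  intro x
  rw [← hI, ← hI']
  constructor
  · rintro ⟨h1, h2⟩
    exact ⟨hT.conj _ x h1, (hmem x).mp h2⟩
  · rintro ⟨h1, h2⟩
    refine ⟨?_, (hmem x).mpr h2⟩
    have e : x = (k : G)⁻¹ * ((k : G) * x * (k : G)⁻¹) * (k : G)⁻¹⁻¹ := by group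
    rw [e]; exact hT.conj _ _ h1

/-- the main statement on maximum commuting sets -/
theorem max_commuting [Finite G] {D : Set G} (hD : Cfsg.IsThreeTranspositionGroup D)
    (hprim : ∀ a ∈ D, ∀ b ∈ D, a ≠ b → Commute a b → Cfsg.IsPrimitiveUnderConj D)
    {E : Set G} (hE : E ⊆ D) (hc : ∀ a ∈ E, ∀ b ∈ E, Commute a b)
    (hmax : ∀ E' : Set G, E' ⊆ D → (∀ a ∈ E', ∀ b ∈ E', Commute a b) → E'.ncard ≤ E.ncard) :
    (∃ P : Sylow 2 G, (P : Subgroup G) ≤ Subgroup.normalizer E) ∧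
      ∀ a ∈ E, ∀ b ∈ E, ∀ c ∈ E, ∀ d ∈ E, a ≠ b → c ≠ d →
        ∃ g ∈ Subgroup.normalizer E, g * a * g⁻¹ = c ∧ g * b * g⁻¹ = d := by
  have hT : TT3 D := tt3_of_set hD.1 hD.2.1
  refine ⟨exists_sylow_le_normalizer hT hE hc hmax, ?_⟩
  intro a ha b hb c hcE d hdE hab hcd
  have hprim' := hprim a (hE ha) b (hE hb) hab (hc a ha b hb)
  have hw : ∃ a ∈ D, ∃ b ∈ D, a ≠ b ∧ Commute a b := ⟨a, hE ha, b, hE hb, hab, hc a ha b hb⟩
  -- an element of `G` moving `(a, b)` to `(c, d)`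
  obtain ⟨g₁, hg₁⟩ := hprim'.1 a (hE ha) c (hE hcE)
  have hb1 : g₁ * b * g₁⁻¹ ∈ {y : G | y ∈ D ∧ y ≠ c ∧ Commute c y} := by
    refine ⟨hT.conj g₁ b (hE hb), ?_, ?_⟩
    · intro h
      rw [← hg₁] at h
      exact hab (mul_left_cancel (mul_right_cancel h)).symm
    · rw [← hg₁]
      exact (Commute.conj_iff g₁).mpr (hc a ha b hb)
  have hd1 : d ∈ {y : G | y ∈ D ∧ y ≠ c ∧ Commute c y} :=
    ⟨hE hdE, fun h => hcd h.symm, hc c hcE d hdE⟩
  obtain ⟨k₁, hk₁, hk₁d⟩ := transitive_Da hD hprim' hw (hE hcE) _ hb1 _ hd1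
  have hk₁c : Commute k₁ c := by
    have hle : Subgroup.closure {y : G | y ∈ D ∧ y ≠ c ∧ Commute c y} ≤
        Subgroup.centralizer {c} := by
      rw [Subgroup.closure_le]
      intro y hy
      rw [SetLike.mem_coe, Subgroup.mem_centralizer_iff]
      intro z hz
      rw [Set.mem_singleton_iff] at hz
      subst hz
      exact hy.2.2.eq
    have h1 := hle hk₁
    rw [Subgroup.mem_centralizer_iff] at h1
    exact (h1 c rfl).symm
  set g := k₁ * g₁ with hg
  have hga : g * a * g⁻¹ = c := by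
    have e : g * a * g⁻¹ = k₁ * (g₁ * a * g₁⁻¹) * k₁⁻¹ := by rw [hg]; group
    rw [e, hg₁, conj_eq_of_commute hk₁c]
  have hgb : g * b * g⁻¹ = d := by
    have e : g * b * g⁻¹ = k₁ * (g₁ * b * g₁⁻¹) * k₁⁻¹ := by rw [hg]; group
    rw [e, hk₁d]
  -- the conjugate maximum commuting set
  set E' : Set G := (fun x => g * x * g⁻¹) '' E with hE'def
  have hinj : Function.Injective (fun x : G => g * x * g⁻¹) := by
    intro u v huv
    exact mul_left_cancel (mul_right_cancel huv)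
  have hE'D : E' ⊆ D := by
    rintro _ ⟨x, hx, rfl⟩
    exact hT.conj g x (hE hx)
  have hc' : ∀ u ∈ E', ∀ v ∈ E', Commute u v := by
    rintro _ ⟨x, hx, rfl⟩ _ ⟨y, hy, rfl⟩
    exact (Commute.conj_iff g).mpr (hc x hx y hy)
  have hcard : E'.ncard = E.ncard := Set.ncard_image_of_injective E hinj
  have hcE' : c ∈ E' := ⟨a, ha, hga⟩
  have hdE' : d ∈ E' := ⟨b, hb, hgb⟩
  set C : Subgroup G := Subgroup.centralizer {c, d} with hC
  have hEC : E ⊆ C := by
    intro x hx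
    rw [SetLike.mem_coe, Subgroup.mem_centralizer_iff]
    intro z hz
    rcases hz with rfl | hz
    · exact (hc z hcE x hx).eq
    · rw [Set.mem_singleton_iff] at hz
      subst hz
      exact (hc z hdE x hx).eq
  have hE'C : E' ⊆ C := by
    intro x hx
    rw [SetLike.mem_coe, Subgroup.mem_centralizer_iff]
    intro z hz
    rcases hz with rfl | hz
    · exact (hc' z hcE' x hx).eq
    · rw [Set.mem_singleton_iff] at hz
      subst hz
      exact (hc' z hdE' x hx).eq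
  obtain ⟨k, hkC, hk⟩ := exists_conj_in_subgroup hT C hE hc hmax hEC hE'D hc' hcard hE'C
  rw [Subgroup.mem_centralizer_iff] at hkC
  have hkc : Commute k c := (hkC c (Set.mem_insert _ _)).symm
  have hkd : Commute k d := (hkC d (Set.mem_insert_of_mem _ rfl)).symm
  refine ⟨k⁻¹ * g, ?_, ?_, ?_⟩
  · rw [Subgroup.mem_set_normalizer_iff]
    intro x
    have e : k⁻¹ * g * x * (k⁻¹ * g)⁻¹ = k⁻¹ * (g * x * g⁻¹) * k := by group
    rw [e]
    constructor
    · intro hx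
      have h1 : g * x * g⁻¹ ∈ E' := ⟨x, hx, rfl⟩
      rw [hk]
      have e2 : k * (k⁻¹ * (g * x * g⁻¹) * k) * k⁻¹ = g * x * g⁻¹ := by group
      rw [e2]; exact h1
    · intro hx
      rw [hk] at hx
      have e2 : k * (k⁻¹ * (g * x * g⁻¹) * k) * k⁻¹ = g * x * g⁻¹ := by group
      rw [e2] at hx
      obtain ⟨y, hy, hyx⟩ := hx
      have := hinj hyx
      rw [← this]; exact hy
  · have e : k⁻¹ * g * a * (k⁻¹ * g)⁻¹ = k⁻¹ * (g * a * g⁻¹) * k⁻¹⁻¹ := by group
    rw [e, hga]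
    exact conj_eq_of_commute hkc.inv_left
  · have e : k⁻¹ * g * b * (k⁻¹ * g)⁻¹ = k⁻¹ * (g * b * g⁻¹) * k⁻¹⁻¹ := by group
    rw [e, hgb]
    exact conj_eq_of_commute hkd.inv_left

end Cfsg.Agent.Lead.TTR
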