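import Mathlib
import Cfsg.Agent.Lead.OmegaTwo
import Cfsg.Prelude.Def_Transfer

set_option autoImplicit false

namespace Cfsg.Agent.Lead

open Cfsg.Agent.Helper1

open scoped commutatorElement

universe u

/-- An automorphism of odd order of a finite `2`-group fixing all elements of order dividing `4`
is trivial. -/
theorem aut_eq_one_of_fix_order_four {X : Type u} [Group X] [Finite X] (hX : IsPGroup 2 X)
    (ψ : MulAut X) (hodd : (orderOf ψ).Coprime 2) (hfix : ∀ g : X, g ^ 4 = 1 → ψ g = g) :
    ψ = 1 := by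
  let φ : MulAut X →* MulAut X := MonoidHom.id _
  haveI : Finite (X ⋊[φ] MulAut X) := Finite.of_equiv _ SemidirectProduct.equivProd.symm
  have hinl : Function.Injective (SemidirectProduct.inl : X →* X ⋊[φ] MulAut X) :=
    SemidirectProduct.inl_injective
  have hinr : Function.Injective (SemidirectProduct.inr : MulAut X →* X ⋊[φ] MulAut X) :=
    SemidirectProduct.inr_injective
  have hconj : ∀ (χ : MulAut X) (x : X),
      (SemidirectProduct.inr χ : X ⋊[φ] MulAut X) * SemidirectProduct.inl x *
        (SemidirectProduct.inr χ)⁻¹ = SemidirectProduct.inl (χ x) := by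
    intro χ x
    rw [← map_inv]
    exact (SemidirectProduct.inl_aut (φ := φ) χ x).symm
  have hc : (orderOf (SemidirectProduct.inr ψ : X ⋊[φ] MulAut X)).Coprime 2 := by
    rw [orderOf_injective _ hinr]
    exact hodd
  have hR : IsPGroup 2 (SemidirectProduct.inl : X →* X ⋊[φ] MulAut X).range :=
    IsPGroup.of_equiv hX (MonoidHom.ofInjective hinl)
  have hnorm : (SemidirectProduct.inr ψ : X ⋊[φ] MulAut X) ∈
      Subgroup.normalizer (((SemidirectProduct.inl : X →* X ⋊[φ] MulAut X).range :
        Subgroup (X ⋊[φ] MulAut X)) : Set (X ⋊[φ] MulAut X)) := by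
    rw [Subgroup.mem_normalizer_iff]
    intro y
    constructor
    · rintro ⟨x, rfl⟩
      exact ⟨ψ x, (hconj ψ x).symm⟩
    · rintro ⟨x, hx⟩
      refine ⟨ψ⁻¹ x, ?_⟩
      have h1 := hconj ψ (ψ⁻¹ x)
      rw [MulAut.apply_inv_self, hx] at h1
      -- `c * inl (ψ⁻¹ x) * c⁻¹ = c * y * c⁻¹`
      exact mul_left_cancel (mul_right_cancel h1)
  have key := centralizes_of_centralizes_order_four
    (SemidirectProduct.inr ψ : X ⋊[φ] MulAut X) hc _ hR hnorm (by
      rintro _ ⟨x, rfl⟩ h4
      have hx4 : x ^ 4 = 1 := by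
        apply hinl
        rw [map_pow, map_one]
        exact h4
      have h1 := hconj ψ x
      rw [hfix x hx4] at h1
      have := congrArg (fun z => z * (SemidirectProduct.inr ψ : X ⋊[φ] MulAut X)) h1
      simpa using this)
  ext x
  have h1 := key (SemidirectProduct.inl x) ⟨x, rfl⟩
  have h2 := hconj ψ x
  rw [h1, mul_inv_cancel_right] at h2
  exact (hinl h2).symm

/-- `S1898`. -/
theorem order_four_generated_exponent {X : Type u} [Group X] [Finite X] (hX : IsPGroup 2 X)
    (hel : Cfsg.IsElementaryAbelian 2 (commutator X)) (hcen : commutator X ≤ Subgroup.center X) :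
    (∀ x ∈ Subgroup.closure {g : X | g ^ 4 = 1}, x ^ 4 = 1) ∧
      ∀ φ : MulAut X, (∀ g : X, g ^ 4 = 1 → φ g = g) → ∃ k : ℕ, φ ^ (2 ^ k) = 1 := by
  constructor
  · intro x hx
    induction hx using Subgroup.closure_induction with
    | mem y hy => exact hy
    | one => exact one_pow 4
    | mul a b _ _ ha hb =>
      have hcomm : ⁅b, a⁆ ∈ commutator X := by
        rw [commutator_def]
        exact Subgroup.commutator_mem_commutator (Subgroup.mem_top b) (Subgroup.mem_top a)
      have hc : ∀ z, Commute ⁅b, a⁆ z := by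
        intro z
        exact (Subgroup.mem_center_iff.mp (hcen hcomm) z).symm
      have hyx : b * a = ⁅b, a⁆ * a * b := by simp [commutatorElement_def]
      have hc2 : ⁅b, a⁆ ^ 2 = 1 := hel.2 _ hcomm
      rw [mul_pow_of_central hc hyx 4, ha, hb]
      have h6 : Nat.choose 4 2 = 2 * 3 := by decide
      rw [h6, pow_mul, hc2, one_pow, mul_one, mul_one]
    | inv a _ ha => rw [inv_pow, ha, inv_one]
  · intro φ hφ
    have hpos : 0 < orderOf φ := orderOf_pos φ
    obtain ⟨k, m, hm, hkm⟩ := Nat.exists_eq_two_pow_mul_odd hpos.ne'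
    refine ⟨k, ?_⟩
    apply aut_eq_one_of_fix_order_four hX
    · have h1 : (φ ^ 2 ^ k) ^ m = 1 := by
        rw [← pow_mul, ← hkm]
        exact pow_orderOf_eq_one φ
      have h2 : orderOf (φ ^ 2 ^ k) ∣ m := orderOf_dvd_of_pow_eq_one h1
      have hm2 : m.Coprime 2 := (Nat.coprime_two_right).mpr hm
      exact Nat.Coprime.coprime_dvd_left h2 hm2
    · intro g hg
      have : ∀ n : ℕ, (φ ^ n) g = g := by
        intro n
        induction n with
        | zero => simp
        | succ n ih => rw [pow_succ, MulAut.mul_apply, hφ g hg, ih]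
      exact this _

end Cfsg.Agent.Lead
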