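import Mathlib
import Cfsg.Agent.Helper1.Coprime
import Cfsg.Agent.Helper1.AbelianAct
import Cfsg.Agent.Helper1.SubnormalComm
import Cfsg.Agent.Helper1.PQLemma

set_option autoImplicit false

namespace Cfsg.Agent.Helper1

open scoped commutatorElement

universe u

variable {G : Type u} [Group G]

/-- commutator of sups modulo a normal subgroup -/
theorem commutator_sup_normal_le (A B N : Subgroup G) [N.Normal] :
    ⁅A ⊔ N, B ⊔ N⁆ ≤ ⁅A, B⁆ ⊔ N := by
  have h1 : (⁅A ⊔ N, B ⊔ N⁆).map (QuotientGroup.mk' N) = (⁅A, B⁆).map (QuotientGroup.mk' N) := by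
    rw [Subgroup.map_commutator, Subgroup.map_commutator, Subgroup.map_sup, Subgroup.map_sup,
      QuotientGroup.map_mk'_self, sup_bot_eq, sup_bot_eq]
  have h2 := Subgroup.le_comap_map (QuotientGroup.mk' N) ⁅A ⊔ N, B ⊔ N⁆
  rw [h1, Subgroup.comap_map_eq, QuotientGroup.ker_mk'] at h2
  exact h2

theorem le_of_le_commutator_sup_of_isSolvable {H N : Subgroup G} [N.Normal]
    (hH : Group.IsSolvable H) (h : H ≤ ⁅H, H⁆ ⊔ N) : H ≤ N := by
  have key : ∀ n, H ≤ (derivedSeries H n).map H.subtype ⊔ N := by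
    intro n
    induction n with
    | zero =>
      rw [derivedSeries_zero, ← MonoidHom.range_eq_map, Subgroup.range_subtype]
      exact le_sup_left
    | succ n ih =>
      calc H ≤ ⁅H, H⁆ ⊔ N := h
        _ ≤ ⁅(derivedSeries H n).map H.subtype ⊔ N, (derivedSeries H n).map H.subtype ⊔ N⁆ ⊔ N :=
          sup_le_sup_right (Subgroup.commutator_mono ih ih) N
        _ ≤ (⁅(derivedSeries H n).map H.subtype, (derivedSeries H n).map H.subtype⁆ ⊔ N) ⊔ N :=
          sup_le_sup_right (commutator_sup_normal_le _ _ _) N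
        _ = (derivedSeries H (n + 1)).map H.subtype ⊔ N := by
          rw [sup_assoc, sup_idem, derivedSeries_succ, Subgroup.map_commutator]
  obtain ⟨n, hn⟩ := (Group.isSolvable_def H).1 hH
  have := key n
  rw [hn, Subgroup.map_bot, bot_sup_eq] at this
  exact this

theorem inf_commutator_le_of_complement {H K M : Subgroup G} [hHn : H.Normal] [hMn : M.Normal]
    (hHK : H ⊔ K = ⊤) (hdisj : H ⊓ K = ⊥) (hMH : M ≤ H) (hHH : ⁅H, H⁆ ≤ M)
    (hHKM : ⁅H, K⁆ ≤ M) : H ⊓ commutator G ≤ M := by
  set T := M ⊔ K with hT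
  have hKM : K ≤ Subgroup.normalizer (M : Set G) := by
    rw [Subgroup.normalizer_eq_top]; exact le_top
  have hKH : K ≤ Subgroup.normalizer (H : Set G) := by
    rw [Subgroup.normalizer_eq_top]; exact le_top
  have hTn : T.Normal := by
    rw [← Subgroup.normalizer_eq_top_iff, eq_top_iff, ← hHK]
    apply sup_le
    · apply le_normalizer_of_forall_conj_mem
      intro h hh t ht
      obtain ⟨m, hm, k, hk, rfl⟩ := mem_sup_of_le_normalizer hKM ht
      have e : h * (m * k) * h⁻¹ = (h * m * h⁻¹) * ⁅h, k⁆ * k := by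
        simp only [commutatorElement_def]; group
      rw [e]
      refine Subgroup.mul_mem _ (Subgroup.mul_mem _ ?_ ?_) ?_
      · exact (le_sup_left : M ≤ T) (hMn.conj_mem m hm h)
      · exact (le_sup_left : M ≤ T) (hHKM (Subgroup.commutator_mem_commutator hh hk))
      · exact (le_sup_right : K ≤ T) hk
    · exact le_sup_right.trans Subgroup.le_normalizer
  have hcomm : commutator G ≤ T := by
    rw [commutator_def, Subgroup.commutator_le]
    intro g₁ _ g₂ _
    have hrep : ∀ g : G, ∃ h ∈ H, (QuotientGroup.mk' T) g = (QuotientGroup.mk' T) h := by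
      intro g
      have hg : g ∈ H ⊔ K := by rw [hHK]; trivial
      obtain ⟨h, hh, k, hk, rfl⟩ := mem_sup_of_le_normalizer hKH hg
      refine ⟨h, hh, ?_⟩
      rw [map_mul]
      have : (QuotientGroup.mk' T) k = 1 := by
        rw [QuotientGroup.mk'_apply, QuotientGroup.eq_one_iff]
        exact (le_sup_right : K ≤ T) hk
      rw [this, mul_one]
    obtain ⟨h₁, hh₁, e₁⟩ := hrep g₁
    obtain ⟨h₂, hh₂, e₂⟩ := hrep g₂
    have : (QuotientGroup.mk' T) ⁅g₁, g₂⁆ = 1 := by
      rw [map_commutatorElement, e₁, e₂, ← map_commutatorElement, QuotientGroup.mk'_apply,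
        QuotientGroup.eq_one_iff]
      exact (le_sup_left : M ≤ T) (hHH (Subgroup.commutator_mem_commutator hh₁ hh₂))
    rwa [QuotientGroup.mk'_apply, QuotientGroup.eq_one_iff] at this
  intro x hx
  obtain ⟨hxH, hxc⟩ := Subgroup.mem_inf.1 hx
  obtain ⟨m, hm, k, hk, rfl⟩ := mem_sup_of_le_normalizer hKM (hcomm hxc)
  have hkH : k ∈ H := by
    have : k = m⁻¹ * (m * k) := by group
    rw [this]
    exact H.mul_mem (H.inv_mem (hMH hm)) hxH
  have hk1 : k ∈ H ⊓ K := Subgroup.mem_inf.2 ⟨hkH, hk⟩
  rw [hdisj, Subgroup.mem_bot] at hk1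
  rw [hk1, mul_one]
  exact hm

theorem commutator_normal_of_sup_eq_top {H K : Subgroup G} [hHn : H.Normal] (hHK : H ⊔ K = ⊤) :
    (⁅H, K⁆ : Subgroup G).Normal := by
  rw [← Subgroup.normalizer_eq_top_iff, eq_top_iff, ← hHK]
  apply sup_le
  · exact le_normalizer_commutator_left H K
  · apply le_normalizer_commutator
    · rw [Subgroup.normalizer_eq_top]; exact le_top
    · exact Subgroup.le_normalizer

/-- A solvable normal subgroup `H` with complement `K`, contained in `G'`, satisfies `H = [H, K]`. -/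
theorem eq_commutator_of_complement_le_commutator (H K : Subgroup G) [hHn : H.Normal]
    (hsolv : Group.IsSolvable H) (hc : Subgroup.IsComplement' H K) (hle : H ≤ commutator G) :
    H = ⁅H, K⁆ := by
  have hHK : H ⊔ K = ⊤ := hc.sup_eq_top
  have hdisj : H ⊓ K = ⊥ := disjoint_iff.1 hc.disjoint
  have hN : (⁅H, K⁆ : Subgroup G).Normal := commutator_normal_of_sup_eq_top hHK
  have hNH : ⁅H, K⁆ ≤ H := Subgroup.commutator_le_left H K
  have hHH' : ⁅H, H⁆ ≤ H := Subgroup.commutator_le_left H H
  have h1 : H ⊓ commutator G ≤ ⁅H, H⁆ ⊔ ⁅H, K⁆ :=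
    inf_commutator_le_of_complement hHK hdisj (sup_le hHH' hNH) le_sup_left le_sup_right
  have h2 : H ≤ ⁅H, H⁆ ⊔ ⁅H, K⁆ := (le_inf le_rfl hle).trans h1
  exact le_antisymm (le_of_le_commutator_sup_of_isSolvable hsolv h2) hNH

theorem inf_centralizer_le_commutator_of_hall [Finite G] (H K : Subgroup G) [hHn : H.Normal]
    (hcop : (Nat.card H).Coprime H.index) (hc : Subgroup.IsComplement' H K)
    (hHK : H = ⁅H, K⁆) : H ⊓ Subgroup.centralizer (K : Set G) ≤ ⁅H, H⁆ := by
  set N : Subgroup G := ⁅H, H⁆ with hN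
  have hNn : N.Normal := inferInstance
  set π := QuotientGroup.mk' N with hπ
  have hsurj : Function.Surjective π := QuotientGroup.mk'_surjective N
  set V := H.map π with hV
  set A := K.map π with hA
  have hVn : V.Normal := hHn.map π hsurj
  have hVc : IsMulCommutative V := by
    rw [← Subgroup.le_centralizer_iff_isMulCommutative, ← Subgroup.commutator_eq_bot_iff_le_centralizer,
      hV, ← Subgroup.map_commutator, ← hN, hπ, QuotientGroup.map_mk'_self]
  have hAV : A ≤ Subgroup.normalizer (V : Set (G ⧸ N)) := by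
    rw [Subgroup.normalizer_eq_top]; exact le_top
  have hKcard : Nat.card K = H.index := by
    have := hc.card_mul_card
    have h2 := H.card_mul_index
    have hpos : 0 < Nat.card H := Nat.card_pos
    nlinarith [Nat.eq_of_mul_eq_mul_left hpos (this.trans h2.symm)]
  have hcop' : (Nat.card A).Coprime (Nat.card V) := by
    apply Nat.Coprime.coprime_dvd_left (Subgroup.card_map_dvd K π)
    apply Nat.Coprime.coprime_dvd_right (Subgroup.card_map_dvd H π)
    rw [hKcard]
    exact hcop.symm
  have h0 := centralizer_inf_commutator_eq_bot A V hAV hcop'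
  have hVA : ⁅V, A⁆ = V := by
    rw [hV, hA, ← Subgroup.map_commutator, ← hHK]
  rw [hVA] at h0
  intro x hx
  obtain ⟨hxH, hxC⟩ := Subgroup.mem_inf.1 hx
  have hπx : π x ∈ (V ⊓ Subgroup.centralizer (A : Set (G ⧸ N))) ⊓ V := by
    refine Subgroup.mem_inf.2 ⟨Subgroup.mem_inf.2 ⟨Subgroup.mem_map_of_mem π hxH, ?_⟩,
      Subgroup.mem_map_of_mem π hxH⟩
    rw [Subgroup.mem_centralizer_iff]
    rintro y ⟨k, hk, rfl⟩
    rw [← map_mul, ← map_mul, Subgroup.mem_centralizer_iff.1 hxC k hk]
  rw [h0, Subgroup.mem_bot, hπ, QuotientGroup.mk'_apply, QuotientGroup.eq_one_iff] at hπx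
  exact hπx


/-- A nilpotent group with cyclic abelianization is commutative. -/
theorem commutative_of_isNilpotent_of_isCyclic_abelianization (T : Type u) [Group T]
    [hT : Group.IsNilpotent T] : IsCyclic (Abelianization T) → ∀ a b : T, a * b = b * a := by
  apply Group.nilpotent_center_quotient_ind
    (P := fun (T : Type u) [Group T] [Group.IsNilpotent T] =>
      IsCyclic (Abelianization T) → ∀ a b : T, a * b = b * a) T
  · intro T _ _ _ a b
    exact Subsingleton.elim _ _
  · intro T _ _ ih hcyc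
    have hsurj : Function.Surjective
        (Abelianization.map (QuotientGroup.mk' (Subgroup.center T))) := by
      intro y
      obtain ⟨z, rfl⟩ : ∃ z, Abelianization.of z = y := QuotientGroup.mk_surjective y
      obtain ⟨t, rfl⟩ := QuotientGroup.mk'_surjective (Subgroup.center T) z
      exact ⟨Abelianization.of t, by simp⟩
    have hcyc2 : IsCyclic (Abelianization (T ⧸ Subgroup.center T)) :=
      isCyclic_of_surjective _ hsurj
    have hcomm := ih hcyc2
    let inst : CommGroup (T ⧸ Subgroup.center T) :=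
      { (inferInstance : Group (T ⧸ Subgroup.center T)) with mul_comm := hcomm }
    have hsurj2 : Function.Surjective
        (Abelianization.lift (QuotientGroup.mk' (Subgroup.center T))) := by
      intro y
      obtain ⟨t, rfl⟩ := QuotientGroup.mk'_surjective (Subgroup.center T) y
      exact ⟨Abelianization.of t, by simp⟩
    have hcyc3 : IsCyclic (T ⧸ Subgroup.center T) := isCyclic_of_surjective _ hsurj2
    intro a b
    have := MonoidHom.isMulCommutative_of_isCyclic_of_ker_le_center
      (QuotientGroup.mk' (Subgroup.center T)) (by rw [QuotientGroup.ker_mk'])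
    exact mul_comm' a b

end Cfsg.Agent.Helper1
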