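import Mathlib
import Cfsg.Prelude.Def_ConjugacyFunctors
import Cfsg.Agent.Helper5.KInf
import Cfsg.Agent.Helper5.KSeqSub
import Cfsg.Agent.S1978

/-!
The K-sequence is invariant under isomorphisms; the two K-infinity subgroups are
isomorphism-invariant `p`-group functors.
-/

set_option autoImplicit false

universe u

namespace Cfsg.Agent.Lead.KInf

open Cfsg Cfsg.Agent.Helper5

section iso

variable {Q R : Type*} [Group Q] [Group R] (φ : Q ≃* R)

theorem map_sSup_lower_equiv (X : Subgroup Q) :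
    (sSup (Cfsg.kLowerStarFamily X)).map φ.toMonoidHom =
      sSup (Cfsg.kLowerStarFamily (X.map φ.toMonoidHom)) := by
  apply le_antisymm
  · exact KS.map_sSup_lower_le φ.toMonoidHom φ.injective X
  · apply sSup_le
    intro B' hB'
    apply KS.le_map_sSup_lower φ.toMonoidHom φ.injective X hB'
    rw [MonoidHom.range_eq_top.mpr φ.surjective]
    exact le_top

theorem map_sSup_upper_equiv (X : Subgroup Q) :
    (sSup (Cfsg.kUpperStarFamily X)).map φ.toMonoidHom =
      sSup (Cfsg.kUpperStarFamily (X.map φ.toMonoidHom)) := by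
  apply le_antisymm
  · exact KS.map_sSup_upper_le φ.toMonoidHom φ.injective X
  · apply sSup_le
    intro B' hB'
    apply KS.le_map_sSup_upper φ.toMonoidHom φ.injective X hB'
    rw [MonoidHom.range_eq_top.mpr φ.surjective]
    exact le_top

theorem map_kSeqOdd_equiv (n : ℕ) :
    (Cfsg.kSeqOdd Q n).map φ.toMonoidHom = Cfsg.kSeqOdd R n := by
  induction n with
  | zero =>
    change (⊤ : Subgroup Q).map φ.toMonoidHom = ⊤
    rw [← MonoidHom.range_eq_map, MonoidHom.range_eq_top.mpr φ.surjective]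
  | succ n ih =>
    change (sSup (Cfsg.kUpperStarFamily (sSup (Cfsg.kLowerStarFamily (Cfsg.kSeqOdd Q n))))).map
        φ.toMonoidHom =
      sSup (Cfsg.kUpperStarFamily (sSup (Cfsg.kLowerStarFamily (Cfsg.kSeqOdd R n))))
    rw [map_sSup_upper_equiv, map_sSup_lower_equiv, ih]

theorem map_kSeqEven_equiv (n : ℕ) :
    (Cfsg.kSeqEven Q n).map φ.toMonoidHom = Cfsg.kSeqEven R n := by
  unfold Cfsg.kSeqEven
  rw [map_sSup_lower_equiv, map_kSeqOdd_equiv]

end iso

theorem map_kInfLower_equiv {Q R : Type u} [Group Q] [Group R] (φ : Q ≃* R) :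
    (Cfsg.kInfLower Q).map φ.toMonoidHom = Cfsg.kInfLower R := by
  unfold Cfsg.kInfLower
  rw [Subgroup.map_iSup]
  congr 1
  funext n
  exact map_kSeqEven_equiv φ n

theorem map_kInfUpper_equiv {Q R : Type u} [Group Q] [Group R] (φ : Q ≃* R) :
    (Cfsg.kInfUpper Q).map φ.toMonoidHom = Cfsg.kInfUpper R := by
  unfold Cfsg.kInfUpper
  rw [Subgroup.map_iInf _ φ.injective]
  congr 1
  funext n
  exact map_kSeqOdd_equiv φ n

theorem kInfLower_ne_bot {Q : Type u} [Group Q] [Finite Q] {p : ℕ} [Fact p.Prime]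
    (hQ : IsPGroup p Q) (hnt : Nontrivial Q) : Cfsg.kInfLower Q ≠ ⊥ := by
  intro h
  obtain ⟨h1, h2, -, -⟩ := Cfsg.Agent.S1978.result hQ
  have h3 : Subgroup.center Q ≤ ⊥ := h ▸ (h2.trans h1)
  have h4 : Subgroup.center Q ≠ ⊥ := by
    have := hQ.center_nontrivial
    exact (Subgroup.nontrivial_iff_ne_bot _).mp inferInstance
  exact h4 (le_bot_iff.mp h3)

theorem kInfUpper_ne_bot {Q : Type u} [Group Q] [Finite Q] {p : ℕ} [Fact p.Prime]
    (hQ : IsPGroup p Q) (hnt : Nontrivial Q) : Cfsg.kInfUpper Q ≠ ⊥ := by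
  intro h
  obtain ⟨-, -, h1, h2⟩ := Cfsg.Agent.S1978.result hQ
  have h3 : Subgroup.center Q ≤ ⊥ := h ▸ (h2.trans h1)
  have h4 : Subgroup.center Q ≠ ⊥ := by
    have := hQ.center_nontrivial
    exact (Subgroup.nontrivial_iff_ne_bot _).mp inferInstance
  exact h4 (le_bot_iff.mp h3)

theorem isCharPFunctor_kInfLower (p : ℕ) [Fact p.Prime] :
    Cfsg.IsCharPFunctor.{u} p Cfsg.kInfLower := by
  refine ⟨fun Q _ _ hQ hnt => kInfLower_ne_bot hQ hnt, fun Q R _ _ _ _ φ => ?_⟩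
  exact map_kInfLower_equiv φ

theorem isCharPFunctor_kInfUpper (p : ℕ) [Fact p.Prime] :
    Cfsg.IsCharPFunctor.{u} p Cfsg.kInfUpper := by
  refine ⟨fun Q _ _ hQ hnt => kInfUpper_ne_bot hQ hnt, fun Q R _ _ _ _ φ => ?_⟩
  exact map_kInfUpper_equiv φ

theorem center_le_kInfLower {Q : Type u} [Group Q] [Finite Q] {p : ℕ} [Fact p.Prime]
    (hQ : IsPGroup p Q) : Subgroup.center Q ≤ Cfsg.kInfLower Q := by
  obtain ⟨h1, h2, -, -⟩ := Cfsg.Agent.S1978.result hQ
  exact h2.trans h1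

theorem center_le_kInfUpper {Q : Type u} [Group Q] [Finite Q] {p : ℕ} [Fact p.Prime]
    (hQ : IsPGroup p Q) : Subgroup.center Q ≤ Cfsg.kInfUpper Q := by
  obtain ⟨-, -, h1, h2⟩ := Cfsg.Agent.S1978.result hQ
  exact h2.trans h1

end Cfsg.Agent.Lead.KInf
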