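import Mathlib
import Cfsg.Prelude.Def_ConjugacyFunctors
import Cfsg.Agent.Helper5.KInf

/-!
The internal form of Glauberman's theorem on the K-sequence: if some term of the K-sequence of `P`
is not contained in `T`, where `A` is a normal subgroup of `P` of class at most two with
`[T, A] ≤ Z(A)`, then some element outside `T` acts quadratically on `Z(A)` and nearly
quadratically on `A`.
-/

set_option autoImplicit false

namespace Cfsg.Agent.Lead.KInf

open Cfsg Subgroup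

variable {P : Type*} [Group P]

theorem comm_inf_cent_self (B : Subgroup P) :
    ⁅B ⊓ centralizer (B : Set P), B⁆ = ⊥ :=
  commutator_eq_bot_iff_le_centralizer.mpr inf_le_right

theorem zcent_comm_self (A : Subgroup P) :
    ⁅A ⊓ centralizer (A : Set P), A ⊓ centralizer (A : Set P)⁆ = ⊥ :=
  le_bot_iff.mp ((commutator_mono le_rfl inf_le_left).trans (comm_inf_cent_self A).le)

theorem zcent_mem_classTwo (A : Subgroup P) :
    A ⊓ centralizer (A : Set P) ∈ Cfsg.classTwoSubgroups P := by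
  show ⁅A ⊓ centralizer (A : Set P), A ⊓ centralizer (A : Set P)⁆ ≤ _
  rw [zcent_comm_self]
  exact bot_le

theorem zcent_normal (A : Subgroup P) [A.Normal] : (A ⊓ centralizer (A : Set P)).Normal :=
  inferInstance

theorem class_two_triple (B : Subgroup P) (hB : B ∈ Cfsg.classTwoSubgroups P) :
    ⁅⁅B, B⁆, B⁆ = ⊥ :=
  commutator_eq_bot_iff_le_centralizer.mpr hB

/-- Even step: a member of a lower-star family relative to a subgroup containing `A`. -/
theorem even_step (A R B : Subgroup P) [A.Normal] (hAR : A ≤ R)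
    (hB : B ∈ Cfsg.kLowerStarFamily R) {g : P} (hg : g ∈ B) :
    ⁅⁅A ⊓ centralizer (A : Set P), zpowers g⁆, zpowers g⁆ = ⊥ ∧
      ⁅⁅⁅A, zpowers g⁆, zpowers g⁆, zpowers g⁆ = ⊥ := by
  obtain ⟨hB2, hRB, hBu⟩ := hB
  have hgB : zpowers g ≤ B := (zpowers_le).mpr hg
  have hZn : (A ⊓ centralizer (A : Set P)).Normal := zcent_normal A
  have h1 : ⁅B, A ⊓ centralizer (A : Set P)⁆ ≤ B ⊓ centralizer (B : Set P) := by
    apply hBu _ (zcent_mem_classTwo A) (inf_le_left.trans hAR)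
    · rw [normalizer_eq_top]
      exact le_top
    · rw [zcent_comm_self, commutator_bot_right]
    · apply le_bot_iff.mp
      calc ⁅⁅B ⊓ centralizer (B : Set P), A ⊓ centralizer (A : Set P)⁆, A ⊓ centralizer (A : Set P)⁆
          ≤ ⁅A ⊓ centralizer (A : Set P), A ⊓ centralizer (A : Set P)⁆ :=
            commutator_mono (commutator_le_right _ _) le_rfl
        _ = ⊥ := zcent_comm_self A
  constructor
  · apply le_bot_iff.mp
    calc ⁅⁅A ⊓ centralizer (A : Set P), zpowers g⁆, zpowers g⁆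
        ≤ ⁅⁅A ⊓ centralizer (A : Set P), B⁆, B⁆ :=
          commutator_mono (commutator_mono le_rfl hgB) hgB
      _ = ⁅⁅B, A ⊓ centralizer (A : Set P)⁆, B⁆ := by rw [commutator_comm B]
      _ ≤ ⁅B ⊓ centralizer (B : Set P), B⁆ := commutator_mono h1 le_rfl
      _ = ⊥ := comm_inf_cent_self B
  · have h2 : ⁅A, B⁆ ≤ B := le_normalizer_iff_commutator_le_right.mp (hAR.trans hRB)
    apply le_bot_iff.mp
    calc ⁅⁅⁅A, zpowers g⁆, zpowers g⁆, zpowers g⁆
        ≤ ⁅⁅⁅A, B⁆, B⁆, B⁆ :=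
          commutator_mono (commutator_mono (commutator_mono le_rfl hgB) hgB) hgB
      _ ≤ ⁅⁅B, B⁆, B⁆ := commutator_mono (commutator_mono h2 le_rfl) le_rfl
      _ = ⊥ := class_two_triple B hB2

/-- Odd step: a member of an upper-star family relative to a subgroup containing `A`. -/
theorem odd_step (A E B : Subgroup P) (hAE : A ≤ E)
    (hB : B ∈ Cfsg.kUpperStarFamily E) {g : P} (hg : g ∈ B) :
    ⁅⁅A, zpowers g⁆, zpowers g⁆ = ⊥ := by
  obtain ⟨-, hBE⟩ := hB
  have hgB : zpowers g ≤ B := (zpowers_le).mpr hg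
  apply le_bot_iff.mp
  calc ⁅⁅A, zpowers g⁆, zpowers g⁆ ≤ ⁅⁅E, B⁆, B⁆ :=
        commutator_mono (commutator_mono hAE hgB) hgB
    _ = ⁅⁅B, E⁆, B⁆ := by rw [commutator_comm B]
    _ ≤ ⁅B ⊓ centralizer (B : Set P), B⁆ := commutator_mono hBE le_rfl
    _ = ⊥ := comm_inf_cent_self B

theorem exists_mem_not_mem_of_not_sSup_le {F : Set (Subgroup P)} {T : Subgroup P}
    (h : ¬ sSup F ≤ T) : ∃ B ∈ F, ∃ g ∈ B, g ∉ T := by
  rw [sSup_le_iff] at h
  push Not at h
  obtain ⟨B, hBF, hBT⟩ := h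
  obtain ⟨g, hgB, hgT⟩ := SetLike.not_le_iff_exists.mp hBT
  exact ⟨B, hBF, g, hgB, hgT⟩

/-- `A` lies in the lower-star family relative to any subgroup of `T`. -/
theorem mem_lower_of_le (T A R : Subgroup P) [A.Normal]
    (hA2 : A ∈ Cfsg.classTwoSubgroups P)
    (hTA : ⁅T, A⁆ ≤ A ⊓ centralizer (A : Set P)) (hRT : R ≤ T) :
    A ∈ Cfsg.kLowerStarFamily R := by
  refine ⟨hA2, ?_, ?_⟩
  · rw [normalizer_eq_top]
    exact le_top
  · intro A' _ hA'R _ _ _
    rw [commutator_comm]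
    exact (commutator_mono (hA'R.trans hRT) le_rfl).trans hTA

/-- `A` lies in the upper-star family relative to any subgroup of `T`. -/
theorem mem_upper_of_le (T A E : Subgroup P)
    (hA2 : A ∈ Cfsg.classTwoSubgroups P)
    (hTA : ⁅T, A⁆ ≤ A ⊓ centralizer (A : Set P)) (hET : E ≤ T) :
    A ∈ Cfsg.kUpperStarFamily E := by
  refine ⟨hA2, ?_⟩
  rw [commutator_comm]
  exact (commutator_mono hET le_rfl).trans hTA

/-- The internal theorem. -/
theorem exists_quadratic (T A : Subgroup P) [A.Normal]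
    (hA2 : A ∈ Cfsg.classTwoSubgroups P)
    (hTA : ⁅T, A⁆ ≤ A ⊓ centralizer (A : Set P))
    (hnot : ¬ ∀ n : ℕ, Cfsg.kSeqEven P n ≤ T ∧ Cfsg.kSeqOdd P (n + 1) ≤ T) :
    ∃ g : P, g ∉ T ∧ ⁅⁅A ⊓ centralizer (A : Set P), zpowers g⁆, zpowers g⁆ = ⊥ ∧
      (⁅⁅⁅A, zpowers g⁆, zpowers g⁆, zpowers g⁆ = ⊥ ∨
        ⁅⁅A, zpowers g⁆, zpowers g⁆ ≤ A ⊓ centralizer (A : Set P)) := by
  by_contra hcon
  apply hnot
  -- conclusion from `⁅⁅A, g⁆, g⁆ = ⊥`
  have hfromquad : ∀ g : P, g ∉ T → ⁅⁅A, zpowers g⁆, zpowers g⁆ = ⊥ → False := by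
    intro g hgT hq
    apply hcon
    refine ⟨g, hgT, ?_, Or.inl ?_⟩
    · apply le_bot_iff.mp
      rw [← hq]
      exact commutator_mono (commutator_mono inf_le_left le_rfl) le_rfl
    · rw [hq, commutator_bot_left]
  have hfromeven : ∀ (R B : Subgroup P), A ≤ R → B ∈ Cfsg.kLowerStarFamily R →
      ∀ g ∈ B, g ∉ T → False := by
    intro R B hAR hB g hgB hgT
    obtain ⟨h1, h2⟩ := even_step A R B hAR hB hgB
    exact hcon ⟨g, hgT, h1, Or.inl h2⟩
  intro n
  induction n with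
  | zero =>
    have hE0 : Cfsg.kSeqEven P 0 ≤ T := by
      by_contra hE
      obtain ⟨B, hBF, g, hgB, hgT⟩ := exists_mem_not_mem_of_not_sSup_le hE
      exact hfromeven _ B le_top hBF g hgB hgT
    refine ⟨hE0, ?_⟩
    by_contra hO
    obtain ⟨B, hBF, g, hgB, hgT⟩ := exists_mem_not_mem_of_not_sSup_le hO
    by_cases hAl : ∀ A₁ ∈ Cfsg.classTwoSubgroups P, A ≤ normalizer (A₁ : Set P) →
        ⁅A, ⁅A₁, A₁⁆⁆ = ⊥ → ⁅⁅A ⊓ centralizer (A : Set P), A₁⁆, A₁⁆ = ⊥ →
        ⁅A, A₁⁆ ≤ A ⊓ centralizer (A : Set P)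
    · have hAmem : A ∈ Cfsg.kLowerStarFamily (Cfsg.kSeqOdd P 0) := by
        refine ⟨hA2, ?_, ?_⟩
        · rw [normalizer_eq_top]
          exact le_top
        · intro A' hA' _ h1 h2 h3
          exact hAl A' hA' h1 h2 h3
      have hAE : A ≤ Cfsg.kSeqEven P 0 := le_sSup hAmem
      exact hfromquad g hgT (odd_step A _ B hAE hBF hgB)
    · push Not at hAl
      obtain ⟨A₁, hA₁2, hAA₁, h1, h2, h3⟩ := hAl
      have hA₁T : ¬ A₁ ≤ T := by
        intro hle
        apply h3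
        rw [commutator_comm]
        exact (commutator_mono hle le_rfl).trans hTA
      obtain ⟨g', hg'A₁, hg'T⟩ := SetLike.not_le_iff_exists.mp hA₁T
      have hg'le : zpowers g' ≤ A₁ := (zpowers_le).mpr hg'A₁
      apply hcon
      refine ⟨g', hg'T, ?_, Or.inr ?_⟩
      · apply le_bot_iff.mp
        rw [← h2]
        exact commutator_mono (commutator_mono le_rfl hg'le) hg'le
      · have h4 : ⁅A, A₁⁆ ≤ A₁ := le_normalizer_iff_commutator_le_right.mp hAA₁
        have h5 : ⁅A, A₁⁆ ≤ A := commutator_le_left A A₁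
        have h6 : ⁅A₁, A₁⁆ ≤ centralizer (A : Set P) := by
          rw [← commutator_eq_bot_iff_le_centralizer, commutator_comm]
          exact h1
        calc ⁅⁅A, zpowers g'⁆, zpowers g'⁆ ≤ ⁅⁅A, A₁⁆, A₁⁆ :=
              commutator_mono (commutator_mono le_rfl hg'le) hg'le
          _ ≤ A ⊓ centralizer (A : Set P) := by
              refine le_inf ?_ ?_
              · exact (commutator_mono h5 le_rfl).trans h5
              · exact (commutator_mono h4 le_rfl).trans h6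
  | succ n ih =>
    obtain ⟨ihE, ihO⟩ := ih
    have hAO : A ≤ Cfsg.kSeqOdd P (n + 1) := le_sSup (mem_upper_of_le T A _ hA2 hTA ihE)
    have hE1 : Cfsg.kSeqEven P (n + 1) ≤ T := by
      by_contra hE
      obtain ⟨B, hBF, g, hgB, hgT⟩ := exists_mem_not_mem_of_not_sSup_le hE
      exact hfromeven _ B hAO hBF g hgB hgT
    refine ⟨hE1, ?_⟩
    by_contra hO
    obtain ⟨B, hBF, g, hgB, hgT⟩ := exists_mem_not_mem_of_not_sSup_le hO
    have hAE : A ≤ Cfsg.kSeqEven P (n + 1) := le_sSup (mem_lower_of_le T A _ hA2 hTA ihO)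
    exact hfromquad g hgT (odd_step A _ B hAE hBF hgB)

end Cfsg.Agent.Lead.KInf
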