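import Mathlib
import Cfsg.Prelude.Def_ConjugacyFunctors
import Cfsg.Agent.Lead.KInfA
import Cfsg.Agent.Lead.KInfB
import Cfsg.Agent.S1979
import Cfsg.Agent.Helper1.FTA
import Cfsg.Agent.Lead.ConjFunctorControl

/-!
The external form of Glauberman's theorem on the K-sequence: `T` a `p`-subgroup of a finite
group, `Q ≤ T` normalized by `H`, and `K_∞(T)` (or `K^∞(T)`) not normalized by `H`.
-/

set_option autoImplicit false

universe u

namespace Cfsg.Agent.Lead.KInf

open Cfsg Subgroup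

/-- A functor on `p`-groups which is determined by any subgroup containing all terms of the
K-sequence. -/
def SubDetermined (p : ℕ) (W : ∀ (Q : Type u) [Group Q], Subgroup Q) : Prop :=
  ∀ (P : Type u) [Group P] [Finite P], IsPGroup p P → ∀ Q : Subgroup P,
    (∀ n : ℕ, Cfsg.kSeqEven P n ≤ Q ∧ Cfsg.kSeqOdd P (n + 1) ≤ Q) →
      (W ↥Q).map Q.subtype = W P

theorem subDetermined_kInfLower (p : ℕ) [Fact p.Prime] : SubDetermined.{u} p Cfsg.kInfLower :=
  fun _ _ _ hP Q hQ => (Cfsg.Agent.S1979.result hP Q hQ).1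

theorem subDetermined_kInfUpper (p : ℕ) [Fact p.Prime] : SubDetermined.{u} p Cfsg.kInfUpper :=
  fun _ _ _ hP Q hQ => (Cfsg.Agent.S1979.result hP Q hQ).2

variable {G : Type u} [Group G] [Finite G] {p : ℕ}

theorem not_all_terms_le (W : ∀ (Q : Type u) [Group Q], Subgroup Q)
    (hW : Cfsg.IsCharPFunctor.{u} p W) (hWs : SubDetermined.{u} p W)
    {H T Q : Subgroup G} (hT : IsPGroup p T) (hQT : Q ≤ T)
    (hQn : H ≤ normalizer (Q : Set G))
    (hnn : ¬ H ≤ normalizer ((Cfsg.inducedFunctor W T : Subgroup G) : Set G)) :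
    ¬ ∀ n : ℕ, Cfsg.kSeqEven ↥T n ≤ Q.subgroupOf T ∧ Cfsg.kSeqOdd ↥T (n + 1) ≤ Q.subgroupOf T := by
  intro hall
  apply hnn
  have h1 := hWs ↥T hT (Q.subgroupOf T) hall
  have hQ'p : IsPGroup p ↥(Q.subgroupOf T) := hT.to_subgroup _
  have h2 := Cfsg.Agent.Helper5.TF.inducedFunctor_map W hW T.subtype T.subtype_injective
    (Q.subgroupOf T) hQ'p
  rw [map_subgroupOf_eq_of_le hQT] at h2
  have h3 : Cfsg.inducedFunctor W Q = Cfsg.inducedFunctor W T := by
    rw [h2]
    show ((W ↥(Q.subgroupOf T)).map (Q.subgroupOf T).subtype).map T.subtype = (W ↥T).map T.subtype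
    rw [h1]
  rw [← h3]
  have hQp : IsPGroup p ↥Q := hT.to_le hQT
  exact hQn.trans (Cfsg.Agent.Lead.normalizer_le_normalizer_functor
    (Cfsg.Agent.Helper1.FT.isConjugacyFunctor_induced W hW) hQp)

omit [Finite G] in
theorem map_zcent_subgroupOf {T A : Subgroup G} (hAT : A ≤ T) :
    ((A.subgroupOf T) ⊓ centralizer ((A.subgroupOf T : Subgroup ↥T) : Set ↥T)).map T.subtype =
      A ⊓ centralizer (A : Set G) := by
  rw [Cfsg.Agent.Helper5.KS.map_Z T.subtype T.subtype_injective, map_subgroupOf_eq_of_le hAT]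

/-- The external theorem. -/
theorem exists_quadratic_ext (W : ∀ (Q : Type u) [Group Q], Subgroup Q)
    (hW : Cfsg.IsCharPFunctor.{u} p W) (hWs : SubDetermined.{u} p W)
    {H T Q A : Subgroup G} (hT : IsPGroup p T) (hQT : Q ≤ T)
    (hQn : H ≤ normalizer (Q : Set G))
    (hAT : A ≤ T) (hAn : T ≤ normalizer (A : Set G))
    (hA2 : ⁅A, A⁆ ≤ centralizer (A : Set G))
    (hQA : ⁅Q, A⁆ ≤ A ⊓ centralizer (A : Set G))
    (hnn : ¬ H ≤ normalizer ((Cfsg.inducedFunctor W T : Subgroup G) : Set G)) :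
    ∃ g : G, g ∈ T ∧ g ∉ Q ∧ ⁅⁅A ⊓ centralizer (A : Set G), zpowers g⁆, zpowers g⁆ = ⊥ ∧
      (⁅⁅⁅A, zpowers g⁆, zpowers g⁆, zpowers g⁆ = ⊥ ∨
        ⁅⁅A, zpowers g⁆, zpowers g⁆ ≤ A ⊓ centralizer (A : Set G)) := by
  have hnot := not_all_terms_le W hW hWs hT hQT hQn hnn
  have hinj : Function.Injective T.subtype := T.subtype_injective
  haveI hAn' : (A.subgroupOf T).Normal := (normal_subgroupOf_iff_le_normalizer hAT).mpr hAn
  have hmapA : (A.subgroupOf T).map T.subtype = A := map_subgroupOf_eq_of_le hAT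
  have hmapQ : (Q.subgroupOf T).map T.subtype = Q := map_subgroupOf_eq_of_le hQT
  have hA2' : A.subgroupOf T ∈ Cfsg.classTwoSubgroups ↥T := by
    rw [← Cfsg.Agent.Helper5.KS.mem_classTwo_iff T.subtype hinj, hmapA]
    exact hA2
  have hQA' : ⁅Q.subgroupOf T, A.subgroupOf T⁆ ≤
      A.subgroupOf T ⊓ centralizer ((A.subgroupOf T : Subgroup ↥T) : Set ↥T) := by
    rw [← map_le_map_iff_of_injective hinj, map_commutator, map_zcent_subgroupOf hAT, hmapA, hmapQ]
    exact hQA
  obtain ⟨g, hgQ, h1, h2⟩ := exists_quadratic (Q.subgroupOf T) (A.subgroupOf T) hA2' hQA' hnot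
  have hz : (zpowers g).map T.subtype = zpowers (g : G) := by
    rw [MonoidHom.map_zpowers]
    rfl
  refine ⟨(g : G), g.2, fun hg => hgQ (mem_subgroupOf.mpr hg), ?_, ?_⟩
  · have := congrArg (Subgroup.map T.subtype) h1
    rw [map_commutator, map_commutator, map_zcent_subgroupOf hAT, hz, Subgroup.map_bot] at this
    exact this
  · rcases h2 with h2 | h2
    · left
      have := congrArg (Subgroup.map T.subtype) h2
      rw [map_commutator, map_commutator, map_commutator, hmapA, hz, Subgroup.map_bot] at this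
      exact this
    · right
      have := Subgroup.map_mono (f := T.subtype) h2
      rw [map_commutator, map_commutator, map_zcent_subgroupOf hAT, hmapA, hz] at this
      exact this

end Cfsg.Agent.Lead.KInf
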