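import Mathlib
import Cfsg.Prelude.Def_ConjugacyFunctors
import Cfsg.Prelude.Def_Amalgam
import Cfsg.Prelude.Def_PLocal
import Cfsg.Agent.Lead.KInfC
import Cfsg.Agent.Helper1.Fitting
import Cfsg.Agent.Helper1.Cores

/-!
The local quadratic element for the K-infinity functors relative to `Z(O_p(H))`.
-/

set_option autoImplicit false

universe u

namespace Cfsg.Agent.Lead.KInf

open Cfsg Subgroup

section basic

variable {G : Type*} [Group G]

theorem normalizer_le_normalizer_zcent (Q : Subgroup G) :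
    normalizer (Q : Set G) ≤ normalizer ((Q ⊓ centralizer (Q : Set G) : Subgroup G) : Set G) := by
  have key : ∀ g : G, g ∈ normalizer (Q : Set G) → ∀ x : G, x ∈ Q ⊓ centralizer (Q : Set G) →
      g * x * g⁻¹ ∈ Q ⊓ centralizer (Q : Set G) := by
    intro g hg x hx
    refine mem_inf.mpr ⟨(mem_normalizer_iff.mp hg x).mp hx.1, ?_⟩
    rw [mem_centralizer_iff]
    intro q hq
    have hq' : g⁻¹ * q * g⁻¹⁻¹ ∈ Q := (mem_normalizer_iff.mp (inv_mem hg) q).mp hq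
    have hc := (mem_centralizer_iff.mp hx.2) _ hq'
    have e1 : q * (g * x * g⁻¹) = g * ((g⁻¹ * q * g⁻¹⁻¹) * x) * g⁻¹ := by group
    have e2 : g * x * g⁻¹ * q = g * (x * (g⁻¹ * q * g⁻¹⁻¹)) * g⁻¹ := by group
    rw [e1, e2, hc]
  intro g hg
  rw [mem_normalizer_iff]
  intro x
  constructor
  · exact key g hg x
  · intro hx
    have := key g⁻¹ (inv_mem hg) _ hx
    have e : g⁻¹ * (g * x * g⁻¹) * g⁻¹⁻¹ = x := by group
    rwa [e] at this

theorem iterCommutator_eq_bot_of_two (X A : Subgroup G)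
    (h : ⁅⁅X, A⁆, A⁆ = ⊥) : ∀ k : ℕ, 2 ≤ k → Cfsg.iterCommutator X A k = ⊥ := by
  intro k hk
  induction k, hk using Nat.le_induction with
  | base => exact h
  | succ k _ ih =>
    show ⁅Cfsg.iterCommutator X A k, A⁆ = ⊥
    rw [ih, commutator_bot_left]

theorem pCoreOf_le_normalizer (p : ℕ) (H : Subgroup G) :
    H ≤ normalizer ((Cfsg.pCoreOf p H : Subgroup G) : Set G) := by
  have h1 := le_normalizer_map (H := Cfsg.pCore p ↥H) H.subtype
  have h2 : normalizer ((Cfsg.pCore p ↥H : Subgroup ↥H) : Set ↥H) = ⊤ :=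
    normalizer_eq_top _
  rw [h2, ← MonoidHom.range_eq_map, H.range_subtype] at h1
  exact h1

theorem pCoreOf_le_of_sylow [Finite G] {p : ℕ} [Fact p.Prime] {H T : Subgroup G} (hTH : T ≤ H)
    (hTp : IsPGroup p T) (hTidx : ¬ p ∣ T.relIndex H) : Cfsg.pCoreOf p H ≤ T := by
  have hTp' : IsPGroup p (T.subgroupOf H) := hTp.comap_subtype
  have hTidx' : ¬ p ∣ (T.subgroupOf H).index := hTidx
  obtain ⟨SH, hSH⟩ : ∃ SH : Sylow p ↥H, (SH : Subgroup ↥H) = T.subgroupOf H :=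
    ⟨hTp'.toSylow hTidx', IsPGroup.toSylow_coe _ _⟩
  have hSHmap : (SH : Subgroup ↥H).map H.subtype = T := by
    rw [hSH]
    exact map_subgroupOf_eq_of_le hTH
  rw [← hSHmap]
  exact Subgroup.map_mono (Cfsg.Agent.Helper1.pCore_le_sylow SH)

end basic

variable {G : Type u} [Group G] [Finite G] {p : ℕ} [Fact p.Prime]

/-- The local quadratic element on `Z(O_p(H))`. -/
theorem hloc_quad (W : ∀ (Q : Type u) [Group Q], Subgroup Q)
    (hW : Cfsg.IsCharPFunctor.{u} p W) (hWs : SubDetermined.{u} p W)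
    (H T : Subgroup G) (hTH : T ≤ H) (hT : IsPGroup p T) (hidx : ¬ p ∣ T.relIndex H)
    (hnn : ¬ H ≤ normalizer ((Cfsg.inducedFunctor W T : Subgroup G) : Set G)) :
    ∃ g : G, g ∈ T ∧ g ∉ Cfsg.pCoreOf p H ∧
      ⁅⁅Cfsg.pCoreOf p H ⊓ centralizer ((Cfsg.pCoreOf p H : Subgroup G) : Set G),
        zpowers g⁆, zpowers g⁆ = ⊥ := by
  obtain ⟨Q, hQ⟩ : ∃ Q, Q = Cfsg.pCoreOf p H := ⟨_, rfl⟩
  rw [← hQ]
  have hQT : Q ≤ T := hQ ▸ pCoreOf_le_of_sylow hTH hT hidx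
  have hQn : H ≤ normalizer (Q : Set G) := hQ ▸ pCoreOf_le_normalizer p H
  obtain ⟨A, hA⟩ : ∃ A, A = Q ⊓ centralizer (Q : Set G) := ⟨_, rfl⟩
  have hAT : A ≤ T := hA ▸ inf_le_left.trans hQT
  have hAn : T ≤ normalizer (A : Set G) :=
    hA ▸ (hTH.trans hQn).trans (normalizer_le_normalizer_zcent Q)
  have hAA : ⁅A, A⁆ = ⊥ := hA ▸ zcent_comm_self Q
  have hAcA : A ≤ centralizer (A : Set G) := commutator_eq_bot_iff_le_centralizer.mp hAA
  have hZA : A ⊓ centralizer (A : Set G) = A := inf_eq_left.mpr hAcA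
  have hA2 : ⁅A, A⁆ ≤ centralizer (A : Set G) := by
    rw [hAA]
    exact bot_le
  have hQA : ⁅Q, A⁆ ≤ A ⊓ centralizer (A : Set G) := by
    have : ⁅Q, A⁆ = ⊥ := by
      rw [commutator_comm, hA]
      exact comm_inf_cent_self Q
    rw [this]
    exact bot_le
  obtain ⟨g, hgT, hgQ, h1, -⟩ := exists_quadratic_ext W hW hWs hT hQT hQn hAT hAn hA2 hQA hnn
  rw [hZA] at h1
  rw [← hA]
  exact ⟨g, hgT, hgQ, h1⟩

omit [Fact p.Prime] in
theorem zcent_le_induced (W : ∀ (Q : Type u) [Group Q], Subgroup Q)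
    (hWZ : ∀ (Q : Type u) [Group Q] [Finite Q], IsPGroup p Q → center Q ≤ W Q)
    (P : Subgroup G) (hP : IsPGroup p ↥P) :
    P ⊓ centralizer (P : Set G) ≤ Cfsg.inducedFunctor W P := by
  intro x hx
  obtain ⟨hxP, hxc⟩ := mem_inf.mp hx
  have h1 : (⟨x, hxP⟩ : ↥P) ∈ center ↥P := by
    rw [mem_center_iff]
    intro y
    apply Subtype.ext
    exact (mem_centralizer_iff.mp hxc) (y : G) y.2
  exact ⟨⟨x, hxP⟩, hWZ ↥P hP h1, rfl⟩

end Cfsg.Agent.Lead.KInf
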