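import Mathlib
import Cfsg.Prelude.Def_JComponents
import Cfsg.Agent.Lead.Thompson
import Cfsg.Agent.Lead.LLemA

/-!
Lead: general lemmas for the J(T)-component statements (KS ch. 12): enumeration of a four-group and of a
group of order 3, an odd-order stability lemma, invariance of `wOf` under automorphisms.
-/

set_option autoImplicit false

namespace Cfsg.Agent.Lead.JComp

open Cfsg

variable {G : Type*} [Group G]

/-- a subgroup of order 4 and exponent 2 is `{1, x, y, xy}` for any two distinct nontrivial `x, y` -/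
theorem four_enum (W : Subgroup G) (hc : Nat.card W = 4) (hsq : ∀ w ∈ W, w * w = 1)
    {x y : G} (hx : x ∈ W) (hy : y ∈ W) (hx1 : x ≠ 1) (hy1 : y ≠ 1) (hxy : x ≠ y) :
    ∀ w ∈ W, w = 1 ∨ w = x ∨ w = y ∨ w = x * y := by
  classical
  intro w hw
  by_contra hcon
  push_neg at hcon
  obtain ⟨h1, h2, h3, h4⟩ := hcon
  have hfin : Finite W := Nat.finite_of_card_ne_zero (by rw [hc]; norm_num)
  have hxinv : x⁻¹ = x := by
    have := hsq x hx
    exact inv_eq_of_mul_eq_one_left this
  have hxy1 : x * y ≠ 1 := by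
    intro h
    have : y = x⁻¹ := eq_inv_of_mul_eq_one_right h
    rw [hxinv] at this
    exact hxy this.symm
  have hxyx : x * y ≠ x := by
    intro h
    exact hy1 (by simpa using h)
  have hxyy : x * y ≠ y := by
    intro h
    exact hx1 (by simpa using h)
  let s : Finset G := {1, x, y, x * y, w}
  have hs : s.card = 5 := by
    simp only [s]
    rw [Finset.card_insert_of_notMem, Finset.card_insert_of_notMem, Finset.card_insert_of_notMem,
      Finset.card_insert_of_notMem, Finset.card_singleton]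
    · simp only [Finset.mem_singleton]; exact fun h => h4 h.symm
    · simp only [Finset.mem_insert, Finset.mem_singleton, not_or]
      exact ⟨fun h => hxyy h.symm, fun h => h3 h.symm⟩
    · simp only [Finset.mem_insert, Finset.mem_singleton, not_or]
      exact ⟨hxy, fun h => hxyx h.symm, fun h => h2 h.symm⟩
    · simp only [Finset.mem_insert, Finset.mem_singleton, not_or]
      exact ⟨fun h => hx1 h.symm, fun h => hy1 h.symm, fun h => hxy1 h.symm, fun h => h1 h.symm⟩
  have hsub : (↑s : Set G) ⊆ (W : Set G) := by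
    intro z hz
    simp only [s, Finset.coe_insert, Finset.coe_singleton, Set.mem_insert_iff,
      Set.mem_singleton_iff] at hz
    rcases hz with rfl | rfl | rfl | rfl | rfl
    · exact W.one_mem
    · exact hx
    · exact hy
    · exact W.mul_mem hx hy
    · exact hw
  have hle : (↑s : Set G).ncard ≤ (W : Set G).ncard :=
    Set.ncard_le_ncard hsub (Set.toFinite _)
  rw [Set.ncard_coe_finset, hs] at hle
  have : (W : Set G).ncard = 4 := by
    rw [← hc]; rfl
  omega

/-- in a group of order 3 every element is `1`, `x` or `x⁻¹` -/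
theorem card3_enum {Q : Type*} [Group Q] (hQ : Nat.card Q = 3) (x : Q) (hx : x ≠ 1) (y : Q) :
    y = 1 ∨ y = x ∨ y = x⁻¹ := by
  classical
  haveI : Finite Q := Nat.finite_of_card_ne_zero (by rw [hQ]; norm_num)
  by_contra hcon
  push_neg at hcon
  obtain ⟨h1, h2, h3⟩ := hcon
  have hx3 : x ^ 3 = 1 := by
    have := pow_card_eq_one' (G := Q) (x := x)
    rwa [hQ] at this
  have hxinv : x⁻¹ ≠ x := by
    intro h
    have h2' : x * x = 1 := by
      calc x * x = x⁻¹ * x := by rw [h]
        _ = 1 := inv_mul_cancel x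
    apply hx
    calc x = x ^ 3 * (x * x)⁻¹ := by group
      _ = 1 := by rw [hx3, h2']; simp
  have hxinv1 : x⁻¹ ≠ 1 := by
    intro h; exact hx (inv_eq_one.mp h)
  let s : Finset Q := {1, x, x⁻¹, y}
  have hs : s.card = 4 := by
    simp only [s]
    rw [Finset.card_insert_of_notMem, Finset.card_insert_of_notMem, Finset.card_insert_of_notMem,
      Finset.card_singleton]
    · simp only [Finset.mem_singleton]; exact fun h => h3 h.symm
    · simp only [Finset.mem_insert, Finset.mem_singleton, not_or]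
      exact ⟨fun h => hxinv h.symm, fun h => h2 h.symm⟩
    · simp only [Finset.mem_insert, Finset.mem_singleton, not_or]
      exact ⟨fun h => hx h.symm, fun h => hxinv1 h.symm, fun h => h1 h.symm⟩
  haveI := Fintype.ofFinite Q
  have : s.card ≤ Fintype.card Q := Finset.card_le_univ s
  rw [← Nat.card_eq_fintype_card, hQ, hs] at this
  omega

/-- `K = R ∪ cR ∪ c⁻¹R` when `R` is normal of index 3 in `K` and `c ∈ K ∖ R` -/
theorem coset3 (R K : Subgroup G) (hRK : R ≤ K) (hn : K ≤ Subgroup.normalizer (R : Set G))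
    (h3 : R.relIndex K = 3) {c : G} (hc : c ∈ K) (hcR : c ∉ R) :
    ∀ k ∈ K, k ∈ R ∨ c⁻¹ * k ∈ R ∨ c * k ∈ R := by
  intro k hk
  haveI hnorm : (R.subgroupOf K).Normal := by
    constructor
    intro n hn' g
    rw [Subgroup.mem_subgroupOf] at hn' ⊢
    have := (Subgroup.mem_normalizer_iff.mp (hn g.2) n).mp hn'
    simpa using this
  have hcard : Nat.card (↥K ⧸ R.subgroupOf K) = 3 := by
    rw [← Subgroup.index_eq_card]; exact h3
  let x : ↥K ⧸ R.subgroupOf K := QuotientGroup.mk ⟨c, hc⟩
  have hx : x ≠ 1 := by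
    intro h
    rw [QuotientGroup.eq_one_iff, Subgroup.mem_subgroupOf] at h
    exact hcR h
  rcases card3_enum hcard x hx (QuotientGroup.mk ⟨k, hk⟩) with h | h | h
  · left
    rw [QuotientGroup.eq_one_iff, Subgroup.mem_subgroupOf] at h
    exact h
  · right; left
    have h' : (QuotientGroup.mk (⟨c, hc⟩⁻¹ * ⟨k, hk⟩ : ↥K) : ↥K ⧸ R.subgroupOf K) = 1 := by
      rw [QuotientGroup.mk_mul, QuotientGroup.mk_inv, h]
      exact inv_mul_cancel x
    rw [QuotientGroup.eq_one_iff, Subgroup.mem_subgroupOf] at h'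
    simpa using h'
  · right; right
    have h' : (QuotientGroup.mk (⟨c, hc⟩ * ⟨k, hk⟩ : ↥K) : ↥K ⧸ R.subgroupOf K) = 1 := by
      rw [QuotientGroup.mk_mul, h]
      exact mul_inv_cancel x
    rw [QuotientGroup.eq_one_iff, Subgroup.mem_subgroupOf] at h'
    simpa using h'

/-- odd-order stability: if `g y g⁻¹ = y u` with `u` an involution (or 1) commuting with `g`, and `g` has odd
order, then `u = 1` -/
theorem odd_stab {g y u : G} (h : g * y * g⁻¹ = y * u) (hgu : g * u = u * g)
    (hu2 : u * u = 1) (hodd : Odd (orderOf g)) : u = 1 := by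
  have hcomm : ∀ k : ℕ, g * u ^ k = u ^ k * g := by
    intro k
    exact (Commute.pow_right (show Commute g u from hgu) k).eq
  have key : ∀ k : ℕ, g ^ k * y * (g ^ k)⁻¹ = y * u ^ k := by
    intro k
    induction k with
    | zero => simp
    | succ k ih =>
      have e1 : g ^ (k + 1) * y * (g ^ (k + 1))⁻¹ = g * (g ^ k * y * (g ^ k)⁻¹) * g⁻¹ := by
        rw [pow_succ']; group
      rw [e1, ih]
      have e2 : g * (y * u ^ k) * g⁻¹ = (g * y * g⁻¹) * (g * u ^ k * g⁻¹) := by group
      rw [e2, h, hcomm k]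
      have e3 : u ^ k * g * g⁻¹ = u ^ k := by group
      rw [e3, mul_assoc, ← pow_succ']
  have h1 := key (orderOf g)
  rw [pow_orderOf_eq_one] at h1
  have h2 : u ^ orderOf g = 1 := by
    have : y = y * u ^ orderOf g := by simpa using h1
    exact (mul_eq_left.mp this.symm)
  obtain ⟨m, hm⟩ := hodd
  rw [hm, pow_succ, pow_mul] at h2
  have h3 : u ^ 2 = 1 := by rw [pow_two]; exact hu2
  rw [h3, one_pow, one_mul] at h2
  exact h2

section conj

/-- conjugation by `g` as a `MulEquiv`, applied to a subgroup -/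
theorem map_conj_eq_of_mem_normalizer {K : Subgroup G} {g : G}
    (hg : g ∈ Subgroup.normalizer (K : Set G)) : K.map (MulAut.conj g).toMonoidHom = K := by
  ext x
  rw [Subgroup.mem_map_equiv]
  simp only [MulAut.conj_symm_apply]
  have := (Subgroup.mem_normalizer_iff.mp (Subgroup.inv_mem _ hg) x)
  constructor
  · intro h
    have h2 := this.mpr (by simpa using h)
    exact h2
  · intro h
    have h2 := this.mp h
    simpa using h2

theorem omegaOne_map (φ : G ≃* G) (H : Subgroup G) :
    Cfsg.omegaOne 2 (H.map φ.toMonoidHom) = (Cfsg.omegaOne 2 H).map φ.toMonoidHom := by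
  unfold Cfsg.omegaOne
  rw [MonoidHom.map_closure]
  congr 1
  ext x
  constructor
  · rintro ⟨⟨y, hy, rfl⟩, hx2⟩
    refine ⟨y, ⟨hy, ?_⟩, rfl⟩
    apply φ.injective
    simpa using hx2
  · rintro ⟨y, ⟨hy, hy2⟩, rfl⟩
    refine ⟨⟨y, hy, rfl⟩, ?_⟩
    show φ y ^ 2 = 1
    rw [← map_pow, hy2, map_one]

theorem centralizer_map (φ : G ≃* G) (H : Subgroup G) :
    Subgroup.centralizer ((H.map φ.toMonoidHom : Subgroup G) : Set G) =
      (Subgroup.centralizer (H : Set G)).map φ.toMonoidHom := by
  ext x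
  rw [Subgroup.mem_map_equiv, Subgroup.mem_centralizer_iff, Subgroup.mem_centralizer_iff]
  constructor
  · intro h y hy
    have := h (φ y) ⟨y, hy, rfl⟩
    apply φ.injective
    simpa using this
  · rintro h _ ⟨y, hy, rfl⟩
    have := h y hy
    have h2 := congrArg φ this
    simpa using h2

theorem omegaCenterOf_map (φ : G ≃* G) (X : Subgroup G) :
    Cfsg.omegaCenterOf (X.map φ.toMonoidHom) = (Cfsg.omegaCenterOf X).map φ.toMonoidHom := by
  unfold Cfsg.omegaCenterOf
  rw [centralizer_map, ← omegaOne_map]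
  congr 1
  exact (Subgroup.map_inf _ _ _ φ.injective).symm

theorem wOf_map (φ : G ≃* G) (K : Subgroup G) :
    Cfsg.wOf (K.map φ.toMonoidHom) = (Cfsg.wOf K).map φ.toMonoidHom := by
  unfold Cfsg.wOf
  rw [Cfsg.Agent.Lead.LLem.pCoreOf_map φ.toMonoidHom φ.injective, omegaCenterOf_map,
    Subgroup.map_commutator]

theorem wOf_conj {K : Subgroup G} {g : G} (hg : g ∈ Subgroup.normalizer (K : Set G)) :
    (Cfsg.wOf K).map (MulAut.conj g).toMonoidHom = Cfsg.wOf K := by
  have := wOf_map (MulAut.conj g) K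
  rw [map_conj_eq_of_mem_normalizer hg] at this
  exact this.symm

theorem pCoreOf_conj {K : Subgroup G} {g : G} (hg : g ∈ Subgroup.normalizer (K : Set G)) :
    (Cfsg.pCoreOf 2 K).map (MulAut.conj g).toMonoidHom = Cfsg.pCoreOf 2 K := by
  have := Cfsg.Agent.Lead.LLem.pCoreOf_map (p := 2) (MulAut.conj g).toMonoidHom (MulAut.conj g).injective K
  rw [map_conj_eq_of_mem_normalizer hg] at this
  exact this.symm

theorem omegaCenterOf_conj {X : Subgroup G} {g : G} (hg : g ∈ Subgroup.normalizer (X : Set G)) :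
    (Cfsg.omegaCenterOf X).map (MulAut.conj g).toMonoidHom = Cfsg.omegaCenterOf X := by
  have := omegaCenterOf_map (MulAut.conj g) X
  rw [map_conj_eq_of_mem_normalizer hg] at this
  exact this.symm

/-- membership in a conjugate -/
theorem conj_mem_of_map_eq {H : Subgroup G} {g : G}
    (h : H.map (MulAut.conj g).toMonoidHom = H) {x : G} (hx : x ∈ H) : g * x * g⁻¹ ∈ H := by
  rw [← h]
  exact ⟨x, hx, rfl⟩

end conj

end Cfsg.Agent.Lead.JComp
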