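import Mathlib
import Cfsg.Prelude.Def_JComponents
import Cfsg.Agent.Lead.JCompA
import Cfsg.Agent.Lead.KInfD
import Cfsg.Agent.Helper2.CommNorm
import Cfsg.Agent.Helper5.PGroupCenter

/-!
Lead: local structure of `X = ⟨K, J⟩` for a `J(T)`-component `K` (`J = J(T)`), part 1:
`K ⊴ X`, `R = O₂(K)`, `W = W_K`, `K ∖ R` acts fixed-point-freely on `W`, `Q = C_X(W)` is a normal
2-subgroup of `X`.
-/

set_option autoImplicit false

namespace Cfsg.Agent.Lead.JComp

open Cfsg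
open scoped commutatorElement

variable {G : Type*} [Group G]

/-- the part of `IsJComponent T K` not involving Sylow subgroups, with `J = J(T)` a 2-group -/
structure Ctx (K J : Subgroup G) : Prop where
  hJ2 : IsPGroup 2 J
  hgen : Subgroup.closure {g : G | g ∈ K ∧ Odd (orderOf g)} = K
  hKJ : ⁅K, J⁆ = K
  h3 : (Cfsg.pCoreOf 2 K).relIndex K = 3
  hW4 : Nat.card (Cfsg.wOf K) = 4
  hWsq : ∀ w ∈ Cfsg.wOf K, w * w = 1

namespace Ctx

variable {K J : Subgroup G}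

theorem J_le_norm (h : Ctx K J) : J ≤ Subgroup.normalizer (K : Set G) := by
  have := Cfsg.Agent.Helper2.le_normalizer_commutator_right K J
  rwa [h.hKJ] at this

theorem X_le_norm (h : Ctx K J) : K ⊔ J ≤ Subgroup.normalizer (K : Set G) :=
  sup_le Subgroup.le_normalizer h.J_le_norm

theorem R_le (_h : Ctx K J) : Cfsg.pCoreOf 2 K ≤ K := Cfsg.Agent.Lead.LLem.pCoreOf_le K

theorem R_pgroup (_h : Ctx K J) : IsPGroup 2 (Cfsg.pCoreOf 2 K) :=
  Cfsg.Agent.Lead.LLem.isPGroup_pCoreOf K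

/-- conjugation by `x ∈ X` preserves `K` -/
theorem conj_K (h : Ctx K J) {x : G} (hx : x ∈ K ⊔ J) {k : G} (hk : k ∈ K) : x * k * x⁻¹ ∈ K :=
  conj_mem_of_map_eq (map_conj_eq_of_mem_normalizer (h.X_le_norm hx)) hk

theorem conj_R (h : Ctx K J) {x : G} (hx : x ∈ K ⊔ J) {k : G} (hk : k ∈ Cfsg.pCoreOf 2 K) :
    x * k * x⁻¹ ∈ Cfsg.pCoreOf 2 K :=
  conj_mem_of_map_eq (pCoreOf_conj (h.X_le_norm hx)) hk

theorem conj_W (h : Ctx K J) {x : G} (hx : x ∈ K ⊔ J) {k : G} (hk : k ∈ Cfsg.wOf K) :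
    x * k * x⁻¹ ∈ Cfsg.wOf K :=
  conj_mem_of_map_eq (wOf_conj (h.X_le_norm hx)) hk

theorem VK_le (_h : Ctx K J) : Cfsg.omegaCenterOf (Cfsg.pCoreOf 2 K) ≤
    Cfsg.pCoreOf 2 K ⊓ Subgroup.centralizer (Cfsg.pCoreOf 2 K : Set G) := by
  unfold Cfsg.omegaCenterOf Cfsg.omegaOne
  rw [Subgroup.closure_le]
  rintro x ⟨hx, -⟩
  exact hx

theorem conj_VK (h : Ctx K J) {x : G} (hx : x ∈ K) {v : G}
    (hv : v ∈ Cfsg.omegaCenterOf (Cfsg.pCoreOf 2 K)) :
    x * v * x⁻¹ ∈ Cfsg.omegaCenterOf (Cfsg.pCoreOf 2 K) := by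
  have hxn : x ∈ Subgroup.normalizer ((Cfsg.pCoreOf 2 K : Subgroup G) : Set G) :=
    Cfsg.Agent.Lead.KInf.pCoreOf_le_normalizer 2 K hx
  exact conj_mem_of_map_eq (omegaCenterOf_conj hxn) hv

theorem W_le_VK (h : Ctx K J) : Cfsg.wOf K ≤ Cfsg.omegaCenterOf (Cfsg.pCoreOf 2 K) := by
  unfold Cfsg.wOf
  rw [Subgroup.commutator_le]
  intro v hv k hk
  have h1 : ⁅v, k⁆ = v * (k * v⁻¹ * k⁻¹) := by
    simp only [commutatorElement_def]; group
  rw [h1]
  exact Subgroup.mul_mem _ hv (h.conj_VK hk (Subgroup.inv_mem _ hv))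

theorem W_le_R (h : Ctx K J) : Cfsg.wOf K ≤ Cfsg.pCoreOf 2 K :=
  h.W_le_VK.trans (h.VK_le.trans inf_le_left)

/-- `R` centralizes `V_K`, in particular `W` -/
theorem R_comm_VK (h : Ctx K J) {r v : G} (hr : r ∈ Cfsg.pCoreOf 2 K)
    (hv : v ∈ Cfsg.omegaCenterOf (Cfsg.pCoreOf 2 K)) : r * v = v * r := by
  have := (Subgroup.mem_inf.mp (h.VK_le hv)).2
  rw [Subgroup.mem_centralizer_iff] at this
  exact this r hr

theorem VK_comm (h : Ctx K J) {u v : G} (hu : u ∈ Cfsg.omegaCenterOf (Cfsg.pCoreOf 2 K))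
    (hv : v ∈ Cfsg.omegaCenterOf (Cfsg.pCoreOf 2 K)) : u * v = v * u :=
  h.R_comm_VK (h.VK_le hu).1 hv

theorem W_comm (h : Ctx K J) {u v : G} (hu : u ∈ Cfsg.wOf K) (hv : v ∈ Cfsg.wOf K) :
    u * v = v * u := h.VK_comm (h.W_le_VK hu) (h.W_le_VK hv)

theorem W_inv (h : Ctx K J) {u : G} (hu : u ∈ Cfsg.wOf K) : u⁻¹ = u :=
  inv_eq_of_mul_eq_one_left (h.hWsq u hu)

theorem R_ne_K (h : Ctx K J) : ¬ K ≤ Cfsg.pCoreOf 2 K := by
  intro hle
  have : (Cfsg.pCoreOf 2 K).relIndex K = 1 := Subgroup.relIndex_eq_one.mpr hle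
  rw [h.h3] at this
  norm_num at this

theorem W_ne_bot (h : Ctx K J) : Cfsg.wOf K ≠ ⊥ := by
  intro hb
  have := h.hW4
  rw [hb] at this
  simp at this

/-- every `k ∈ K` is in `R ∪ cR ∪ c⁻¹R` -/
theorem cosets (h : Ctx K J) {c : G} (hc : c ∈ K) (hcR : c ∉ Cfsg.pCoreOf 2 K) :
    ∀ k ∈ K, k ∈ Cfsg.pCoreOf 2 K ∨ c⁻¹ * k ∈ Cfsg.pCoreOf 2 K ∨ c * k ∈ Cfsg.pCoreOf 2 K :=
  coset3 _ K h.R_le (Cfsg.Agent.Lead.KInf.pCoreOf_le_normalizer 2 K) h.h3 hc hcR

/-- if an odd-order `g ∈ K` acts on the abelian group `A ≤ V_K` with all commutators `g a g⁻¹ a⁻¹` in a set of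
involutions centralized by `g`, then `g` centralizes `A` -/
theorem odd_centralizes (_h : Ctx K J) {g y : G} (hodd : Odd (orderOf g))
    (hu2 : (y⁻¹ * (g * y * g⁻¹)) * (y⁻¹ * (g * y * g⁻¹)) = 1)
    (hgu : g * (y⁻¹ * (g * y * g⁻¹)) = (y⁻¹ * (g * y * g⁻¹)) * g) : g * y * g⁻¹ = y := by
  have h1 : g * y * g⁻¹ = y * (y⁻¹ * (g * y * g⁻¹)) := by group
  have := odd_stab h1 hgu hu2 hodd
  rw [this, mul_one] at h1
  exact h1

/-- elements of `K ∖ R` act fixed-point-freely on `W` -/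
theorem fixedfree (h : Ctx K J) {c w : G} (hc : c ∈ K) (hcR : c ∉ Cfsg.pCoreOf 2 K)
    (hw : w ∈ Cfsg.wOf K) (hcw : c * w * c⁻¹ = w) : w = 1 := by
  by_contra hw1
  -- every `k ∈ K` commutes with `w`
  have hcw' : c * w = w * c := by
    have := congrArg (· * c) hcw
    simpa using this
  have hKw : ∀ k ∈ K, k * w = w * k := by
    intro k hk
    rcases h.cosets hc hcR k hk with hr | hr | hr
    · exact h.R_comm_VK hr (h.W_le_VK hw)
    · have e := h.R_comm_VK hr (h.W_le_VK hw)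
      have hk' : k = c * (c⁻¹ * k) := by group
      rw [hk', mul_assoc, e, ← mul_assoc, hcw', mul_assoc]
    · have e := h.R_comm_VK hr (h.W_le_VK hw)
      have hcinv : c⁻¹ * w = w * c⁻¹ := by
        have : c⁻¹ * (c * w) * c⁻¹ = c⁻¹ * (w * c) * c⁻¹ := by rw [hcw']
        have e1 : c⁻¹ * (c * w) * c⁻¹ = w * c⁻¹ := by group
        have e2 : c⁻¹ * (w * c) * c⁻¹ = c⁻¹ * w := by group
        rw [e1, e2] at this
        exact this.symm
      have hk' : k = c⁻¹ * (c * k) := by group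
      rw [hk', mul_assoc, e, ← mul_assoc, hcinv, mul_assoc]
  -- every odd-order `g ∈ K` centralizes `W`
  have hoddW : ∀ g ∈ K, Odd (orderOf g) → ∀ y ∈ Cfsg.wOf K, g * y * g⁻¹ = y := by
    intro g hg hodd y hy
    have hgy : g * y * g⁻¹ ∈ Cfsg.wOf K := h.conj_W (le_sup_left (a := K) hg) hy
    have hu : y⁻¹ * (g * y * g⁻¹) ∈ Cfsg.wOf K := Subgroup.mul_mem _ (Subgroup.inv_mem _ hy) hgy
    -- `u = y⁻¹ g y g⁻¹ ∈ {1, w}`
    have hu1w : y⁻¹ * (g * y * g⁻¹) = 1 ∨ y⁻¹ * (g * y * g⁻¹) = w := by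
      by_cases hyw : y = 1 ∨ y = w
      · left
        rcases hyw with rfl | rfl
        · simp
        · have := hKw g hg
          rw [this]; group
      · push_neg at hyw
        obtain ⟨hy1, hyw⟩ := hyw
        have henum := four_enum _ h.hW4 h.hWsq hw hy hw1 hy1 (Ne.symm hyw)
        rcases henum _ hgy with e | e | e | e
        · exfalso
          apply hy1
          have : y = g⁻¹ * (g * y * g⁻¹) * g := by group
          rw [this, e]; group
        · exfalso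
          apply hyw
          have : y = g⁻¹ * (g * y * g⁻¹) * g := by group
          rw [this, e]
          have := hKw g⁻¹ (K.inv_mem hg)
          rw [this]; group
        · left; rw [e]; group
        · right; rw [e, h.W_comm hw hy]; group
    apply h.odd_centralizes hodd
    · exact h.hWsq _ hu
    · rcases hu1w with e | e
      · rw [e]; simp
      · rw [e]; exact hKw g hg
  -- every odd-order `g ∈ K` centralizes `V_K`
  have hoddV : ∀ g ∈ K, Odd (orderOf g) → ∀ y ∈ Cfsg.omegaCenterOf (Cfsg.pCoreOf 2 K),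
      g * y * g⁻¹ = y := by
    intro g hg hodd y hy
    have hu : y⁻¹ * (g * y * g⁻¹) ∈ Cfsg.wOf K := by
      have : y⁻¹ * (g * y * g⁻¹) = ⁅y⁻¹, g⁆ := by
        simp only [commutatorElement_def]; group
      rw [this]
      exact Subgroup.commutator_mem_commutator (Subgroup.inv_mem _ hy) hg
    apply h.odd_centralizes hodd
    · exact h.hWsq _ hu
    · have := hoddW g hg hodd _ hu
      have e := congrArg (· * g) this
      simpa using e
  -- hence `K` centralizes `V_K` and `W = 1`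
  have hKV : K ≤ Subgroup.centralizer ((Cfsg.omegaCenterOf (Cfsg.pCoreOf 2 K) : Subgroup G) : Set G) := by
    conv_lhs => rw [← h.hgen]
    rw [Subgroup.closure_le]
    rintro g ⟨hg, hodd⟩
    rw [SetLike.mem_coe, Subgroup.mem_centralizer_iff]
    intro y hy
    have := hoddV g hg hodd y hy
    have e := congrArg (· * g) this
    simp only [inv_mul_cancel_right] at e
    exact e.symm
  apply h.W_ne_bot
  unfold Cfsg.wOf
  rw [Subgroup.commutator_eq_bot_iff_le_centralizer]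
  intro v hv
  rw [Subgroup.mem_centralizer_iff]
  intro k hk
  have := hKV hk
  rw [Subgroup.mem_centralizer_iff] at this
  exact (this v hv).symm

end Ctx

end Cfsg.Agent.Lead.JComp
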