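import Mathlib
import Cfsg.Prelude.Def_JComponents
import Cfsg.Agent.Lead.JCompB

/-!
Lead: local structure of `X = ⟨K, J⟩` for a `J(T)`-component `K`, part 2: `Q = C_X(W)` is a normal 2-subgroup
of `X` containing `R`, contained in every Sylow 2-subgroup `S` of `X`, and `|S : Q| ≤ 2`.
-/

set_option autoImplicit false

namespace Cfsg.Agent.Lead.JComp

open Cfsg
open scoped commutatorElement

variable {G : Type*} [Group G]

/-- `Q = C_X(W_K)`, `X = ⟨K, J⟩` -/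
def Qx (K J : Subgroup G) : Subgroup G := (K ⊔ J) ⊓ Subgroup.centralizer (Cfsg.wOf K : Set G)

namespace Ctx

variable {K J : Subgroup G}

theorem mem_Qx {x : G} : x ∈ Qx K J ↔ x ∈ K ⊔ J ∧ ∀ w ∈ Cfsg.wOf K, w * x = x * w := by
  unfold Qx
  rw [Subgroup.mem_inf, Subgroup.mem_centralizer_iff]
  rfl

theorem Qx_le (K J : Subgroup G) : Qx K J ≤ K ⊔ J := inf_le_left

theorem R_le_Q (h : Ctx K J) : Cfsg.pCoreOf 2 K ≤ Qx K J := by
  intro r hr
  rw [mem_Qx]
  refine ⟨le_sup_left (a := K) (h.R_le hr), ?_⟩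
  intro w hw
  exact (h.R_comm_VK hr (h.W_le_VK hw)).symm

theorem notin_Q (h : Ctx K J) {c : G} (hc : c ∈ K) (hcR : c ∉ Cfsg.pCoreOf 2 K) : c ∉ Qx K J := by
  intro hcQ
  rw [mem_Qx] at hcQ
  apply h.W_ne_bot
  rw [Subgroup.eq_bot_iff_forall]
  intro w hw
  apply h.fixedfree hc hcR hw
  rw [← hcQ.2 w hw]; group

theorem K_inf_Q (h : Ctx K J) {c : G} (hc : c ∈ K) (hcQ : c ∈ Qx K J) : c ∈ Cfsg.pCoreOf 2 K := by
  by_contra hcR
  exact h.notin_Q hc hcR hcQ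

theorem Q_conj (h : Ctx K J) {x q : G} (hx : x ∈ K ⊔ J) (hq : q ∈ Qx K J) :
    x * q * x⁻¹ ∈ Qx K J := by
  rw [mem_Qx] at hq ⊢
  refine ⟨Subgroup.mul_mem _ (Subgroup.mul_mem _ hx hq.1) (Subgroup.inv_mem _ hx), ?_⟩
  intro w hw
  have hw' : x⁻¹ * w * x⁻¹⁻¹ ∈ Cfsg.wOf K := h.conj_W (Subgroup.inv_mem _ hx) hw
  have e := hq.2 _ hw'
  have e2 : w * (x * q * x⁻¹) = x * ((x⁻¹ * w * x⁻¹⁻¹) * q) * x⁻¹ := by group
  rw [e2, e]; group

theorem X_le_normQ (h : Ctx K J) : K ⊔ J ≤ Subgroup.normalizer ((Qx K J : Subgroup G) : Set G) := by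
  intro x hx
  rw [Subgroup.mem_normalizer_iff]
  intro n
  constructor
  · intro hn; exact h.Q_conj hx hn
  · intro hn
    have := h.Q_conj (Subgroup.inv_mem _ hx) hn
    have e : x⁻¹ * (x * n * x⁻¹) * x⁻¹⁻¹ = n := by group
    rwa [e] at this

theorem X_le_normW (h : Ctx K J) :
    K ⊔ J ≤ Subgroup.normalizer ((Cfsg.wOf K : Subgroup G) : Set G) := by
  intro x hx
  rw [Subgroup.mem_normalizer_iff]
  intro n
  constructor
  · intro hn; exact h.conj_W hx hn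
  · intro hn
    have := h.conj_W (Subgroup.inv_mem _ hx) hn
    have e : x⁻¹ * (x * n * x⁻¹) * x⁻¹⁻¹ = n := by group
    rwa [e] at this

variable [Finite G]

/-- `Q = C_X(W)` is a 2-group -/
theorem Q_pgroup (h : Ctx K J) : IsPGroup 2 (Qx K J) := by
  haveI : Fact (Nat.Prime 2) := ⟨Nat.prime_two⟩
  rintro ⟨g, hg⟩
  have hn0 : orderOf g ≠ 0 := (orderOf_pos g).ne'
  obtain ⟨k, m, hm, hkm⟩ := Nat.exists_eq_two_pow_mul_odd hn0
  refine ⟨k, ?_⟩
  apply Subtype.ext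
  show g ^ 2 ^ k = 1
  set t := g ^ 2 ^ k with ht
  have htm : t ^ m = 1 := by
    rw [ht, ← pow_mul, ← hkm]; exact pow_orderOf_eq_one g
  have hodd : Odd (orderOf t) := Odd.of_dvd_nat hm (orderOf_dvd_of_pow_eq_one htm)
  have htQ : t ∈ Qx K J := Subgroup.pow_mem _ hg _
  have htK : t ∈ K := by
    apply Cfsg.Agent.Helper2.mem_of_coprime_orderOf_of_mem_sup (p := 2) h.hJ2 h.J_le_norm
      (Qx_le K J htQ)
    exact Nat.Coprime.symm (Nat.coprime_two_left.mpr hodd)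
  have htR : t ∈ Cfsg.pCoreOf 2 K := h.K_inf_Q htK htQ
  obtain ⟨j, hj⟩ := h.R_pgroup ⟨t, htR⟩
  have hj' : t ^ 2 ^ j = 1 := by
    have := congrArg Subtype.val hj
    simpa using this
  have hdvd : orderOf t ∣ 2 ^ j := orderOf_dvd_of_pow_eq_one hj'
  have h1 : orderOf t = 1 := by
    have hcop : Nat.Coprime (orderOf t) (2 ^ j) :=
      Nat.Coprime.pow_right _ (Nat.Coprime.symm (Nat.coprime_two_left.mpr hodd))
    exact hcop.eq_one_of_dvd hdvd
  exact orderOf_eq_one_iff.mp h1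

/-- `Q` lies in every Sylow 2-subgroup of `X` -/
theorem Q_le_S (h : Ctx K J) {S : Subgroup G} (hS : Cfsg.IsSylowTwoIn S (K ⊔ J)) : Qx K J ≤ S := by
  haveI : Fact (Nat.Prime 2) := ⟨Nat.prime_two⟩
  have h1 : Qx K J ≤ Cfsg.pCoreOf 2 (K ⊔ J) :=
    Cfsg.Agent.Lead.LLem.le_pCoreOf (Qx_le K J) h.Q_pgroup h.X_le_normQ
  have h2 : Cfsg.pCoreOf 2 (K ⊔ J) ≤ S := by
    apply Cfsg.Agent.Lead.KInf.pCoreOf_le_of_sylow hS.1 hS.2.1
    intro hdvd
    exact (Nat.not_even_iff_odd.mpr hS.2.2) (even_iff_two_dvd.mpr hdvd)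
  exact h1.trans h2

/-- `|S : Q| ≤ 2`: the product of two elements of `S ∖ Q` lies in `Q` -/
theorem mul_mem_Q (h : Ctx K J) {S : Subgroup G} (hS : Cfsg.IsSylowTwoIn S (K ⊔ J)) {a b : G}
    (ha : a ∈ S) (hb : b ∈ S) (haQ : a ∉ Qx K J) (hbQ : b ∉ Qx K J) : a * b ∈ Qx K J := by
  haveI : Fact (Nat.Prime 2) := ⟨Nat.prime_two⟩
  have hWS : Cfsg.wOf K ≤ S := (h.W_le_R.trans h.R_le_Q).trans (h.Q_le_S hS)
  have hSW : S ≤ Subgroup.normalizer ((Cfsg.wOf K : Subgroup G) : Set G) := hS.1.trans h.X_le_normW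
  obtain ⟨u, huW, huo, huc⟩ :=
    Cfsg.Agent.Helper5.exists_orderOf_eq_prime_central S (Cfsg.wOf K) hS.2.1 hWS h.W_ne_bot hSW
  have hu1 : u ≠ 1 := by
    intro h1; rw [h1, orderOf_one] at huo; norm_num at huo
  have huu : u * u = 1 := h.hWsq u huW
  -- a witness `v` not commuting with `a`
  have haX : a ∈ K ⊔ J := hS.1 ha
  have hbX : b ∈ K ⊔ J := hS.1 hb
  have : ∃ v ∈ Cfsg.wOf K, v * a ≠ a * v := by
    by_contra hcon
    push_neg at hcon
    exact haQ (mem_Qx.mpr ⟨haX, hcon⟩)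
  obtain ⟨v, hvW, hva⟩ := this
  have hv1 : v ≠ 1 := by
    intro h1; apply hva; rw [h1]; simp
  have hvu : v ≠ u := by
    intro h1; apply hva; rw [h1]; exact (huc a ha).symm
  have henum := four_enum _ h.hW4 h.hWsq huW hvW hu1 hv1 (Ne.symm hvu)
  -- every `s ∈ S ∖ Q` sends `v` to `u v`
  have key : ∀ s ∈ S, s ∉ Qx K J → s * v * s⁻¹ = u * v := by
    intro s hs hsQ
    have hsX : s ∈ K ⊔ J := hS.1 hs
    have hsv : s * v * s⁻¹ ∈ Cfsg.wOf K := h.conj_W hsX hvW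
    rcases henum _ hsv with e | e | e | e
    · exfalso; apply hv1
      have : v = s⁻¹ * (s * v * s⁻¹) * s := by group
      rw [this, e]; group
    · exfalso; apply hvu
      have : v = s⁻¹ * (s * v * s⁻¹) * s := by group
      rw [this, e]
      have hc := huc s⁻¹ (S.inv_mem hs)
      rw [hc]; group
    · exfalso; apply hsQ
      rw [mem_Qx]
      refine ⟨hsX, ?_⟩
      have hsv' : v * s = s * v := by
        have := congrArg (· * s) e
        simpa using this.symm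
      intro w hw
      rcases henum w hw with rfl | rfl | rfl | rfl
      · simp
      · exact (huc s hs).symm
      · exact hsv'
      · rw [mul_assoc, hsv', ← mul_assoc, ← huc s hs, mul_assoc]
    · exact e
  have hab : (a * b) * v * (a * b)⁻¹ = v := by
    have e1 : (a * b) * v * (a * b)⁻¹ = a * (b * v * b⁻¹) * a⁻¹ := by group
    rw [e1, key b hb hbQ]
    have e2 : a * (u * v) * a⁻¹ = (a * u * a⁻¹) * (a * v * a⁻¹) := by group
    rw [e2, key a ha haQ, huc a ha]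
    have e3 : u * a * a⁻¹ * (u * v) = (u * u) * v := by group
    rw [e3, huu, one_mul]
  have habv : v * (a * b) = (a * b) * v := by
    have e4 : (a * b) * v * (a * b)⁻¹ * (a * b) = (a * b) * v := by group
    rw [hab] at e4
    exact e4
  have habu : u * (a * b) = (a * b) * u := (huc (a * b) (S.mul_mem ha hb)).symm
  rw [mem_Qx]
  refine ⟨Subgroup.mul_mem _ haX hbX, ?_⟩
  intro w hw
  rcases henum w hw with rfl | rfl | rfl | rfl
  · simp
  · exact habu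
  · exact habv
  · rw [mul_assoc, habv, ← mul_assoc, habu, mul_assoc]

end Ctx

end Cfsg.Agent.Lead.JComp
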