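import Mathlib
import Cfsg.Prelude.Def_JComponents
import Cfsg.Agent.Lead.JCompC

/-!
Lead: elementary abelian subgroups of maximal order as subgroups of the ambient group (`IsMaxEA`), and the
Thompson subgroup `thompsonSubgroupOf 2 S` in these terms.
-/

set_option autoImplicit false

namespace Cfsg.Agent.Lead.JComp

open Cfsg

universe u

variable {G : Type u} [Group G]

/-- `A ≤ S` is elementary abelian of the largest possible order among such subgroups of `S` -/
def IsMaxEA (S A : Subgroup G) : Prop :=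
  A ≤ S ∧ Cfsg.IsElementaryAbelian 2 A ∧
    ∀ B : Subgroup G, B ≤ S → Cfsg.IsElementaryAbelian 2 B → Nat.card B ≤ Nat.card A

theorem ea_comm {A : Subgroup G} (hA : Cfsg.IsElementaryAbelian 2 A) {x y : G} (hx : x ∈ A)
    (hy : y ∈ A) : x * y = y * x := by
  have := hA.1.is_comm.comm ⟨x, hx⟩ ⟨y, hy⟩
  exact congrArg Subtype.val this

theorem ea_sq {A : Subgroup G} (hA : Cfsg.IsElementaryAbelian 2 A) {x : G} (hx : x ∈ A) :
    x * x = 1 := by
  have := hA.2 x hx
  rwa [pow_two] at this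

theorem ea_inv {A : Subgroup G} (hA : Cfsg.IsElementaryAbelian 2 A) {x : G} (hx : x ∈ A) :
    x⁻¹ = x := inv_eq_of_mul_eq_one_left (ea_sq hA hx)

theorem ea_of_le {A B : Subgroup G} (hA : Cfsg.IsElementaryAbelian 2 A) (hBA : B ≤ A) :
    Cfsg.IsElementaryAbelian 2 B := by
  refine ⟨⟨⟨?_⟩⟩, fun b hb => hA.2 b (hBA hb)⟩
  rintro ⟨x, hx⟩ ⟨y, hy⟩
  apply Subtype.ext
  exact ea_comm hA (hBA hx) (hBA hy)

/-- the join of two commuting elementary abelian subgroups is elementary abelian -/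
theorem ea_sup {E F : Subgroup G} (hE : Cfsg.IsElementaryAbelian 2 E)
    (hF : Cfsg.IsElementaryAbelian 2 F) (hEF : ∀ e ∈ E, ∀ f ∈ F, e * f = f * e) :
    Cfsg.IsElementaryAbelian 2 (E ⊔ F) := by
  have hFn : F ≤ Subgroup.normalizer (E : Set G) := by
    intro f hf
    rw [Subgroup.mem_normalizer_iff]
    intro n
    constructor
    · intro hn
      have : f * n * f⁻¹ = n := by rw [← hEF n hn f hf]; group
      rw [this]; exact hn
    · intro hn
      have e1 := hEF _ hn f hf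
      have : n = f * n * f⁻¹ := by
        have e2 : f * n * f⁻¹ * f = f * n := by group
        rw [e2] at e1
        exact mul_left_cancel e1
      rw [this]; exact hn
  have hdec : ∀ x ∈ E ⊔ F, ∃ e ∈ E, ∃ f ∈ F, x = e * f :=
    fun x hx => Cfsg.Agent.Helper1.mem_sup_of_le_normalizer hFn hx
  refine ⟨⟨⟨?_⟩⟩, ?_⟩
  · rintro ⟨x, hx⟩ ⟨y, hy⟩
    apply Subtype.ext
    show x * y = y * x
    obtain ⟨e, he, f, hf, rfl⟩ := hdec x hx
    obtain ⟨e', he', f', hf', rfl⟩ := hdec y hy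
    have c1 := ea_comm hE he he'
    have c2 := ea_comm hF hf hf'
    have c3 := hEF e he f' hf'
    have c4 := hEF e' he' f hf
    calc e * f * (e' * f') = e * (f * e') * f' := by group
      _ = e * (e' * f) * f' := by rw [c4]
      _ = (e * e') * (f * f') := by group
      _ = (e' * e) * (f' * f) := by rw [c1, c2]
      _ = e' * (e * f') * f := by group
      _ = e' * (f' * e) * f := by rw [c3]
      _ = e' * f' * (e * f) := by group
  · intro x hx
    obtain ⟨e, he, f, hf, rfl⟩ := hdec x hx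
    have c := hEF e he f hf
    rw [pow_two]
    calc e * f * (e * f) = e * (f * e) * f := by group
      _ = e * (e * f) * f := by rw [c]
      _ = (e * e) * (f * f) := by group
      _ = 1 := by rw [ea_sq hE he, ea_sq hF hf, one_mul]

theorem ea_zpowers {z : G} (hz : z * z = 1) : Cfsg.IsElementaryAbelian 2 (Subgroup.zpowers z) := by
  refine ⟨⟨⟨?_⟩⟩, ?_⟩
  · rintro ⟨x, hx⟩ ⟨y, hy⟩
    apply Subtype.ext
    obtain ⟨i, rfl⟩ := Subgroup.mem_zpowers_iff.mp hx
    obtain ⟨j, rfl⟩ := Subgroup.mem_zpowers_iff.mp hy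
    show z ^ i * z ^ j = z ^ j * z ^ i
    rw [← zpow_add, ← zpow_add, add_comm]
  · intro x hx
    obtain ⟨i, rfl⟩ := Subgroup.mem_zpowers_iff.mp hx
    rw [← zpow_natCast, ← zpow_mul, mul_comm, zpow_mul]
    have : z ^ ((2 : ℕ) : ℤ) = 1 := by
      rw [zpow_natCast, pow_two]; exact hz
    rw [this, one_zpow]

theorem ea_map_conj {A : Subgroup G} (hA : Cfsg.IsElementaryAbelian 2 A) (g : G) :
    Cfsg.IsElementaryAbelian 2 (A.map (MulAut.conj g).toMonoidHom) :=
  Cfsg.Agent.Lead.isElementaryAbelian_map_of_injective 2 _ A hA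

section thompson

variable (S : Subgroup G)

theorem isMaxEA_map {A' : Subgroup ↥S} (hA' : A' ∈ Cfsg.maxElementaryAbelianSubgroups 2 ↥S) :
    IsMaxEA S (A'.map S.subtype) := by
  refine ⟨Subgroup.map_subtype_le _, Cfsg.Agent.Lead.isElementaryAbelian_map_of_injective 2 _ A' hA'.1, ?_⟩
  intro B hBS hB
  have h1 := hA'.2 (B.subgroupOf S) (Cfsg.Agent.Lead.isElementaryAbelian_subgroupOf 2 B S hB)
  rw [Cfsg.Agent.Lead.card_subgroupOf_of_le hBS] at h1
  rwa [Subgroup.card_map_of_injective S.subtype_injective]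

theorem subgroupOf_mem_maxEA {A : Subgroup G} (hA : IsMaxEA S A) :
    A.subgroupOf S ∈ Cfsg.maxElementaryAbelianSubgroups 2 ↥S := by
  refine ⟨Cfsg.Agent.Lead.isElementaryAbelian_subgroupOf 2 A S hA.2.1, ?_⟩
  intro C hC
  have h1 := hA.2.2 (C.map S.subtype) (Subgroup.map_subtype_le _)
    (Cfsg.Agent.Lead.isElementaryAbelian_map_of_injective 2 _ C hC)
  rw [Subgroup.card_map_of_injective S.subtype_injective] at h1
  rwa [Cfsg.Agent.Lead.card_subgroupOf_of_le hA.1]

theorem IsMaxEA.le_thompson {S A : Subgroup G} (hA : IsMaxEA S A) :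
    A ≤ Cfsg.thompsonSubgroupOf 2 S := by
  have h1 := Cfsg.Agent.Lead.map_le_thompsonSubgroupOf 2 S _ (subgroupOf_mem_maxEA S hA)
  rwa [Subgroup.map_subgroupOf_eq_of_le hA.1] at h1

theorem thompson_le_of_forall {H : Subgroup G} (hH : ∀ A, IsMaxEA S A → A ≤ H) :
    Cfsg.thompsonSubgroupOf 2 S ≤ H := by
  unfold Cfsg.thompsonSubgroupOf Cfsg.thompsonSubgroup
  rw [Subgroup.map_le_iff_le_comap, sSup_le_iff]
  intro A' hA'
  rw [← Subgroup.map_le_iff_le_comap]
  exact hH _ (isMaxEA_map S hA')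

/-- an involution of `S` centralizing a member of `𝒜(S)` lies in it -/
theorem IsMaxEA.mem_of_centralizes [Finite G] {S E : Subgroup G} (hE : IsMaxEA S E) {z : G}
    (hzS : z ∈ S) (hz2 : z * z = 1) (hzE : ∀ e ∈ E, e * z = z * e) : z ∈ E := by
  have hE' : Cfsg.IsElementaryAbelian 2 (E ⊔ Subgroup.zpowers z) := by
    apply ea_sup hE.2.1 (ea_zpowers hz2)
    intro e he f hf
    obtain ⟨i, rfl⟩ := Subgroup.mem_zpowers_iff.mp hf
    exact (Commute.zpow_right (show Commute e z from hzE e he) i).eq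
  have hle : E ⊔ Subgroup.zpowers z ≤ S :=
    sup_le hE.1 (by rw [Subgroup.zpowers_le]; exact hzS)
  have hcard := hE.2.2 _ hle hE'
  have := Subgroup.eq_of_le_of_card_ge (le_sup_left : E ≤ E ⊔ Subgroup.zpowers z) hcard
  rw [this]
  exact le_sup_right (a := E) (Subgroup.mem_zpowers z)

theorem IsMaxEA.of_card [Finite G] {S A B : Subgroup G} (hA : IsMaxEA S A) (hBS : B ≤ S)
    (hB : Cfsg.IsElementaryAbelian 2 B) (hcard : Nat.card A ≤ Nat.card B) : IsMaxEA S B :=
  ⟨hBS, hB, fun C hCS hC => (hA.2.2 C hCS hC).trans hcard⟩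

end thompson

theorem mem_omegaCenterOf {X : Subgroup G} {z : G} (hz : z ∈ Cfsg.omegaCenterOf X) :
    z ∈ X ∧ (∀ x ∈ X, x * z = z * x) ∧ z * z = 1 := by
  unfold Cfsg.omegaCenterOf Cfsg.omegaOne at hz
  induction hz using Subgroup.closure_induction with
  | mem x hx =>
    obtain ⟨hx1, hx2⟩ := hx
    rw [Subgroup.mem_inf, Subgroup.mem_centralizer_iff] at hx1
    refine ⟨hx1.1, hx1.2, ?_⟩
    rwa [pow_two] at hx2
  | one => exact ⟨Subgroup.one_mem _, fun x _ => by simp, by simp⟩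
  | mul x y _ _ hx hy =>
    refine ⟨Subgroup.mul_mem _ hx.1 hy.1, ?_, ?_⟩
    · intro t ht
      rw [← mul_assoc, hx.2.1 t ht, mul_assoc, hy.2.1 t ht, ← mul_assoc]
    · have c := hx.2.1 y hy.1
      calc x * y * (x * y) = x * (y * x) * y := by group
        _ = x * (x * y) * y := by rw [c]
        _ = (x * x) * (y * y) := by group
        _ = 1 := by rw [hx.2.2, hy.2.2, one_mul]
  | inv x _ hx =>
    refine ⟨Subgroup.inv_mem _ hx.1, ?_, ?_⟩
    · intro t ht
      have := hx.2.1 t ht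
      have e : t * x⁻¹ = x⁻¹ * (x * t) * x⁻¹ := by group
      rw [e, ← this]; group
    · have := hx.2.2
      have e : x⁻¹ * x⁻¹ = (x * x)⁻¹ := by group
      rw [e, this, inv_one]

theorem mem_omegaCenterOf_of {X : Subgroup G} {z : G} (hzX : z ∈ X) (hzc : ∀ x ∈ X, x * z = z * x)
    (hz2 : z * z = 1) : z ∈ Cfsg.omegaCenterOf X := by
  unfold Cfsg.omegaCenterOf Cfsg.omegaOne
  apply Subgroup.subset_closure
  refine ⟨?_, by rw [pow_two]; exact hz2⟩
  rw [Subgroup.mem_inf, Subgroup.mem_centralizer_iff]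
  exact ⟨hzX, hzc⟩

end Cfsg.Agent.Lead.JComp
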