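import Mathlib
import Cfsg.Prelude.Def_JComponents
import Cfsg.Agent.Lead.JCompD

/-!
Lead: local structure of `X = ⟨K, J⟩` for a `J(T)`-component `K`, part 3: with `S ∈ Syl₂(X)`, `J = J(S)`,
`A ∈ 𝒜(S)`, `a ∈ A ∖ Q`, `v ∈ W` not centralized by `a`:  `B = (A ∩ Q) W ∈ 𝒜(S)`, `Ω₁(Z(J))` lies in all
`X`-conjugates of `B`, and `Ω₁(Z(J)) = (Ω₁(Z(J)) ∩ Z(X)) × (Ω₁(Z(J)) ∩ W)`.
-/

set_option autoImplicit false

namespace Cfsg.Agent.Lead.JComp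

open Cfsg

universe u

variable {G : Type u} [Group G]

theorem card_eq_of_relIndex_two {H K : Subgroup G} (hHK : H ≤ K) (h2 : H.relIndex K = 2) :
    Nat.card K = 2 * Nat.card H := by
  have := Subgroup.relIndex_mul_relIndex (⊥ : Subgroup G) H K bot_le hHK
  rw [Subgroup.relIndex_bot_left, Subgroup.relIndex_bot_left, h2] at this
  omega

/-- the local data -/
structure Loc (K J S A : Subgroup G) (a v : G) : Prop where
  ctx : Ctx K J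
  hS : Cfsg.IsSylowTwoIn S (K ⊔ J)
  hJS : J ≤ S
  hTh : Cfsg.thompsonSubgroupOf 2 S = J
  hA : IsMaxEA S A
  haA : a ∈ A
  haQ : a ∉ Qx K J
  hvW : v ∈ Cfsg.wOf K
  hva : v * a ≠ a * v

namespace Loc

variable {K J S A : Subgroup G} {a v : G} [Finite G]

theorem aS (l : Loc K J S A a v) : a ∈ S := l.hA.1 l.haA
theorem aX (l : Loc K J S A a v) : a ∈ K ⊔ J := l.hS.1 l.aS
theorem a2 (l : Loc K J S A a v) : a * a = 1 := ea_sq l.hA.2.1 l.haA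
theorem ainv (l : Loc K J S A a v) : a⁻¹ = a := ea_inv l.hA.2.1 l.haA
theorem v2 (l : Loc K J S A a v) : v * v = 1 := l.ctx.hWsq v l.hvW
theorem vinv (l : Loc K J S A a v) : v⁻¹ = v := l.ctx.W_inv l.hvW
theorem A_le_J (l : Loc K J S A a v) : A ≤ J := l.hTh ▸ l.hA.le_thompson
theorem aJ (l : Loc K J S A a v) : a ∈ J := l.A_le_J l.haA

theorem W_ea (l : Loc K J S A a v) : Cfsg.IsElementaryAbelian 2 (Cfsg.wOf K) := by
  refine ⟨⟨⟨?_⟩⟩, ?_⟩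
  · rintro ⟨x, hx⟩ ⟨y, hy⟩
    apply Subtype.ext
    exact l.ctx.W_comm hx hy
  · intro x hx
    rw [pow_two]; exact l.ctx.hWsq x hx

/-- elements of `Q` commute with elements of `W` -/
theorem Q_comm_W (_l : Loc K J S A a v) {q w : G} (hq : q ∈ Qx K J) (hw : w ∈ Cfsg.wOf K) :
    q * w = w * q := ((Ctx.mem_Qx.mp hq).2 w hw).symm

theorem split_A (l : Loc K J S A a v) : ∀ b ∈ A, a * b ∈ A ⊓ Qx K J ∨ b ∈ A ⊓ Qx K J := by
  intro b hb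
  by_cases hbQ : b ∈ Qx K J
  · right; exact ⟨hb, hbQ⟩
  · left
    exact ⟨A.mul_mem l.haA hb, l.ctx.mul_mem_Q l.hS l.aS (l.hA.1 hb) l.haQ hbQ⟩

theorem relIndex_A (l : Loc K J S A a v) : (A ⊓ Qx K J).relIndex A = 2 := by
  rw [Subgroup.relIndex_eq_two_iff_exists_notMem_and']
  exact ⟨a, l.haA, fun h => l.haQ h.2, l.split_A⟩

theorem card_A (l : Loc K J S A a v) : Nat.card A = 2 * Nat.card ↥(A ⊓ Qx K J) :=
  card_eq_of_relIndex_two inf_le_left l.relIndex_A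

theorem v_notin (l : Loc K J S A a v) : v ∉ A ⊓ Qx K J := by
  intro h
  exact l.hva (ea_comm l.hA.2.1 h.1 l.haA)

theorem B_ea (l : Loc K J S A a v) : Cfsg.IsElementaryAbelian 2 ((A ⊓ Qx K J) ⊔ Cfsg.wOf K) := by
  apply ea_sup (ea_of_le l.hA.2.1 inf_le_left) l.W_ea
  intro e he f hf
  exact l.Q_comm_W he.2 hf

theorem W_le_Q (l : Loc K J S A a v) : Cfsg.wOf K ≤ Qx K J := l.ctx.W_le_R.trans l.ctx.R_le_Q

theorem Q_le_S (l : Loc K J S A a v) : Qx K J ≤ S := l.ctx.Q_le_S l.hS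

theorem B_le_Q (l : Loc K J S A a v) : (A ⊓ Qx K J) ⊔ Cfsg.wOf K ≤ Qx K J :=
  sup_le inf_le_right l.W_le_Q

theorem relIndex_B (l : Loc K J S A a v) :
    (A ⊓ Qx K J).relIndex ((A ⊓ Qx K J) ⊔ Cfsg.wOf K) = 2 := by
  have hle : A ⊓ Qx K J ≤ (A ⊓ Qx K J) ⊔ Cfsg.wOf K := le_sup_left
  have h1 := Subgroup.relIndex_mul_relIndex (⊥ : Subgroup G) _ _ bot_le hle
  rw [Subgroup.relIndex_bot_left, Subgroup.relIndex_bot_left] at h1
  have h2 : Nat.card ↥((A ⊓ Qx K J) ⊔ Cfsg.wOf K) ≤ Nat.card A :=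
    l.hA.2.2 _ (l.B_le_Q.trans l.Q_le_S) l.B_ea
  rw [l.card_A] at h2
  have h3 : (A ⊓ Qx K J).relIndex ((A ⊓ Qx K J) ⊔ Cfsg.wOf K) ≠ 1 := by
    intro h
    rw [Subgroup.relIndex_eq_one] at h
    exact l.v_notin (h (le_sup_right (a := A ⊓ Qx K J) l.hvW))
  have h4 : (A ⊓ Qx K J).relIndex ((A ⊓ Qx K J) ⊔ Cfsg.wOf K) ≠ 0 := by
    intro h
    rw [h, mul_zero] at h1
    have : Nat.card ↥((A ⊓ Qx K J) ⊔ Cfsg.wOf K) ≠ 0 := Nat.card_pos.ne'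
    exact this h1.symm
  have h5 : 0 < Nat.card ↥(A ⊓ Qx K J) := Nat.card_pos
  by_contra hne
  have h6 : 3 ≤ (A ⊓ Qx K J).relIndex ((A ⊓ Qx K J) ⊔ Cfsg.wOf K) := by omega
  have : 3 * Nat.card ↥(A ⊓ Qx K J) ≤ 2 * Nat.card ↥(A ⊓ Qx K J) := by
    calc 3 * Nat.card ↥(A ⊓ Qx K J)
        ≤ (A ⊓ Qx K J).relIndex ((A ⊓ Qx K J) ⊔ Cfsg.wOf K) * Nat.card ↥(A ⊓ Qx K J) :=
          Nat.mul_le_mul_right _ h6
      _ = Nat.card ↥(A ⊓ Qx K J) * (A ⊓ Qx K J).relIndex ((A ⊓ Qx K J) ⊔ Cfsg.wOf K) := mul_comm _ _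
      _ = Nat.card ↥((A ⊓ Qx K J) ⊔ Cfsg.wOf K) := h1
      _ ≤ 2 * Nat.card ↥(A ⊓ Qx K J) := h2
  omega

theorem card_B (l : Loc K J S A a v) : Nat.card ↥((A ⊓ Qx K J) ⊔ Cfsg.wOf K) = Nat.card A := by
  rw [card_eq_of_relIndex_two le_sup_left l.relIndex_B, l.card_A]

theorem split_B (l : Loc K J S A a v) :
    ∀ b ∈ (A ⊓ Qx K J) ⊔ Cfsg.wOf K, b ∈ A ⊓ Qx K J ∨ v * b ∈ A ⊓ Qx K J := by
  intro b hb
  by_cases hb0 : b ∈ A ⊓ Qx K J
  · left; exact hb0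
  · right
    have hidx : ((A ⊓ Qx K J).subgroupOf ((A ⊓ Qx K J) ⊔ Cfsg.wOf K)).index = 2 := l.relIndex_B
    have hvB : v ∈ (A ⊓ Qx K J) ⊔ Cfsg.wOf K := le_sup_right (a := A ⊓ Qx K J) l.hvW
    have := Subgroup.mul_mem_iff_of_index_two hidx
      (a := (⟨v, hvB⟩ : ↥((A ⊓ Qx K J) ⊔ Cfsg.wOf K))) (b := ⟨b, hb⟩)
    rw [Subgroup.mem_subgroupOf, Subgroup.mem_subgroupOf, Subgroup.mem_subgroupOf] at this
    apply this.mpr
    constructor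
    · intro h; exact absurd h l.v_notin
    · intro h; exact absurd h hb0

theorem B_max (l : Loc K J S A a v) : IsMaxEA S ((A ⊓ Qx K J) ⊔ Cfsg.wOf K) :=
  l.hA.of_card (l.B_le_Q.trans l.Q_le_S) l.B_ea (le_of_eq l.card_B.symm)

/-- all `X`-conjugates of `B` are in `𝒜(S)` -/
theorem conjB_max (l : Loc K J S A a v) {x : G} (hx : x ∈ K ⊔ J) :
    IsMaxEA S (((A ⊓ Qx K J) ⊔ Cfsg.wOf K).map (MulAut.conj x).toMonoidHom) := by
  apply l.hA.of_card _ (ea_map_conj l.B_ea x)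
  · rw [Cfsg.Agent.Lead.card_map_conj, l.card_B]
  · rintro _ ⟨b, hb, rfl⟩
    apply l.Q_le_S
    exact l.ctx.Q_conj hx (l.B_le_Q hb)

/-- `Ω₁(Z(J))` lies in every member of `𝒜(S)` -/
theorem Z0_le (l : Loc K J S A a v) {E : Subgroup G} (hE : IsMaxEA S E) {z : G}
    (hz : z ∈ Cfsg.omegaCenterOf J) : z ∈ E := by
  obtain ⟨hzJ, hzc, hz2⟩ := mem_omegaCenterOf hz
  apply hE.mem_of_centralizes (l.hJS hzJ) hz2
  intro e he
  exact hzc e (l.hTh ▸ hE.le_thompson he)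

/-- the element `u = [v, a]` -/
theorem uW (l : Loc K J S A a v) : v⁻¹ * (a * v * a⁻¹) ∈ Cfsg.wOf K :=
  Subgroup.mul_mem _ (Subgroup.inv_mem _ l.hvW) (l.ctx.conj_W l.aX l.hvW)

theorem u_ne (l : Loc K J S A a v) : v⁻¹ * (a * v * a⁻¹) ≠ 1 := by
  intro h
  apply l.hva
  have : a * v * a⁻¹ = v := by
    have := congrArg (v * ·) h
    simpa using this
  have e := congrArg (· * a) this
  simpa using e.symm

theorem avu (_l : Loc K J S A a v) : a * v * a⁻¹ = v * (v⁻¹ * (a * v * a⁻¹)) := by group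

theorem au (l : Loc K J S A a v) :
    a * (v⁻¹ * (a * v * a⁻¹)) * a⁻¹ = v⁻¹ * (a * v * a⁻¹) := by
  have hu := l.uW
  have h1 : a * (v⁻¹ * (a * v * a⁻¹)) * a⁻¹ = (a * v * a⁻¹)⁻¹ * ((a * a) * v * (a * a)⁻¹) := by group
  rw [h1, l.a2]
  have h2 : (a * v * a⁻¹)⁻¹ * (1 * v * 1⁻¹) = (v⁻¹ * (a * v * a⁻¹))⁻¹ := by group
  rw [h2, l.ctx.W_inv hu]

theorem S_comm_u (l : Loc K J S A a v) : ∀ s ∈ S, s * (v⁻¹ * (a * v * a⁻¹)) = (v⁻¹ * (a * v * a⁻¹)) * s := by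
  intro s hs
  have hau : a * (v⁻¹ * (a * v * a⁻¹)) = (v⁻¹ * (a * v * a⁻¹)) * a := by
    have := congrArg (· * a) l.au
    simpa using this
  by_cases hsQ : s ∈ Qx K J
  · exact l.Q_comm_W hsQ l.uW
  · have h1 := l.ctx.mul_mem_Q l.hS l.aS hs l.haQ hsQ
    have h2 := l.Q_comm_W h1 l.uW
    have e : s = a * (a * s) := by
      rw [← mul_assoc, l.a2, one_mul]
    rw [e, mul_assoc, h2, ← mul_assoc, hau, mul_assoc]

theorem uZ0 (l : Loc K J S A a v) : v⁻¹ * (a * v * a⁻¹) ∈ Cfsg.omegaCenterOf J := by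
  have huS : v⁻¹ * (a * v * a⁻¹) ∈ S := l.Q_le_S (l.W_le_Q l.uW)
  have hu2 := l.ctx.hWsq _ l.uW
  have huA : v⁻¹ * (a * v * a⁻¹) ∈ A :=
    l.hA.mem_of_centralizes huS hu2 (fun e he => l.S_comm_u e (l.hA.1 he))
  exact mem_omegaCenterOf_of (l.A_le_J huA) (fun x hx => l.S_comm_u x (l.hJS hx)) hu2

theorem inter (l : Loc K J S A a v) :
    Cfsg.omegaCenterOf J ⊓ Cfsg.wOf K = Subgroup.zpowers (v⁻¹ * (a * v * a⁻¹)) := by
  apply le_antisymm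
  · rintro w ⟨hwZ, hwW⟩
    obtain ⟨-, hwc, -⟩ := mem_omegaCenterOf hwZ
    have hwa : a * w = w * a := hwc a l.aJ
    have hv1 : v ≠ 1 := by
      intro h; apply l.hva; rw [h]; simp
    have hvu : v⁻¹ * (a * v * a⁻¹) ≠ v := by
      intro h
      apply l.hva
      have := l.S_comm_u a l.aS
      rw [h] at this
      exact this.symm
    rcases four_enum _ l.ctx.hW4 l.ctx.hWsq l.uW l.hvW l.u_ne hv1 hvu w hwW with e | e | e | e
    · rw [e]; exact Subgroup.one_mem _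
    · rw [e]; exact Subgroup.mem_zpowers _
    · exfalso; apply l.hva; rw [← e]; exact hwa.symm
    · exfalso
      apply l.hva
      have hau := l.S_comm_u a l.aS
      rw [e] at hwa
      -- a * (u * v) = (u * v) * a, and a * u = u * a  ⇒ a * v = v * a
      have h1 : a * v = (v⁻¹ * (a * v * a⁻¹))⁻¹ * (a * ((v⁻¹ * (a * v * a⁻¹)) * v)) := by
        rw [← mul_assoc a, hau]; group
      rw [h1, hwa]; group
  · rw [Subgroup.zpowers_le]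
    exact ⟨l.uZ0, l.uW⟩

theorem card_inter (l : Loc K J S A a v) :
    Nat.card ↥(Cfsg.omegaCenterOf J ⊓ Cfsg.wOf K) = 2 := by
  rw [l.inter, Nat.card_zpowers]
  apply orderOf_eq_prime
  · rw [pow_two]; exact l.ctx.hWsq _ l.uW
  · exact l.u_ne

end Loc

end Cfsg.Agent.Lead.JComp
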