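import Mathlib
import Cfsg.Prelude.Def_JComponents
import Cfsg.Agent.Lead.JCompE

/-!
Lead: local structure of `X = ⟨K, J⟩` for a `J(T)`-component `K`, part 4: the decomposition
`Ω₁(Z(J)) = (Ω₁(Z(J)) ∩ Z(X)) (Ω₁(Z(J)) ∩ W_K)` and `|Ω₁(Z(J)) ∩ W_K| = 2`.
-/

set_option autoImplicit false

namespace Cfsg.Agent.Lead.JComp

open Cfsg
open scoped commutatorElement

universe u

variable {G : Type u} [Group G]

theorem exists_sylowTwoIn [Finite G] {X J : Subgroup G} (hJ : IsPGroup 2 J) (hJX : J ≤ X) :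
    ∃ S, Cfsg.IsSylowTwoIn S X ∧ J ≤ S := by
  haveI : Fact (Nat.Prime 2) := ⟨Nat.prime_two⟩
  obtain ⟨P, hP⟩ := (hJ.comap_subtype (K := X)).exists_le_sylow
  refine ⟨(P : Subgroup ↥X).map X.subtype, ⟨Subgroup.map_subtype_le _, P.isPGroup'.map _, ?_⟩, ?_⟩
  · have h1 : ((P : Subgroup ↥X).map X.subtype).subgroupOf X = (P : Subgroup ↥X) := by
      unfold Subgroup.subgroupOf
      exact Subgroup.comap_map_eq_self_of_injective X.subtype_injective _
    have h2 : ((P : Subgroup ↥X).map X.subtype).relIndex X = (P : Subgroup ↥X).index := by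
      unfold Subgroup.relIndex
      rw [h1]
    rw [h2]
    have := P.not_dvd_index
    exact Nat.not_even_iff_odd.mp (fun he => this (even_iff_two_dvd.mp he))
  · have : J = (J.subgroupOf X).map X.subtype := (Subgroup.map_subgroupOf_eq_of_le hJX).symm
    rw [this]
    exact Subgroup.map_mono hP

namespace Loc

variable {K J S A : Subgroup G} {a v : G} [Finite G]

theorem S_norm_J (l : Loc K J S A a v) {s : G} (hs : s ∈ S) {j : G} (hj : j ∈ J) :
    s * j * s⁻¹ ∈ J := by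
  have hle : (Cfsg.thompsonSubgroupOf 2 S).map (MulAut.conj s).toMonoidHom ≤ S := by
    rintro _ ⟨t, ht, rfl⟩
    exact S.mul_mem (S.mul_mem hs (Cfsg.Agent.Lead.thompsonSubgroupOf_le 2 S ht)) (S.inv_mem hs)
  have := Cfsg.Agent.Lead.thompsonSubgroupOf_map_conj_eq 2 S s hle
  rw [l.hTh] at this
  exact conj_mem_of_map_eq this hj

/-- the key computation: `a' = d a d⁻¹` maps `u` to `u e`, `e = d u d⁻¹` -/
theorem conj_u (l : Loc K J S A a v) {d : G} (hd : d ∈ K) (hdR : d ∉ Cfsg.pCoreOf 2 K) :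
    (d * a * d⁻¹) * (v⁻¹ * (a * v * a⁻¹)) * (d * a * d⁻¹)⁻¹ =
      (v⁻¹ * (a * v * a⁻¹)) * (d * (v⁻¹ * (a * v * a⁻¹)) * d⁻¹) := by
  set u := v⁻¹ * (a * v * a⁻¹) with hu
  have huW : u ∈ Cfsg.wOf K := l.uW
  have hu1 : u ≠ 1 := l.u_ne
  have hdX : d ∈ K ⊔ J := le_sup_left (a := K) hd
  have ha'X : d * a * d⁻¹ ∈ K ⊔ J :=
    Subgroup.mul_mem _ (Subgroup.mul_mem _ hdX l.aX) (Subgroup.inv_mem _ hdX)
  have heW : d * u * d⁻¹ ∈ Cfsg.wOf K := l.ctx.conj_W hdX huW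
  have he1 : d * u * d⁻¹ ≠ 1 := by
    intro h
    apply hu1
    have : u = d⁻¹ * (d * u * d⁻¹) * d := by group
    rw [this, h]; group
  have heu : u ≠ d * u * d⁻¹ := by
    intro h
    exact hu1 (l.ctx.fixedfree hd hdR huW h.symm)
  have hae : (d * a * d⁻¹) * (d * u * d⁻¹) * (d * a * d⁻¹)⁻¹ = d * u * d⁻¹ := by
    have : (d * a * d⁻¹) * (d * u * d⁻¹) * (d * a * d⁻¹)⁻¹ = d * (a * u * a⁻¹) * d⁻¹ := by group
    rw [this, l.au]
  have htW : (d * a * d⁻¹) * u * (d * a * d⁻¹)⁻¹ ∈ Cfsg.wOf K := l.ctx.conj_W ha'X huW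
  rcases four_enum _ l.ctx.hW4 l.ctx.hWsq huW heW hu1 he1 heu _ htW with e | e | e | e
  · exfalso
    apply hu1
    have : u = (d * a * d⁻¹)⁻¹ * ((d * a * d⁻¹) * u * (d * a * d⁻¹)⁻¹) * (d * a * d⁻¹) := by group
    rw [this, e]; group
  · -- `a'` centralizes `W`, so `a' ∈ Q`, so `a ∈ Q`
    exfalso
    apply l.haQ
    have hcu : u * (d * a * d⁻¹) = (d * a * d⁻¹) * u := by
      have e4 : (d * a * d⁻¹) * u * (d * a * d⁻¹)⁻¹ * (d * a * d⁻¹) = (d * a * d⁻¹) * u := by group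
      rw [e] at e4; exact e4
    have hce : (d * u * d⁻¹) * (d * a * d⁻¹) = (d * a * d⁻¹) * (d * u * d⁻¹) := by
      have e4 : (d * a * d⁻¹) * (d * u * d⁻¹) * (d * a * d⁻¹)⁻¹ * (d * a * d⁻¹) =
          (d * a * d⁻¹) * (d * u * d⁻¹) := by group
      rw [hae] at e4; exact e4
    have ha'Q : d * a * d⁻¹ ∈ Qx K J := by
      rw [Ctx.mem_Qx]
      refine ⟨ha'X, ?_⟩
      intro w hw
      rcases four_enum _ l.ctx.hW4 l.ctx.hWsq huW heW hu1 he1 heu w hw with rfl | rfl | rfl | rfl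
      · simp
      · exact hcu
      · exact hce
      · rw [mul_assoc, hce, ← mul_assoc, hcu, mul_assoc]
    have := l.ctx.Q_conj (Subgroup.inv_mem _ hdX) ha'Q
    have e5 : d⁻¹ * (d * a * d⁻¹) * d⁻¹⁻¹ = a := by group
    rwa [e5] at this
  · exfalso
    apply heu
    have h1 : (d * a * d⁻¹) * u * (d * a * d⁻¹)⁻¹ =
        (d * a * d⁻¹) * (d * u * d⁻¹) * (d * a * d⁻¹)⁻¹ := by rw [e, hae]
    exact mul_left_cancel (mul_right_cancel h1)
  · exact e

end Loc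

end Cfsg.Agent.Lead.JComp
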