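import Mathlib
import Cfsg.Prelude.Def_JComponents
import Cfsg.Agent.Lead.JCompF

/-!
Lead: local structure of `X = ⟨K, J⟩` for a `J(T)`-component `K`, part 5: the decomposition theorem and the
existence of the local data.
-/

set_option autoImplicit false

namespace Cfsg.Agent.Lead.JComp

open Cfsg
open scoped commutatorElement

universe u

variable {G : Type u} [Group G]

namespace Loc

variable {K J S A : Subgroup G} {a v : G} [Finite G]

/-- every `z ∈ Ω₁(Z(J))` is `z' w` with `w ∈ Ω₁(Z(J)) ∩ W` and `z' ∈ Ω₁(Z(J))` commuting with `d a d⁻¹` -/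
theorem decomp (l : Loc K J S A a v) {d : G} (hd : d ∈ K) (hdR : d ∉ Cfsg.pCoreOf 2 K) {z : G}
    (hz : z ∈ Cfsg.omegaCenterOf J) :
    ∃ z' ∈ Cfsg.omegaCenterOf J, ∃ w ∈ Cfsg.omegaCenterOf J ⊓ Cfsg.wOf K,
      z = z' * w ∧ (d * a * d⁻¹) * z' = z' * (d * a * d⁻¹) := by
  set u := v⁻¹ * (a * v * a⁻¹) with hu
  have huW : u ∈ Cfsg.wOf K := l.uW
  have huZ : u ∈ Cfsg.omegaCenterOf J := l.uZ0
  have hdX : d ∈ K ⊔ J := le_sup_left (a := K) hd
  have hzB := l.Z0_le (l.conjB_max hdX) hz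
  obtain ⟨y, hyB, hyz⟩ := hzB
  have hyz' : d * y * d⁻¹ = z := by simpa using hyz
  rcases l.split_B y hyB with hy0 | hy0
  · -- `y ∈ A ∩ Q` commutes with `a`
    refine ⟨z, hz, 1, Subgroup.one_mem _, by simp, ?_⟩
    have hay : a * y = y * a := ea_comm l.hA.2.1 l.haA hy0.1
    rw [← hyz']
    calc d * a * d⁻¹ * (d * y * d⁻¹) = d * (a * y) * d⁻¹ := by group
      _ = d * (y * a) * d⁻¹ := by rw [hay]
      _ = d * y * d⁻¹ * (d * a * d⁻¹) := by group
  · -- `y = v h`, `h ∈ A ∩ Q`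
    have hh : v * y ∈ A ⊓ Qx K J := hy0
    have hyv : y = v * (v * y) := by rw [← mul_assoc, l.v2, one_mul]
    have hah : a * (v * y) * a⁻¹ = v * y := by
      have := ea_comm l.hA.2.1 l.haA hh.1
      rw [this]; group
    have hhu : (v * y) * u = u * (v * y) := l.Q_comm_W hh.2 huW
    have hay : a * y * a⁻¹ = y * u := by
      calc a * y * a⁻¹ = a * (v * (v * y)) * a⁻¹ := by rw [← hyv]
        _ = (a * v * a⁻¹) * (a * (v * y) * a⁻¹) := by group
        _ = (v * u) * (v * y) := by rw [hah, l.avu]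
        _ = v * (u * (v * y)) := by group
        _ = v * ((v * y) * u) := by rw [hhu]
        _ = (v * (v * y)) * u := by group
        _ = y * u := by rw [← hyv]
    have ha'z : (d * a * d⁻¹) * z * (d * a * d⁻¹)⁻¹ = z * (d * u * d⁻¹) := by
      rw [← hyz']
      calc d * a * d⁻¹ * (d * y * d⁻¹) * (d * a * d⁻¹)⁻¹ = d * (a * y * a⁻¹) * d⁻¹ := by group
        _ = d * (y * u) * d⁻¹ := by rw [hay]
        _ = d * y * d⁻¹ * (d * u * d⁻¹) := by group
    have heW : d * u * d⁻¹ ∈ Cfsg.wOf K := l.ctx.conj_W hdX huW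
    have hcu := l.conj_u hd hdR
    rw [← hu] at hcu
    refine ⟨z * u, Subgroup.mul_mem _ hz huZ, u, ⟨huZ, huW⟩, ?_, ?_⟩
    · rw [mul_assoc, l.ctx.hWsq u huW, mul_one]
    · have h1 : (d * a * d⁻¹) * (z * u) * (d * a * d⁻¹)⁻¹ = z * u := by
        calc (d * a * d⁻¹) * (z * u) * (d * a * d⁻¹)⁻¹
            = ((d * a * d⁻¹) * z * (d * a * d⁻¹)⁻¹) * ((d * a * d⁻¹) * u * (d * a * d⁻¹)⁻¹) := by group
          _ = (z * (d * u * d⁻¹)) * (u * (d * u * d⁻¹)) := by rw [ha'z, hcu]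
          _ = z * ((d * u * d⁻¹) * u) * (d * u * d⁻¹) := by group
          _ = z * (u * (d * u * d⁻¹)) * (d * u * d⁻¹) := by rw [l.ctx.W_comm heW huW]
          _ = z * u * ((d * u * d⁻¹) * (d * u * d⁻¹)) := by group
          _ = z * u := by rw [l.ctx.hWsq _ heW, mul_one]
      have e4 : (d * a * d⁻¹) * (z * u) * (d * a * d⁻¹)⁻¹ * (d * a * d⁻¹) = (d * a * d⁻¹) * (z * u) := by
        group
      rw [h1] at e4
      exact e4.symm

/-- an element of `Ω₁(Z(J))` commuting with `d a d⁻¹` is central in `X` -/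
theorem central (l : Loc K J S A a v) {d : G} (hd : d ∈ K) (hdR : d ∉ Cfsg.pCoreOf 2 K) {z : G}
    (hz : z ∈ Cfsg.omegaCenterOf J) (hza : (d * a * d⁻¹) * z = z * (d * a * d⁻¹)) :
    z ∈ (K ⊔ J) ⊓ Subgroup.centralizer ((K ⊔ J : Subgroup G) : Set G) := by
  obtain ⟨hzJ, hzc, -⟩ := mem_omegaCenterOf hz
  set u := v⁻¹ * (a * v * a⁻¹) with hu
  have huW : u ∈ Cfsg.wOf K := l.uW
  have hdX : d ∈ K ⊔ J := le_sup_left (a := K) hd
  have hcz : Commute z (a * (d * a * d⁻¹)) :=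
    Commute.mul_right (hzc a l.aJ).symm hza.symm
  -- `c = a a' ∈ K ∖ R`
  have hcK : a * (d * a * d⁻¹) ∈ K := by
    have h1 : a * (d * a * d⁻¹) = (a * d * a⁻¹) * d⁻¹ := by
      rw [l.ainv]; group
    rw [h1]
    exact K.mul_mem (l.ctx.conj_K l.aX hd) (K.inv_mem hd)
  have hcR : a * (d * a * d⁻¹) ∉ Cfsg.pCoreOf 2 K := by
    intro hc
    have hcomm := l.ctx.R_comm_VK hc (l.ctx.W_le_VK huW)
    have hcu := l.conj_u hd hdR
    rw [← hu] at hcu
    have ha' : d * a * d⁻¹ = a * (a * (d * a * d⁻¹)) := by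
      rw [← mul_assoc, l.a2, one_mul]
    have h2 : (d * a * d⁻¹) * u * (d * a * d⁻¹)⁻¹ = u := by
      rw [ha']
      calc a * (a * (d * a * d⁻¹)) * u * (a * (a * (d * a * d⁻¹)))⁻¹
          = a * ((a * (d * a * d⁻¹)) * u) * (a * (d * a * d⁻¹))⁻¹ * a⁻¹ := by group
        _ = a * (u * (a * (d * a * d⁻¹))) * (a * (d * a * d⁻¹))⁻¹ * a⁻¹ := by rw [hcomm]
        _ = a * u * a⁻¹ := by group
        _ = u := l.au
    rw [h2] at hcu
    have he1 : d * u * d⁻¹ = 1 := by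
      have := mul_left_cancel (a := u) (b := 1) (c := d * u * d⁻¹) (by rw [mul_one]; exact hcu)
      exact this.symm
    apply l.u_ne
    have : u = d⁻¹ * (d * u * d⁻¹) * d := by group
    rw [← hu, this, he1]; group
  -- `z` commutes with `k j k⁻¹`
  have hkj : ∀ k ∈ K, ∀ j ∈ J, Commute z (k * j * k⁻¹) := by
    intro k hk j hj
    have hR : ∀ r ∈ Cfsg.pCoreOf 2 K, Commute z (r * j * r⁻¹) := by
      intro r hr
      have hrS : r ∈ S := l.Q_le_S (l.ctx.R_le_Q hr)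
      exact (hzc _ (l.S_norm_J hrS hj)).symm
    rcases l.ctx.cosets hcK hcR k hk with hr | hr | hr
    · exact hR k hr
    · have e : k * j * k⁻¹ = (a * (d * a * d⁻¹)) *
          ((((a * (d * a * d⁻¹))⁻¹ * k)) * j * ((a * (d * a * d⁻¹))⁻¹ * k)⁻¹) *
            (a * (d * a * d⁻¹))⁻¹ := by group
      rw [e]
      exact (hcz.mul_right (hR _ hr)).mul_right hcz.inv_right
    · have e : k * j * k⁻¹ = (a * (d * a * d⁻¹))⁻¹ *
          ((((a * (d * a * d⁻¹)) * k)) * j * ((a * (d * a * d⁻¹)) * k)⁻¹) *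
            (a * (d * a * d⁻¹))⁻¹⁻¹ := by group
      rw [e]
      exact (hcz.inv_right.mul_right (hR _ hr)).mul_right hcz.inv_right.inv_right
  have hK : K ≤ Subgroup.centralizer ({z} : Set G) := by
    conv_lhs => rw [← l.ctx.hKJ]
    rw [Subgroup.commutator_le]
    intro k hk j hj
    rw [Subgroup.mem_centralizer_iff]
    intro t ht
    rw [Set.mem_singleton_iff] at ht
    subst ht
    have h1 : ⁅k, j⁆ = (k * j * k⁻¹) * j⁻¹ := by
      simp only [commutatorElement_def]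
    rw [h1]
    exact ((hkj k hk j hj).mul_right (Commute.inv_right (hzc j hj).symm)).eq
  have hJ : J ≤ Subgroup.centralizer ({z} : Set G) := by
    intro j hj
    rw [Subgroup.mem_centralizer_iff]
    intro t ht
    rw [Set.mem_singleton_iff] at ht
    subst ht
    exact (hzc j hj).symm
  refine Subgroup.mem_inf.mpr ⟨le_sup_right (a := K) hzJ, ?_⟩
  rw [Subgroup.mem_centralizer_iff]
  intro x hx
  have := (sup_le hK hJ) hx
  rw [Subgroup.mem_centralizer_iff] at this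
  exact (this z rfl).symm

/-- the decomposition theorem -/
theorem main (l : Loc K J S A a v) :
    Nat.card ↥(Cfsg.omegaCenterOf J ⊓ Cfsg.wOf K) = 2 ∧
      (Cfsg.omegaCenterOf J ⊓ ((K ⊔ J) ⊓ Subgroup.centralizer ((K ⊔ J : Subgroup G) : Set G))) ⊔
        (Cfsg.omegaCenterOf J ⊓ Cfsg.wOf K) = Cfsg.omegaCenterOf J := by
  refine ⟨l.card_inter, ?_⟩
  obtain ⟨d, hd, hdR⟩ := SetLike.not_le_iff_exists.mp l.ctx.R_ne_K
  apply le_antisymm (sup_le inf_le_left inf_le_left)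
  intro z hz
  obtain ⟨z', hz', w, hw, rfl, hcomm⟩ := l.decomp hd hdR hz
  exact Subgroup.mul_mem_sup ⟨hz', l.central hd hdR hz' hcomm⟩ hw

end Loc

/-- existence of the local data -/
theorem Ctx.exists_loc [Finite G] {K J S : Subgroup G} (h : Ctx K J)
    (hS : Cfsg.IsSylowTwoIn S (K ⊔ J)) (hJS : J ≤ S) (hTh : Cfsg.thompsonSubgroupOf 2 S = J) :
    ∃ (A : Subgroup G) (a v : G), Loc K J S A a v := by
  have hJQ : ¬ J ≤ Qx K J := by
    intro hJQ
    apply h.R_ne_K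
    conv_lhs => rw [← h.hKJ]
    rw [Subgroup.commutator_le]
    intro k hk j hj
    have hkX : k ∈ K ⊔ J := le_sup_left (a := K) hk
    have hjX : j ∈ K ⊔ J := le_sup_right (a := K) hj
    apply h.K_inf_Q
    · have h1 : ⁅k, j⁆ = k * (j * k⁻¹ * j⁻¹) := by
        simp only [commutatorElement_def]; group
      rw [h1]
      exact K.mul_mem hk (h.conj_K hjX (K.inv_mem hk))
    · have h1 : ⁅k, j⁆ = (k * j * k⁻¹) * j⁻¹ := by
        simp only [commutatorElement_def]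
      rw [h1]
      exact Subgroup.mul_mem _ (h.Q_conj hkX (hJQ hj)) (Subgroup.inv_mem _ (hJQ hj))
  have : ∃ A, IsMaxEA S A ∧ ¬ A ≤ Qx K J := by
    by_contra hcon
    push_neg at hcon
    apply hJQ
    have := thompson_le_of_forall S hcon
    rwa [hTh] at this
  obtain ⟨A, hA, hAQ⟩ := this
  obtain ⟨a, haA, haQ⟩ := SetLike.not_le_iff_exists.mp hAQ
  have haX : a ∈ K ⊔ J := hS.1 (hA.1 haA)
  have : ∃ v ∈ Cfsg.wOf K, v * a ≠ a * v := by
    by_contra hcon
    push_neg at hcon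
    exact haQ (Ctx.mem_Qx.mpr ⟨haX, hcon⟩)
  obtain ⟨v, hvW, hva⟩ := this
  exact ⟨A, a, v, ⟨h, hS, hJS, hTh, hA, haA, haQ, hvW, hva⟩⟩

end Cfsg.Agent.Lead.JComp
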