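import Mathlib
import Cfsg.Prelude.Def_JComponents
import Cfsg.Agent.Lead.JCompG
import Cfsg.Agent.Helper2.SubnormalP

/-!
Lead: a subnormal subgroup `K` of `X = ⟨K, J⟩` generated by its elements of odd order is normalized by
`O₂(X)`, and `O₂(K) ≤ O₂(X)`.
-/

set_option autoImplicit false

namespace Cfsg.Agent.Lead.JSub

open Cfsg
open scoped commutatorElement

variable {G : Type*} [Group G]

theorem pCore_normal' (p : ℕ) [Fact p.Prime] (H : Type*) [Group H] [Finite H] :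
    (Cfsg.pCore p H).Normal := by
  rw [Cfsg.Agent.Helper1.pCore_eq_iInf_sylow]
  exact Cfsg.Agent.Helper1.iInf_sylow_normal p

/-- conjugating by an element of `O₂(X)` keeps odd-order elements of the subnormal `K` in `K` -/
theorem conj_mem_of_odd [Finite G] {K X : Subgroup G} (hKX : K ≤ X)
    (hsn : (K.subgroupOf X).IsSubnormal) {q g : G} (hq : q ∈ Cfsg.pCoreOf 2 X) (hg : g ∈ K)
    (hodd : Odd (orderOf g)) : q * g * q⁻¹ ∈ K := by
  have : Fact (Nat.Prime 2) := ⟨Nat.prime_two⟩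
  have := pCore_normal' 2 ↥X
  obtain ⟨q', hq', rfl⟩ := hq
  have hP : IsPGroup 2 ↥(Cfsg.pCore 2 ↥X) := Cfsg.Agent.Helper1.pCore_isPGroup 2
  set g' : ↥X := ⟨g, hKX hg⟩ with hg'
  have hmem : q' * g' * q'⁻¹ ∈ Cfsg.pCore 2 ↥X ⊔ K.subgroupOf X := by
    refine Subgroup.mul_mem _ (Subgroup.mul_mem _ (Subgroup.mem_sup_left hq') ?_)
      (Subgroup.inv_mem _ (Subgroup.mem_sup_left hq'))
    exact Subgroup.mem_sup_right (Subgroup.mem_subgroupOf.mpr hg)
  have hord : (orderOf (q' * g' * q'⁻¹)).Coprime 2 := by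
    have h1 : orderOf (q' * g' * q'⁻¹) = orderOf g' := by
      have := orderOf_injective (MulAut.conj q').toMonoidHom (MulAut.conj q').injective g'
      simpa using this
    rw [h1, hg', ← Subgroup.orderOf_coe]
    exact Nat.coprime_two_right.mpr hodd
  have := Cfsg.Agent.Helper2.mem_of_coprime_orderOf_of_mem_normal_sup_subnormal
    (Cfsg.pCore 2 ↥X) hP hsn _ hmem hord
  rw [Subgroup.mem_subgroupOf] at this
  simpa using this

/-- `O₂(X)` normalizes a subnormal subgroup generated by its odd-order elements -/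
theorem pCoreOf_le_normalizer_of_subnormal [Finite G] {K X : Subgroup G} (hKX : K ≤ X)
    (hsn : (K.subgroupOf X).IsSubnormal)
    (hgen : Subgroup.closure {g : G | g ∈ K ∧ Odd (orderOf g)} = K) :
    Cfsg.pCoreOf 2 X ≤ Subgroup.normalizer (K : Set G) := by
  have key : ∀ q ∈ Cfsg.pCoreOf 2 X, ∀ k ∈ K, q * k * q⁻¹ ∈ K := by
    intro q hq
    have hle : K ≤ K.comap (MulAut.conj q).toMonoidHom := by
      conv_lhs => rw [← hgen]
      rw [Subgroup.closure_le]
      rintro g ⟨hg, hodd⟩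
      change q * g * q⁻¹ ∈ K
      exact conj_mem_of_odd hKX hsn hq hg hodd
    intro k hk
    exact hle hk
  intro q hq
  rw [Subgroup.mem_normalizer_iff]
  intro k
  constructor
  · exact key q hq k
  · intro h
    have := key q⁻¹ (Subgroup.inv_mem _ hq) _ h
    have e : q⁻¹ * (q * k * q⁻¹) * q⁻¹⁻¹ = k := by group
    rwa [e] at this

/-- `O₂(K) ≤ O₂(X)` for subnormal `K` -/
theorem pCoreOf_le_pCoreOf_of_subnormal [Finite G] {K X : Subgroup G} (hKX : K ≤ X)
    (hsn : (K.subgroupOf X).IsSubnormal) : Cfsg.pCoreOf 2 K ≤ Cfsg.pCoreOf 2 X := by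
  have : Fact (Nat.Prime 2) := ⟨Nat.prime_two⟩
  have hRK : Cfsg.pCoreOf 2 K ≤ K := Cfsg.Agent.Lead.LLem.pCoreOf_le K
  have hR2 : IsPGroup 2 (Cfsg.pCoreOf 2 K) := Cfsg.Agent.Lead.LLem.isPGroup_pCoreOf K
  have hKn : K ≤ Subgroup.normalizer ((Cfsg.pCoreOf 2 K : Subgroup G) : Set G) :=
    Cfsg.Agent.Lead.KInf.pCoreOf_le_normalizer 2 K
  have hsn' : ((Cfsg.pCoreOf 2 K).subgroupOf X).IsSubnormal := by
    refine Subgroup.IsSubnormal.step _ (K.subgroupOf X) ?_ hsn ?_
    · intro x hx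
      rw [Subgroup.mem_subgroupOf] at hx ⊢
      exact hRK hx
    · constructor
      rintro ⟨n, hn⟩ hn' ⟨g, hg⟩
      rw [Subgroup.mem_subgroupOf] at hn' ⊢
      rw [Subgroup.mem_subgroupOf] at hn' hg
      have := (Subgroup.mem_normalizer_iff.mp (hKn hg) _).mp hn'
      rw [Subgroup.mem_subgroupOf]
      simpa using this
  have hp' : IsPGroup 2 ((Cfsg.pCoreOf 2 K).subgroupOf X) := by
    have : (Cfsg.pCoreOf 2 K).subgroupOf X = (Cfsg.pCoreOf 2 K).comap X.subtype := rfl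
    rw [this]
    exact hR2.comap_of_injective _ X.subtype_injective
  have hle := Cfsg.Agent.Helper2.isSubnormal_pGroup_le_pCore hsn' hp'
  intro r hr
  exact ⟨⟨r, hKX (hRK hr)⟩, hle (Subgroup.mem_subgroupOf.mpr hr), rfl⟩

end Cfsg.Agent.Lead.JSub
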