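import Mathlib
import Cfsg.Prelude.Def_JComponents
import Cfsg.Agent.Lead.JSubA
import Cfsg.Agent.Helper1.Coprime

/-!
Lead: `K` a "3-component" (`JComp.Ctx K J'`) subnormal in `X = ⟨K, J⟩`.  Part I: `Q = O₂(X)` normalizes `K`,
centralizes `W = W_K`; `V = Ω₁ Z(Q)` contains `W`, is normal in `X`, and `[V, K] ≤ W`.
-/

set_option autoImplicit false

namespace Cfsg.Agent.Lead.JSub

open Cfsg Cfsg.Agent.Lead.JComp
open scoped commutatorElement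

variable {G : Type*} [Group G]

/-- `K` is a 3-component (for some auxiliary `J'`) subnormal in `⟨K, J⟩` -/
structure SCtx (K J J' : Subgroup G) : Prop where
  ctx : Ctx K J'
  hsn : (K.subgroupOf (K ⊔ J)).IsSubnormal

namespace SCtx

variable {K J J' : Subgroup G}

/-- `Q = O₂(X)` -/
abbrev Qs (K J : Subgroup G) : Subgroup G := Cfsg.pCoreOf 2 (K ⊔ J)

/-- `V = Ω₁ Z(O₂(X))` -/
abbrev Vs (K J : Subgroup G) : Subgroup G := Cfsg.omegaCenterOf (Cfsg.pCoreOf 2 (K ⊔ J))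

theorem Q_le_X (_h : SCtx K J J') : Qs K J ≤ K ⊔ J := Cfsg.Agent.Lead.LLem.pCoreOf_le _

theorem Q_pgroup (_h : SCtx K J J') : IsPGroup 2 (Qs K J) := Cfsg.Agent.Lead.LLem.isPGroup_pCoreOf _

theorem X_le_normQ (_h : SCtx K J J') :
    K ⊔ J ≤ Subgroup.normalizer ((Qs K J : Subgroup G) : Set G) :=
  Cfsg.Agent.Lead.KInf.pCoreOf_le_normalizer 2 _

theorem conj_Q (h : SCtx K J J') {x q : G} (hx : x ∈ K ⊔ J) (hq : q ∈ Qs K J) :
    x * q * x⁻¹ ∈ Qs K J :=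
  (Subgroup.mem_normalizer_iff.mp (h.X_le_normQ hx) q).mp hq

variable [Finite G]

theorem Q_le_normK (h : SCtx K J J') : Qs K J ≤ Subgroup.normalizer (K : Set G) :=
  pCoreOf_le_normalizer_of_subnormal le_sup_left h.hsn h.ctx.hgen

theorem conj_K_of_Q (h : SCtx K J J') {q k : G} (hq : q ∈ Qs K J) (hk : k ∈ K) :
    q * k * q⁻¹ ∈ K :=
  (Subgroup.mem_normalizer_iff.mp (h.Q_le_normK hq) k).mp hk

theorem conj_W_of_Q (h : SCtx K J J') {q w : G} (hq : q ∈ Qs K J) (hw : w ∈ Cfsg.wOf K) :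
    q * w * q⁻¹ ∈ Cfsg.wOf K :=
  conj_mem_of_map_eq (wOf_conj (h.Q_le_normK hq)) hw

theorem R_le_Q (h : SCtx K J J') : Cfsg.pCoreOf 2 K ≤ Qs K J :=
  pCoreOf_le_pCoreOf_of_subnormal le_sup_left h.hsn

theorem W_le_Q (h : SCtx K J J') : Cfsg.wOf K ≤ Qs K J := h.ctx.W_le_R.trans h.R_le_Q

/-- `K ∩ Q ≤ R` -/
theorem K_inf_Q_le_R (h : SCtx K J J') : K ⊓ Qs K J ≤ Cfsg.pCoreOf 2 K := by
  apply Cfsg.Agent.Lead.LLem.le_pCoreOf inf_le_left (h.Q_pgroup.to_le inf_le_right)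
  intro k hk
  rw [Subgroup.mem_normalizer_iff]
  intro x
  have hkX : k ∈ K ⊔ J := le_sup_left (a := K) hk
  constructor
  · rintro ⟨hxK, hxQ⟩
    exact ⟨K.mul_mem (K.mul_mem hk hxK) (K.inv_mem hk), h.conj_Q hkX hxQ⟩
  · rintro ⟨hxK, hxQ⟩
    have e : x = k⁻¹ * (k * x * k⁻¹) * k⁻¹⁻¹ := by group
    rw [e]
    exact ⟨K.mul_mem (K.mul_mem (K.inv_mem hk) hxK) (K.inv_mem (K.inv_mem hk)),
      h.conj_Q (Subgroup.inv_mem _ hkX) hxQ⟩

/-- there is an element of `K ∖ R` -/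
theorem exists_c (h : SCtx K J J') : ∃ c ∈ K, c ∉ Cfsg.pCoreOf 2 K := by
  by_contra hcon
  push_neg at hcon
  exact h.ctx.R_ne_K hcon

/-- `Q` centralizes `W` -/
theorem Q_comm_W (h : SCtx K J J') {q w : G} (hq : q ∈ Qs K J) (hw : w ∈ Cfsg.wOf K) :
    q * w = w * q := by
  have : Fact (Nat.Prime 2) := ⟨Nat.prime_two⟩
  obtain ⟨c, hcK, hcR⟩ := h.exists_c
  -- a nontrivial element of `W` centralized by `Q`
  obtain ⟨x, hxW, hxo, hxc⟩ := Cfsg.Agent.Helper5.exists_orderOf_eq_prime_central (p := 2)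
    (Qs K J) (Cfsg.wOf K) h.Q_pgroup h.W_le_Q h.ctx.W_ne_bot
    (fun q hq => by
      rw [Subgroup.mem_normalizer_iff]
      intro w
      constructor
      · exact fun hw => h.conj_W_of_Q hq hw
      · intro hw
        have := h.conj_W_of_Q (Subgroup.inv_mem _ hq) hw
        have e : q⁻¹ * (q * w * q⁻¹) * q⁻¹⁻¹ = w := by group
        rwa [e] at this)
  have hx1 : x ≠ 1 := by
    intro h1
    rw [h1, orderOf_one] at hxo
    norm_num at hxo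
  -- its conjugate under `c`
  have hyW : c * x * c⁻¹ ∈ Cfsg.wOf K := h.ctx.conj_W (le_sup_left (a := K) hcK) hxW
  have hy1 : c * x * c⁻¹ ≠ 1 := by
    intro h1
    apply hx1
    have : x = c⁻¹ * (c * x * c⁻¹) * c := by group
    rw [this, h1]; group
  have hxy : x ≠ c * x * c⁻¹ := by
    intro he
    exact hx1 (h.ctx.fixedfree hcK hcR hxW he.symm)
  have hyc : ∀ t ∈ Qs K J, t * (c * x * c⁻¹) = (c * x * c⁻¹) * t := by
    intro t ht
    have ht' : c⁻¹ * t * c⁻¹⁻¹ ∈ Qs K J :=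
      h.conj_Q (Subgroup.inv_mem _ (le_sup_left (a := K) hcK)) ht
    have e := hxc _ ht'
    calc t * (c * x * c⁻¹) = c * ((c⁻¹ * t * c⁻¹⁻¹) * x) * c⁻¹ := by group
      _ = c * (x * (c⁻¹ * t * c⁻¹⁻¹)) * c⁻¹ := by rw [e]
      _ = (c * x * c⁻¹) * t := by group
  rcases four_enum _ h.ctx.hW4 h.ctx.hWsq hxW hyW hx1 hy1 hxy w hw with e | e | e | e
  · rw [e]; simp
  · rw [e]; exact hxc q hq
  · rw [e]; exact hyc q hq
  · rw [e, ← mul_assoc, hxc q hq, mul_assoc, hyc q hq, ← mul_assoc]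

theorem W_le_V (h : SCtx K J J') : Cfsg.wOf K ≤ Vs K J := by
  intro w hw
  exact mem_omegaCenterOf_of (h.W_le_Q hw) (fun q hq => h.Q_comm_W hq hw) (h.ctx.hWsq w hw)

theorem V_le_Q (_h : SCtx K J J') : Vs K J ≤ Qs K J := fun _ hv => (mem_omegaCenterOf hv).1

theorem Q_comm_V (_h : SCtx K J J') {q v : G} (hq : q ∈ Qs K J) (hv : v ∈ Vs K J) :
    q * v = v * q := (mem_omegaCenterOf hv).2.1 q hq

theorem V_comm (h : SCtx K J J') {u v : G} (hu : u ∈ Vs K J) (hv : v ∈ Vs K J) :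
    u * v = v * u := h.Q_comm_V (h.V_le_Q hu) hv

theorem V_sq (_h : SCtx K J J') {v : G} (hv : v ∈ Vs K J) : v * v = 1 := (mem_omegaCenterOf hv).2.2

theorem V_inv (h : SCtx K J J') {v : G} (hv : v ∈ Vs K J) : v⁻¹ = v :=
  inv_eq_of_mul_eq_one_left (h.V_sq hv)

theorem conj_V (h : SCtx K J J') {x v : G} (hx : x ∈ K ⊔ J) (hv : v ∈ Vs K J) :
    x * v * x⁻¹ ∈ Vs K J :=
  conj_mem_of_map_eq (omegaCenterOf_conj (h.X_le_normQ hx)) hv

theorem V_ea (h : SCtx K J J') : Cfsg.IsElementaryAbelian 2 (Vs K J) := by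
  refine ⟨⟨⟨?_⟩⟩, fun v hv => by rw [pow_two]; exact h.V_sq hv⟩
  rintro ⟨x, hx⟩ ⟨y, hy⟩
  apply Subtype.ext
  exact h.V_comm hx hy

theorem V_le_X (h : SCtx K J J') : Vs K J ≤ K ⊔ J := h.V_le_Q.trans h.Q_le_X

end SCtx

end Cfsg.Agent.Lead.JSub
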