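import Mathlib
import Cfsg.Prelude.Def_JComponents
import Cfsg.Agent.Lead.JSubB

/-!
Lead: `[V, K] ≤ W` for `V = Ω₁ Z(O₂(X))`, `K` a subnormal 3-component of `X`.
-/

set_option autoImplicit false
set_option linter.unusedSectionVars false

namespace Cfsg.Agent.Lead.JSub

open Cfsg Cfsg.Agent.Lead.JComp
open scoped commutatorElement

variable {G : Type*} [Group G]

namespace SCtx

variable {K J J' : Subgroup G} [Finite G]

/-- `[v, k] ∈ Ω₁ Z(O₂(K))` for `v ∈ V`, `k ∈ K` -/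
theorem comm_mem_VK (h : SCtx K J J') {v k : G} (hv : v ∈ Vs K J) (hk : k ∈ K) :
    ⁅v, k⁆ ∈ Cfsg.omegaCenterOf (Cfsg.pCoreOf 2 K) := by
  have hkX : k ∈ K ⊔ J := le_sup_left (a := K) hk
  have huK : ⁅v, k⁆ ∈ K := by
    rw [commutatorElement_def]
    exact K.mul_mem (h.conj_K_of_Q (h.V_le_Q hv) hk) (K.inv_mem hk)
  have huV : ⁅v, k⁆ ∈ Vs K J := by
    have e : ⁅v, k⁆ = v * (k * v⁻¹ * k⁻¹) := by rw [commutatorElement_def]; group
    rw [e]
    exact Subgroup.mul_mem _ hv (h.conj_V hkX (Subgroup.inv_mem _ hv))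
  have huR : ⁅v, k⁆ ∈ Cfsg.pCoreOf 2 K := h.K_inf_Q_le_R ⟨huK, h.V_le_Q huV⟩
  exact mem_omegaCenterOf_of huR (fun r hr => h.Q_comm_V (h.R_le_Q hr) huV) (h.V_sq huV)

theorem V_pgroup (h : SCtx K J J') : IsPGroup 2 (Vs K J) := h.Q_pgroup.to_le h.V_le_Q

/-- for `g ∈ K` of odd order, `[V, ⟨g⟩] ≤ W` -/
theorem comm_zpowers_le_W (h : SCtx K J J') {g : G} (hg : g ∈ K) (hodd : Odd (orderOf g)) :
    ⁅Vs K J, Subgroup.zpowers g⁆ ≤ Cfsg.wOf K := by
  have hAK : Subgroup.zpowers g ≤ K := by rw [Subgroup.zpowers_le]; exact hg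
  have hAn : Subgroup.zpowers g ≤ Subgroup.normalizer ((Vs K J : Subgroup G) : Set G) := by
    intro a ha
    have haX : a ∈ K ⊔ J := le_sup_left (a := K) (hAK ha)
    rw [Subgroup.mem_normalizer_iff]
    intro v
    constructor
    · exact fun hv => h.conj_V haX hv
    · intro hv
      have := h.conj_V (Subgroup.inv_mem _ haX) hv
      have e : a⁻¹ * (a * v * a⁻¹) * a⁻¹⁻¹ = v := by group
      rwa [e] at this
  have hcop : (Nat.card (Subgroup.zpowers g)).Coprime (Nat.card (Vs K J)) := by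
    rw [Nat.card_zpowers]
    obtain ⟨n, hn⟩ := IsPGroup.iff_card.mp h.V_pgroup
    rw [hn]
    exact Nat.Coprime.pow_right n (Nat.coprime_two_right.mpr hodd)
  have hsolv : Group.IsSolvable (Subgroup.zpowers g) ∨ Group.IsSolvable (Vs K J) := by
    left
    haveI : IsMulCommutative (Subgroup.zpowers g) := inferInstance
    infer_instance
  have key := Cfsg.Agent.Helper1.coprime_commutator_commutator (Subgroup.zpowers g) (Vs K J)
    hAn hcop hsolv
  have h1 : ⁅Vs K J, Subgroup.zpowers g⁆ ≤ Cfsg.omegaCenterOf (Cfsg.pCoreOf 2 K) := by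
    rw [Subgroup.commutator_le]
    intro v hv a ha
    exact h.comm_mem_VK hv (hAK ha)
  rw [← key]
  unfold Cfsg.wOf
  exact Subgroup.commutator_mono h1 hAK

/-- `[v, k] ∈ W` for `v ∈ V`, `k ∈ K` -/
theorem comm_mem_W (h : SCtx K J J') {v k : G} (hv : v ∈ Vs K J) (hk : k ∈ K) :
    ⁅v, k⁆ ∈ Cfsg.wOf K := by
  have hk' : k ∈ Subgroup.closure {g : G | g ∈ K ∧ Odd (orderOf g)} := by rw [h.ctx.hgen]; exact hk
  clear hk
  have key : k ∈ K ∧ ∀ v ∈ Vs K J, ⁅v, k⁆ ∈ Cfsg.wOf K := by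
    induction hk' using Subgroup.closure_induction with
    | mem g hg =>
      refine ⟨hg.1, fun v hv => ?_⟩
      exact h.comm_zpowers_le_W hg.1 hg.2
        (Subgroup.commutator_mem_commutator hv (Subgroup.mem_zpowers g))
    | one => exact ⟨K.one_mem, fun v _ => by simp⟩
    | mul x y _ _ hx hy =>
      refine ⟨K.mul_mem hx.1 hy.1, fun v hv => ?_⟩
      have e : ⁅v, x * y⁆ = ⁅v, x⁆ * (x * ⁅v, y⁆ * x⁻¹) := by
        simp only [commutatorElement_def]; group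
      rw [e]
      exact Subgroup.mul_mem _ (hx.2 v hv)
        (h.ctx.conj_W (le_sup_left (a := K) hx.1) (hy.2 v hv))
    | inv x _ hx =>
      refine ⟨K.inv_mem hx.1, fun v hv => ?_⟩
      have e : ⁅v, x⁻¹⁆ = x⁻¹ * (⁅v, x⁆)⁻¹ * x⁻¹⁻¹ := by
        simp only [commutatorElement_def]; group
      rw [e]
      exact h.ctx.conj_W (le_sup_left (a := K) (K.inv_mem hx.1)) (Subgroup.inv_mem _ (hx.2 v hv))
  exact key.2 v hv

/-- `k v k⁻¹ ∈ v W` -/
theorem conj_V_mod_W (h : SCtx K J J') {v k : G} (hv : v ∈ Vs K J) (hk : k ∈ K) :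
    v⁻¹ * (k * v * k⁻¹) ∈ Cfsg.wOf K := by
  have e : v⁻¹ * (k * v * k⁻¹) = ⁅v⁻¹, k⁆ := by
    simp only [commutatorElement_def]; group
  rw [e]
  exact h.comm_mem_W (Subgroup.inv_mem _ hv) hk

end SCtx

end Cfsg.Agent.Lead.JSub
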