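import Mathlib
import Cfsg.Prelude.Def_JComponents
import Cfsg.Agent.Lead.JSubC

/-!
Lead: for a subnormal 3-component `K` of `X = ⟨K, J⟩` and `y ∈ X`: either `y` normalizes `W = W_K`, or
`W^y ∩ W = 1`, `K` centralizes `W^y` and `K^y` centralizes `W`.  Proved by induction along a subnormal chain.
-/

set_option autoImplicit false
set_option linter.unusedSectionVars false

namespace Cfsg.Agent.Lead.JSub

open Cfsg Cfsg.Agent.Lead.JComp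
open scoped commutatorElement

variable {G : Type*} [Group G]

/-- the dichotomy for the conjugates of `W_K` under the elements of `M` -/
def Inv (K M : Subgroup G) : Prop :=
  ∀ y ∈ M, (∀ w ∈ Cfsg.wOf K, y * w * y⁻¹ ∈ Cfsg.wOf K) ∨
    ((∀ w ∈ Cfsg.wOf K, y * w * y⁻¹ ∈ Cfsg.wOf K → w = 1) ∧
     (∀ k ∈ K, ∀ w ∈ Cfsg.wOf K, k * (y * w * y⁻¹) = (y * w * y⁻¹) * k) ∧
     (∀ k ∈ K, ∀ w ∈ Cfsg.wOf K, (y * k * y⁻¹) * w = w * (y * k * y⁻¹)))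

namespace SCtx

variable {K J J' : Subgroup G} [Finite G]

/-- `[V, K^z] ≤ W^z` -/
theorem conj_V_mod_W' (h : SCtx K J J') {z v k : G} (hz : z ∈ K ⊔ J) (hv : v ∈ Vs K J) (hk : k ∈ K) :
    ∃ w ∈ Cfsg.wOf K, v⁻¹ * ((z * k * z⁻¹) * v * (z * k * z⁻¹)⁻¹) = z * w * z⁻¹ := by
  have hv' : z⁻¹ * v * z⁻¹⁻¹ ∈ Vs K J := h.conj_V (Subgroup.inv_mem _ hz) hv
  refine ⟨_, h.conj_V_mod_W hv' hk, ?_⟩
  group

/-- `c^z` acts fixed-point-freely on `W^z` -/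
theorem fixedfree' (h : SCtx K J J') {z c w : G} (hc : c ∈ K) (hcR : c ∉ Cfsg.pCoreOf 2 K)
    (hw : w ∈ Cfsg.wOf K)
    (hfix : (z * c * z⁻¹) * (z * w * z⁻¹) * (z * c * z⁻¹)⁻¹ = z * w * z⁻¹) : w = 1 := by
  apply h.ctx.fixedfree hc hcR hw
  have e : c * w * c⁻¹ = z⁻¹ * ((z * c * z⁻¹) * (z * w * z⁻¹) * (z * c * z⁻¹)⁻¹) * z := by group
  rw [e, hfix]; group

/-- `R^z` centralizes `V` -/
theorem conj_R_comm_V (h : SCtx K J J') {z r v : G} (hz : z ∈ K ⊔ J) (hr : r ∈ Cfsg.pCoreOf 2 K)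
    (hv : v ∈ Vs K J) : (z * r * z⁻¹) * v = v * (z * r * z⁻¹) :=
  h.Q_comm_V (h.conj_Q hz (h.R_le_Q hr)) hv

theorem W_le_X (h : SCtx K J J') : Cfsg.wOf K ≤ K ⊔ J := h.W_le_V.trans h.V_le_X

/-- the cube of an element of `K` lies in `R` -/
theorem cube_mem_R (h : SCtx K J J') {c : G} (hc : c ∈ K) : c ^ 3 ∈ Cfsg.pCoreOf 2 K := by
  have hRK : Cfsg.pCoreOf 2 K ≤ K := h.ctx.R_le
  have hn : ((Cfsg.pCoreOf 2 K).subgroupOf K).Normal :=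
    (Subgroup.normal_subgroupOf_iff_le_normalizer hRK).mpr
      (Cfsg.Agent.Lead.KInf.pCoreOf_le_normalizer 2 K)
  have := Subgroup.pow_index_mem ((Cfsg.pCoreOf 2 K).subgroupOf K) (⟨c, hc⟩ : ↥K)
  have hidx : ((Cfsg.pCoreOf 2 K).subgroupOf K).index = 3 := h.ctx.h3
  rw [hidx, Subgroup.mem_subgroupOf] at this
  simpa using this

end SCtx

end Cfsg.Agent.Lead.JSub

namespace Cfsg.Agent.Lead.JSub

open Cfsg Cfsg.Agent.Lead.JComp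
open scoped commutatorElement

variable {G : Type*} [Group G]

namespace SCtx

variable {K J J' : Subgroup G} [Finite G]

/-- an injective self-map of `W` given by a conjugation-type formula is surjective -/
theorem W_surj (_h : SCtx K J J') (f : G → G) (hf : ∀ w ∈ Cfsg.wOf K, f w ∈ Cfsg.wOf K)
    (hinj : ∀ w ∈ Cfsg.wOf K, ∀ w' ∈ Cfsg.wOf K, f w = f w' → w = w') :
    ∀ u ∈ Cfsg.wOf K, ∃ w ∈ Cfsg.wOf K, f w = u := by
  let F : ↥(Cfsg.wOf K) → ↥(Cfsg.wOf K) := fun w => ⟨f w, hf w w.2⟩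
  have hFinj : Function.Injective F := by
    intro a b hab
    apply Subtype.ext
    apply hinj a a.2 b b.2
    exact congrArg Subtype.val hab
  have hFsurj := Finite.surjective_of_injective hFinj
  intro u hu
  obtain ⟨w, hw⟩ := hFsurj ⟨u, hu⟩
  exact ⟨w, w.2, congrArg Subtype.val hw⟩

theorem conj_W_mem_V (h : SCtx K J J') {x w : G} (hx : x ∈ K ⊔ J) (hw : w ∈ Cfsg.wOf K) :
    x * w * x⁻¹ ∈ Vs K J := h.conj_V hx (h.W_le_V hw)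

/-- key step, abstract form: `c'` acts on `V` with `c'^3` trivial, `[V, c'] ⊆ W^z`; if `c'` and `c'^2` satisfy
the dichotomy then `c'` normalizes `W` -/
theorem conj_norm_W_aux (h : SCtx K J J') {z c c' : G} (hc : c ∈ K) (hcR : c ∉ Cfsg.pCoreOf 2 K)
    (hc'X : c' ∈ K ⊔ J)
    (hcube : ∀ v ∈ Vs K J, c' * (c' * (c' * v * c'⁻¹) * c'⁻¹) * c'⁻¹ = v)
    (hmod : ∀ v ∈ Vs K J, ∃ w0 ∈ Cfsg.wOf K, v⁻¹ * (c' * v * c'⁻¹) = z * w0 * z⁻¹)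
    (hd1 : (∀ w ∈ Cfsg.wOf K, c' * w * c'⁻¹ ∈ Cfsg.wOf K) ∨
      ((∀ w ∈ Cfsg.wOf K, c' * w * c'⁻¹ ∈ Cfsg.wOf K → w = 1) ∧
        (∀ k ∈ K, ∀ w ∈ Cfsg.wOf K, k * (c' * w * c'⁻¹) = (c' * w * c'⁻¹) * k)))
    (hd2 : (∀ w ∈ Cfsg.wOf K, (c' * c') * w * (c' * c')⁻¹ ∈ Cfsg.wOf K) ∨
        (∀ k ∈ K, ∀ w ∈ Cfsg.wOf K, k * ((c' * c') * w * (c' * c')⁻¹) = ((c' * c') * w * (c' * c')⁻¹) * k)) :
    ∀ w ∈ Cfsg.wOf K, c' * w * c'⁻¹ ∈ Cfsg.wOf K := by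
  rcases hd1 with h1 | ⟨ha, hb⟩
  · exact h1
  exfalso
  obtain ⟨w, hwW, hw1⟩ : ∃ w ∈ Cfsg.wOf K, w ≠ 1 := by
    by_contra hcon
    push Not at hcon
    apply h.ctx.W_ne_bot
    rw [eq_bot_iff]
    intro x hx
    rw [Subgroup.mem_bot]
    exact hcon x hx
  rcases hd2 with h2 | hb2
  · -- `c'^2` normalizes `W`: contradiction
    have hw'' := h2 w hwW
    have e : c' * ((c' * c') * w * (c' * c')⁻¹) * c'⁻¹ = w := by
      calc c' * ((c' * c') * w * (c' * c')⁻¹) * c'⁻¹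
          = c' * (c' * (c' * w * c'⁻¹) * c'⁻¹) * c'⁻¹ := by group
        _ = w := hcube w (h.W_le_V hwW)
    have h0 := ha _ hw'' (by rw [e]; exact hwW)
    apply hw1
    calc w = (c' * c')⁻¹ * ((c' * c') * w * (c' * c')⁻¹) * (c' * c') := by group
      _ = 1 := by rw [h0]; group
  -- main computation
  obtain ⟨w1, hw1d⟩ : ∃ w1, w1 = c' * w * c'⁻¹ := ⟨_, rfl⟩
  obtain ⟨w2, hw2d⟩ : ∃ w2, w2 = c' * w1 * c'⁻¹ := ⟨_, rfl⟩
  have hw1V : w1 ∈ Vs K J := hw1d ▸ h.conj_W_mem_V hc'X hwW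
  -- the map `u ↦ z⁻¹ (u⁻¹ c' u c'⁻¹) z` on `W`
  let f : G → G := fun u => z⁻¹ * (u⁻¹ * (c' * u * c'⁻¹)) * z
  have hfW : ∀ u ∈ Cfsg.wOf K, f u ∈ Cfsg.wOf K := by
    intro u hu
    obtain ⟨w0, hw0, e⟩ := hmod u (h.W_le_V hu)
    show z⁻¹ * (u⁻¹ * (c' * u * c'⁻¹)) * z ∈ Cfsg.wOf K
    rw [e]
    have : z⁻¹ * (z * w0 * z⁻¹) * z = w0 := by group
    rw [this]; exact hw0
  have hfinj : ∀ u ∈ Cfsg.wOf K, ∀ u' ∈ Cfsg.wOf K, f u = f u' → u = u' := by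
    intro u hu u' hu' he
    have he' : u⁻¹ * (c' * u * c'⁻¹) = u'⁻¹ * (c' * u' * c'⁻¹) := by
      have e1 : ∀ t : G, z * (z⁻¹ * t * z) * z⁻¹ = t := fun t => by group
      have h2 : z * f u * z⁻¹ = z * f u' * z⁻¹ := by rw [he]
      simp only [f] at h2
      rwa [e1, e1] at h2
    have hx : c' * (u' * u⁻¹) * c'⁻¹ = u' * u⁻¹ := by
      have e2 : c' * u * c'⁻¹ = u * (u'⁻¹ * (c' * u' * c'⁻¹)) := by
        rw [← he']; group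
      have e1 : c' * (u' * u⁻¹) * c'⁻¹ = (c' * u' * c'⁻¹) * (c' * u * c'⁻¹)⁻¹ := by group
      rw [e1, e2]
      group
    have hxW : u' * u⁻¹ ∈ Cfsg.wOf K := Subgroup.mul_mem _ hu' (Subgroup.inv_mem _ hu)
    have h0 := ha _ hxW (by rw [hx]; exact hxW)
    have : u' = u := by
      calc u' = (u' * u⁻¹) * u := by group
        _ = u := by rw [h0, one_mul]
    exact this.symm
  have hsurj := h.W_surj f hfW hfinj
  -- `s = w1⁻¹ w2 ∈ W^z`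
  obtain ⟨u0, hu0, es⟩ := hmod w1 hw1V
  obtain ⟨u, hu, efu⟩ := hsurj u0 hu0
  have es' : w1⁻¹ * w2 = u⁻¹ * (c' * u * c'⁻¹) := by
    have : z * f u * z⁻¹ = u⁻¹ * (c' * u * c'⁻¹) := by simp only [f]; group
    rw [← this, efu, hw2d]
    exact es
  -- conjugate by `c`
  have hcw1 : c * w1 = w1 * c := hw1d ▸ hb c hc w hwW
  have hcw2 : c * w2 = w2 * c := by
    have := hb2 c hc w hwW
    have e : (c' * c') * w * (c' * c')⁻¹ = w2 := by rw [hw2d, hw1d]; group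
    rwa [e] at this
  have hcu1 : c * (c' * u * c'⁻¹) = (c' * u * c'⁻¹) * c := hb c hc u hu
  have hcs : c * (w1⁻¹ * w2) * c⁻¹ = w1⁻¹ * w2 := by
    have e1 : c * w1⁻¹ = w1⁻¹ * c := by
      calc c * w1⁻¹ = w1⁻¹ * (w1 * c) * w1⁻¹ := by group
        _ = w1⁻¹ * (c * w1) * w1⁻¹ := by rw [hcw1]
        _ = w1⁻¹ * c := by group
    calc c * (w1⁻¹ * w2) * c⁻¹ = (c * w1⁻¹) * w2 * c⁻¹ := by group
      _ = w1⁻¹ * (c * w2) * c⁻¹ := by rw [e1]; group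
      _ = w1⁻¹ * w2 := by rw [hcw2]; group
  have hcu : c * u⁻¹ * c⁻¹ = u⁻¹ := by
    have e1 : c * (u⁻¹ * (c' * u * c'⁻¹)) * c⁻¹ = (c * u⁻¹ * c⁻¹) * (c' * u * c'⁻¹) := by
      calc c * (u⁻¹ * (c' * u * c'⁻¹)) * c⁻¹ = (c * u⁻¹ * c⁻¹) * (c * (c' * u * c'⁻¹)) * c⁻¹ := by group
        _ = (c * u⁻¹ * c⁻¹) * (c' * u * c'⁻¹) := by rw [hcu1]; group
    rw [es'] at hcs
    rw [e1] at hcs
    exact mul_right_cancel hcs
  have hu1 : u = 1 := by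
    have := h.ctx.fixedfree hc hcR (Subgroup.inv_mem _ hu) hcu
    exact inv_eq_one.mp this
  rw [hu1] at es'
  have hw12 : w2 = w1 := by
    have : w1⁻¹ * w2 = 1 := by rw [es']; group
    exact (inv_mul_eq_one.mp this).symm
  -- so `c'` fixes `w1 = c' w c'⁻¹`, hence fixes `w`
  have hfixw : c' * w * c'⁻¹ = w := by
    have e : c' * (c' * w * c'⁻¹) * c'⁻¹ = c' * w * c'⁻¹ := by
      rw [← hw1d, ← hw2d]; exact hw12
    calc c' * w * c'⁻¹ = c'⁻¹ * (c' * (c' * w * c'⁻¹) * c'⁻¹) * c' := by group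
      _ = c'⁻¹ * (c' * w * c'⁻¹) * c' := by rw [e]
      _ = w := by group
  exact hw1 (ha w hwW (by rw [hfixw]; exact hwW))

/-- key step: if `c^z ∈ M` for `c ∈ K ∖ R`, then `c^z` normalizes `W` -/
theorem conj_norm_W (h : SCtx K J J') {M : Subgroup G} (hinv : Inv K M) {z c : G}
    (hz : z ∈ K ⊔ J) (hc : c ∈ K) (hcR : c ∉ Cfsg.pCoreOf 2 K) (hcM : z * c * z⁻¹ ∈ M) :
    ∀ w ∈ Cfsg.wOf K, (z * c * z⁻¹) * w * (z * c * z⁻¹)⁻¹ ∈ Cfsg.wOf K := by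
  have hc'X : z * c * z⁻¹ ∈ K ⊔ J :=
    Subgroup.mul_mem _ (Subgroup.mul_mem _ hz (le_sup_left (a := K) hc)) (Subgroup.inv_mem _ hz)
  apply h.conj_norm_W_aux (z := z) hc hcR hc'X
  · intro v hv
    have h3 := h.conj_R_comm_V hz (h.cube_mem_R hc) hv
    have e : (z * c * z⁻¹) * ((z * c * z⁻¹) * ((z * c * z⁻¹) * v * (z * c * z⁻¹)⁻¹) * (z * c * z⁻¹)⁻¹) *
        (z * c * z⁻¹)⁻¹ = (z * c ^ 3 * z⁻¹) * v * (z * c ^ 3 * z⁻¹)⁻¹ := by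
      simp only [pow_succ, pow_zero]; group
    rw [e, h3]; group
  · intro v hv
    exact h.conj_V_mod_W' hz hv hc
  · rcases hinv _ hcM with h1 | ⟨ha, hb, -⟩
    · exact Or.inl h1
    · exact Or.inr ⟨ha, hb⟩
  · rcases hinv _ (M.mul_mem hcM hcM) with h1 | ⟨-, hb, -⟩
    · exact Or.inl h1
    · exact Or.inr hb

end SCtx

end Cfsg.Agent.Lead.JSub
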