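import Mathlib
import Cfsg.Prelude.Def_JComponents
import Cfsg.Agent.Lead.JSubD

/-!
Lead: the dichotomy `Inv K X` for `X = ⟨K, J⟩`, by induction along a subnormal chain from `K` to `X`.
-/

set_option autoImplicit false
set_option linter.unusedSectionVars false

namespace Cfsg.Agent.Lead.JSub

open Cfsg Cfsg.Agent.Lead.JComp
open scoped commutatorElement

variable {G : Type*} [Group G]

namespace SCtx

variable {K J J' : Subgroup G} [Finite G]

/-- all of `K^z` normalizes `W` when `K^z ≤ M` and the dichotomy holds on `M` -/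
theorem conjK_norm_W (h : SCtx K J J') {M : Subgroup G} (hinv : Inv K M) {z : G}
    (hz : z ∈ K ⊔ J) (hKM : ∀ k ∈ K, z * k * z⁻¹ ∈ M) {k : G} (hk : k ∈ K) :
    ∀ w ∈ Cfsg.wOf K, (z * k * z⁻¹) * w * (z * k * z⁻¹)⁻¹ ∈ Cfsg.wOf K := by
  by_cases hkR : k ∈ Cfsg.pCoreOf 2 K
  · intro w hw
    have := h.conj_R_comm_V hz hkR (h.W_le_V hw)
    rw [this]
    have e : w * (z * k * z⁻¹) * (z * k * z⁻¹)⁻¹ = w := by group
    rw [e]; exact hw
  · exact h.conj_norm_W hinv hz hk hkR (hKM k hk)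

theorem inv_step (h : SCtx K J J') {M M' : Subgroup G} (hKM : K ≤ M) (hM'X : M' ≤ K ⊔ J)
    (hnorm : ∀ z ∈ M', ∀ m ∈ M, z * m * z⁻¹ ∈ M) (hinv : Inv K M) : Inv K M' := by
  intro z hzM'
  have hz : z ∈ K ⊔ J := hM'X hzM'
  have hzi : z⁻¹ ∈ K ⊔ J := Subgroup.inv_mem _ hz
  -- (1) `K^z` normalizes `W`
  have h1 : ∀ k ∈ K, ∀ w ∈ Cfsg.wOf K, (z * k * z⁻¹) * w * (z * k * z⁻¹)⁻¹ ∈ Cfsg.wOf K :=
    fun k hk => h.conjK_norm_W hinv hz (fun k hk => hnorm z hzM' k (hKM hk)) hk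
  -- (2) `K` normalizes `W^z`
  have h2 : ∀ k ∈ K, ∀ w ∈ Cfsg.wOf K, ∃ w' ∈ Cfsg.wOf K, k * (z * w * z⁻¹) * k⁻¹ = z * w' * z⁻¹ := by
    intro k hk w hw
    have := h.conjK_norm_W hinv hzi
      (fun k hk => hnorm z⁻¹ (M'.inv_mem hzM') k (hKM hk)) hk w hw
    refine ⟨_, this, ?_⟩
    group
  by_cases ha : ∀ w ∈ Cfsg.wOf K, z * w * z⁻¹ ∈ Cfsg.wOf K → w = 1
  · right
    refine ⟨ha, ?_, ?_⟩
    · intro k hk w hw
      obtain ⟨w', hw', e⟩ := h2 k hk w hw
      have hxV : z * w * z⁻¹ ∈ Vs K J := h.conj_W_mem_V hz hw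
      have hmod := h.conj_V_mod_W hxV hk
      rw [e] at hmod
      have e2 : (z * w * z⁻¹)⁻¹ * (z * w' * z⁻¹) = z * (w⁻¹ * w') * z⁻¹ := by group
      rw [e2] at hmod
      have h0 := ha _ (Subgroup.mul_mem _ (Subgroup.inv_mem _ hw) hw') hmod
      have hww' : w' = w := by
        calc w' = w * (w⁻¹ * w') := by group
          _ = w := by rw [h0, mul_one]
      rw [hww'] at e
      calc k * (z * w * z⁻¹) = (k * (z * w * z⁻¹) * k⁻¹) * k := by group
        _ = (z * w * z⁻¹) * k := by rw [e]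
    · intro k hk w hw
      have hw' := h1 k hk w hw
      obtain ⟨w0, hw0, e⟩ := h.conj_V_mod_W' hz (h.W_le_V hw) hk
      have hmem : z * w0 * z⁻¹ ∈ Cfsg.wOf K := by
        rw [← e]
        exact Subgroup.mul_mem _ (Subgroup.inv_mem _ hw) hw'
      have h0 := ha w0 hw0 hmem
      rw [h0] at e
      have e3 : z * (1 : G) * z⁻¹ = 1 := by group
      rw [e3] at e
      have e4 : (z * k * z⁻¹) * w * (z * k * z⁻¹)⁻¹ = w := by
        calc (z * k * z⁻¹) * w * (z * k * z⁻¹)⁻¹ = w * (w⁻¹ * ((z * k * z⁻¹) * w * (z * k * z⁻¹)⁻¹)) := by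
              group
          _ = w := by rw [e, mul_one]
      calc (z * k * z⁻¹) * w = ((z * k * z⁻¹) * w * (z * k * z⁻¹)⁻¹) * (z * k * z⁻¹) := by group
        _ = w * (z * k * z⁻¹) := by rw [e4]
  · left
    push Not at ha
    obtain ⟨w0, hw0, huW, hw01⟩ := ha
    obtain ⟨c, hcK, hcR⟩ := h.exists_c
    -- `u = z w0 z⁻¹ ∈ W ∩ W^z`
    have hu1 : z * w0 * z⁻¹ ≠ 1 := by
      intro he
      apply hw01
      calc w0 = z⁻¹ * (z * w0 * z⁻¹) * z := by group
        _ = 1 := by rw [he]; group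
    have hcu : c * (z * w0 * z⁻¹) * c⁻¹ ∈ Cfsg.wOf K := h.ctx.conj_W (le_sup_left (a := K) hcK) huW
    have hcu1 : c * (z * w0 * z⁻¹) * c⁻¹ ≠ 1 := by
      intro he
      apply hu1
      calc z * w0 * z⁻¹ = c⁻¹ * (c * (z * w0 * z⁻¹) * c⁻¹) * c := by group
        _ = 1 := by rw [he]; group
    have hne : z * w0 * z⁻¹ ≠ c * (z * w0 * z⁻¹) * c⁻¹ := by
      intro he
      exact hu1 (h.ctx.fixedfree hcK hcR huW he.symm)
    -- `z⁻¹ W z ⊆ W`
    have hback : ∀ w ∈ Cfsg.wOf K, z⁻¹ * w * z ∈ Cfsg.wOf K := by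
      intro w hw
      obtain ⟨w', hw', e'⟩ := h2 c hcK w0 hw0
      rcases four_enum _ h.ctx.hW4 h.ctx.hWsq huW hcu hu1 hcu1 hne w hw with e | e | e | e
      · rw [e]; simp
      · rw [e]
        have : z⁻¹ * (z * w0 * z⁻¹) * z = w0 := by group
        rw [this]; exact hw0
      · rw [e, e']
        have : z⁻¹ * (z * w' * z⁻¹) * z = w' := by group
        rw [this]; exact hw'
      · rw [e, e']
        have : z⁻¹ * (z * w0 * z⁻¹ * (z * w' * z⁻¹)) * z = w0 * w' := by group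
        rw [this]; exact Subgroup.mul_mem _ hw0 hw'
    -- surjectivity
    have hsurj := h.W_surj (fun w => z⁻¹ * w * z) hback (by
      intro w _ w' _ he
      have : z * (z⁻¹ * w * z) * z⁻¹ = z * (z⁻¹ * w' * z) * z⁻¹ := by
        have he' : z⁻¹ * w * z = z⁻¹ * w' * z := he
        rw [he']
      have e1 : ∀ t : G, z * (z⁻¹ * t * z) * z⁻¹ = t := fun t => by group
      rwa [e1, e1] at this)
    intro w hw
    obtain ⟨w'', hw'', e⟩ := hsurj w hw
    have e' : z⁻¹ * w'' * z = w := e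
    rw [← e']
    have : z * (z⁻¹ * w'' * z) * z⁻¹ = w'' := by group
    rw [this]; exact hw''

/-- base of the induction: the elements of `K` normalize `W` -/
theorem inv_base (h : SCtx K J J') : Inv K K := by
  intro y hy
  left
  intro w hw
  exact h.ctx.conj_W (le_sup_left (a := K) hy) hw

theorem inv_of_subnormal (h : SCtx K J J') (H : Subgroup ↥(K ⊔ J)) (hH : H.IsSubnormal) :
    K.subgroupOf (K ⊔ J) ≤ H → Inv K (H.map (K ⊔ J).subtype) → Inv K (K ⊔ J) := by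
  induction hH with
  | top =>
    intro _ hinv
    have e : (⊤ : Subgroup ↥(K ⊔ J)).map (K ⊔ J).subtype = K ⊔ J := by
      rw [← MonoidHom.range_eq_map, Subgroup.range_subtype]
    rwa [e] at hinv
  | step H H' hle _ hN ih =>
    intro hK hinv
    apply ih (hK.trans hle)
    apply h.inv_step (M := H.map (K ⊔ J).subtype) _ _ _ hinv
    · intro k hk
      exact ⟨⟨k, le_sup_left (a := K) hk⟩, hK (Subgroup.mem_subgroupOf.mpr hk), rfl⟩
    · rintro _ ⟨x, _, rfl⟩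
      exact x.2
    · rintro _ ⟨z, hz, rfl⟩ _ ⟨m, hm, rfl⟩
      refine ⟨z * m * z⁻¹, ?_, by simp⟩
      have := hN.conj_mem ⟨m, hle hm⟩ (Subgroup.mem_subgroupOf.mpr hm) ⟨z, hz⟩
      rw [Subgroup.mem_subgroupOf] at this
      simpa using this

theorem inv_top (h : SCtx K J J') : Inv K (K ⊔ J) := by
  apply h.inv_of_subnormal _ h.hsn le_rfl
  rw [Subgroup.map_subgroupOf_eq_of_le le_sup_left]
  exact h.inv_base

end SCtx

end Cfsg.Agent.Lead.JSub
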