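import Mathlib
import Cfsg.Prelude.Def_JComponents
import Cfsg.Agent.Lead.JSubE
import Cfsg.Agent.Helper1.Card

/-!
Lead: the conjugates `W^b` (`b ∈ X = ⟨K, J⟩`) of `W = W_K` for a subnormal 3-component `K` of `X`: two of them
are equal or independent; a family of pairwise distinct ones generates their direct product.
-/

set_option autoImplicit false
set_option linter.unusedSectionVars false

namespace Cfsg.Agent.Lead.JSub

open Cfsg Cfsg.Agent.Lead.JComp
open scoped commutatorElement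

variable {G : Type*} [Group G]

/-- the conjugate `b W_K b⁻¹` -/
def cW (K : Subgroup G) (b : G) : Subgroup G := (Cfsg.wOf K).map (MulAut.conj b).toMonoidHom

theorem mem_cW {K : Subgroup G} {b x : G} : x ∈ cW K b ↔ ∃ w ∈ Cfsg.wOf K, b * w * b⁻¹ = x := by
  unfold cW
  rw [Subgroup.mem_map]
  rfl

theorem conj_mem_cW {K : Subgroup G} {b w : G} (hw : w ∈ Cfsg.wOf K) : b * w * b⁻¹ ∈ cW K b :=
  mem_cW.mpr ⟨w, hw, rfl⟩

theorem card_cW (K : Subgroup G) (b : G) : Nat.card ↥(cW K b) = Nat.card ↥(Cfsg.wOf K) :=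
  Subgroup.card_map_of_injective (MulAut.conj b).injective

theorem cW_one (K : Subgroup G) : cW K 1 = Cfsg.wOf K := by
  ext x
  rw [mem_cW]
  constructor
  · rintro ⟨w, hw, rfl⟩
    simpa using hw
  · intro hx
    exact ⟨x, hx, by simp⟩

namespace SCtx

variable {K J J' : Subgroup G} [Finite G]

theorem cW_le_V (h : SCtx K J J') {b : G} (hb : b ∈ K ⊔ J) : cW K b ≤ Vs K J := by
  intro x hx
  obtain ⟨w, hw, rfl⟩ := mem_cW.mp hx
  exact h.conj_W_mem_V hb hw

/-- pairwise dichotomy -/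
theorem pair (h : SCtx K J J') {b b' : G} (hb : b ∈ K ⊔ J) (hb' : b' ∈ K ⊔ J) :
    cW K b' ≤ cW K b ∨
      ((∀ x ∈ cW K b, x ∈ cW K b' → x = 1) ∧
       (∀ k ∈ K, ∀ x ∈ cW K b', (b * k * b⁻¹) * x = x * (b * k * b⁻¹))) := by
  have hy : b⁻¹ * b' ∈ K ⊔ J := Subgroup.mul_mem _ (Subgroup.inv_mem _ hb) hb'
  rcases h.inv_top _ hy with h1 | ⟨h1, h2, _⟩
  · left
    intro x hx
    obtain ⟨w, hw, rfl⟩ := mem_cW.mp hx
    refine mem_cW.mpr ⟨_, h1 w hw, ?_⟩
    group
  · right
    constructor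
    · intro x hxb hxb'
      obtain ⟨w1, hw1, rfl⟩ := mem_cW.mp hxb
      obtain ⟨w2, hw2, e⟩ := mem_cW.mp hxb'
      have e1 : (b⁻¹ * b') * w2 * (b⁻¹ * b')⁻¹ = w1 := by
        calc (b⁻¹ * b') * w2 * (b⁻¹ * b')⁻¹ = b⁻¹ * (b' * w2 * b'⁻¹) * b := by group
          _ = w1 := by rw [e]; group
      have := h1 w2 hw2 (by rw [e1]; exact hw1)
      rw [this] at e
      rw [← e]; group
    · intro k hk x hx
      obtain ⟨w, hw, rfl⟩ := mem_cW.mp hx
      have := h2 k hk w hw
      calc b * k * b⁻¹ * (b' * w * b'⁻¹) = b * (k * ((b⁻¹ * b') * w * (b⁻¹ * b')⁻¹)) * b⁻¹ := by group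
        _ = b * (((b⁻¹ * b') * w * (b⁻¹ * b')⁻¹) * k) * b⁻¹ := by rw [this]
        _ = b' * w * b'⁻¹ * (b * k * b⁻¹) := by group

/-- pairwise dichotomy, with equality -/
theorem pair' (h : SCtx K J J') {b b' : G} (hb : b ∈ K ⊔ J) (hb' : b' ∈ K ⊔ J) :
    cW K b' = cW K b ∨
      ((∀ x ∈ cW K b, x ∈ cW K b' → x = 1) ∧
       (∀ k ∈ K, ∀ x ∈ cW K b', (b * k * b⁻¹) * x = x * (b * k * b⁻¹))) := by
  rcases h.pair hb hb' with h1 | h1
  · left
    apply Subgroup.eq_of_le_of_card_ge h1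
    rw [card_cW, card_cW]
  · right; exact h1

/-- `c^b` has no fixed points on `W^b` -/
theorem cW_fixedfree (h : SCtx K J J') {c b x : G} (hc : c ∈ K) (hcR : c ∉ Cfsg.pCoreOf 2 K)
    (hx : x ∈ cW K b) (hcomm : (b * c * b⁻¹) * x = x * (b * c * b⁻¹)) : x = 1 := by
  obtain ⟨w, hw, rfl⟩ := mem_cW.mp hx
  have : w = 1 := by
    apply h.fixedfree' (z := b) hc hcR hw
    rw [hcomm]; group
  rw [this]; group

/-- a family of conjugates not containing `W^b` is centralized by `K^b` -/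
theorem sup_comm_conj (h : SCtx K J J') {A : Subgroup G} (hA : A ≤ K ⊔ J) {b : G} (hb : b ∈ A)
    (S : Finset (Subgroup G)) (hS : ∀ H ∈ S, ∃ b' ∈ A, H = cW K b') (hbS : cW K b ∉ S)
    {k : G} (hk : k ∈ K) : ∀ x ∈ S.sup id, (b * k * b⁻¹) * x = x * (b * k * b⁻¹) := by
  have : S.sup id ≤ Subgroup.centralizer {b * k * b⁻¹} := by
    apply Finset.sup_le
    intro H hH
    obtain ⟨b', hb', rfl⟩ := hS H hH
    rcases h.pair' (hA hb) (hA hb') with h1 | ⟨_, h2⟩
    · exfalso; apply hbS; rw [← h1]; exact hH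
    · intro x hx
      rw [Subgroup.mem_centralizer_iff]
      intro g hg
      rw [Set.mem_singleton_iff] at hg
      subst hg
      exact h2 k hk x hx
  intro x hx
  have := Subgroup.mem_centralizer_iff.mp (this hx) _ (Set.mem_singleton _)
  exact this

theorem sup_le_V (h : SCtx K J J') {A : Subgroup G} (hA : A ≤ K ⊔ J)
    (S : Finset (Subgroup G)) (hS : ∀ H ∈ S, ∃ b' ∈ A, H = cW K b') : S.sup id ≤ Vs K J := by
  apply Finset.sup_le
  intro H hH
  obtain ⟨b', hb', rfl⟩ := hS H hH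
  exact h.cW_le_V (hA hb')

/-- a subgroup of `V` normalizes any other subgroup of `V` -/
theorem le_normalizer_of_le_V (h : SCtx K J J') {H U : Subgroup G} (hH : H ≤ Vs K J) (hU : U ≤ Vs K J) :
    H ≤ Subgroup.normalizer (U : Set G) := by
  intro x hx
  rw [Subgroup.mem_normalizer_iff]
  intro u
  constructor
  · intro hu
    have : x * u * x⁻¹ = u := by
      rw [h.V_comm (hH hx) (hU hu)]; group
    rw [this]; exact hu
  · intro hu
    have e := h.V_comm (hH hx) (hU hu)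
    have : u = x * u * x⁻¹ := by
      calc u = x⁻¹ * ((x * u * x⁻¹) * x) := by group
        _ = x⁻¹ * (x * (x * u * x⁻¹)) := by rw [← e]
        _ = x * u * x⁻¹ := by group
    rw [this]; exact hu

/-- decomposition of the elements of the join of two subgroups of `V` -/
theorem mem_sup_V (h : SCtx K J J') {H U : Subgroup G} (hH : H ≤ Vs K J) (hU : U ≤ Vs K J) {x : G}
    (hx : x ∈ H ⊔ U) : ∃ a ∈ H, ∃ b ∈ U, x = a * b :=
  Cfsg.Agent.Helper1.mem_sup_of_le_normalizer (h.le_normalizer_of_le_V hU hH) hx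

/-- (i): the join of `n` distinct conjugates has order `4^n` -/
theorem card_sup (h : SCtx K J J') {A : Subgroup G} (hA : A ≤ K ⊔ J) {c : G} (hc : c ∈ K)
    (hcR : c ∉ Cfsg.pCoreOf 2 K) (S : Finset (Subgroup G)) :
    (∀ H ∈ S, ∃ b' ∈ A, H = cW K b') → Nat.card ↥(S.sup id) = 4 ^ S.card := by
  classical
  induction S using Finset.induction_on with
  | empty =>
    intro _
    simp
  | insert H S hHS ih =>
    intro hS
    have hS' : ∀ H' ∈ S, ∃ b' ∈ A, H' = cW K b' := fun H' hH' => hS H' (Finset.mem_insert_of_mem hH')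
    obtain ⟨b, hb, rfl⟩ := hS _ (Finset.mem_insert_self _ _)
    rw [Finset.sup_insert, Finset.card_insert_of_notMem hHS, pow_succ]
    have hinf : S.sup id ⊓ cW K b = ⊥ := by
      rw [eq_bot_iff]
      rintro x ⟨hx1, hx2⟩
      rw [Subgroup.mem_bot]
      exact h.cW_fixedfree hc hcR hx2 (h.sup_comm_conj hA hb S hS' hHS hc x hx1)
    have hn : cW K b ≤ Subgroup.normalizer ((S.sup id : Subgroup G) : Set G) :=
      h.le_normalizer_of_le_V (h.cW_le_V (hA hb)) (h.sup_le_V hA S hS')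
    have := Cfsg.Agent.Helper1.card_sup_mul_card_inf hn
    rw [hinf, Subgroup.card_bot, mul_one, ih hS', card_cW, h.ctx.hW4] at this
    rw [id, _root_.sup_comm, this]

/-- (ii): an element of the join of a family of conjugates `W^b` centralized by all the `c^b` is trivial -/
theorem eq_one_of_comm (h : SCtx K J J') {A : Subgroup G} (hA : A ≤ K ⊔ J) {c : G} (hc : c ∈ K)
    (hcR : c ∉ Cfsg.pCoreOf 2 K) (S : Finset (Subgroup G)) :
    (∀ H ∈ S, ∃ b' ∈ A, H = cW K b') → ∀ u ∈ S.sup id,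
      (∀ b ∈ A, cW K b ∈ S → (b * c * b⁻¹) * u = u * (b * c * b⁻¹)) → u = 1 := by
  classical
  induction S using Finset.induction_on with
  | empty =>
    intro _ u hu _
    simpa using hu
  | insert H S hHS ih =>
    intro hS u hu hcomm
    have hS' : ∀ H' ∈ S, ∃ b' ∈ A, H' = cW K b' := fun H' hH' => hS H' (Finset.mem_insert_of_mem hH')
    obtain ⟨b, hb, rfl⟩ := hS _ (Finset.mem_insert_self _ _)
    rw [Finset.sup_insert, id] at hu
    obtain ⟨x, hx, y, hy, rfl⟩ := h.mem_sup_V (h.cW_le_V (hA hb)) (h.sup_le_V hA S hS') hu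
    have h1 := hcomm b hb (Finset.mem_insert_self _ _)
    have h2 := h.sup_comm_conj hA hb S hS' hHS hc y hy
    have h3 : (b * c * b⁻¹) * x = x * (b * c * b⁻¹) := by
      have e1 : (b * c * b⁻¹) * x = ((b * c * b⁻¹) * (x * y)) * y⁻¹ := by group
      rw [e1, h1]
      have e2 : x * y * (b * c * b⁻¹) * y⁻¹ = x * (y * (b * c * b⁻¹)) * y⁻¹ := by group
      rw [e2, ← h2]; group
    have hx1 : x = 1 := h.cW_fixedfree hc hcR hx h3
    rw [hx1, one_mul]
    apply ih hS' y hy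
    intro b' hb' hb'S
    have := hcomm b' hb' (Finset.mem_insert_of_mem hb'S)
    rwa [hx1, one_mul] at this

end SCtx

end Cfsg.Agent.Lead.JSub
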