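import Mathlib
import Cfsg.Prelude.Def_JComponents
import Cfsg.Agent.Lead.JSubF

/-!
Lead: general lemmas for the counting argument: Sylow conjugacy for `IsSylowTwoIn`, commuting subgroups normalize
each other, `4 m < 4 ^ m` for `m ≥ 2`, the action of an abelian group of involutions on a four-group.
-/

set_option autoImplicit false
set_option linter.unusedSectionVars false

namespace Cfsg.Agent.Lead.JSub

open Cfsg Cfsg.Agent.Lead.JComp
open scoped Pointwise

variable {G : Type*} [Group G]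

/-- a 2-subgroup of `L` is `L`-conjugate into a given Sylow 2-subgroup of `L` -/
theorem exists_conj_le_of_isSylowTwoIn [Finite G] {T L E : Subgroup G} (hT : Cfsg.IsSylowTwoIn T L)
    (hEL : E ≤ L) (hE : IsPGroup 2 E) : ∃ l ∈ L, E.map (MulAut.conj l).toMonoidHom ≤ T := by
  haveI : Fact (Nat.Prime 2) := ⟨Nat.prime_two⟩
  obtain ⟨hTL, hT2, hodd⟩ := hT
  have hT2' : IsPGroup 2 (T.subgroupOf L) := hT2.comap_subtype
  have hidx : ¬ 2 ∣ (T.subgroupOf L).index := by
    intro hd
    exact (Nat.not_even_iff_odd.mpr hodd) (even_iff_two_dvd.mpr hd)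
  obtain ⟨Q, hQ⟩ := (hE.comap_subtype (K := L)).exists_le_sylow
  obtain ⟨l, hl⟩ := MulAction.exists_smul_eq ↥L Q (hT2'.toSylow hidx)
  refine ⟨l, l.2, ?_⟩
  rintro _ ⟨e, he, rfl⟩
  have h1 : (⟨e, hEL he⟩ : ↥L) ∈ (Q : Subgroup ↥L) := hQ (Subgroup.mem_subgroupOf.mpr he)
  have h2 : MulAut.conj l • (⟨e, hEL he⟩ : ↥L) ∈ MulAut.conj l • (Q : Subgroup ↥L) :=
    Subgroup.smul_mem_pointwise_smul _ _ _ h1
  rw [← Sylow.coe_subgroup_smul, hl, IsPGroup.toSylow_coe, Subgroup.mem_subgroupOf] at h2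
  simpa [MulAut.smul_def] using h2

theorem le_normalizer_of_forall_comm {A N : Subgroup G} (h : ∀ a ∈ A, ∀ n ∈ N, a * n = n * a) :
    A ≤ Subgroup.normalizer (N : Set G) := by
  intro a ha
  rw [Subgroup.mem_normalizer_iff]
  intro n
  constructor
  · intro hn
    have : a * n * a⁻¹ = n := by rw [h a ha n hn]; group
    rw [this]; exact hn
  · intro hn
    have e := h a ha _ hn
    have : n = a * n * a⁻¹ := by
      calc n = a⁻¹ * ((a * n * a⁻¹) * a) := by group
        _ = a⁻¹ * (a * (a * n * a⁻¹)) := by rw [← e]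
        _ = a * n * a⁻¹ := by group
    rw [this]; exact hn

theorem four_mul_lt_four_pow : ∀ m : ℕ, 2 ≤ m → 4 * m < 4 ^ m := by
  intro m hm
  induction m, hm using Nat.le_induction with
  | base => norm_num
  | succ n hn ih =>
    rw [pow_succ]
    omega

end Cfsg.Agent.Lead.JSub
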