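import Mathlib
import Cfsg.Prelude.Def_JComponents
import Cfsg.Agent.Lead.JSubG

/-!
Lead: an abelian group `A₁` of involutions normalizing a four-group `W` satisfies
`|A₁| · |C_W(A₁)| ≤ 4 · |C_{A₁}(W)|`.
-/

set_option autoImplicit false
set_option linter.unusedSectionVars false

namespace Cfsg.Agent.Lead.JSub

open Cfsg Cfsg.Agent.Lead.JComp

variable {G : Type*} [Group G]

theorem mem_centralizer_of_fix {W : Subgroup G} (hW4 : Nat.card W = 4) (hWsq : ∀ w ∈ W, w * w = 1)
    {w w' g : G} (hw : w ∈ W) (hw' : w' ∈ W) (hw1 : w ≠ 1) (hw'1 : w' ≠ 1) (hne : w ≠ w')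
    (h1 : g * w * g⁻¹ = w) (h2 : g * w' * g⁻¹ = w') : g ∈ Subgroup.centralizer (W : Set G) := by
  rw [Subgroup.mem_centralizer_iff]
  intro u hu
  have key : g * u * g⁻¹ = u := by
    rcases four_enum W hW4 hWsq hw hw' hw1 hw'1 hne u hu with e | e | e | e
    · rw [e]; group
    · rw [e]; exact h1
    · rw [e]; exact h2
    · rw [e]
      calc g * (w * w') * g⁻¹ = (g * w * g⁻¹) * (g * w' * g⁻¹) := by group
        _ = w * w' := by rw [h1, h2]
  calc u * g = (g * u * g⁻¹) * g := by rw [key]
    _ = g * u := by group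

theorem card_mul_card_le [Finite G] {W A1 : Subgroup G} (hW4 : Nat.card W = 4)
    (hWsq : ∀ w ∈ W, w * w = 1) (hA1 : Cfsg.IsElementaryAbelian 2 A1)
    (hnorm : ∀ a ∈ A1, ∀ w ∈ W, a * w * a⁻¹ ∈ W) :
    Nat.card A1 * Nat.card ↥(W ⊓ Subgroup.centralizer (A1 : Set G)) ≤
      4 * Nat.card ↥(A1 ⊓ Subgroup.centralizer (W : Set G)) := by
  by_cases hc : ∀ a ∈ A1, ∀ w ∈ W, a * w * a⁻¹ = w
  · have h1 : A1 ⊓ Subgroup.centralizer (W : Set G) = A1 := by
      rw [inf_eq_left]
      intro a ha
      rw [Subgroup.mem_centralizer_iff]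
      intro u hu
      have key := hc a ha u hu
      calc u * a = (a * u * a⁻¹) * a := by rw [key]
        _ = a * u := by group
    have h2 : Nat.card ↥(W ⊓ Subgroup.centralizer (A1 : Set G)) ≤ 4 := by
      rw [← hW4]
      exact Subgroup.card_le_of_le inf_le_left
    rw [h1, mul_comm]
    exact Nat.mul_le_mul_right _ h2
  · push Not at hc
    obtain ⟨a, ha, w, hw, hne⟩ := hc
    have haa : a * a = 1 := ea_sq hA1 ha
    obtain ⟨w', hw'def⟩ : ∃ w', w' = a * w * a⁻¹ := ⟨_, rfl⟩
    have hw' : w' ∈ W := by rw [hw'def]; exact hnorm a ha w hw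
    have hne' : w ≠ w' := fun e => hne (by rw [← hw'def]; exact e.symm)
    have hw1 : w ≠ 1 := by
      intro e; apply hne; rw [e]; group
    have hw'1 : w' ≠ 1 := by
      intro e; apply hw1
      rw [e] at hw'def
      calc w = a⁻¹ * (a * w * a⁻¹) * a := by group
        _ = 1 := by rw [← hw'def]; group
    have haw' : a * w' * a⁻¹ = w := by
      rw [hw'def]
      calc a * (a * w * a⁻¹) * a⁻¹ = (a * a) * w * (a * a)⁻¹ := by group
        _ = w := by rw [haa]; group
    have hcomm : w * w' = w' * w := by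
      have e1 := hWsq _ (W.mul_mem hw hw')
      have e2 := hWsq _ hw
      have e3 := hWsq _ hw'
      have i1 : (w * w')⁻¹ = w * w' := inv_eq_of_mul_eq_one_left e1
      have i2 : w⁻¹ = w := inv_eq_of_mul_eq_one_left e2
      have i3 : w'⁻¹ = w' := inv_eq_of_mul_eq_one_left e3
      calc w * w' = (w * w')⁻¹ := i1.symm
        _ = w'⁻¹ * w⁻¹ := mul_inv_rev _ _
        _ = w' * w := by rw [i2, i3]
    have henum := four_enum W hW4 hWsq hw hw' hw1 hw'1 hne'
    -- (a) `C_W(A₁)` has order at most 2
    have hF : Nat.card ↥(W ⊓ Subgroup.centralizer (A1 : Set G)) ≤ 2 := by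
      have hle : W ⊓ Subgroup.centralizer (A1 : Set G) ≤ Subgroup.zpowers (w * w') := by
        rintro u ⟨huW, huC⟩
        have hau : a * u = u * a := Subgroup.mem_centralizer_iff.mp huC a ha
        have hau' : a * u * a⁻¹ = u := by rw [hau]; group
        rcases henum u huW with e | e | e | e
        · rw [e]; exact Subgroup.one_mem _
        · exfalso; rw [e] at hau'; exact hne hau'
        · exfalso; rw [e, haw'] at hau'; exact hne' hau'
        · rw [e]; exact Subgroup.mem_zpowers _
      have h1 : Nat.card ↥(Subgroup.zpowers (w * w')) ≤ 2 := by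
        rw [Nat.card_zpowers]
        apply Nat.le_of_dvd (by norm_num)
        apply orderOf_dvd_of_pow_eq_one
        rw [pow_two]
        exact hWsq _ (W.mul_mem hw hw')
      exact (Subgroup.card_le_of_le hle).trans h1
    -- (b) `C_{A₁}(W)` has index 2 in `A₁`
    have hidx : (A1 ⊓ Subgroup.centralizer (W : Set G)).relIndex A1 = 2 := by
      rw [Subgroup.relIndex_eq_two_iff_exists_notMem_and']
      refine ⟨a, ha, ?_, ?_⟩
      · rintro ⟨_, haC⟩
        have := Subgroup.mem_centralizer_iff.mp haC w hw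
        apply hne
        rw [← this]; group
      · intro b hb
        have hab : a * b = b * a := ea_comm hA1 ha hb
        have hbw : b * w * b⁻¹ ∈ W := hnorm b hb w hw
        have hbw' : b * w' * b⁻¹ = a * (b * w * b⁻¹) * a⁻¹ := by
          rw [hw'def]
          calc b * (a * w * a⁻¹) * b⁻¹ = (b * a) * w * (b * a)⁻¹ := by group
            _ = (a * b) * w * (a * b)⁻¹ := by rw [hab]
            _ = a * (b * w * b⁻¹) * a⁻¹ := by group
        rcases henum _ hbw with e | e | e | e
        · exfalso; apply hw1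
          calc w = b⁻¹ * (b * w * b⁻¹) * b := by group
            _ = 1 := by rw [e]; group
        · right
          refine ⟨hb, mem_centralizer_of_fix hW4 hWsq hw hw' hw1 hw'1 hne' e ?_⟩
          rw [hbw', e, hw'def]
        · left
          refine ⟨A1.mul_mem ha hb, mem_centralizer_of_fix hW4 hWsq hw hw' hw1 hw'1 hne' ?_ ?_⟩
          · calc (a * b) * w * (a * b)⁻¹ = a * (b * w * b⁻¹) * a⁻¹ := by group
              _ = w := by rw [e, haw']
          · calc (a * b) * w' * (a * b)⁻¹ = a * (b * w' * b⁻¹) * a⁻¹ := by group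
              _ = a * (a * w' * a⁻¹) * a⁻¹ := by rw [hbw', e]
              _ = a * w * a⁻¹ := by rw [haw']
              _ = w' := hw'def.symm
        · exfalso
          have e2 : b * w' * b⁻¹ = b * w * b⁻¹ := by
            rw [hbw', e]
            calc a * (w * w') * a⁻¹ = (a * w * a⁻¹) * (a * w' * a⁻¹) := by group
              _ = w' * w := by rw [haw', ← hw'def]
              _ = w * w' := hcomm.symm
          apply hne'
          calc w = b⁻¹ * (b * w * b⁻¹) * b := by group
            _ = b⁻¹ * (b * w' * b⁻¹) * b := by rw [e2]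
            _ = w' := by group
    have hcard := card_eq_of_relIndex_two inf_le_left hidx
    rw [hcard]
    calc 2 * Nat.card ↥(A1 ⊓ Subgroup.centralizer (W : Set G)) *
          Nat.card ↥(W ⊓ Subgroup.centralizer (A1 : Set G))
        ≤ 2 * Nat.card ↥(A1 ⊓ Subgroup.centralizer (W : Set G)) * 2 := Nat.mul_le_mul_left _ hF
      _ = 4 * Nat.card ↥(A1 ⊓ Subgroup.centralizer (W : Set G)) := by ring


end Cfsg.Agent.Lead.JSub
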