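import Mathlib
import Cfsg.Prelude.Def_JComponents
import Cfsg.Agent.Lead.JSubH

/-!
Lead: the orbit `Ω` of `W = W_K` under an elementary abelian subgroup `A` of `X = ⟨K, J⟩` of maximal order:
basic definitions, `|A| ≤ |Ω| · |N_A(W)|`.
-/

set_option autoImplicit false
set_option linter.unusedSectionVars false

namespace Cfsg.Agent.Lead.JSub

open Cfsg Cfsg.Agent.Lead.JComp

variable {G : Type*} [Group G]

theorem cW_mul (K : Subgroup G) (x y : G) :
    cW K (x * y) = (cW K y).map (MulAut.conj x).toMonoidHom := by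
  unfold cW
  rw [Subgroup.map_map]
  congr 1
  ext g
  simp [mul_assoc]

theorem cW_eq_of_mem_normalizer [Finite G] {K : Subgroup G} {a : G}
    (ha : a ∈ Subgroup.normalizer (Cfsg.wOf K : Set G)) : cW K a = Cfsg.wOf K := by
  apply Subgroup.eq_of_le_of_card_ge
  · intro x hx
    obtain ⟨w, hw, rfl⟩ := mem_cW.mp hx
    exact (Subgroup.mem_normalizer_iff.mp ha w).mp hw
  · rw [card_cW]

theorem mem_normalizer_of_cW_eq {K : Subgroup G} {a : G} (ha : cW K a = Cfsg.wOf K) :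
    a ∈ Subgroup.normalizer (Cfsg.wOf K : Set G) := by
  rw [Subgroup.mem_normalizer_iff]
  intro h
  constructor
  · intro hh
    rw [← ha]
    exact conj_mem_cW hh
  · intro hh
    rw [← ha] at hh
    obtain ⟨w, hw, e⟩ := mem_cW.mp hh
    have : h = w := by
      calc h = a⁻¹ * (a * h * a⁻¹) * a := by group
        _ = a⁻¹ * (a * w * a⁻¹) * a := by rw [e]
        _ = w := by group
    rw [this]; exact hw

/-- if `W^b = W^r` then `r⁻¹ b` normalizes `W` -/
theorem inv_mul_mem_normalizer {K : Subgroup G} {b r : G} (h : cW K b = cW K r) :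
    r⁻¹ * b ∈ Subgroup.normalizer (Cfsg.wOf K : Set G) := by
  apply mem_normalizer_of_cW_eq
  rw [cW_mul, h, ← cW_mul, inv_mul_cancel, cW_one]

/-- the local data for the counting argument -/
structure ACtx (K J J' A : Subgroup G) (c : G) : Prop where
  s : SCtx K J J'
  hAX : A ≤ K ⊔ J
  hA : Cfsg.IsElementaryAbelian 2 A
  hmax : ∀ E : Subgroup G, E ≤ K ⊔ J → Cfsg.IsElementaryAbelian 2 E → Nat.card E ≤ Nat.card A
  hc : c ∈ K
  hcR : c ∉ Cfsg.pCoreOf 2 K

/-- the set of the conjugates of `W_K` under `A` -/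
noncomputable def Om (K A : Subgroup G) [Finite G] : Finset (Subgroup G) :=
  (Set.finite_range (fun b : ↥A => cW K (b : G))).toFinset

theorem mem_Om [Finite G] {K A H : Subgroup G} : H ∈ Om K A ↔ ∃ b ∈ A, H = cW K b := by
  unfold Om
  rw [Set.Finite.mem_toFinset, Set.mem_range]
  constructor
  · rintro ⟨b, rfl⟩
    exact ⟨b, b.2, rfl⟩
  · rintro ⟨b, hb, rfl⟩
    exact ⟨⟨b, hb⟩, rfl⟩

theorem cW_mem_Om [Finite G] {K A : Subgroup G} {b : G} (hb : b ∈ A) : cW K b ∈ Om K A :=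
  mem_Om.mpr ⟨b, hb, rfl⟩

theorem W_mem_Om [Finite G] (K A : Subgroup G) : Cfsg.wOf K ∈ Om K A :=
  mem_Om.mpr ⟨1, A.one_mem, (cW_one K).symm⟩

/-- `N_A(W)` -/
abbrev A1 (K A : Subgroup G) : Subgroup G := A ⊓ Subgroup.normalizer (Cfsg.wOf K : Set G)

/-- `C_A(W)` -/
abbrev C0 (K A : Subgroup G) : Subgroup G := A ⊓ Subgroup.centralizer (Cfsg.wOf K : Set G)

/-- `|A| ≤ |Ω| · |N_A(W)|` -/
theorem card_A_le [Finite G] (K A : Subgroup G) :
    Nat.card A ≤ (Om K A).card * Nat.card ↥(A1 K A) := by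
  classical
  have hrep : ∀ H : ↥(Om K A), ∃ r ∈ A, (H : Subgroup G) = cW K r := fun H => mem_Om.mp H.2
  choose rep hrepA hrepH using hrep
  let f : ↥A → ↥(Om K A) × ↥(A1 K A) := fun b =>
    (⟨cW K (b : G), cW_mem_Om b.2⟩,
      ⟨(rep ⟨cW K (b : G), cW_mem_Om b.2⟩)⁻¹ * (b : G),
        A.mul_mem (A.inv_mem (hrepA _)) b.2, inv_mul_mem_normalizer (hrepH ⟨cW K (b : G), cW_mem_Om b.2⟩)⟩)
  have hf : Function.Injective f := by
    intro b b' hbb'
    have h1 : cW K (b : G) = cW K (b' : G) := congrArg (fun p => (p.1 : Subgroup G)) hbb'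
    have h2 : (rep ⟨cW K (b : G), cW_mem_Om b.2⟩)⁻¹ * (b : G) =
        (rep ⟨cW K (b' : G), cW_mem_Om b'.2⟩)⁻¹ * (b' : G) := congrArg (fun p => (p.2 : G)) hbb'
    have h3 : (⟨cW K (b : G), cW_mem_Om b.2⟩ : ↥(Om K A)) = ⟨cW K (b' : G), cW_mem_Om b'.2⟩ :=
      Subtype.ext h1
    rw [h3] at h2
    exact Subtype.ext (mul_left_cancel h2)
  have := Nat.card_le_card_of_injective f hf
  have e : Nat.card ↥(Om K A) = (Om K A).card := by
    rw [Nat.card_eq_fintype_card, Fintype.card_coe]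
  rwa [Nat.card_prod, e] at this

end Cfsg.Agent.Lead.JSub
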