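import Mathlib
import Cfsg.Prelude.Def_JComponents
import Cfsg.Agent.Lead.JSubI

/-!
Lead: the counting argument: an elementary abelian subgroup `A` of `X = ⟨K, J⟩` of maximal order normalizes
`W = W_K` (`K` a subnormal 3-component of `X`).
-/

set_option autoImplicit false
set_option linter.unusedSectionVars false

namespace Cfsg.Agent.Lead.JSub

open Cfsg Cfsg.Agent.Lead.JComp

variable {G : Type*} [Group G] [Finite G]

open Classical in
/-- `U' = ⟨Ω ∖ {W}⟩` -/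
noncomputable def Us' (K A : Subgroup G) : Subgroup G := ((Om K A).erase (Cfsg.wOf K)).sup id

/-- `U = ⟨Ω⟩` -/
noncomputable def Us (K A : Subgroup G) : Subgroup G := (Om K A).sup id

namespace ACtx

variable {K J J' A : Subgroup G} {c : G}

theorem Om_spec (_h : ACtx K J J' A c) : ∀ H ∈ Om K A, ∃ b' ∈ A, H = cW K b' := fun _ hH => mem_Om.mp hH

open Classical in
theorem Om'_spec (_h : ACtx K J J' A c) :
    ∀ H ∈ (Om K A).erase (Cfsg.wOf K), ∃ b' ∈ A, H = cW K b' :=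
  fun _ hH => mem_Om.mp (Finset.mem_of_mem_erase hH)

theorem U_le_V (h : ACtx K J J' A c) : Us K A ≤ SCtx.Vs K J := h.s.sup_le_V h.hAX _ h.Om_spec

theorem U'_le_V (h : ACtx K J J' A c) : Us' K A ≤ SCtx.Vs K J := h.s.sup_le_V h.hAX _ h.Om'_spec

theorem U_eq (_h : ACtx K J J' A c) : Us K A = Cfsg.wOf K ⊔ Us' K A := by
  classical
  unfold Us Us'
  conv_lhs => rw [← Finset.insert_erase (W_mem_Om K A)]
  rw [Finset.sup_insert, id]

theorem card_U (h : ACtx K J J' A c) : Nat.card ↥(Us K A) = 4 ^ (Om K A).card :=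
  h.s.card_sup h.hAX h.hc h.hcR _ h.Om_spec

theorem U'_comm_c (h : ACtx K J J' A c) {x : G} (hx : x ∈ Us' K A) : c * x = x * c := by
  classical
  have := h.s.sup_comm_conj h.hAX (b := 1) A.one_mem _ h.Om'_spec
    (by rw [cW_one]; exact Finset.notMem_erase _ _) h.hc x (by unfold Us' at hx; convert hx)
  simpa using this

theorem W_inf_U' (h : ACtx K J J' A c) {x : G} (hxW : x ∈ Cfsg.wOf K) (hxU : x ∈ Us' K A) : x = 1 := by
  apply h.s.ctx.fixedfree h.hc h.hcR hxW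
  rw [h.U'_comm_c hxU]; group

theorem mem_A1 {a : G} : a ∈ A1 K A ↔ a ∈ A ∧ a ∈ Subgroup.normalizer (Cfsg.wOf K : Set G) := Iff.rfl

theorem A1_norm_W (_h : ACtx K J J' A c) {a w : G} (ha : a ∈ A1 K A) (hw : w ∈ Cfsg.wOf K) :
    a * w * a⁻¹ ∈ Cfsg.wOf K := (Subgroup.mem_normalizer_iff.mp ha.2 w).mp hw

theorem A1_norm_U' (h : ACtx K J J' A c) {a x : G} (ha : a ∈ A1 K A) (hx : x ∈ Us' K A) :
    a * x * a⁻¹ ∈ Us' K A := by
  classical
  have hle : Us' K A ≤ (Us' K A).comap (MulAut.conj a).toMonoidHom := by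
    unfold Us'
    apply Finset.sup_le
    intro H hH
    obtain ⟨b, hb, rfl⟩ := h.Om'_spec H (by convert hH)
    have hne : cW K b ≠ Cfsg.wOf K := (Finset.mem_erase.mp hH).1
    have hmem : cW K (a * b) ∈ (Om K A).erase (Cfsg.wOf K) := by
      rw [Finset.mem_erase]
      refine ⟨?_, cW_mem_Om (A.mul_mem ha.1 hb)⟩
      intro e
      apply hne
      have h1 : a * b ∈ Subgroup.normalizer (Cfsg.wOf K : Set G) := mem_normalizer_of_cW_eq e
      have h2 : b ∈ Subgroup.normalizer (Cfsg.wOf K : Set G) := by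
        have : b = a⁻¹ * (a * b) := by group
        rw [this]
        exact Subgroup.mul_mem _ (Subgroup.inv_mem _ ha.2) h1
      exact cW_eq_of_mem_normalizer h2
    intro x hx
    rw [Subgroup.mem_comap]
    have h3 : (MulAut.conj a).toMonoidHom x ∈ cW K (a * b) := by
      rw [cW_mul]
      exact Subgroup.mem_map_of_mem _ hx
    exact (Finset.le_sup (f := id) hmem) h3
  exact hle hx

/-- `A ∩ U' = 1` -/
theorem A_inf_U' (h : ACtx K J J' A c) {u : G} (huA : u ∈ A) (huU : u ∈ Us' K A) : u = 1 := by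
  classical
  apply h.s.eq_one_of_comm h.hAX h.hc h.hcR _ h.Om'_spec u (by unfold Us' at huU; convert huU)
  intro b hb _
  have h1 : b * u = u * b := ea_comm h.hA hb huA
  have h2 := h.U'_comm_c huU
  calc b * c * b⁻¹ * u = b * c * (b⁻¹ * (u * b)) * b⁻¹ := by group
    _ = b * (c * u) * b⁻¹ := by rw [← h1]; group
    _ = b * (u * c) * b⁻¹ := by rw [h2]
    _ = (b * u) * c * b⁻¹ := by group
    _ = u * (b * c * b⁻¹) := by rw [h1]; group

/-- `C_W(N_A(W))` -/
abbrev Fs (K A : Subgroup G) : Subgroup G := Cfsg.wOf K ⊓ Subgroup.centralizer ((A1 K A : Subgroup G) : Set G)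

theorem D_le (h : ACtx K J J' A c) : A ⊓ Us K A ≤ Fs K A ⊔ Us' K A := by
  rintro u ⟨huA, huU⟩
  rw [h.U_eq] at huU
  obtain ⟨w, hw, u', hu', rfl⟩ := h.s.mem_sup_V h.s.W_le_V h.U'_le_V huU
  have hwF : w ∈ Fs K A := by
    refine ⟨hw, ?_⟩
    show w ∈ Subgroup.centralizer ((A1 K A : Subgroup G) : Set G)
    rw [Subgroup.mem_centralizer_iff]
    intro a ha
    have hau : a * (w * u') = (w * u') * a := ea_comm h.hA ha.1 huA
    have h1 : w⁻¹ * (a * w * a⁻¹) = u' * (a * u' * a⁻¹)⁻¹ := by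
      have : (a * w * a⁻¹) * (a * u' * a⁻¹) = w * u' := by
        calc (a * w * a⁻¹) * (a * u' * a⁻¹) = (a * (w * u')) * a⁻¹ := by group
          _ = w * u' := by rw [hau]; group
      calc w⁻¹ * (a * w * a⁻¹) = w⁻¹ * ((a * w * a⁻¹) * (a * u' * a⁻¹)) * (a * u' * a⁻¹)⁻¹ := by group
        _ = u' * (a * u' * a⁻¹)⁻¹ := by rw [this]; group
    have h2 : w⁻¹ * (a * w * a⁻¹) = 1 := by
      apply h.W_inf_U'
      · exact Subgroup.mul_mem _ (Subgroup.inv_mem _ hw) (h.A1_norm_W ha hw)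
      · rw [h1]
        exact Subgroup.mul_mem _ hu' (Subgroup.inv_mem _ (h.A1_norm_U' ha hu'))
    calc a * w = w * (w⁻¹ * (a * w * a⁻¹)) * a := by group
      _ = w * a := by rw [h2, mul_one]
  exact Subgroup.mul_mem_sup hwF hu'

theorem card_D_le (h : ACtx K J J' A c) : Nat.card ↥(A ⊓ Us K A) ≤ Nat.card ↥(Fs K A) := by
  have hDV : A ⊓ Us K A ≤ SCtx.Vs K J := inf_le_right.trans h.U_le_V
  have hFV : Fs K A ≤ SCtx.Vs K J := inf_le_left.trans h.s.W_le_V
  have e1 := Cfsg.Agent.Helper1.card_sup_mul_card_inf (h.s.le_normalizer_of_le_V hDV h.U'_le_V)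
  have e2 := Cfsg.Agent.Helper1.card_sup_mul_card_inf (h.s.le_normalizer_of_le_V hFV h.U'_le_V)
  have i1 : Us' K A ⊓ (A ⊓ Us K A) = ⊥ := by
    rw [eq_bot_iff]
    rintro x ⟨hx1, hx2, _⟩
    exact Subgroup.mem_bot.mpr (h.A_inf_U' hx2 hx1)
  have i2 : Us' K A ⊓ Fs K A = ⊥ := by
    rw [eq_bot_iff]
    rintro x ⟨hx1, hx2, _⟩
    exact Subgroup.mem_bot.mpr (h.W_inf_U' hx2 hx1)
  rw [i1, Subgroup.card_bot, mul_one] at e1
  rw [i2, Subgroup.card_bot, mul_one] at e2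
  have hle : Us' K A ⊔ (A ⊓ Us K A) ≤ Us' K A ⊔ Fs K A :=
    sup_le le_sup_left (h.D_le.trans (by rw [sup_comm]))
  have := Subgroup.card_le_of_le hle
  rw [e1, e2] at this
  exact Nat.le_of_mul_le_mul_left this Nat.card_pos

theorem C0_comm_U (h : ACtx K J J' A c) {e f : G} (he : e ∈ C0 K A) (hf : f ∈ Us K A) : e * f = f * e := by
  have hle : Us K A ≤ Subgroup.centralizer {e} := by
    unfold Us
    apply Finset.sup_le
    intro H hH
    obtain ⟨b, hb, rfl⟩ := h.Om_spec H hH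
    intro x hx
    obtain ⟨w, hw, rfl⟩ := mem_cW.mp hx
    rw [Subgroup.mem_centralizer_iff]
    intro g hg
    rw [Set.mem_singleton_iff] at hg
    subst hg
    have h1 : g * b = b * g := ea_comm h.hA he.1 hb
    have h2 : w * g = g * w := Subgroup.mem_centralizer_iff.mp he.2 w hw
    calc g * (b * w * b⁻¹) = (g * b) * w * b⁻¹ := by group
      _ = b * (g * w) * b⁻¹ := by rw [h1]; group
      _ = b * (w * g) * b⁻¹ := by rw [h2]
      _ = b * w * (b⁻¹ * (b * g)) * b⁻¹ := by group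
      _ = b * w * b⁻¹ * g := by rw [← h1]; group
  exact Subgroup.mem_centralizer_iff.mp (hle hf) e (Set.mem_singleton _)

theorem E_ea (h : ACtx K J J' A c) : Cfsg.IsElementaryAbelian 2 (C0 K A ⊔ Us K A) :=
  ea_sup (ea_of_le h.hA inf_le_left) (ea_of_le h.s.V_ea h.U_le_V) (fun _ he _ hf => h.C0_comm_U he hf)

theorem card_E (h : ACtx K J J' A c) :
    Nat.card ↥(C0 K A ⊔ Us K A) * Nat.card ↥(C0 K A ⊓ Us K A) = Nat.card ↥(C0 K A) * 4 ^ (Om K A).card := by
  have := Cfsg.Agent.Helper1.card_sup_mul_card_inf (N := C0 K A) (A := Us K A)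
    (le_normalizer_of_forall_comm (fun a ha n hn => (h.C0_comm_U hn ha).symm))
  rwa [h.card_U] at this

theorem card_A1_mul (h : ACtx K J J' A c) :
    Nat.card ↥(A1 K A) * Nat.card ↥(Fs K A) ≤ 4 * Nat.card ↥(C0 K A) := by
  have := card_mul_card_le h.s.ctx.hW4 h.s.ctx.hWsq (ea_of_le h.hA (inf_le_left : A1 K A ≤ A))
    (fun a ha w hw => h.A1_norm_W ha hw)
  have e : A1 K A ⊓ Subgroup.centralizer (Cfsg.wOf K : Set G) = C0 K A := by
    apply le_antisymm
    · exact inf_le_inf_right _ inf_le_left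
    · intro x hx
      exact ⟨⟨hx.1, Subgroup.centralizer_le_normalizer _ hx.2⟩, hx.2⟩
  rwa [e] at this

/-- the orbit is trivial -/
theorem card_Om (h : ACtx K J J' A c) : (Om K A).card = 1 := by
  have hpos : 1 ≤ (Om K A).card := Finset.card_pos.mpr ⟨_, W_mem_Om K A⟩
  by_contra hne
  have hm : 2 ≤ (Om K A).card := by omega
  have hlt := four_mul_lt_four_pow _ hm
  have h1 := h.card_E
  have h2 : Nat.card ↥(C0 K A ⊔ Us K A) ≤ Nat.card A :=
    h.hmax _ (sup_le (inf_le_left.trans h.hAX) (h.U_le_V.trans h.s.V_le_X)) h.E_ea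
  have h3 : Nat.card ↥(C0 K A ⊓ Us K A) ≤ Nat.card ↥(A ⊓ Us K A) :=
    Subgroup.card_le_of_le (inf_le_inf_right _ inf_le_left)
  have h4 := h.card_D_le
  have h5 := card_A_le K A
  have h6 := h.card_A1_mul
  have hc0 : 0 < Nat.card ↥(C0 K A) := Nat.card_pos
  have h7 : Nat.card ↥(C0 K A) * 4 ^ (Om K A).card ≤ Nat.card ↥(C0 K A) * (4 * (Om K A).card) := by
    calc Nat.card ↥(C0 K A) * 4 ^ (Om K A).card
        = Nat.card ↥(C0 K A ⊔ Us K A) * Nat.card ↥(C0 K A ⊓ Us K A) := h1.symm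
      _ ≤ Nat.card A * Nat.card ↥(A ⊓ Us K A) := Nat.mul_le_mul h2 h3
      _ ≤ ((Om K A).card * Nat.card ↥(A1 K A)) * Nat.card ↥(Fs K A) := Nat.mul_le_mul h5 h4
      _ = (Om K A).card * (Nat.card ↥(A1 K A) * Nat.card ↥(Fs K A)) := by ring
      _ ≤ (Om K A).card * (4 * Nat.card ↥(C0 K A)) := Nat.mul_le_mul_left _ h6
      _ = Nat.card ↥(C0 K A) * (4 * (Om K A).card) := by ring
  have := Nat.le_of_mul_le_mul_left h7 hc0
  omega

theorem A_le_normalizer (h : ACtx K J J' A c) : A ≤ Subgroup.normalizer (Cfsg.wOf K : Set G) := by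
  intro b hb
  apply mem_normalizer_of_cW_eq
  obtain ⟨H, hH⟩ := Finset.card_eq_one.mp h.card_Om
  have h1 : Cfsg.wOf K ∈ Om K A := W_mem_Om K A
  have h2 : cW K b ∈ Om K A := cW_mem_Om hb
  rw [hH, Finset.mem_singleton] at h1 h2
  rw [h1, h2]

end ACtx

end Cfsg.Agent.Lead.JSub
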