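import Mathlib
import Cfsg.Prelude.Def_JComponents
import Cfsg.Agent.Lead.JSubJ

/-!
Lead: if the 3-component `K ≤ L` is subnormal in `⟨K, J(T)⟩`, `T` a Sylow 2-subgroup of `L`, then `J(T)` normalizes
`W_K`.
-/

set_option autoImplicit false
set_option linter.unusedSectionVars false

namespace Cfsg.Agent.Lead.JSub

open Cfsg Cfsg.Agent.Lead.JComp

variable {G : Type*} [Group G] [Finite G]

theorem isPGroup_of_ea {E : Subgroup G} (hE : Cfsg.IsElementaryAbelian 2 E) : IsPGroup 2 E := by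
  intro x
  refine ⟨1, ?_⟩
  apply Subtype.ext
  rw [pow_one]
  simpa using hE.2 x x.2

theorem thompson_le_normalizer_wOf {K J' T L : Subgroup G} (ctx : Ctx K J')
    (hsn : (K.subgroupOf (K ⊔ Cfsg.thompsonSubgroupOf 2 T)).IsSubnormal)
    (hTL : Cfsg.IsSylowTwoIn T L) (hKL : K ≤ L) :
    Cfsg.thompsonSubgroupOf 2 T ≤ Subgroup.normalizer (Cfsg.wOf K : Set G) := by
  apply thompson_le_of_forall
  intro A hA
  have s : SCtx K (Cfsg.thompsonSubgroupOf 2 T) J' := ⟨ctx, hsn⟩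
  obtain ⟨c, hc, hcR⟩ := s.exists_c
  have hXL : K ⊔ Cfsg.thompsonSubgroupOf 2 T ≤ L :=
    sup_le hKL ((Cfsg.Agent.Lead.thompsonSubgroupOf_le 2 T).trans hTL.1)
  have a : ACtx K (Cfsg.thompsonSubgroupOf 2 T) J' A c := by
    refine ⟨s, hA.le_thompson.trans le_sup_right, hA.2.1, ?_, hc, hcR⟩
    intro E hEX hE
    obtain ⟨l, _, hl⟩ := exists_conj_le_of_isSylowTwoIn hTL (hEX.trans hXL) (isPGroup_of_ea hE)
    have := hA.2.2 _ hl (ea_map_conj hE l)
    rwa [Subgroup.card_map_of_injective (MulAut.conj l).injective] at this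
  exact a.A_le_normalizer

end Cfsg.Agent.Lead.JSub
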