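import Mathlib
import Cfsg.Prelude.Def_JComponents
import Cfsg.Agent.Lead.JSubK

/-!
Lead: abstract form of the uniqueness of the maximal 2-local subgroup containing `⟨K, J⟩` (KS ch. 12): the
`J`-components commuting with `K` form a class `𝒞`, `U = ⟨W_{K'} : K' ∈ 𝒞⟩` is an elementary abelian 2-group
and `N_G(U)` contains every 2-local subgroup containing `⟨K, J⟩`.
-/

set_option autoImplicit false
set_option linter.unusedSectionVars false

namespace Cfsg.Agent.Lead.JUniq

open Cfsg Cfsg.Agent.Lead.JComp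

variable {G : Type*} [Group G]

/-- a subgroup generated by pairwise commuting involutions is an elementary abelian 2-group -/
theorem closure_comm_sq {S : Set G} (hcomm : ∀ x ∈ S, ∀ y ∈ S, x * y = y * x)
    (hsq : ∀ x ∈ S, x * x = 1) :
    (∀ x ∈ Subgroup.closure S, ∀ y ∈ Subgroup.closure S, x * y = y * x) ∧
      (∀ x ∈ Subgroup.closure S, x * x = 1) := by
  have h1 : Subgroup.closure S ≤ Subgroup.centralizer S := by
    rw [Subgroup.closure_le]
    intro x hx
    rw [SetLike.mem_coe, Subgroup.mem_centralizer_iff]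
    intro y hy
    exact hcomm y hy x hx
  have h2 : Subgroup.closure S ≤ Subgroup.centralizer (Subgroup.closure S : Set G) := by
    intro x hx
    rw [Subgroup.mem_centralizer_iff]
    intro y hy
    have hy' := h1 hy
    rw [Subgroup.mem_centralizer_iff] at hy'
    -- `x` commutes with all of `S`, hence `S ⊆ C(x)`, so `closure S ⊆ C(x)`
    have h3 : Subgroup.closure S ≤ Subgroup.centralizer {x} := by
      rw [Subgroup.closure_le]
      intro s hs
      rw [SetLike.mem_coe, Subgroup.mem_centralizer_iff]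
      intro t ht
      rw [Set.mem_singleton_iff] at ht
      subst ht
      have := Subgroup.mem_centralizer_iff.mp (h1 hx) s hs
      exact this.symm
    have := Subgroup.mem_centralizer_iff.mp (h3 hy) x (Set.mem_singleton _)
    exact this.symm
  have hc : ∀ x ∈ Subgroup.closure S, ∀ y ∈ Subgroup.closure S, x * y = y * x := by
    intro x hx y hy
    exact (Subgroup.mem_centralizer_iff.mp (h2 hx) y hy).symm
  refine ⟨hc, ?_⟩
  intro x hx
  induction hx using Subgroup.closure_induction with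
  | mem x hx => exact hsq x hx
  | one => simp
  | mul x y hx hy ihx ihy =>
    calc x * y * (x * y) = x * (y * x) * y := by group
      _ = x * (x * y) * y := by rw [hc y hy x hx]
      _ = (x * x) * (y * y) := by group
      _ = 1 := by rw [ihx, ihy, one_mul]
  | inv x hx ih =>
    calc x⁻¹ * x⁻¹ = (x * x)⁻¹ := by group
      _ = 1 := by rw [ih, inv_one]

theorem mem_normalizer_of_map_conj_le [Finite G] {H : Subgroup G} {g : G}
    (h : H.map (MulAut.conj g).toMonoidHom ≤ H) : g ∈ Subgroup.normalizer (H : Set G) := by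
  have he : H.map (MulAut.conj g).toMonoidHom = H := by
    apply Subgroup.eq_of_le_of_card_ge h
    rw [Subgroup.card_map_of_injective (MulAut.conj g).injective]
  rw [Subgroup.mem_normalizer_iff]
  intro x
  constructor
  · intro hx
    rw [← he]
    exact ⟨x, hx, rfl⟩
  · intro hx
    rw [← he] at hx
    obtain ⟨y, hy, e⟩ := hx
    have : x = y := by
      have e' : g * y * g⁻¹ = g * x * g⁻¹ := e
      calc x = g⁻¹ * (g * x * g⁻¹) * g := by group
        _ = g⁻¹ * (g * y * g⁻¹) * g := by rw [e']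
        _ = y := by group
    rw [this]; exact hy

/-- the abstract data -/
structure UCtx (J K : Subgroup G) (Comp Good : Subgroup G → Prop) : Prop where
  compK : Comp K
  J_le : J ≤ Subgroup.normalizer (K : Set G)
  W_sq : ∀ K', Comp K' → ∀ w ∈ Cfsg.wOf K', w * w = 1
  W_le : ∀ K', Comp K' → Cfsg.wOf K' ≤ K'
  W_ne : Cfsg.wOf K ≠ ⊥
  cent_le : ∀ K', Comp K' → Subgroup.centralizer (Cfsg.wOf K' : Set G) ≤ Subgroup.normalizer (K' : Set G)
  conj : ∀ K' n, Comp K' → n ∈ Subgroup.normalizer (J : Set G) → Comp (K'.map (MulAut.conj n).toMonoidHom)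
  goodN : ∀ K', Comp K' → Good (Subgroup.normalizer (K' : Set G))
  comm : ∀ L, Good L → ∀ K' K'', Comp K' → Comp K'' → K' ≤ L → K'' ≤ L → K' ≠ K'' →
    K' ≤ Subgroup.centralizer (Cfsg.wOf K'' : Set G)
  gen : ∀ L, Cfsg.IsTwoLocal L → K ⊔ J ≤ L →
    Good L ∧ L ≤ (⨆ K' : {K' : Subgroup G // Comp K' ∧ K' ≤ L}, (K' : Subgroup G)) ⊔
      (Subgroup.normalizer (J : Set G) ⊓ L)

namespace UCtx

variable {J K : Subgroup G} {Comp Good : Subgroup G → Prop}

/-- the class of `K` -/
def Cls (_h : UCtx J K Comp Good) : Set (Subgroup G) :=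
  {K' | Comp K' ∧ K' ≤ Subgroup.normalizer (K : Set G)}

/-- `U = ⟨W_{K'} : K' ∈ 𝒞⟩` -/
def U (h : UCtx J K Comp Good) : Subgroup G := ⨆ K' : h.Cls, Cfsg.wOf (K' : Subgroup G)

theorem K_mem (h : UCtx J K Comp Good) : K ∈ h.Cls := ⟨h.compK, Subgroup.le_normalizer⟩

theorem W_le_U (h : UCtx J K Comp Good) {K' : Subgroup G} (hK' : K' ∈ h.Cls) : Cfsg.wOf K' ≤ h.U :=
  le_iSup (fun K' : h.Cls => Cfsg.wOf (K' : Subgroup G)) ⟨K', hK'⟩

/-- distinct members of the class commute -/
theorem cls_comm (h : UCtx J K Comp Good) {K' K'' : Subgroup G} (hK' : K' ∈ h.Cls) (hK'' : K'' ∈ h.Cls)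
    (hne : K' ≠ K'') : K' ≤ Subgroup.centralizer (Cfsg.wOf K'' : Set G) :=
  h.comm _ (h.goodN K h.compK) K' K'' hK'.1 hK''.1 hK'.2 hK''.2 hne

theorem U_eq_closure (h : UCtx J K Comp Good) :
    h.U = Subgroup.closure (⋃ K' : h.Cls, ((Cfsg.wOf (K' : Subgroup G) : Subgroup G) : Set G)) := by
  unfold U
  rw [Subgroup.iSup_eq_closure]

theorem U_ea (h : UCtx J K Comp Good) :
    (∀ x ∈ h.U, ∀ y ∈ h.U, x * y = y * x) ∧ (∀ x ∈ h.U, x * x = 1) := by
  rw [h.U_eq_closure]
  apply closure_comm_sq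
  · intro x hx y hy
    obtain ⟨K', hxK'⟩ := Set.mem_iUnion.mp hx
    obtain ⟨K'', hyK''⟩ := Set.mem_iUnion.mp hy
    by_cases e : (K' : Subgroup G) = (K'' : Subgroup G)
    · -- same four-group
      have hy' : y ∈ Cfsg.wOf (K' : Subgroup G) := by rw [e]; exact hyK''
      have hW := h.W_sq _ K'.2.1
      have e1 := hW _ (Subgroup.mul_mem _ hxK' hy')
      have e2 := hW _ hxK'
      have e3 := hW _ hy'
      have i1 : (x * y)⁻¹ = x * y := inv_eq_of_mul_eq_one_left e1
      have i2 : x⁻¹ = x := inv_eq_of_mul_eq_one_left e2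
      have i3 : y⁻¹ = y := inv_eq_of_mul_eq_one_left e3
      calc x * y = (x * y)⁻¹ := i1.symm
        _ = y⁻¹ * x⁻¹ := mul_inv_rev _ _
        _ = y * x := by rw [i2, i3]
    · have hc := h.cls_comm K'.2 K''.2 e (h.W_le _ K'.2.1 hxK')
      exact (Subgroup.mem_centralizer_iff.mp hc y hyK'').symm
  · intro x hx
    obtain ⟨K', hxK'⟩ := Set.mem_iUnion.mp hx
    exact h.W_sq _ K'.2.1 x hxK'

theorem U_pgroup (h : UCtx J K Comp Good) : IsPGroup 2 h.U := by
  intro x
  refine ⟨1, ?_⟩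
  apply Subtype.ext
  rw [pow_one]
  have := h.U_ea.2 x x.2
  simpa [pow_two] using this

theorem U_ne_bot (h : UCtx J K Comp Good) : h.U ≠ ⊥ := by
  intro e
  apply h.W_ne
  rw [eq_bot_iff, ← e]
  exact h.W_le_U h.K_mem

/-- the candidate -/
def Lstar (h : UCtx J K Comp Good) : Subgroup G := Subgroup.normalizer (h.U : Set G)

theorem Lstar_twoLocal (h : UCtx J K Comp Good) : Cfsg.IsTwoLocal h.Lstar :=
  ⟨h.U, h.U_pgroup, h.U_ne_bot, rfl⟩

variable [Finite G]

theorem mem_Lstar_of_forall (h : UCtx J K Comp Good) {g : G}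
    (hg : ∀ K' ∈ h.Cls, (Cfsg.wOf K').map (MulAut.conj g).toMonoidHom ≤ h.U) : g ∈ h.Lstar := by
  apply mem_normalizer_of_map_conj_le
  unfold U
  rw [Subgroup.map_iSup]
  apply iSup_le
  intro K'
  exact hg K' K'.2

/-- members of the class lie in `L*` -/
theorem cls_le_Lstar (h : UCtx J K Comp Good) {K' : Subgroup G} (hK' : K' ∈ h.Cls) : K' ≤ h.Lstar := by
  intro k hk
  apply h.mem_Lstar_of_forall
  intro K'' hK''
  by_cases e : K' = K''
  · subst e
    rw [wOf_conj (Subgroup.le_normalizer hk)]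
    exact h.W_le_U hK'
  · have hc := h.cls_comm hK' hK'' e hk
    have : (Cfsg.wOf K'').map (MulAut.conj k).toMonoidHom = Cfsg.wOf K'' := by
      ext x
      constructor
      · rintro ⟨w, hw, rfl⟩
        have e1 := Subgroup.mem_centralizer_iff.mp hc w hw
        have : (MulAut.conj k).toMonoidHom w = w := by
          show k * w * k⁻¹ = w
          rw [← e1]; group
        rw [this]; exact hw
      · intro hx
        refine ⟨x, hx, ?_⟩
        have e1 := Subgroup.mem_centralizer_iff.mp hc x hx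
        show k * x * k⁻¹ = x
        rw [← e1]; group
    rw [this]
    exact h.W_le_U hK''

/-- an element of `N_G(J)` carrying `K` into the class carries the class into itself -/
theorem conj_mem_cls (h : UCtx J K Comp Good) {n : G} (hn : n ∈ Subgroup.normalizer (J : Set G))
    (hKn : K.map (MulAut.conj n).toMonoidHom ∈ h.Cls) {K' : Subgroup G} (hK' : K' ∈ h.Cls) :
    K'.map (MulAut.conj n).toMonoidHom ∈ h.Cls := by
  refine ⟨h.conj K' n hK'.1 hn, ?_⟩
  by_cases e : K'.map (MulAut.conj n).toMonoidHom = K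
  · rw [e]; exact Subgroup.le_normalizer
  · -- `K'^n ≤ N(K^n)`
    have h1 : K'.map (MulAut.conj n).toMonoidHom ≤
        Subgroup.normalizer ((K.map (MulAut.conj n).toMonoidHom : Subgroup G) : Set G) := by
      rintro _ ⟨k', hk', rfl⟩
      have hk'n := hK'.2 hk'
      rw [Subgroup.mem_normalizer_iff] at hk'n ⊢
      intro x
      have := hk'n (n⁻¹ * x * n)
      constructor
      · rintro ⟨y, hy, rfl⟩
        refine ⟨k' * y * k'⁻¹, ?_, ?_⟩
        · have := (hk'n y).mp hy
          exact this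
        · show n * (k' * y * k'⁻¹) * n⁻¹ = (n * k' * n⁻¹) * (n * y * n⁻¹) * (n * k' * n⁻¹)⁻¹
          group
      · rintro ⟨y, hy, e1⟩
        have e2 : n * y * n⁻¹ = (n * k' * n⁻¹) * x * (n * k' * n⁻¹)⁻¹ := e1
        have e3 : k'⁻¹ * y * k' = n⁻¹ * x * n := by
          calc k'⁻¹ * y * k' = n⁻¹ * ((n * k' * n⁻¹)⁻¹ * (n * y * n⁻¹) * (n * k' * n⁻¹)) * n := by group
            _ = n⁻¹ * x * n := by rw [e2]; group
        have h4 : k'⁻¹ * y * k' ∈ K := by
          have := (Subgroup.mem_normalizer_iff.mp (Subgroup.inv_mem _ (hK'.2 hk')) y).mp hy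
          simpa using this
        refine ⟨n⁻¹ * x * n, by rw [← e3]; exact h4, ?_⟩
        show n * (n⁻¹ * x * n) * n⁻¹ = x
        group
    -- `K ≤ N(K^n)`
    have h2 : K ≤ Subgroup.normalizer ((K.map (MulAut.conj n).toMonoidHom : Subgroup G) : Set G) := by
      by_cases e2 : K.map (MulAut.conj n).toMonoidHom = K
      · rw [e2]; exact Subgroup.le_normalizer
      · exact (h.cls_comm h.K_mem hKn (Ne.symm e2)).trans (h.cent_le _ hKn.1)
    have h3 := h.comm _ (h.goodN _ hKn.1) _ K (h.conj K' n hK'.1 hn) h.compK h1 h2 e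
    exact h3.trans (h.cent_le K h.compK)

theorem mem_Lstar_of_normalizer (h : UCtx J K Comp Good) {n : G}
    (hn : n ∈ Subgroup.normalizer (J : Set G))
    (hKn : K.map (MulAut.conj n).toMonoidHom ∈ h.Cls) : n ∈ h.Lstar := by
  apply h.mem_Lstar_of_forall
  intro K' hK'
  rw [← wOf_map (MulAut.conj n) K']
  exact h.W_le_U (h.conj_mem_cls hn hKn hK')

theorem J_le_Lstar (h : UCtx J K Comp Good) : J ≤ h.Lstar := by
  intro j hj
  apply h.mem_Lstar_of_normalizer (Subgroup.le_normalizer hj)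
  rw [map_conj_eq_of_mem_normalizer (h.J_le hj)]
  exact h.K_mem

theorem Y_le_Lstar (h : UCtx J K Comp Good) : K ⊔ J ≤ h.Lstar :=
  sup_le (h.cls_le_Lstar h.K_mem) h.J_le_Lstar

/-- every 2-local subgroup containing `⟨K, J⟩` lies in `L*` -/
theorem le_Lstar (h : UCtx J K Comp Good) {L : Subgroup G} (hL : Cfsg.IsTwoLocal L) (hY : K ⊔ J ≤ L) :
    L ≤ h.Lstar := by
  obtain ⟨hgood, hgen⟩ := h.gen L hL hY
  have hcomp : ∀ K' : Subgroup G, Comp K' → K' ≤ L → K' ∈ h.Cls := by
    intro K' hK' hK'L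
    refine ⟨hK', ?_⟩
    by_cases e : K' = K
    · rw [e]; exact Subgroup.le_normalizer
    · exact (h.comm L hgood K' K hK' h.compK hK'L (le_sup_left.trans hY) e).trans (h.cent_le K h.compK)
  refine hgen.trans (sup_le ?_ ?_)
  · apply iSup_le
    rintro ⟨K', hK', hK'L⟩
    exact h.cls_le_Lstar (hcomp K' hK' hK'L)
  · rintro n ⟨hnJ, hnL⟩
    apply h.mem_Lstar_of_normalizer hnJ
    apply hcomp _ (h.conj K n h.compK hnJ)
    rintro _ ⟨k, hk, rfl⟩
    exact L.mul_mem (L.mul_mem hnL ((le_sup_left.trans hY) hk)) (L.inv_mem hnL)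

theorem Lstar_maximal (h : UCtx J K Comp Good) : Cfsg.IsMaximalTwoLocal h.Lstar := by
  refine ⟨h.Lstar_twoLocal, ?_⟩
  intro N hN hle
  exact le_antisymm (h.le_Lstar hN (h.Y_le_Lstar.trans hle)) hle

theorem main (h : UCtx J K Comp Good) :
    ∃ L : Subgroup G, Cfsg.IsMaximalTwoLocal L ∧ K ⊔ J ≤ L ∧
      (∀ L' : Subgroup G, Cfsg.IsMaximalTwoLocal L' → K ⊔ J ≤ L' → L' = L) ∧
      ∀ L' : Subgroup G, Cfsg.IsTwoLocal L' → K ⊔ J ≤ L' → L' ≤ L := by
  refine ⟨h.Lstar, h.Lstar_maximal, h.Y_le_Lstar, ?_, fun L' hL' hY => h.le_Lstar hL' hY⟩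
  intro L' hL' hY
  exact (hL'.2 _ h.Lstar_twoLocal (h.le_Lstar hL'.1 hY)).symm

end UCtx

end Cfsg.Agent.Lead.JUniq
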