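import Mathlib
import Cfsg.Prelude.Def_JComponents
import Cfsg.Agent.Lead.JUniqA
import Cfsg.Agent.Helper1.JLTC
import Cfsg.Agent.S2942

/-!
Lead: instantiation of the abstract uniqueness lemma (`JUniqA`) in the situation of KS ch. 12: `T` a maximal
straddling 2-subgroup of the 2-local `M`, `J = J(T)`, `K` a `J`-component outside `M`.
The two structural inputs on `jOvergroups` are taken as hypotheses `E1Prop`, `E2Prop`:
* `E1Prop`: every member `L` of `jOvergroups T₀` is generated by its `J(T₀)`-components and `N_L(J(T₀))`;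
* `E2Prop`: distinct `J(T₀)`-components `K', K''` of `L` satisfy `[K', W_{K''}] = 1`.
-/

set_option autoImplicit false
set_option linter.unusedSectionVars false

namespace Cfsg.Agent.Lead.JUniq

open Cfsg Cfsg.Agent.Lead.JComp Cfsg.Agent.Helper1.JLS

universe u

variable {G : Type u} [Group G]

/-- generation of `L ∈ jOvergroups T₀` by its `J(T₀)`-components and `N_L(J(T₀))` -/
def E1Prop (G : Type u) [Group G] : Prop :=
  ∀ (T₀ L : Subgroup G), T₀ ≠ ⊥ → L ∈ Cfsg.jOvergroups T₀ →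
    L ≤ (⨆ K' : {K' : Subgroup G // Cfsg.IsJComponent T₀ K' ∧ K' ≤ L}, (K' : Subgroup G)) ⊔
      (Subgroup.normalizer (Cfsg.thompsonSubgroupOf 2 T₀ : Set G) ⊓ L)

/-- distinct `J(T₀)`-components of `L ∈ jOvergroups T₀` centralize each other's four-groups -/
def E2Prop (G : Type u) [Group G] : Prop :=
  ∀ (T₀ L K' K'' : Subgroup G), T₀ ≠ ⊥ → L ∈ Cfsg.jOvergroups T₀ → Cfsg.IsJComponent T₀ K' →
    Cfsg.IsJComponent T₀ K'' → K' ≤ L → K'' ≤ L → K' ≠ K'' →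
    K' ≤ Subgroup.centralizer (Cfsg.wOf K'' : Set G)

/-- the components used -/
def CompP (M T K' : Subgroup G) : Prop :=
  K' ∈ Cfsg.jComponentsZero T ∧ ¬ Subgroup.normalizer (K' : Set G) ≤ M

/-- the 2-locals used -/
def GoodP (M T L : Subgroup G) : Prop :=
  Cfsg.IsTwoLocal L ∧ Cfsg.thompsonSubgroupOf 2 T ≤ L ∧ ¬ L ≤ M

theorem wOf_le (K : Subgroup G) : Cfsg.wOf K ≤ K := by
  unfold Cfsg.wOf
  rw [Subgroup.commutator_le]
  intro a ha k hk
  have haK : a ∈ K := by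
    have h1 : a ∈ Cfsg.pCoreOf 2 K := (omegaCenterOf_le _ ha).1
    exact Subgroup.map_subtype_le _ h1
  rw [commutatorElement_def]
  exact K.mul_mem (K.mul_mem (K.mul_mem haK hk) (K.inv_mem haK)) (K.inv_mem hk)

theorem normalizer_map_conj (H : Subgroup G) (n : G) :
    Subgroup.normalizer ((H.map (MulAut.conj n).toMonoidHom : Subgroup G) : Set G) =
      (Subgroup.normalizer (H : Set G)).map (MulAut.conj n).toMonoidHom := by
  have := Subgroup.map_equiv_normalizer_eq H (MulAut.conj n)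
  exact this.symm

/-- conjugation by an element of `N_G(J(T))` preserves `jComponentsZero T` -/
theorem jComponentsZero_conj [Finite G] {T K' : Subgroup G} {n : G}
    (hn : n ∈ Subgroup.normalizer (Cfsg.thompsonSubgroupOf 2 T : Set G))
    (hK' : K' ∈ Cfsg.jComponentsZero T) :
    K'.map (MulAut.conj n).toMonoidHom ∈ Cfsg.jComponentsZero T := by
  set φ := MulAut.conj n with hφ
  have hinj : Function.Injective φ.toMonoidHom := φ.injective
  have hJn : (Cfsg.thompsonSubgroupOf 2 T).map φ.toMonoidHom = Cfsg.thompsonSubgroupOf 2 T :=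
    (Subgroup.mem_normalizer_iff_map_conj_eq).1 hn
  have hJT : Cfsg.thompsonSubgroupOf 2 (T.map φ.toMonoidHom) = Cfsg.thompsonSubgroupOf 2 T := by
    rw [thompsonSubgroupOf_map_injective 2 φ.toMonoidHom hinj, hJn]
  refine ⟨isJComponent_congr hJT (isJComponent_map φ hK'.1), ?_⟩
  intro S hJS hS
  rw [wOf_map φ K', normalizer_map_conj] at hS
  have hSeq : S = (S.comap φ.toMonoidHom).map φ.toMonoidHom := by
    rw [Subgroup.map_comap_eq_self_of_surjective φ.surjective]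
  rw [hSeq] at hS
  rw [isSylowTwoIn_map_iff φ.toMonoidHom hinj] at hS
  have hJS' : Cfsg.thompsonSubgroupOf 2 T ≤ S.comap φ.toMonoidHom := by
    rw [← Subgroup.map_le_iff_le_comap, hJn]
    exact hJS
  have h1 := hK'.2 _ hJS' hS
  rw [hSeq, thompsonSubgroupOf_map_injective 2 φ.toMonoidHom hinj, h1, hJn]

theorem not_normalizer_conj_le {M K' : Subgroup G} {n : G} (hnM : n ∈ M)
    (h : ¬ Subgroup.normalizer (K' : Set G) ≤ M) :
    ¬ Subgroup.normalizer ((K'.map (MulAut.conj n).toMonoidHom : Subgroup G) : Set G) ≤ M := by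
  intro hle
  apply h
  intro x hx
  rw [normalizer_map_conj] at hle
  have h1 : n * x * n⁻¹ ∈ M := hle ⟨x, hx, rfl⟩
  have h2 : x = n⁻¹ * (n * x * n⁻¹) * n := by group
  rw [h2]
  exact M.mul_mem (M.mul_mem (M.inv_mem hnM) h1) hnM

section main

variable [Finite G] (E1 : E1Prop G) (E2 : E2Prop G)
  (hL : Cfsg.IsCharacteristicTwoType G)
  (hN : ∀ N : Subgroup G, Cfsg.IsTwoLocal N → Group.IsSolvable ↥N)
  (hZ : ∀ S : Sylow 2 G, Subgroup.centralizer (Cfsg.omegaCenterOf (S : Subgroup G) : Set G) ≤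
    Subgroup.normalizer ((S : Subgroup G) : Set G))
  (S : Sylow 2 G) {M : Subgroup G}
  (hMJ : Subgroup.normalizer (Cfsg.thompsonSubgroupOf 2 (S : Subgroup G) : Set G) ≤ M)
  {T : Subgroup G} (hT : T ∈ Cfsg.maxStraddlingTwoSubgroups M)

include hL hN hZ hMJ hT

/-- the normalizer of a component in `CompP` is a good 2-local -/
theorem goodP_normalizer {K' : Subgroup G} (hK' : CompP M T K') :
    GoodP M T (Subgroup.normalizer (K' : Set G)) := by
  have hT2 : IsPGroup 2 ↥T := hT.1.1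
  obtain ⟨hC, hW⟩ := compHyp_of_isJComponent' hK'.1.1
  have hNK := (s2944_core hL hN hZ T hT2 K' hK'.1).1
  refine ⟨?_, hC.J_le_normalizer, hK'.2⟩
  rw [hNK]
  refine ⟨Cfsg.wOf K', ?_, hW.W_ne_bot, rfl⟩
  exact IsPGroup.of_card (n := 2) (by rw [hW.hW4]; norm_num)

/-- a good 2-local has a Sylow 2-subgroup `T₀ ⊇ J(T)` with `J(T₀) = J(T)`, and lies in `jOvergroups T₀` -/
theorem exists_sylow_of_goodP {L : Subgroup G} (hgood : GoodP M T L) :
    ∃ T₀ : Subgroup G, T₀ ≠ ⊥ ∧ Cfsg.thompsonSubgroupOf 2 T = Cfsg.thompsonSubgroupOf 2 T₀ ∧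
      L ∈ Cfsg.jOvergroups T₀ := by
  have hT2 : IsPGroup 2 ↥T := hT.1.1
  have hJ2 : IsPGroup 2 ↥(Cfsg.thompsonSubgroupOf 2 T) :=
    hT2.to_le (Cfsg.Agent.Lead.thompsonSubgroupOf_le 2 T)
  obtain ⟨T₀, hT₀syl, hJT₀⟩ := exists_sylowTwoIn hJ2 hgood.2.1
  obtain ⟨h1, h2, h3, -⟩ := s2948_core hL S hMJ hT hgood.1 hgood.2.2 hT₀syl hJT₀
  exact ⟨T₀, h2.2.1, h1, h3⟩

include E2 in
/-- a `J(T)`-component `K'` of a good 2-local `L ⊇ K` lies in `CompP` -/
theorem compP_of_le {K : Subgroup G} (hKz : K ∈ Cfsg.jComponentsZero T) (hKM : ¬ K ≤ M)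
    {L : Subgroup G} (hgood : GoodP M T L)
    (hKL : K ≤ L) {K' : Subgroup G} (hK' : Cfsg.IsJComponent T K') (hK'L : K' ≤ L) :
    CompP M T K' := by
  by_cases e : K' = K
  · rw [e]; exact ⟨hKz, fun h => hKM (Subgroup.le_normalizer.trans h)⟩
  have hT2 : IsPGroup 2 ↥T := hT.1.1
  obtain ⟨T₀, hT₀1, hJeq, hLT₀⟩ := exists_sylow_of_goodP hL hN hZ S hMJ hT hgood
  have hKc : K ≤ Subgroup.centralizer (Cfsg.wOf K' : Set G) :=
    E2 T₀ L K K' hT₀1 hLT₀ (isJComponent_congr hJeq hKz.1) (isJComponent_congr hJeq hK')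
      hKL hK'L (Ne.symm e)
  obtain ⟨hC, hW⟩ := compHyp_of_isJComponent' hK'
  have hW2 : IsPGroup 2 ↥(Cfsg.wOf K') := IsPGroup.of_card (n := 2) (by rw [hW.hW4]; norm_num)
  have hNW2 : Cfsg.IsTwoLocal (Subgroup.normalizer (Cfsg.wOf K' : Set G)) :=
    ⟨Cfsg.wOf K', hW2, hW.W_ne_bot, rfl⟩
  have hKNW : K ≤ Subgroup.normalizer (Cfsg.wOf K' : Set G) :=
    hKc.trans (Subgroup.centralizer_le_normalizer _)
  have hNWM : ¬ Subgroup.normalizer (Cfsg.wOf K' : Set G) ≤ M := fun h => hKM (hKNW.trans h)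
  have hzero : K' ∈ Cfsg.jComponentsZero T := by
    refine ⟨hK', ?_⟩
    intro S₁ hJS₁ hS₁
    exact (s2948_core hL S hMJ hT hNW2 hNWM hS₁ hJS₁).1.symm
  refine ⟨hzero, ?_⟩
  rw [(s2944_core hL hN hZ T hT2 K' hzero).1]
  exact hNWM

include E1 E2 in
/-- the abstract context -/
theorem uctx {K : Subgroup G} (hK : K ∈ Cfsg.jComponentsOutside M T) :
    UCtx (Cfsg.thompsonSubgroupOf 2 T) K (CompP M T) (GoodP M T) := by
  have hT2 : IsPGroup 2 ↥T := hT.1.1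
  obtain ⟨hKz, hKM, hO2⟩ := hK
  have hNJ := normalizer_thompson_le S hMJ hT
  have hcompK : CompP M T K := ⟨hKz, fun h => hKM (Subgroup.le_normalizer.trans h)⟩
  refine
    { compK := hcompK
      J_le := (compHyp_of_isJComponent' hKz.1).1.J_le_normalizer
      W_sq := fun K' hK' => hK'.1.1.2.2.2.2.2
      W_le := fun K' _ => wOf_le K'
      W_ne := (compHyp_of_isJComponent' hKz.1).2.W_ne_bot
      cent_le := ?_
      conj := ?_
      goodN := fun K' hK' => goodP_normalizer hL hN hZ S hMJ hT hK'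
      comm := ?_
      gen := ?_ }
  · intro K' hK'
    rw [(s2944_core hL hN hZ T hT2 K' hK'.1).1]
    exact Subgroup.centralizer_le_normalizer _
  · intro K' n hK' hn
    exact ⟨jComponentsZero_conj hn hK'.1, not_normalizer_conj_le (hNJ hn) hK'.2⟩
  · intro L hgood K' K'' hK' hK'' hK'L hK''L hne
    obtain ⟨T₀, hT₀1, hJeq, hLT₀⟩ := exists_sylow_of_goodP hL hN hZ S hMJ hT hgood
    exact E2 T₀ L K' K'' hT₀1 hLT₀ (isJComponent_congr hJeq hK'.1.1)
      (isJComponent_congr hJeq hK''.1.1) hK'L hK''L hne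
  · intro L hL2 hY
    have hKL : K ≤ L := le_sup_left.trans hY
    have hgood : GoodP M T L := ⟨hL2, le_sup_right.trans hY, fun h => hKM (hKL.trans h)⟩
    refine ⟨hgood, ?_⟩
    obtain ⟨T₀, hT₀1, hJeq, hLT₀⟩ := exists_sylow_of_goodP hL hN hZ S hMJ hT hgood
    have h1 := E1 T₀ L hT₀1 hLT₀
    rw [← hJeq] at h1
    refine h1.trans (sup_le_sup_right ?_ _)
    apply iSup_le
    rintro ⟨K', hK', hK'L⟩
    have hK'T : Cfsg.IsJComponent T K' := isJComponent_congr hJeq.symm hK'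
    have hcomp := compP_of_le E2 hL hN hZ S hMJ hT hKz hKM hgood hKL hK'T hK'L
    exact le_iSup (fun K' : {K' : Subgroup G // CompP M T K' ∧ K' ≤ L} => (K' : Subgroup G))
      ⟨K', hcomp, hK'L⟩

include E1 E2 in
/-- S2950, given `E1Prop` and `E2Prop` -/
theorem s2950_of {K : Subgroup G} (hK : K ∈ Cfsg.jComponentsOutside M T) :
    ∃ L : Subgroup G, Cfsg.IsMaximalTwoLocal L ∧ K ⊔ Cfsg.thompsonSubgroupOf 2 T ≤ L ∧
      (∀ L' : Subgroup G, Cfsg.IsMaximalTwoLocal L' → K ⊔ Cfsg.thompsonSubgroupOf 2 T ≤ L' → L' = L) ∧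
      (K.subgroupOf L).IsSubnormal ∧ Cfsg.IsSylowTwoIn T L ∧
      ∀ L' : Subgroup G, Cfsg.IsTwoLocal L' → K ⊔ Cfsg.thompsonSubgroupOf 2 T ≤ L' → L' ≤ L := by
  have h := uctx E1 E2 hL hN hZ S hMJ hT hK
  obtain ⟨hT2, hT1, hTM, -⟩ := hT.1
  have hJT : Cfsg.thompsonSubgroupOf 2 T ≤ T := Cfsg.Agent.Lead.thompsonSubgroupOf_le 2 T
  refine ⟨h.Lstar, h.Lstar_maximal, h.Y_le_Lstar, ?_, ?_, ?_, fun L' hL' hY => h.le_Lstar hL' hY⟩
  · intro L' hL' hY
    exact (hL'.2 _ h.Lstar_twoLocal (h.le_Lstar hL'.1 hY)).symm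
  all_goals
    -- `T ≤ L*`
    have hP2 : IsPGroup 2 ↥(Cfsg.pCoreOf 2 (K ⊔ T)) := Cfsg.Agent.Lead.LLem.isPGroup_pCoreOf _
    have hNP : Cfsg.IsTwoLocal (Subgroup.normalizer (Cfsg.pCoreOf 2 (K ⊔ T) : Set G)) :=
      ⟨_, hP2, hK.2.2, rfl⟩
    have hKTN : K ⊔ T ≤ Subgroup.normalizer (Cfsg.pCoreOf 2 (K ⊔ T) : Set G) :=
      Cfsg.Agent.Lead.KInf.pCoreOf_le_normalizer 2 _
    have hYN : K ⊔ Cfsg.thompsonSubgroupOf 2 T ≤
        Subgroup.normalizer (Cfsg.pCoreOf 2 (K ⊔ T) : Set G) :=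
      (sup_le_sup_left hJT K).trans hKTN
    have hTL : T ≤ h.Lstar := (le_sup_right.trans hKTN).trans (h.le_Lstar hNP hYN)
    have hKL : K ≤ h.Lstar := le_sup_left.trans h.Y_le_Lstar
    have hLM : ¬ h.Lstar ≤ M := fun hle => hK.2.1 (hKL.trans hle)
    obtain ⟨T₀, hT₀syl, hTT₀⟩ := exists_sylowTwoIn hT2 hTL
    obtain ⟨-, -, -, h4⟩ := s2948 hL hN hZ S M hMJ T hT h.Lstar h.Lstar_twoLocal hLM T₀ hT₀syl
      (hJT.trans hTT₀)
    obtain ⟨hLT, -⟩ := h4 hTL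
  · exact Cfsg.Agent.S2942.result hL hN hZ T hT2 hT1 h.Lstar hLT K hK.1.1 hKL
  · exact hLT.1

end main

end Cfsg.Agent.Lead.JUniq
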