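import Mathlib
import Cfsg.Prelude.Def_JComponents
import Cfsg.Agent.Lead.JUniqB
import Cfsg.Agent.Helper1.JLTG

/-!
Lead: the structural inputs `E1Prop`, `E2Prop` of `JUniqB` from helper1's `jOvergroups` theory, and the
resulting unconditional form of S2950 (with the extra clause that the maximal 2-local contains every 2-local
subgroup containing `⟨K, J(T)⟩`).
-/

set_option autoImplicit false
set_option linter.unusedSectionVars false

namespace Cfsg.Agent.Lead.JUniq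

open Cfsg Cfsg.Agent.Lead.JComp Cfsg.Agent.Helper1.JLS

universe u

variable {G : Type u} [Group G] [Finite G]

theorem e1Prop (hN : ∀ N : Subgroup G, Cfsg.IsTwoLocal N → Group.IsSolvable ↥N)
    (hZ : ∀ S : Sylow 2 G, Subgroup.centralizer (Cfsg.omegaCenterOf (S : Subgroup G) : Set G) ≤
      Subgroup.normalizer ((S : Subgroup G) : Set G)) : E1Prop G := by
  intro T₀ L hT₀1 hLT₀
  apply le_of_comps_le hN hZ hT₀1 hLT₀
  · rw [inf_comm]
    exact le_sup_right
  · intro K' hK' hK'L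
    exact le_trans (le_iSup (fun K' : {K' : Subgroup G // Cfsg.IsJComponent T₀ K' ∧ K' ≤ L} =>
      (K' : Subgroup G)) ⟨K', hK', hK'L⟩) le_sup_left

theorem e2Prop (hN : ∀ N : Subgroup G, Cfsg.IsTwoLocal N → Group.IsSolvable ↥N)
    (hZ : ∀ S : Sylow 2 G, Subgroup.centralizer (Cfsg.omegaCenterOf (S : Subgroup G) : Set G) ≤
      Subgroup.normalizer ((S : Subgroup G) : Set G)) : E2Prop G := by
  intro T₀ L K' K'' hT₀1 hLT₀ hK' hK'' hK'L hK''L hne
  exact le_centralizer_wOf_of_ne hN hZ hT₀1 hLT₀ hK'' hK' hK''L hK'L (Ne.symm hne)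

/-- S2950 with the extra clause: the maximal 2-local `L` contains every 2-local over `⟨K, J(T)⟩`. -/
theorem s2950_strong (hL : Cfsg.IsCharacteristicTwoType G)
    (hN : ∀ N : Subgroup G, Cfsg.IsTwoLocal N → Group.IsSolvable ↥N)
    (hZ : ∀ S : Sylow 2 G, Subgroup.centralizer (Cfsg.omegaCenterOf (S : Subgroup G) : Set G) ≤
      Subgroup.normalizer ((S : Subgroup G) : Set G))
    (S : Sylow 2 G) {M : Subgroup G}
    (hMJ : Subgroup.normalizer (Cfsg.thompsonSubgroupOf 2 (S : Subgroup G) : Set G) ≤ M)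
    {T : Subgroup G} (hT : T ∈ Cfsg.maxStraddlingTwoSubgroups M)
    {K : Subgroup G} (hK : K ∈ Cfsg.jComponentsOutside M T) :
    ∃ L : Subgroup G, Cfsg.IsMaximalTwoLocal L ∧ K ⊔ Cfsg.thompsonSubgroupOf 2 T ≤ L ∧
      (∀ L' : Subgroup G, Cfsg.IsMaximalTwoLocal L' → K ⊔ Cfsg.thompsonSubgroupOf 2 T ≤ L' → L' = L) ∧
      (K.subgroupOf L).IsSubnormal ∧ Cfsg.IsSylowTwoIn T L ∧
      ∀ L' : Subgroup G, Cfsg.IsTwoLocal L' → K ⊔ Cfsg.thompsonSubgroupOf 2 T ≤ L' → L' ≤ L :=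
  s2950_of (e1Prop hN hZ) (e2Prop hN hZ) hL hN hZ S hMJ hT hK

end Cfsg.Agent.Lead.JUniq
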