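import Mathlib
import Cfsg.Prelude.Def_JComponents
import Cfsg.Agent.Lead.JUniqC
import Cfsg.Agent.S2943
import Cfsg.Agent.S2946

/-!
Lead: the configuration `(M, T, K, L)` of KS ch. 12 (S2951 -- S2954): `T` a maximal straddling 2-subgroup of `M`,
`K` a `J(T)`-component outside `M`, `L` the maximal 2-local subgroup containing `⟨K, J(T)⟩`.  Basic facts.
-/

set_option autoImplicit false
set_option linter.unusedSectionVars false

namespace Cfsg.Agent.Lead.J51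

open Cfsg Cfsg.Agent.Lead.JComp Cfsg.Agent.Helper1.JLS Cfsg.Agent.Lead.JUniq

universe u

variable {G : Type u} [Group G]

/-- the configuration -/
structure Cfg (M T K L : Subgroup G) : Prop where
  hL : Cfsg.IsCharacteristicTwoType G
  hN : ∀ N : Subgroup G, Cfsg.IsTwoLocal N → Group.IsSolvable ↥N
  hZ : ∀ S : Sylow 2 G, Subgroup.centralizer (Cfsg.omegaCenterOf (S : Subgroup G) : Set G) ≤
    Subgroup.normalizer ((S : Subgroup G) : Set G)
  hMJ : ∃ S : Sylow 2 G,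
    Subgroup.normalizer (Cfsg.thompsonSubgroupOf 2 (S : Subgroup G) : Set G) ≤ M
  hT : T ∈ Cfsg.maxStraddlingTwoSubgroups M
  hK : K ∈ Cfsg.jComponentsOutside M T
  hLmax : Cfsg.IsMaximalTwoLocal L
  hKL : K ⊔ Cfsg.thompsonSubgroupOf 2 T ≤ L

namespace Cfg

variable [Finite G] {M T K L : Subgroup G}

theorem T2 (c : Cfg M T K L) : IsPGroup 2 ↥T := c.hT.1.1

theorem T1 (c : Cfg M T K L) : T ≠ ⊥ := c.hT.1.2.1

theorem T_le_M (c : Cfg M T K L) : T ≤ M := c.hT.1.2.2.1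

theorem J_le_T (_c : Cfg M T K L) : Cfsg.thompsonSubgroupOf 2 T ≤ T :=
  Cfsg.Agent.Lead.thompsonSubgroupOf_le 2 T

theorem J2 (c : Cfg M T K L) : IsPGroup 2 ↥(Cfsg.thompsonSubgroupOf 2 T) := c.T2.to_le c.J_le_T

theorem isJComponent (c : Cfg M T K L) : Cfsg.IsJComponent T K := c.hK.1.1

theorem K_le (c : Cfg M T K L) : K ≤ L := le_sup_left.trans c.hKL

theorem J_le (c : Cfg M T K L) : Cfsg.thompsonSubgroupOf 2 T ≤ L := le_sup_right.trans c.hKL

theorem not_le_M (c : Cfg M T K L) : ¬ L ≤ M := fun h => c.hK.2.1 (c.K_le.trans h)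

theorem ctx (c : Cfg M T K L) : Ctx K (Cfsg.thompsonSubgroupOf 2 T) := by
  obtain ⟨hgen, hKJ, h3, -, hW4, hWsq⟩ := c.isJComponent
  exact ⟨c.J2, hgen, hKJ, h3, hW4, hWsq⟩

/-- the strong form of S2950 -/
theorem strong (c : Cfg M T K L) :
    (∀ L' : Subgroup G, Cfsg.IsTwoLocal L' → K ⊔ Cfsg.thompsonSubgroupOf 2 T ≤ L' → L' ≤ L) ∧
      (K.subgroupOf L).IsSubnormal ∧ Cfsg.IsSylowTwoIn T L := by
  obtain ⟨S, hMJ⟩ := c.hMJ
  obtain ⟨L₀, h1, h2, h3, h4, h5, h6⟩ := s2950_strong c.hL c.hN c.hZ S hMJ c.hT c.hK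
  have e : L = L₀ := h3 L c.hLmax c.hKL
  subst e
  exact ⟨h6, h4, h5⟩

/-- every 2-local subgroup containing `⟨K, J(T)⟩` lies in `L` -/
theorem le_L (c : Cfg M T K L) {N : Subgroup G} (hN2 : Cfsg.IsTwoLocal N)
    (h : K ⊔ Cfsg.thompsonSubgroupOf 2 T ≤ N) : N ≤ L := c.strong.1 N hN2 h

theorem subnormal (c : Cfg M T K L) : (K.subgroupOf L).IsSubnormal := c.strong.2.1

theorem sylow (c : Cfg M T K L) : Cfsg.IsSylowTwoIn T L := c.strong.2.2

theorem T_le (c : Cfg M T K L) : T ≤ L := c.sylow.1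

theorem mem_jOvergroups (c : Cfg M T K L) : L ∈ Cfsg.jOvergroups T := by
  obtain ⟨S, hMJ⟩ := c.hMJ
  exact mem_jOvergroups_of_le c.hL S hMJ c.hT c.hLmax.1 c.not_le_M c.T_le

theorem normalizer_J_le (c : Cfg M T K L) :
    Subgroup.normalizer (Cfsg.thompsonSubgroupOf 2 T : Set G) ≤ M := by
  obtain ⟨S, hMJ⟩ := c.hMJ
  exact normalizer_thompson_le S hMJ c.hT

theorem normalizer_T_le (c : Cfg M T K L) : Subgroup.normalizer (T : Set G) ≤ M :=
  (normalizer_le_normalizer_thompsonSubgroupOf 2 T).trans c.normalizer_J_le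

/-- a 2-local subgroup containing `L` equals `L` -/
theorem eq_of_le (c : Cfg M T K L) {N : Subgroup G} (hN2 : Cfsg.IsTwoLocal N) (h : L ≤ N) : N = L :=
  c.hLmax.2 N hN2 h

theorem W_isPGroup (c : Cfg M T K L) : IsPGroup 2 ↥(Cfsg.wOf K) :=
  IsPGroup.of_card (n := 2) (by rw [c.ctx.hW4]; norm_num)

theorem W_ne_bot (c : Cfg M T K L) : Cfsg.wOf K ≠ ⊥ := c.ctx.W_ne_bot

theorem normalizer_K_eq (c : Cfg M T K L) :
    Subgroup.normalizer (K : Set G) = Subgroup.normalizer (Cfsg.wOf K : Set G) :=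
  (s2944_core c.hL c.hN c.hZ T c.T2 K c.hK.1).1

/-- `N_G(K) ≤ L` -/
theorem normalizer_K_le (c : Cfg M T K L) : Subgroup.normalizer (K : Set G) ≤ L := by
  apply c.le_L
  · rw [c.normalizer_K_eq]
    exact ⟨Cfsg.wOf K, c.W_isPGroup, c.W_ne_bot, rfl⟩
  · exact sup_le Subgroup.le_normalizer c.ctx.J_le_norm

/-- the centralizer of a nontrivial 2-element (or any element generating a nontrivial 2-group) centralized by
`⟨K, J(T)⟩` lies in `L` -/
theorem star (c : Cfg M T K L) {u : G} (hu2 : u * u = 1) (hu1 : u ≠ 1)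
    (huK : ∀ x ∈ K ⊔ Cfsg.thompsonSubgroupOf 2 T, x * u = u * x) :
    Subgroup.centralizer ({u} : Set G) ≤ L := by
  have h2 : IsPGroup 2 ↥(Subgroup.zpowers u) := by
    apply IsPGroup.of_card (n := 1)
    rw [Nat.card_zpowers, pow_one]
    exact orderOf_eq_prime (by rw [pow_two]; exact hu2) hu1
  have h1 : Subgroup.zpowers u ≠ ⊥ := by
    rw [Ne, Subgroup.zpowers_eq_bot]; exact hu1
  have hle : Subgroup.centralizer ({u} : Set G) ≤
      Subgroup.normalizer ((Subgroup.zpowers u : Subgroup G) : Set G) := by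
    have e : Subgroup.centralizer ({u} : Set G) =
        Subgroup.centralizer ((Subgroup.zpowers u : Subgroup G) : Set G) := by
      rw [Subgroup.zpowers_eq_closure, Subgroup.centralizer_closure]
    rw [e]
    exact Subgroup.centralizer_le_normalizer _
  refine hle.trans (c.le_L ⟨_, h2, h1, rfl⟩ ?_)
  intro x hx
  apply hle
  rw [Subgroup.mem_centralizer_iff]
  intro y hy
  rw [Set.mem_singleton_iff] at hy
  subst hy
  exact (huK x hx).symm

/-- `L = N_G(O₂(L))` -/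
theorem pCoreOf_ne_bot (c : Cfg M T K L) : Cfsg.pCoreOf 2 L ≠ ⊥ := by
  obtain ⟨P, hP2, hP1, hLP⟩ := c.hLmax.1
  intro hbot
  apply hP1
  rw [eq_bot_iff, ← hbot]
  apply Cfsg.Agent.Lead.LLem.le_pCoreOf _ hP2
  · rw [hLP]
  · rw [hLP]; exact Subgroup.le_normalizer

theorem normalizer_pCoreOf_eq (c : Cfg M T K L) :
    Subgroup.normalizer (Cfsg.pCoreOf 2 L : Set G) = L :=
  c.eq_of_le ⟨_, Cfsg.Agent.Lead.LLem.isPGroup_pCoreOf L, c.pCoreOf_ne_bot, rfl⟩
    (Cfsg.Agent.Lead.KInf.pCoreOf_le_normalizer 2 L)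

theorem centralizer_pCoreOf_le (c : Cfg M T K L) :
    Subgroup.centralizer (Cfsg.pCoreOf 2 L : Set G) ≤ Cfsg.pCoreOf 2 L :=
  Cfsg.Agent.Helper1.JLS.centralizer_pCoreOf_le c.hL c.hLmax.1

/-- the abstract uniqueness context -/
theorem uctx (c : Cfg M T K L) :
    UCtx (Cfsg.thompsonSubgroupOf 2 T) K (CompP M T) (GoodP M T) := by
  obtain ⟨S, hMJ⟩ := c.hMJ
  exact JUniq.uctx (e1Prop c.hN c.hZ) (e2Prop c.hN c.hZ) c.hL c.hN c.hZ S hMJ c.hT c.hK

theorem Lstar_eq (c : Cfg M T K L) : c.uctx.Lstar = L :=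
  (c.hLmax.2 _ c.uctx.Lstar_twoLocal (c.uctx.le_Lstar c.hLmax.1 c.hKL))

/-- an element of `N_G(J(T))` outside `L` moves `K` out of `L` -/
theorem conj_not_le (c : Cfg M T K L) {n : G}
    (hn : n ∈ Subgroup.normalizer (Cfsg.thompsonSubgroupOf 2 T : Set G)) (hnL : n ∉ L) :
    ¬ K.map (MulAut.conj n).toMonoidHom ≤ L := by
  intro hle
  apply hnL
  have h := c.uctx
  rw [← c.Lstar_eq]
  apply h.mem_Lstar_of_normalizer hn
  have hcomp : CompP M T (K.map (MulAut.conj n).toMonoidHom) := h.conj K n h.compK hn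
  refine ⟨hcomp, ?_⟩
  by_cases e : K.map (MulAut.conj n).toMonoidHom = K
  · rw [e]; exact Subgroup.le_normalizer
  · have hgood : GoodP M T L := ⟨c.hLmax.1, c.J_le, c.not_le_M⟩
    exact (h.comm L hgood _ K hcomp h.compK hle c.K_le e).trans (h.cent_le K h.compK)

/-- `K` does not normalize a 2-subgroup containing `J(T)` -/
theorem not_le_normalizer (c : Cfg M T K L) {S' : Subgroup G} (hS' : IsPGroup 2 ↥S')
    (hJ : Cfsg.thompsonSubgroupOf 2 T ≤ S') : ¬ K ≤ Subgroup.normalizer (S' : Set G) := by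
  intro hK
  have hKS : K ≤ S' := by
    conv_lhs => rw [← c.ctx.hKJ]
    rw [Subgroup.commutator_le]
    intro k hk j hj
    have hjS : j ∈ S' := hJ hj
    have h1 : k * j * k⁻¹ ∈ S' := (Subgroup.mem_normalizer_iff.mp (hK hk) j).mp hjS
    rw [commutatorElement_def]
    exact S'.mul_mem h1 (S'.inv_mem hjS)
  have hK2 : IsPGroup 2 ↥K := hS'.to_le hKS
  apply c.ctx.R_ne_K
  exact Cfsg.Agent.Lead.LLem.le_pCoreOf le_rfl hK2 Subgroup.le_normalizer

/-- an involution centralized by `⟨K, J(T)⟩` does not generate `Ω₁(Z(S))` for any Sylow 2-subgroup `S` -/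
theorem omegaCenterOf_ne_zpowers (c : Cfg M T K L) (S : Sylow 2 G) {u : G}
    (huK : ∀ x ∈ K ⊔ Cfsg.thompsonSubgroupOf 2 T, x * u = u * x) :
    Cfsg.omegaCenterOf (S : Subgroup G) ≠ Subgroup.zpowers u := by
  intro e
  have hle : K ⊔ Cfsg.thompsonSubgroupOf 2 T ≤ Subgroup.normalizer ((S : Subgroup G) : Set G) := by
    refine le_trans ?_ (c.hZ S)
    rw [e]
    intro x hx
    rw [Subgroup.mem_centralizer_iff]
    intro y hy
    rw [SetLike.mem_coe, Subgroup.mem_zpowers_iff] at hy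
    obtain ⟨k, rfl⟩ := hy
    have : Commute x u := huK x hx
    exact ((this.zpow_right k).eq).symm
  -- `J(T) ≤ S` since `S` is a normal Sylow subgroup of its normalizer
  have hJS : Cfsg.thompsonSubgroupOf 2 T ≤ (S : Subgroup G) := by
    have hJN : Cfsg.thompsonSubgroupOf 2 T ≤ Subgroup.normalizer ((S : Subgroup G) : Set G) :=
      le_sup_right.trans hle
    have h1 := c.J2.inf_normalizer_sylow S
    have h2 : Cfsg.thompsonSubgroupOf 2 T ⊓ Subgroup.normalizer ((S : Subgroup G) : Set G) =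
        Cfsg.thompsonSubgroupOf 2 T := inf_eq_left.mpr hJN
    have h3 : Cfsg.thompsonSubgroupOf 2 T = Cfsg.thompsonSubgroupOf 2 T ⊓ (S : Subgroup G) :=
      h2.symm.trans h1
    rw [h3]
    exact inf_le_right
  exact c.not_le_normalizer S.2 hJS (le_sup_left.trans hle)

end Cfg

/-- the three alternatives of S2951 -/
def Tri (T L : Subgroup G) (S : Sylow 2 G) : Prop :=
  (Cfsg.omegaCenterOf (S : Subgroup G) = Cfsg.omegaCenterOf (Cfsg.thompsonSubgroupOf 2 T) ∧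
      Nat.card ↥(Cfsg.omegaCenterOf (Cfsg.thompsonSubgroupOf 2 T)) = 2) ∨
    (Cfsg.omegaCenterOf (S : Subgroup G) = Cfsg.omegaCenterOf (Cfsg.thompsonSubgroupOf 2 T) ∧
      Nat.card ↥(Cfsg.omegaCenterOf (Cfsg.thompsonSubgroupOf 2 T)) = 4 ∧ T = (S : Subgroup G)) ∨
    (Cfsg.omegaCenterOf T = Cfsg.omegaCenterOf (Cfsg.thompsonSubgroupOf 2 T) ∧
      Nat.card ↥(Cfsg.omegaCenterOf (Cfsg.thompsonSubgroupOf 2 T)) = 4 ∧
      (L ⊓ Subgroup.centralizer (Cfsg.omegaCenterOf (Cfsg.thompsonSubgroupOf 2 T) : Set G)).relIndex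
        (Subgroup.normalizer (Cfsg.omegaCenterOf (Cfsg.thompsonSubgroupOf 2 T) : Set G)) = 2)

/-- the clause of S2953 for one subgroup `P = ⟨K, T⟩` -/
def Clause (T P : Subgroup G) : Prop :=
  Subgroup.centralizer (Cfsg.pCoreOf 2 P : Set G) ≤ Cfsg.pCoreOf 2 P ∧ Cfsg.IsSylowTwoIn T P ∧
    (Cfsg.pCoreOf 2 P).relIndex P = 6 ∧ ¬ ⁅P, P⁆ ≤ Cfsg.pCoreOf 2 P ∧ ⁅Cfsg.omegaCenterOf T, P⁆ ≠ ⊥ ∧
    ∃ L : Subgroup G, Cfsg.IsMaximalTwoLocal L ∧ P ≤ L ∧ Cfsg.IsSylowTwoIn T L ∧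
      ∀ L' : Subgroup G, Cfsg.IsMaximalTwoLocal L' → P ≤ L' → L' = L

end Cfsg.Agent.Lead.J51
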