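import Mathlib
import Cfsg.Prelude.Def_JComponents
import Cfsg.Agent.Lead.J51A
import Cfsg.Agent.Helper5.TightEmb

/-!
Lead: S2951, preliminaries: `Z₀ = Ω₁(Z(J(T)))`, the hyperplane `Z₁ = C_{Z₀}(⟨K, J(T)⟩)`, and the consequences of an
element of `N_G(J(T))` outside `L`.
-/

set_option autoImplicit false
set_option linter.unusedSectionVars false

namespace Cfsg.Agent.Lead.J51

open Cfsg Cfsg.Agent.Lead.JComp Cfsg.Agent.Helper1.JLS Cfsg.Agent.Lead.JUniq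

universe u

variable {G : Type u} [Group G]

/-- `Z₁ = Z₀ ∩ Z(⟨K, J(T)⟩)` -/
def Z1 (K T : Subgroup G) : Subgroup G :=
  Cfsg.omegaCenterOf (Cfsg.thompsonSubgroupOf 2 T) ⊓
    ((K ⊔ Cfsg.thompsonSubgroupOf 2 T) ⊓
      Subgroup.centralizer ((K ⊔ Cfsg.thompsonSubgroupOf 2 T : Subgroup G) : Set G))

theorem mem_omega_iff {X : Subgroup G} {z : G} :
    z ∈ Cfsg.omegaCenterOf X ↔ z ∈ X ∧ (∀ x ∈ X, x * z = z * x) ∧ z * z = 1 :=
  ⟨fun h => JComp.mem_omegaCenterOf h, fun h => mem_omegaCenterOf_of h.1 h.2.1 h.2.2⟩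

theorem mem_Z1 {K T : Subgroup G} {u : G} :
    u ∈ Z1 K T ↔ u ∈ Cfsg.omegaCenterOf (Cfsg.thompsonSubgroupOf 2 T) ∧
      ∀ x ∈ K ⊔ Cfsg.thompsonSubgroupOf 2 T, x * u = u * x := by
  unfold Z1
  rw [Subgroup.mem_inf, Subgroup.mem_inf, Subgroup.mem_centralizer_iff]
  constructor
  · rintro ⟨h1, -, h3⟩
    exact ⟨h1, fun x hx => h3 x hx⟩
  · rintro ⟨h1, h3⟩
    exact ⟨h1, le_sup_right (a := K) (JComp.mem_omegaCenterOf h1).1, fun x hx => h3 x hx⟩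

/-- a nontrivial finite 2-subgroup has a central involution -/
theorem exists_mem_omegaCenterOf [Finite G] {X : Subgroup G} (hX2 : IsPGroup 2 ↥X) (hX1 : X ≠ ⊥) :
    ∃ z ∈ Cfsg.omegaCenterOf X, z ≠ 1 := by
  haveI : Fact (Nat.Prime 2) := ⟨Nat.prime_two⟩
  haveI : Nontrivial ↥X := (Subgroup.nontrivial_iff_ne_bot X).mpr hX1
  haveI := hX2.center_nontrivial
  have hc2 : IsPGroup 2 ↥(Subgroup.center ↥X) := hX2.to_subgroup _
  obtain ⟨k, hk⟩ := IsPGroup.iff_card.mp hc2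
  have hk0 : k ≠ 0 := by
    rintro rfl
    rw [pow_zero] at hk
    have := Subgroup.card_eq_one.mp hk
    exact (Subgroup.nontrivial_iff_ne_bot _).mp (inferInstance : Nontrivial ↥(Subgroup.center ↥X)) this
  have h2 : 2 ∣ Nat.card ↥(Subgroup.center ↥X) := by rw [hk]; exact dvd_pow_self 2 hk0
  obtain ⟨z, hz⟩ := exists_prime_orderOf_dvd_card' 2 h2
  have hz1 : z ≠ 1 := by
    rintro rfl
    rw [orderOf_one] at hz
    norm_num at hz
  have hz2 : z ^ 2 = 1 := by rw [← hz]; exact pow_orderOf_eq_one z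
  refine ⟨((z : ↥X) : G), ?_, ?_⟩
  · apply mem_omegaCenterOf_of (z : ↥X).2
    · intro x hx
      have := (Subgroup.mem_center_iff.mp z.2) ⟨x, hx⟩
      exact congrArg Subtype.val this
    · have h3 := congrArg (fun y : ↥(Subgroup.center ↥X) => ((y : ↥X) : G)) hz2
      simpa [pow_two] using h3
  · intro h
    apply hz1
    apply Subtype.ext
    apply Subtype.ext
    simpa using h

namespace Cfg

variable [Finite G] {M T K L : Subgroup G}

theorem Z0_sq (_c : Cfg M T K L) {z : G}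
    (hz : z ∈ Cfsg.omegaCenterOf (Cfsg.thompsonSubgroupOf 2 T)) : z * z = 1 := (JComp.mem_omegaCenterOf hz).2.2

theorem Z0_inv (c : Cfg M T K L) {z : G}
    (hz : z ∈ Cfsg.omegaCenterOf (Cfsg.thompsonSubgroupOf 2 T)) : z⁻¹ = z :=
  inv_eq_of_mul_eq_one_left (c.Z0_sq hz)

theorem Z0_comm (_c : Cfg M T K L) {y z : G}
    (hy : y ∈ Cfsg.omegaCenterOf (Cfsg.thompsonSubgroupOf 2 T))
    (hz : z ∈ Cfsg.omegaCenterOf (Cfsg.thompsonSubgroupOf 2 T)) : y * z = z * y :=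
  (JComp.mem_omegaCenterOf hz).2.1 y (JComp.mem_omegaCenterOf hy).1

/-- S2946 -/
theorem s2946 (c : Cfg M T K L) :
    Nat.card ↥(Cfsg.omegaCenterOf (Cfsg.thompsonSubgroupOf 2 T) ⊓ Cfsg.wOf K) = 2 ∧
      Z1 K T ⊔ (Cfsg.omegaCenterOf (Cfsg.thompsonSubgroupOf 2 T) ⊓ Cfsg.wOf K) =
        Cfsg.omegaCenterOf (Cfsg.thompsonSubgroupOf 2 T) := by
  have h := Cfsg.Agent.S2946.result c.hL c.hN c.hZ T c.T2 c.T1 K c.isJComponent _ rfl
  have e : Subgroup.centralizer ((K : Set G) ⊔ (Cfsg.thompsonSubgroupOf 2 T : Set G)) =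
      Subgroup.centralizer ((K ⊔ Cfsg.thompsonSubgroupOf 2 T : Subgroup G) : Set G) := by
    rw [Subgroup.sup_eq_closure, Subgroup.centralizer_closure]
    rfl
  rw [e] at h
  exact h

/-- the generator `w` of `Z₀ ∩ W_K` -/
theorem exists_w (c : Cfg M T K L) :
    ∃ w : G, w ≠ 1 ∧ w ∈ Cfsg.omegaCenterOf (Cfsg.thompsonSubgroupOf 2 T) ∧ w ∈ Cfsg.wOf K ∧
      ∀ x ∈ Cfsg.omegaCenterOf (Cfsg.thompsonSubgroupOf 2 T) ⊓ Cfsg.wOf K, x = 1 ∨ x = w := by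
  obtain ⟨a, b, hab, huniv⟩ := Nat.card_eq_two_iff.mp c.s2946.1
  have hall : ∀ x : ↥(Cfsg.omegaCenterOf (Cfsg.thompsonSubgroupOf 2 T) ⊓ Cfsg.wOf K),
      x = a ∨ x = b := by
    intro x
    have : x ∈ ({a, b} : Set _) := by rw [huniv]; trivial
    simpa using this
  -- one of `a, b` is `1`
  rcases hall 1 with h1 | h1
  · refine ⟨(b : G), ?_, (Subgroup.mem_inf.mp b.2).1, (Subgroup.mem_inf.mp b.2).2, ?_⟩
    · intro hb
      apply hab
      rw [← h1]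
      exact (Subtype.ext hb).symm
    · intro x hx
      rcases hall ⟨x, hx⟩ with h | h
      · left
        rw [← h1] at h
        exact congrArg Subtype.val h
      · right
        exact congrArg Subtype.val h
  · refine ⟨(a : G), ?_, (Subgroup.mem_inf.mp a.2).1, (Subgroup.mem_inf.mp a.2).2, ?_⟩
    · intro ha
      apply hab
      rw [← h1]
      exact Subtype.ext ha
    · intro x hx
      rcases hall ⟨x, hx⟩ with h | h
      · right
        exact congrArg Subtype.val h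
      · left
        rw [← h1] at h
        exact congrArg Subtype.val h

/-- `Z₁ ∩ W_K = 1` -/
theorem Z1_inf_W (c : Cfg M T K L) {u : G} (hu : u ∈ Z1 K T) (huW : u ∈ Cfsg.wOf K) : u = 1 := by
  obtain ⟨d, hd, hdR⟩ := SetLike.not_le_iff_exists.mp c.ctx.R_ne_K
  apply c.ctx.fixedfree hd hdR huW
  have := (mem_Z1.mp hu).2 d (le_sup_left (a := K) hd)
  rw [this]; group

theorem Z1_le_Z0 (K T : Subgroup G) :
    Z1 K T ≤ Cfsg.omegaCenterOf (Cfsg.thompsonSubgroupOf 2 T) := inf_le_left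

theorem Z0W_le_normalizer (c : Cfg M T K L) :
    Cfsg.omegaCenterOf (Cfsg.thompsonSubgroupOf 2 T) ⊓ Cfsg.wOf K ≤
      Subgroup.normalizer (Z1 K T : Set G) := by
  intro x hx
  rw [Subgroup.mem_normalizer_iff]
  intro y
  have hxZ : x ∈ Cfsg.omegaCenterOf (Cfsg.thompsonSubgroupOf 2 T) := hx.1
  constructor
  · intro hy
    have : x * y * x⁻¹ = y := by
      rw [c.Z0_comm hxZ (Z1_le_Z0 K T hy)]; group
    rw [this]; exact hy
  · intro hy
    have h2 : x * y * x⁻¹ ∈ Cfsg.omegaCenterOf (Cfsg.thompsonSubgroupOf 2 T) := Z1_le_Z0 K T hy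
    have h3 : y ∈ Cfsg.omegaCenterOf (Cfsg.thompsonSubgroupOf 2 T) := by
      have : y = x⁻¹ * (x * y * x⁻¹) * x := by group
      rw [this]
      exact Subgroup.mul_mem _ (Subgroup.mul_mem _ (Subgroup.inv_mem _ hxZ) h2) hxZ
    have : x * y * x⁻¹ = y := by
      rw [c.Z0_comm hxZ h3]; group
    rw [← this]; exact hy

/-- decomposition of an element of `Z₀` -/
theorem Z0_decomp (c : Cfg M T K L) {z : G}
    (hz : z ∈ Cfsg.omegaCenterOf (Cfsg.thompsonSubgroupOf 2 T)) :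
    ∃ a ∈ Z1 K T, ∃ b ∈ Cfsg.omegaCenterOf (Cfsg.thompsonSubgroupOf 2 T) ⊓ Cfsg.wOf K, z = a * b := by
  rw [← c.s2946.2] at hz
  have hB : Cfsg.omegaCenterOf (Cfsg.thompsonSubgroupOf 2 T) ⊓ Cfsg.wOf K ≤
      Subgroup.normalizer (Z1 K T : Set G) := c.Z0W_le_normalizer
  have h1 : z ∈ ((Z1 K T ⊔ (Cfsg.omegaCenterOf (Cfsg.thompsonSubgroupOf 2 T) ⊓ Cfsg.wOf K) :
      Subgroup G) : Set G) := hz
  rw [Subgroup.coe_mul_of_right_le_normalizer_left _ _ hB] at h1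
  obtain ⟨a, ha, b, hb, rfl⟩ := Set.mem_mul.mp h1
  exact ⟨a, ha, b, hb, rfl⟩

/-- conjugation by an element of `N_G(J(T))` preserves `Z₀` -/
theorem conj_mem_Z0 (_c : Cfg M T K L) {m : G}
    (hm : m ∈ Subgroup.normalizer (Cfsg.thompsonSubgroupOf 2 T : Set G)) {z : G}
    (hz : z ∈ Cfsg.omegaCenterOf (Cfsg.thompsonSubgroupOf 2 T)) :
    m * z * m⁻¹ ∈ Cfsg.omegaCenterOf (Cfsg.thompsonSubgroupOf 2 T) :=
  conj_mem_of_map_eq (omegaCenterOf_conj hm) hz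

/-- Lemma A: `Z₁ ∩ Z₁^m = 1` for `m ∈ N_G(J(T)) ∖ L` -/
theorem Z1_conj_inter (c : Cfg M T K L) {m : G}
    (hm : m ∈ Subgroup.normalizer (Cfsg.thompsonSubgroupOf 2 T : Set G)) (hmL : m ∉ L) {u : G}
    (hu : u ∈ Z1 K T) (hum : m⁻¹ * u * m ∈ Z1 K T) : u = 1 := by
  by_contra hu1
  have hstar := c.star (c.Z0_sq (Z1_le_Z0 K T hu)) hu1 (mem_Z1.mp hu).2
  apply c.conj_not_le hm hmL
  refine le_trans ?_ hstar
  rintro _ ⟨k, hk, rfl⟩
  rw [Subgroup.mem_centralizer_iff]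
  intro y hy
  rw [Set.mem_singleton_iff] at hy
  subst hy
  have h1 := (mem_Z1.mp hum).2 k (le_sup_left (a := K) hk)
  show y * (m * k * m⁻¹) = m * k * m⁻¹ * y
  have e1 : y * (m * k * m⁻¹) = m * ((m⁻¹ * y * m) * k) * m⁻¹ := by group
  have e2 : m * k * m⁻¹ * y = m * (k * (m⁻¹ * y * m)) * m⁻¹ := by group
  rw [e1, e2, h1]

/-- Lemma B: `|Z₁| ≤ 2` if `N_G(J(T)) ≰ L` -/
theorem Z1_unique (c : Cfg M T K L) {m : G}
    (hm : m ∈ Subgroup.normalizer (Cfsg.thompsonSubgroupOf 2 T : Set G)) (hmL : m ∉ L) {u u' : G}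
    (hu : u ∈ Z1 K T) (hu' : u' ∈ Z1 K T) (hu1 : u ≠ 1) (hu'1 : u' ≠ 1) : u = u' := by
  obtain ⟨w, hw1, hwZ, hwW, hwall⟩ := c.exists_w
  -- the conjugate of a nontrivial element of `Z₁` is `a * w` with `a ∈ Z₁`
  have key : ∀ v ∈ Z1 K T, v ≠ 1 → ∃ a ∈ Z1 K T, m * v * m⁻¹ = a * w := by
    intro v hv hv1
    obtain ⟨a, ha, b, hb, e⟩ := c.Z0_decomp (c.conj_mem_Z0 hm (Z1_le_Z0 K T hv))
    rcases hwall b hb with rfl | rfl
    · exfalso
      rw [mul_one] at e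
      have h1 : m * v * m⁻¹ = 1 := by
        apply c.Z1_conj_inter hm hmL (e ▸ ha)
        have : m⁻¹ * (m * v * m⁻¹) * m = v := by group
        rw [this]; exact hv
      apply hv1
      have : v = m⁻¹ * (m * v * m⁻¹) * m := by group
      rw [this, h1]; group
    · exact ⟨a, ha, e⟩
  obtain ⟨a, ha, ea⟩ := key u hu hu1
  obtain ⟨a', ha', ea'⟩ := key u' hu' hu'1
  have haZ := Z1_le_Z0 K T ha
  have ha'Z := Z1_le_Z0 K T ha'
  -- `m (u u') m⁻¹ = a a' ∈ Z₁`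
  have e3 : m * (u * u') * m⁻¹ = a * a' := by
    have : m * (u * u') * m⁻¹ = (m * u * m⁻¹) * (m * u' * m⁻¹) := by group
    rw [this, ea, ea']
    calc a * w * (a' * w) = a * (w * a') * w := by group
      _ = a * (a' * w) * w := by rw [c.Z0_comm hwZ ha'Z]
      _ = a * a' * (w * w) := by group
      _ = a * a' := by rw [c.Z0_sq hwZ, mul_one]
  have h4 : m * (u * u') * m⁻¹ = 1 := by
    apply c.Z1_conj_inter hm hmL
    · rw [e3]; exact Subgroup.mul_mem _ ha ha'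
    · have : m⁻¹ * (m * (u * u') * m⁻¹) * m = u * u' := by group
      rw [this]; exact Subgroup.mul_mem _ hu hu'
  have h5 : u * u' = 1 := by
    have : u * u' = m⁻¹ * (m * (u * u') * m⁻¹) * m := by group
    rw [this, h4]; group
  have := c.Z0_inv (Z1_le_Z0 K T hu')
  rw [← this]
  exact eq_inv_of_mul_eq_one_left h5

/-- `|Z₀| = 2 |Z₁|` -/
theorem card_Z0 (c : Cfg M T K L) :
    Nat.card ↥(Cfsg.omegaCenterOf (Cfsg.thompsonSubgroupOf 2 T)) = Nat.card ↥(Z1 K T) * 2 := by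
  have h1 := Cfsg.Agent.Helper5.TE.card_sup_of_inf_eq_bot (Z1 K T)
    (Cfsg.omegaCenterOf (Cfsg.thompsonSubgroupOf 2 T) ⊓ Cfsg.wOf K) c.Z0W_le_normalizer ?_
  · rw [c.s2946.2, c.s2946.1] at h1
    exact h1
  · rw [eq_bot_iff]
    rintro x ⟨hx1, hx2⟩
    rw [Subgroup.mem_bot]
    exact c.Z1_inf_W hx1 hx2.2

end Cfg

end Cfsg.Agent.Lead.J51
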