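import Mathlib
import Cfsg.Prelude.Def_JComponents
import Cfsg.Agent.Lead.J51B
import Cfsg.Agent.Helper4.NormalizerGrow

/-!
Lead: S2951 in the case `N_G(J(T)) ≰ L`.
-/

set_option autoImplicit false
set_option linter.unusedSectionVars false
set_option linter.style.haveILetI false

namespace Cfsg.Agent.Lead.J51

open Cfsg Cfsg.Agent.Lead.JComp Cfsg.Agent.Helper1.JLS Cfsg.Agent.Lead.JUniq

universe u

variable {G : Type u} [Group G]

/-- a subgroup of order 2 containing a nontrivial element is generated by it -/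
theorem eq_zpowers_of_card_two [Finite G] {F : Subgroup G} (hF : Nat.card ↥F = 2) {ζ : G} (hζ : ζ ∈ F)
    (hζ1 : ζ ≠ 1) : F = Subgroup.zpowers ζ := by
  symm
  apply Subgroup.eq_of_le_of_card_ge (by rw [Subgroup.zpowers_le]; exact hζ)
  rw [hF, Nat.card_zpowers]
  have h1 : orderOf ζ ∣ 2 := by
    have := orderOf_dvd_natCard (⟨ζ, hζ⟩ : ↥F)
    rw [hF] at this
    rwa [← Subgroup.orderOf_coe] at this
  rcases (Nat.dvd_prime Nat.prime_two).mp h1 with h | h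
  · exact absurd (orderOf_eq_one_iff.mp h) hζ1
  · exact h.ge

theorem mem_zpowers_of_sq {ζ x : G} (hζ : ζ * ζ = 1) (hx : x ∈ Subgroup.zpowers ζ) : x = 1 ∨ x = ζ := by
  obtain ⟨i, rfl⟩ := Subgroup.mem_zpowers_iff.mp hx
  have hi : ζ ^ i = ζ ^ (i % 2) := zpow_eq_zpow_emod i (by
    rw [show ((2 : ℤ)) = ((2 : ℕ) : ℤ) from rfl, zpow_natCast, pow_two]; exact hζ)
  rw [hi]
  have h2 : i % 2 = 0 ∨ i % 2 = 1 := by omega
  rcases h2 with h2 | h2
  · left; rw [h2, zpow_zero]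
  · right; rw [h2, zpow_one]

namespace Cfg

variable [Finite G] {M T K L : Subgroup G}

theorem pCoreOf_le_T (c : Cfg M T K L) : Cfsg.pCoreOf 2 L ≤ T := by
  haveI : Fact (Nat.Prime 2) := ⟨Nat.prime_two⟩
  apply Cfsg.Agent.Lead.KInf.pCoreOf_le_of_sylow c.T_le c.T2
  rw [← even_iff_two_dvd, Nat.not_even_iff_odd]
  exact c.sylow.2.2

/-- `Ω₁(Z(S)) ≤ Ω₁(Z(T))` for a Sylow 2-subgroup `S ⊇ T` -/
theorem omegaS_le_omegaT (c : Cfg M T K L) (S : Sylow 2 G) (hTS : T ≤ (S : Subgroup G)) :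
    Cfsg.omegaCenterOf (S : Subgroup G) ≤ Cfsg.omegaCenterOf T := by
  intro z hz
  obtain ⟨hzS, hzc, hz2⟩ := JComp.mem_omegaCenterOf hz
  have hzT : z ∈ T := by
    apply c.pCoreOf_le_T
    apply c.centralizer_pCoreOf_le
    rw [Subgroup.mem_centralizer_iff]
    intro q hq
    exact hzc q (hTS (c.pCoreOf_le_T hq))
  exact mem_omegaCenterOf_of hzT (fun x hx => hzc x (hTS hx)) hz2

/-- `Ω₁(Z(T)) ≤ Z₀` -/
theorem omegaT_le_Z0 (c : Cfg M T K L) :
    Cfsg.omegaCenterOf T ≤ Cfsg.omegaCenterOf (Cfsg.thompsonSubgroupOf 2 T) := by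
  intro z hz
  obtain ⟨hzT, hzc, hz2⟩ := JComp.mem_omegaCenterOf hz
  obtain ⟨A, hA⟩ := exists_isMaxEA T
  have hzA : z ∈ A := hA.mem_of_centralizes hzT hz2 (fun e he => hzc e (hA.1 he))
  exact mem_omegaCenterOf_of (hA.le_thompson hzA) (fun x hx => hzc x (c.J_le_T hx)) hz2

theorem T_le_normalizer_J (_c : Cfg M T K L) :
    T ≤ Subgroup.normalizer (Cfsg.thompsonSubgroupOf 2 T : Set G) :=
  Subgroup.le_normalizer.trans (normalizer_le_normalizer_thompsonSubgroupOf 2 T)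

/-- an element normalizing `K` and `J(T)` normalizes `Z₁` -/
theorem conj_mem_Z1 (c : Cfg M T K L) {n : G} (hnK : n ∈ Subgroup.normalizer (K : Set G))
    (hnJ : n ∈ Subgroup.normalizer (Cfsg.thompsonSubgroupOf 2 T : Set G)) {u : G} (hu : u ∈ Z1 K T) :
    n * u * n⁻¹ ∈ Z1 K T := by
  rw [mem_Z1] at hu ⊢
  refine ⟨c.conj_mem_Z0 hnJ hu.1, ?_⟩
  intro x hx
  have hn : n ∈ Subgroup.normalizer ((K ⊔ Cfsg.thompsonSubgroupOf 2 T : Subgroup G) : Set G) := by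
    have h1 : (K ⊔ Cfsg.thompsonSubgroupOf 2 T).map (MulAut.conj n).toMonoidHom =
        K ⊔ Cfsg.thompsonSubgroupOf 2 T := by
      rw [Subgroup.map_sup, map_conj_eq_of_mem_normalizer hnK, map_conj_eq_of_mem_normalizer hnJ]
    exact (Subgroup.mem_normalizer_iff_map_conj_eq).mpr h1
  have hx' : n⁻¹ * x * n ∈ K ⊔ Cfsg.thompsonSubgroupOf 2 T := by
    have := (Subgroup.mem_normalizer_iff.mp (Subgroup.inv_mem _ hn) x).mp hx
    simpa using this
  have h2 := hu.2 _ hx'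
  calc x * (n * u * n⁻¹) = n * ((n⁻¹ * x * n) * u) * n⁻¹ := by group
    _ = n * (u * (n⁻¹ * x * n)) * n⁻¹ := by rw [h2]
    _ = n * u * n⁻¹ * x := by group

/-- the situation `|Z₁| = 2`, `Z₁ = ⟨u⟩`, `Z₀ ∩ W_K = ⟨w⟩` -/
structure Four (c : Cfg M T K L) (u w : G) : Prop where
  hu : u ∈ Z1 K T
  hu1 : u ≠ 1
  huniq : ∀ v ∈ Z1 K T, v ≠ 1 → v = u
  hw1 : w ≠ 1
  hwZ : w ∈ Cfsg.omegaCenterOf (Cfsg.thompsonSubgroupOf 2 T)
  hwW : w ∈ Cfsg.wOf K
  hwall : ∀ x ∈ Cfsg.omegaCenterOf (Cfsg.thompsonSubgroupOf 2 T) ⊓ Cfsg.wOf K, x = 1 ∨ x = w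

namespace Four

variable {c : Cfg M T K L} {u w : G}

theorem huZ (f : Four c u w) : u ∈ Cfsg.omegaCenterOf (Cfsg.thompsonSubgroupOf 2 T) :=
  Z1_le_Z0 K T f.hu

theorem enum (f : Four c u w) {z : G}
    (hz : z ∈ Cfsg.omegaCenterOf (Cfsg.thompsonSubgroupOf 2 T)) :
    z = 1 ∨ z = u ∨ z = w ∨ z = u * w := by
  obtain ⟨a, ha, b, hb, rfl⟩ := c.Z0_decomp hz
  have ha' : a = 1 ∨ a = u := by
    by_cases h : a = 1
    · exact Or.inl h
    · exact Or.inr (f.huniq a ha h)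
  rcases ha' with rfl | rfl <;> rcases f.hwall b hb with rfl | rfl <;> simp

theorem u_ne_w (f : Four c u w) : u ≠ w := by
  intro e
  apply f.hu1
  exact c.Z1_inf_W f.hu (e ▸ f.hwW)

theorem uw_ne_one (f : Four c u w) : u * w ≠ 1 := by
  intro e
  apply f.u_ne_w
  have := c.Z0_inv f.hwZ
  rw [← this]
  exact eq_inv_of_mul_eq_one_left e

theorem uw_ne_u (f : Four c u w) : u * w ≠ u := by
  intro e
  apply f.hw1
  simpa using e

theorem uw_ne_w (f : Four c u w) : u * w ≠ w := by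
  intro e
  apply f.hu1
  simpa using e

theorem card_Z0 (f : Four c u w) :
    Nat.card ↥(Cfsg.omegaCenterOf (Cfsg.thompsonSubgroupOf 2 T)) = 4 := by
  rw [c.card_Z0]
  have h2 : Nat.card ↥(Z1 K T) = 2 := by
    rw [Nat.card_eq_two_iff]
    refine ⟨⟨1, Subgroup.one_mem _⟩, ⟨u, f.hu⟩, ?_, ?_⟩
    · intro e
      exact f.hu1 (congrArg Subtype.val e).symm
    · ext x
      simp only [Set.mem_insert_iff, Set.mem_singleton_iff, Set.mem_univ, iff_true]
      by_cases h : (x : G) = 1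
      · left; exact Subtype.ext h
      · right; exact Subtype.ext (f.huniq x x.2 h)
  rw [h2]

/-- if `w` is central in `T` then `T` centralizes `u` -/
theorem T_cent_u_of_w (f : Four c u w) (hwT : w ∈ Cfsg.omegaCenterOf T) {t : G} (ht : t ∈ T) :
    t * u * t⁻¹ = u := by
  obtain ⟨hwT', hwc, -⟩ := JComp.mem_omegaCenterOf hwT
  have hTK : T ≤ Subgroup.normalizer (K : Set G) := by
    apply Cfsg.Agent.S2943.result c.hL c.hN c.hZ T c.T2 c.T1 L c.mem_jOvergroups K c.isJComponent c.K_le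
    intro hbot
    apply f.hw1
    have : w ∈ T ⊓ Subgroup.centralizer (T : Set G) ⊓ Cfsg.wOf K := by
      have hwC : w ∈ Subgroup.centralizer (T : Set G) := by
        rw [Subgroup.mem_centralizer_iff]
        intro x hx
        exact hwc x hx
      exact ⟨⟨hwT', hwC⟩, f.hwW⟩
    rw [hbot] at this
    exact Subgroup.mem_bot.mp this
  have h1 := c.conj_mem_Z1 (hTK ht) (c.T_le_normalizer_J ht) f.hu
  by_contra hne
  have h2 : t * u * t⁻¹ ≠ 1 := by
    intro e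
    apply f.hu1
    have : u = t⁻¹ * (t * u * t⁻¹) * t := by group
    rw [this, e]; group
  exact hne (f.huniq _ h1 h2)

/-- if `T` centralizes `u` then `u ∈ Ω₁(Z(T))` -/
theorem u_mem_omegaT (f : Four c u w) (h : ∀ t ∈ T, t * u * t⁻¹ = u) : u ∈ Cfsg.omegaCenterOf T := by
  have huT : u ∈ T := c.J_le_T (JComp.mem_omegaCenterOf f.huZ).1
  apply mem_omegaCenterOf_of huT _ (c.Z0_sq f.huZ)
  intro t ht
  have := h t ht
  calc t * u = t * u * t⁻¹ * t := by group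
    _ = u * t := by rw [this]

/-- if `Ω₁(Z(T)) = ⟨u w⟩` then some element of `T` maps `u` to `w` -/
theorem exists_swap (f : Four c u w) (hF : Cfsg.omegaCenterOf T = Subgroup.zpowers (u * w)) :
    ∃ t₀ ∈ T, t₀ * u * t₀⁻¹ = w := by
  have hζ2 : (u * w) * (u * w) = 1 := c.Z0_sq (Subgroup.mul_mem _ f.huZ f.hwZ)
  have hζF : u * w ∈ Cfsg.omegaCenterOf T := by rw [hF]; exact Subgroup.mem_zpowers _
  have hex : ∃ t₀ ∈ T, t₀ * u * t₀⁻¹ ≠ u := by
    by_contra hcon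
    push Not at hcon
    have huF := f.u_mem_omegaT hcon
    rw [hF] at huF
    rcases mem_zpowers_of_sq hζ2 huF with h | h
    · exact f.hu1 h
    · exact f.uw_ne_u h.symm
  obtain ⟨t₀, ht₀, ht₀u⟩ := hex
  refine ⟨t₀, ht₀, ?_⟩
  have ht₀ζ : t₀ * (u * w) * t₀⁻¹ = u * w := by
    have := (JComp.mem_omegaCenterOf hζF).2.1 t₀ ht₀
    rw [this]; group
  rcases f.enum (c.conj_mem_Z0 (c.T_le_normalizer_J ht₀) f.huZ) with h | h | h | h
  · exfalso
    apply f.hu1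
    have : u = t₀⁻¹ * (t₀ * u * t₀⁻¹) * t₀ := by group
    rw [this, h]; group
  · exact absurd h ht₀u
  · exact h
  · exfalso
    rw [← ht₀ζ] at h
    have h2 : u = u * w := mul_left_cancel (mul_right_cancel h)
    exact f.uw_ne_u h2.symm

end Four

/-- the `Four` structure from a bound on `Z₁` -/
theorem exists_four (c : Cfg M T K L) (huniq : ∀ v ∈ Z1 K T, ∀ v' ∈ Z1 K T, v ≠ 1 → v' ≠ 1 → v = v')
    (hex : ∃ u ∈ Z1 K T, u ≠ 1) : ∃ u w : G, Four c u w := by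
  obtain ⟨w, hw1, hwZ, hwW, hwall⟩ := c.exists_w
  obtain ⟨u, hu, hu1⟩ := hex
  exact ⟨u, w, hu, hu1, fun v hv hv1 => huniq v hv u hu hv1 hu1, hw1, hwZ, hwW, hwall⟩

/-- alternative (a) when `Z₁ = 1` -/
theorem tri_of_Z1_bot (c : Cfg M T K L) (S : Sylow 2 G) (hTS : T ≤ (S : Subgroup G))
    (h1 : ∀ u ∈ Z1 K T, u = 1) : Tri T L S := by
  left
  have hZ1 : Z1 K T = ⊥ := by
    rw [eq_bot_iff]
    intro x hx
    exact Subgroup.mem_bot.mpr (h1 x hx)
  have hcard : Nat.card ↥(Cfsg.omegaCenterOf (Cfsg.thompsonSubgroupOf 2 T)) = 2 := by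
    rw [c.card_Z0, hZ1, Subgroup.card_bot]
  refine ⟨?_, hcard⟩
  have hS1 : (S : Subgroup G) ≠ ⊥ := by
    intro e
    apply c.T1
    rw [eq_bot_iff, ← e]
    exact hTS
  obtain ⟨ζ, hζ, hζ1⟩ := exists_mem_omegaCenterOf S.2 hS1
  have hZle : Cfsg.omegaCenterOf (S : Subgroup G) ≤
      Cfsg.omegaCenterOf (Cfsg.thompsonSubgroupOf 2 T) :=
    (c.omegaS_le_omegaT S hTS).trans c.omegaT_le_Z0
  apply le_antisymm hZle
  rw [eq_zpowers_of_card_two hcard (hZle hζ) hζ1, Subgroup.zpowers_le]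
  exact hζ

end Cfg

end Cfsg.Agent.Lead.J51
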