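import Mathlib
import Cfsg.Prelude.Def_JComponents
import Cfsg.Agent.Lead.J51C

/-!
Lead: S2951 in the case `N_G(J(T)) ≰ L`: the trichotomy.
-/

set_option autoImplicit false
set_option linter.unusedSectionVars false
set_option linter.style.haveILetI false

namespace Cfsg.Agent.Lead.J51

open Cfsg Cfsg.Agent.Lead.JComp Cfsg.Agent.Helper1.JLS Cfsg.Agent.Lead.JUniq

universe u

variable {G : Type u} [Group G]

theorem sylow_smul_coe (g : G) (S : Sylow 2 G) :
    ((g • S : Sylow 2 G) : Subgroup G) = (S : Subgroup G).map (MulAut.conj g).toMonoidHom := rfl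

/-- `Ω₁(Z(gSg⁻¹))` when `Ω₁(Z(S)) = ⟨ζ⟩` -/
theorem omega_smul_eq (g : G) (S : Sylow 2 G) {ζ : G}
    (h : Cfsg.omegaCenterOf (S : Subgroup G) = Subgroup.zpowers ζ) :
    Cfsg.omegaCenterOf ((g • S : Sylow 2 G) : Subgroup G) = Subgroup.zpowers (g * ζ * g⁻¹) := by
  rw [sylow_smul_coe, JComp.omegaCenterOf_map, h, MonoidHom.map_zpowers]
  rfl

namespace Cfg

variable [Finite G] {M T K L : Subgroup G}

theorem S_ne_bot (c : Cfg M T K L) (S : Sylow 2 G) (hTS : T ≤ (S : Subgroup G)) :
    (S : Subgroup G) ≠ ⊥ := by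
  intro e
  apply c.T1
  rw [eq_bot_iff, ← e]
  exact hTS

/-- a nontrivial element of `Ω₁(Z(S))` -/
theorem exists_zeta (c : Cfg M T K L) (S : Sylow 2 G) (hTS : T ≤ (S : Subgroup G)) :
    ∃ ζ ∈ Cfsg.omegaCenterOf (S : Subgroup G), ζ ≠ 1 :=
  exists_mem_omegaCenterOf S.2 (c.S_ne_bot S hTS)

namespace Four

variable {c : Cfg M T K L} {u w : G}

/-- `m` moves `u` -/
theorem m_moves (f : Four c u w) {m : G}
    (hm : m ∈ Subgroup.normalizer (Cfsg.thompsonSubgroupOf 2 T : Set G)) (hmL : m ∉ L) :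
    m * u * m⁻¹ ≠ u := by
  intro e
  apply f.hu1
  apply c.Z1_conj_inter hm hmL f.hu
  have : m⁻¹ * u * m = m⁻¹ * (m * u * m⁻¹) * m := by rw [e]
  rw [this]
  have : m⁻¹ * (m * u * m⁻¹) * m = u := by group
  rw [this]; exact f.hu

/-- `T` centralizes `Z₀` -/
theorem omegaT_eq (f : Four c u w) {m : G}
    (hm : m ∈ Subgroup.normalizer (Cfsg.thompsonSubgroupOf 2 T : Set G)) (hmL : m ∉ L)
    (S : Sylow 2 G) (hTS : T ≤ (S : Subgroup G)) :
    Cfsg.omegaCenterOf T = Cfsg.omegaCenterOf (Cfsg.thompsonSubgroupOf 2 T) := by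
  have hFle := c.omegaT_le_Z0
  have hdvd : Nat.card ↥(Cfsg.omegaCenterOf T) ∣ 2 ^ 2 := by
    have := Subgroup.card_dvd_of_le hFle
    rwa [f.card_Z0] at this
  obtain ⟨ζ, hζ, hζ1⟩ := c.exists_zeta S hTS
  have hζF : ζ ∈ Cfsg.omegaCenterOf T := c.omegaS_le_omegaT S hTS hζ
  have hζ2 : ζ * ζ = 1 := (JComp.mem_omegaCenterOf hζ).2.2
  obtain ⟨k, hk, hcard⟩ := (Nat.dvd_prime_pow Nat.prime_two).mp hdvd
  interval_cases k
  · -- order 1
    exfalso
    rw [pow_zero] at hcard
    have := Subgroup.card_eq_one.mp hcard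
    rw [this] at hζF
    exact hζ1 (Subgroup.mem_bot.mp hζF)
  · -- order 2
    exfalso
    rw [pow_one] at hcard
    have hF : Cfsg.omegaCenterOf T = Subgroup.zpowers ζ := eq_zpowers_of_card_two hcard hζF hζ1
    have hZ : Cfsg.omegaCenterOf (S : Subgroup G) = Subgroup.zpowers ζ := by
      apply le_antisymm
      · rw [← hF]; exact c.omegaS_le_omegaT S hTS
      · rw [Subgroup.zpowers_le]; exact hζ
    have hFmem : ∀ x ∈ Cfsg.omegaCenterOf T, x = 1 ∨ x = ζ := by
      intro x hx
      rw [hF] at hx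
      exact mem_zpowers_of_sq hζ2 hx
    rcases f.enum (hFle hζF) with e | e | e | e
    · exact hζ1 e
    · -- ζ = u
      rw [e] at hZ
      exact c.omegaCenterOf_ne_zpowers S (mem_Z1.mp f.hu).2 hZ
    · -- ζ = w
      have hwT : w ∈ Cfsg.omegaCenterOf T := e ▸ hζF
      have huF : u ∈ Cfsg.omegaCenterOf T := f.u_mem_omegaT (fun t ht => f.T_cent_u_of_w hwT ht)
      rcases hFmem u huF with h | h
      · exact f.hu1 h
      · exact f.u_ne_w (h.trans e)
    · -- ζ = u * w
      obtain ⟨t₀, ht₀, ht₀w⟩ := f.exists_swap (e ▸ hF)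
      rcases f.enum (c.conj_mem_Z0 hm f.huZ) with h | h | h | h
      · apply f.hu1
        have : u = m⁻¹ * (m * u * m⁻¹) * m := by group
        rw [this, h]; group
      · exact f.m_moves hm hmL h
      · -- `m u m⁻¹ = w`
        have hm' : t₀⁻¹ * m ∈ Subgroup.normalizer (Cfsg.thompsonSubgroupOf 2 T : Set G) :=
          Subgroup.mul_mem _ (Subgroup.inv_mem _ (c.T_le_normalizer_J ht₀)) hm
        have hm'L : t₀⁻¹ * m ∉ L := by
          intro hL
          apply hmL
          have : m = t₀ * (t₀⁻¹ * m) := by group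
          rw [this]
          exact L.mul_mem (c.T_le ht₀) hL
        apply f.hu1
        apply c.Z1_conj_inter hm' hm'L f.hu
        have : (t₀⁻¹ * m)⁻¹ * u * (t₀⁻¹ * m) = m⁻¹ * (t₀ * u * t₀⁻¹) * m := by group
        rw [this, ht₀w, ← h]
        have : m⁻¹ * (m * u * m⁻¹) * m = u := by group
        rw [this]; exact f.hu
      · -- `m u m⁻¹ = u w = ζ`
        have h3 := omega_smul_eq m⁻¹ S hZ
        have h4 : m⁻¹ * ζ * m⁻¹⁻¹ = u := by
          rw [e, ← h]; group
        rw [h4] at h3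
        exact c.omegaCenterOf_ne_zpowers _ (mem_Z1.mp f.hu).2 h3
  · -- order 4
    exact Subgroup.eq_of_le_of_card_ge hFle (by rw [f.card_Z0, hcard]; norm_num)

/-- alternative (b) or (c) of S2951, once `Ω₁(Z(T)) = Z₀` -/
theorem tri (f : Four c u w) (S : Sylow 2 G) (hTS : T ≤ (S : Subgroup G))
    (hΩ : Cfsg.omegaCenterOf T = Cfsg.omegaCenterOf (Cfsg.thompsonSubgroupOf 2 T)) : Tri T L S := by
  haveI : Fact (Nat.Prime 2) := ⟨Nat.prime_two⟩
  have hu2 : u * u = 1 := c.Z0_sq f.huZ
  have hstar := c.star hu2 f.hu1 (mem_Z1.mp f.hu).2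
  by_cases hZ : Cfsg.omegaCenterOf (S : Subgroup G) = Cfsg.omegaCenterOf (Cfsg.thompsonSubgroupOf 2 T)
  · right; left
    refine ⟨hZ, f.card_Z0, ?_⟩
    have huS : u ∈ Cfsg.omegaCenterOf (S : Subgroup G) := hZ ▸ f.huZ
    have hSL : (S : Subgroup G) ≤ L := by
      refine le_trans ?_ hstar
      intro s hs
      rw [Subgroup.mem_centralizer_iff]
      intro y hy
      rw [Set.mem_singleton_iff] at hy
      subst hy
      exact ((JComp.mem_omegaCenterOf huS).2.1 s hs).symm
    exact (eq_of_isSylowTwoIn c.sylow S.2 hTS hSL).symm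
  · right; right
    refine ⟨hΩ, f.card_Z0, ?_⟩
    obtain ⟨ζ, hζ, hζ1⟩ := c.exists_zeta S hTS
    have hZle : Cfsg.omegaCenterOf (S : Subgroup G) ≤
        Cfsg.omegaCenterOf (Cfsg.thompsonSubgroupOf 2 T) :=
      (c.omegaS_le_omegaT S hTS).trans c.omegaT_le_Z0
    have hζZ0 := hZle hζ
    have hζ2 : ζ * ζ = 1 := c.Z0_sq hζZ0
    -- `Z = ⟨ζ⟩`
    have hZeq : Cfsg.omegaCenterOf (S : Subgroup G) = Subgroup.zpowers ζ := by
      have hdvd : Nat.card ↥(Cfsg.omegaCenterOf (S : Subgroup G)) ∣ 2 ^ 2 := by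
        have := Subgroup.card_dvd_of_le hZle
        rwa [f.card_Z0] at this
      obtain ⟨k, hk, hcard⟩ := (Nat.dvd_prime_pow Nat.prime_two).mp hdvd
      interval_cases k
      · exfalso
        rw [pow_zero] at hcard
        have := Subgroup.card_eq_one.mp hcard
        rw [this] at hζ
        exact hζ1 (Subgroup.mem_bot.mp hζ)
      · rw [pow_one] at hcard
        exact eq_zpowers_of_card_two hcard hζ hζ1
      · exfalso
        exact hZ (Subgroup.eq_of_le_of_card_ge hZle (by rw [f.card_Z0, hcard]; norm_num))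
    have hζu : ζ ≠ u := by
      intro e
      rw [e] at hZeq
      exact c.omegaCenterOf_ne_zpowers S (mem_Z1.mp f.hu).2 hZeq
    have huζ1 : u * ζ ≠ 1 := by
      intro e
      apply hζu
      have : u⁻¹ = u := c.Z0_inv f.huZ
      rw [← this]
      exact (eq_inv_of_mul_eq_one_right e)
    -- enumeration in terms of `ζ`
    have enum' : ∀ z ∈ Cfsg.omegaCenterOf (Cfsg.thompsonSubgroupOf 2 T),
        z = 1 ∨ z = u ∨ z = ζ ∨ z = u * ζ := by
      intro z hz
      rcases f.enum hζZ0 with e | e | e | e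
      · exact absurd e hζ1
      · exact absurd e hζu
      · rcases f.enum hz with h | h | h | h
        · exact Or.inl h
        · exact Or.inr (Or.inl h)
        · exact Or.inr (Or.inr (Or.inl (h.trans e.symm)))
        · exact Or.inr (Or.inr (Or.inr (by rw [h, e])))
      · rcases f.enum hz with h | h | h | h
        · exact Or.inl h
        · exact Or.inr (Or.inl h)
        · refine Or.inr (Or.inr (Or.inr ?_))
          rw [h, e, ← mul_assoc, hu2, one_mul]
        · exact Or.inr (Or.inr (Or.inl (h.trans e.symm)))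
    -- `T ≠ S`
    have hTne : T ≠ (S : Subgroup G) := by
      intro e
      apply hZ
      rw [← hΩ, e]
    have hlt : T < (S : Subgroup G) := lt_of_le_of_ne hTS hTne
    obtain ⟨t, htS, htN, htT⟩ := Cfsg.Agent.Helper4.exists_mem_normalizer_not_mem (p := 2)
      (S : Subgroup G) S.2 T hlt
    have htJ : t ∈ Subgroup.normalizer (Cfsg.thompsonSubgroupOf 2 T : Set G) :=
      normalizer_le_normalizer_thompsonSubgroupOf 2 T htN
    have hNZ : Subgroup.normalizer (Cfsg.thompsonSubgroupOf 2 T : Set G) ≤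
        Subgroup.normalizer (Cfsg.omegaCenterOf (Cfsg.thompsonSubgroupOf 2 T) : Set G) :=
      normalizer_le_normalizer_omegaCenterOf _
    have htζ : t * ζ * t⁻¹ = ζ := by
      have := (JComp.mem_omegaCenterOf hζ).2.1 t htS
      rw [this]; group
    -- conjugation by elements of `N_G(Z₀)`
    have hconj : ∀ n ∈ Subgroup.normalizer (Cfsg.omegaCenterOf (Cfsg.thompsonSubgroupOf 2 T) : Set G),
        ∀ z ∈ Cfsg.omegaCenterOf (Cfsg.thompsonSubgroupOf 2 T),
          n * z * n⁻¹ ∈ Cfsg.omegaCenterOf (Cfsg.thompsonSubgroupOf 2 T) := by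
      intro n hn z hz
      exact (Subgroup.mem_normalizer_iff.mp hn z).mp hz
    have hinj : ∀ (n a b : G), n * a * n⁻¹ = n * b * n⁻¹ → a = b := by
      intro n a b h
      have : a = n⁻¹ * (n * a * n⁻¹) * n := by group
      rw [this, h]; group
    -- `t` moves `u`
    have htu : t * u * t⁻¹ ≠ u := by
      intro e
      apply htT
      have htL : t ∈ L := by
        apply hstar
        rw [Subgroup.mem_centralizer_iff]
        intro y hy
        rw [Set.mem_singleton_iff] at hy
        subst hy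
        calc y * t = (t * y * t⁻¹) * t := by rw [e]
          _ = t * y := by group
      have h2 : IsPGroup 2 ↥(T ⊔ Subgroup.zpowers t) :=
        S.2.to_le (sup_le hTS (by rw [Subgroup.zpowers_le]; exact htS))
      have h3 := eq_of_isSylowTwoIn c.sylow h2 le_sup_left
        (sup_le c.T_le (by rw [Subgroup.zpowers_le]; exact htL))
      rw [← h3]
      exact le_sup_right (a := T) (Subgroup.mem_zpowers t)
    -- (α)
    have hα : ∀ n : G, n * u * n⁻¹ ≠ ζ := by
      intro n e
      have h3 := omega_smul_eq n⁻¹ S hZeq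
      have h4 : n⁻¹ * ζ * n⁻¹⁻¹ = u := by rw [← e]; group
      rw [h4] at h3
      exact c.omegaCenterOf_ne_zpowers _ (mem_Z1.mp f.hu).2 h3
    have hα' : ∀ n : G, n * ζ * n⁻¹ ≠ u := by
      intro n e
      apply hα n⁻¹
      rw [← e]; group
    -- `t u t⁻¹ = u ζ`
    have htuζ : t * u * t⁻¹ = u * ζ := by
      rcases enum' _ (hconj t (hNZ htJ) u f.huZ) with h | h | h | h
      · exact absurd (hinj t u 1 (by rw [h]; group)) f.hu1
      · exact absurd h htu
      · exact absurd h (hα t)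
      · exact h
    -- (γ)
    have hγ : ∀ n ∈ Subgroup.normalizer (Cfsg.omegaCenterOf (Cfsg.thompsonSubgroupOf 2 T) : Set G),
        n * ζ * n⁻¹ = ζ := by
      intro n hn
      rcases enum' _ (hconj n hn ζ hζZ0) with h | h | h | h
      · exact absurd (hinj n ζ 1 (by rw [h]; group)) hζ1
      · exact absurd h (hα' n)
      · exact h
      · exfalso
        -- then `n u n⁻¹ = u` and `(t n) ζ (t n)⁻¹ = u`
        have h5 : n * u * n⁻¹ = u := by
          rcases enum' _ (hconj n hn u f.huZ) with h' | h' | h' | h'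
          · exact absurd (hinj n u 1 (by rw [h']; group)) f.hu1
          · exact h'
          · exact absurd h' (hα n)
          · exact absurd (hinj n u ζ (h'.trans h.symm)) hζu.symm
        apply hα' (t * n)
        calc t * n * ζ * (t * n)⁻¹ = t * (n * ζ * n⁻¹) * t⁻¹ := by group
          _ = t * (u * ζ) * t⁻¹ := by rw [h]
          _ = (t * u * t⁻¹) * (t * ζ * t⁻¹) := by group
          _ = u * ζ * ζ := by rw [htuζ, htζ]
          _ = u := by rw [mul_assoc, hζ2, mul_one]
    -- (δ)
    have hδ : ∀ n ∈ Subgroup.normalizer (Cfsg.omegaCenterOf (Cfsg.thompsonSubgroupOf 2 T) : Set G),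
        n * u * n⁻¹ = u ∨ n * u * n⁻¹ = u * ζ := by
      intro n hn
      rcases enum' _ (hconj n hn u f.huZ) with h | h | h | h
      · exact absurd (hinj n u 1 (by rw [h]; group)) f.hu1
      · exact Or.inl h
      · exact absurd h (hα n)
      · exact Or.inr h
    -- membership in `C_L(Z₀)`
    have hmemC : ∀ b ∈ Subgroup.normalizer (Cfsg.omegaCenterOf (Cfsg.thompsonSubgroupOf 2 T) : Set G),
        (b ∈ L ⊓ Subgroup.centralizer (Cfsg.omegaCenterOf (Cfsg.thompsonSubgroupOf 2 T) : Set G) ↔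
          b * u * b⁻¹ = u) := by
      intro b hb
      constructor
      · rintro ⟨-, hbC⟩
        have := Subgroup.mem_centralizer_iff.mp hbC u f.huZ
        rw [← this]; group
      · intro hbu
        have hbC : b ∈ Subgroup.centralizer
            (Cfsg.omegaCenterOf (Cfsg.thompsonSubgroupOf 2 T) : Set G) := by
          rw [Subgroup.mem_centralizer_iff]
          intro z hz
          have hbζ := hγ b hb
          have key : b * z * b⁻¹ = z := by
            rcases enum' z hz with h | h | h | h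
            · rw [h]; group
            · rw [h]; exact hbu
            · rw [h]; exact hbζ
            · rw [h]
              calc b * (u * ζ) * b⁻¹ = (b * u * b⁻¹) * (b * ζ * b⁻¹) := by group
                _ = u * ζ := by rw [hbu, hbζ]
          calc z * b = (b * z * b⁻¹) * b := by rw [key]
            _ = b * z := by group
        refine ⟨?_, hbC⟩
        apply hstar
        rw [Subgroup.mem_centralizer_iff]
        intro y hy
        rw [Set.mem_singleton_iff] at hy
        subst hy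
        exact Subgroup.mem_centralizer_iff.mp hbC y f.huZ
    rw [Subgroup.relIndex_eq_two_iff]
    refine ⟨t, hNZ htJ, ?_⟩
    intro b hb
    have hbt : b * t ∈ Subgroup.normalizer
        (Cfsg.omegaCenterOf (Cfsg.thompsonSubgroupOf 2 T) : Set G) :=
      Subgroup.mul_mem _ hb (hNZ htJ)
    rw [hmemC b hb, hmemC (b * t) hbt]
    have hcalc : b * t * u * (b * t)⁻¹ = (b * u * b⁻¹) * ζ := by
      calc b * t * u * (b * t)⁻¹ = b * (t * u * t⁻¹) * b⁻¹ := by group
        _ = b * (u * ζ) * b⁻¹ := by rw [htuζ]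
        _ = (b * u * b⁻¹) * (b * ζ * b⁻¹) := by group
        _ = (b * u * b⁻¹) * ζ := by rw [hγ b hb]
    rw [hcalc]
    rcases hδ b hb with h | h
    · rw [h]
      refine Or.inr ⟨rfl, ?_⟩
      intro e
      apply hζ1
      simpa using e
    · rw [h]
      refine Or.inl ⟨?_, ?_⟩
      · rw [mul_assoc, hζ2, mul_one]
      · intro e
        apply hζ1
        simpa using e

end Four

/-- S2951 when `N_G(J(T)) ≰ L` -/
theorem tri_of_not_le (c : Cfg M T K L) (S : Sylow 2 G) (hTS : T ≤ (S : Subgroup G))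
    (hNJ : ¬ Subgroup.normalizer (Cfsg.thompsonSubgroupOf 2 T : Set G) ≤ L) : Tri T L S := by
  obtain ⟨m, hm, hmL⟩ := SetLike.not_le_iff_exists.mp hNJ
  by_cases h1 : ∃ u ∈ Z1 K T, u ≠ 1
  · obtain ⟨u, w, f⟩ := c.exists_four
      (fun v hv v' hv' hv1 hv'1 => c.Z1_unique hm hmL hv hv' hv1 hv'1) h1
    exact f.tri S hTS (f.omegaT_eq hm hmL S hTS)
  · push Not at h1
    exact c.tri_of_Z1_bot S hTS h1

end Cfg

end Cfsg.Agent.Lead.J51
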