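import Mathlib
import Cfsg.Prelude.Def_JComponents
import Cfsg.Agent.Lead.J51D
import Cfsg.Agent.Helper1.JLTF

/-!
Lead: S2951 in the case `T = S`, `N_G(J(S)) ≤ L`, and some 2-local subgroup containing `S` is not inside `L`:
a second configuration `(L, S, K', L')`.
-/

set_option autoImplicit false
set_option linter.unusedSectionVars false
set_option linter.style.haveILetI false

namespace Cfsg.Agent.Lead.J51

open Cfsg Cfsg.Agent.Lead.JComp Cfsg.Agent.Helper1.JLS Cfsg.Agent.Lead.JUniq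

universe u

variable {G : Type u} [Group G] [Finite G]

theorem isMaxEA_conj {P A : Subgroup G} (hA : IsMaxEA P A) (g : G) :
    IsMaxEA (P.map (MulAut.conj g).toMonoidHom) (A.map (MulAut.conj g).toMonoidHom) := by
  refine ⟨Subgroup.map_mono hA.1, ea_map_conj hA.2.1 g, ?_⟩
  intro B hB hBe
  have h1 : B.map (MulAut.conj g⁻¹).toMonoidHom ≤ P := by
    rintro _ ⟨b, hb, rfl⟩
    obtain ⟨x, hx, e⟩ := hB hb
    have : (MulAut.conj g⁻¹).toMonoidHom b = x := by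
      rw [← e]
      show g⁻¹ * (g * x * g⁻¹) * g⁻¹⁻¹ = x
      group
    rw [this]; exact hx
  have h2 := hA.2.2 _ h1 (ea_map_conj hBe g⁻¹)
  rw [Subgroup.card_map_of_injective (MulAut.conj g⁻¹).injective] at h2
  rwa [Subgroup.card_map_of_injective (MulAut.conj g).injective]

theorem maxElemAbelianOrder_conj (P : Subgroup G) (g : G) :
    Cfsg.maxElemAbelianOrder (P.map (MulAut.conj g).toMonoidHom) = Cfsg.maxElemAbelianOrder P := by
  obtain ⟨A, hA⟩ := exists_isMaxEA P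
  rw [maxElemAbelianOrder_eq hA, maxElemAbelianOrder_eq (isMaxEA_conj hA g),
    Subgroup.card_map_of_injective (MulAut.conj g).injective]

/-- a Sylow 2-subgroup of `G` dominates every 2-subgroup in the lexicographic order -/
theorem sylow_lex (S : Sylow 2 G) {T' : Subgroup G} (hT' : IsPGroup 2 ↥T') :
    Cfsg.maxElemAbelianOrder T' ≤ Cfsg.maxElemAbelianOrder (S : Subgroup G) ∧
    (Cfsg.maxElemAbelianOrder T' = Cfsg.maxElemAbelianOrder (S : Subgroup G) →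
      Nat.card ↥(Cfsg.thompsonSubgroupOf 2 T') ≤
          Nat.card ↥(Cfsg.thompsonSubgroupOf 2 (S : Subgroup G)) ∧
      (Nat.card ↥(Cfsg.thompsonSubgroupOf 2 T') =
          Nat.card ↥(Cfsg.thompsonSubgroupOf 2 (S : Subgroup G)) →
        Nat.card ↥T' ≤ Nat.card ↥(S : Subgroup G))) := by
  haveI : Fact (Nat.Prime 2) := ⟨Nat.prime_two⟩
  obtain ⟨S', hS'⟩ := hT'.exists_le_sylow
  obtain ⟨g, rfl⟩ := MulAction.exists_smul_eq G S S'
  have hS'eq : ((g • S : Sylow 2 G) : Subgroup G) = (S : Subgroup G).map (MulAut.conj g).toMonoidHom :=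
    sylow_smul_coe g S
  rw [hS'eq] at hS'
  have ha : Cfsg.maxElemAbelianOrder T' ≤ Cfsg.maxElemAbelianOrder (S : Subgroup G) := by
    rw [← maxElemAbelianOrder_conj (S : Subgroup G) g]
    exact maxElemAbelianOrder_mono hS'
  refine ⟨ha, fun hae => ⟨?_, fun _ => ?_⟩⟩
  · have hle : Cfsg.thompsonSubgroupOf 2 T' ≤
        Cfsg.thompsonSubgroupOf 2 ((S : Subgroup G).map (MulAut.conj g).toMonoidHom) := by
      apply thompsonSubgroupOf_le_of_le 2 T' _ ((Cfsg.Agent.Lead.thompsonSubgroupOf_le 2 T').trans hS')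
      intro B hB hBe
      obtain ⟨A, hA⟩ := exists_isMaxEA T'
      obtain ⟨A₁, hA₁⟩ := exists_isMaxEA ((S : Subgroup G).map (MulAut.conj g).toMonoidHom)
      refine ⟨A.subgroupOf T', subgroupOf_mem_maxEA T' hA, ?_⟩
      rw [Cfsg.Agent.Lead.card_subgroupOf_of_le hA.1, ← maxElemAbelianOrder_eq hA, hae,
        ← maxElemAbelianOrder_conj (S : Subgroup G) g, maxElemAbelianOrder_eq hA₁]
      exact hA₁.2.2 B hB hBe
    have h1 := Subgroup.card_le_of_le hle
    rwa [thompsonSubgroupOf_map_injective 2 _ (MulAut.conj g).injective,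
      Subgroup.card_map_of_injective (MulAut.conj g).injective] at h1
  · have h1 := Subgroup.card_le_of_le hS'
    rwa [Subgroup.card_map_of_injective (MulAut.conj g).injective] at h1

/-- a straddling Sylow 2-subgroup is maximal straddling -/
theorem sylow_mem_maxStraddling (S : Sylow 2 G) {M' : Subgroup G}
    (h : (S : Subgroup G) ∈ Cfsg.straddlingTwoSubgroups M') :
    (S : Subgroup G) ∈ Cfsg.maxStraddlingTwoSubgroups M' :=
  ⟨h, fun _ hT' => sylow_lex S hT'.1⟩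

namespace Cfg

variable {M T K L : Subgroup G}

/-- the second configuration in case (II-a) -/
theorem exists_second (c : Cfg M T K L) (S : Sylow 2 G) (hTS : T = (S : Subgroup G))
    (hNJ : Subgroup.normalizer (Cfsg.thompsonSubgroupOf 2 (S : Subgroup G) : Set G) ≤ L)
    {N : Subgroup G} (hN2 : Cfsg.IsTwoLocal N) (hSN : (S : Subgroup G) ≤ N) (hNL : ¬ N ≤ L) :
    ∃ K' L' : Subgroup G, Cfg L T K' L' := by
  have hstr : T ∈ Cfsg.straddlingTwoSubgroups L :=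
    ⟨c.T2, c.T1, c.T_le, N, hN2, hTS ▸ hSN, hNL⟩
  have hmax : T ∈ Cfsg.maxStraddlingTwoSubgroups L := by
    rw [hTS] at hstr ⊢
    exact sylow_mem_maxStraddling S hstr
  obtain ⟨K', hK'⟩ := s2949 c.hL c.hN c.hZ S L hNJ T hmax
  obtain ⟨L', h1, h2, -⟩ := s2950_strong c.hL c.hN c.hZ S hNJ hmax hK'
  exact ⟨K', L', c.hL, c.hN, c.hZ, ⟨S, hNJ⟩, hmax, hK', h1, h2⟩

/-- `Z₁(K) ∩ Z₁(K') = 1` -/
theorem Z1_inter_second {K' L' : Subgroup G} (c : Cfg M T K L) (c' : Cfg L T K' L') {u : G}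
    (hu : u ∈ Z1 K T) (hu' : u ∈ Z1 K' T) : u = 1 := by
  by_contra hu1
  apply c'.hK.2.1
  refine le_trans ?_ (c.star (c.Z0_sq (Z1_le_Z0 K T hu)) hu1 (mem_Z1.mp hu).2)
  intro k hk
  rw [Subgroup.mem_centralizer_iff]
  intro y hy
  rw [Set.mem_singleton_iff] at hy
  subst hy
  exact ((mem_Z1.mp hu').2 k (le_sup_left (a := K') hk)).symm

/-- `|Z₁(K)| ≤ 2` when `Z₁(K) ∩ Z₁(K') = 1` -/
theorem Z1_unique_of_inter {M' K' L' : Subgroup G} (c : Cfg M T K L) (c' : Cfg M' T K' L')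
    (hinter : ∀ u ∈ Z1 K T, u ∈ Z1 K' T → u = 1) {u₁ u₂ : G}
    (h₁ : u₁ ∈ Z1 K T) (h₂ : u₂ ∈ Z1 K T) (h₁1 : u₁ ≠ 1) (h₂1 : u₂ ≠ 1) : u₁ = u₂ := by
  obtain ⟨w', hw'1, hw'Z, hw'W, hw'all⟩ := c'.exists_w
  have key : ∀ v ∈ Z1 K T, v ≠ 1 → ∃ a ∈ Z1 K' T, v = a * w' := by
    intro v hv hv1
    obtain ⟨a, ha, b, hb, e⟩ := c'.Z0_decomp (Z1_le_Z0 K T hv)
    rcases hw'all b hb with rfl | rfl
    · exfalso
      rw [mul_one] at e
      exact hv1 (hinter v hv (e ▸ ha))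
    · exact ⟨a, ha, e⟩
  obtain ⟨a₁, ha₁, e₁⟩ := key u₁ h₁ h₁1
  obtain ⟨a₂, ha₂, e₂⟩ := key u₂ h₂ h₂1
  have ha₂Z := Z1_le_Z0 K' T ha₂
  have e3 : u₁ * u₂ = a₁ * a₂ := by
    rw [e₁, e₂]
    calc a₁ * w' * (a₂ * w') = a₁ * (w' * a₂) * w' := by group
      _ = a₁ * (a₂ * w') * w' := by rw [c.Z0_comm hw'Z ha₂Z]
      _ = a₁ * a₂ * (w' * w') := by group
      _ = a₁ * a₂ := by rw [c.Z0_sq hw'Z, mul_one]
  have h5 : u₁ * u₂ = 1 :=
    hinter _ (Subgroup.mul_mem _ h₁ h₂) (e3 ▸ Subgroup.mul_mem _ ha₁ ha₂)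
  have := c.Z0_inv (Z1_le_Z0 K T h₂)
  rw [← this]
  exact eq_inv_of_mul_eq_one_left h5

namespace Four

variable {c : Cfg M T K L} {u w : G}

/-- reduction of `Ω₁(Z(T)) = Z₀` to the exclusion of `Ω₁(Z(T)) = Ω₁(Z(S)) = ⟨u w⟩` -/
theorem omegaT_eq_of (f : Four c u w) (S : Sylow 2 G) (hTS : T ≤ (S : Subgroup G))
    (hcase : Cfsg.omegaCenterOf T = Subgroup.zpowers (u * w) →
      Cfsg.omegaCenterOf (S : Subgroup G) = Subgroup.zpowers (u * w) → False) :
    Cfsg.omegaCenterOf T = Cfsg.omegaCenterOf (Cfsg.thompsonSubgroupOf 2 T) := by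
  have hFle := c.omegaT_le_Z0
  have hdvd : Nat.card ↥(Cfsg.omegaCenterOf T) ∣ 2 ^ 2 := by
    have := Subgroup.card_dvd_of_le hFle
    rwa [f.card_Z0] at this
  obtain ⟨ζ, hζ, hζ1⟩ := c.exists_zeta S hTS
  have hζF : ζ ∈ Cfsg.omegaCenterOf T := c.omegaS_le_omegaT S hTS hζ
  have hζ2 : ζ * ζ = 1 := (JComp.mem_omegaCenterOf hζ).2.2
  obtain ⟨k, hk, hcard⟩ := (Nat.dvd_prime_pow Nat.prime_two).mp hdvd
  interval_cases k
  · exfalso
    rw [pow_zero] at hcard
    have := Subgroup.card_eq_one.mp hcard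
    rw [this] at hζF
    exact hζ1 (Subgroup.mem_bot.mp hζF)
  · exfalso
    rw [pow_one] at hcard
    have hF : Cfsg.omegaCenterOf T = Subgroup.zpowers ζ := eq_zpowers_of_card_two hcard hζF hζ1
    have hZ : Cfsg.omegaCenterOf (S : Subgroup G) = Subgroup.zpowers ζ := by
      apply le_antisymm
      · rw [← hF]; exact c.omegaS_le_omegaT S hTS
      · rw [Subgroup.zpowers_le]; exact hζ
    have hFmem : ∀ x ∈ Cfsg.omegaCenterOf T, x = 1 ∨ x = ζ := by
      intro x hx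
      rw [hF] at hx
      exact mem_zpowers_of_sq hζ2 hx
    rcases f.enum (hFle hζF) with e | e | e | e
    · exact hζ1 e
    · rw [e] at hZ
      exact c.omegaCenterOf_ne_zpowers S (mem_Z1.mp f.hu).2 hZ
    · have hwT : w ∈ Cfsg.omegaCenterOf T := e ▸ hζF
      have huF : u ∈ Cfsg.omegaCenterOf T := f.u_mem_omegaT (fun t ht => f.T_cent_u_of_w hwT ht)
      rcases hFmem u huF with h | h
      · exact f.hu1 h
      · exact f.u_ne_w (h.trans e)
    · exact hcase (e ▸ hF) (e ▸ hZ)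
  · exact Subgroup.eq_of_le_of_card_ge hFle (by rw [f.card_Z0, hcard]; norm_num)

end Four

/-- S2951 in case (II-a) -/
theorem tri_of_second {K' L' : Subgroup G} (c : Cfg M T K L) (c' : Cfg L T K' L') (S : Sylow 2 G)
    (hTS : T = (S : Subgroup G)) : Tri T L S := by
  have hTS' : T ≤ (S : Subgroup G) := hTS.le
  by_cases h1 : ∃ u ∈ Z1 K T, u ≠ 1
  · obtain ⟨u, w, f⟩ := c.exists_four
      (fun v hv v' hv' hv1 hv'1 => c.Z1_unique_of_inter c'
        (fun x hx hx' => c.Z1_inter_second c' hx hx') hv hv' hv1 hv'1) h1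
    have h1' : ∃ u' ∈ Z1 K' T, u' ≠ 1 := by
      by_contra hcon
      push Not at hcon
      have hZ1 : Z1 K' T = ⊥ := by
        rw [eq_bot_iff]
        intro x hx
        exact Subgroup.mem_bot.mpr (hcon x hx)
      have h2 := c'.card_Z0
      rw [hZ1, Subgroup.card_bot, f.card_Z0] at h2
      norm_num at h2
    obtain ⟨u', w', f'⟩ := c'.exists_four
      (fun v hv v' hv' hv1 hv'1 => c'.Z1_unique_of_inter c
        (fun x hx hx' => c.Z1_inter_second c' hx' hx) hv hv' hv1 hv'1) h1'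
    apply f.tri S hTS'
    apply f.omegaT_eq_of S hTS'
    intro hF hZ
    -- `Ω₁(Z(T)) = Ω₁(Z(S)) = ⟨u w⟩`; the same for `K'`
    have hζ1 : u * w ≠ 1 := f.uw_ne_one
    have hζZ0 : u * w ∈ Cfsg.omegaCenterOf (Cfsg.thompsonSubgroupOf 2 T) :=
      Subgroup.mul_mem _ f.huZ f.hwZ
    have hu'ne : u' ≠ u * w := by
      intro e
      rw [← e] at hZ
      exact c'.omegaCenterOf_ne_zpowers S (mem_Z1.mp f'.hu).2 hZ
    have hu'w : u' = w := by
      rcases f.enum f'.huZ with e | e | e | e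
      · exact absurd e f'.hu1
      · exfalso
        apply f.hu1
        exact c.Z1_inter_second c' f.hu (e ▸ f'.hu)
      · exact e
      · exact absurd e hu'ne
    obtain ⟨t₀, ht₀, ht₀w⟩ := f.exists_swap hF
    apply c'.hK.2.1
    intro k hk
    have hku' : k * u' = u' * k := (mem_Z1.mp f'.hu).2 k (le_sup_left (a := K') hk)
    rw [hu'w, ← ht₀w] at hku'
    -- `t₀⁻¹ k t₀` centralizes `u`
    have h3 : t₀⁻¹ * k * t₀ ∈ L := by
      apply c.star (c.Z0_sq f.huZ) f.hu1 (mem_Z1.mp f.hu).2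
      rw [Subgroup.mem_centralizer_iff]
      intro y hy
      rw [Set.mem_singleton_iff] at hy
      subst hy
      calc y * (t₀⁻¹ * k * t₀) = t₀⁻¹ * ((t₀ * y * t₀⁻¹) * k) * t₀ := by group
        _ = t₀⁻¹ * (k * (t₀ * y * t₀⁻¹)) * t₀ := by rw [hku']
        _ = t₀⁻¹ * k * t₀ * y := by group
    have : k = t₀ * (t₀⁻¹ * k * t₀) * t₀⁻¹ := by group
    rw [this]
    exact L.mul_mem (L.mul_mem (c.T_le ht₀) h3) (L.inv_mem (c.T_le ht₀))
  · push Not at h1
    exact c.tri_of_Z1_bot S hTS' h1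

end Cfg

end Cfsg.Agent.Lead.J51
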