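import Mathlib
import Cfsg.Prelude.Def_JComponents
import Cfsg.Agent.Lead.J51E

/-!
Lead: further facts on a configuration: `W_K ≤ Ω₁(Z(O₂(L)))`, conjugation of a configuration by an element of
`N_G(T)`, elements of `N_G(T)` outside `L`.
-/

set_option autoImplicit false
set_option linter.unusedSectionVars false
set_option linter.style.haveILetI false

namespace Cfsg.Agent.Lead.J51

open Cfsg Cfsg.Agent.Lead.JComp Cfsg.Agent.Helper1.JLS Cfsg.Agent.Lead.JUniq

universe u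

variable {G : Type u} [Group G] [Finite G]

/-- `W_K ≤ Ω₁(Z(O₂(L)))` for a `J(T)`-component `K` of `L ∈ jOvergroups T` -/
theorem wOf_le_omega_pCoreOf
    (hN : ∀ N : Subgroup G, Cfsg.IsTwoLocal N → Group.IsSolvable ↥N)
    (hZ : ∀ S : Sylow 2 G, Subgroup.centralizer (Cfsg.omegaCenterOf (S : Subgroup G) : Set G) ≤
      Subgroup.normalizer ((S : Subgroup G) : Set G))
    {T L K : Subgroup G} (hT1 : T ≠ ⊥) (hLT : L ∈ Cfsg.jOvergroups T) (hK : Cfsg.IsJComponent T K)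
    (hKL : K ≤ L) : Cfsg.wOf K ≤ Cfsg.omegaCenterOf (Cfsg.pCoreOf 2 L) := by
  obtain ⟨h, -⟩ := lsHyp_of_mem_jOvergroups hN hZ hT1 hLT
  obtain ⟨hC, hW⟩ := compHyp_of_isJComponent' hK
  have hTL : T ≤ L := hLT.1.1
  have hRL : Cfsg.pCoreOf 2 K ≤ L := hC.hRK.trans hKL
  have hWL : Cfsg.wOf K ≤ L := (hW.W_le_R.trans hC.hRK).trans hKL
  have key := (wHyp_subgroupOf hKL hRL hWL hW).W_le_VX (compHyp_subgroupOf hTL hKL hRL hC) h
  have h1 := Subgroup.map_mono (f := L.subtype) key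
  rwa [Subgroup.map_subgroupOf_eq_of_le hWL, VX_map] at h1

theorem isTwoLocal_conj {N : Subgroup G} (hN : Cfsg.IsTwoLocal N) (g : G) :
    Cfsg.IsTwoLocal (N.map (MulAut.conj g).toMonoidHom) := by
  obtain ⟨Q, hQ2, hQ1, rfl⟩ := hN
  refine ⟨Q.map (MulAut.conj g).toMonoidHom, ?_, ?_, ?_⟩
  · exact hQ2.map _
  · intro e
    apply hQ1
    rw [eq_bot_iff]
    intro x hx
    have : (MulAut.conj g).toMonoidHom x ∈ Q.map (MulAut.conj g).toMonoidHom := ⟨x, hx, rfl⟩
    rw [e, Subgroup.mem_bot] at this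
    rw [Subgroup.mem_bot]
    exact (MulAut.conj g).injective (by rw [map_one]; exact this)
  · exact (normalizer_map_conj Q g).symm

theorem map_conj_conj_inv (H : Subgroup G) (g : G) :
    (H.map (MulAut.conj g).toMonoidHom).map (MulAut.conj g⁻¹).toMonoidHom = H := by
  rw [Subgroup.map_map]
  have : (MulAut.conj g⁻¹).toMonoidHom.comp (MulAut.conj g).toMonoidHom = MonoidHom.id G := by
    ext x
    show g⁻¹ * (g * x * g⁻¹) * g⁻¹⁻¹ = x
    group
  rw [this, Subgroup.map_id]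

theorem isMaximalTwoLocal_conj {N : Subgroup G} (hN : Cfsg.IsMaximalTwoLocal N) (g : G) :
    Cfsg.IsMaximalTwoLocal (N.map (MulAut.conj g).toMonoidHom) := by
  refine ⟨isTwoLocal_conj hN.1 g, ?_⟩
  intro N' hN' hle
  have h1 : N ≤ N'.map (MulAut.conj g⁻¹).toMonoidHom := by
    have := Subgroup.map_mono (f := (MulAut.conj g⁻¹).toMonoidHom) hle
    rwa [map_conj_conj_inv] at this
  have h2 := hN.2 _ (isTwoLocal_conj hN' g⁻¹) h1
  have h3 := congrArg (Subgroup.map (MulAut.conj g).toMonoidHom) h2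
  have h4 := map_conj_conj_inv N' g⁻¹
  rw [inv_inv] at h4
  rw [h4] at h3
  exact h3

namespace Cfg

variable {M T K L : Subgroup G}

theorem W_le_V (c : Cfg M T K L) : Cfsg.wOf K ≤ Cfsg.omegaCenterOf (Cfsg.pCoreOf 2 L) :=
  wOf_le_omega_pCoreOf c.hN c.hZ c.T1 c.mem_jOvergroups c.isJComponent c.K_le

/-- conjugation of a configuration by an element of `N_G(T)` -/
theorem conj (c : Cfg M T K L) {n : G} (hn : n ∈ Subgroup.normalizer (T : Set G)) :
    Cfg M T (K.map (MulAut.conj n).toMonoidHom) (L.map (MulAut.conj n).toMonoidHom) := by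
  have hnJ : n ∈ Subgroup.normalizer (Cfsg.thompsonSubgroupOf 2 T : Set G) :=
    normalizer_le_normalizer_thompsonSubgroupOf 2 T hn
  have hnM : n ∈ M := c.normalizer_T_le hn
  have hTn : T.map (MulAut.conj n).toMonoidHom = T := map_conj_eq_of_mem_normalizer hn
  have hJn : (Cfsg.thompsonSubgroupOf 2 T).map (MulAut.conj n).toMonoidHom =
      Cfsg.thompsonSubgroupOf 2 T := map_conj_eq_of_mem_normalizer hnJ
  refine ⟨c.hL, c.hN, c.hZ, c.hMJ, c.hT, ⟨jComponentsZero_conj hnJ c.hK.1, ?_, ?_⟩,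
    isMaximalTwoLocal_conj c.hLmax n, ?_⟩
  · intro hle
    apply c.hK.2.1
    intro k hk
    have h1 : n * k * n⁻¹ ∈ M := hle ⟨k, hk, rfl⟩
    have : k = n⁻¹ * (n * k * n⁻¹) * n := by group
    rw [this]
    exact M.mul_mem (M.mul_mem (M.inv_mem hnM) h1) hnM
  · have h1 : K.map (MulAut.conj n).toMonoidHom ⊔ T =
        (K ⊔ T).map (MulAut.conj n).toMonoidHom := by
      rw [Subgroup.map_sup, hTn]
    rw [h1, Cfsg.Agent.Lead.LLem.pCoreOf_map _ (MulAut.conj n).injective]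
    intro e
    apply c.hK.2.2
    rw [eq_bot_iff]
    intro x hx
    have : (MulAut.conj n).toMonoidHom x ∈
        (Cfsg.pCoreOf 2 (K ⊔ T)).map (MulAut.conj n).toMonoidHom := ⟨x, hx, rfl⟩
    rw [e, Subgroup.mem_bot] at this
    rw [Subgroup.mem_bot]
    exact (MulAut.conj n).injective (by rw [map_one]; exact this)
  · have h1 : K.map (MulAut.conj n).toMonoidHom ⊔ Cfsg.thompsonSubgroupOf 2 T =
        (K ⊔ Cfsg.thompsonSubgroupOf 2 T).map (MulAut.conj n).toMonoidHom := by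
      rw [Subgroup.map_sup, hJn]
    rw [h1]
    exact Subgroup.map_mono c.hKL

/-- a 2-element of `L` normalizing `T` lies in `T` -/
theorem mem_T_of_mem_normalizer (c : Cfg M T K L) {t : G} (htL : t ∈ L)
    (ht2 : IsPGroup 2 ↥(T ⊔ Subgroup.zpowers t)) : t ∈ T := by
  have h3 := eq_of_isSylowTwoIn c.sylow ht2 le_sup_left
    (sup_le c.T_le (by rw [Subgroup.zpowers_le]; exact htL))
  rw [← h3]
  exact le_sup_right (a := T) (Subgroup.mem_zpowers t)

/-- if `T` is not a Sylow 2-subgroup of `G` then some element of `N_G(T)` lies outside `L` -/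
theorem exists_normalizer_not_mem (c : Cfg M T K L) (S : Sylow 2 G) (hTS : T ≤ (S : Subgroup G))
    (hne : T ≠ (S : Subgroup G)) : ∃ m ∈ Subgroup.normalizer (T : Set G), m ∉ L := by
  haveI : Fact (Nat.Prime 2) := ⟨Nat.prime_two⟩
  obtain ⟨t, htS, htN, htT⟩ := Cfsg.Agent.Helper4.exists_mem_normalizer_not_mem (p := 2)
    (S : Subgroup G) S.2 T (lt_of_le_of_ne hTS hne)
  refine ⟨t, htN, fun htL => htT (c.mem_T_of_mem_normalizer htL ?_)⟩
  exact S.2.to_le (sup_le hTS (by rw [Subgroup.zpowers_le]; exact htS))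

/-- `Ω₁(Z(T)) = Z₀` in all three alternatives -/
theorem omegaT_eq_of_tri (c : Cfg M T K L) (S : Sylow 2 G) (hTS : T ≤ (S : Subgroup G))
    (h : Tri T L S) :
    Cfsg.omegaCenterOf T = Cfsg.omegaCenterOf (Cfsg.thompsonSubgroupOf 2 T) := by
  rcases h with ⟨h1, -⟩ | ⟨h1, -⟩ | ⟨h1, -⟩
  · exact le_antisymm c.omegaT_le_Z0 (h1 ▸ c.omegaS_le_omegaT S hTS)
  · exact le_antisymm c.omegaT_le_Z0 (h1 ▸ c.omegaS_le_omegaT S hTS)
  · exact h1

end Cfg

end Cfsg.Agent.Lead.J51
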