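import Mathlib
import Cfsg.Prelude.Def_JComponents
import Cfsg.Agent.Lead.J51F
import Cfsg.Agent.S2947
import Cfsg.Agent.Helper2.StrEmb3

/-!
Lead: assembly of S2951 -- S2954 from the pieces: the per-configuration clause (`P2Prop`), the pair theorem
(`P3Prop`) and the two purely group-theoretic lemmas used to exclude the case where `L` is the only maximal
2-local subgroup containing a Sylow 2-subgroup (`KillProp`).
-/

set_option autoImplicit false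
set_option linter.unusedSectionVars false
set_option linter.style.haveILetI false

namespace Cfsg.Agent.Lead.J51

open Cfsg Cfsg.Agent.Lead.JComp Cfsg.Agent.Helper1.JLS Cfsg.Agent.Lead.JUniq

universe u

variable {G : Type u} [Group G]

/-- piece P2 -/
def P2Prop (G : Type u) [Group G] : Prop :=
  ∀ (M T K L : Subgroup G), Cfg M T K L →
    Cfsg.omegaCenterOf T = Cfsg.omegaCenterOf (Cfsg.thompsonSubgroupOf 2 T) →
    T ≤ Subgroup.normalizer (K : Set G) ∧ Clause T (K ⊔ T)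

/-- the two isomorphism alternatives -/
def IsoAlt (P₁ P₂ : Subgroup G) : Prop :=
  (Nonempty (↥P₁ ≃* Equiv.Perm (Fin 4)) ∧ Nonempty (↥P₂ ≃* Equiv.Perm (Fin 4))) ∨
    (Nonempty (↥P₁ ≃* Equiv.Perm (Fin 4) × Multiplicative (ZMod 2)) ∧
      Nonempty (↥P₂ ≃* Equiv.Perm (Fin 4) × Multiplicative (ZMod 2)))

/-- piece P3b -/
def P3Prop (G : Type u) [Group G] : Prop :=
  ∀ (M₁ M₂ T K₁ K₂ L₁ L₂ : Subgroup G), Cfg M₁ T K₁ L₁ → Cfg M₂ T K₂ L₂ →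
    Cfsg.omegaCenterOf T = Cfsg.omegaCenterOf (Cfsg.thompsonSubgroupOf 2 T) → ¬ K₂ ≤ L₁ →
    L₁ ≠ L₂ ∧ IsoAlt L₁ L₂

/-- piece P5 -/
def KillProp (G : Type u) [Group G] : Prop :=
  (∀ (S P V : Subgroup G), IsPGroup 2 ↥S → Nonempty (↥P ≃* Equiv.Perm (Fin 4)) →
    (∀ Q : Subgroup G, Q ≤ P → Q ≠ ⊥ → IsPGroup 2 ↥Q → P ≤ Subgroup.normalizer (Q : Set G) →
      Subgroup.normalizer (Q : Set G) ≤ P) →
    Nat.card ↥(S ⊓ P) = 8 → ¬ S ≤ P → V ≤ S → S ≤ Subgroup.normalizer (V : Set G) →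
    (∀ v ∈ V, v * v = 1) → 4 ≤ Nat.card ↥V → False) ∧
  (∀ (S P V : Subgroup G), IsPGroup 2 ↥S →
    Nonempty (↥P ≃* Equiv.Perm (Fin 4) × Multiplicative (ZMod 2)) →
    (∀ Q : Subgroup G, Q ≤ P → Q ≠ ⊥ → IsPGroup 2 ↥Q → P ≤ Subgroup.normalizer (Q : Set G) →
      Subgroup.normalizer (Q : Set G) ≤ P) →
    Nat.card ↥(S ⊓ P) = 16 → ¬ S ≤ P → V ≤ S → S ≤ Subgroup.normalizer (V : Set G) →
    (∀ v ∈ V, v * v = 1) → 4 ≤ Nat.card ↥V →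
    (Nat.card ↥V = 4 → ∀ x ∈ V, x ≠ 1 → ∀ y ∈ V, y ≠ 1 → ∃ g : G, g * x * g⁻¹ = y) → False)

/-- the conclusion of S2953 -/
def Body53 (T : Subgroup G) : Prop :=
  ∃ K₁ K₂ : Subgroup G, K₁ ≠ K₂ ∧ Cfsg.IsJComponent T K₁ ∧ Cfsg.IsJComponent T K₂ ∧
    Cfsg.pCoreOf 2 ((K₁ ⊔ T) ⊔ (K₂ ⊔ T)) = ⊥ ∧ ∀ P ∈ [K₁ ⊔ T, K₂ ⊔ T], Clause T P

/-- the conclusion of S2954 -/
def Body54 (T : Subgroup G) : Prop :=
  ∃ P₁ P₂ : Subgroup G, P₁ ≠ P₂ ∧ Cfsg.IsMaximalTwoLocal P₁ ∧ Cfsg.IsMaximalTwoLocal P₂ ∧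
    Cfsg.IsSylowTwoIn T P₁ ∧ Cfsg.IsSylowTwoIn T P₂ ∧ IsoAlt P₁ P₂

variable [Finite G]

theorem exists_maxStraddling {M : Subgroup G} (h : (Cfsg.straddlingTwoSubgroups M).Nonempty) :
    (Cfsg.maxStraddlingTwoSubgroups M).Nonempty := by
  classical
  let f : Subgroup G → ℕ ×ₗ ℕ ×ₗ ℕ := fun T =>
    toLex (Cfsg.maxElemAbelianOrder T, toLex (Nat.card ↥(Cfsg.thompsonSubgroupOf 2 T), Nat.card ↥T))
  obtain ⟨T₀, hT₀, hmax⟩ := Set.exists_max_image _ f (Set.toFinite _) h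
  refine ⟨T₀, hT₀, fun T hT => ?_⟩
  have h1 := hmax T hT
  rw [Prod.Lex.le_iff] at h1
  simp only [f, ofLex_toLex] at h1
  rcases h1 with h1 | ⟨h1, h2⟩
  · exact ⟨h1.le, fun e => absurd e h1.ne⟩
  · refine ⟨h1.le, fun _ => ?_⟩
    rw [Prod.Lex.le_iff] at h2
    simp only [ofLex_toLex] at h2
    rcases h2 with h2 | ⟨h2, h3⟩
    · exact ⟨h2.le, fun e => absurd e h2.ne⟩
    · exact ⟨h2.le, fun _ => h3⟩

/-- a 2-subgroup of `L` is `L`-conjugate into a given Sylow 2-subgroup of `L` -/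
theorem exists_conj_le_of_sylowIn {T L Q : Subgroup G} (hT : Cfsg.IsSylowTwoIn T L) (hQ2 : IsPGroup 2 ↥Q)
    (hQL : Q ≤ L) : ∃ l ∈ L, Q.map (MulAut.conj l).toMonoidHom ≤ T := by
  haveI : Fact (Nat.Prime 2) := ⟨Nat.prime_two⟩
  obtain ⟨hTL, hT2, hodd⟩ := hT
  have hidx : ¬ 2 ∣ (T.subgroupOf L).index :=
    fun h2 => (Nat.not_even_iff_odd.2 hodd) (even_iff_two_dvd.2 h2)
  have hT2' : IsPGroup 2 ↥(T.subgroupOf L) := hT2.comap_subtype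
  set P : Sylow 2 ↥L := hT2'.toSylow hidx with hP
  have hPc : (P : Subgroup ↥L) = T.subgroupOf L := IsPGroup.toSylow_coe _ _
  have hQ2' : IsPGroup 2 ↥(Q.subgroupOf L) := hQ2.comap_subtype
  obtain ⟨P', hP'⟩ := hQ2'.exists_le_sylow
  obtain ⟨l, hl⟩ := MulAction.exists_smul_eq ↥L P' P
  refine ⟨(l : G), l.2, ?_⟩
  rintro _ ⟨q, hq, rfl⟩
  have hq' : (⟨q, hQL hq⟩ : ↥L) ∈ (P' : Subgroup ↥L) := hP' (Subgroup.mem_subgroupOf.mpr hq)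
  have h1 : l * ⟨q, hQL hq⟩ * l⁻¹ ∈ ((l • P' : Sylow 2 ↥L) : Subgroup ↥L) := by
    rw [Sylow.coe_subgroup_smul]
    exact Subgroup.smul_mem_pointwise_smul _ _ _ hq'
  rw [hl, hPc, Subgroup.mem_subgroupOf] at h1
  exact h1

namespace Cfg

variable {M T K L : Subgroup G}

/-- S2953 for a pair of configurations -/
theorem pair53 (hP2 : P2Prop G) {M₁ M₂ K₁ K₂ L₁ L₂ : Subgroup G} (c₁ : Cfg M₁ T K₁ L₁)
    (c₂ : Cfg M₂ T K₂ L₂)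
    (hΩ : Cfsg.omegaCenterOf T = Cfsg.omegaCenterOf (Cfsg.thompsonSubgroupOf 2 T))
    (h21 : ¬ K₂ ≤ L₁) : Body53 T := by
  refine ⟨K₁, K₂, ?_, c₁.isJComponent, c₂.isJComponent, ?_, ?_⟩
  · intro e
    exact h21 (e ▸ c₁.K_le)
  · by_contra hR
    apply h21
    have hN2 : Cfsg.IsTwoLocal (Subgroup.normalizer
        (Cfsg.pCoreOf 2 ((K₁ ⊔ T) ⊔ (K₂ ⊔ T)) : Set G)) :=
      ⟨_, Cfsg.Agent.Lead.LLem.isPGroup_pCoreOf _, hR, rfl⟩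
    have hle := Cfsg.Agent.Lead.KInf.pCoreOf_le_normalizer 2 ((K₁ ⊔ T) ⊔ (K₂ ⊔ T))
    have h1 : K₁ ⊔ Cfsg.thompsonSubgroupOf 2 T ≤ (K₁ ⊔ T) ⊔ (K₂ ⊔ T) :=
      (sup_le_sup_left c₁.J_le_T K₁).trans le_sup_left
    have h2 := c₁.le_L hN2 (h1.trans hle)
    exact ((le_sup_left.trans le_sup_right).trans hle).trans h2
  · intro P hP
    simp only [List.mem_cons, List.not_mem_nil, or_false] at hP
    rcases hP with rfl | rfl
    · exact (hP2 _ _ _ _ c₁ hΩ).2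
    · exact (hP2 _ _ _ _ c₂ hΩ).2

/-- S2954 for a pair of configurations -/
theorem pair54 (hP3 : P3Prop G) {M₁ M₂ K₁ K₂ L₁ L₂ : Subgroup G} (c₁ : Cfg M₁ T K₁ L₁)
    (c₂ : Cfg M₂ T K₂ L₂)
    (hΩ : Cfsg.omegaCenterOf T = Cfsg.omegaCenterOf (Cfsg.thompsonSubgroupOf 2 T))
    (h21 : ¬ K₂ ≤ L₁) : Body54 T := by
  obtain ⟨hne, hiso⟩ := hP3 _ _ _ _ _ _ _ c₁ c₂ hΩ h21
  exact ⟨L₁, L₂, hne, c₁.hLmax, c₂.hLmax, c₁.sylow, c₂.sylow, hiso⟩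

/-- the case of an element of `N_G(T)` outside `L` -/
theorem bodies_of_normalizer (hP2 : P2Prop G) (hP3 : P3Prop G) (c : Cfg M T K L) {m : G}
    (hm : m ∈ Subgroup.normalizer (T : Set G)) (hmL : m ∉ L)
    (hΩ : Cfsg.omegaCenterOf T = Cfsg.omegaCenterOf (Cfsg.thompsonSubgroupOf 2 T)) :
    Body53 T ∧ Body54 T := by
  have hmJ : m ∈ Subgroup.normalizer (Cfsg.thompsonSubgroupOf 2 T : Set G) :=
    normalizer_le_normalizer_thompsonSubgroupOf 2 T hm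
  have h21 := c.conj_not_le hmJ hmL
  exact ⟨pair53 hP2 c (c.conj hm) hΩ h21, pair54 hP3 c (c.conj hm) hΩ h21⟩

/-- the strict case: `T` is not a Sylow 2-subgroup of `G` -/
theorem bodies_of_strict (hP2 : P2Prop G) (hP3 : P3Prop G) (c : Cfg M T K L) (S : Sylow 2 G)
    (hTS : T ≤ (S : Subgroup G)) (hne : T ≠ (S : Subgroup G)) : Body53 T ∧ Body54 T := by
  obtain ⟨m, hm, hmL⟩ := c.exists_normalizer_not_mem S hTS hne
  have hmJ : m ∈ Subgroup.normalizer (Cfsg.thompsonSubgroupOf 2 T : Set G) :=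
    normalizer_le_normalizer_thompsonSubgroupOf 2 T hm
  have htri := c.tri_of_not_le S hTS (fun hle => hmL (hle hmJ))
  exact c.bodies_of_normalizer hP2 hP3 hm hmL (c.omegaT_eq_of_tri S hTS htri)

end Cfg

end Cfsg.Agent.Lead.J51
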