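import Mathlib
import Cfsg.Agent.Helper4.MCDefs
import Cfsg.Agent.Helper8.RegularP

/-!
# Blackburn project (helper4), pieces C3 / C4: the commutator-power cores

Standalone versions (no finiteness, no maximal class): the hypotheses are the facts supplied by the
other pieces (`agemo_gam_le`, `comm_lev`).
-/

set_option autoImplicit false

namespace Cfsg.Agent.Lead.MC

open scoped commutatorElement
open Cfsg.Agent.Helper8.HP (agemo hpMod)
open Cfsg.Agent.Helper4.MC

variable {G : Type*} [Group G]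

theorem gam_anti' : Antitone (gam G) := by
  intro i j hij
  exact Subgroup.lowerCentralSeries_antitone _ (by omega)

theorem gam_normal' (i : ℕ) : (gam G i).Normal := by
  unfold gam
  exact Subgroup.normal_of_characteristic _

theorem gam_comm_le' {i j : ℕ} (hi : 1 ≤ i) (hj : 1 ≤ j) :
    ⁅gam G i, gam G j⁆ ≤ gam G (i + j) := by
  have h := Cfsg.Agent.Helper8.HP.lcs_comm_le G (i - 1) (j - 1)
  have e : i - 1 + (j - 1) + 1 = i + j - 1 := by omega
  rw [e] at h
  exact h

theorem comm_mem_gam_succ' {i : ℕ} (hi : 1 ≤ i) {x : G} (hx : x ∈ gam G i) (g : G) :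
    ⁅x, g⁆ ∈ gam G (i + 1) := by
  have h : ⁅x, g⁆ ∈ ⁅gam G i, gam G 1⁆ :=
    Subgroup.commutator_mem_commutator hx (by simp [gam])
  exact gam_comm_le' hi le_rfl h

/-- `γ_{k+1}(L) ≤ γ_{(k+1) i + 1}(G)` when `L ≤ γ_i(G)` and `⁅L, L⁆ ≤ γ_{2i+1}(G)`. -/
theorem lcs_le_gam_mul {L : Subgroup G} {i : ℕ} (hi : 1 ≤ i) (hL : L ≤ gam G i)
    (hL2 : ⁅L, L⁆ ≤ gam G (2 * i + 1)) :
    ∀ k, 1 ≤ k → L.lowerCentralSeries k ≤ gam G ((k + 1) * i + 1) := by
  intro k hk
  induction k, hk using Nat.le_induction with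
  | base =>
    rw [Subgroup.lowerCentralSeries_succ, Subgroup.lowerCentralSeries_zero]
    exact hL2
  | succ k hk ih =>
    rw [Subgroup.lowerCentralSeries_succ]
    refine (Subgroup.commutator_mono ih hL).trans ?_
    refine (gam_comm_le' (by omega) hi).trans ?_
    refine gam_anti' ?_
    ring_nf
    omega

/-- `γ_{k+1}(L) ≤ γ_{k+3}(G)` when `⁅L, L⁆ ≤ γ_4(G)`. -/
theorem lcs_le_gam_add {L : Subgroup G} (hL2 : ⁅L, L⁆ ≤ gam G 4) :
    ∀ k, 1 ≤ k → L.lowerCentralSeries k ≤ gam G (k + 3) := by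
  intro k hk
  induction k, hk using Nat.le_induction with
  | base =>
    rw [Subgroup.lowerCentralSeries_succ, Subgroup.lowerCentralSeries_zero]
    exact hL2
  | succ k hk ih =>
    rw [Subgroup.lowerCentralSeries_succ]
    refine (Subgroup.commutator_mono ih (le_top : L ≤ gam G 1)).trans ?_
    refine (gam_comm_le' (by omega) le_rfl).trans ?_
    exact gam_anti' (by omega)

/-- Core of piece C3. -/
theorem shift_core {p : ℕ} (hp : p.Prime) {i : ℕ} (hi : 2 ≤ i) {x s : G}
    (hx : x ∈ gam G i) (hy : ⁅x, s⁆ ∈ gam G (i + 1))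
    (hA : agemo p (gam G (2 * i + 1)) ≤ gam G (i + p + 1)) :
    (⁅x, s⁆ ^ p)⁻¹ * ⁅x ^ p, s⁆ ∈ gam G (i + p + 1) := by
  set y := ⁅x, s⁆ with hydef
  set L := Subgroup.closure ({x, y} : Set G) with hLdef
  have hxL : x ∈ L := Subgroup.subset_closure (by simp)
  have hyL : y ∈ L := Subgroup.subset_closure (by simp)
  have hyi : y ∈ gam G i := gam_anti' (Nat.le_succ i) hy
  have hLi : L ≤ gam G i := by
    rw [hLdef, Subgroup.closure_le]
    rintro z (rfl | rfl)
    · exact hx
    · exact hyi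
  have hL2 : ⁅L, L⁆ ≤ gam G (2 * i + 1) := by
    refine Cfsg.Agent.Helper8.HP.commutator_closure_pair_le
      (fun k _ n hn => (gam_normal' (2 * i + 1)).conj_mem n hn k) ?_
    have h : ⁅x, y⁆ ∈ ⁅gam G i, gam G (i + 1)⁆ := Subgroup.commutator_mem_commutator hx hy
    have h2 := gam_comm_le' (G := G) (i := i) (j := i + 1) (by omega) (by omega) h
    have e : i + (i + 1) = 2 * i + 1 := by ring
    rwa [e] at h2
  have hmain := Cfsg.Agent.Helper8.HP.commutator_pow_mod hp hxL (y := s) hyL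
  have hle : hpMod p L ≤ gam G (i + p + 1) := by
    unfold hpMod
    refine sup_le ?_ ?_
    · refine (Cfsg.Agent.Helper8.HP.agemo_mono p ?_).trans hA
      rw [Subgroup.lowerCentralSeries_succ, Subgroup.lowerCentralSeries_zero]
      exact hL2
    · have hp2 := hp.two_le
      refine (lcs_le_gam_mul (by omega) hLi hL2 (p - 1) (by omega)).trans ?_
      refine gam_anti' ?_
      have e : p - 1 + 1 = p := by omega
      rw [e]
      nlinarith
  exact hle hmain

/-- Core of piece C4. -/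
theorem level_core {p : ℕ} (hp : p.Prime) {x s : G}
    (hxy : ⁅x, ⁅x, s⁆⁆ ∈ gam G 4)
    (hA : agemo p (gam G 4) ≤ gam G (p + 2)) :
    (⁅x, s⁆ ^ p)⁻¹ * ⁅x ^ p, s⁆ ∈ gam G (p + 2) := by
  set y := ⁅x, s⁆ with hydef
  set L := Subgroup.closure ({x, y} : Set G) with hLdef
  have hxL : x ∈ L := Subgroup.subset_closure (by simp)
  have hyL : y ∈ L := Subgroup.subset_closure (by simp)
  have hL2 : ⁅L, L⁆ ≤ gam G 4 := by
    refine Cfsg.Agent.Helper8.HP.commutator_closure_pair_le
      (fun k _ n hn => (gam_normal' 4).conj_mem n hn k) hxy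
  have hmain := Cfsg.Agent.Helper8.HP.commutator_pow_mod hp hxL (y := s) hyL
  have hle : hpMod p L ≤ gam G (p + 2) := by
    unfold hpMod
    refine sup_le ?_ ?_
    · refine (Cfsg.Agent.Helper8.HP.agemo_mono p ?_).trans hA
      rw [Subgroup.lowerCentralSeries_succ, Subgroup.lowerCentralSeries_zero]
      exact hL2
    · have hp2 := hp.two_le
      refine (lcs_le_gam_add hL2 (p - 1) (by omega)).trans ?_
      exact gam_anti' (by omega)
  exact hle hmain

theorem mem_twoStep' (j : ℕ) (x : G) :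
    x ∈ twoStep G j ↔ ∀ y ∈ gam G j, ⁅x, y⁆ ∈ gam G (j + 2) := by
  have := gam_normal' (G := G) (j + 2)
  unfold twoStep
  rw [Subgroup.mem_comap, Subgroup.mem_centralizer_iff]
  constructor
  · intro h y hy
    have h1 := h (QuotientGroup.mk' (gam G (j + 2)) y) ⟨y, hy, rfl⟩
    have h2 : QuotientGroup.mk' (gam G (j + 2)) ⁅x, y⁆ = 1 := by
      rw [commutatorElement_def, map_mul, map_mul, map_mul, map_inv, map_inv, ← h1]
      group
    exact (QuotientGroup.eq_one_iff _).1 h2
  · rintro h _ ⟨y, hy, rfl⟩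
    have h2 : QuotientGroup.mk' (gam G (j + 2)) ⁅x, y⁆ = 1 :=
      (QuotientGroup.eq_one_iff _).2 (h y hy)
    rw [commutatorElement_def, map_mul, map_mul, map_mul, map_inv, map_inv] at h2
    have h3 := congrArg (fun t => t * (QuotientGroup.mk' (gam G (j + 2)) y) *
      (QuotientGroup.mk' (gam G (j + 2)) x)) h2
    simp only [one_mul] at h3
    rw [← h3]
    group

end Cfsg.Agent.Lead.MC
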