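import Mathlib
import Cfsg.Agent.Lead.MCCore

/-!
# Blackburn project (helper4), pieces C3 `shift_down` and C4 `level_one`, hypothesis form

The facts coming from the other pieces (`IsUniform.comm_lev`, `agemo_gam_le`, `IsMC.lev_anti`,
`IsMC.exists_lev`, `IsMC.center_eq`, `IsMC.gam_eq_bot`) are explicit hypotheses here; the exact
stub statements are one-line corollaries once those pieces are landed.
-/

set_option autoImplicit false

namespace Cfsg.Agent.Lead.MC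

open scoped commutatorElement
open Cfsg.Agent.Helper8.HP (agemo hpMod)
open Cfsg.Agent.Helper4.MC

variable {G : Type*} [Group G]

theorem comm_swap_mem {H : Subgroup G} {a b : G} : ⁅a, b⁆ ∈ H ↔ ⁅b, a⁆ ∈ H := by
  rw [← commutatorElement_inv a b, inv_mem_iff]

/-- Piece C3, hypothesis form. -/
theorem shift_down_of {p n : ℕ} (hp : p.Prime) {s : G} {i : ℕ} (hi : 2 ≤ i)
    (hin : i + 1 + p ≤ n)
    (hcl : ∀ {j : ℕ}, 1 ≤ j → j + 2 ≤ n → ∀ {x : G}, x ∈ lev G j → x ∉ lev G (j + 1) →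
      ⁅s, x⁆ ∈ lev G (j + 1) ∧ ⁅s, x⁆ ∉ lev G (j + 2))
    (hC1 : ∀ j, 2 ≤ j → agemo p (gam G j) ≤ gam G (j + p - 1))
    (h : ∀ y ∈ gam G (i + 1), y ∉ gam G (i + 2) → y ^ p ∉ gam G (i + 1 + p)) {x : G}
    (hx : x ∈ gam G i) (hx' : x ∉ gam G (i + 1)) : x ^ p ∉ gam G (i + p) := by
  have hp2 := hp.two_le
  intro hxp
  have h1 := hcl (j := i) (by omega) (by omega) (x := x)
    (by rw [lev_of_two_le G hi]; exact hx)
    (by rw [lev_of_two_le G (by omega : 2 ≤ i + 1)]; exact hx')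
  rw [lev_of_two_le G (by omega : 2 ≤ i + 1), lev_of_two_le G (by omega : 2 ≤ i + 2)] at h1
  have hy : ⁅x, s⁆ ∈ gam G (i + 1) := comm_swap_mem.1 h1.1
  have hy' : ⁅x, s⁆ ∉ gam G (i + 2) := fun hh => h1.2 (comm_swap_mem.1 hh)
  have hA : agemo p (gam G (2 * i + 1)) ≤ gam G (i + p + 1) :=
    (hC1 (2 * i + 1) (by omega)).trans (gam_anti' (by omega))
  have hcore := shift_core hp hi hx hy hA
  have hw : ⁅x ^ p, s⁆ ∈ gam G (i + p + 1) := comm_mem_gam_succ' (by omega) hxp s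
  have hyp : ⁅x, s⁆ ^ p ∈ gam G (i + p + 1) := by
    have e : ⁅x, s⁆ ^ p = ⁅x ^ p, s⁆ * ((⁅x, s⁆ ^ p)⁻¹ * ⁅x ^ p, s⁆)⁻¹ := by group
    rw [e]
    exact (gam G (i + p + 1)).mul_mem hw (inv_mem hcore)
  have e : i + 1 + p = i + p + 1 := by omega
  rw [e] at h
  exact h _ hy hy' hyp

/-- Piece C4, hypothesis form. -/
theorem level_one_of {p n : ℕ} (hp : p.Prime) (hn : p + 2 ≤ n) {s : G}
    (hbot : gam G n = ⊥) (hcen : Subgroup.center G = gam G (n - 1))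
    (hanti : Antitone (lev G))
    (hex : ∀ {x : G} {a b : ℕ}, x ∈ lev G a → x ∉ lev G b →
      ∃ j, a ≤ j ∧ j < b ∧ x ∈ lev G j ∧ x ∉ lev G (j + 1))
    (hcl : ∀ {j : ℕ}, 1 ≤ j → j + 2 ≤ n → ∀ {x : G}, x ∈ lev G j → x ∉ lev G (j + 1) →
      ⁅s, x⁆ ∈ lev G (j + 1) ∧ ⁅s, x⁆ ∉ lev G (j + 2))
    (hC1 : ∀ j, 2 ≤ j → agemo p (gam G j) ≤ gam G (j + p - 1))
    (h2 : ∀ y ∈ gam G 2, y ∉ gam G 3 → y ^ p ∉ gam G (p + 2)) {x : G} (hx : x ∈ lev G 1)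
    (hx' : x ∉ gam G 2) : x ^ p ∈ gam G p ∧ x ^ p ∉ gam G (p + 1) := by
  have hp2 := hp.two_le
  have hn4 : 4 ≤ n := by omega
  -- `y = ⁅x, s⁆ ∈ γ₂ ∖ γ₃`
  have h1 := hcl (j := 1) le_rfl (by omega) (x := x) hx
    (by rw [lev_of_two_le G (le_refl 2)]; exact hx')
  rw [lev_of_two_le G (le_refl 2), lev_of_two_le G (by omega : 2 ≤ 1 + 2)] at h1
  have hy : ⁅x, s⁆ ∈ gam G 2 := comm_swap_mem.1 h1.1
  have hy' : ⁅x, s⁆ ∉ gam G 3 := fun hh => h1.2 (comm_swap_mem.1 hh)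
  -- `⁅x, y⁆ ∈ γ₄`
  have hxK : x ∈ twoStep G 2 := by rwa [lev_one] at hx
  have hxy : ⁅x, ⁅x, s⁆⁆ ∈ gam G 4 := (mem_twoStep' 2 x).1 hxK _ hy
  have hA : agemo p (gam G 4) ≤ gam G (p + 2) :=
    (hC1 4 (by omega)).trans (gam_anti' (by omega))
  have hcore := level_core hp hxy hA
  -- `y ^ p ∈ γ_{p+1} ∖ γ_{p+2}`
  have hyp : ⁅x, s⁆ ^ p ∈ gam G (p + 1) := by
    have := hC1 2 le_rfl (Cfsg.Agent.Helper8.HP.pow_mem_agemo p hy)
    have e : 2 + p - 1 = p + 1 := by omega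
    rwa [e] at this
  have hyp' : ⁅x, s⁆ ^ p ∉ gam G (p + 2) := h2 _ hy hy'
  -- `w = ⁅x ^ p, s⁆ ∈ γ_{p+1} ∖ γ_{p+2}`
  have hw : ⁅x ^ p, s⁆ ∈ gam G (p + 1) := by
    have h3 : (⁅x, s⁆ ^ p)⁻¹ * ⁅x ^ p, s⁆ ∈ gam G (p + 1) := gam_anti' (by omega) hcore
    have e : ⁅x ^ p, s⁆ = ⁅x, s⁆ ^ p * ((⁅x, s⁆ ^ p)⁻¹ * ⁅x ^ p, s⁆) := by group
    rw [e]
    exact (gam G (p + 1)).mul_mem hyp h3
  have hw' : ⁅x ^ p, s⁆ ∉ gam G (p + 2) := by
    intro hh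
    apply hyp'
    have e : ⁅x, s⁆ ^ p = ⁅x ^ p, s⁆ * ((⁅x, s⁆ ^ p)⁻¹ * ⁅x ^ p, s⁆)⁻¹ := by group
    rw [e]
    exact (gam G (p + 2)).mul_mem hh (inv_mem hcore)
  -- locate `z = x ^ p`
  set z := x ^ p with hz
  have hz1 : z ∈ lev G 1 := (lev G 1).pow_mem hx p
  have hzn : z ∉ lev G n := by
    rw [lev_of_two_le G (by omega : 2 ≤ n), hbot, Subgroup.mem_bot]
    intro h0
    apply hw'
    rw [h0]
    simp
  obtain ⟨j, hj1, hjn, hzj, hzj'⟩ := hex hz1 hzn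
  have hsz : ⁅s, z⁆ ∈ gam G (p + 1) := comm_swap_mem.1 hw
  have hsz' : ⁅s, z⁆ ∉ gam G (p + 2) := fun hh => hw' (comm_swap_mem.1 hh)
  by_cases hj2 : j + 2 ≤ n
  · have h4 := hcl hj1 hj2 hzj hzj'
    have hjp : j = p := by
      by_contra hne
      rcases Nat.lt_or_gt_of_ne hne with hlt | hgt
      · -- `j + 2 ≤ p + 1`
        apply h4.2
        have : lev G (p + 1) ≤ lev G (j + 2) := hanti (by omega)
        apply this
        rw [lev_of_two_le G (by omega : 2 ≤ p + 1)]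
        exact hsz
      · apply hsz'
        have : lev G (j + 1) ≤ lev G (p + 2) := hanti (by omega)
        have h5 := this h4.1
        rwa [lev_of_two_le G (by omega : 2 ≤ p + 2)] at h5
    subst hjp
    rw [lev_of_two_le G hp2] at hzj
    rw [lev_of_two_le G (by omega : 2 ≤ j + 1)] at hzj'
    exact ⟨hzj, hzj'⟩
  · exfalso
    have hjeq : j = n - 1 := by omega
    subst hjeq
    rw [lev_of_two_le G (by omega : 2 ≤ n - 1), ← hcen] at hzj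
    apply hsz'
    have : ⁅s, z⁆ = 1 := by
      rw [commutatorElement_eq_one_iff_commute]
      exact Subgroup.mem_center_iff.1 hzj s
    rw [this]
    exact one_mem _

end Cfsg.Agent.Lead.MC
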