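import Mathlib
import Cfsg.Agent.Helper4.Camina
import Cfsg.Agent.Helper1.Basic
import Cfsg.Agent.Helper1.Coprime

set_option autoImplicit false

/-!
Suzuki's criterion: a `p`-group with a self-centralizing subgroup of order `p ^ 2` has maximal
class.
-/

namespace Cfsg.Agent.Lead

open scoped commutatorElement

universe u

/-- If `⁅g, x⁆` is central for `g` in `B`, then `g ↦ ⁅g, x⁆` is a homomorphism `B → Z(X)`. -/
def commCenterHom {X : Type u} [Group X] (B : Subgroup X) (x : X)
    (hB : ∀ g ∈ B, ⁅g, x⁆ ∈ Subgroup.center X) : ↥B →* ↥(Subgroup.center X) where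
  toFun g := ⟨⁅(g : X), x⁆, hB g g.2⟩
  map_one' := by
    apply Subtype.ext
    simp
  map_mul' g h := by
    apply Subtype.ext
    change ⁅(g : X) * (h : X), x⁆ = ⁅(g : X), x⁆ * ⁅(h : X), x⁆
    rw [commutatorElement_mul_left_eq_conj_mul]
    have hz := hB h h.2
    rw [Subgroup.mem_center_iff] at hz
    have h1 : (g : X) * ⁅(h : X), x⁆ * (g : X)⁻¹ = ⁅(h : X), x⁆ := by
      rw [hz (g : X), mul_inv_cancel_right]
    rw [h1, hz ⁅(g : X), x⁆]

theorem commCenterHom_coe {X : Type u} [Group X] (B : Subgroup X) (x : X)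
    (hB : ∀ g ∈ B, ⁅g, x⁆ ∈ Subgroup.center X) (g : ↥B) :
    ((commCenterHom B x hB g : ↥(Subgroup.center X)) : X) = ⁅(g : X), x⁆ := rfl

/-- **Suzuki.** A `p`-group of order `p ^ n` with a self-centralizing subgroup of order `p ^ 2`
has nilpotency class `n - 1`. -/
theorem nilpotencyClass_of_self_centralizing_sq {p : ℕ} [hp : Fact p.Prime] :
    ∀ (n : ℕ) (X : Type u) [Group X] [Finite X], Nat.card X = p ^ n →
      ∀ A : Subgroup X, Nat.card A = p ^ 2 → Subgroup.centralizer (A : Set X) = A →
      Group.nilpotencyClass X = n - 1 := by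
  intro n
  induction n using Nat.strong_induction_on with
  | _ n ih =>
  intro X _ _ hX A hA hC
  have hpp : p.Prime := hp.out
  have hXp : IsPGroup p X := IsPGroup.of_card hX
  haveI hnil : Group.IsNilpotent X := hXp.isNilpotent
  have hn2 : 2 ≤ n := by
    have h1 : p ^ 2 ∣ p ^ n := by rw [← hA, ← hX]; exact Subgroup.card_subgroup_dvd_card A
    exact (Nat.pow_dvd_pow_iff_le_right hpp.one_lt).1 h1
  haveI hnt : Nontrivial X := by
    rw [← Finite.one_lt_card_iff_nontrivial, hX]
    exact Nat.one_lt_pow (by omega) hpp.one_lt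
  have hAab : ∀ a ∈ A, ∀ b ∈ A, a * b = b * a := by
    intro a ha b hb
    have : a ∈ Subgroup.centralizer (A : Set X) := by rw [hC]; exact ha
    exact (Subgroup.mem_centralizer_iff.1 this b hb).symm
  rcases Nat.eq_or_lt_of_le hn2 with hn | hn
  · -- `n = 2`: abelian
    subst hn
    have hcomm : IsMulCommutative X := ⟨⟨IsPGroup.commutative_of_card_eq_prime_sq hX⟩⟩
    have h1 : Group.nilpotencyClass X ≤ 1 := Group.IsNilpotent.nilpotencyClass_le_one_iff.2 hcomm
    have h2 : Group.nilpotencyClass X ≠ 0 := by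
      rw [Ne, nilpotencyClass_zero_iff_subsingleton]
      exact not_subsingleton X
    omega
  -- `n ≥ 3`
  obtain ⟨Z, hZ⟩ : ∃ Z : Subgroup X, Z = Subgroup.center X := ⟨_, rfl⟩
  have hZA : Z ≤ A := by
    rw [hZ, ← hC]; exact Subgroup.center_le_centralizer _
  have hZne : Z ≠ A := by
    intro h
    have h1 : Subgroup.centralizer (A : Set X) = ⊤ := by
      rw [← h, hZ, Subgroup.centralizer_eq_top_iff_subset]
    rw [hC] at h1
    rw [h1, Subgroup.card_top, hX] at hA
    have := Nat.pow_right_injective hpp.two_le hA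
    omega
  have hZbot : Z ≠ ⊥ := by
    rw [hZ]
    exact (IsPGroup.bot_lt_center hXp).ne'
  have hZcard : Nat.card Z = p := by
    have h1 : Nat.card Z ∣ p ^ 2 := by rw [← hA]; exact Subgroup.card_dvd_of_le hZA
    obtain ⟨i, hi2, hi⟩ := (Nat.dvd_prime_pow hpp).1 h1
    interval_cases i
    · exfalso; rw [pow_zero] at hi; exact hZbot (Subgroup.card_eq_one.1 hi)
    · rw [hi, pow_one]
    · exfalso
      apply hZne
      exact Subgroup.eq_of_le_of_card_ge hZA (by rw [hi, hA])
  -- an element of `A` outside the centre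
  obtain ⟨x, hxA, hxZ⟩ : ∃ x ∈ A, x ∉ Z := by
    by_contra hcon
    push Not at hcon
    exact hZne (le_antisymm hZA hcon)
  -- `A = ⟨x⟩ Z`
  have hAgen : Subgroup.zpowers x ⊔ Z = A := by
    have hle : Subgroup.zpowers x ⊔ Z ≤ A := sup_le (by rw [Subgroup.zpowers_le]; exact hxA) hZA
    have h1 : Nat.card (Subgroup.zpowers x ⊔ Z : Subgroup X) ∣ p ^ 2 := by
      rw [← hA]; exact Subgroup.card_dvd_of_le hle
    obtain ⟨i, hi2, hi⟩ := (Nat.dvd_prime_pow hpp).1 h1
    have h2 : Nat.card Z ∣ Nat.card (Subgroup.zpowers x ⊔ Z : Subgroup X) :=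
      Subgroup.card_dvd_of_le le_sup_right
    have h3 : Nat.card (Subgroup.zpowers x ⊔ Z : Subgroup X) ≠ p := by
      intro h
      apply hxZ
      have : Z = Subgroup.zpowers x ⊔ Z :=
        Subgroup.eq_of_le_of_card_ge le_sup_right (by rw [h, hZcard])
      rw [this]
      exact Subgroup.mem_sup_left (Subgroup.mem_zpowers x)
    interval_cases i
    · exfalso
      rw [pow_zero] at hi
      rw [hi, hZcard, Nat.dvd_one] at h2
      exact hpp.one_lt.ne' h2
    · exfalso; exact h3 (by rw [hi, pow_one])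
    · exact Subgroup.eq_of_le_of_card_ge hle (by rw [hi, hA])
  -- the centralizer of `x` is `A`
  have hCx : ∀ g : X, g * x = x * g → g ∈ A := by
    intro g hg
    rw [← hC, Subgroup.mem_centralizer_iff]
    intro a ha
    rw [← hAgen] at ha
    have hnorm : Z ≤ Subgroup.normalizer ((Subgroup.zpowers x : Subgroup X) : Set X) := by
      intro z hz
      apply Subgroup.centralizer_le_normalizer
      rw [Subgroup.mem_centralizer_iff]
      intro y _
      rw [hZ, Subgroup.mem_center_iff] at hz
      exact hz y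
    obtain ⟨y, hy, z, hz, rfl⟩ := Helper1.mem_sup_of_le_normalizer hnorm ha
    obtain ⟨i, rfl⟩ := Subgroup.mem_zpowers_iff.1 hy
    rw [hZ, Subgroup.mem_center_iff] at hz
    have h1 : Commute g (x ^ i) := (show Commute g x from hg).zpow_right i
    have h2 : Commute g z := hz g
    exact ((h1.mul_right h2).eq).symm
  -- the quotient
  haveI hZn : Z.Normal := by rw [hZ]; infer_instance
  have hQcard : Nat.card (X ⧸ Z) = p ^ (n - 1) := by
    have h1 := Subgroup.card_eq_card_quotient_mul_card_subgroup Z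
    rw [hX, hZcard] at h1
    have h2 : p ^ n = p ^ (n - 1) * p := by
      rw [← pow_succ]; congr 1; omega
    rw [h2] at h1
    exact (Nat.eq_of_mul_eq_mul_right hpp.pos h1).symm
  have hQp : IsPGroup p (X ⧸ Z) := IsPGroup.of_card hQcard
  obtain ⟨xb, hxb⟩ : ∃ xb : X ⧸ Z, xb = QuotientGroup.mk' Z x := ⟨_, rfl⟩
  obtain ⟨T, hT⟩ : ∃ T : Subgroup (X ⧸ Z), T = Subgroup.centralizer ({xb} : Set (X ⧸ Z)) :=
    ⟨_, rfl⟩
  have hxbT : xb ∈ T := by
    rw [hT, Subgroup.mem_centralizer_singleton_iff]
  have hxb1 : xb ≠ 1 := by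
    rw [hxb]
    intro h
    exact hxZ ((QuotientGroup.eq_one_iff x).1 h)
  -- bound on the order of `T`
  obtain ⟨B, hB⟩ : ∃ B : Subgroup X, B = T.comap (QuotientGroup.mk' Z) := ⟨_, rfl⟩
  have hBcard : Nat.card B = p * Nat.card T := by
    rw [hB, Helper4.card_comap_mk', hZcard]
  have hBmem : ∀ g ∈ B, ⁅g, x⁆ ∈ Subgroup.center X := by
    intro g hg
    rw [hB, Subgroup.mem_comap, hT, Subgroup.mem_centralizer_singleton_iff] at hg
    rw [← hZ, ← QuotientGroup.eq_one_iff, ← QuotientGroup.mk'_apply, map_commutatorElement, ← hxb,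
      commutatorElement_eq_one_iff_mul_comm]
    exact hg
  have hAB : A ≤ B := by
    intro a ha
    rw [hB, Subgroup.mem_comap, hT, Subgroup.mem_centralizer_singleton_iff, hxb, ← map_mul,
      ← map_mul, hAab a ha x hxA]
  have hker : (commCenterHom B x hBmem).ker = A.subgroupOf B := by
    ext g
    rw [MonoidHom.mem_ker, Subgroup.mem_subgroupOf]
    constructor
    · intro h
      have h1 := congrArg Subtype.val h
      rw [commCenterHom_coe] at h1
      change ⁅(g : X), x⁆ = 1 at h1
      rw [commutatorElement_eq_one_iff_mul_comm] at h1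
      exact hCx g h1
    · intro h
      apply Subtype.ext
      rw [commCenterHom_coe]
      change ⁅(g : X), x⁆ = 1
      rw [commutatorElement_eq_one_iff_mul_comm]
      exact hAab g h x hxA
  have hBle : Nat.card B ≤ p ^ 2 * p := by
    have h1 := (commCenterHom B x hBmem).ker.card_mul_index
    rw [Subgroup.index_ker, hker, Helper1.card_subgroupOf_of_le hAB, hA] at h1
    rw [← h1]
    apply Nat.mul_le_mul_left
    calc Nat.card (commCenterHom B x hBmem).range ≤ Nat.card ↥(Subgroup.center X) :=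
          Nat.card_le_card_of_injective _ Subtype.val_injective
      _ = p := by rw [← hZ, hZcard]
  have hTle : Nat.card T ≤ p ^ 2 := by
    rw [hBcard, mul_comm] at hBle
    exact Nat.le_of_mul_le_mul_right hBle hpp.pos
  obtain ⟨j, hj⟩ := IsPGroup.iff_card.1 (hQp.to_subgroup T)
  have hj2 : j ≤ 2 := by
    rw [hj] at hTle
    exact (Nat.pow_le_pow_iff_right hpp.one_lt).1 hTle
  have hZQ : Subgroup.center (X ⧸ Z) ≤ T := by
    rw [hT]; exact Subgroup.center_le_centralizer _
  haveI hQnt : Nontrivial (X ⧸ Z) := by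
    rw [← Finite.one_lt_card_iff_nontrivial, hQcard]
    exact Nat.one_lt_pow (by omega) hpp.one_lt
  have hZQbot : Subgroup.center (X ⧸ Z) ≠ ⊥ := (IsPGroup.bot_lt_center hQp).ne'
  have hT2 : Nat.card T = p ^ 2 := by
    interval_cases j
    · exfalso
      rw [pow_zero] at hj
      have : T = ⊥ := Subgroup.card_eq_one.1 hj
      rw [this] at hZQ
      exact hZQbot (le_bot_iff.1 hZQ)
    · exfalso
      rw [pow_one] at hj
      -- `T` has prime order, so `T = Z(Q)` and `x̄` is central
      have hcard : Nat.card ↥(Subgroup.center (X ⧸ Z)) = p := by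
        have h1 : Nat.card ↥(Subgroup.center (X ⧸ Z)) ∣ p := by
          rw [← hj]; exact Subgroup.card_dvd_of_le hZQ
        rcases (Nat.dvd_prime hpp).1 h1 with h | h
        · exact absurd (Subgroup.card_eq_one.1 h) hZQbot
        · exact h
      have hTZ : Subgroup.center (X ⧸ Z) = T :=
        Subgroup.eq_of_le_of_card_ge hZQ (by rw [hcard, hj])
      have hxc : xb ∈ Subgroup.center (X ⧸ Z) := by rw [hTZ]; exact hxbT
      have hTtop : T = ⊤ := by
        rw [hT, Subgroup.centralizer_eq_top_iff_subset]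
        intro y hy
        rw [Set.mem_singleton_iff] at hy
        rw [hy]; exact hxc
      rw [hTtop, Subgroup.card_top, hQcard] at hj
      have := Nat.pow_right_injective hpp.two_le (hj.trans (pow_one p).symm)
      omega
    · exact hj
  -- `T` is self-centralizing
  have hTab : ∀ a b : T, a * b = b * a := IsPGroup.commutative_of_card_eq_prime_sq hT2
  have hCT : Subgroup.centralizer (T : Set (X ⧸ Z)) = T := by
    apply le_antisymm
    · intro g hg
      rw [hT, Subgroup.mem_centralizer_singleton_iff]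
      exact (Subgroup.mem_centralizer_iff.1 hg xb hxbT).symm
    · intro g hg
      rw [Subgroup.mem_centralizer_iff]
      intro t ht
      have := hTab ⟨t, ht⟩ ⟨g, hg⟩
      exact congrArg Subtype.val this
  have hclQ : Group.nilpotencyClass (X ⧸ Z) = n - 1 - 1 :=
    ih (n - 1) (by omega) (X ⧸ Z) hQcard T hT2 hCT
  have hcl := nilpotencyClass_eq_quotient_center_plus_one (G := X)
  subst hZ
  rw [hcl, hclQ]
  omega

end Cfsg.Agent.Lead
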