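import Mathlib
import Cfsg.Agent.Lead.MaximalClass

set_option autoImplicit false

/-!
A `p`-group with a self-centralizing nonabelian subgroup of order `p ^ 3` has maximal class.
-/

namespace Cfsg.Agent.Lead

open scoped commutatorElement

universe u

/-- If `B = ⟨b⟩ C` with `C` centralizing `B`, then `B` is abelian. -/
theorem commute_of_zpowers_sup_central {X : Type u} [Group X] (B C : Subgroup X) (b : X)
    (hC : ∀ c ∈ C, ∀ y ∈ B, c * y = y * c) (hb : b ∈ B) (hCB : C ≤ B)
    (hsup : B ≤ Subgroup.zpowers b ⊔ C) : ∀ x ∈ B, ∀ y ∈ B, x * y = y * x := by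
  have hzB : Subgroup.zpowers b ≤ B := by rw [Subgroup.zpowers_le]; exact hb
  have hnorm : C ≤ Subgroup.normalizer ((Subgroup.zpowers b : Subgroup X) : Set X) := by
    intro c hc
    apply Subgroup.centralizer_le_normalizer
    rw [Subgroup.mem_centralizer_iff]
    intro g hg
    exact (hC c hc g (hzB hg)).symm
  intro x hx y hy
  obtain ⟨n, hn, c, hc, rfl⟩ := Helper1.mem_sup_of_le_normalizer hnorm (hsup hx)
  obtain ⟨n', hn', c', hc', rfl⟩ := Helper1.mem_sup_of_le_normalizer hnorm (hsup hy)
  have e1 : Commute n n' := by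
    obtain ⟨i, rfl⟩ := Subgroup.mem_zpowers_iff.1 hn
    obtain ⟨j, rfl⟩ := Subgroup.mem_zpowers_iff.1 hn'
    exact (Commute.refl b).zpow_zpow i j
  have e2 : Commute n c' := (hC c' hc' n (hzB hn)).symm
  have e3 : Commute c n' := hC c hc n' (hzB hn')
  have e4 : Commute c c' := hC c hc c' (hCB hc')
  exact ((e1.mul_right e2).mul_left (e3.mul_right e4)).eq

/-- A `p`-group of order `p ^ n` with a nonabelian subgroup `B` of order `p ^ 3` such that
`C_X(B) ≤ B` has nilpotency class `n - 1`. -/
theorem nilpotencyClass_of_self_centralizing_cube {p : ℕ} [hp : Fact p.Prime] {X : Type u}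
    [Group X] [Finite X] (n : ℕ) (hX : Nat.card X = p ^ n)
    (B : Subgroup X) (hB : Nat.card B = p ^ 3) (hBna : ¬ IsMulCommutative B)
    (hC : Subgroup.centralizer (B : Set X) ≤ B) :
    Group.nilpotencyClass X = n - 1 := by
  have hpp : p.Prime := hp.out
  have hXp : IsPGroup p X := IsPGroup.of_card hX
  haveI hnil : Group.IsNilpotent X := hXp.isNilpotent
  have hn3 : 3 ≤ n := by
    have h1 : p ^ 3 ∣ p ^ n := by rw [← hB, ← hX]; exact Subgroup.card_subgroup_dvd_card B
    exact (Nat.pow_dvd_pow_iff_le_right hpp.one_lt).1 h1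
  haveI hnt : Nontrivial X := by
    rw [← Finite.one_lt_card_iff_nontrivial, hX]
    exact Nat.one_lt_pow (by omega) hpp.one_lt
  -- non-commuting elements
  obtain ⟨b₁, hb₁, b₂, hb₂, hb12⟩ : ∃ b₁ ∈ B, ∃ b₂ ∈ B, b₁ * b₂ ≠ b₂ * b₁ := by
    by_contra hcon
    push Not at hcon
    exact hBna ⟨⟨fun a b => Subtype.ext (hcon a a.2 b b.2)⟩⟩
  obtain ⟨CB, hCB⟩ : ∃ CB : Subgroup X, CB = Subgroup.centralizer (B : Set X) := ⟨_, rfl⟩
  rw [← hCB] at hC
  have hCBc : ∀ c ∈ CB, ∀ y ∈ B, c * y = y * c := by
    intro c hc y hy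
    rw [hCB] at hc
    exact (Subgroup.mem_centralizer_iff.1 hc y hy).symm
  obtain ⟨Z, hZ⟩ : ∃ Z : Subgroup X, Z = Subgroup.center X := ⟨_, rfl⟩
  have hZCB : Z ≤ CB := by rw [hZ, hCB]; exact Subgroup.center_le_centralizer _
  have hZbot : Z ≠ ⊥ := by rw [hZ]; exact (IsPGroup.bot_lt_center hXp).ne'
  -- `|C_X(B)| = p`
  have hCBcard : Nat.card CB = p := by
    have h1 : Nat.card CB ∣ p ^ 3 := by rw [← hB]; exact Subgroup.card_dvd_of_le hC
    obtain ⟨i, hi3, hi⟩ := (Nat.dvd_prime_pow hpp).1 h1
    have hab : ∀ b ∈ B, B ≤ Subgroup.zpowers b ⊔ CB → False := by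
      intro b hb hsup
      exact hb12 (commute_of_zpowers_sup_central B CB b hCBc hb hC hsup b₁ hb₁ b₂ hb₂)
    interval_cases i
    · exfalso
      rw [pow_zero] at hi
      have : CB = ⊥ := Subgroup.card_eq_one.1 hi
      rw [this] at hZCB
      exact hZbot (le_bot_iff.1 hZCB)
    · rw [hi, pow_one]
    · exfalso
      obtain ⟨b, hbB, hbC⟩ : ∃ b ∈ B, b ∉ CB := by
        by_contra hcon
        push Not at hcon
        have : CB = B := le_antisymm hC hcon
        rw [this, hB] at hi
        have := Nat.pow_right_injective hpp.two_le hi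
        omega
      apply hab b hbB
      have hle : Subgroup.zpowers b ⊔ CB ≤ B :=
        sup_le (by rw [Subgroup.zpowers_le]; exact hbB) hC
      have h2 : Nat.card (Subgroup.zpowers b ⊔ CB : Subgroup X) ∣ p ^ 3 := by
        rw [← hB]; exact Subgroup.card_dvd_of_le hle
      obtain ⟨j, hj3, hj⟩ := (Nat.dvd_prime_pow hpp).1 h2
      have h3 : p ^ 2 ∣ p ^ j := by
        rw [← hi, ← hj]; exact Subgroup.card_dvd_of_le le_sup_right
      have hj2 : 2 ≤ j := (Nat.pow_dvd_pow_iff_le_right hpp.one_lt).1 h3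
      have hj' : j ≠ 2 := by
        intro h
        apply hbC
        have : CB = Subgroup.zpowers b ⊔ CB :=
          Subgroup.eq_of_le_of_card_ge le_sup_right (by rw [hj, h, hi])
        rw [this]
        exact Subgroup.mem_sup_left (Subgroup.mem_zpowers b)
      have hj3' : j = 3 := by omega
      have : Subgroup.zpowers b ⊔ CB = B :=
        Subgroup.eq_of_le_of_card_ge hle (by rw [hj, hj3', hB])
      rw [this]
    · exfalso
      apply hab 1 B.one_mem
      have : CB = B := Subgroup.eq_of_le_of_card_ge hC (by rw [hi, hB])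
      rw [this]
      exact le_sup_right
  have hZcard : Nat.card Z = p := by
    have h1 : Nat.card Z ∣ p := by rw [← hCBcard]; exact Subgroup.card_dvd_of_le hZCB
    rcases (Nat.dvd_prime hpp).1 h1 with h | h
    · exact absurd (Subgroup.card_eq_one.1 h) hZbot
    · exact h
  have hZeq : Z = CB := Subgroup.eq_of_le_of_card_ge hZCB (by rw [hZcard, hCBcard])
  have hZB : Z ≤ B := hZCB.trans hC
  -- `B = ⟨b₁, b₂⟩`
  have hBgen : Subgroup.closure ({b₁, b₂} : Set X) = B := by
    have hle : Subgroup.closure ({b₁, b₂} : Set X) ≤ B := by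
      rw [Subgroup.closure_le]
      intro y hy
      rcases hy with rfl | rfl
      · exact hb₁
      · exact hb₂
    have h1 : Nat.card (Subgroup.closure ({b₁, b₂} : Set X)) ∣ p ^ 3 := by
      rw [← hB]; exact Subgroup.card_dvd_of_le hle
    obtain ⟨i, hi3, hi⟩ := (Nat.dvd_prime_pow hpp).1 h1
    have hm1 : b₁ ∈ Subgroup.closure ({b₁, b₂} : Set X) := Subgroup.subset_closure (by simp)
    have hm2 : b₂ ∈ Subgroup.closure ({b₁, b₂} : Set X) := Subgroup.subset_closure (by simp)
    have hnc : ¬ ∀ a b : Subgroup.closure ({b₁, b₂} : Set X), a * b = b * a := by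
      intro h
      exact hb12 (congrArg Subtype.val (h ⟨b₁, hm1⟩ ⟨b₂, hm2⟩))
    rcases Nat.lt_or_ge i 3 with hlt | hge
    · exfalso
      apply hnc
      rcases Nat.lt_or_ge i 2 with hlt2 | hge2
      · have hcyc : IsCyclic (Subgroup.closure ({b₁, b₂} : Set X)) := by
          rcases Nat.lt_or_ge i 1 with h0 | h1'
          · have : i = 0 := by omega
            rw [this, pow_zero] at hi
            haveI : Subsingleton (Subgroup.closure ({b₁, b₂} : Set X)) :=
              (Nat.card_eq_one_iff_unique.1 hi).1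
            exact isCyclic_of_subsingleton
          · have : i = 1 := by omega
            rw [this, pow_one] at hi
            exact isCyclic_of_prime_card hi
        intro a b
        exact IsCyclic.commGroup.mul_comm a b
      · have : i = 2 := by omega
        rw [this] at hi
        exact IsPGroup.commutative_of_card_eq_prime_sq hi
    · have : i = 3 := by omega
      exact Subgroup.eq_of_le_of_card_ge hle (by rw [hi, this, hB])
  -- the quotient
  haveI hZn : Z.Normal := by rw [hZ]; infer_instance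
  have hQcard : Nat.card (X ⧸ Z) = p ^ (n - 1) := by
    have h1 := Subgroup.card_eq_card_quotient_mul_card_subgroup Z
    rw [hX, hZcard] at h1
    have h2 : p ^ n = p ^ (n - 1) * p := by
      rw [← pow_succ]; congr 1; omega
    rw [h2] at h1
    exact (Nat.eq_of_mul_eq_mul_right hpp.pos h1).symm
  obtain ⟨Bb, hBb⟩ : ∃ Bb : Subgroup (X ⧸ Z), Bb = B.map (QuotientGroup.mk' Z) := ⟨_, rfl⟩
  have hBcomap : Bb.comap (QuotientGroup.mk' Z) = B := by
    rw [hBb, Subgroup.comap_map_eq, QuotientGroup.ker_mk', sup_eq_left.2 hZB]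
  have hBbcard : Nat.card Bb = p ^ 2 := by
    have h1 := Helper4.card_comap_mk' Z Bb
    rw [hBcomap, hB, hZcard] at h1
    have h2 : p ^ 3 = p * p ^ 2 := by ring
    rw [h2] at h1
    exact (Nat.eq_of_mul_eq_mul_left hpp.pos h1).symm
  have hBbab : ∀ a b : Bb, a * b = b * a := IsPGroup.commutative_of_card_eq_prime_sq hBbcard
  obtain ⟨T, hT⟩ : ∃ T : Subgroup (X ⧸ Z), T = Subgroup.centralizer (Bb : Set (X ⧸ Z)) :=
    ⟨_, rfl⟩
  have hBbT : Bb ≤ T := by
    intro g hg
    rw [hT, Subgroup.mem_centralizer_iff]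
    intro t ht
    exact congrArg Subtype.val (hBbab ⟨t, ht⟩ ⟨g, hg⟩)
  obtain ⟨D, hD⟩ : ∃ D : Subgroup X, D = T.comap (QuotientGroup.mk' Z) := ⟨_, rfl⟩
  have hBD : B ≤ D := by
    rw [hD, ← hBcomap]; exact Subgroup.comap_mono hBbT
  have hDmem : ∀ b ∈ B, ∀ g ∈ D, ⁅g, b⁆ ∈ Subgroup.center X := by
    intro b hb g hg
    rw [hD, Subgroup.mem_comap, hT, Subgroup.mem_centralizer_iff] at hg
    rw [← hZ, ← QuotientGroup.eq_one_iff, ← QuotientGroup.mk'_apply, map_commutatorElement,
      commutatorElement_eq_one_iff_mul_comm]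
    exact (hg _ (by rw [hBb]; exact Subgroup.mem_map_of_mem _ hb)).symm
  -- `D = B`
  have hDcard : Nat.card D ≤ p * (p * p) := by
    let φ := (commCenterHom D b₁ (hDmem b₁ hb₁)).prod (commCenterHom D b₂ (hDmem b₂ hb₂))
    have h1 := φ.ker.card_mul_index
    rw [Subgroup.index_ker] at h1
    rw [← h1]
    apply Nat.mul_le_mul
    · -- the kernel embeds in `C_X(B)`
      have hmem : ∀ g : φ.ker, ((g : D) : X) ∈ CB := by
        intro g
        have hg := g.2
        rw [MonoidHom.mem_ker, MonoidHom.prod_apply, Prod.mk_eq_one] at hg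
        have e1 : ⁅((g : D) : X), b₁⁆ = 1 := congrArg Subtype.val hg.1
        have e2 : ⁅((g : D) : X), b₂⁆ = 1 := congrArg Subtype.val hg.2
        rw [commutatorElement_eq_one_iff_mul_comm] at e1 e2
        rw [hCB, ← hBgen, Subgroup.centralizer_closure, Subgroup.mem_centralizer_iff]
        intro y hy
        rcases hy with rfl | rfl
        · exact e1.symm
        · exact e2.symm
      calc Nat.card φ.ker ≤ Nat.card CB :=
            Nat.card_le_card_of_injective (fun g => (⟨((g : D) : X), hmem g⟩ : CB))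
              (fun g h e => Subtype.ext (Subtype.ext (by
                have := congrArg Subtype.val e
                exact this)))
        _ = p := hCBcard
    · calc Nat.card φ.range ≤ Nat.card (↥(Subgroup.center X) × ↥(Subgroup.center X)) :=
            Nat.card_le_card_of_injective _ Subtype.val_injective
        _ = p * p := by rw [Nat.card_prod, ← hZ, hZcard]
  have hDB : D = B := by
    symm
    apply Subgroup.eq_of_le_of_card_ge hBD
    rw [hB]
    calc Nat.card D ≤ p * (p * p) := hDcard
      _ = p ^ 3 := by ring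
  have hTB : T = Bb := by
    have : D.map (QuotientGroup.mk' Z) = T := by
      rw [hD]
      exact Subgroup.map_comap_eq_self_of_surjective (QuotientGroup.mk'_surjective Z) T
    rw [← this, hDB, hBb]
  have hclQ : Group.nilpotencyClass (X ⧸ Z) = n - 1 - 1 :=
    nilpotencyClass_of_self_centralizing_sq (n - 1) (X ⧸ Z) hQcard Bb hBbcard (by rw [← hT, hTB])
  have hcl := Group.nilpotencyClass_eq_quotient_center_plus_one (G := X)
  subst hZ
  rw [hcl, hclQ]
  omega

end Cfsg.Agent.Lead
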