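import Mathlib
import Cfsg.Prelude.Def_Transfer
import Cfsg.Agent.Helper1.ThompsonSub
import Cfsg.Agent.Helper1.Card
import Cfsg.Agent.Helper1.Basic
import Cfsg.Agent.Lead.Basic

set_option autoImplicit false

namespace Cfsg.Agent.Lead.E32

open Cfsg Cfsg.Agent.Helper1

variable {X : Type*} [Group X] [Finite X]

/-- Intermediate subgroups of prescribed `p`-power order. -/
theorem exists_between (p : ℕ) [Fact p.Prime] {H K : Subgroup X} (hHK : H ≤ K) {n m : ℕ}
    (hH : Nat.card H = p ^ n) (hK : p ^ m ∣ Nat.card K) (hnm : n ≤ m) :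
    ∃ L : Subgroup X, H ≤ L ∧ L ≤ K ∧ Nat.card L = p ^ m := by
  have h1 : Nat.card (H.subgroupOf K) = p ^ n := by rw [card_subgroupOf_of_le hHK, hH]
  obtain ⟨L', hL', hHL'⟩ := Sylow.exists_subgroup_card_pow_prime_le p hK (H.subgroupOf K) h1 hnm
  refine ⟨L'.map K.subtype, ?_, ?_, ?_⟩
  · intro x hx
    exact ⟨⟨x, hHK hx⟩, hHL' (Subgroup.mem_subgroupOf.mpr hx), rfl⟩
  · rintro _ ⟨y, -, rfl⟩
    exact y.2
  · rw [Subgroup.card_map_of_injective K.subtype_injective, hL']

/-- An involution normalizing an elementary abelian `2`-group `W` centralizes at least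
`√|W|` elements. -/
theorem card_le_sq_card_centralizer (W : Subgroup X) (hW : IsElementaryAbelian 2 W) (v : X)
    (hv : v * v = 1) (hvW : ∀ w ∈ W, v * w * v⁻¹ ∈ W) :
    Nat.card W ≤ Nat.card (W ⊓ Subgroup.centralizer ({v} : Set X) : Subgroup X) ^ 2 := by
  have hvinv : v⁻¹ = v := inv_eq_of_mul_eq_one_right hv
  have hcomm : ∀ a ∈ W, ∀ b ∈ W, a * b = b * a := fun a ha b hb =>
    isElementaryAbelian_commute hW ha hb
  have hsq : ∀ a ∈ W, a * a = 1 := fun a ha => by
    have := hW.2 a ha
    rwa [pow_two] at this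
  let f : W →* W :=
    { toFun := fun w => ⟨w * (v * w * v⁻¹), W.mul_mem w.2 (hvW w w.2)⟩
      map_one' := by
        apply Subtype.ext
        simp
      map_mul' := by
        intro a b
        apply Subtype.ext
        show (a : X) * b * (v * ((a : X) * b) * v⁻¹) = a * (v * a * v⁻¹) * (b * (v * b * v⁻¹))
        have h1 : (b : X) * (v * a * v⁻¹) = (v * a * v⁻¹) * b := hcomm _ b.2 _ (hvW a a.2)
        calc (a : X) * b * (v * ((a : X) * b) * v⁻¹)
            = a * (b * (v * a * v⁻¹)) * (v * b * v⁻¹) := by group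
          _ = a * ((v * a * v⁻¹) * b) * (v * b * v⁻¹) := by rw [h1]
          _ = a * (v * a * v⁻¹) * (b * (v * b * v⁻¹)) := by group }
  have hfx : ∀ w : W, ((f w : W) : X) = w * (v * w * v⁻¹) := fun _ => rfl
  set C := (W ⊓ Subgroup.centralizer ({v} : Set X) : Subgroup X) with hC
  have hker : f.ker ≤ C.subgroupOf W := by
    intro w hw
    rw [MonoidHom.mem_ker] at hw
    have h1 : (w : X) * (v * w * v⁻¹) = 1 := by rw [← hfx, hw]; rfl
    rw [Subgroup.mem_subgroupOf, hC, Subgroup.mem_inf]
    refine ⟨w.2, ?_⟩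
    rw [Subgroup.mem_centralizer_iff]
    intro y hy
    rw [Set.mem_singleton_iff] at hy
    rw [hy]
    have h2 : v * (w : X) * v⁻¹ = (w : X) := by
      have h3 : v * (w : X) * v⁻¹ = (w : X)⁻¹ := eq_inv_of_mul_eq_one_right h1
      rw [h3]
      exact inv_eq_of_mul_eq_one_right (hsq w w.2)
    calc v * (w : X) = (v * w * v⁻¹) * v := by group
      _ = w * v := by rw [h2]
  have hrange : f.range ≤ C.subgroupOf W := by
    rintro _ ⟨w, rfl⟩
    rw [Subgroup.mem_subgroupOf, hC, Subgroup.mem_inf]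
    refine ⟨(f w).2, ?_⟩
    rw [Subgroup.mem_centralizer_iff]
    intro y hy
    rw [Set.mem_singleton_iff] at hy
    rw [hy, hfx]
    have h1 : (w : X) * (v * w * v⁻¹) = (v * w * v⁻¹) * w := hcomm _ w.2 _ (hvW w w.2)
    calc v * ((w : X) * (v * w * v⁻¹)) = (v * w * v⁻¹) * (v * v) * w * v⁻¹ := by group
      _ = (v * w * v⁻¹) * w * v⁻¹ := by rw [hv, mul_one]
      _ = w * (v * w * v⁻¹) * v⁻¹ := by rw [h1]
      _ = w * (v * w * v⁻¹) * v := by rw [hvinv]
  have hcard : Nat.card W = Nat.card f.ker * Nat.card f.range := by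
    rw [← Subgroup.index_ker, mul_comm]
    exact (Subgroup.index_mul_card f.ker).symm
  have hCW : Nat.card (C.subgroupOf W) = Nat.card C :=
    card_subgroupOf_of_le (inf_le_left : C ≤ W)
  calc Nat.card W = Nat.card f.ker * Nat.card f.range := hcard
    _ ≤ Nat.card (C.subgroupOf W) * Nat.card (C.subgroupOf W) :=
        Nat.mul_le_mul (Subgroup.card_le_of_le hker) (Subgroup.card_le_of_le hrange)
    _ = Nat.card C ^ 2 := by rw [hCW, pow_two]

/-- Adjoining a commuting involution outside `V`. -/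
theorem card_sup_zpowers (V : Subgroup X) (z : X) (hz : z * z = 1) (hzV : z ∉ V)
    (hcomm : ∀ v ∈ V, z * v = v * z) :
    Nat.card (V ⊔ Subgroup.zpowers z : Subgroup X) = 2 * Nat.card V := by
  have hz1 : z ≠ 1 := fun h => hzV (h ▸ V.one_mem)
  have ho : orderOf z = 2 := by
    apply orderOf_eq_prime
    · rw [pow_two]; exact hz
    · exact hz1
  have hnorm : Subgroup.zpowers z ≤ Subgroup.normalizer (V : Set X) := by
    rw [Subgroup.zpowers_le, Subgroup.mem_normalizer_iff]
    intro v
    constructor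
    · intro hv
      have : z * v * z⁻¹ = v := by rw [hcomm v hv]; group
      rw [this]; exact hv
    · intro hv
      have h1 := hcomm _ hv
      have : v = z * v * z⁻¹ := by
        have h2 : z * (z * v * z⁻¹) = (z * v * z⁻¹) * z := h1
        have h3 : z * v = v * z := by
          have : z * (z * v * z⁻¹) * z = (z * v * z⁻¹) * z * z := by rw [h2]
          have e1 : z * (z * v * z⁻¹) * z = z * (z * v) := by group
          have e2 : (z * v * z⁻¹) * z * z = (z * v) * z := by group
          rw [e1, e2] at this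
          have e3 : z * (z * v) = z * z * v := by group
          rw [e3, hz, one_mul] at this
          -- this : v = z * v * z
          calc z * v = z * (z * v * z) := by rw [← this]
            _ = (z * z) * v * z := by group
            _ = v * z := by rw [hz, one_mul]
        rw [h3]; group
      rw [this]; exact hv
  have hinf : V ⊓ Subgroup.zpowers z = ⊥ := by
    rw [eq_bot_iff]
    intro x hx
    obtain ⟨hxV, hxz⟩ := Subgroup.mem_inf.mp hx
    rw [Subgroup.mem_bot]
    obtain ⟨k, rfl⟩ := Subgroup.mem_zpowers_iff.mp hxz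
    rcases Int.even_or_odd k with ⟨j, rfl⟩ | ⟨j, rfl⟩
    · rw [← two_mul, zpow_mul, zpow_two, hz, one_zpow]
    · exfalso
      apply hzV
      have : z ^ (2 * j + 1) = z := by
        rw [zpow_add, zpow_mul, zpow_two, hz, one_zpow, one_mul, zpow_one]
      rwa [this] at hxV
  have := card_sup_mul_card_inf hnorm
  rw [hinf] at this
  simp only [Subgroup.card_bot, mul_one] at this
  rw [this, Nat.card_zpowers, ho, mul_comm]

/-- `C_E(B)`. -/
def cent (E B : Subgroup X) : Subgroup X := E ⊓ Subgroup.centralizer (B : Set X)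

theorem card_pow_two {B : Subgroup X} (hB : IsElementaryAbelian 2 B) : ∃ r : ℕ, Nat.card B = 2 ^ r := by
  haveI : Fact (Nat.Prime 2) := ⟨Nat.prime_two⟩
  exact (IsPGroup.iff_card.mp (isElementaryAbelian_isPGroup hB))

theorem sq_eq_one {B : Subgroup X} (hB : IsElementaryAbelian 2 B) {a : X} (ha : a ∈ B) : a * a = 1 := by
  have := hB.2 a ha
  rwa [pow_two] at this

/-- The centralizer bound: `|E| ≤ |C_E(B)| ^ |B : B ∩ E|`. -/
theorem bound (E : Subgroup X) [hEn : E.Normal] (hE : IsElementaryAbelian 2 E) :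
    ∀ (n : ℕ) (B : Subgroup X), Nat.card B ≤ n → IsElementaryAbelian 2 B →
      Nat.card E ≤ Nat.card (cent E B) ^ (E.relIndex B) := by
  haveI : Fact (Nat.Prime 2) := ⟨Nat.prime_two⟩
  intro n
  induction n with
  | zero =>
    intro B hB
    have : 0 < Nat.card B := Nat.card_pos
    omega
  | succ n ih =>
    intro B hBn hB
    by_cases hBE : B ≤ E
    · rw [Subgroup.relIndex_eq_one.mpr hBE, pow_one]
      apply Subgroup.card_le_of_le
      intro x hx
      refine Subgroup.mem_inf.mpr ⟨hx, ?_⟩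
      rw [Subgroup.mem_centralizer_iff]
      intro b hb
      exact isElementaryAbelian_commute hE (hBE hb) hx
    · have hWB : E ⊓ B ≤ B := inf_le_right
      have hWlt : E ⊓ B < B := lt_of_le_of_ne hWB (fun h => hBE (h ▸ inf_le_left))
      obtain ⟨r, hr⟩ := card_pow_two hB
      obtain ⟨i, hi⟩ := card_pow_two (IsElementaryAbelian_of_le hB hWB)
      have hir : i < r := by
        have h1 : Nat.card (E ⊓ B : Subgroup X) < Nat.card B := Cfsg.Agent.Lead.card_lt_of_lt hWlt
        rw [hi, hr] at h1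
        exact (Nat.pow_lt_pow_iff_right (by norm_num)).mp h1
      obtain ⟨B₀, hWB₀, hB₀B, hB₀card⟩ := exists_between 2 hWB hi
        (show 2 ^ (r - 1) ∣ Nat.card B by rw [hr]; exact pow_dvd_pow 2 (by omega)) (by omega)
      have hB₀ : IsElementaryAbelian 2 B₀ := IsElementaryAbelian_of_le hB hB₀B
      have hne : B₀ ≠ B := by
        intro h
        rw [h, hr] at hB₀card
        have := Nat.pow_right_injective (le_refl 2) hB₀card
        omega
      obtain ⟨a, haB, haB₀⟩ := SetLike.exists_of_lt (lt_of_le_of_ne hB₀B hne)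
      have haa : a * a = 1 := sq_eq_one hB haB
      have hsup : B₀ ⊔ Subgroup.zpowers a = B := by
        apply Subgroup.eq_of_le_of_card_ge (sup_le hB₀B (by rw [Subgroup.zpowers_le]; exact haB))
        rw [card_sup_zpowers B₀ a haa haB₀ (fun v hv => isElementaryAbelian_commute hB haB (hB₀B hv)),
          hB₀card, hr, ← pow_succ']
        have : r - 1 + 1 = r := by omega
        rw [this]
      have hn' : Nat.card B₀ ≤ n := by
        have h1 : Nat.card B₀ < Nat.card B := Cfsg.Agent.Lead.card_lt_of_lt (lt_of_le_of_ne hB₀B hne)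
        omega
      have hih := ih B₀ hn' hB₀
      -- the fixed points of `a` on `C_E(B₀)`
      have hW₀ : IsElementaryAbelian 2 (cent E B₀) := IsElementaryAbelian_of_le hE inf_le_left
      have hainv : ∀ w ∈ cent E B₀, a * w * a⁻¹ ∈ cent E B₀ := by
        intro w hw
        obtain ⟨hwE, hwC⟩ := Subgroup.mem_inf.mp hw
        refine Subgroup.mem_inf.mpr ⟨hEn.conj_mem w hwE a, ?_⟩
        rw [Subgroup.mem_centralizer_iff] at hwC ⊢
        intro b hb
        have h1 := hwC b hb
        have h2 : a * b = b * a := isElementaryAbelian_commute hB haB (hB₀B hb)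
        calc b * (a * w * a⁻¹) = (b * a) * w * a⁻¹ := by group
          _ = a * (b * w) * a⁻¹ := by rw [← h2]; group
          _ = a * (w * b) * a⁻¹ := by rw [h1]
          _ = a * w * (b * a⁻¹) := by group
          _ = a * w * (a⁻¹ * b) := by
              congr 1
              have : a⁻¹ * b = a⁻¹ * (b * a) * a⁻¹ := by group
              rw [this, ← h2]; group
          _ = a * w * a⁻¹ * b := by group
      have hfix := card_le_sq_card_centralizer (cent E B₀) hW₀ a haa hainv
      have hle : (cent E B₀ ⊓ Subgroup.centralizer ({a} : Set X) : Subgroup X) ≤ cent E B := by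
        intro x hx
        obtain ⟨hx1, hxa⟩ := Subgroup.mem_inf.mp hx
        obtain ⟨hxE, hxC⟩ := Subgroup.mem_inf.mp hx1
        refine Subgroup.mem_inf.mpr ⟨hxE, ?_⟩
        have hBle : B ≤ Subgroup.centralizer ({x} : Set X) := by
          rw [← hsup]
          apply sup_le
          · intro b hb
            rw [Subgroup.mem_centralizer_iff]
            intro y hy
            rw [Set.mem_singleton_iff] at hy
            rw [hy]
            exact ((Subgroup.mem_centralizer_iff.mp hxC) b hb).symm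
          · rw [Subgroup.zpowers_le, Subgroup.mem_centralizer_iff]
            intro y hy
            rw [Set.mem_singleton_iff] at hy
            rw [hy]
            exact ((Subgroup.mem_centralizer_iff.mp hxa) a rfl).symm
        rw [Subgroup.mem_centralizer_iff]
        intro b hb
        exact ((Subgroup.mem_centralizer_iff.mp (hBle hb)) x rfl).symm
      have hcardle := Subgroup.card_le_of_le hle
      -- indices
      have hinfeq : E ⊓ B₀ = E ⊓ B := le_antisymm (inf_le_inf_left _ hB₀B) (le_inf inf_le_left hWB₀)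
      have hk : E.relIndex B * Nat.card (E ⊓ B : Subgroup X) = Nat.card B := by
        rw [← Subgroup.inf_relIndex_right]
        exact relIndex_mul_card_of_le hWB
      have hk₀ : E.relIndex B₀ * Nat.card (E ⊓ B : Subgroup X) = Nat.card B₀ := by
        rw [← Subgroup.inf_relIndex_right, ← hinfeq]
        exact relIndex_mul_card_of_le inf_le_right
      have hkk : E.relIndex B = 2 * E.relIndex B₀ := by
        have hpos : 0 < Nat.card (E ⊓ B : Subgroup X) := Nat.card_pos
        have h1 : E.relIndex B * Nat.card (E ⊓ B : Subgroup X) =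
            (2 * E.relIndex B₀) * Nat.card (E ⊓ B : Subgroup X) := by
          rw [hk, mul_assoc, hk₀, hB₀card, hr, ← pow_succ']
          congr 1
          omega
        exact Nat.eq_of_mul_eq_mul_right hpos h1
      calc Nat.card E ≤ Nat.card (cent E B₀) ^ E.relIndex B₀ := hih
        _ ≤ (Nat.card (cent E B) ^ 2) ^ E.relIndex B₀ :=
            Nat.pow_le_pow_left (hfix.trans (Nat.pow_le_pow_left hcardle 2)) _
        _ = Nat.card (cent E B) ^ E.relIndex B := by rw [← pow_mul, hkk]

/-- Gap lemma: an elementary abelian subgroup of order dividing `8` is centralized by an element of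
`E` outside it. -/
theorem exists_cent_not_mem (E : Subgroup X) [hEn : E.Normal] (hE : IsElementaryAbelian 2 E)
    (hE32 : 32 ≤ Nat.card E) (B : Subgroup X) (hB : IsElementaryAbelian 2 B)
    (hcard : Nat.card B ∣ 8) :
    ∃ z ∈ E, z ∈ Subgroup.centralizer (B : Set X) ∧ z ∉ B := by
  by_contra hcon
  push Not at hcon
  have hle : cent E B ≤ E ⊓ B := by
    intro x hx
    obtain ⟨hxE, hxC⟩ := Subgroup.mem_inf.mp hx
    exact Subgroup.mem_inf.mpr ⟨hxE, hcon x hxE hxC⟩
  have h1 := bound E hE (Nat.card B) B le_rfl hB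
  have h2 : Nat.card (cent E B) ≤ Nat.card (E ⊓ B : Subgroup X) := Subgroup.card_le_of_le hle
  have hk : E.relIndex B * Nat.card (E ⊓ B : Subgroup X) = Nat.card B := by
    rw [← Subgroup.inf_relIndex_right]
    exact relIndex_mul_card_of_le inf_le_right
  have h3 : 32 ≤ Nat.card (E ⊓ B : Subgroup X) ^ (E.relIndex B) :=
    hE32.trans (h1.trans (Nat.pow_le_pow_left h2 _))
  obtain ⟨w, hw⟩ : ∃ w : ℕ, w = Nat.card (E ⊓ B : Subgroup X) := ⟨_, rfl⟩
  obtain ⟨k, hkdef⟩ : ∃ k : ℕ, k = E.relIndex B := ⟨_, rfl⟩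
  rw [← hw, ← hkdef] at h3 hk
  have hwpos : 0 < w := hw ▸ Nat.card_pos
  have hle8 : k * w ≤ 8 := by
    rw [hk]
    exact Nat.le_of_dvd (by norm_num) hcard
  have hkpos : 0 < k := by
    rcases Nat.eq_zero_or_pos k with h | h
    · rw [h, pow_zero] at h3
      omega
    · exact h
  have hk8 : k ≤ 8 := by nlinarith
  have hw8 : w ≤ 8 := by nlinarith
  interval_cases k <;> interval_cases w <;> omega

/-- Part (b): every four-group lies in an elementary abelian subgroup of order `8`. -/
theorem exists_e8_ge (E : Subgroup X) [hEn : E.Normal] (hE : IsElementaryAbelian 2 E)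
    (hE32 : 32 ≤ Nat.card E) (V : Subgroup X) (hV : IsElementaryAbelian 2 V)
    (hVcard : Nat.card V = 4) :
    ∃ A : Subgroup X, V ≤ A ∧ IsElementaryAbelian 2 A ∧ Nat.card A = 8 := by
  obtain ⟨z, hzE, hzC, hzV⟩ := exists_cent_not_mem E hE hE32 V hV (by rw [hVcard]; norm_num)
  have hzz : z * z = 1 := sq_eq_one hE hzE
  refine ⟨V ⊔ Subgroup.zpowers z, le_sup_left, ?_, ?_⟩
  · apply IsElementaryAbelian_sup hV (isElementaryAbelian_zpowers (by rw [pow_two]; exact hzz))
    rw [Subgroup.zpowers_le]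
    exact hzC
  · rw [card_sup_zpowers V z hzz hzV (fun v hv => ((Subgroup.mem_centralizer_iff.mp hzC) v hv).symm),
      hVcard]

/-- The commuting relation on elementary abelian subgroups of order `8`. -/
def Rel8 (C D : Subgroup X) : Prop :=
  IsElementaryAbelian 2 C ∧ Nat.card C = 8 ∧ IsElementaryAbelian 2 D ∧ Nat.card D = 8 ∧ ⁅C, D⁆ = ⊥

theorem Rel8.symm {C D : Subgroup X} (h : Rel8 C D) : Rel8 D C := by
  obtain ⟨h1, h2, h3, h4, h5⟩ := h
  exact ⟨h3, h4, h1, h2, by rw [Subgroup.commutator_comm]; exact h5⟩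

theorem rel8_of_le {C D M : Subgroup X} (hC : IsElementaryAbelian 2 C) (hCc : Nat.card C = 8)
    (hD : IsElementaryAbelian 2 D) (hDc : Nat.card D = 8) (hM : IsElementaryAbelian 2 M)
    (hCM : C ≤ M) (hDM : D ≤ M) : Rel8 C D := by
  refine ⟨hC, hCc, hD, hDc, ?_⟩
  rw [Subgroup.commutator_eq_bot_iff_le_centralizer]
  intro c hc
  rw [Subgroup.mem_centralizer_iff]
  intro d hd
  exact isElementaryAbelian_commute hM (hDM hd) (hCM hc)

/-- The step: an `E_8` not inside `E` commutes with an `E_8` meeting `E` in a larger subgroup. -/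
theorem step (E : Subgroup X) [hEn : E.Normal] (hE : IsElementaryAbelian 2 E)
    (hE32 : 32 ≤ Nat.card E) (A : Subgroup X) (hA : IsElementaryAbelian 2 A)
    (hAcard : Nat.card A = 8) (hAE : ¬ A ≤ E) :
    ∃ A₁ : Subgroup X, Rel8 A A₁ ∧
      Nat.card (E ⊓ A : Subgroup X) < Nat.card (E ⊓ A₁ : Subgroup X) := by
  haveI : Fact (Nat.Prime 2) := ⟨Nat.prime_two⟩
  obtain ⟨z, hzE, hzC, hzA⟩ := exists_cent_not_mem E hE hE32 A hA (by rw [hAcard])
  have hzz : z * z = 1 := sq_eq_one hE hzE
  have hM : IsElementaryAbelian 2 (A ⊔ Subgroup.zpowers z) := by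
    apply IsElementaryAbelian_sup hA (isElementaryAbelian_zpowers (by rw [pow_two]; exact hzz))
    rw [Subgroup.zpowers_le]
    exact hzC
  have hMcard : Nat.card (A ⊔ Subgroup.zpowers z : Subgroup X) = 16 := by
    rw [card_sup_zpowers A z hzz hzA (fun v hv => ((Subgroup.mem_centralizer_iff.mp hzC) v hv).symm),
      hAcard]
  have hWA : E ⊓ A ≤ A := inf_le_right
  have hW : IsElementaryAbelian 2 (E ⊓ A : Subgroup X) := IsElementaryAbelian_of_le hA hWA
  obtain ⟨i, hi⟩ := card_pow_two hW
  have hWlt : E ⊓ A < A := lt_of_le_of_ne hWA (fun h => hAE (h ▸ inf_le_left))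
  have hi3 : i < 3 := by
    have h1 : Nat.card (E ⊓ A : Subgroup X) < Nat.card A := Cfsg.Agent.Lead.card_lt_of_lt hWlt
    rw [hi, hAcard, show (8 : ℕ) = 2 ^ 3 by norm_num] at h1
    exact (Nat.pow_lt_pow_iff_right (by norm_num)).mp h1
  have hzW : z ∉ (E ⊓ A : Subgroup X) := fun h => hzA (Subgroup.mem_inf.mp h).2
  have hHcard : Nat.card ((E ⊓ A) ⊔ Subgroup.zpowers z : Subgroup X) = 2 ^ (i + 1) := by
    rw [card_sup_zpowers (E ⊓ A) z hzz hzW
      (fun v hv => ((Subgroup.mem_centralizer_iff.mp hzC) v (hWA hv)).symm), hi, pow_succ']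
  have hHM : (E ⊓ A) ⊔ Subgroup.zpowers z ≤ A ⊔ Subgroup.zpowers z := sup_le_sup_right hWA _
  obtain ⟨A₁, hHA₁, hA₁M, hA₁card⟩ := exists_between 2 hHM hHcard
    (show 2 ^ 3 ∣ Nat.card (A ⊔ Subgroup.zpowers z : Subgroup X) by rw [hMcard]; norm_num) (by omega)
  have hA₁ : IsElementaryAbelian 2 A₁ := IsElementaryAbelian_of_le hM hA₁M
  refine ⟨A₁, rel8_of_le hA hAcard hA₁ (by rw [hA₁card]; norm_num) hM le_sup_left hA₁M, ?_⟩
  have hle : (E ⊓ A) ⊔ Subgroup.zpowers z ≤ E ⊓ A₁ := by
    apply le_inf _ hHA₁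
    apply sup_le inf_le_left
    rw [Subgroup.zpowers_le]
    exact hzE
  have h2 := Subgroup.card_le_of_le hle
  rw [hHcard] at h2
  rw [hi]
  calc 2 ^ i < 2 ^ (i + 1) := Nat.pow_lt_pow_right (by norm_num) (by omega)
    _ ≤ _ := h2

/-- Every `E_8` is connected to an `E_8` inside `E`. -/
theorem connected_to_E (E : Subgroup X) [hEn : E.Normal] (hE : IsElementaryAbelian 2 E)
    (hE32 : 32 ≤ Nat.card E) : ∀ (n : ℕ) (A : Subgroup X), IsElementaryAbelian 2 A →
      Nat.card A = 8 → 8 ≤ Nat.card (E ⊓ A : Subgroup X) + n →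
      ∃ A' : Subgroup X, IsElementaryAbelian 2 A' ∧ Nat.card A' = 8 ∧ A' ≤ E ∧
        Relation.ReflTransGen Rel8 A A' := by
  intro n
  induction n with
  | zero =>
    intro A hA hAcard h8
    have hle : A ≤ E := by
      have : E ⊓ A = A := by
        apply Subgroup.eq_of_le_of_card_ge inf_le_right
        omega
      rw [← this]
      exact inf_le_left
    exact ⟨A, hA, hAcard, hle, Relation.ReflTransGen.refl⟩
  | succ n ih =>
    intro A hA hAcard h8
    by_cases hAE : A ≤ E
    · exact ⟨A, hA, hAcard, hAE, Relation.ReflTransGen.refl⟩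
    · obtain ⟨A₁, hR, hlt⟩ := step E hE hE32 A hA hAcard hAE
      obtain ⟨A', hA', hA'c, hA'E, hchain⟩ := ih A₁ hR.2.2.1 hR.2.2.2.1 (by omega)
      exact ⟨A', hA', hA'c, hA'E, Relation.ReflTransGen.head hR hchain⟩

theorem reflTransGen_rel8_symm {A B : Subgroup X} (h : Relation.ReflTransGen Rel8 A B) :
    Relation.ReflTransGen Rel8 B A := by
  induction h with
  | refl => exact Relation.ReflTransGen.refl
  | tail _ hcd ih => exact Relation.ReflTransGen.head hcd.symm ih

/-- Part (a): the commuting graph on the `E_8`-subgroups is connected. -/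
theorem connected (E : Subgroup X) [hEn : E.Normal] (hE : IsElementaryAbelian 2 E)
    (hE32 : 32 ≤ Nat.card E) (A B : Subgroup X) (hA : IsElementaryAbelian 2 A)
    (hAcard : Nat.card A = 8) (hB : IsElementaryAbelian 2 B) (hBcard : Nat.card B = 8) :
    Relation.ReflTransGen Rel8 A B := by
  obtain ⟨A', hA', hA'c, hA'E, hchainA⟩ := connected_to_E E hE hE32 8 A hA hAcard (by omega)
  obtain ⟨B', hB', hB'c, hB'E, hchainB⟩ := connected_to_E E hE hE32 8 B hB hBcard (by omega)
  have hmid : Rel8 A' B' := rel8_of_le hA' hA'c hB' hB'c hE hA'E hB'E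
  have hchainB' : Relation.ReflTransGen Rel8 B' B := reflTransGen_rel8_symm hchainB
  exact (hchainA.tail hmid).trans hchainB'

end Cfsg.Agent.Lead.E32
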