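import Mathlib
import Cfsg.Agent.S1390
import Cfsg.Agent.Helper3.DirFacA

set_option autoImplicit false
open Cfsg

/-! Peterfalvi (8.x): for a maximal subgroup of Type II the sets `A₁(M)`, `A(M)`, `A₀(M)` are
TI-subsets with normaliser `M`. -/

namespace Cfsg.Agent.Lead.PF8

universe u

variable {G : Type u} [Group G] [Finite G]

omit [Finite G] in
/-- a subgroup all of whose elements conjugate a set into itself lies in its set normaliser -/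
theorem le_set_normalizer_of_conj_mem {M : Subgroup G} {X : Set G}
    (h : ∀ m ∈ M, ∀ a ∈ X, m * a * m⁻¹ ∈ X) : M ≤ Subgroup.normalizer X := by
  intro m hm
  rw [Subgroup.mem_set_normalizer_iff]
  intro a
  constructor
  · exact h m hm a
  · intro ha
    have := h m⁻¹ (M.inv_mem hm) _ ha
    convert this using 1
    group

/-- `(|M_F|, |M : M_F|) = 1` -/
theorem coprime_card_fittingHallOf (M : Subgroup G) :
    (Nat.card (Cfsg.fittingHallOf M)).Coprime ((Cfsg.fittingHallOf M).relIndex M) := by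
  rw [Cfsg.Agent.Helper1.card_fittingHallOf, Cfsg.Agent.Helper1.relIndex_fittingHallOf]
  exact Cfsg.Agent.Helper1.fittingHall_coprime M

/-- **Lemma A**: if `F(M)` is a TI-subset, an element of `M` having a non-identity power in `M_F`
can be conjugated into `M` only by elements of `M`. -/
theorem mem_of_pow_mem_fittingHallOf (hG : Cfsg.IsMinSimpleOddOrder G) {M : Subgroup G}
    (hM : IsCoatom M) (hTI : Cfsg.IsTISubset (Cfsg.fittingOf M : Set G))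
    {v g : G} (k : ℕ) (hk : v ^ k ∈ Cfsg.fittingHallOf M) (hk1 : v ^ k ≠ 1)
    (hg : g * v * g⁻¹ ∈ M) : g ∈ M := by
  set y := v ^ k with hy
  have hgy : g * y * g⁻¹ = (g * v * g⁻¹) ^ k := by rw [hy, conj_pow]
  have hgyM : g * y * g⁻¹ ∈ M := by rw [hgy]; exact Subgroup.pow_mem _ hg k
  have hyc : y ^ Nat.card (Cfsg.fittingHallOf M) = 1 :=
    orderOf_dvd_iff_pow_eq_one.mp (Subgroup.orderOf_dvd_natCard _ hk)
  have hgyc : (g * y * g⁻¹) ^ Nat.card (Cfsg.fittingHallOf M) = 1 := by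
    rw [conj_pow, hyc]; group
  have hgyH : g * y * g⁻¹ ∈ Cfsg.fittingHallOf M :=
    Cfsg.Agent.Helper4.BG15.mem_fittingHallOf_of_pow hgyM (coprime_card_fittingHallOf M) hgyc
  have hHF : Cfsg.fittingHallOf M ≤ Cfsg.fittingOf M :=
    Cfsg.Agent.Lead.BG127.le_fittingOf_of_normal_nilpotent (Cfsg.Agent.Helper1.fittingHallOf_le M)
      (Cfsg.Agent.Helper2.CNMax.le_normalizer_fittingHallOf M)
      (Cfsg.Agent.Helper2.CNMax.fittingHallOf_isNilpotent M)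
  have hF1 : Cfsg.fittingOf M ≠ ⊥ := by
    intro h
    have h1 := hHF hk
    rw [h, Subgroup.mem_bot] at h1
    exact hk1 h1
  have hFM : Cfsg.fittingOf M ≤ M := Subgroup.map_subtype_le _
  have hFtop : Cfsg.fittingOf M ≠ ⊤ := by
    intro h
    exact hM.1 (top_le_iff.mp (h ▸ hFM))
  have hN : Subgroup.normalizer ((Cfsg.fittingOf M : Subgroup G) : Set G) = M :=
    Cfsg.Agent.Helper1.BGU.normalizer_eq_of_coatom hG hM
      (Cfsg.Agent.Helper1.BGV.le_normalizer_fittingOf M) hF1 hFtop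
  by_contra hgM
  have hgN : g ∉ Subgroup.normalizer ((Cfsg.fittingOf M : Subgroup G) : Set G) := by
    rw [hN]; exact hgM
  exact hk1 (hTI g hgN y (hHF hk) (hHF hgyH))

/-- **Lemma B** (B&G 15.1): an element of `A(M) - M_σ` is conjugated into `A(M)` only by elements
of `M`. -/
theorem mem_of_sigmaA (hG : Cfsg.IsMinSimpleOddOrder G) {M K U : Subgroup G}
    (hM : IsCoatom M) (hKU : Cfsg.IsSigmaDecomposition M K U) {x g : G}
    (hxA : x ∈ Cfsg.sigmaA M U) (hxσ : x ∉ Cfsg.sigmaCore M)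
    (hgxA : g * x * g⁻¹ ∈ Cfsg.sigmaA M U) : g ∈ M := by
  obtain ⟨n, p, hp, hpσ, hpd, hwp, hn⟩ := Cfsg.Agent.Helper1.BG151.exists_pow_tau2 hG hM hKU hxA hxσ
  obtain ⟨⟨hxM, y, hy, hy1, hxy⟩, hxU⟩ := hxA
  obtain ⟨⟨hgxM, y', hy', hy'1, hgxy'⟩, hgxU⟩ := hgxA
  set w := x ^ n with hw
  have hwU : w ∈ U ⊔ Cfsg.sigmaCore M := Subgroup.pow_mem _ hxU n
  have hwy : w * y = y * w := ((show Commute x y from hxy).pow_left n).eq
  have hpτ := Cfsg.Agent.Helper1.BG151.mem_tau2_of_commute' hG hM hKU hp hpσ hwU hwp hy hy1 hwy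
  have hgw : g * w * g⁻¹ = (g * x * g⁻¹) ^ n := by rw [hw, conj_pow]
  have hgwU : g * w * g⁻¹ ∈ U ⊔ Cfsg.sigmaCore M := by
    rw [hgw]; exact Subgroup.pow_mem _ hgxU n
  have hgwy : (g * w * g⁻¹) * y' = y' * (g * w * g⁻¹) := by
    rw [hgw]; exact ((show Commute (g * x * g⁻¹) y' from hgxy').pow_left n).eq
  have hgwp : orderOf (g * w * g⁻¹) = p := by
    rw [← hwp]
    exact orderOf_injective (MulAut.conj g).toMonoidHom (MulAut.conj g).injective w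
  have hw1 : w ≠ 1 := by
    intro h
    rw [h, orderOf_one] at hwp
    exact hp.one_lt.ne hwp
  have hgw1 : g * w * g⁻¹ ≠ 1 := by
    intro h
    rw [h, orderOf_one] at hgwp
    exact hp.one_lt.ne hgwp
  have hUσM : U ⊔ Cfsg.sigmaCore M ≤ M := sup_le hKU.compl.1 Cfsg.Agent.Lead.BG12.sigmaCore_le
  have hτ : ∀ v : G, orderOf v = p → ∀ t : ℕ, t.Prime → t ∣ orderOf v → t ∈ Cfsg.tau2 M := by
    intro v hv t ht htd
    rw [hv] at htd
    rw [(Nat.prime_dvd_prime_iff_eq ht hp).mp htd]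
    exact hpτ
  have h1 := Cfsg.Agent.Helper4.BG12.centralizer_le_of_tau2_elt hG hM (hUσM hgwU) hgw1
    (hτ _ hgwp) ⟨hUσM hgwU, y', hy', hy'1, hgwy⟩
  have h2 := Cfsg.Agent.Helper4.BG12.centralizer_le_of_tau2_elt hG hM (hUσM hwU) hw1
    (hτ _ hwp) ⟨hUσM hwU, y, hy, hy1, hwy⟩
  have hM' : IsCoatom (M.map (MulAut.conj g).toMonoidHom) := by
    have := Cfsg.Agent.Helper1.BGU.isCoatom_conj_smul g hM
    rwa [Subgroup.pointwise_smul_def] at this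
  have hC : Subgroup.centralizer ({g * w * g⁻¹} : Set G) ≤ M.map (MulAut.conj g).toMonoidHom := by
    intro c hc
    rw [Subgroup.mem_centralizer_singleton_iff] at hc
    refine ⟨g⁻¹ * c * g, h2.1 ?_, by simp [mul_assoc]⟩
    rw [Subgroup.mem_centralizer_singleton_iff]
    calc g⁻¹ * c * g * w = g⁻¹ * (c * (g * w * g⁻¹)) * g := by group
      _ = g⁻¹ * ((g * w * g⁻¹) * c) * g := by rw [hc]
      _ = w * (g⁻¹ * c * g) := by group
  have hMeq : M.map (MulAut.conj g).toMonoidHom = M := h1.2 _ hM' hC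
  have hNM : Subgroup.normalizer (M : Set G) = M :=
    Cfsg.Agent.Helper1.BGU.normalizer_eq_of_coatom hG hM Subgroup.le_normalizer
      (Cfsg.Agent.Lead.BG12.coatom_ne_bot hG hM) hM.1
  rw [← hNM]
  apply Subgroup.mem_normalizer_fintype
  intro m hm
  have h3 : g * m * g⁻¹ ∈ M.map (MulAut.conj g).toMonoidHom := ⟨m, hm, rfl⟩
  rw [hMeq] at h3
  exact h3

/-- `(|W₁|, |M_F|) = 1` for type-P data -/
theorem typeP_coprime_W₁_H {M W₁ U W₂ : Subgroup G} (hP : Cfsg.IsTypePWith M W₁ U W₂) :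
    (Nat.card W₁).Coprime (Nat.card (Cfsg.fittingHallOf M)) := by
  have h1 := hP.W₁_hall
  have h2 := Cfsg.Agent.Helper1.relIndex_mul_card_of_le hP.W₁_compl.2.1
  have h3 := Cfsg.Agent.Helper1.typeP_card hP
  have hpos : 0 < Nat.card W₁ := Nat.card_pos
  have h4 : W₁.relIndex M = Nat.card (Cfsg.fittingHallOf M) * Nat.card U := by
    have : W₁.relIndex M * Nat.card W₁ =
        (Nat.card (Cfsg.fittingHallOf M) * Nat.card U) * Nat.card W₁ := by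
      rw [h2, ← h3]
    exact Nat.eq_of_mul_eq_mul_right hpos this
  rw [h4] at h1
  exact Nat.Coprime.coprime_mul_right_right h1

/-- an element of the `W`-part of `A₀(M)` lies in `M` and has a non-identity power in `M_F` -/
theorem wpart_pow {M W₁ U W₂ : Subgroup G} (hP : Cfsg.IsTypePWith M W₁ U W₂)
    {m w : G} (hm : m ∈ M) (hw : w ∈ W₁ ⊔ W₂) (hw1 : w ∉ W₁) (hw2 : w ∉ W₂) :
    m * w * m⁻¹ ∈ M ∧ ∃ k : ℕ, (m * w * m⁻¹) ^ k ∈ Cfsg.fittingHallOf M ∧ (m * w * m⁻¹) ^ k ≠ 1 := by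
  obtain ⟨hW1, hW2, hinf, hcomm, hcyc, hnorm⟩ := hP.selfNormalizing
  obtain ⟨a, ha, b, hb, rfl⟩ := Cfsg.Agent.Helper3.DirFac.exists_mul_of_mem_sup hcomm hw
  have hb1 : b ≠ 1 := by
    intro h
    apply hw1
    rw [h, mul_one]; exact ha
  have hW1M : W₁ ≤ M := hP.W₁_compl.2.1
  have hW2H : W₂ ≤ Cfsg.fittingHallOf M := hP.W₂_le.trans inf_le_left
  have hHM : Cfsg.fittingHallOf M ≤ M := Cfsg.Agent.Helper1.fittingHallOf_le M
  have habM : a * b ∈ M := M.mul_mem (hW1M ha) (hHM (hW2H hb))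
  refine ⟨M.mul_mem (M.mul_mem hm habM) (M.inv_mem hm), Nat.card W₁, ?_, ?_⟩
  · rw [conj_pow]
    have hab : Commute a b := hcomm a ha b hb
    rw [hab.mul_pow]
    have ha1 : a ^ Nat.card W₁ = 1 :=
      orderOf_dvd_iff_pow_eq_one.mp (Subgroup.orderOf_dvd_natCard _ ha)
    rw [ha1, one_mul]
    have hbk : b ^ Nat.card W₁ ∈ Cfsg.fittingHallOf M := Subgroup.pow_mem _ (hW2H hb) _
    exact (Subgroup.mem_normalizer_iff.mp
      (Cfsg.Agent.Helper2.CNMax.le_normalizer_fittingHallOf M hm) _).mp hbk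
  · rw [conj_pow]
    have hab : Commute a b := hcomm a ha b hb
    rw [hab.mul_pow]
    have ha1 : a ^ Nat.card W₁ = 1 :=
      orderOf_dvd_iff_pow_eq_one.mp (Subgroup.orderOf_dvd_natCard _ ha)
    rw [ha1, one_mul]
    intro h
    have h1 : b ^ Nat.card W₁ = 1 := by
      have : b ^ Nat.card W₁ = m⁻¹ * (m * b ^ Nat.card W₁ * m⁻¹) * m := by group
      rw [this, h]; group
    have h2 : orderOf b ∣ Nat.card W₁ := orderOf_dvd_of_pow_eq_one h1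
    have h3 : orderOf b ∣ Nat.card (Cfsg.fittingHallOf M) :=
      Subgroup.orderOf_dvd_natCard _ (hW2H hb)
    have h4 : orderOf b ∣ 1 := by
      have := Nat.dvd_gcd h2 h3
      rwa [(typeP_coprime_W₁_H hP)] at this
    apply hb1
    exact orderOf_eq_one_iff.mp (Nat.dvd_one.mp h4)

omit [Finite G] in
/-- the conclusion for a set `X` between nothing and `A₀(M)` -/
theorem TI_of_star {M : Subgroup G} {X Y : Set G}
    (hstar : ∀ a ∈ Y, ∀ g : G, g * a * g⁻¹ ∈ Y → g ∈ M)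
    (hXY : X ⊆ Y) (hne : X.Nonempty) (hinv : ∀ m ∈ M, ∀ a ∈ X, m * a * m⁻¹ ∈ X) :
    Cfsg.IsTISubset X ∧ Subgroup.normalizer X = M := by
  have hMN : M ≤ Subgroup.normalizer X := le_set_normalizer_of_conj_mem hinv
  refine ⟨?_, le_antisymm ?_ hMN⟩
  · intro g hg x hx hgx
    exact absurd (hMN (hstar x (hXY hx) g (hXY hgx))) hg
  · intro g hg
    obtain ⟨a, ha⟩ := hne
    rw [Subgroup.mem_set_normalizer_iff] at hg
    exact hstar a (hXY ha) g (hXY ((hg a).mp ha))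

/-- **Peterfalvi (8.x)**, Type II case (the frozen S1538) modulo `S1363`. -/
theorem typeII_TI (hG : Cfsg.IsMinSimpleOddOrder G) {M : Subgroup G} (hM : IsCoatom M)
    (h1363 : ∀ K U : Subgroup G, Cfsg.IsSigmaDecomposition M K U → K ≠ ⊥ → U ≠ ⊥ →
      ¬ Subgroup.normalizer (U : Set G) ≤ M)
    (hII : Cfsg.IsOfTypeII M) :
    (Cfsg.IsTISubset (Cfsg.typeA0 M) ∧ Subgroup.normalizer (Cfsg.typeA0 M) = M) ∧
    (Cfsg.IsTISubset (Cfsg.typeA M) ∧ Subgroup.normalizer (Cfsg.typeA M) = M) ∧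
    (Cfsg.IsTISubset (Cfsg.typeA1 M) ∧ Subgroup.normalizer (Cfsg.typeA1 M) = M) := by
  classical
  obtain ⟨K₀, U₀, hKU₀⟩ := Cfsg.Agent.Helper4.BG15.exists_sigmaDecomposition hG hM
  obtain ⟨hK1, hU₀1⟩ :=
    (Cfsg.Agent.Helper1.BG16.typeII_iff hG hM hKU₀ (h1363 K₀ U₀ hKU₀)).1 hII
  have hFσ := Cfsg.Agent.Helper1.BG16.fittingHallOf_eq_sigmaCore hG hM hKU₀ hU₀1
  have hM' : ⁅M, M⁆ = U₀ ⊔ Cfsg.sigmaCore M :=
    (Cfsg.Agent.S1365.result hG M hM K₀ U₀ hKU₀ hK1).1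
  have hnotI : ¬ Cfsg.IsOfTypeI M := fun hI =>
    hK1 (Cfsg.Agent.Helper3.BG16T.isOfTypeI_imp hG hM hKU₀ hI).1
  have hnot : ¬ (Cfsg.IsOfTypeIII M ∨ Cfsg.IsOfTypeIV M) := fun h => hU₀1
    ((Cfsg.Agent.Helper4.BG16.typeIII_or_IV_iff hG hM hKU₀ (h1363 K₀ U₀ hKU₀)).1 h).2.1
  have hcore : Cfsg.typeCore M = Cfsg.fittingHallOf M := if_neg hnot
  have hA : Cfsg.typeA M = {a | a ∈ U₀ ⊔ Cfsg.sigmaCore M ∧ a ≠ 1 ∧
      ∃ x ∈ Cfsg.sigmaCore M, x ≠ 1 ∧ a * x = x * a} := by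
    rw [Cfsg.typeA, if_neg hnotI, hcore, hFσ, hM']
  have hA1 : Cfsg.typeA1 M = (↑(Cfsg.sigmaCore M) : Set G) \ {1} := by
    rw [Cfsg.typeA1, hcore, hFσ]
  obtain ⟨W₁, U, W₂, hP, hU1, hprime, hTI, hUab, hNU, hF', hFH⟩ := hII
  have hσM : Cfsg.sigmaCore M ≤ M := Cfsg.Agent.Lead.BG12.sigmaCore_le
  have hUσM : U₀ ⊔ Cfsg.sigmaCore M ≤ M := sup_le hKU₀.compl.1 hσM
  have hMσn := Cfsg.Agent.Lead.BG12.le_normalizer_sigmaCore M
  have hMUσn : M ≤ Subgroup.normalizer ((U₀ ⊔ Cfsg.sigmaCore M : Subgroup G) : Set G) :=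
    (Cfsg.Agent.S1352.result hG M hM K₀ hKU₀.cyclic hKU₀.hall).2 U₀ hKU₀
  -- every element of `A₀(M)` is "good"
  have hgood : ∀ a ∈ Cfsg.typeA0 M, a ∈ M ∧
      ((∃ k : ℕ, a ^ k ∈ Cfsg.fittingHallOf M ∧ a ^ k ≠ 1) ∨
        (a ∈ Cfsg.sigmaA M U₀ ∧ a ∉ Cfsg.sigmaCore M)) := by
    intro a ha
    rcases ha with ha | ⟨-, W₁', U', W₂', hP', m, hm, w, hw, hw1, hw2, rfl⟩
    · rw [hA] at ha
      obtain ⟨haU, ha1, x, hx, hx1, hax⟩ := ha
      refine ⟨hUσM haU, ?_⟩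
      by_cases haσ : a ∈ Cfsg.sigmaCore M
      · left
        refine ⟨1, ?_, ?_⟩
        · rw [pow_one, hFσ]; exact haσ
        · rw [pow_one]; exact ha1
      · right
        exact ⟨⟨⟨hUσM haU, x, hx, hx1, hax⟩, haU⟩, haσ⟩
    · obtain ⟨h1, h2⟩ := wpart_pow hP' hm hw hw1 hw2
      exact ⟨h1, Or.inl h2⟩
  -- the key property
  have hstar : ∀ a ∈ Cfsg.typeA0 M, ∀ g : G, g * a * g⁻¹ ∈ Cfsg.typeA0 M → g ∈ M := by
    intro a ha g hga
    obtain ⟨haM, ha'⟩ := hgood a ha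
    obtain ⟨hgaM, hga'⟩ := hgood _ hga
    rcases ha' with ⟨k, hk, hk1⟩ | ⟨haA, haσ⟩
    · exact mem_of_pow_mem_fittingHallOf hG hM hTI k hk hk1 hgaM
    · rcases hga' with ⟨k, hk, hk1⟩ | ⟨hgaA, -⟩
      · have h1 : g⁻¹ * (g * a * g⁻¹) * g⁻¹⁻¹ ∈ M := by
          have : g⁻¹ * (g * a * g⁻¹) * g⁻¹⁻¹ = a := by group
          rw [this]; exact haM
        have h2 := mem_of_pow_mem_fittingHallOf hG hM hTI k hk hk1 h1
        have h3 := M.inv_mem h2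
        rwa [inv_inv] at h3
      · exact mem_of_sigmaA hG hM hKU₀ haA haσ hgaA
  -- a non-identity element of `M_σ`
  obtain ⟨hW1, hW2, -⟩ := hP.selfNormalizing
  obtain ⟨⟨y, hyW⟩, hy1'⟩ := (Subgroup.ne_bot_iff_exists_ne_one).mp hW2
  have hy1 : y ≠ 1 := fun h => hy1' (Subtype.ext h)
  have hyσ : y ∈ Cfsg.sigmaCore M := by
    rw [← hFσ]; exact (hP.W₂_le.trans inf_le_left) hyW
  have hyA1 : y ∈ Cfsg.typeA1 M := by
    rw [hA1]; exact ⟨hyσ, hy1⟩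
  have hA1A : Cfsg.typeA1 M ⊆ Cfsg.typeA M := by
    intro a ha
    rw [hA1] at ha
    rw [hA]
    exact ⟨Subgroup.mem_sup_right ha.1, ha.2, a, ha.1, ha.2, rfl⟩
  have hAA0 : Cfsg.typeA M ⊆ Cfsg.typeA0 M := Set.subset_union_left
  -- invariance under `M`
  have hconj1 : ∀ {m x : G}, m * x * m⁻¹ = 1 → x = 1 := by
    intro m x h
    have : x = m⁻¹ * (m * x * m⁻¹) * m := by group
    rw [this, h]; group
  have hinvA1 : ∀ m ∈ M, ∀ a ∈ Cfsg.typeA1 M, m * a * m⁻¹ ∈ Cfsg.typeA1 M := by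
    intro m hm a ha
    rw [hA1] at ha ⊢
    exact ⟨(Subgroup.mem_normalizer_iff.mp (hMσn hm) a).mp ha.1, fun h => ha.2 (hconj1 h)⟩
  have hinvA : ∀ m ∈ M, ∀ a ∈ Cfsg.typeA M, m * a * m⁻¹ ∈ Cfsg.typeA M := by
    intro m hm a ha
    rw [hA] at ha ⊢
    obtain ⟨haU, ha1, x, hx, hx1, hax⟩ := ha
    refine ⟨(Subgroup.mem_normalizer_iff.mp (hMUσn hm) a).mp haU, fun h => ha1 (hconj1 h),
      m * x * m⁻¹, (Subgroup.mem_normalizer_iff.mp (hMσn hm) x).mp hx, fun h => hx1 (hconj1 h), ?_⟩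
    calc m * a * m⁻¹ * (m * x * m⁻¹) = m * (a * x) * m⁻¹ := by group
      _ = m * (x * a) * m⁻¹ := by rw [hax]
      _ = _ := by group
  have hinvA0 : ∀ m ∈ M, ∀ a ∈ Cfsg.typeA0 M, m * a * m⁻¹ ∈ Cfsg.typeA0 M := by
    intro m hm a ha
    rcases ha with ha | ⟨hn, W₁', U', W₂', hP', m', hm', w, hw, hw1, hw2, rfl⟩
    · exact Or.inl (hinvA m hm a ha)
    · refine Or.inr ⟨hn, W₁', U', W₂', hP', m * m', M.mul_mem hm hm', w, hw, hw1, hw2, ?_⟩
      group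
  exact ⟨TI_of_star hstar subset_rfl ⟨y, hAA0 (hA1A hyA1)⟩ hinvA0,
    TI_of_star hstar hAA0 ⟨y, hA1A hyA1⟩ hinvA,
    TI_of_star hstar (hA1A.trans hAA0) ⟨y, hyA1⟩ hinvA1⟩

end Cfsg.Agent.Lead.PF8
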