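import Mathlib
import Cfsg.Agent.Helper1.Basic
import Cfsg.Agent.Helper1.Coprime

set_option autoImplicit false

/-!
Toolkit for S4409: non-cyclic abelian subgroups of order 8 ("NA8").
-/

namespace Cfsg.Agent.Lead.NA8

variable {G : Type*} [Group G]

/-- `Y` contains no non-cyclic abelian subgroup of order 8 -/
def Free (Y : Subgroup G) : Prop :=
  ¬ ∃ A : Subgroup G, A ≤ Y ∧ IsMulCommutative ↥A ∧ ¬ IsCyclic ↥A ∧ Nat.card ↥A = 8

theorem Free.mono {Y Z : Subgroup G} (h : Free Z) (hYZ : Y ≤ Z) : Free Y := by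
  rintro ⟨A, hA, h1, h2, h3⟩
  exact h ⟨A, hA.trans hYZ, h1, h2, h3⟩

/-- powers of `g` lying in `H`, when `g ∉ H` and `g * g ∈ H` -/
theorem zpow_mem_iff_even (H : Subgroup G) {g : G} (hg : g ∉ H) (hg2 : g * g ∈ H) (k : ℤ) :
    g ^ k ∈ H ↔ Even k := by
  have h2 : ∀ m : ℤ, g ^ (2 * m) ∈ H := by
    intro m
    rw [zpow_mul, zpow_two]
    exact H.zpow_mem hg2 m
  constructor
  · intro hk
    by_contra hodd
    rw [Int.not_even_iff_odd] at hodd
    obtain ⟨m, rfl⟩ := hodd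
    rw [zpow_add, zpow_one] at hk
    exact hg ((H.mul_mem_cancel_left (h2 m)).1 hk)
  · rintro ⟨m, rfl⟩
    have : m + m = 2 * m := by ring
    rw [this]
    exact h2 m

theorem mem_sup_zpowers (H : Subgroup G) {g : G} (hn : g ∈ Subgroup.normalizer (H : Set G))
    {x : G} (hx : x ∈ H ⊔ Subgroup.zpowers g) : ∃ h ∈ H, ∃ k : ℤ, x = h * g ^ k := by
  have hle : Subgroup.zpowers g ≤ Subgroup.normalizer (H : Set G) := by
    rw [Subgroup.zpowers_le]; exact hn
  obtain ⟨h, hh, a, ha, rfl⟩ := Cfsg.Agent.Helper1.mem_sup_of_le_normalizer hle hx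
  obtain ⟨k, rfl⟩ := Subgroup.mem_zpowers_iff.1 ha
  exact ⟨h, hh, k, rfl⟩

/-- adjoining an element whose square lies in `H` doubles the order -/
theorem relIndex_sup_zpowers (H : Subgroup G) {g : G}
    (hn : g ∈ Subgroup.normalizer (H : Set G)) (hg : g ∉ H) (hg2 : g * g ∈ H) :
    H.relIndex (H ⊔ Subgroup.zpowers g) = 2 := by
  rw [Subgroup.relIndex_eq_two_iff]
  refine ⟨g, Subgroup.mem_sup_right (Subgroup.mem_zpowers g), ?_⟩
  intro b hb
  obtain ⟨h, hh, k, rfl⟩ := mem_sup_zpowers H hn hb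
  have h1 : h * g ^ k * g ∈ H ↔ Even (k + 1) := by
    rw [mul_assoc, ← zpow_add_one, H.mul_mem_cancel_left hh]
    exact zpow_mem_iff_even H hg hg2 (k + 1)
  have h2 : h * g ^ k ∈ H ↔ Even k := by
    rw [H.mul_mem_cancel_left hh]
    exact zpow_mem_iff_even H hg hg2 k
  rw [h1, h2, Int.even_add_one]
  by_cases hk : Even k
  · exact Or.inr ⟨hk, fun h => h hk⟩
  · exact Or.inl ⟨hk, hk⟩

theorem card_sup_zpowers (H : Subgroup G) {g : G}
    (hn : g ∈ Subgroup.normalizer (H : Set G)) (hg : g ∉ H) (hg2 : g * g ∈ H) :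
    Nat.card ↥(H ⊔ Subgroup.zpowers g) = 2 * Nat.card ↥H := by
  rw [← Cfsg.Agent.Helper1.relIndex_mul_card_of_le (le_sup_left : H ≤ H ⊔ Subgroup.zpowers g),
    relIndex_sup_zpowers H hn hg hg2]

/-- membership in the doubled group -/
theorem mem_sup_zpowers_cases (H : Subgroup G) {g : G}
    (hn : g ∈ Subgroup.normalizer (H : Set G)) (hg2 : g * g ∈ H)
    {x : G} (hx : x ∈ H ⊔ Subgroup.zpowers g) : x ∈ H ∨ ∃ h ∈ H, x = h * g := by
  obtain ⟨h, hh, k, rfl⟩ := mem_sup_zpowers H hn hx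
  have h2 : ∀ m : ℤ, g ^ (2 * m) ∈ H := by
    intro m
    rw [zpow_mul, zpow_two]
    exact H.zpow_mem hg2 m
  rcases Int.even_or_odd k with ⟨m, rfl⟩ | ⟨m, rfl⟩
  · left
    have : m + m = 2 * m := by ring
    rw [this]
    exact H.mul_mem hh (h2 m)
  · right
    refine ⟨h * g ^ (2 * m), H.mul_mem hh (h2 m), ?_⟩
    rw [zpow_add, zpow_one, mul_assoc]

/-- an element of 2-power order outside `U` has a power outside `U` with square in `U` -/
theorem exists_pow_not_mem (U : Subgroup G) {g : G} (hg : g ∉ U) {n : ℕ} (hgn : g ^ (2 ^ n) = 1) :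
    ∃ k : ℕ, g ^ (2 ^ k) ∉ U ∧ (g ^ (2 ^ k)) * (g ^ (2 ^ k)) ∈ U := by
  classical
  have hex : ∃ k : ℕ, g ^ (2 ^ k) ∈ U := ⟨n, by rw [hgn]; exact U.one_mem⟩
  have hk0 : Nat.find hex ≠ 0 := by
    intro h0
    have := Nat.find_spec hex
    rw [h0, pow_zero, pow_one] at this
    exact hg this
  obtain ⟨k, hk⟩ := Nat.exists_eq_succ_of_ne_zero hk0
  refine ⟨k, ?_, ?_⟩
  · exact Nat.find_min hex (by omega)
  · have := Nat.find_spec hex
    rw [hk, Nat.succ_eq_add_one, pow_succ, pow_mul, pow_two] at this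
    exact this

/-- a group of order 4 is commutative -/
theorem comm_of_card_four (H : Subgroup G) (hH4 : Nat.card H = 4) :
    ∀ a ∈ H, ∀ b ∈ H, a * b = b * a := by
  intro a ha b hb
  have : Fact (Nat.Prime 2) := ⟨Nat.prime_two⟩
  have h4 : Nat.card ↥H = 2 ^ 2 := by rw [hH4]; norm_num
  have hc : IsMulCommutative ↥H := IsPGroup.isMulCommutative_of_card_eq_prime_sq h4
  have := hc.is_comm.comm (⟨a, ha⟩ : H) ⟨b, hb⟩
  exact congrArg Subtype.val this

theorem pow_four_of_card_four (H : Subgroup G) (hH4 : Nat.card H = 4) {h : G} (hh : h ∈ H) :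
    h ^ 4 = 1 := by
  have := pow_card_eq_one' (G := H) (x := ⟨h, hh⟩)
  rw [hH4] at this
  exact congrArg Subtype.val this

/-- the NA8 producer: a subgroup `H` of order 4 and an element `y ∉ H` of order dividing 4
centralizing `H` with `y² ∈ H` give a non-cyclic abelian subgroup of order 8 -/
theorem exists_na8 (H : Subgroup G) (hH4 : Nat.card H = 4) {y : G} (hyH : y ∉ H)
    (hcomm : ∀ h ∈ H, y * h = h * y) (hy2 : y * y ∈ H) (hy4 : y ^ 4 = 1) :
    ∃ A : Subgroup G, A = H ⊔ Subgroup.zpowers y ∧ IsMulCommutative ↥A ∧ ¬ IsCyclic ↥A ∧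
      Nat.card ↥A = 8 := by
  have hn : y ∈ Subgroup.normalizer (H : Set G) := by
    rw [Subgroup.mem_normalizer_iff]
    intro h
    constructor
    · intro hh
      rw [hcomm h hh, mul_inv_cancel_right]; exact hh
    · intro hh
      have h1 := hcomm _ hh
      have h2 : y * h * y⁻¹ = h := by
        calc y * h * y⁻¹ = y⁻¹ * (y * (y * h * y⁻¹)) := by group
          _ = y⁻¹ * ((y * h * y⁻¹) * y) := by rw [h1]
          _ = h := by group
      rw [← h2]; exact hh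
  have hcard : Nat.card ↥(H ⊔ Subgroup.zpowers y) = 8 := by
    rw [card_sup_zpowers H hn hyH hy2, hH4]
  have hHc := comm_of_card_four H hH4
  have hcy : ∀ h ∈ H, Commute y h := fun h hh => hcomm h hh
  have hel : ∀ x ∈ H ⊔ Subgroup.zpowers y, ∃ h ∈ H, ∃ k : ℤ, x = h * y ^ k :=
    fun x hx => mem_sup_zpowers H hn hx
  have hcomm2 : ∀ a ∈ H ⊔ Subgroup.zpowers y, ∀ b ∈ H ⊔ Subgroup.zpowers y, Commute a b := by
    intro a ha b hb
    obtain ⟨h, hh, k, rfl⟩ := hel a ha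
    obtain ⟨h', hh', k', rfl⟩ := hel b hb
    have c1 : Commute h h' := hHc h hh h' hh'
    have c2 : Commute h (y ^ k') := ((hcy h hh).zpow_left k').symm
    have c3 : Commute (y ^ k) h' := (hcy h' hh').zpow_left k
    have c4 : Commute (y ^ k) (y ^ k') := (Commute.refl y).zpow_zpow k k'
    exact (c1.mul_right c2).mul_left (c3.mul_right c4)
  have hexp : ∀ x ∈ H ⊔ Subgroup.zpowers y, x ^ 4 = 1 := by
    intro x hx
    obtain ⟨h, hh, k, rfl⟩ := hel x hx
    have c2 : Commute h (y ^ k) := ((hcy h hh).zpow_left k).symm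
    rw [c2.mul_pow, pow_four_of_card_four H hH4 hh, one_mul, ← zpow_natCast, ← zpow_mul,
      mul_comm, zpow_mul, zpow_natCast, hy4, one_zpow]
  refine ⟨_, rfl, ⟨⟨fun a b => Subtype.ext (hcomm2 a a.2 b b.2)⟩⟩, ?_, hcard⟩
  intro hcyc
  obtain ⟨a, ha⟩ := hcyc.exists_generator
  have h1 : orderOf a = 8 := by
    rw [orderOf_eq_card_of_forall_mem_zpowers ha, hcard]
  have h2 : a ^ 4 = 1 := Subtype.ext (by
    rw [Subgroup.coe_pow, Subgroup.coe_one]
    exact hexp a a.2)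
  have h3 := orderOf_dvd_of_pow_eq_one h2
  rw [h1] at h3
  omega

end Cfsg.Agent.Lead.NA8
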