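import Mathlib
import Cfsg.Agent.Helper1.Basic
import Cfsg.Agent.Helper1.Coprime
import Cfsg.Agent.Helper1.Card
import Cfsg.Agent.Helper1.AbelianAct
import Cfsg.Agent.Helper5.PGroupCenter
import Cfsg.Agent.Lead.NA8A

set_option autoImplicit false
set_option linter.unusedSectionVars false
set_option linter.unusedVariables false

/-!
S4409: an odd-order group `K` normalizing a 2-group `Y` inside a finite group `G`.
Basic facts on `K`-invariant subgroups of order 2, 4 and 8.
-/

namespace Cfsg.Agent.Lead.NA8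

open scoped commutatorElement Pointwise

variable {G : Type*} [Group G]

/-- `K` of odd order normalizes the 2-group `Y` -/
structure Act (Y K : Subgroup G) : Prop where
  two : IsPGroup 2 ↥Y
  odd : Odd (Nat.card ↥K)
  norm : K ≤ Subgroup.normalizer (Y : Set G)

theorem le_normalizer_closure (K : Subgroup G) (S : Set G)
    (h : ∀ k ∈ K, ∀ s ∈ S, k * s * k⁻¹ ∈ S) :
    K ≤ Subgroup.normalizer ((Subgroup.closure S : Subgroup G) : Set G) := by
  have key : ∀ k ∈ K, ∀ x ∈ Subgroup.closure S, k * x * k⁻¹ ∈ Subgroup.closure S := by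
    intro k hk x hx
    induction hx using Subgroup.closure_induction with
    | mem s hs => exact Subgroup.subset_closure (h k hk s hs)
    | one => simp
    | mul a b _ _ iha ihb =>
      have : k * (a * b) * k⁻¹ = (k * a * k⁻¹) * (k * b * k⁻¹) := by group
      rw [this]; exact Subgroup.mul_mem _ iha ihb
    | inv a _ iha =>
      have : k * a⁻¹ * k⁻¹ = (k * a * k⁻¹)⁻¹ := by group
      rw [this]; exact Subgroup.inv_mem _ iha
  intro k hk
  rw [Subgroup.mem_normalizer_iff]
  intro x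
  constructor
  · exact key k hk x
  · intro hx
    have := key k⁻¹ (K.inv_mem hk) _ hx
    have e : k⁻¹ * (k * x * k⁻¹) * k⁻¹⁻¹ = x := by group
    rwa [e] at this

theorem le_normalizer_inf' {K A B : Subgroup G} (hA : K ≤ Subgroup.normalizer (A : Set G))
    (hB : K ≤ Subgroup.normalizer (B : Set G)) :
    K ≤ Subgroup.normalizer ((A ⊓ B : Subgroup G) : Set G) :=
  Cfsg.Agent.Helper1.le_normalizer_inf hA hB

theorem le_normalizer_centralizer {K Y : Subgroup G} (hY : K ≤ Subgroup.normalizer (Y : Set G)) :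
    K ≤ Subgroup.normalizer ((Subgroup.centralizer (Y : Set G) : Subgroup G) : Set G) := by
  have key : ∀ k ∈ K, ∀ x ∈ Subgroup.centralizer (Y : Set G),
      k * x * k⁻¹ ∈ Subgroup.centralizer (Y : Set G) := by
    intro k hk x hx
    rw [Subgroup.mem_centralizer_iff]
    intro y hy
    have hy' : k⁻¹ * y * k⁻¹⁻¹ ∈ Y :=
      (Subgroup.mem_normalizer_iff.1 (hY (K.inv_mem hk)) y).1 hy
    have h1 := Subgroup.mem_centralizer_iff.1 hx _ hy'
    calc y * (k * x * k⁻¹) = k * ((k⁻¹ * y * k⁻¹⁻¹) * x) * k⁻¹ := by group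
      _ = k * (x * (k⁻¹ * y * k⁻¹⁻¹)) * k⁻¹ := by rw [h1]
      _ = k * x * k⁻¹ * y := by group
  intro k hk
  rw [Subgroup.mem_normalizer_iff]
  intro x
  constructor
  · exact key k hk x
  · intro hx
    have := key k⁻¹ (K.inv_mem hk) _ hx
    have e : k⁻¹ * (k * x * k⁻¹) * k⁻¹⁻¹ = x := by group
    rwa [e] at this

theorem le_normalizer_sup' {K A B : Subgroup G} (hA : K ≤ Subgroup.normalizer (A : Set G))
    (hB : K ≤ Subgroup.normalizer (B : Set G)) :
    K ≤ Subgroup.normalizer ((A ⊔ B : Subgroup G) : Set G) := by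
  intro a ha
  apply Cfsg.Agent.Helper1.mem_normalizer_of_conj_smul_eq
  rw [Subgroup.smul_sup, Cfsg.Agent.Helper1.conj_smul_eq_of_mem_normalizer (hA ha),
    Cfsg.Agent.Helper1.conj_smul_eq_of_mem_normalizer (hB ha)]

theorem le_normalizer_of_le_centralizer {K H : Subgroup G}
    (h : H ≤ Subgroup.centralizer (K : Set G)) : K ≤ Subgroup.normalizer (H : Set G) := by
  intro k hk
  rw [Subgroup.mem_normalizer_iff]
  intro x
  have key : ∀ x ∈ H, k * x * k⁻¹ = x := by
    intro x hx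
    have := Subgroup.mem_centralizer_iff.1 (h hx) k hk
    rw [this, mul_inv_cancel_right]
  constructor
  · intro hx
    rw [key x hx]; exact hx
  · intro hx
    have h2 := key _ hx
    have h3 : k * x * k⁻¹ = x := by
      calc k * x * k⁻¹ = k⁻¹ * (k * (k * x * k⁻¹) * k⁻¹) * k := by group
        _ = k⁻¹ * (k * x * k⁻¹) * k := by rw [h2]
        _ = x := by group
    rw [← h3]; exact hx

section finite

variable [Finite G] {Y K : Subgroup G}

theorem Act.coprime (h : Act Y K) : (Nat.card ↥K).Coprime (Nat.card ↥Y) := by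
  have : Fact (Nat.Prime 2) := ⟨Nat.prime_two⟩
  obtain ⟨n, hn⟩ := IsPGroup.iff_card.1 h.two
  rw [hn]
  exact Nat.Coprime.pow_right n (Nat.coprime_two_right.2 h.odd)

theorem Act.solv (h : Act Y K) : Group.IsSolvable ↥K ∨ Group.IsSolvable ↥Y := by
  have : Fact (Nat.Prime 2) := ⟨Nat.prime_two⟩
  right
  have := h.two.isNilpotent
  infer_instance

theorem Act.comm_comm (h : Act Y K) : ⁅⁅Y, K⁆, K⁆ = ⁅Y, K⁆ :=
  Cfsg.Agent.Helper1.coprime_commutator_commutator K Y h.norm h.coprime h.solv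

theorem Act.sup_cent (h : Act Y K) : ⁅Y, K⁆ ⊔ (Y ⊓ Subgroup.centralizer (K : Set G)) = Y :=
  Cfsg.Agent.Helper1.coprime_commutator_sup_centralizer K Y h.norm h.coprime h.solv

theorem Act.comm_le (h : Act Y K) : ⁅Y, K⁆ ≤ Y :=
  Subgroup.le_normalizer_iff_commutator_le_left.1 h.norm

theorem Act.sub (h : Act Y K) {H : Subgroup G} (hHY : H ≤ Y)
    (hKH : K ≤ Subgroup.normalizer (H : Set G)) : Act H K :=
  ⟨h.two.to_le hHY, h.odd, hKH⟩

/-- if `K` centralizes `N` and `Y / N` then it centralizes `Y` -/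
theorem Act.le_cent_of (h : Act Y K) {N : Subgroup G} (h1 : ⁅Y, K⁆ ≤ N)
    (h2 : N ≤ Subgroup.centralizer (K : Set G)) : Y ≤ Subgroup.centralizer (K : Set G) := by
  rw [← Subgroup.commutator_eq_bot_iff_le_centralizer, ← h.comm_comm, eq_bot_iff]
  calc ⁅⁅Y, K⁆, K⁆ ≤ ⁅N, K⁆ := Subgroup.commutator_mono h1 le_rfl
    _ = ⊥ := Subgroup.commutator_eq_bot_iff_le_centralizer.2 h2

/-- `K` acts trivially on a quotient of order 2 -/
theorem comm_le_of_relIndex_two {N : Subgroup G} (hNY : N ≤ Y)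
    (hKY : K ≤ Subgroup.normalizer (Y : Set G)) (hKN : K ≤ Subgroup.normalizer (N : Set G))
    (h2 : N.relIndex Y = 2) : ⁅Y, K⁆ ≤ N := by
  rw [Subgroup.commutator_le]
  intro y hy k hk
  have hy' : k * y⁻¹ * k⁻¹ ∈ Y := (Subgroup.mem_normalizer_iff.1 (hKY hk) _).1 (Y.inv_mem hy)
  have hiff : y ∈ N ↔ k * y⁻¹ * k⁻¹ ∈ N := by
    rw [← (Subgroup.mem_normalizer_iff.1 (hKN hk) y⁻¹), Subgroup.inv_mem_iff]
  have hidx : (N.subgroupOf Y).index = 2 := h2
  have := Subgroup.mul_mem_iff_of_index_two hidx (a := (⟨y, hy⟩ : Y)) (b := ⟨k * y⁻¹ * k⁻¹, hy'⟩)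
  rw [Subgroup.mem_subgroupOf, Subgroup.mem_subgroupOf, Subgroup.mem_subgroupOf] at this
  have e : ⁅y, k⁆ = y * (k * y⁻¹ * k⁻¹) := by
    rw [commutatorElement_def]; group
  rw [e]
  exact this.2 hiff

/-- a `K`-invariant subgroup of order 2 is centralized -/
theorem le_cent_of_card_two {H : Subgroup G} (hH : Nat.card ↥H = 2)
    (hKH : K ≤ Subgroup.normalizer (H : Set G)) : H ≤ Subgroup.centralizer (K : Set G) := by
  intro h hh
  rw [Subgroup.mem_centralizer_iff]
  intro k hk
  by_cases h1 : h = 1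
  · rw [h1]; simp
  have hc : k * h * k⁻¹ ∈ H := (Subgroup.mem_normalizer_iff.1 (hKH hk) h).1 hh
  have hc1 : k * h * k⁻¹ ≠ 1 := by
    intro h0
    apply h1
    have : h = k⁻¹ * (k * h * k⁻¹) * k := by group
    rw [this, h0]; group
  have hne : ∀ a b : ↥H, a ≠ 1 → b ≠ 1 → a = b := by
    intro a b ha hb
    obtain ⟨y, -, hy⟩ := (Nat.card_eq_two_iff' (1 : ↥H)).1 hH
    rw [hy a ha, hy b hb]
  have := hne ⟨k * h * k⁻¹, hc⟩ ⟨h, hh⟩ (fun h0 => hc1 (congrArg Subtype.val h0))
    (fun h0 => h1 (congrArg Subtype.val h0))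
  have h4 : k * h * k⁻¹ = h := congrArg Subtype.val this
  calc k * h = k * h * k⁻¹ * k := by group
    _ = h * k := by rw [h4]

theorem card_cases_of_dvd_four {n : ℕ} (h : n ∣ 4) : n = 1 ∨ n = 2 ∨ n = 4 := by
  have h4 : (4 : ℕ) = 2 ^ 2 := by norm_num
  rw [h4, Nat.dvd_prime_pow Nat.prime_two] at h
  obtain ⟨k, hk, rfl⟩ := h
  interval_cases k <;> simp

theorem card_cases_of_dvd_eight {n : ℕ} (h : n ∣ 8) : n = 1 ∨ n = 2 ∨ n = 4 ∨ n = 8 := by
  have h8 : (8 : ℕ) = 2 ^ 3 := by norm_num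
  rw [h8, Nat.dvd_prime_pow Nat.prime_two] at h
  obtain ⟨k, hk, rfl⟩ := h
  interval_cases k <;> simp

/-- (B1) a non-centralized invariant subgroup of order 4 is irreducible -/
theorem Act.irred_four (h : Act Y K) (hY4 : Nat.card ↥Y = 4)
    (hnc : ¬ Y ≤ Subgroup.centralizer (K : Set G)) {H : Subgroup G} (hHY : H ≤ Y)
    (hKH : K ≤ Subgroup.normalizer (H : Set G)) : H = ⊥ ∨ H = Y := by
  have hdvd : Nat.card ↥H ∣ 4 := hY4 ▸ Subgroup.card_dvd_of_le hHY
  rcases card_cases_of_dvd_four hdvd with h1 | h2 | h4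
  · left; exact Subgroup.eq_bot_of_card_eq H h1
  · exfalso
    apply hnc
    have hri : H.relIndex Y = 2 := by
      have := Cfsg.Agent.Helper1.relIndex_mul_card_of_le hHY
      rw [h2, hY4] at this
      omega
    exact h.le_cent_of (comm_le_of_relIndex_two hHY h.norm hKH hri) (le_cent_of_card_two h2 hKH)
  · right
    exact Subgroup.eq_of_le_of_card_ge hHY (by rw [hY4, h4])

/-- (B1') a non-centralized invariant subgroup of order 4 has exponent 2 -/
theorem Act.exp_two_of_four (h : Act Y K) (hY4 : Nat.card ↥Y = 4)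
    (hnc : ¬ Y ≤ Subgroup.centralizer (K : Set G)) : ∀ v ∈ Y, v * v = 1 := by
  have hcomm := comm_of_card_four Y hY4
  set S : Set G := {v | v ∈ Y ∧ v * v = 1} with hS
  have hSY : Subgroup.closure S ≤ Y := by
    rw [Subgroup.closure_le]; intro v hv; exact hv.1
  have hKS : K ≤ Subgroup.normalizer ((Subgroup.closure S : Subgroup G) : Set G) := by
    apply le_normalizer_closure
    intro k hk s hs
    refine ⟨(Subgroup.mem_normalizer_iff.1 (h.norm hk) s).1 hs.1, ?_⟩
    have : k * s * k⁻¹ * (k * s * k⁻¹) = k * (s * s) * k⁻¹ := by group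
    rw [this, hs.2]; group
  have hne : Subgroup.closure S ≠ ⊥ := by
    have hdvd : 2 ∣ Nat.card ↥Y := by rw [hY4]; norm_num
    obtain ⟨x, hx⟩ := exists_prime_orderOf_dvd_card' (G := ↥Y) 2 hdvd
    intro hbot
    have hx2 : x * x = 1 := by rw [← pow_two, ← hx, pow_orderOf_eq_one]
    have hmem : (x : G) ∈ Subgroup.closure S :=
      Subgroup.subset_closure ⟨x.2, by exact_mod_cast congrArg Subtype.val hx2⟩
    rw [hbot, Subgroup.mem_bot] at hmem
    have : x = 1 := Subtype.ext hmem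
    rw [this, orderOf_one] at hx
    omega
  have hall : ∀ x ∈ Subgroup.closure S, x ∈ Y ∧ x * x = 1 := by
    intro x hx
    induction hx using Subgroup.closure_induction with
    | mem s hs => exact hs
    | one => exact ⟨Y.one_mem, by simp⟩
    | mul a b _ _ iha ihb =>
      refine ⟨Y.mul_mem iha.1 ihb.1, ?_⟩
      have hc := hcomm a iha.1 b ihb.1
      calc a * b * (a * b) = a * (b * a) * b := by group
        _ = a * (a * b) * b := by rw [hc]
        _ = (a * a) * (b * b) := by group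
        _ = 1 := by rw [iha.2, ihb.2, one_mul]
    | inv a _ iha =>
      refine ⟨Y.inv_mem iha.1, ?_⟩
      have : a⁻¹ * a⁻¹ = (a * a)⁻¹ := by group
      rw [this, iha.2, inv_one]
  rcases h.irred_four hY4 hnc hSY hKS with h0 | h1
  · exact absurd h0 hne
  · intro v hv
    rw [← h1] at hv
    exact (hall v hv).2

/-- the centre of a non-abelian group of order 8 has order 2 -/
theorem card_center_of_card_eight (hY : IsPGroup 2 ↥Y) (hY8 : Nat.card ↥Y = 8)
    (hna : ¬ ∀ a ∈ Y, ∀ b ∈ Y, a * b = b * a) :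
    Nat.card ↥(Y ⊓ Subgroup.centralizer (Y : Set G)) = 2 := by
  have : Fact (Nat.Prime 2) := ⟨Nat.prime_two⟩
  set Z := Y ⊓ Subgroup.centralizer (Y : Set G) with hZ
  have hZY : Z ≤ Y := inf_le_left
  have hZc : ∀ z ∈ Z, ∀ y ∈ Y, y * z = z * y := fun z hz y hy =>
    Subgroup.mem_centralizer_iff.1 hz.2 y hy
  have hYne : (⊤ : Subgroup ↥Y) ≠ ⊥ := by
    intro h
    have h1 : Nat.card (⊤ : Subgroup ↥Y) = 1 := by rw [h]; exact Subgroup.card_bot
    rw [Subgroup.card_top, hY8] at h1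
    omega
  obtain ⟨x, -, hx1, hxc⟩ := Cfsg.Agent.Helper5.exists_ne_one_mem_center_of_normal hY ⊤ hYne
  have hxZ : (x : G) ∈ Z := by
    rw [hZ, Subgroup.mem_inf]
    refine ⟨x.2, ?_⟩
    rw [Subgroup.mem_centralizer_iff]
    intro y hy
    exact congrArg Subtype.val (hxc ⟨y, hy⟩)
  have hdvd : Nat.card ↥Z ∣ 8 := hY8 ▸ Subgroup.card_dvd_of_le hZY
  rcases card_cases_of_dvd_eight hdvd with h1 | h2 | h4 | h8
  · exfalso
    have := Subgroup.eq_bot_of_card_eq Z h1
    rw [this, Subgroup.mem_bot] at hxZ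
    exact hx1 (Subtype.ext hxZ)
  · exact h2
  · exfalso
    have hlt : Z < Y := by
      refine lt_of_le_of_ne hZY ?_
      intro h
      rw [h, hY8] at h4
      omega
    obtain ⟨y, hyY, hyZ⟩ := SetLike.exists_of_lt hlt
    have hyn : y ∈ Subgroup.normalizer (Z : Set G) := by
      rw [Subgroup.mem_normalizer_iff]
      intro z
      constructor
      · intro hz
        rw [hZc z hz y hyY, mul_inv_cancel_right]; exact hz
      · intro hz
        have h1 := hZc _ hz y hyY
        have h2 : y * z * y⁻¹ = z := by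
          calc y * z * y⁻¹ = y⁻¹ * (y * (y * z * y⁻¹)) := by group
            _ = y⁻¹ * ((y * z * y⁻¹) * y) := by rw [h1]
            _ = z := by group
        rw [← h2]; exact hz
    set M := Z ⊔ Subgroup.zpowers y with hM
    have hMY : M ≤ Y := sup_le hZY (by rw [Subgroup.zpowers_le]; exact hyY)
    have hZM : Z < M := by
      refine lt_of_le_of_ne le_sup_left ?_
      intro h
      apply hyZ
      rw [h]
      exact Subgroup.mem_sup_right (Subgroup.mem_zpowers y)
    have hMcard : Nat.card ↥M = 8 := by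
      have h1 := Cfsg.Agent.Helper1.card_lt_card_of_lt hZM
      have h2 : Nat.card ↥M ∣ 8 := hY8 ▸ Subgroup.card_dvd_of_le hMY
      rcases card_cases_of_dvd_eight h2 with h | h | h | h <;> omega
    have hMeq : M = Y := Subgroup.eq_of_le_of_card_ge hMY (by rw [hY8, hMcard])
    apply hna
    intro a ha b hb
    rw [← hMeq] at ha hb
    obtain ⟨z, hz, k, rfl⟩ := mem_sup_zpowers Z hyn ha
    obtain ⟨z', hz', k', rfl⟩ := mem_sup_zpowers Z hyn hb
    have hyk : ∀ k : ℤ, y ^ k ∈ Y := fun k => Y.zpow_mem hyY k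
    have c1 : Commute z z' := (hZc z' hz' z (hZY hz))
    have c2 : Commute z (y ^ k') := (hZc z hz _ (hyk k')).symm
    have c3 : Commute (y ^ k) z' := hZc z' hz' _ (hyk k)
    have c4 : Commute (y ^ k) (y ^ k') := (Commute.refl y).zpow_zpow k k'
    exact (c1.mul_right c2).mul_left (c3.mul_right c4)
  · exfalso
    have hZeq : Z = Y := Subgroup.eq_of_le_of_card_ge hZY (by rw [hY8, h8])
    apply hna
    intro a ha b hb
    rw [← hZeq] at hb
    exact (hZc b hb a ha)

/-- no `K`-invariant subgroup of order 4 in a non-centralized non-abelian group of order 8 -/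
theorem Act.no_inv_four (h : Act Y K) (hY8 : Nat.card ↥Y = 8)
    (hna : ¬ ∀ a ∈ Y, ∀ b ∈ Y, a * b = b * a)
    (hnc : ¬ Y ≤ Subgroup.centralizer (K : Set G)) {H : Subgroup G} (hHY : H ≤ Y)
    (hKH : K ≤ Subgroup.normalizer (H : Set G)) (hH4 : Nat.card ↥H = 4) : False := by
  have : Fact (Nat.Prime 2) := ⟨Nat.prime_two⟩
  have hri : H.relIndex Y = 2 := by
    have := Cfsg.Agent.Helper1.relIndex_mul_card_of_le hHY
    rw [hH4, hY8] at this
    omega
  have hcomm : ⁅Y, K⁆ ≤ H := comm_le_of_relIndex_two hHY h.norm hKH hri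
  have hHnc : ¬ H ≤ Subgroup.centralizer (K : Set G) := fun hc => hnc (h.le_cent_of hcomm hc)
  have hAct : Act H K := h.sub hHY hKH
  set Z := Y ⊓ Subgroup.centralizer (Y : Set G) with hZ
  have hKZ : K ≤ Subgroup.normalizer (Z : Set G) :=
    le_normalizer_inf' h.norm (le_normalizer_centralizer h.norm)
  have hZ2 : Nat.card ↥Z = 2 := card_center_of_card_eight h.two hY8 hna
  have hn : (H.subgroupOf Y).Normal := Subgroup.normal_of_index_eq_two hri
  have hne : H.subgroupOf Y ≠ ⊥ := by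
    intro hbot
    have hH1 : H ≠ ⊥ := by
      intro h0
      rw [h0, Subgroup.card_bot] at hH4
      omega
    obtain ⟨a, ha⟩ := (Subgroup.ne_bot_iff_exists_ne_one).1 hH1
    have hmem : (⟨a.1, hHY a.2⟩ : ↥Y) ∈ H.subgroupOf Y := by
      rw [Subgroup.mem_subgroupOf]; exact a.2
    rw [hbot, Subgroup.mem_bot] at hmem
    apply ha
    apply Subtype.ext
    have := congrArg Subtype.val hmem
    exact this
  obtain ⟨x, hxH, hx1, hxc⟩ :=
    Cfsg.Agent.Helper5.exists_ne_one_mem_center_of_normal h.two (H.subgroupOf Y) hne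
  have hxHZ : (x : G) ∈ H ⊓ Z := by
    rw [Subgroup.mem_inf]
    refine ⟨Subgroup.mem_subgroupOf.1 hxH, ?_⟩
    rw [hZ, Subgroup.mem_inf]
    refine ⟨x.2, ?_⟩
    rw [Subgroup.mem_centralizer_iff]
    intro y hy
    exact congrArg Subtype.val (hxc ⟨y, hy⟩)
  rcases hAct.irred_four hH4 hHnc (inf_le_left : H ⊓ Z ≤ H) (le_normalizer_inf' hKH hKZ)
    with h0 | h1
  · rw [h0, Subgroup.mem_bot] at hxHZ
    exact hx1 (Subtype.ext hxHZ)
  · have hle : H ≤ Z := by rw [← h1]; exact inf_le_right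
    have := Subgroup.card_le_of_le hle
    omega

/-- (B2) structure of a non-centralized non-abelian invariant subgroup of order 8 -/
theorem Act.struct_eight (h : Act Y K) (hY8 : Nat.card ↥Y = 8)
    (hna : ¬ ∀ a ∈ Y, ∀ b ∈ Y, a * b = b * a)
    (hnc : ¬ Y ≤ Subgroup.centralizer (K : Set G)) :
    Nat.card ↥(Y ⊓ Subgroup.centralizer (Y : Set G)) = 2 ∧
      Y ⊓ Subgroup.centralizer (Y : Set G) ≤ Subgroup.centralizer (K : Set G) ∧
      ∀ H : Subgroup G, H ≤ Y → K ≤ Subgroup.normalizer (H : Set G) → H ≠ Y →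
        H ≤ Y ⊓ Subgroup.centralizer (Y : Set G) := by
  set Z := Y ⊓ Subgroup.centralizer (Y : Set G) with hZ
  have hKZ : K ≤ Subgroup.normalizer (Z : Set G) :=
    le_normalizer_inf' h.norm (le_normalizer_centralizer h.norm)
  have hZ2 : Nat.card ↥Z = 2 := card_center_of_card_eight h.two hY8 hna
  have hZY : Z ≤ Y := inf_le_left
  refine ⟨hZ2, le_cent_of_card_two hZ2 hKZ, ?_⟩
  intro H hHY hKH hHne
  have hdvd : Nat.card ↥H ∣ 8 := hY8 ▸ Subgroup.card_dvd_of_le hHY
  rcases card_cases_of_dvd_eight hdvd with h1 | h2 | h4 | h8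
  · rw [Subgroup.eq_bot_of_card_eq H h1]; exact bot_le
  · by_contra hHZ
    have hHc : H ≤ Subgroup.centralizer (K : Set G) := le_cent_of_card_two h2 hKH
    have hHnZ : H ≤ Subgroup.normalizer (Z : Set G) := by
      intro y hy
      have hyY := hHY hy
      rw [Subgroup.mem_normalizer_iff]
      intro z
      have hZc : ∀ z ∈ Z, y * z = z * y := fun z hz =>
        Subgroup.mem_centralizer_iff.1 hz.2 y hyY
      constructor
      · intro hz
        rw [hZc z hz, mul_inv_cancel_right]; exact hz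
      · intro hz
        have h1 := hZc _ hz
        have h2 : y * z * y⁻¹ = z := by
          calc y * z * y⁻¹ = y⁻¹ * (y * (y * z * y⁻¹)) := by group
            _ = y⁻¹ * ((y * z * y⁻¹) * y) := by rw [h1]
            _ = z := by group
        rw [← h2]; exact hz
    have hinf : Z ⊓ H = ⊥ := by
      have hd : Nat.card ↥(Z ⊓ H) ∣ 2 := h2 ▸ Subgroup.card_dvd_of_le (inf_le_right : Z ⊓ H ≤ H)
      rcases (Nat.dvd_prime Nat.prime_two).1 hd with h | h
      · exact Subgroup.eq_bot_of_card_eq _ h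
      · exfalso
        apply hHZ
        have : Z ⊓ H = H := Subgroup.eq_of_le_of_card_ge inf_le_right (by rw [h2, h])
        rw [← this]; exact inf_le_left
    have hcard := Cfsg.Agent.Helper1.card_sup_mul_card_inf (N := Z) (A := H) hHnZ
    rw [hinf, Subgroup.card_bot, mul_one, hZ2, h2] at hcard
    exact h.no_inv_four hY8 hna hnc (sup_le hZY hHY) (le_normalizer_sup' hKZ hKH) hcard
  · exact absurd (h.no_inv_four hY8 hna hnc hHY hKH h4) id
  · exact absurd (Subgroup.eq_of_le_of_card_ge hHY (by rw [hY8, h8])) hHne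

/-- three subgroups: a group `T` commuting with `K` and acting on `Y = [Y, K]` with
`[Y, T]` centralized by `K` centralizes `Y` -/
theorem cent_of_three_subgroups {T : Subgroup G} (hYK : ⁅Y, K⁆ = Y)
    (hTK : T ≤ Subgroup.centralizer (K : Set G))
    (hYT : ⁅Y, T⁆ ≤ Subgroup.centralizer (K : Set G)) : Y ≤ Subgroup.centralizer (T : Set G) := by
  rw [← Subgroup.commutator_eq_bot_iff_le_centralizer]
  have h1 : ⁅⁅Y, T⁆, K⁆ = ⊥ := Subgroup.commutator_eq_bot_iff_le_centralizer.2 hYT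
  have h2 : ⁅⁅T, K⁆, Y⁆ = ⊥ := by
    rw [Subgroup.commutator_eq_bot_iff_le_centralizer.2 hTK]
    exact Subgroup.commutator_bot_left Y
  have h3 := Subgroup.commutator_commutator_eq_bot_of_rotate h1 h2
  rwa [Subgroup.commutator_comm K Y, hYK] at h3

end finite

end Cfsg.Agent.Lead.NA8
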