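import Mathlib
import Cfsg.Prelude.Def_Transfer
import Cfsg.Agent.Helper5.PGroupCenter
import Cfsg.Agent.Helper5.FrattiniLe
import Cfsg.Agent.Helper1.PGroup

set_option autoImplicit false

namespace Cfsg.Agent.Lead

open scoped commutatorElement

universe u

variable {G : Type u} [Group G]

/-- (1) a characteristic abelian subgroup fixed pointwise by `A` is central when `G = [G, A]`. -/
theorem char_abelian_le_center (A : Subgroup (MulAut G))
    (hGA : Subgroup.closure {x : G | ∃ g : G, ∃ a ∈ A, x = g⁻¹ * a g} = ⊤)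
    (H : Subgroup G) (hHc : H.Characteristic) (hfix : ∀ a ∈ A, ∀ h ∈ H, a h = h)
    (hab : ∀ x ∈ H, ∀ y ∈ H, x * y = y * x) : H ≤ Subgroup.center G := by
  have hHn : H.Normal := inferInstance
  have h1 : Subgroup.closure {x : G | ∃ g : G, ∃ a ∈ A, x = g⁻¹ * a g}
      ≤ Subgroup.centralizer (H : Set G) := by
    rw [Subgroup.closure_le]
    rintro x ⟨g, a, ha, rfl⟩
    rw [SetLike.mem_coe, Subgroup.mem_centralizer_iff]
    intro h hh
    have h2 : a (g * h * g⁻¹) = g * h * g⁻¹ := hfix a ha _ (hHn.conj_mem h hh g)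
    rw [map_mul, map_mul, hfix a ha h hh, map_inv] at h2
    -- a g * h * (a g)⁻¹ = g * h * g⁻¹
    calc h * (g⁻¹ * a g) = g⁻¹ * (g * h * g⁻¹) * a g := by group
      _ = g⁻¹ * (a g * h * (a g)⁻¹) * a g := by rw [h2]
      _ = g⁻¹ * a g * h := by group
  rw [hGA] at h1
  intro h hh
  rw [Subgroup.mem_center_iff]
  intro g
  exact (Subgroup.mem_centralizer_iff.mp (h1 (Subgroup.mem_top g)) h hh).symm

/-- (3) fixed points of a coprime `A` lie in the derived subgroup when `G = [G, A]`. -/
theorem fixed_mem_commutator [Finite G] {p : ℕ} [hp : Fact p.Prime] (hG : IsPGroup p G)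
    (A : Subgroup (MulAut G)) (hA : Nat.Coprime (Nat.card A) p)
    (hGA : Subgroup.closure {x : G | ∃ g : G, ∃ a ∈ A, x = g⁻¹ * a g} = ⊤)
    (x : G) (hx : ∀ a ∈ A, a x = x) : x ∈ commutator G := by
  classical
  have : Fintype A := Fintype.ofFinite A
  obtain ⟨N, hN⟩ : ∃ N : Abelianization G →* Abelianization G,
      N = ∏ a : A, (MulEquiv.abelianizationCongr (a : MulAut G)).toMonoidHom := ⟨_, rfl⟩
  have hNof : ∀ g : G, N (Abelianization.of g) = ∏ a : A, Abelianization.of ((a : MulAut G) g) := by
    intro g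
    rw [hN, MonoidHom.finsetProd_apply]
    refine Finset.prod_congr rfl fun a _ => ?_
    exact abelianizationCongr_of _ g
  have hNa : ∀ (g : G) (a : A), N (Abelianization.of ((a : MulAut G) g)) = N (Abelianization.of g) := by
    intro g a
    rw [hNof, hNof]
    refine Fintype.prod_equiv (Equiv.mulRight a) _ _ (fun b => ?_)
    rfl
  have hN1 : N.comp Abelianization.of = 1 := by
    apply MonoidHom.eq_of_eqOn_dense hGA
    rintro y ⟨g, a, ha, rfl⟩
    change N (Abelianization.of (g⁻¹ * a g)) = 1
    rw [map_mul, map_mul, map_inv, map_inv, hNa g ⟨a, ha⟩, inv_mul_cancel]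
  have h1 : N (Abelianization.of x) = 1 := by
    have := DFunLike.congr_fun hN1 x
    exact this
  have h2 : N (Abelianization.of x) = (Abelianization.of x) ^ Nat.card A := by
    rw [hNof]
    have : ∀ a : A, Abelianization.of ((a : MulAut G) x) = Abelianization.of x := by
      intro a; rw [hx a a.2]
    simp only [this, Finset.prod_const, Finset.card_univ, Nat.card_eq_fintype_card]
  rw [h2] at h1
  have h3 : orderOf (Abelianization.of x) ∣ Nat.card A := orderOf_dvd_of_pow_eq_one h1
  have h4 : orderOf (Abelianization.of x) ∣ orderOf x := orderOf_map_dvd _ x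
  obtain ⟨k, hk⟩ := (IsPGroup.iff_orderOf.mp hG) x
  rw [hk] at h4
  have h5 : (orderOf (Abelianization.of x)).Coprime (orderOf (Abelianization.of x)) :=
    Nat.Coprime.coprime_dvd_left h3 (Nat.Coprime.coprime_dvd_right h4 (Nat.Coprime.pow_right k hA))
  rw [Nat.coprime_self, orderOf_eq_one_iff] at h5
  rw [← Abelianization.ker_of]
  exact h5


/-- (4) if every characteristic abelian subgroup of a `p`-group is central, the class is `≤ 2`. -/
theorem commutator_le_center_of_char_abelian_central [Finite G] {p : ℕ} [hp : Fact p.Prime]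
    (hG : IsPGroup p G)
    (hcen : ∀ H : Subgroup G, H.Characteristic → (∀ x ∈ H, ∀ y ∈ H, x * y = y * x) →
      H ≤ Subgroup.center G) : commutator G ≤ Subgroup.center G := by
  have hu2 : ∀ x : G, x ∈ Subgroup.upperCentralSeriesStep (Subgroup.center G) ↔
      ∀ y : G, ⁅x, y⁆ ∈ Subgroup.center G := fun x => Iff.rfl
  -- [G', Z₂] = 1
  have h3 : ⁅⁅(⊤ : Subgroup G), (⊤ : Subgroup G)⁆, Subgroup.upperCentralSeriesStep (Subgroup.center G)⁆ = ⊥ := by
    have hZ : ⁅Subgroup.upperCentralSeriesStep (Subgroup.center G), (⊤ : Subgroup G)⁆ ≤ Subgroup.center G := by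
      rw [Subgroup.commutator_le]
      intro x hx y _
      exact (hu2 x).mp hx y
    have hZ' : ⁅Subgroup.center G, (⊤ : Subgroup G)⁆ = ⊥ := by
      rw [eq_bot_iff, Subgroup.commutator_le]
      intro z hz y _
      rw [Subgroup.mem_bot, commutatorElement_eq_one_iff_mul_comm]
      exact (Subgroup.mem_center_iff.mp hz y).symm
    apply Subgroup.commutator_commutator_eq_bot_of_rotate
    · rw [Subgroup.commutator_comm (⊤ : Subgroup G) (Subgroup.upperCentralSeriesStep (Subgroup.center G))]
      exact eq_bot_iff.mpr ((Subgroup.commutator_mono hZ le_rfl).trans hZ'.le)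
    · exact eq_bot_iff.mpr ((Subgroup.commutator_mono hZ le_rfl).trans hZ'.le)
  have hT : commutator G ⊓ Subgroup.upperCentralSeriesStep (Subgroup.center G) ≤ Subgroup.center G := by
    apply hcen
    · infer_instance
    · rintro x ⟨hx1, -⟩ y ⟨-, hy2⟩
      have h4 : ⁅x, y⁆ ∈ ⁅⁅(⊤ : Subgroup G), (⊤ : Subgroup G)⁆, Subgroup.upperCentralSeriesStep (Subgroup.center G)⁆ :=
        Subgroup.commutator_mem_commutator (by rw [← commutator_def]; exact hx1) hy2
      rw [h3, Subgroup.mem_bot, commutatorElement_eq_one_iff_mul_comm] at h4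
      exact h4
  by_contra hcon
  have hQ : (commutator G).map (QuotientGroup.mk' (Subgroup.center G)) ≠ ⊥ := by
    intro h
    apply hcon
    rw [Subgroup.map_eq_bot_iff, QuotientGroup.ker_mk'] at h
    exact h
  haveI : ((commutator G).map (QuotientGroup.mk' (Subgroup.center G))).Normal :=
    Subgroup.Normal.map inferInstance _ (QuotientGroup.mk'_surjective _)
  obtain ⟨xb, hxb, hxb1, hxbc⟩ := Cfsg.Agent.Helper5.exists_ne_one_mem_center_of_normal
    (hG.to_quotient (Subgroup.center G)) _ hQ
  obtain ⟨x, hx, rfl⟩ := hxb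
  apply hxb1
  rw [QuotientGroup.mk'_apply, QuotientGroup.eq_one_iff]
  apply hT
  refine Subgroup.mem_inf.mpr ⟨hx, ?_⟩
  rw [hu2]
  intro y
  rw [← QuotientGroup.eq_one_iff, ← QuotientGroup.mk'_apply, map_commutatorElement,
    commutatorElement_eq_one_iff_mul_comm]
  exact (hxbc _).symm


theorem commutatorElement_pow_left_of_central (hc : ∀ a b : G, ⁅a, b⁆ ∈ Subgroup.center G)
    (x y : G) (n : ℕ) : ⁅x ^ n, y⁆ = ⁅x, y⁆ ^ n := by
  induction n with
  | zero => simp
  | succ n ih =>
    rw [pow_succ, commutatorElement_mul_left_eq_conj_mul, ih, pow_succ]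
    have hz := Subgroup.mem_center_iff.mp (hc x y)
    rw [hz (x ^ n), mul_inv_cancel_right]
    exact (pow_mul_comm' ⁅x, y⁆ n).symm

theorem commutatorElement_pow_right_of_central (hc : ∀ a b : G, ⁅a, b⁆ ∈ Subgroup.center G)
    (x y : G) (n : ℕ) : ⁅x, y ^ n⁆ = ⁅x, y⁆ ^ n := by
  rw [← commutatorElement_inv, commutatorElement_pow_left_of_central hc, ← inv_pow,
    commutatorElement_inv]

/-- (5) in a class-2 `p`-group in which characteristic abelian subgroups are central,
`p`-th powers are central. -/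
theorem pow_mem_center_of_char_abelian_central [Finite G] {p : ℕ} [hp : Fact p.Prime]
    (hG : IsPGroup p G) (hcls : commutator G ≤ Subgroup.center G)
    (hcen : ∀ H : Subgroup G, H.Characteristic → (∀ x ∈ H, ∀ y ∈ H, x * y = y * x) →
      H ≤ Subgroup.center G) : ∀ x : G, x ^ p ∈ Subgroup.center G := by
  have hc : ∀ a b : G, ⁅a, b⁆ ∈ Subgroup.center G := by
    intro a b
    apply hcls
    rw [commutator_def]
    exact Subgroup.commutator_mem_commutator (Subgroup.mem_top a) (Subgroup.mem_top b)
  have hstep : ∀ e : ℕ, (∀ x : G, x ^ (p ^ (e + 2)) ∈ Subgroup.center G) →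
      ∀ x : G, x ^ (p ^ (e + 1)) ∈ Subgroup.center G := by
    intro e hP x
    obtain ⟨S, hS⟩ : ∃ S : Set G, S = {z : G | ∃ x : G, z = x ^ (p ^ (e + 1))} := ⟨_, rfl⟩
    have hKc : (Subgroup.closure S).Characteristic := by
      rw [Subgroup.characteristic_iff_map_le]
      intro φ
      rw [MonoidHom.map_closure]
      apply Subgroup.closure_mono
      rintro _ ⟨z, hz, rfl⟩
      rw [hS] at hz ⊢
      obtain ⟨x, rfl⟩ := hz
      exact ⟨φ x, by simp⟩
    have hSS : S ⊆ Subgroup.centralizer S := by
      intro a ha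
      rw [SetLike.mem_coe, Subgroup.mem_centralizer_iff]
      intro b hb
      rw [hS] at ha hb
      obtain ⟨x, rfl⟩ := ha
      obtain ⟨y, rfl⟩ := hb
      rw [← commutatorElement_eq_one_iff_mul_comm, commutatorElement_pow_left_of_central hc,
        commutatorElement_pow_right_of_central hc, ← pow_mul]
      have h1 : p ^ (e + 1) * p ^ (e + 1) = p ^ (e + 2) * p ^ e := by ring
      rw [h1, pow_mul, ← commutatorElement_pow_left_of_central hc]
      have h2 : ⁅y ^ p ^ (e + 2), x⁆ = 1 := by
        rw [commutatorElement_eq_one_iff_mul_comm]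
        exact (Subgroup.mem_center_iff.mp (hP y) x).symm
      rw [h2, one_pow]
    have hKab : ∀ a ∈ Subgroup.closure S, ∀ b ∈ Subgroup.closure S, a * b = b * a := by
      intro a ha b hb
      have h1 : Subgroup.closure S ≤ Subgroup.centralizer (Subgroup.closure S : Set G) := by
        rw [Subgroup.centralizer_closure, Subgroup.closure_le]
        exact hSS
      exact (Subgroup.mem_centralizer_iff.mp (h1 hb) a ha)
    apply hcen _ hKc hKab
    apply Subgroup.subset_closure
    rw [hS]
    exact ⟨x, rfl⟩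
  have hup : ∀ e : ℕ, (∀ x : G, x ^ (p ^ e) ∈ Subgroup.center G) →
      ∀ x : G, x ^ (p ^ (e + 1)) ∈ Subgroup.center G := by
    intro e hP x
    rw [pow_succ, pow_mul]
    exact Subgroup.pow_mem _ (hP x) p
  have hdown : ∀ d : ℕ, (∀ x : G, x ^ (p ^ (d + 1)) ∈ Subgroup.center G) →
      ∀ x : G, x ^ (p ^ 1) ∈ Subgroup.center G := by
    intro d
    induction d with
    | zero => exact fun h => h
    | succ d ih => exact fun h => ih (hstep d h)
  obtain ⟨n, hn⟩ := IsPGroup.iff_card.mp hG
  have hPn : ∀ x : G, x ^ (p ^ n) ∈ Subgroup.center G := by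
    intro x
    rw [← hn, pow_card_eq_one']
    exact Subgroup.one_mem _
  intro x
  have := hdown n (hup n hPn) x
  rwa [pow_one] at this


theorem special_of_coprime_char_abelian [Finite G] {p : ℕ} [hp : Fact p.Prime] (hG : IsPGroup p G)
    (A : Subgroup (MulAut G)) (hA : Nat.Coprime (Nat.card A) p)
    (hGA : Subgroup.closure {x : G | ∃ g : G, ∃ a ∈ A, x = g⁻¹ * a g} = ⊤)
    (hchar : ∀ H : Subgroup G, H.Characteristic → IsMulCommutative H →
      ∀ a ∈ A, ∀ h ∈ H, a h = h) :
    Cfsg.IsSpecial p G ∧ (∀ g : G, (g ∈ Subgroup.center G ↔ ∀ a ∈ A, a g = g)) := by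
  have hcen : ∀ H : Subgroup G, H.Characteristic → (∀ x ∈ H, ∀ y ∈ H, x * y = y * x) →
      H ≤ Subgroup.center G := by
    intro H hHc hab
    have hHcomm : IsMulCommutative H := ⟨⟨fun a b => Subtype.ext (hab a a.2 b b.2)⟩⟩
    exact char_abelian_le_center A hGA H hHc (hchar H hHc hHcomm) hab
  have hcls := commutator_le_center_of_char_abelian_central hG hcen
  have hZfix : ∀ a ∈ A, ∀ z ∈ Subgroup.center G, a z = z :=
    hchar (Subgroup.center G) inferInstance inferInstance
  have hfix : ∀ x : G, (∀ a ∈ A, a x = x) → x ∈ commutator G :=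
    fun x hx => fixed_mem_commutator hG A hA hGA x hx
  have hZeq : commutator G = Subgroup.center G :=
    le_antisymm hcls (fun z hz => hfix z (fun a ha => hZfix a ha z hz))
  refine ⟨⟨hG, ?_, hZeq⟩, ?_⟩
  · apply le_antisymm
    · apply Cfsg.Agent.Helper5.frattini_le_of_forall (p := p)
      · exact pow_mem_center_of_char_abelian_central hG hcls hcen
      · intro x y
        apply hcls
        rw [commutator_def]
        exact Subgroup.commutator_mem_commutator (Subgroup.mem_top x) (Subgroup.mem_top y)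
    · rw [← hZeq]
      exact Cfsg.Agent.Helper1.IsPGroup.commutator_le_frattini hG
  · intro g
    constructor
    · intro hg a ha
      exact hZfix a ha g hg
    · intro hg
      rw [← hZeq]
      exact hfix g hg

end Cfsg.Agent.Lead
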