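import Mathlib
import Cfsg.Prelude.Def_Transfer
import Cfsg.Agent.Lead.SpecialCoprime
import Cfsg.Agent.Lead.NA8B
import Cfsg.Agent.Helper1.PGroup

set_option autoImplicit false
set_option linter.unusedSectionVars false
set_option linter.unusedVariables false

/-!
S4409: from the internal coprime action to `MulAut`, and the "abelian or special" theorem.
-/

namespace Cfsg.Agent.Lead.NA8

open scoped commutatorElement

variable {G : Type*} [Group G]

theorem le_normalizer_of_conj_mem {K H : Subgroup G}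
    (h : ∀ k ∈ K, ∀ x ∈ H, k * x * k⁻¹ ∈ H) : K ≤ Subgroup.normalizer (H : Set G) := by
  intro k hk
  rw [Subgroup.mem_normalizer_iff]
  intro x
  constructor
  · exact h k hk x
  · intro hx
    have := h k⁻¹ (K.inv_mem hk) _ hx
    have e : k⁻¹ * (k * x * k⁻¹) * k⁻¹⁻¹ = x := by group
    rwa [e] at this

/-- conjugation by an element of the normalizer, as an automorphism of the subgroup -/
def conjAut (X : Subgroup G) : ↥(Subgroup.normalizer (X : Set G)) →* MulAut ↥X where
  toFun n :=
    { toFun := fun x => ⟨(n : G) * x * (n : G)⁻¹, (Subgroup.mem_normalizer_iff.1 n.2 x).1 x.2⟩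
      invFun := fun x => ⟨(n : G)⁻¹ * x * (n : G), by
        have := (Subgroup.mem_normalizer_iff.1 (Subgroup.inv_mem _ n.2) x).1 x.2
        simpa using this⟩
      left_inv := fun x => by
        apply Subtype.ext
        simp only
        group
      right_inv := fun x => by
        apply Subtype.ext
        simp only
        group
      map_mul' := fun x y => by
        apply Subtype.ext
        simp only [Subgroup.coe_mul]
        group }
  map_one' := by
    ext x
    simp
  map_mul' := fun a b => by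
    ext x
    simp only [Subgroup.coe_mul, MulEquiv.coe_mk, Equiv.coe_fn_mk, MulAut.mul_apply]
    group

@[simp] theorem conjAut_apply (X : Subgroup G) (n : ↥(Subgroup.normalizer (X : Set G))) (x : ↥X) :
    ((conjAut X n) x : G) = (n : G) * x * (n : G)⁻¹ := rfl

/-- internal form of `special_of_coprime_char_abelian` -/
theorem special_of_internal [Finite G] {p : ℕ} [hp : Fact p.Prime] (X K : Subgroup G)
    (hX : IsPGroup p ↥X) (hKX : K ≤ Subgroup.normalizer (X : Set G))
    (hcop : (Nat.card ↥K).Coprime p) (hXK : ⁅X, K⁆ = X)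
    (hchar : ∀ H : Subgroup G, H ≤ X →
      Subgroup.normalizer (X : Set G) ≤ Subgroup.normalizer (H : Set G) →
      (∀ a ∈ H, ∀ b ∈ H, a * b = b * a) → H ≤ Subgroup.centralizer (K : Set G)) :
    Cfsg.IsSpecial p ↥X := by
  set N := Subgroup.normalizer (X : Set G) with hN
  set A : Subgroup (MulAut ↥X) := (K.subgroupOf N).map (conjAut X) with hA
  have hAcop : Nat.Coprime (Nat.card ↥A) p := by
    have h1 : Nat.card ↥A ∣ Nat.card ↥(K.subgroupOf N) := Subgroup.card_map_dvd _ _
    have h2 : Nat.card ↥(K.subgroupOf N) = Nat.card ↥K :=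
      Nat.card_congr (Subgroup.subgroupOfEquivOfLe hKX).toEquiv
    rw [h2] at h1
    exact Nat.Coprime.coprime_dvd_left h1 hcop
  have hmemA : ∀ k (hk : k ∈ K), conjAut X ⟨k, hKX hk⟩ ∈ A := by
    intro k hk
    exact Subgroup.mem_map.2 ⟨⟨k, hKX hk⟩, Subgroup.mem_subgroupOf.2 hk, rfl⟩
  have hGA : Subgroup.closure {x : ↥X | ∃ g : ↥X, ∃ a ∈ A, x = g⁻¹ * a g} = ⊤ := by
    rw [eq_top_iff]
    intro x _
    have hx : (x : G) ∈ ⁅X, K⁆ := by rw [hXK]; exact x.2
    rw [Subgroup.commutator_def] at hx
    have hsub : {g : G | ∃ g₁ ∈ X, ∃ g₂ ∈ K, ⁅g₁, g₂⁆ = g} ⊆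
        X.subtype '' {x : ↥X | ∃ g : ↥X, ∃ a ∈ A, x = g⁻¹ * a g} := by
      rintro _ ⟨y, hy, k, hk, rfl⟩
      have hmem : ⁅y, k⁆ ∈ X := by
        rw [← hXK]; exact Subgroup.commutator_mem_commutator hy hk
      refine ⟨⟨⁅y, k⁆, hmem⟩, ⟨⟨y⁻¹, X.inv_mem hy⟩, conjAut X ⟨k, hKX hk⟩, hmemA k hk, ?_⟩, rfl⟩
      apply Subtype.ext
      simp only [Subgroup.coe_mul, Subgroup.coe_inv, conjAut_apply, commutatorElement_def]
      group
    have h2 := Subgroup.closure_mono hsub hx
    rw [← MonoidHom.map_closure] at h2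
    obtain ⟨x', hx', hxx'⟩ := Subgroup.mem_map.1 h2
    have : x' = x := Subtype.ext hxx'
    rw [← this]; exact hx'
  have hch : ∀ H : Subgroup ↥X, H.Characteristic → IsMulCommutative H →
      ∀ a ∈ A, ∀ h ∈ H, a h = h := by
    intro H' hH'c hH'a a ha h hh
    obtain ⟨n, hnK, rfl⟩ := Subgroup.mem_map.1 ha
    have hnK' : (n : G) ∈ K := Subgroup.mem_subgroupOf.1 hnK
    set H := H'.map X.subtype with hH
    have hHX : H ≤ X := by
      rintro _ ⟨y, -, rfl⟩; exact y.2
    have hNH : N ≤ Subgroup.normalizer (H : Set G) := by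
      apply le_normalizer_of_conj_mem
      rintro m hm _ ⟨y, hy, rfl⟩
      have h1 : H'.map (conjAut X ⟨m, hm⟩).toMonoidHom = H' :=
        (Subgroup.characteristic_iff_map_eq.1 hH'c) _
      have h2 : (conjAut X ⟨m, hm⟩) y ∈ H' := by
        rw [← h1]; exact Subgroup.mem_map.2 ⟨y, hy, rfl⟩
      exact Subgroup.mem_map.2 ⟨_, h2, rfl⟩
    have hHab : ∀ a ∈ H, ∀ b ∈ H, a * b = b * a := by
      rintro _ ⟨a, ha, rfl⟩ _ ⟨b, hb, rfl⟩
      have := hH'a.is_comm.comm (⟨a, ha⟩ : H') ⟨b, hb⟩
      have h3 : a * b = b * a := congrArg Subtype.val this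
      exact congrArg Subtype.val h3
    have hc := hchar H hHX hNH hHab
    have hhH : (h : G) ∈ H := Subgroup.mem_map.2 ⟨h, hh, rfl⟩
    have h4 := Subgroup.mem_centralizer_iff.1 (hc hhH) _ hnK'
    apply Subtype.ext
    rw [conjAut_apply, h4, mul_inv_cancel_right]
  exact (special_of_coprime_char_abelian hX A hAcop hGA hch).1

theorem normalizer_le_of_char (X : Subgroup G) (H' : Subgroup ↥X) [hc : H'.Characteristic] :
    Subgroup.normalizer (X : Set G) ≤
      Subgroup.normalizer ((H'.map X.subtype : Subgroup G) : Set G) := by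
  apply le_normalizer_of_conj_mem
  rintro m hm _ ⟨y, hy, rfl⟩
  have h1 : H'.map (conjAut X ⟨m, hm⟩).toMonoidHom = H' :=
    (Subgroup.characteristic_iff_map_eq.1 hc) _
  have h2 : (conjAut X ⟨m, hm⟩) y ∈ H' := by
    rw [← h1]; exact Subgroup.mem_map.2 ⟨y, hy, rfl⟩
  exact Subgroup.mem_map.2 ⟨_, h2, rfl⟩

theorem map_subtype_center (X : Subgroup G) :
    (Subgroup.center ↥X).map X.subtype = X ⊓ Subgroup.centralizer (X : Set G) := by
  ext x
  rw [Subgroup.mem_map, Subgroup.mem_inf]
  constructor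
  · rintro ⟨y, hy, rfl⟩
    refine ⟨y.2, ?_⟩
    rw [Subgroup.mem_centralizer_iff]
    intro z hz
    have := (Subgroup.mem_center_iff.1 hy) ⟨z, hz⟩
    exact congrArg Subtype.val this
  · rintro ⟨hxX, hxc⟩
    refine ⟨⟨x, hxX⟩, ?_, rfl⟩
    rw [Subgroup.mem_center_iff]
    intro z
    apply Subtype.ext
    exact Subgroup.mem_centralizer_iff.1 hxc z z.2

theorem exists_mem_center_of_normal [Finite G] {p : ℕ} [Fact p.Prime] {X M : Subgroup G}
    (hX : IsPGroup p ↥X) (hMX : M ≤ X) (hn : X ≤ Subgroup.normalizer (M : Set G)) (hM : M ≠ ⊥) :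
    ∃ x ∈ M, x ≠ 1 ∧ x ∈ X ⊓ Subgroup.centralizer (X : Set G) := by
  have hnorm : (M.subgroupOf X).Normal := (Subgroup.normal_subgroupOf_iff_le_normalizer hMX).2 hn
  have hne : M.subgroupOf X ≠ ⊥ := by
    intro hbot
    obtain ⟨a, ha⟩ := (Subgroup.ne_bot_iff_exists_ne_one).1 hM
    have hmem : (⟨a.1, hMX a.2⟩ : ↥X) ∈ M.subgroupOf X := by
      rw [Subgroup.mem_subgroupOf]; exact a.2
    rw [hbot, Subgroup.mem_bot] at hmem
    apply ha
    apply Subtype.ext
    have := congrArg Subtype.val hmem
    exact this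
  obtain ⟨x, hxM, hx1, hxc⟩ :=
    Cfsg.Agent.Helper5.exists_ne_one_mem_center_of_normal hX (M.subgroupOf X) hne
  refine ⟨x, Subgroup.mem_subgroupOf.1 hxM, fun h => hx1 (Subtype.ext h), ?_⟩
  rw [Subgroup.mem_inf]
  refine ⟨x.2, ?_⟩
  rw [Subgroup.mem_centralizer_iff]
  intro y hy
  exact congrArg Subtype.val (hxc ⟨y, hy⟩)

/-- the trichotomy for a `K`-invariant subgroup -/
def Tri (K H : Subgroup G) : Prop :=
  H ≤ Subgroup.centralizer (K : Set G) ∨ Nat.card ↥H = 4 ∨
    (Nat.card ↥H = 8 ∧ ¬ ∀ a ∈ H, ∀ b ∈ H, a * b = b * a)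

/-- **Abelian or special.**  If `X = [X, K]` and every proper `K`-invariant subgroup satisfies
the trichotomy, then `X` is abelian or special. -/
theorem Act.abelian_or_special [Finite G] {X K : Subgroup G} (h : Act X K) (hXK : ⁅X, K⁆ = X)
    (hyp : ∀ H : Subgroup G, H ≤ X → H ≠ X → K ≤ Subgroup.normalizer (H : Set G) → Tri K H) :
    (∀ a ∈ X, ∀ b ∈ X, a * b = b * a) ∨ Cfsg.IsSpecial 2 ↥X := by
  have hp2 : Fact (Nat.Prime 2) := ⟨Nat.prime_two⟩
  by_cases hall : ∀ H : Subgroup G, H ≤ X →
      Subgroup.normalizer (X : Set G) ≤ Subgroup.normalizer (H : Set G) →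
      (∀ a ∈ H, ∀ b ∈ H, a * b = b * a) → H ≤ Subgroup.centralizer (K : Set G)
  · right
    exact special_of_internal X K h.two h.norm (Nat.coprime_two_right.2 h.odd) hXK hall
  push Not at hall
  obtain ⟨H, hHX, hNH, hHab, hHnc⟩ := hall
  by_cases hab : ∀ a ∈ X, ∀ b ∈ X, a * b = b * a
  · exact Or.inl hab
  right
  have hHne : H ≠ X := by
    rintro rfl; exact hab hHab
  have hKH : K ≤ Subgroup.normalizer (H : Set G) := h.norm.trans hNH
  have hXH : X ≤ Subgroup.normalizer (H : Set G) := Subgroup.le_normalizer.trans hNH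
  have hH4 : Nat.card ↥H = 4 := by
    rcases hyp H hHX hHne hKH with h1 | h1 | h1
    · exact absurd h1 hHnc
    · exact h1
    · exact absurd hHab h1.2
  have hActH : Act H K := h.sub hHX hKH
  have hH1 : H ≠ ⊥ := by
    intro h0; rw [h0, Subgroup.card_bot] at hH4; omega
  -- ambient centre, derived subgroup, Frattini subgroup
  set Zc := X ⊓ Subgroup.centralizer (X : Set G) with hZc
  have hKZ : K ≤ Subgroup.normalizer (Zc : Set G) :=
    le_normalizer_inf' h.norm (le_normalizer_centralizer h.norm)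
  have hZab : ∀ a ∈ Zc, ∀ b ∈ Zc, a * b = b * a := fun a ha b hb =>
    (Subgroup.mem_centralizer_iff.1 hb.2 a ha.1)
  -- (1) H ≤ Zc
  have hHZ : H ≤ Zc := by
    obtain ⟨x, hxH, hx1, hxZ⟩ := exists_mem_center_of_normal h.two hHX hXH hH1
    rcases hActH.irred_four hH4 hHnc (inf_le_left : H ⊓ Zc ≤ H) (le_normalizer_inf' hKH hKZ)
      with h0 | h1
    · have : x ∈ H ⊓ Zc := Subgroup.mem_inf.2 ⟨hxH, hxZ⟩
      rw [h0, Subgroup.mem_bot] at this
      exact absurd this hx1
    · rw [← h1]; exact inf_le_right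
  -- (2) Zc = H
  have hZH : Zc = H := by
    have hZne : Zc ≠ X := by
      intro h0
      apply hab
      intro a ha b hb
      rw [← h0] at hb
      exact hZab a (by rw [h0]; exact ha) b hb
    rcases hyp Zc inf_le_left hZne hKZ with h1 | h1 | h1
    · exact absurd (hHZ.trans h1) hHnc
    · exact (Subgroup.eq_of_le_of_card_ge hHZ (by rw [hH4, h1])).symm
    · exact absurd hZab h1.2
  -- (3) every proper nontrivial normal `K`-invariant subgroup of `X` equals `H`
  have key : ∀ M : Subgroup G, M ≤ X → X ≤ Subgroup.normalizer (M : Set G) →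
      K ≤ Subgroup.normalizer (M : Set G) → M ≠ ⊥ → M ≠ X → M = H := by
    intro M hMX hXM hKM hM1 hMne
    obtain ⟨x, hxM, hx1, hxZ⟩ := exists_mem_center_of_normal h.two hMX hXM hM1
    have hHM : H ≤ M := by
      rcases hActH.irred_four hH4 hHnc (inf_le_left : H ⊓ M ≤ H) (le_normalizer_inf' hKH hKM)
        with h0 | h1
      · have : x ∈ H ⊓ M := Subgroup.mem_inf.2 ⟨by rw [← hZH]; exact hxZ, hxM⟩
        rw [h0, Subgroup.mem_bot] at this
        exact absurd this hx1
      · rw [← h1]; exact inf_le_right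
    rcases hyp M hMX hMne hKM with h1 | h1 | h1
    · exact absurd (hHM.trans h1) hHnc
    · exact (Subgroup.eq_of_le_of_card_ge hHM (by rw [hH4, h1])).symm
    · exfalso
      have h2 := card_center_of_card_eight (h.two.to_le hMX) h1.1 h1.2
      have h3 : H ≤ M ⊓ Subgroup.centralizer (M : Set G) := by
        intro y hy
        refine Subgroup.mem_inf.2 ⟨hHM hy, ?_⟩
        have hy2 : y ∈ Subgroup.centralizer (X : Set G) := (hHZ hy).2
        exact Subgroup.centralizer_le (show (M : Set G) ⊆ X from hMX) hy2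
      have := Subgroup.card_le_of_le h3
      omega
  have hXnt : Nontrivial ↥X := by
    rw [Subgroup.nontrivial_iff_ne_bot]
    intro h0
    apply hab
    intro a ha b hb
    rw [h0, Subgroup.mem_bot] at ha hb
    rw [ha, hb]
  have hXsolv : Group.IsSolvable ↥X := by
    have := h.two.isNilpotent
    infer_instance
  have hXle : X ≤ Subgroup.normalizer (X : Set G) := Subgroup.le_normalizer
  -- derived subgroup
  have hD : (commutator ↥X).map X.subtype = H := by
    have hchr : (commutator ↥X).Characteristic := by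
      rw [commutator_def]; infer_instance
    apply key
    · rintro _ ⟨y, -, rfl⟩; exact y.2
    · exact hXle.trans (normalizer_le_of_char X _)
    · exact h.norm.trans (normalizer_le_of_char X _)
    · rw [Subgroup.map_subtype_commutator]
      intro h0
      apply hab
      intro a ha b hb
      have := Subgroup.commutator_eq_bot_iff_le_centralizer.1 h0
      exact (Subgroup.mem_centralizer_iff.1 (this hb) a ha)
    · intro h0
      have h1 : (commutator ↥X).map X.subtype = (⊤ : Subgroup ↥X).map X.subtype := by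
        rw [h0, ← MonoidHom.range_eq_map, Subgroup.range_subtype]
      have h2 := Subgroup.map_injective X.subtype_injective h1
      exact (Group.IsSolvable.commutator_lt_top_of_nontrivial ↥X).ne h2
  -- Frattini subgroup
  have hF : (frattini ↥X).map X.subtype = H := by
    have hchr : (frattini ↥X).Characteristic := frattini_characteristic
    apply key
    · rintro _ ⟨y, -, rfl⟩; exact y.2
    · exact hXle.trans (normalizer_le_of_char X _)
    · exact h.norm.trans (normalizer_le_of_char X _)
    · intro h0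
      have h1 : (commutator ↥X).map X.subtype ≤ (frattini ↥X).map X.subtype :=
        Subgroup.map_mono (Cfsg.Agent.Helper1.IsPGroup.commutator_le_frattini h.two)
      rw [h0, hD, le_bot_iff] at h1
      exact hH1 h1
    · intro h0
      have h1 : (frattini ↥X).map X.subtype = (⊤ : Subgroup ↥X).map X.subtype := by
        rw [h0, ← MonoidHom.range_eq_map, Subgroup.range_subtype]
      have h2 := Subgroup.map_injective X.subtype_injective h1
      rcases IsCoatomic.eq_top_or_exists_le_coatom (⊥ : Subgroup ↥X) with h3 | ⟨M, hM, -⟩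
      · exact bot_ne_top h3
      · have := frattini_le_coatom hM
        rw [h2, top_le_iff] at this
        exact hM.1 this
  have hC : (Subgroup.center ↥X).map X.subtype = H := by
    rw [map_subtype_center]; exact hZH
  refine ⟨h.two, ?_, ?_⟩
  · apply Subgroup.map_injective X.subtype_injective
    rw [hF, hC]
  · apply Subgroup.map_injective X.subtype_injective
    rw [hD, hC]

end Cfsg.Agent.Lead.NA8
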