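import Mathlib

set_option autoImplicit false

/-!
The `(B, N)`-pair of `Sp_{2m}(K)`, part A: monomial matrices over an arbitrary index type, and the
generation of the signed permutations by the fundamental reflections.
-/

namespace Cfsg.Agent.Lead.SpBN

open Matrix

section mono

variable {ι : Type*} [Fintype ι] [DecidableEq ι] {K : Type*} [Field K]

/-- `M` is monomial with pattern `σ`: the entry `(i, j)` vanishes unless `i = σ j`. -/
def MonoQ (σ : Equiv.Perm ι) (M : Matrix ι ι K) : Prop :=
  ∀ i j, i ≠ σ j → M i j = 0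

theorem perm_inv_apply (σ : Equiv.Perm ι) (x : ι) : σ⁻¹ (σ x) = x :=
  σ.symm_apply_apply x

theorem perm_apply_inv (σ : Equiv.Perm ι) (x : ι) : σ (σ⁻¹ x) = x :=
  σ.apply_symm_apply x

theorem MonoQ.one : MonoQ (1 : Equiv.Perm ι) (1 : Matrix ι ι K) := by
  intro i j hij
  exact one_apply_ne hij

theorem mono_mul_apply {σ : Equiv.Perm ι} {M : Matrix ι ι K} (h : MonoQ σ M) (A : Matrix ι ι K)
    (r c : ι) : (M * A) r c = M r (σ⁻¹ r) * A (σ⁻¹ r) c := by
  rw [Matrix.mul_apply]
  apply Finset.sum_eq_single
  · intro l _ hl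
    have : r ≠ σ l := by
      intro e
      apply hl
      rw [e, perm_inv_apply]
    rw [h r l this, zero_mul]
  · intro hr
    exact absurd (Finset.mem_univ _) hr

theorem mul_mono_apply {σ : Equiv.Perm ι} {M : Matrix ι ι K} (h : MonoQ σ M) (A : Matrix ι ι K)
    (r c : ι) : (A * M) r c = A r (σ c) * M (σ c) c := by
  rw [Matrix.mul_apply]
  apply Finset.sum_eq_single
  · intro l _ hl
    rw [h l c hl, mul_zero]
  · intro hr
    exact absurd (Finset.mem_univ _) hr

theorem MonoQ.mul {σ τ : Equiv.Perm ι} {M M' : Matrix ι ι K} (h : MonoQ σ M) (h' : MonoQ τ M') :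
    MonoQ (σ * τ) (M * M') := by
  intro i j hij
  rw [mono_mul_apply h]
  have : σ⁻¹ i ≠ τ j := by
    intro e
    apply hij
    rw [Equiv.Perm.mul_apply, ← e, perm_apply_inv]
  rw [h' _ _ this, mul_zero]

theorem MonoQ.transpose {σ : Equiv.Perm ι} {M : Matrix ι ι K} (h : MonoQ σ M) :
    MonoQ σ⁻¹ Mᵀ := by
  intro i j hij
  rw [Matrix.transpose_apply]
  apply h
  intro e
  apply hij
  rw [e, perm_inv_apply]

/-- Conjugation by a monomial matrix. -/
theorem mono_conj_apply {σ : Equiv.Perm ι} {M M' : Matrix ι ι K} (h : MonoQ σ M)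
    (h' : MonoQ σ⁻¹ M') (A : Matrix ι ι K) (r c : ι) :
    (M * A * M') r c = M r (σ⁻¹ r) * A (σ⁻¹ r) (σ⁻¹ c) * M' (σ⁻¹ c) c := by
  rw [mul_mono_apply h', mono_mul_apply h]

/-- A permutation which does not increase any element, for an injective height function, is the
identity. -/
theorem perm_eq_one_of_le (ρ : ι → ℕ) (hρ : Function.Injective ρ) (σ : Equiv.Perm ι)
    (h : ∀ j, ρ (σ j) ≤ ρ j) : σ = 1 := by
  have key : ∀ n : ℕ, ∀ j : ι, ρ j = n → σ j = j := by
    intro n
    induction n using Nat.strong_induction_on with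
    | _ n ih =>
      intro j hj
      rcases (h j).lt_or_eq with hlt | heq
      · exfalso
        have h1 : σ (σ j) = σ j := ih (ρ (σ j)) (by rw [← hj]; exact hlt) (σ j) rfl
        have h2 : σ j = j := σ.injective h1
        rw [h2] at hlt
        exact lt_irrefl _ hlt
      · exact hρ heq
  apply Equiv.ext
  intro j
  rw [key _ j rfl, Equiv.Perm.one_apply]

theorem upper_of_mono_one (ρ : ι → ℕ) {M : Matrix ι ι K} (h : MonoQ (1 : Equiv.Perm ι) M) :
    M.BlockTriangular ρ := by
  intro i j hij
  apply h
  rw [Equiv.Perm.one_apply]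
  intro e
  rw [e] at hij
  exact lt_irrefl _ hij

end mono

section blocks

variable {n : Type*} [Fintype n] [DecidableEq n] {K : Type*} [Field K]

theorem MonoQ.fromBlocks {σ τ : Equiv.Perm n} {A D : Matrix n n K} (hA : MonoQ σ A)
    (hD : MonoQ τ D) : MonoQ (Equiv.sumCongr σ τ) (Matrix.fromBlocks A 0 0 D) := by
  rintro (i | i) (j | j) hij
  · rw [Matrix.fromBlocks_apply₁₁]
    apply hA
    intro e
    apply hij
    rw [Equiv.sumCongr_apply, Sum.map_inl, e]
  · rw [Matrix.fromBlocks_apply₁₂]
    rfl
  · rw [Matrix.fromBlocks_apply₂₁]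
    rfl
  · rw [Matrix.fromBlocks_apply₂₂]
    apply hD
    intro e
    apply hij
    rw [Equiv.sumCongr_apply, Sum.map_inr, e]

end blocks

section signed

variable {k : ℕ}

/-- The pattern of a short fundamental reflection. -/
def pS (i : Fin k) : Equiv.Perm (Fin (k + 1) ⊕ Fin (k + 1)) :=
  Equiv.sumCongr (Equiv.swap i.castSucc i.succ) (Equiv.swap i.castSucc i.succ)

/-- The sign change at the coordinate `j`. -/
def cS (j : Fin (k + 1)) : Equiv.Perm (Fin (k + 1) ⊕ Fin (k + 1)) :=
  Equiv.swap (Sum.inl j) (Sum.inr j)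

/-- The set of the patterns of the fundamental reflections. -/
def genP (k : ℕ) : Set (Equiv.Perm (Fin (k + 1) ⊕ Fin (k + 1))) :=
  Set.range pS ∪ {cS (Fin.last k)}

theorem sumCongr_mem (π : Equiv.Perm (Fin (k + 1))) :
    Equiv.sumCongr π π ∈ Submonoid.closure (genP k) := by
  refine Submonoid.induction_of_closure_eq_top_left
    (Equiv.Perm.mclosure_swap_castSucc_succ k) π ?_ ?_
  · have : (Equiv.sumCongr (1 : Equiv.Perm (Fin (k + 1))) (1 : Equiv.Perm (Fin (k + 1)))) = 1 :=
      Equiv.Perm.sumCongr_one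
    rw [this]
    exact Submonoid.one_mem _
  · rintro _ ⟨i, rfl⟩ y hy
    have e : Equiv.sumCongr (Equiv.swap i.castSucc i.succ * y) (Equiv.swap i.castSucc i.succ * y) =
        pS i * Equiv.sumCongr y y := (Equiv.Perm.sumCongr_mul _ _ _ _).symm
    rw [e]
    exact Submonoid.mul_mem _ (Submonoid.subset_closure (Or.inl ⟨i, rfl⟩)) hy

theorem sumCongr_inv_mem (π : Equiv.Perm (Fin (k + 1))) :
    (Equiv.sumCongr π π)⁻¹ ∈ Submonoid.closure (genP k) := by
  rw [Equiv.Perm.sumCongr_inv]
  exact sumCongr_mem π⁻¹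

theorem cS_mem (j : Fin (k + 1)) : cS j ∈ Submonoid.closure (genP k) := by
  have h := Equiv.swap_apply_apply
    (Equiv.sumCongr (Equiv.swap (Fin.last k) j) (Equiv.swap (Fin.last k) j))
    (Sum.inl (Fin.last k)) (Sum.inr (Fin.last k))
  rw [Equiv.sumCongr_apply, Equiv.sumCongr_apply, Sum.map_inl, Sum.map_inr,
    Equiv.swap_apply_left] at h
  unfold cS
  rw [h]
  refine Submonoid.mul_mem _ (Submonoid.mul_mem _ (sumCongr_mem _) ?_) (sumCongr_inv_mem _)
  exact Submonoid.subset_closure (Or.inr rfl)

/-- Forgetting the side. -/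
def und : Fin (k + 1) ⊕ Fin (k + 1) → Fin (k + 1) := Sum.elim id id

theorem und_swap (a : Fin (k + 1) ⊕ Fin (k + 1)) : und a.swap = und a := by
  rcases a with a | a <;> rfl

theorem eq_or_eq_swap {a b : Fin (k + 1) ⊕ Fin (k + 1)} (h : und a = und b) :
    a = b ∨ a = b.swap := by
  rcases a with a | a <;> rcases b with b | b <;> simp only [und, Sum.elim_inl, Sum.elim_inr,
    id_eq] at h <;> subst h <;> simp

/-- A permutation commuting with the swap of the two sides and preserving each pair of
coordinates is a product of sign changes. -/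
theorem mem_of_und_fixed : ∀ (n : ℕ) (ε : Equiv.Perm (Fin (k + 1) ⊕ Fin (k + 1))),
    (∀ a, ε a.swap = (ε a).swap) → (∀ a, und (ε a) = und a) →
    (Finset.univ.filter (fun j : Fin (k + 1) => ε (Sum.inl j) = Sum.inr j)).card = n →
    ε ∈ Submonoid.closure (genP k) := by
  intro n
  induction n with
  | zero =>
    intro ε hε hu hcard
    rw [Finset.card_eq_zero, Finset.filter_eq_empty_iff] at hcard
    have h1 : ∀ j, ε (Sum.inl j) = Sum.inl j := by
      intro j
      rcases eq_or_eq_swap (hu (Sum.inl j)) with h | h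
      · exact h
      · exact absurd h (hcard (Finset.mem_univ j))
    have : ε = 1 := by
      apply Equiv.ext
      rintro (j | j)
      · rw [h1, Equiv.Perm.one_apply]
      · have := hε (Sum.inl j)
        rw [h1] at this
        exact this
    rw [this]
    exact Submonoid.one_mem _
  | succ n ih =>
    intro ε hε hu hcard
    have hne : (Finset.univ.filter (fun j : Fin (k + 1) => ε (Sum.inl j) = Sum.inr j)).Nonempty := by
      rw [← Finset.card_pos, hcard]
      exact Nat.succ_pos n
    obtain ⟨j, hj⟩ := hne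
    rw [Finset.mem_filter] at hj
    have hj2 := hj.2
    have hj3 : ε (Sum.inr j) = Sum.inl j := by
      have := hε (Sum.inl j)
      rw [hj2] at this
      exact this
    have e : ε = cS j * (cS j * ε) := by
      unfold cS
      rw [← mul_assoc, Equiv.swap_mul_self, one_mul]
    rw [e]
    apply Submonoid.mul_mem _ (cS_mem j)
    apply ih
    · intro a
      rw [Equiv.Perm.mul_apply, Equiv.Perm.mul_apply, hε]
      unfold cS
      generalize ε a = b
      rcases b with b | b
      · by_cases hb : b = j
        · subst hb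
          simp
        · have h1 : (Sum.inl b : Fin (k + 1) ⊕ Fin (k + 1)) ≠ Sum.inl j := fun h => hb (Sum.inl.inj h)
          have h2 : (Sum.inr b : Fin (k + 1) ⊕ Fin (k + 1)) ≠ Sum.inr j := fun h => hb (Sum.inr.inj h)
          rw [Sum.swap_inl, Equiv.swap_apply_of_ne_of_ne (by simp) h2,
            Equiv.swap_apply_of_ne_of_ne h1 (by simp), Sum.swap_inl]
      · by_cases hb : b = j
        · subst hb
          simp
        · have h1 : (Sum.inl b : Fin (k + 1) ⊕ Fin (k + 1)) ≠ Sum.inl j := fun h => hb (Sum.inl.inj h)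
          have h2 : (Sum.inr b : Fin (k + 1) ⊕ Fin (k + 1)) ≠ Sum.inr j := fun h => hb (Sum.inr.inj h)
          rw [Sum.swap_inr, Equiv.swap_apply_of_ne_of_ne h1 (by simp),
            Equiv.swap_apply_of_ne_of_ne (by simp) h2, Sum.swap_inr]
    · intro a
      rw [Equiv.Perm.mul_apply, ← hu a]
      unfold cS
      generalize ε a = b
      rcases b with b | b
      · by_cases hb : b = j
        · subst hb
          simp [und]
        · have h1 : (Sum.inl b : Fin (k + 1) ⊕ Fin (k + 1)) ≠ Sum.inl j := fun h => hb (Sum.inl.inj h)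
          rw [Equiv.swap_apply_of_ne_of_ne h1 (by simp)]
      · by_cases hb : b = j
        · subst hb
          simp [und]
        · have h2 : (Sum.inr b : Fin (k + 1) ⊕ Fin (k + 1)) ≠ Sum.inr j := fun h => hb (Sum.inr.inj h)
          rw [Equiv.swap_apply_of_ne_of_ne (by simp) h2]
    · have hset : Finset.univ.filter (fun i : Fin (k + 1) => (cS j * ε) (Sum.inl i) = Sum.inr i) =
          (Finset.univ.filter (fun i : Fin (k + 1) => ε (Sum.inl i) = Sum.inr i)).erase j := by
        ext i
        rw [Finset.mem_filter, Finset.mem_erase, Finset.mem_filter]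
        simp only [Finset.mem_univ, true_and]
        rw [Equiv.Perm.mul_apply]
        unfold cS
        by_cases hij : i = j
        · subst hij
          rw [hj2, Equiv.swap_apply_right]
          simp
        · rcases eq_or_eq_swap (hu (Sum.inl i)) with h | h
          · rw [h]
            have h1 : (Sum.inl i : Fin (k + 1) ⊕ Fin (k + 1)) ≠ Sum.inl j :=
              fun h => hij (Sum.inl.inj h)
            rw [Equiv.swap_apply_of_ne_of_ne h1 (by simp)]
            simp
          · rw [h, Sum.swap_inl]
            have h2 : (Sum.inr i : Fin (k + 1) ⊕ Fin (k + 1)) ≠ Sum.inr j :=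
              fun h => hij (Sum.inr.inj h)
            rw [Equiv.swap_apply_of_ne_of_ne (by simp) h2]
            simp [hij]
      rw [hset, Finset.card_erase_of_mem (Finset.mem_filter.mpr hj), hcard]
      rfl

/-- The signed permutations are generated by the patterns of the fundamental reflections. -/
theorem signed_mem_closure (σ : Equiv.Perm (Fin (k + 1) ⊕ Fin (k + 1)))
    (hσ : ∀ a, σ a.swap = (σ a).swap) : σ ∈ Submonoid.closure (genP k) := by
  have hσ' : ∀ a, σ⁻¹ a.swap = (σ⁻¹ a).swap := by
    intro a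
    apply σ.injective
    rw [perm_apply_inv, hσ, perm_apply_inv]
  -- the induced permutation of the coordinates
  let π : Equiv.Perm (Fin (k + 1)) :=
    { toFun := fun j => und (σ (Sum.inl j))
      invFun := fun j => und (σ⁻¹ (Sum.inl j))
      left_inv := by
        intro j
        rcases eq_or_eq_swap (show und (Sum.inl (und (σ (Sum.inl j)))) = und (σ (Sum.inl j)) from rfl)
          with h | h
        · change und (σ⁻¹ (Sum.inl (und (σ (Sum.inl j))))) = j
          rw [h, perm_inv_apply]
          rfl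
        · change und (σ⁻¹ (Sum.inl (und (σ (Sum.inl j))))) = j
          rw [h, hσ', perm_inv_apply]
          rfl
      right_inv := by
        intro j
        rcases eq_or_eq_swap
          (show und (Sum.inl (und (σ⁻¹ (Sum.inl j)))) = und (σ⁻¹ (Sum.inl j)) from rfl) with h | h
        · change und (σ (Sum.inl (und (σ⁻¹ (Sum.inl j))))) = j
          rw [h, perm_apply_inv]
          rfl
        · change und (σ (Sum.inl (und (σ⁻¹ (Sum.inl j))))) = j
          rw [h, hσ, perm_apply_inv]
          rfl }
  have hπ : ∀ a, und (σ a) = π (und a) := by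
    rintro (a | a)
    · rfl
    · change und (σ (Sum.inr a)) = und (σ (Sum.inl a))
      have := hσ (Sum.inl a)
      rw [Sum.swap_inl] at this
      rw [this, und_swap]
  have e : σ = Equiv.sumCongr π π * ((Equiv.sumCongr π π)⁻¹ * σ) := by
    rw [mul_inv_cancel_left]
  rw [e]
  apply Submonoid.mul_mem _ (sumCongr_mem π)
  refine mem_of_und_fixed _ _ ?_ ?_ rfl
  · intro a
    rw [Equiv.Perm.mul_apply, Equiv.Perm.mul_apply, hσ, Equiv.Perm.sumCongr_inv]
    generalize σ a = b
    rcases b with b | b <;> rfl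
  · intro a
    rw [Equiv.Perm.mul_apply, Equiv.Perm.sumCongr_inv]
    have h1 : ∀ b : Fin (k + 1) ⊕ Fin (k + 1), und (Equiv.sumCongr π⁻¹ π⁻¹ b) = π⁻¹ (und b) := by
      rintro (b | b) <;> rfl
    rw [h1, hπ, perm_inv_apply]

end signed

end Cfsg.Agent.Lead.SpBN
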