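import Mathlib
import Cfsg.Prelude.Def_CaseTheorems
import Cfsg.Agent.Helper2.KleinSylow
import Cfsg.Agent.Helper5.PGroupCenter

set_option autoImplicit false

namespace Cfsg.Agent.Lead

universe u

variable {G : Type u} [Group G]

theorem isKleinFour_of_card_of_sq (W : Subgroup G) (hcard : Nat.card W = 4)
    (hsq : ∀ x ∈ W, x * x = 1) : IsKleinFour W := by
  refine ⟨hcard, ?_⟩
  have h1 : Monoid.exponent W ∣ 2 := by
    apply Monoid.exponent_dvd_of_forall_pow_eq_one
    intro x
    apply Subtype.ext
    rw [pow_two]
    exact hsq x x.2
  have h2 : Monoid.exponent W ≠ 1 := by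
    intro h
    rw [Monoid.exp_eq_one_iff] at h
    have := Nat.card_eq_one_iff_unique.mpr ⟨h, ⟨1⟩⟩
    omega
  rcases (Nat.dvd_prime Nat.prime_two).mp h1 with h | h
  · exact absurd h h2
  · exact h

/-- The four-group generated by two commuting involutions. -/
def fourOf (a b : G) (ha : a * a = 1) (hb : b * b = 1) (hab : a * b = b * a) : Subgroup G where
  carrier := {1, a, b, a * b}
  one_mem' := by simp
  mul_mem' := by
    have ha' : ∀ x : G, a * (a * x) = x := fun x => by rw [← mul_assoc, ha, one_mul]
    have hb' : ∀ x : G, b * (b * x) = x := fun x => by rw [← mul_assoc, hb, one_mul]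
    have hba : b * a = a * b := hab.symm
    have hba' : ∀ x : G, b * (a * x) = a * (b * x) := fun x => by
      rw [← mul_assoc, hba, mul_assoc]
    intro x y hx hy
    simp only [Set.mem_insert_iff, Set.mem_singleton_iff] at hx hy ⊢
    rcases hx with rfl | rfl | rfl | rfl <;> rcases hy with rfl | rfl | rfl | rfl <;>
      simp [mul_assoc, ha, hb, hba, ha', hb', hba']
  inv_mem' := by
    have hai : a⁻¹ = a := inv_eq_of_mul_eq_one_right ha
    have hbi : b⁻¹ = b := inv_eq_of_mul_eq_one_right hb
    intro x hx
    simp only [Set.mem_insert_iff, Set.mem_singleton_iff] at hx ⊢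
    rcases hx with rfl | rfl | rfl | rfl
    · simp
    · simp [hai]
    · simp [hbi]
    · right; right; right
      rw [mul_inv_rev, hai, hbi, hab]

theorem mem_fourOf {a b : G} {ha : a * a = 1} {hb : b * b = 1} {hab : a * b = b * a} {x : G} :
    x ∈ fourOf a b ha hb hab ↔ x = 1 ∨ x = a ∨ x = b ∨ x = a * b := by
  change x ∈ ({1, a, b, a * b} : Set G) ↔ _
  simp only [Set.mem_insert_iff, Set.mem_singleton_iff]

theorem fourOf_isKleinFour (a b : G) (ha : a * a = 1) (hb : b * b = 1) (hab : a * b = b * a)
    (ha1 : a ≠ 1) (hb1 : b ≠ 1) (hne : a ≠ b) : IsKleinFour (fourOf a b ha hb hab) := by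
  classical
  apply isKleinFour_of_card_of_sq
  · have hai : a⁻¹ = a := inv_eq_of_mul_eq_one_right ha
    change Nat.card (({1, a, b, a * b} : Set G) : Type u) = 4
    rw [Nat.card_coe_set_eq]
    rw [Set.ncard_insert_of_notMem, Set.ncard_insert_of_notMem, Set.ncard_insert_of_notMem,
      Set.ncard_singleton]
    · simp only [Set.mem_singleton_iff]
      intro h
      have : a = 1 := by
        have := congrArg (fun x => x * b) h
        simp only [mul_assoc, hb, mul_one] at this
        exact this.symm
      exact ha1 this
    · simp only [Set.mem_insert_iff, Set.mem_singleton_iff]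
      rintro (h | h)
      · exact hne h
      · have : b = 1 := by
          have := congrArg (fun x => a * x) h
          simp only [← mul_assoc, ha, one_mul] at this
          exact this.symm
        exact hb1 this
    · simp only [Set.mem_insert_iff, Set.mem_singleton_iff]
      rintro (h | h | h)
      · exact ha1 h.symm
      · exact hb1 h.symm
      · have : b = a := by
          have := congrArg (fun x => x * b) h
          simp only [mul_assoc, hb, mul_one, one_mul] at this
          exact this
        exact hne this.symm
  · intro x hx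
    rw [mem_fourOf] at hx
    rcases hx with rfl | rfl | rfl | rfl
    · simp
    · exact ha
    · exact hb
    · calc a * b * (a * b) = a * (b * a) * b := by group
        _ = a * (a * b) * b := by rw [hab]
        _ = (a * a) * (b * b) := by group
        _ = 1 := by rw [ha, hb, one_mul]


open Cfsg.Agent.Helper2 in
theorem fourConnected_of_normal_elementary {P : Type u} [Group P] [Finite P] (hP : IsPGroup 2 P)
    (E : Subgroup P) [E.Normal] (hE : IsMulCommutative E) (hE2 : ∀ e ∈ E, e ^ 2 = 1)
    (hE8 : 8 ≤ Nat.card E) : Cfsg.IsFourConnected P := by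
  classical
  have hEne : E ≠ ⊥ := by
    rintro rfl
    rw [Subgroup.card_bot] at hE8
    omega
  obtain ⟨z, hzE, hz1, hzc⟩ := Cfsg.Agent.Helper5.exists_ne_one_mem_center_of_normal hP E hEne
  have hsq : ∀ e ∈ E, e * e = 1 := fun e he => by rw [← pow_two]; exact hE2 e he
  have hEcomm : ∀ a ∈ E, ∀ b ∈ E, a * b = b * a := fun a ha b hb =>
    congrArg Subtype.val (mul_comm' (⟨a, ha⟩ : E) ⟨b, hb⟩)
  have hzz : z * z = 1 := hsq z hzE
  -- existence of elements outside small sets
  have hout : ∀ s : Set P, s.Finite → s.ncard ≤ 4 → ∃ e ∈ E, e ∉ s := by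
    intro s hs hs4
    have hEc : ((E : Set P)).ncard = Nat.card E := by
      rw [← Nat.card_coe_set_eq]; rfl
    have h1 : s.ncard < ((E : Set P)).ncard := by
      rw [hEc]; omega
    obtain ⟨e, he, hes⟩ := Set.exists_mem_notMem_of_ncard_lt_ncard h1 hs
    exact ⟨e, he, hes⟩
  -- Claim 1
  have claim1 : ∀ u : P, u * u = 1 → ∃ e ∈ E, e ≠ 1 ∧ e ≠ z ∧ u * e = e * u := by
    intro u hu
    have hui : u⁻¹ = u := inv_eq_of_mul_eq_one_right hu
    have hconj : ∀ e ∈ E, u * e * u ∈ E := by
      intro e he
      have := (inferInstance : E.Normal).conj_mem e he u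
      rwa [hui] at this
    -- y = x * (u x u) is fixed by u
    have hfix : ∀ x ∈ E, u * (x * (u * x * u)) = (x * (u * x * u)) * u := by
      intro x hx
      have h1 := hEcomm x hx (u * x * u) (hconj x hx)
      calc u * (x * (u * x * u)) = u * ((u * x * u) * x) := by rw [h1]
        _ = (u * u) * x * u * x := by group
        _ = x * u * x := by rw [hu, one_mul]
        _ = x * (u * x * (u * u)) := by rw [hu, mul_one]; group
        _ = (x * (u * x * u)) * u := by group
    obtain ⟨x, hxE, hxs⟩ := hout {1, z} (Set.toFinite _) (by
      refine (Set.ncard_insert_le _ _).trans ?_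
      rw [Set.ncard_singleton]; norm_num)
    simp only [Set.mem_insert_iff, Set.mem_singleton_iff, not_or] at hxs
    by_cases hy : x * (u * x * u) = 1 ∨ x * (u * x * u) = z
    · rcases hy with hy | hy
      · -- u x u = x⁻¹ = x
        refine ⟨x, hxE, hxs.1, hxs.2, ?_⟩
        have h1 : u * x * u = x := by
          have := congrArg (fun w => x * w) hy
          simp only [← mul_assoc, hsq x hxE, one_mul, mul_one] at this
          exact this
        calc u * x = (u * x * u) * u := by rw [mul_assoc (u * x), hu, mul_one]
          _ = x * u := by rw [h1]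
      · -- u x u = x z
        have h1 : u * x * u = x * z := by
          have := congrArg (fun w => x * w) hy
          simp only [← mul_assoc, hsq x hxE, one_mul] at this
          exact this
        obtain ⟨x', hx'E, hx's⟩ := hout {1, z, x, x * z} (Set.toFinite _) (by
          refine (Set.ncard_insert_le _ _).trans ?_
          refine Nat.succ_le_succ ((Set.ncard_insert_le _ _).trans ?_)
          refine Nat.succ_le_succ ((Set.ncard_insert_le _ _).trans ?_)
          rw [Set.ncard_singleton])
        simp only [Set.mem_insert_iff, Set.mem_singleton_iff, not_or] at hx's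
        by_cases hy' : x' * (u * x' * u) = 1 ∨ x' * (u * x' * u) = z
        · rcases hy' with hy' | hy'
          · refine ⟨x', hx'E, hx's.1, hx's.2.1, ?_⟩
            have h1' : u * x' * u = x' := by
              have := congrArg (fun w => x' * w) hy'
              simp only [← mul_assoc, hsq x' hx'E, one_mul, mul_one] at this
              exact this
            calc u * x' = (u * x' * u) * u := by rw [mul_assoc (u * x'), hu, mul_one]
              _ = x' * u := by rw [h1']
          · have h1' : u * x' * u = x' * z := by
              have := congrArg (fun w => x' * w) hy'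
              simp only [← mul_assoc, hsq x' hx'E, one_mul] at this
              exact this
            refine ⟨x * x', E.mul_mem hxE hx'E, ?_, ?_, ?_⟩
            · intro h
              apply hx's.2.2.1
              have := congrArg (fun w => x * w) h
              simp only [← mul_assoc, hsq x hxE, one_mul, mul_one] at this
              exact this
            · intro h
              apply hx's.2.2.2
              have := congrArg (fun w => x * w) h
              simp only [← mul_assoc, hsq x hxE, one_mul] at this
              exact this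
            · have h2 : u * (x * x') * u = x * x' := by
                calc u * (x * x') * u = (u * x * u) * (u * x' * u) := by
                      rw [show (u * x * u) * (u * x' * u) = u * x * (u * u) * x' * u by group, hu]
                      group
                  _ = (x * z) * (x' * z) := by rw [h1, h1']
                  _ = x * (z * x') * z := by group
                  _ = x * (x' * z) * z := by rw [hzc x']
                  _ = x * x' * (z * z) := by group
                  _ = x * x' := by rw [hzz, mul_one]
              calc u * (x * x') = (u * (x * x') * u) * u := by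
                    rw [mul_assoc (u * (x * x')), hu, mul_one]
                _ = (x * x') * u := by rw [h2]
        · push Not at hy'
          exact ⟨x' * (u * x' * u), E.mul_mem hx'E (hconj x' hx'E), hy'.1, hy'.2, hfix x' hx'E⟩
    · push Not at hy
      exact ⟨x * (u * x * u), E.mul_mem hxE (hconj x hxE), hy.1, hy.2, hfix x hxE⟩
  -- the relation
  obtain ⟨R, hR⟩ : ∃ R : Subgroup P → Subgroup P → Prop, R = fun A B : Subgroup P =>
      IsKleinFour A ∧ IsKleinFour B ∧ ∀ a ∈ A, ∀ b ∈ B, a * b = b * a := ⟨_, rfl⟩
  have hRsymm : ∀ A B : Subgroup P, R A B → R B A := by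
    intro A B h
    rw [hR] at h ⊢
    exact ⟨h.2.1, h.1, fun a ha b hb => (h.2.2 b hb a ha).symm⟩
  have hWE : ∀ e (he : e ∈ E), fourOf z e hzz (hsq e he) (hzc e).symm ≤ E := by
    intro e he x hx
    rw [mem_fourOf] at hx
    rcases hx with rfl | rfl | rfl | rfl
    · exact E.one_mem
    · exact hzE
    · exact he
    · exact E.mul_mem hzE he
  -- anchor when z ∈ U
  have anchor1 : ∀ U : Subgroup P, IsKleinFour U → z ∈ U →
      ∃ e, ∃ he : e ∈ E, e ≠ 1 ∧ e ≠ z ∧ R U (fourOf z e hzz (hsq e he) (hzc e).symm) := by
    intro U hU hzU
    obtain ⟨a, b, haU, hbU, ha1, hb1, hab⟩ := klein_elements U hU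
    obtain ⟨u, huU, hu1, huz⟩ : ∃ u ∈ U, u ≠ 1 ∧ u ≠ z := by
      by_cases h : a = z
      · exact ⟨b, hbU, hb1, fun hb => hab (h.trans hb.symm)⟩
      · exact ⟨a, haU, ha1, h⟩
    have huu : u * u = 1 := klein_mul_self U hU huU
    obtain ⟨e, heE, he1, hez, hue⟩ := claim1 u huu
    refine ⟨e, heE, he1, hez, ?_⟩
    rw [hR]
    refine ⟨hU, fourOf_isKleinFour z e _ _ _ hz1 he1 (Ne.symm hez), ?_⟩
    intro x hx y hy
    have hyu : u * y = y * u := by
      rw [mem_fourOf] at hy
      rcases hy with rfl | rfl | rfl | rfl
      · simp
      · exact hzc u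
      · exact hue
      · calc u * (z * e) = (u * z) * e := by group
          _ = (z * u) * e := by rw [hzc u]
          _ = z * (u * e) := by group
          _ = z * (e * u) := by rw [hue]
          _ = z * e * u := by group
    rcases klein_mem_cases U hU hzU huU hz1 hu1 (Ne.symm huz) hx with rfl | rfl | rfl | rfl
    · simp
    · exact (hzc y).symm
    · exact hyu
    · calc z * u * y = z * (u * y) := by group
        _ = z * (y * u) := by rw [hyu]
        _ = (z * y) * u := by group
        _ = (y * z) * u := by rw [hzc y]
        _ = y * (z * u) := by group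
  -- anchor in general
  have anchor : ∀ U : Subgroup P, IsKleinFour U →
      ∃ e, ∃ he : e ∈ E, e ≠ 1 ∧ e ≠ z ∧
        Relation.ReflTransGen R U (fourOf z e hzz (hsq e he) (hzc e).symm) := by
    intro U hU
    by_cases hzU : z ∈ U
    · obtain ⟨e, he, he1, hez, h⟩ := anchor1 U hU hzU
      exact ⟨e, he, he1, hez, Relation.ReflTransGen.single h⟩
    · obtain ⟨u, -, huU, -, hu1, -, -⟩ := klein_elements U hU
      have huu : u * u = 1 := klein_mul_self U hU huU
      have huz : u ≠ z := fun h => hzU (h ▸ huU)
      have hW' : IsKleinFour (fourOf u z huu hzz (hzc u)) :=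
        fourOf_isKleinFour u z _ _ _ hu1 hz1 huz
      have hzW' : z ∈ fourOf u z huu hzz (hzc u) := by
        rw [mem_fourOf]; right; right; left; rfl
      obtain ⟨e, he, he1, hez, h⟩ := anchor1 _ hW' hzW'
      refine ⟨e, he, he1, hez, Relation.ReflTransGen.head ?_ (Relation.ReflTransGen.single h)⟩
      rw [hR]
      refine ⟨hU, hW', ?_⟩
      intro x hx y hy
      have hxu : x * u = u * x := klein_comm U hU hx huU
      rw [mem_fourOf] at hy
      rcases hy with rfl | rfl | rfl | rfl
      · simp
      · exact hxu
      · exact hzc x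
      · calc x * (u * z) = (x * u) * z := by group
          _ = (u * x) * z := by rw [hxu]
          _ = u * (x * z) := by group
          _ = u * (z * x) := by rw [hzc x]
          _ = u * z * x := by group
  intro U V hU hV
  obtain ⟨e₁, he₁, h11, h1z, hc₁⟩ := anchor U hU
  obtain ⟨e₂, he₂, h21, h2z, hc₂⟩ := anchor V hV
  have hmid : R (fourOf z e₁ hzz (hsq e₁ he₁) (hzc e₁).symm)
      (fourOf z e₂ hzz (hsq e₂ he₂) (hzc e₂).symm) := by
    rw [hR]
    refine ⟨fourOf_isKleinFour z e₁ _ _ _ hz1 h11 (Ne.symm h1z),
      fourOf_isKleinFour z e₂ _ _ _ hz1 h21 (Ne.symm h2z), ?_⟩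
    intro a ha b hb
    exact hEcomm a (hWE e₁ he₁ ha) b (hWE e₂ he₂ hb)
  have hsymmRTG : ∀ A B : Subgroup P, Relation.ReflTransGen R A B →
      Relation.ReflTransGen R B A := by
    intro A B h
    induction h with
    | refl => exact Relation.ReflTransGen.refl
    | tail _ hbc ih => exact Relation.ReflTransGen.head (hRsymm _ _ hbc) ih
  have hc₂' := hsymmRTG _ _ hc₂
  have := (hc₁.tail hmid).trans hc₂'
  rw [hR] at this
  exact this

end Cfsg.Agent.Lead
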