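import Mathlib
import Cfsg.Prelude.Def_Local
import Cfsg.Agent.Lead.PSolvC

set_option autoImplicit false

/-!
Two opposite transvections do not generate a finite `p`-solvable group, `p ≥ 5`.
-/

namespace Cfsg.Agent.Lead
namespace PSolvGL2

open scoped Pointwise
open Matrix
open Cfsg.Agent.Helper1 Cfsg.Agent.Helper1.OddGL2

variable {E : Type*} [Field E]

theorem invariant_line_of_pCore_ne_bot {p : ℕ} [hp : Fact p.Prime] [CharP E p]
    (L : Subgroup (GL (Fin 2) E)) [Finite L] (hO : Cfsg.pCore p L ≠ ⊥) :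
    ∃ v : Fin 2 → E, v ≠ 0 ∧ ∀ g ∈ L, ∃ c : E, (g : Matrix (Fin 2) (Fin 2) E).mulVec v = c • v := by
  obtain ⟨P, hP⟩ : ∃ P, P = Cfsg.pCore p L := ⟨_, rfl⟩
  rw [← hP] at hO
  haveI hPn : P.Normal := hP ▸ inferInstance
  have hPp : IsPGroup p P := hP ▸ pCore_isPGroup p
  haveI : Nontrivial P := (Subgroup.nontrivial_iff_ne_bot P).2 hO
  haveI := hPp.center_nontrivial
  obtain ⟨⟨z, hz⟩, hz1⟩ := exists_ne (1 : Subgroup.center ↥P)
  have hz1' : z ≠ 1 := fun h => hz1 (Subtype.ext h)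
  -- the matrix of `z`
  obtain ⟨Z, hZ⟩ : ∃ Z : Matrix (Fin 2) (Fin 2) E, Z = ((z : L) : GL (Fin 2) E) := ⟨_, rfl⟩
  have hZ1 : Z ≠ 1 := by
    intro h
    apply hz1'
    apply Subtype.ext; apply Subtype.ext; apply Units.ext
    rw [← hZ, h]; rfl
  -- every element of `P` is unipotent
  have hunip : ∀ u : P, ∃ k : ℕ, (((u : L) : GL (Fin 2) E) : Matrix (Fin 2) (Fin 2) E) ^ (p ^ k) = 1 := by
    intro u
    obtain ⟨k, hk⟩ := hPp u
    refine ⟨k, ?_⟩
    have := congrArg (fun w : P => (((w : L) : GL (Fin 2) E) : Matrix (Fin 2) (Fin 2) E)) hk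
    simpa using this
  obtain ⟨k, hk⟩ := hunip z
  rw [← hZ] at hk
  have hnil : (Z - 1) ^ (p ^ k) = 0 := by
    rw [sub_pow_char_pow_of_commute (p := p) (h := Commute.one_right Z), hk, one_pow, sub_self]
  obtain ⟨v, hv0, hv⟩ := exists_ne_zero_mulVec_eq_zero (Z - 1) _ hnil
  have hZv : Z.mulVec v = v := by
    have : (Z - 1).mulVec v = Z.mulVec v - v := by rw [Matrix.sub_mulVec, Matrix.one_mulVec]
    rw [this] at hv
    exact sub_eq_zero.1 hv
  have hZns : ∀ c : E, Z ≠ c • 1 := by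
    intro c hc
    have h1 : c ^ (p ^ k) = 1 := by
      rw [hc, smul_pow, one_pow] at hk
      have := congrFun (congrFun hk 0) 0
      simpa using this
    have := eq_one_of_pow_char_pow_eq_one (p := p) c k h1
    rw [this, one_smul] at hc
    exact hZ1 hc
  -- every element of `P` fixes `v`
  have hPv : ∀ u : P, (((u : L) : GL (Fin 2) E) : Matrix (Fin 2) (Fin 2) E).mulVec v = v := by
    intro u
    obtain ⟨U, hU⟩ : ∃ U : Matrix (Fin 2) (Fin 2) E, U = ((u : L) : GL (Fin 2) E) := ⟨_, rfl⟩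
    rw [← hU]
    have hcomm : Z * U = U * Z := by
      have h1 := Subgroup.mem_center_iff.1 hz u
      have := congrArg (fun w : P => (((w : L) : GL (Fin 2) E) : Matrix (Fin 2) (Fin 2) E)) h1
      rw [hZ, hU]
      simpa using this.symm
    obtain ⟨x, y, hxy⟩ := commutant_two Z U hZns hcomm
    have hUv : U.mulVec v = (x + y) • v := by
      rw [hxy, Matrix.add_mulVec, Matrix.smul_mulVec, Matrix.smul_mulVec,
        Matrix.one_mulVec, hZv, add_smul]
    obtain ⟨j, hj⟩ := hunip u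
    rw [← hU] at hj
    have hpow : ∀ n : ℕ, (U ^ n).mulVec v = (x + y) ^ n • v := by
      intro n
      induction n with
      | zero => simp
      | succ n ih => rw [pow_succ, ← Matrix.mulVec_mulVec, hUv, Matrix.mulVec_smul, ih, smul_smul,
          pow_succ, mul_comm]
    have h1 := hpow (p ^ j)
    rw [hj, Matrix.one_mulVec] at h1
    have h2 : (x + y) ^ (p ^ j) = 1 := by
      by_contra hne
      apply hv0
      have h3 : ((x + y) ^ (p ^ j) - 1) • v = 0 := by rw [sub_smul, one_smul, ← h1, sub_self]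
      rcases smul_eq_zero.1 h3 with h4 | h4
      · exact absurd (sub_eq_zero.1 h4) hne
      · exact h4
    rw [hUv, eq_one_of_pow_char_pow_eq_one (p := p) _ j h2, one_smul]
  refine ⟨v, hv0, ?_⟩
  intro g hg
  -- `g v` is fixed by `z`
  have h1 : Z.mulVec ((g : Matrix (Fin 2) (Fin 2) E).mulVec v) =
      (g : Matrix (Fin 2) (Fin 2) E).mulVec v := by
    -- `g⁻¹ z g ∈ P`
    have hconj : (⟨g, hg⟩ : L)⁻¹ * (z : L) * (⟨g, hg⟩ : L)⁻¹⁻¹ ∈ P := hPn.conj_mem _ z.2 _
    have h2 := hPv ⟨_, hconj⟩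
    have h3 : ((((⟨g, hg⟩ : L)⁻¹ * (z : L) * (⟨g, hg⟩ : L)⁻¹⁻¹ : L) : GL (Fin 2) E) :
        Matrix (Fin 2) (Fin 2) E) = ((g⁻¹ : GL (Fin 2) E) : Matrix (Fin 2) (Fin 2) E) * Z *
          (g : Matrix (Fin 2) (Fin 2) E) := by
      rw [hZ]; simp
    rw [h3] at h2
    have h4 := congrArg (fun w => (g : Matrix (Fin 2) (Fin 2) E).mulVec w) h2
    simp only [Matrix.mulVec_mulVec] at h4
    rw [← mul_assoc, ← mul_assoc, ← Units.val_mul, mul_inv_cancel, Units.val_one, one_mul] at h4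
    rw [Matrix.mulVec_mulVec]
    exact h4
  have hN0 : Z - 1 ≠ 0 := sub_ne_zero.2 hZ1
  have h5 : (Z - 1).mulVec ((g : Matrix (Fin 2) (Fin 2) E).mulVec v) = 0 := by
    rw [Matrix.sub_mulVec, Matrix.one_mulVec, h1, sub_self]
  exact exists_smul_of_mulVec_eq_zero (Z - 1) hN0 v _ hv0 hv h5

theorem no_invariant_line (X Y : GL (Fin 2) E) (c : E) (hc : c ≠ 0)
    (hX : (X : Matrix (Fin 2) (Fin 2) E) = !![1, c; 0, 1])
    (hY : (Y : Matrix (Fin 2) (Fin 2) E) = !![1, 0; 1, 1]) (v : Fin 2 → E) (hv0 : v ≠ 0)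
    (hv : ∀ g ∈ Subgroup.closure {X, Y}, ∃ c : E, (g : Matrix (Fin 2) (Fin 2) E).mulVec v = c • v) :
    False := by
  have hXL : X ∈ Subgroup.closure {X, Y} := Subgroup.subset_closure (by simp)
  have hYL : Y ∈ Subgroup.closure {X, Y} := Subgroup.subset_closure (by simp)
  obtain ⟨c₁, h1⟩ := hv X hXL
  obtain ⟨c₂, h2⟩ := hv Y hYL
  rw [hX] at h1
  rw [hY] at h2
  have e1 := congrFun h1 0
  have e2 := congrFun h1 1
  have e3 := congrFun h2 0
  have e4 := congrFun h2 1
  simp [Matrix.mulVec, dotProduct, Fin.sum_univ_two] at e1 e2 e3 e4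
  have hv1 : v 1 = 0 := by
    by_contra hne
    have hc1 : c₁ = 1 := by
      have : (c₁ - 1) * v 1 = 0 := by linear_combination -e2
      rcases mul_eq_zero.1 this with h | h
      · exact sub_eq_zero.1 h
      · exact absurd h hne
    rw [hc1, one_mul] at e1
    have : c * v 1 = 0 := by linear_combination e1
    rcases mul_eq_zero.1 this with h | h
    · exact hc h
    · exact hne h
  have hv0' : v 0 = 0 := by
    rw [hv1] at e4
    simpa using e4
  apply hv0
  ext i; fin_cases i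
  · exact hv0'
  · exact hv1

/-- two "opposite" transvections do not generate a finite `p`-solvable group, `p ≥ 5` -/
theorem two_transvections_psolv {p : ℕ} [hp : Fact p.Prime] [CharP E p] (hp5 : 5 ≤ p)
    (X Y : GL (Fin 2) E) (c : E) (hc : c ≠ 0)
    (hX : (X : Matrix (Fin 2) (Fin 2) E) = !![1, c; 0, 1])
    (hY : (Y : Matrix (Fin 2) (Fin 2) E) = !![1, 0; 1, 1])
    [Finite (Subgroup.closure {X, Y})]
    (hsol : Cfsg.IsPSolvable p (Subgroup.closure {X, Y})) : False := by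
  have hp2 : p ≠ 2 := by omega
  obtain ⟨μ, hμ⟩ : ∃ μ : Subgroup.closure {X, Y} →* Matrix (Fin 2) (Fin 2) E,
      ∀ g, μ g = ((g : GL (Fin 2) E) : Matrix (Fin 2) (Fin 2) E) :=
    ⟨(Units.coeHom _).comp (Subgroup.closure {X, Y}).subtype, fun g => rfl⟩
  have hμinj : Function.Injective μ := by
    intro a b hab
    rw [hμ, hμ] at hab
    exact Subtype.ext (Units.ext hab)
  have hXL : X ∈ Subgroup.closure {X, Y} := Subgroup.subset_closure (by simp)
  have hXp : X ^ p = 1 := Cfsg.Agent.Lead.Ab2GL2.upper_pow_char X c hX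
  have hX1 : X ≠ 1 := by
    intro h
    have h1 := congrArg (fun u : GL (Fin 2) E => (u : Matrix (Fin 2) (Fin 2) E) 0 1) h
    simp only [hX] at h1
    simp at h1
    exact hc h1
  have hord : orderOf X = p := orderOf_eq_prime hXp hX1
  have hpL : p ∣ Nat.card (Subgroup.closure {X, Y}) := by
    rw [← hord]
    exact Subgroup.orderOf_dvd_natCard _ hXL
  have hO := pCore_ne_bot_of_isPSolvable hp5 (hK_of_mat μ hp2 hμinj)
    (fun Q hQ => exists_abelian_index_two (μ.comp Q.subtype) hp2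
      (hμinj.comp Q.subtype_injective) hQ) hsol hpL
  obtain ⟨v, hv0, hv⟩ := invariant_line_of_pCore_ne_bot (p := p) (Subgroup.closure {X, Y}) hO
  exact no_invariant_line X Y c hc hX hY v hv0 hv

end PSolvGL2
end Cfsg.Agent.Lead
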