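import Mathlib
import Cfsg.Prelude.Def_PLocal
import Cfsg.Agent.Helper1.OddQuadratic
import Cfsg.Agent.Lead.Ab2Stmts
import Cfsg.Agent.Lead.PSolvD

set_option autoImplicit false

/-!
Quadratic action in `p`-solvable groups, `p ≥ 5`: `p`-stability.
-/

namespace Cfsg.Agent.Lead
namespace PSolvGL2

universe u
open scoped commutatorElement Pointwise
open Cfsg.Agent.Helper2 (cj)
open Cfsg.Agent.Helper1 Cfsg.Agent.Helper1.OddGL2

theorem transferPS {p : ℕ} [hp : Fact p.Prime] {G₁ G₂ : Type*} [Group G₁] [Group G₂] (S : Subgroup (G₁ × G₂))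
    (hS : ∀ b : G₂, ((1 : G₁), b) ∈ S → b = 1) (x y : G₁) (X Y : G₂) (hx : (x, X) ∈ S)
    (hy : (y, Y) ∈ S) [Finite (Subgroup.closure {x, y})]
    (hab : Cfsg.IsPSolvable p (Subgroup.closure {x, y})) :
    Finite (Subgroup.closure {X, Y}) ∧ Cfsg.IsPSolvable p (Subgroup.closure {X, Y}) := by
  obtain ⟨Γ, hΓ⟩ : ∃ Γ : Subgroup (G₁ × G₂), Γ = Subgroup.closure {(x, X), (y, Y)} := ⟨_, rfl⟩
  have hΓS : Γ ≤ S := by
    rw [hΓ, Subgroup.closure_le]
    rintro _ (rfl | rfl)
    · exact hx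
    · exact hy
  have h1 : Γ.map (MonoidHom.fst G₁ G₂) = Subgroup.closure {x, y} := by
    rw [hΓ, MonoidHom.map_closure]
    congr 1
    ext a
    simp [Set.image_pair]
  have h2 : Γ.map (MonoidHom.snd G₁ G₂) = Subgroup.closure {X, Y} := by
    rw [hΓ, MonoidHom.map_closure]
    congr 1
    ext a
    simp [Set.image_pair]
  have hinj : Function.Injective ((MonoidHom.fst G₁ G₂).subgroupMap Γ) := by
    rw [injective_iff_map_eq_one]
    rintro ⟨⟨a, b⟩, hab⟩ h
    have ha : a = 1 := congrArg Subtype.val h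
    subst ha
    have hb := hS b (hΓS hab)
    subst hb
    rfl
  rw [← h1] at hab
  have hfin1 : Finite (Γ.map (MonoidHom.fst G₁ G₂)) := by rw [h1]; infer_instance
  haveI : Finite Γ := Finite.of_injective _ hinj
  have habΓ : Cfsg.IsPSolvable p Γ := isPSolvable_of_injective _ hinj hab
  rw [← h2]
  have hsurj := (MonoidHom.snd G₁ G₂).subgroupMap_surjective Γ
  exact ⟨Finite.of_surjective _ hsurj, isPSolvable_of_surjective _ hsurj habΓ⟩

theorem isPGroupClosurePS {p : ℕ} [hp : Fact p.Prime] (hp5 : 5 ≤ p) {M : Type*}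
    [AddCommGroup M] [Module (ZMod p) M] [Finite M] (α β : Module.End (ZMod p) M)
    (hα : α * α = 0) (hβ : β * β = 0) (x y : M ≃ₗ[ZMod p] M) (hx : ∀ v, x v = v + α v)
    (hy : ∀ v, y v = v + β v) (hab : Cfsg.IsPSolvable p (Subgroup.closure {x, y})) :
    IsPGroup p (Subgroup.closure {x, y}) := by
  haveI : Finite (M ≃ₗ[ZMod p] M) :=
    Finite.of_injective (fun e => (e : M → M)) DFunLike.coe_injective
  apply Cfsg.Agent.Lead.Ab2GL2.isPGroupClosureGen (by omega) α β hα hβ x y hx hy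
  intro E _ _ X Y c hc hX hY S hS hxS hyS
  obtain ⟨hfin, hab'⟩ := transferPS S hS x y X Y hxS hyS hab
  exact two_transvections_psolv hp5 X Y c hc hX hY hab'

theorem eqOneQuadPS' {p : ℕ} [hp : Fact p.Prime] (hp5 : 5 ≤ p) {A : Type*} [CommGroup A]
    [Finite A] [Module (ZMod p) (Additive A)] {X : Type*} [Group X] (θ : X →* MulAut A) (a y : X)
    (hqa : ∀ v : A, θ a (θ a v * v⁻¹) * (θ a v * v⁻¹)⁻¹ = 1)
    (hqy : ∀ v : A, θ y (θ y v * v⁻¹) * (θ y v * v⁻¹)⁻¹ = 1)
    [Finite (Subgroup.closure {a, y})]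
    (hab : Cfsg.IsPSolvable p (Subgroup.closure {a, y}))
    (d : X) (hd : d ∈ Subgroup.closure {a, y}) (hdp : (orderOf d).Coprime p) : θ d = 1 := by
  obtain ⟨ρ, hρ⟩ := exists_linRep (A := A) p
  obtain ⟨Φ, hΦ⟩ : ∃ Φ, Φ = ρ.comp θ := ⟨_, rfl⟩
  have hΦa : ∀ (g : X) (v : Additive A), Φ g v = Additive.ofMul (θ g (Additive.toMul v)) := by
    intro g v; rw [hΦ]; exact hρ _ _
  have key : ∀ g : X, (∀ v : A, θ g (θ g v * v⁻¹) * (θ g v * v⁻¹)⁻¹ = 1) →
      ((Φ g : Module.End (ZMod p) (Additive A)) - 1) * ((Φ g : Module.End (ZMod p) (Additive A)) - 1)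
        = 0 := by
    intro g hg
    apply LinearMap.ext
    intro v
    have h1 : ∀ w : Additive A, ((Φ g : Module.End (ZMod p) (Additive A)) - 1) w =
        Additive.ofMul (θ g (Additive.toMul w) * (Additive.toMul w)⁻¹) := by
      intro w
      rw [LinearMap.sub_apply, Module.End.one_apply]
      show Φ g w - w = _
      rw [hΦa, sub_eq_add_neg]
      rfl
    rw [Module.End.mul_apply, h1, h1]
    show Additive.ofMul _ = 0
    simp only [toMul_ofMul]
    rw [hg]; rfl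
  have hxv : ∀ g : X, ∀ v : Additive A,
      Φ g v = v + ((Φ g : Module.End (ZMod p) (Additive A)) - 1) v := by
    intro g v
    rw [LinearMap.sub_apply, Module.End.one_apply]
    show Φ g v = v + (Φ g v - v)
    abel
  have hcl : Subgroup.closure {Φ a, Φ y} = (Subgroup.closure {a, y}).map Φ := by
    rw [MonoidHom.map_closure, Set.image_pair]
  have hsurj := Φ.subgroupMap_surjective (Subgroup.closure {a, y})
  have hab' : Cfsg.IsPSolvable p (Subgroup.closure {Φ a, Φ y}) := by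
    rw [hcl]; exact isPSolvable_of_surjective _ hsurj hab
  have hpg := isPGroupClosurePS hp5 _ _ (key a hqa) (key y hqy) (Φ a) (Φ y)
    (hxv a) (hxv y) hab'
  have hdm : Φ d ∈ Subgroup.closure {Φ a, Φ y} := by
    rw [hcl]; exact Subgroup.mem_map_of_mem _ hd
  obtain ⟨k, hk⟩ := hpg ⟨Φ d, hdm⟩
  have hk' : (Φ d) ^ (p ^ k) = 1 := congrArg Subtype.val hk
  have ho : (Φ d) ^ (orderOf d) = 1 := by rw [← map_pow, pow_orderOf_eq_one, map_one]
  have h1 := pow_gcd_eq_one.2 ⟨hk', ho⟩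
  rw [Nat.Coprime.gcd_eq_one (Nat.Coprime.pow_left k hdp.symm), pow_one] at h1
  ext v
  have h2 := hΦa d (Additive.ofMul v)
  rw [h1] at h2
  exact (congrArg Additive.toMul h2).symm

theorem eqOneQuadPS {p : ℕ} [hp : Fact p.Prime] (hp5 : 5 ≤ p) {A : Type*} [CommGroup A]
    [Finite A] (hA : ∀ a : A, a ^ p = 1) {X : Type*} [Group X] (θ : X →* MulAut A) (a y : X)
    (hqa : ∀ v : A, θ a (θ a v * v⁻¹) * (θ a v * v⁻¹)⁻¹ = 1)
    (hqy : ∀ v : A, θ y (θ y v * v⁻¹) * (θ y v * v⁻¹)⁻¹ = 1)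
    [Finite (Subgroup.closure {a, y})]
    (hab : Cfsg.IsPSolvable p (Subgroup.closure {a, y}))
    (d : X) (hd : d ∈ Subgroup.closure {a, y}) (hdp : (orderOf d).Coprime p) : θ d = 1 := by
  let inst : Module (ZMod p) (Additive A) := AddCommGroup.zmodModule (n := p) (fun x => by
    show Additive.ofMul ((Additive.toMul x) ^ p) = 0
    rw [hA]; rfl)
  exact eqOneQuadPS' hp5 θ a y hqa hqy hab d hd hdp

theorem centralizesElemPS {X : Type u} [Group X] [Finite X] {p : ℕ}
    [hp : Fact p.Prime] (hp5 : 5 ≤ p) (V : Subgroup X) [hVn : V.Normal]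
    (hVab : ∀ u ∈ V, ∀ v ∈ V, u * v = v * u) (hVp : ∀ v ∈ V, v ^ p = 1) (a y : X)
    (hqa : ⁅⁅V, Subgroup.zpowers a⁆, Subgroup.zpowers a⁆ = ⊥)
    (hqy : ⁅⁅V, Subgroup.zpowers y⁆, Subgroup.zpowers y⁆ = ⊥)
    (hab : Cfsg.IsPSolvable p (Subgroup.closure {a, y}))
    (d : X) (hd : d ∈ Subgroup.closure {a, y}) (hdp : (orderOf d).Coprime p) :
    d ∈ Subgroup.centralizer (V : Set X) := by
  letI : CommGroup V := { (inferInstance : Group V) with
    mul_comm := fun u v => Subtype.ext (hVab u u.2 v v.2) }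
  have hA : ∀ v : V, v ^ p = 1 := fun v => Subtype.ext (hVp v v.2)
  have key : ∀ g : X, ⁅⁅V, Subgroup.zpowers g⁆, Subgroup.zpowers g⁆ = ⊥ → ∀ v : V,
      (MulAut.conjNormal (H := V) g) ((MulAut.conjNormal (H := V) g) v * v⁻¹) *
        ((MulAut.conjNormal (H := V) g) v * v⁻¹)⁻¹ = 1 := by
    intro g hg v
    apply Subtype.ext
    have := quadratic_elementwise V g hg v v.2
    simp only [Subgroup.coe_mul, Subgroup.coe_inv, MulAut.conjNormal_apply, Subgroup.coe_one]
    exact this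
  have h1 := eqOneQuadPS hp5 hA (MulAut.conjNormal (H := V)) a y (key a hqa) (key y hqy)
    hab d hd hdp
  rw [Subgroup.mem_centralizer_iff]
  intro v hv
  have h2 := congrArg (fun f : MulAut V => ((f ⟨v, hv⟩ : V) : X)) h1
  simp only [MulAut.conjNormal_apply, MulAut.one_apply] at h2
  calc v * d = (d * v * d⁻¹) * d := by rw [h2]
    _ = d * v := by group

theorem centralizesQuadPS {X : Type u} [Group X] [Finite X] {p : ℕ}
    [hp : Fact p.Prime] (hp5 : 5 ≤ p) (V : Subgroup X) [hVn : V.Normal] (hV : IsPGroup p V)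
    (a y : X)
    (hqa : ⁅⁅V, Subgroup.zpowers a⁆, Subgroup.zpowers a⁆ = ⊥)
    (hqy : ⁅⁅V, Subgroup.zpowers y⁆, Subgroup.zpowers y⁆ = ⊥)
    (hab : Cfsg.IsPSolvable p (Subgroup.closure {a, y}))
    (d : X) (hd : d ∈ Subgroup.closure {a, y}) (hdp : (orderOf d).Coprime p) :
    d ∈ Subgroup.centralizer (V : Set X) := by
  obtain ⟨Φ, hΦ⟩ : ∃ Φ : Subgroup X, Φ = (frattini V).map V.subtype := ⟨_, rfl⟩
  have hNV : Subgroup.normalizer (V : Set X) = ⊤ := Subgroup.normalizer_eq_top_iff.2 hVn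
  haveI hΦn : Φ.Normal := by
    rw [← Subgroup.normalizer_eq_top_iff, eq_top_iff, ← hNV, hΦ]
    exact le_normalizer_map_of_characteristic V (frattini V)
  obtain ⟨π, hπ⟩ : ∃ π : X →* X ⧸ Φ, π = QuotientGroup.mk' Φ := ⟨_, rfl⟩
  have hπs : Function.Surjective π := hπ ▸ QuotientGroup.mk'_surjective Φ
  have hker : ∀ x : X, π x = 1 ↔ x ∈ Φ := by
    intro x; rw [hπ]; exact QuotientGroup.eq_one_iff x
  haveI : Finite V := inferInstance
  have hcomm : ∀ u ∈ V, ∀ v ∈ V, u * v * u⁻¹ * v⁻¹ ∈ Φ := by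
    intro u hu v hv
    rw [hΦ]
    refine ⟨⁅(⟨u, hu⟩ : V), ⟨v, hv⟩⁆, ?_, ?_⟩
    · apply IsPGroup.commutator_le_frattini hV
      rw [commutator_def]
      exact Subgroup.commutator_mem_commutator (Subgroup.mem_top _) (Subgroup.mem_top _)
    · simp [commutatorElement_def]
  have hpow : ∀ v ∈ V, v ^ p ∈ Φ := by
    intro v hv
    rw [hΦ]
    exact ⟨(⟨v, hv⟩ : V) ^ p, IsPGroup.pow_mem_frattini hV _, by simp⟩
  haveI hVπn : (V.map π).Normal := hVn.map π hπs
  have hquad : ∀ g : X, ⁅⁅V, Subgroup.zpowers g⁆, Subgroup.zpowers g⁆ = ⊥ →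
      ⁅⁅V.map π, Subgroup.zpowers (π g)⁆, Subgroup.zpowers (π g)⁆ = ⊥ := by
    intro g hg
    rw [← MonoidHom.map_zpowers, ← Subgroup.map_commutator, ← Subgroup.map_commutator, hg,
      Subgroup.map_bot]
  have hcl : Subgroup.closure {π a, π y} = (Subgroup.closure {a, y}).map π := by
    rw [MonoidHom.map_closure, Set.image_pair]
  have hsurj := π.subgroupMap_surjective (Subgroup.closure {a, y})
  have hab' : Cfsg.IsPSolvable p (Subgroup.closure {π a, π y}) := by
    rw [hcl]; exact isPSolvable_of_surjective _ hsurj hab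
  have hdm : π d ∈ Subgroup.closure {π a, π y} := by
    rw [hcl]; exact Subgroup.mem_map_of_mem _ hd
  have hdp' : (orderOf (π d)).Coprime p := hdp.coprime_dvd_left (orderOf_map_dvd π d)
  have h1 := centralizesElemPS hp5 (V.map π)
    (by
      rintro _ ⟨u, hu, rfl⟩ _ ⟨v, hv, rfl⟩
      have := (hker _).2 (hcomm u hu v hv)
      rw [map_mul, map_mul, map_mul, map_inv, map_inv] at this
      have h2 := congrArg (· * (π v * π u)) this
      simpa [mul_assoc] using h2)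
    (by
      rintro _ ⟨v, hv, rfl⟩
      rw [← map_pow]
      exact (hker _).2 (hpow v hv))
    (π a) (π y) (hquad a hqa) (hquad y hqy) hab' (π d) hdm hdp'
  have h2 : Subgroup.zpowers d ≤ Subgroup.centralizer (V : Set X) := by
    apply frattini_coprime_trivial (Subgroup.zpowers d) V
    · rw [hNV]; exact le_top
    · rw [Nat.card_zpowers]
      obtain ⟨k, hk⟩ := IsPGroup.iff_card.1 (hV.to_subgroup (frattini V))
      rw [hk]
      exact Nat.Coprime.pow_right k hdp
    · intro g hg v hv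
      rw [← hΦ, ← hker]
      have hg' : π g ∈ Subgroup.centralizer ((V.map π : Subgroup (X ⧸ Φ)) : Set (X ⧸ Φ)) := by
        obtain ⟨n, rfl⟩ := hg
        rw [map_zpow]
        exact Subgroup.zpow_mem _ h1 n
      have h3 := (Subgroup.mem_centralizer_iff.1 hg') (π v) (Subgroup.mem_map_of_mem π hv)
      rw [map_mul, map_mul, map_mul, map_inv, map_inv, ← h3]
      group
  exact h2 (Subgroup.mem_zpowers d)

theorem isPStableOnPS {X : Type u} [Group X] [Finite X] {p : ℕ} [hp : Fact p.Prime]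
    (hp5 : 5 ≤ p) (hab : Cfsg.IsPSolvable p X) (V : Subgroup X)
    [hVn : V.Normal] (hV : IsPGroup p V) : Cfsg.IsPStableOn p V := by
  intro a hq
  obtain ⟨k, hk⟩ := IsPGroup.iff_card.1 hV
  have ha : a ^ (p ^ k) ∈ Subgroup.centralizer (V : Set X) := by
    rw [← hk]; exact PStableStruct.pow_card_mem_centralizer_of_quadratic V a hq
  obtain ⟨c, hca, ⟨j, hcj⟩, hcd⟩ := ZJFact.exists_pPart_mod (Subgroup.centralizer (V : Set X)) a k ha
  have hcle : Subgroup.zpowers c ≤ Subgroup.zpowers a := (Subgroup.zpowers_le).2 hca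
  have hqc : ⁅⁅V, Subgroup.zpowers c⁆, Subgroup.zpowers c⁆ = ⊥ := by
    rw [eq_bot_iff, ← hq]
    exact Subgroup.commutator_mono (Subgroup.commutator_mono le_rfl hcle) hcle
  have h3 : (QuotientGroup.mk c : X ⧸ Subgroup.centralizer (V : Set X)) = QuotientGroup.mk a :=
    QuotientGroup.eq.2 hcd
  rw [← h3]
  obtain ⟨π, hπ⟩ : ∃ π : X →* X ⧸ Subgroup.centralizer (V : Set X),
      π = QuotientGroup.mk' (Subgroup.centralizer (V : Set X)) := ⟨_, rfl⟩
  have hπs : Function.Surjective π := hπ ▸ QuotientGroup.mk'_surjective _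
  have hker : ∀ x : X, π x = 1 ↔ x ∈ Subgroup.centralizer (V : Set X) := by
    intro x; rw [hπ]; exact QuotientGroup.eq_one_iff x
  have hgoal : (QuotientGroup.mk c : X ⧸ Subgroup.centralizer (V : Set X)) = π c := by
    rw [hπ]; rfl
  rw [hgoal]
  have hAp : IsPGroup p (Subgroup.zpowers (π c)) := by
    have h1 : orderOf (π c) ∣ p ^ j :=
      orderOf_dvd_of_pow_eq_one (by rw [← map_pow, hcj, map_one])
    obtain ⟨i, -, hi⟩ := (Nat.dvd_prime_pow hp.out).1 h1
    apply IsPGroup.of_card (n := i)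
    rw [Nat.card_zpowers, hi]
  obtain ⟨N, hNn, hNp, hle⟩ := Cfsg.Agent.Helper2.baer_suzuki (Subgroup.zpowers (π c)) hAp (by
    intro gbar
    obtain ⟨g, rfl⟩ := hπs gbar
    obtain ⟨y, hy⟩ : ∃ y : X, y = g * c * g⁻¹ := ⟨_, rfl⟩
    have hqy : ⁅⁅V, Subgroup.zpowers y⁆, Subgroup.zpowers y⁆ = ⊥ := hy ▸ quadratic_conj V c g hqc
    have e1 : cj (π g) (Subgroup.zpowers (π c)) = Subgroup.zpowers (π y) := by
      show (Subgroup.zpowers (π c)).map (MulAut.conj (π g)).toMonoidHom = _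
      rw [MonoidHom.map_zpowers, hy, map_mul, map_mul, map_inv]
      rfl
    have e2 : Subgroup.zpowers (π c) ⊔ Subgroup.zpowers (π y) =
        (Subgroup.closure {c, y}).map π := by
      rw [MonoidHom.map_closure, Set.image_pair, Subgroup.zpowers_eq_closure,
        Subgroup.zpowers_eq_closure, ← Subgroup.closure_union]
      rfl
    rw [e1, e2]
    have habD : Cfsg.IsPSolvable p (Subgroup.closure {c, y}) := Cfsg.Agent.Helper4.isPSolvable_subgroup hab _
    rintro ⟨_, ⟨d, hd, rfl⟩⟩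
    obtain ⟨i, m, hm, him⟩ := Nat.exists_eq_pow_mul_and_not_dvd (orderOf_pos d).ne' p hp.out.ne_one
    refine ⟨i, ?_⟩
    apply Subtype.ext
    show (π d) ^ (p ^ i) = 1
    rw [← map_pow, hker]
    apply centralizesQuadPS hp5 V hV c y hqc hqy habD (d ^ (p ^ i))
      (Subgroup.pow_mem _ hd _)
    have ho : orderOf (d ^ (p ^ i)) = m := by
      rw [orderOf_pow' d (pow_ne_zero i hp.out.ne_zero), him, Nat.gcd_mul_right_left,
        Nat.mul_div_cancel_left _ (pow_pos hp.out.pos i)]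
    rw [ho]
    exact ((Nat.Prime.coprime_iff_not_dvd hp.out).2 hm).symm)
  exact le_pCore hNn hNp (hle (Subgroup.mem_zpowers _))


theorem isPStableOnSectionPS {X : Type u} [Group X] [Finite X] {p : ℕ} [hp : Fact p.Prime]
    (hp5 : 5 ≤ p) (hab : Cfsg.IsPSolvable p X) (K N : Subgroup X) [hKn : K.Normal] [hNn : N.Normal]
    (hK : IsPGroup p K) : Cfsg.IsPStableOnSection p K N := by
  intro a hq
  have hπs : Function.Surjective (QuotientGroup.mk' N) := QuotientGroup.mk'_surjective N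
  have habQ : Cfsg.IsPSolvable p (X ⧸ N) := isPSolvable_of_surjective _ hπs hab
  haveI hKπn : (K.map (QuotientGroup.mk' N)).Normal := hKn.map _ hπs
  have hKπp : IsPGroup p (K.map (QuotientGroup.mk' N)) := hK.map _
  have hquad : ⁅⁅K.map (QuotientGroup.mk' N), Subgroup.zpowers ((QuotientGroup.mk' N) a)⁆,
      Subgroup.zpowers ((QuotientGroup.mk' N) a)⁆ = ⊥ := by
    rw [← MonoidHom.map_zpowers, ← Subgroup.map_commutator, ← Subgroup.map_commutator,
      eq_bot_iff]
    rintro _ ⟨x, hx, rfl⟩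
    rw [Subgroup.mem_bot, ← MonoidHom.mem_ker, QuotientGroup.ker_mk']
    exact hq hx
  have hst := isPStableOnPS hp5 habQ (K.map (QuotientGroup.mk' N)) hKπp _ hquad
  exact Cfsg.Agent.Lead.Ab2GL2.sectionAux (QuotientGroup.mk' N) hπs
    (Subgroup.centralizer ((K.map (QuotientGroup.mk' N) : Subgroup (X ⧸ N)) : Set (X ⧸ N))) p a hst

/-- S0625 -/
theorem s0625 {G : Type*} [Group G] [Finite G] {p : ℕ} [Fact p.Prime] (hp : 5 ≤ p)
    (hsep : Cfsg.IsPSolvable p G) : Cfsg.IsActionPStable p G := by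
  refine ⟨?_, ?_, ?_⟩
  · intro V hVn hV
    apply isPStableOnPS hp hsep V
    intro v
    refine ⟨1, ?_⟩
    rw [pow_one]
    exact Subtype.ext (hV.2 v v.2)
  · exact isPStableOnSectionPS hp hsep _ _ (pCore_isPGroup p)
  · intro S V hVn hle
    apply isPStableOnPS hp (Cfsg.Agent.Helper4.isPSolvable_subgroup hsep _) V
    rintro ⟨x, hx⟩
    have h1 : ((x : G)) ∈ (S : Subgroup G) := by
      have h3 := hle ⟨x, hx, rfl⟩
      exact Subgroup.map_subtype_le _ h3
    obtain ⟨k, hk⟩ := S.2 ⟨_, h1⟩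
    have h5 : (x : G) ^ (p ^ k) = 1 := congrArg Subtype.val hk
    refine ⟨k, ?_⟩
    apply Subtype.ext
    apply Subtype.ext
    simp only [Subgroup.coe_pow, Subgroup.coe_one]
    exact h5

end PSolvGL2
end Cfsg.Agent.Lead
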