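import Cfsg.Agent.Lead.FpqFC

/-!
S4306: the case `[T, f] = 1`, `[Q, F] = Q`, `Q` abelian.
-/

set_option autoImplicit false
set_option linter.style.haveILetI false
set_option linter.unusedSectionVars false

namespace Cfsg.Agent.Lead.Fpq

open scoped BigOperators commutatorElement
open Classical
open Cfsg.Agent.Lead.S3F

section group

variable {Γ : Type*} [Group Γ]

/-- an element commuting with `f` commutes with the powers of `f`. -/
theorem commute_zpowers {f x φ : Γ} (hx : f * x = x * f) (hφ : φ ∈ Subgroup.zpowers f) :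
    φ * x = x * φ := by
  have h2 : Subgroup.zpowers f ≤ Subgroup.centralizer {x} := by
    rw [Subgroup.zpowers_le, Subgroup.mem_centralizer_singleton_iff]
    exact hx
  have h3 := h2 hφ
  rw [Subgroup.mem_centralizer_singleton_iff] at h3
  exact h3

theorem pow_eq_one_of_mem_zpowers {f φ : Γ} {p : ℕ} (hf : f ^ p = 1)
    (hφ : φ ∈ Subgroup.zpowers f) : φ ^ p = 1 := by
  obtain ⟨n, rfl⟩ := Subgroup.mem_zpowers_iff.1 hφ
  rw [← zpow_natCast, ← zpow_mul, mul_comm, zpow_mul, zpow_natCast, hf, one_zpow]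

/-- an element of a `t`-group lies in every subgroup containing its `p`-th power. -/
theorem mem_of_pow_mem_of_isPGroup [Finite Γ] {t p : ℕ} (ht : t.Prime) (hp : p.Prime)
    (htp : t ≠ p) (T S : Subgroup Γ) (hT : IsPGroup t T) {u : Γ} (hu : u ∈ T)
    (h : u ^ p ∈ S) : u ∈ S := by
  obtain ⟨j, hj⟩ := hT ⟨u, hu⟩
  have h1 : u ^ t ^ j = 1 := by
    have := congrArg Subtype.val hj
    simpa using this
  have h2 : orderOf u ∣ t ^ j := orderOf_dvd_of_pow_eq_one h1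
  have hcop : p.Coprime (orderOf u) := by
    apply Nat.Coprime.coprime_dvd_right h2
    apply Nat.Coprime.pow_right
    rw [Nat.coprime_primes hp ht]
    exact htp.symm
  obtain ⟨m, hm⟩ := exists_pow_eq_self_of_coprime hcop
  rw [← hm]
  exact S.pow_mem h m

end group

variable {k : Type*} [Field k] {Γ : Type*} [Group Γ] [Fintype Γ]
  {W : Type*} [AddCommGroup W] [Module k W] (ρ : Representation k Γ W)
  {p q m : ℕ} {𝔸 Q T : Subgroup Γ} {f h : Γ} {s t : ℕ}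

omit [Fintype Γ] in
/-- a conjugate of a weight is a weight. -/
theorem isWt_conj (E : Subgroup Γ) (g : Γ) (hg : g ∈ Subgroup.normalizer (E : Set Γ))
    (χ : E →* kˣ) (hχ : IsWt ρ E χ) : IsWt ρ E (conjChar E g hg χ) := by
  obtain ⟨u, hu, hu0⟩ := hχ
  refine ⟨ρ g u, rho_mem_wtSpace ρ E g hg χ u hu, ?_⟩
  intro h0
  apply hu0
  have := congrArg (ρ g⁻¹) h0
  rwa [rho_rho, inv_mul_cancel, map_one, Module.End.one_apply, map_zero] at this

omit [Fintype Γ] in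
/-- a weight on whose weight space `E` acts trivially is trivial. -/
theorem char_eq_one_of_le_fixer (E : Subgroup Γ) (χ : E →* kˣ) (hχ : IsWt ρ E χ)
    (hE : E ≤ fixer ρ (wtSpace ρ E χ)) : ∀ e : E, χ e = 1 := by
  intro e
  obtain ⟨u, hu, hu0⟩ := hχ
  have h1 := hu e
  rw [hE e.2 u hu] at h1
  have h2 : ((χ e : kˣ) : k) = 1 := by
    by_contra hne
    apply hu0
    have h3 : (((χ e : kˣ) : k) - 1) • u = 0 := by rw [sub_smul, one_smul, ← h1, sub_self]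
    rcases smul_eq_zero.1 h3 with h4 | h4
    · exact absurd (sub_eq_zero.1 h4) hne
    · exact h4
  exact Units.ext h2

omit [Fintype Γ] in
/-- the common end of several cases. -/
theorem false_of_le_fixer (Z Q : Subgroup Γ) (hZQ : Z ≤ Q)
    (hCW : ∀ w : W, (∀ e ∈ Z, ρ e w = w) → w = 0) (μ : Z →* kˣ) (hμ : IsWt ρ Z μ)
    (h : Q ≤ fixer ρ (wtSpace ρ Z μ)) : False :=
  not_isWt_of_char_eq_one ρ Z hCW μ (char_eq_one_of_le_fixer ρ Z μ hμ (hZQ.trans h)) hμ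

/-- **Case `[T, f] = 1`, `[Q, F] = Q`, `Q` abelian.** -/
theorem false_caseT_abelian (g : FrobGen p q m 𝔸 f h) (hpk : (p : k) ≠ 0) (hqk : (q : k) ≠ 0)
    (hfix : NoFixA ρ 𝔸) (pr : Pair 𝔸 Q T s t)
    (hQc : ∀ a ∈ Q, ∀ b ∈ Q, a * b = b * a) (hQk : (Fintype.card Q : k) ≠ 0)
    [HasEnoughRootsOfUnity k (Monoid.exponent Q)]
    (hfaith : ∀ x ∈ Q, ρ x = 1 → x = 1)
    (hCW : ∀ w : W, (∀ e ∈ Q, ρ e w = w) → w = 0)
    (hTf : ∀ x ∈ T, f * x = x * f)
    (hQF : ⁅Q, Subgroup.zpowers f⁆ = Q)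
    (hTh : ∀ x ∈ T, h * x * h⁻¹ = x → x = 1) (htp : t ≠ p) : False := by
  have r := g.toFrobRel
  have hfQ : f ∈ Subgroup.normalizer (Q : Set Γ) := pr.AQ g.f_mem
  have hhT : h ∈ Subgroup.normalizer (T : Set Γ) := pr.AT g.h_mem
  have hFQ : Subgroup.zpowers f ≤ Subgroup.normalizer (Q : Set Γ) := g.zpowers_le.trans pr.AQ
  -- no weight is fixed by `f`
  have hmove : ∀ χ : Q →* kˣ, IsWt ρ Q χ → f ∉ charStab Q χ := by
    intro χ hχ hf
    have h1 : Subgroup.zpowers f ≤ charStab Q χ := Subgroup.zpowers_le.2 hf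
    exact not_isWt_of_char_eq_one ρ Q hCW χ
      (char_eq_one_of_le_charStab Q _ χ h1 hQF) hχ
  -- every weight is fixed by a conjugate of `h` under `⟨f⟩`
  have hconj : ∀ χ : Q →* kˣ, IsWt ρ Q χ →
      ∃ a ∈ Subgroup.zpowers f, a * h * a⁻¹ ∈ charStab Q χ := by
    intro χ hχ
    rcases stab_cases ρ g hpk hqk hfix Q hQk pr.AQ χ hχ with h1 | h1 | h1
    · exact absurd h1.1 (hmove χ hχ)
    · exact absurd h1.1 (hmove χ hχ)
    · obtain ⟨_, a, ha, ha', _⟩ := h1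
      exact ⟨a, ha, ha'⟩
  obtain ⟨lam, hlam⟩ := exists_isWt ρ Q hQc hQk hfaith pr.Q_ne_bot
  obtain ⟨a, ha, haS⟩ := hconj lam hlam
  -- the key: `h⁻¹ x⁻¹ h x` fixes `lam`
  have hkey : ∀ x ∈ T, h⁻¹ * x⁻¹ * h * x ∈ charStab Q lam := by
    intro x hx
    have hxQ := pr.TQ hx
    obtain ⟨b, hb, hbS⟩ := hconj _ (isWt_conj ρ Q x hxQ lam hlam)
    have h2 := charStab_conj_inv Q hxQ hbS
    have he : (a * h * a⁻¹)⁻¹ * (x⁻¹ * (b * h * b⁻¹) * x) ∈ charStab Q lam :=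
      Subgroup.mul_mem _ (Subgroup.inv_mem _ haS) h2
    obtain ⟨u, hu⟩ : ∃ u, u = h⁻¹ * x⁻¹ * h * x := ⟨_, rfl⟩
    have huT : u ∈ T := by
      rw [hu]
      have := conj_mem_of_mem_normalizer' (Subgroup.inv_mem _ hhT) (T.inv_mem hx)
      rw [inv_inv] at this
      exact T.mul_mem this hx
    obtain ⟨ψ, hψ⟩ : ∃ ψ, ψ = h⁻¹ * (a⁻¹ * b) * h := ⟨_, rfl⟩
    have hψF : ψ ∈ Subgroup.zpowers f := by
      rw [hψ]
      have h3 : a⁻¹ * b ∈ Subgroup.zpowers f :=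
        Subgroup.mul_mem _ (Subgroup.inv_mem _ ha) hb
      have := conj_mem_of_mem_normalizer' (Subgroup.inv_mem _ r.h_mem_normalizer) h3
      rwa [inv_inv] at this
    have c1 : a⁻¹ * x⁻¹ = x⁻¹ * a⁻¹ := by
      have := commute_zpowers (hTf x hx) ha
      rw [← mul_inv_rev, ← mul_inv_rev, this]
    have c2 : b⁻¹ * x = x * b⁻¹ := commute_zpowers (hTf x hx) (Subgroup.inv_mem _ hb)
    have c3 : ψ * x = x * ψ := commute_zpowers (hTf x hx) hψF
    have c4 : a * u = u * a := commute_zpowers (hTf u huT) ha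
    obtain ⟨φ, hφ⟩ : ∃ φ, φ = a * ψ * b⁻¹ := ⟨_, rfl⟩
    have hφF : φ ∈ Subgroup.zpowers f := by
      rw [hφ]
      exact Subgroup.mul_mem _ (Subgroup.mul_mem _ ha hψF) (Subgroup.inv_mem _ hb)
    have hid : (a * h * a⁻¹)⁻¹ * (x⁻¹ * (b * h * b⁻¹) * x) = u * φ := by
      calc (a * h * a⁻¹)⁻¹ * (x⁻¹ * (b * h * b⁻¹) * x)
          = a * h⁻¹ * (a⁻¹ * x⁻¹) * b * h * (b⁻¹ * x) := by group
        _ = a * h⁻¹ * (x⁻¹ * a⁻¹) * b * h * (x * b⁻¹) := by rw [c1, c2]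
        _ = a * (h⁻¹ * x⁻¹ * h) * (ψ * x) * b⁻¹ := by rw [hψ]; group
        _ = a * (h⁻¹ * x⁻¹ * h) * (x * ψ) * b⁻¹ := by rw [c3]
        _ = (a * u) * ψ * b⁻¹ := by rw [hu]; group
        _ = (u * a) * ψ * b⁻¹ := by rw [c4]
        _ = u * φ := by rw [hφ]; group
    rw [hid] at he
    have hcomm : Commute u φ := (commute_zpowers (hTf u huT) hφF).symm
    have hpow : (u * φ) ^ p = u ^ p := by
      rw [hcomm.mul_pow, pow_eq_one_of_mem_zpowers r.fp hφF, mul_one]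
    have h4 : u ^ p ∈ charStab Q lam := by
      rw [← hpow]; exact Subgroup.pow_mem _ he p
    rw [← hu]
    exact mem_of_pow_mem_of_isPGroup pr.ht r.hp htp T _ pr.Tt huT h4
  -- hence `T` fixes `lam`
  have hTS : T ≤ charStab Q lam := by
    intro y hy
    have hhi : ∀ x ∈ T, h⁻¹ * x * h⁻¹⁻¹ ∈ T := fun x hx =>
      conj_mem_of_mem_normalizer' (Subgroup.inv_mem _ hhT) hx
    have hfree : ∀ x ∈ T, h⁻¹ * x * h⁻¹⁻¹ = x → x = 1 := by
      intro x hx h1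
      apply hTh x hx
      rw [inv_inv] at h1
      calc h * x * h⁻¹ = h * (h⁻¹ * x * h) * h⁻¹ := by rw [h1]
        _ = x := by group
    obtain ⟨x, hx, hxe⟩ := exists_eq_inv_mul_conj T h⁻¹ hhi hfree y⁻¹ (T.inv_mem hy)
    have h5 : y = h⁻¹ * x⁻¹ * h * x := by
      have : y = (y⁻¹)⁻¹ := (inv_inv y).symm
      rw [this, hxe]; group
    rw [h5]
    exact hkey x hx
  exact not_isWt_of_char_eq_one ρ Q hCW lam
    (char_eq_one_of_le_charStab Q T lam hTS pr.comm_eq) hlam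

end Cfsg.Agent.Lead.Fpq
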