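import Mathlib
import Cfsg.Agent.Helper3.ShAbsA

/-!
S4306: Shult's theorem for a faithful representation over an algebraically closed field
(adapted from `Cfsg.Agent.Helper3.Shult.shult_abs_B`), and its form for a submodule of a
representation that need not be faithful.
-/

set_option autoImplicit false
set_option linter.style.haveILetI false
set_option linter.unusedSectionVars false

namespace Cfsg.Agent.Lead.Fpq

open Module Cfsg.Agent.Helper3.Shult Cfsg.Agent.Helper3.FrobActC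

set_option maxHeartbeats 1000000 in
/-- **Shult's theorem**, for a representation faithful on `Q`. -/
theorem shult_faithful {K : Type*} [Field K] [IsAlgClosed K] {V : Type*} [AddCommGroup V]
    [Module K V] [FiniteDimensional K V] {Γ : Type*} [Group Γ] (ρ : Representation K Γ V)
    (q r : ℕ) (hq : q.Prime) (hr : r.Prime) (hqr : q ≠ r) (hqK : (q : K) ≠ 0)
    (hrK : (r : K) ≠ 0) (x : Γ) (hx : x ^ r = 1) (Q : Subgroup Γ) [Finite Q]
    (hQ : IsPGroup q Q) (hfaith : ∀ g ∈ Q, ρ g = 1 → g = 1)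
    (hxQ : ∀ g ∈ Q, x * g * x⁻¹ ∈ Q) (hnc : ∃ g ∈ Q, x * g * x⁻¹ ≠ g)
    (hfix : ∀ w, ρ x w = w → w = 0) :
    q = 2 ∧ ∃ n : ℕ, r = 2 ^ n + 1 := by
  classical
  haveI : Fact q.Prime := ⟨hq⟩
  obtain ⟨Q₁, hQ₁Q, hxQ₁, ⟨g₀, hg₀, hg₀x⟩, hP, hgen, hc1, hc2⟩ :=
    exists_min_noncentral hq hr hqr Q hQ x hx hxQ hnc
  have hQ₁p : IsPGroup q Q₁ := hQ.to_le hQ₁Q
  haveI : Finite ↥Q₁ := Finite.of_injective (Subgroup.inclusion hQ₁Q)
    (Subgroup.inclusion_injective hQ₁Q)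
  obtain ⟨k, hk⟩ := hQ₁p.exists_card_eq
  have hQK : ((Nat.card Q₁ : ℕ) : K) ≠ 0 := by
    rw [hk, Nat.cast_pow]
    exact pow_ne_zero k hqK
  have hg₀1 : g₀ ≠ 1 := by
    intro h
    apply hg₀x
    rw [h]; group
  obtain ⟨W₂, hW₂0, hW₂Q, hW₂x, hmin, hfixQ⟩ := exists_min_sub ρ Q₁ Q₁ x
    (fun g hg z hz => Q₁.mul_mem (Q₁.mul_mem hg hz) (Q₁.inv_mem hg)) hxQ₁ hQK
    ⟨g₀, hg₀, fun h => hg₀1 (hfaith g₀ (hQ₁Q hg₀) h)⟩
  have hNS := not_all_scalar ρ Q₁ x r hr.pos hx W₂ hW₂0 hW₂Q hW₂x hgen hfixQ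
  have hW₂x' := map_inv_le_of_pow ρ x r hr.pos hx W₂ hW₂x
  obtain ⟨Z₀, hZ₀⟩ := exists_scalar_subgroup ρ Q₁ W₂ hW₂0 hW₂Q
  have hc3 : ∀ g ∈ Q₁, (∃ l : K, ∀ w ∈ W₂, ρ g w = l • w) → x * g * x⁻¹ = g := by
    intro g hg hsc
    apply hP Z₀ (fun g hg => ((hZ₀ g).1 hg).1) ?_ ?_ g ((hZ₀ g).2 ⟨hg, hsc⟩)
    · intro g hg
      rw [hZ₀] at hg ⊢
      obtain ⟨hgQ, l, hl⟩ := hg
      refine ⟨hxQ₁ g hgQ, l, ?_⟩
      intro w hw
      have h2 : ρ x⁻¹ w ∈ W₂ := hW₂x' (Submodule.mem_map_of_mem hw)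
      rw [map_mul, map_mul, Module.End.mul_apply, Module.End.mul_apply, hl _ h2, map_smul,
        rho_mul_inv]
    · intro h
      apply hNS
      intro g hg
      rw [← h, hZ₀] at hg
      exact hg.2
  have hc4 : ∀ c ∈ Q₁, x * c * x⁻¹ = c → c ^ r = 1 → c = 1 := by
    intro c hc _ hcr
    exact eq_one_of_pgroup_of_pow hq hr hqr Q₁ hQ₁p c hc hcr
  obtain ⟨C, hCdef⟩ : ∃ C : Subgroup Γ, C = Q₁ ⊓ Subgroup.centralizer {x} := ⟨_, rfl⟩
  have hC : ∀ g, g ∈ C ↔ g ∈ Q₁ ∧ x * g * x⁻¹ = g := by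
    intro g
    rw [hCdef, Subgroup.mem_inf, Subgroup.mem_centralizer_singleton_iff]
    constructor
    · rintro ⟨h1, h2⟩
      refine ⟨h1, ?_⟩
      rw [← h2, mul_assoc, mul_inv_cancel, mul_one]
    · rintro ⟨h1, h2⟩
      refine ⟨h1, ?_⟩
      conv_lhs => rw [← h2]
      group
  obtain ⟨hD, hcard, hcent⟩ := shult_linear_rel ρ Q₁ x r hr hx hxQ₁ hQK hrK W₂ hW₂0 hW₂Q hW₂x
    hmin (fun w _ => hfix w) hc1 hc2 hc3 hc4 C hC
  have hCle : C ≤ Q₁ := fun g hg => ((hC g).1 hg).1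
  have hD1 : finrank K W₂ ≠ 1 := by
    intro h1
    rw [h1, one_mul, one_mul] at hcard
    have hCQ : C = Q₁ := Subgroup.eq_of_le_of_card_ge hCle hcard.symm.le
    apply hg₀x
    have : g₀ ∈ C := hCQ ▸ hg₀
    exact ((hC g₀).1 this).2
  have hDr : finrank K W₂ + 1 = r := by
    rcases hD with h | h
    · exact absurd h hD1
    · exact h
  have hDdvd : finrank K W₂ ∣ q ^ k := by
    rw [← hk, ← hcard, mul_assoc]
    exact Dvd.intro _ rfl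
  obtain ⟨m, -, hm⟩ := (Nat.dvd_prime_pow hq).1 hDdvd
  have hq2 : q = 2 := by
    rcases hq.eq_two_or_odd' with h | hodd
    · exact h
    · exfalso
      have h1 : Odd (q ^ m) := hodd.pow
      have h2 : Even r := by
        rw [← hDr, hm]
        exact h1.add_one
      have h3 : r = 2 := (Nat.Prime.even_iff hr).1 h2
      apply hD1
      omega
  refine ⟨hq2, ⟨m, ?_⟩⟩
  rw [← hDr, hm, hq2]

/-- **Shult's theorem for a submodule**: an element `f` of prime order `p` normalizing the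
`t`-group `P`, without fixed points on the invariant submodule `M`, centralizes the action of `P`
on `M`, unless `t = 2` and `p` is a Fermat prime. -/
theorem hh_trivial {k : Type*} [Field k] [IsAlgClosed k] {Γ : Type*} [Group Γ] [Finite Γ]
    {W : Type*} [AddCommGroup W] [Module k W] [Module.Finite k W] (ρ : Representation k Γ W)
    {p t : ℕ} (hp : p.Prime) (ht : t.Prime) (htp : t ≠ p)
    (hexc : ¬ (t = 2 ∧ ∃ n : ℕ, p = 2 ^ n + 1))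
    (hpk : (p : k) ≠ 0) (htk : (t : k) ≠ 0)
    (P : Subgroup Γ) (hP : IsPGroup t P) (f : Γ)
    (hfP : f ∈ Subgroup.normalizer (P : Set Γ)) (hfp : f ^ p = 1)
    (M : Submodule k W) (hMP : ∀ x ∈ P, ∀ w ∈ M, ρ x w ∈ M) (hMf : ∀ w ∈ M, ρ f w ∈ M)
    (hfix : ∀ w ∈ M, ρ f w = w → w = 0) :
    ∀ x ∈ P, ∀ w ∈ M, ρ (f * x * f⁻¹) w = ρ x w := by
  classical
  by_contra hcon
  push Not at hcon
  obtain ⟨x₀, hx₀, w₀, hw₀, hne⟩ := hcon
  -- the stabilizer of `M`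
  obtain ⟨B, hB⟩ : ∃ B : Subgroup Γ, B = stab ρ M := ⟨_, rfl⟩
  have hBmem : ∀ g : Γ, g ∈ B ↔ M.map (ρ g) ≤ M ∧ M.map (ρ g⁻¹) ≤ M := by
    intro g; rw [hB]; exact mem_stab ρ M g
  have hPB : P ≤ B := by
    intro g hg
    rw [hBmem]
    refine ⟨?_, ?_⟩
    · rintro _ ⟨w, hw, rfl⟩
      exact hMP g hg w hw
    · rintro _ ⟨w, hw, rfl⟩
      exact hMP g⁻¹ (P.inv_mem hg) w hw
  have hfM : M.map (ρ f) ≤ M := by
    rintro _ ⟨w, hw, rfl⟩
    exact hMf w hw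
  have hfB : f ∈ B := by
    rw [hBmem]
    exact ⟨hfM, map_inv_le_of_pow ρ f p hp.pos hfp M hfM⟩
  have hBinv : ∀ g : ↥B, ∀ w ∈ M, (ρ.comp B.subtype) g w ∈ M := by
    intro g w hw
    exact ((hBmem (g : Γ)).1 g.2).1 (Submodule.mem_map_of_mem hw)
  obtain ⟨ρ₁, hρ₁⟩ : ∃ ρ₁ : Representation k ↥B ↥M,
      ∀ (g : ↥B) (w : ↥M), ((ρ₁ g w : ↥M) : W) = ρ (g : Γ) (w : W) :=
    ⟨subRep (ρ.comp B.subtype) M hBinv, fun g w => rfl⟩
  -- the tautological representation of the units of `End M`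
  obtain ⟨ρ₂, hρ₂⟩ : ∃ ρ₂ : Representation k (Module.End k ↥M)ˣ ↥M,
      ∀ u : (Module.End k ↥M)ˣ, ρ₂ u = (u : Module.End k ↥M) :=
    ⟨Units.coeHom (Module.End k ↥M), fun u => rfl⟩
  obtain ⟨ψ, hψ⟩ : ∃ ψ : ↥B →* (Module.End k ↥M)ˣ,
      ∀ g : ↥B, ((ψ g : (Module.End k ↥M)ˣ) : Module.End k ↥M) = ρ₁ g :=
    ⟨MonoidHom.toHomUnits ρ₁, fun g => rfl⟩
  obtain ⟨Q, hQ⟩ : ∃ Q : Subgroup (Module.End k ↥M)ˣ, Q = (P.subgroupOf B).map ψ := ⟨_, rfl⟩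
  haveI : Finite ↥Q := by
    rw [hQ]
    exact Finite.of_surjective (ψ.subgroupMap (P.subgroupOf B)) (ψ.subgroupMap_surjective _)
  have hQp : IsPGroup t Q := by
    rw [hQ]
    exact (hP.comap_subtype).map ψ
  obtain ⟨x, hx⟩ : ∃ x : (Module.End k ↥M)ˣ, x = ψ ⟨f, hfB⟩ := ⟨_, rfl⟩
  have hxp : x ^ p = 1 := by
    rw [hx, ← map_pow]
    have : (⟨f, hfB⟩ : ↥B) ^ p = 1 := by
      apply Subtype.ext
      rw [Subgroup.coe_pow, Subgroup.coe_one]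
      exact hfp
    rw [this, map_one]
  have hconj : ∀ g : Γ, ∀ hg : g ∈ P, f * g * f⁻¹ ∈ P := fun g hg =>
    (Subgroup.mem_normalizer_iff.1 hfP g).1 hg
  have hxQ : ∀ g ∈ Q, x * g * x⁻¹ ∈ Q := by
    intro g hg
    rw [hQ] at hg ⊢
    obtain ⟨b, hb, rfl⟩ := hg
    rw [SetLike.mem_coe, Subgroup.mem_subgroupOf] at hb
    refine ⟨⟨f * (b : Γ) * f⁻¹, hPB (hconj _ hb)⟩, ?_, ?_⟩
    · rw [SetLike.mem_coe, Subgroup.mem_subgroupOf]
      exact hconj _ hb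
    · rw [hx, ← map_inv, ← map_mul, ← map_mul]
      rfl
  have hfaith : ∀ g ∈ Q, ρ₂ g = 1 → g = 1 := by
    intro g _ hg1
    rw [hρ₂] at hg1
    exact Units.ext hg1
  have hnc : ∃ g ∈ Q, x * g * x⁻¹ ≠ g := by
    refine ⟨ψ ⟨x₀, hPB hx₀⟩, ?_, ?_⟩
    · rw [hQ]
      exact ⟨⟨x₀, hPB hx₀⟩, by rw [SetLike.mem_coe, Subgroup.mem_subgroupOf]; exact hx₀, rfl⟩
    · intro heq
      apply hne
      rw [hx, ← map_inv, ← map_mul, ← map_mul] at heq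
      have h1 := congrArg (fun u : (Module.End k ↥M)ˣ => (u : Module.End k ↥M)) heq
      simp only [hψ] at h1
      have h2 := LinearMap.congr_fun h1 ⟨w₀, hw₀⟩
      have h3 := congrArg Subtype.val h2
      rw [hρ₁, hρ₁] at h3
      exact h3
  have hfix₂ : ∀ w : ↥M, ρ₂ x w = w → w = 0 := by
    intro w hw
    rw [hρ₂, hx, hψ] at hw
    have h1 := congrArg Subtype.val hw
    rw [hρ₁] at h1
    exact Subtype.ext (hfix (w : W) w.2 h1)
  have := shult_faithful ρ₂ t p ht hp htp htk hpk x hxp Q hQp hfaith hxQ hnc hfix₂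
  exact hexc this

end Cfsg.Agent.Lead.Fpq
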