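import Cfsg.Agent.Lead.FpqTa
import Cfsg.Agent.Lead.FpqHH

/-!
S4306: the case `[T, f] = 1`, `[Q, F] = Q`, `Q` non-abelian.
-/

set_option autoImplicit false
set_option linter.style.haveILetI false
set_option linter.unusedSectionVars false

namespace Cfsg.Agent.Lead.Fpq

open scoped BigOperators commutatorElement
open Classical
open Cfsg.Agent.Lead.S3F

variable {k : Type*} [Field k] {Γ : Type*} [Group Γ] [Fintype Γ]
  {W : Type*} [AddCommGroup W] [Module k W] (ρ : Representation k Γ W)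
  {p q m : ℕ} {𝔸 Q T : Subgroup Γ} {f h : Γ} {s t : ℕ}

namespace Pair

omit [Fintype Γ] in
/-- the centre of `Q` is abelian. -/
theorem center_comm (Q : Subgroup Γ) : ∀ a ∈ centIn Q Q, ∀ b ∈ centIn Q Q, a * b = b * a :=
  fun _ ha b hb => ha.2 b hb.1

theorem center_ne_bot (pr : Pair 𝔸 Q T s t) : centIn Q Q ≠ ⊥ := by
  haveI : Fact s.Prime := ⟨pr.hs⟩
  haveI : Nontrivial Q := by
    rw [Subgroup.nontrivial_iff_ne_bot]; exact pr.Q_ne_bot
  haveI := pr.Qs.center_nontrivial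
  obtain ⟨z, hz⟩ := exists_ne (1 : Subgroup.center Q)
  intro hbot
  apply hz
  have h1 : ((z : Q) : Γ) ∈ centIn Q Q := by
    refine ⟨(z : Q).2, fun n hn => ?_⟩
    have := Subgroup.mem_center_iff.1 z.2 ⟨n, hn⟩
    exact (congrArg Subtype.val this).symm
  rw [hbot, Subgroup.mem_bot] at h1
  apply Subtype.ext
  apply Subtype.ext
  exact h1

theorem A_le_normalizer_center (pr : Pair 𝔸 Q T s t) :
    𝔸 ≤ Subgroup.normalizer ((centIn Q Q : Subgroup Γ) : Set Γ) :=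
  fun a ha => mem_normalizer_of_conj_mem _ _
    (fun x hx => conj_mem_centIn Q Q (pr.AQ ha) (pr.AQ ha) hx)

/-- `Q` has class at most 2. -/
theorem derived_le_center (pr : Pair 𝔸 Q T s t) : ⁅Q, Q⁆ ≤ centIn Q Q := by
  have h1 : ⁅(⁅Q, ⁅Q, Q⁆⁆ : Subgroup Γ), T⁆ = ⊥ := by
    rw [Subgroup.commutator_eq_bot_iff_le_centralizer]
    intro g hg
    rw [Subgroup.mem_centralizer_iff]
    intro x hx
    have hle : ⁅Q, ⁅Q, Q⁆⁆ ≤ ⁅Q, Q⁆ :=
      Subgroup.commutator_mono le_rfl (Subgroup.commutator_le_self Q)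
    exact pr.cent_derived x hx g (hle hg)
  have h2 : ⁅(⁅⁅Q, Q⁆, T⁆ : Subgroup Γ), Q⁆ = ⊥ := by
    have : ⁅(⁅Q, Q⁆ : Subgroup Γ), T⁆ = ⊥ := by
      rw [Subgroup.commutator_eq_bot_iff_le_centralizer]
      intro g hg
      rw [Subgroup.mem_centralizer_iff]
      intro x hx
      exact pr.cent_derived x hx g hg
    rw [this]
    exact Subgroup.commutator_bot_left Q
  have h3 : ⁅(⁅T, Q⁆ : Subgroup Γ), ⁅Q, Q⁆⁆ = ⊥ :=
    Subgroup.commutator_commutator_eq_bot_of_rotate h1 h2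
  rw [Subgroup.commutator_comm T Q, pr.comm_eq,
    Subgroup.commutator_eq_bot_iff_le_centralizer] at h3
  intro g hg
  have hgQ : g ∈ Q := Subgroup.commutator_le_self Q hg
  refine ⟨hgQ, fun n hn => ?_⟩
  have h4 := h3 hn
  rw [Subgroup.mem_centralizer_iff] at h4
  exact h4 g hg

end Pair

/-- **Case `[T, f] = 1`, `[Q, F] = Q`, `Q` non-abelian.** -/
theorem false_caseT_nonabelian [IsAlgClosed k] [Module.Finite k W]
    (g : FrobGen p q m 𝔸 f h) (hpk : (p : k) ≠ 0) (hqk : (q : k) ≠ 0)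
    (hfix : NoFixA ρ 𝔸) (pr : Pair 𝔸 Q T s t)
    (hna : ∃ a ∈ Q, ∃ b ∈ Q, a * b ≠ b * a)
    (hZk : (Fintype.card (centIn Q Q) : k) ≠ 0)
    [HasEnoughRootsOfUnity k (Monoid.exponent (centIn Q Q))]
    (hfaith : ∀ x ∈ Q, ρ x = 1 → x = 1)
    (hCW : ∀ w : W, (∀ e ∈ centIn Q Q, ρ e w = w) → w = 0)
    (hgenZ : ⁅centIn Q Q, 𝔸⁆ = centIn Q Q)
    (hTf : ∀ x ∈ T, f * x = x * f)
    (hQF : ⁅Q, Subgroup.zpowers f⁆ = Q)
    (hTh : ∀ x ∈ T, h * x * h⁻¹ = x → x = 1)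
    (hsp : s ≠ p) (hexc : ¬ (s = 2 ∧ ∃ n : ℕ, p = 2 ^ n + 1)) (hsk : (s : k) ≠ 0)
    (hR : ∀ (y : Γ) (M : Submodule k W), y ∈ 𝔸 → y ^ q = 1 →
      (∀ x ∈ T, y * x * y⁻¹ = x → x = 1) →
      (∀ g ∈ Q, ∀ w ∈ M, ρ g w ∈ M) → (∀ x ∈ T, ∀ w ∈ M, ρ x w ∈ M) → (∀ w ∈ M, ρ y w ∈ M) →
      (∀ w ∈ M, ρ y w = w → w = 0) →
      (∀ g ∈ Q, ∀ h ∈ Q, ∃ c : k, ∀ w ∈ M, ρ (g * h * g⁻¹ * h⁻¹) w = c • w) →
      ∀ x ∈ T, ∀ g ∈ Q, ∀ w ∈ M, ρ (x * g * x⁻¹ * g⁻¹) w = w) : False := by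
  have r := g.toFrobRel
  have hZQ : centIn Q Q ≤ Q := fun _ hz => hz.1
  have hZc := Pair.center_comm Q
  have hAZ := pr.A_le_normalizer_center
  have hfaithZ : ∀ x ∈ centIn Q Q, ρ x = 1 → x = 1 := fun x hx => hfaith x (hZQ hx)
  obtain ⟨μ, hμ⟩ := exists_isWt ρ (centIn Q Q) hZc hZk hfaithZ pr.center_ne_bot
  -- the weight space is invariant under `Q` and `T`
  have hMQ : ∀ g ∈ Q, ∀ w ∈ wtSpace ρ (centIn Q Q) μ, ρ g w ∈ wtSpace ρ (centIn Q Q) μ := by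
    intro g hg w hw
    apply rho_mem_wtSpace_of_mem_charStab ρ _ μ g _ w hw
    apply mem_charStab_of_commute
    intro n hn
    exact (hn.2 g hg).symm
  have hMT : ∀ x ∈ T, ∀ w ∈ wtSpace ρ (centIn Q Q) μ, ρ x w ∈ wtSpace ρ (centIn Q Q) μ := by
    intro x hx w hw
    apply rho_mem_wtSpace_of_mem_charStab ρ _ μ x _ w hw
    apply mem_charStab_of_commute
    intro n hn
    exact pr.cent_center hna x hx n hn
  rcases stab_cases ρ g hpk hqk hfix (centIn Q Q) hZk hAZ μ hμ with h1 | h1 | h1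
  · -- the weight is invariant, hence trivial
    have hA : 𝔸 ≤ charStab (centIn Q Q) μ := g.le_of_mem h1.1 h1.2
    exact not_isWt_of_char_eq_one ρ _ hCW μ
      (char_eq_one_of_le_charStab _ 𝔸 μ hA hgenZ) hμ
  · -- `f` fixes the weight and has no fixed vectors
    obtain ⟨hfS, -, hfixf⟩ := h1
    have hMf : ∀ w ∈ wtSpace ρ (centIn Q Q) μ, ρ f w ∈ wtSpace ρ (centIn Q Q) μ :=
      fun w hw => rho_mem_wtSpace_of_mem_charStab ρ _ μ f hfS w hw
    have key := hh_trivial ρ r.hp pr.hs hsp hexc hpk hsk Q pr.Qs f (pr.AQ g.f_mem) r.fp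
      (wtSpace ρ (centIn Q Q) μ) hMQ hMf hfixf
    -- conjugation by the powers of `f`
    have key1 : ∀ n : ℕ, ∀ x ∈ Q, ∀ w ∈ wtSpace ρ (centIn Q Q) μ,
        ρ (f ^ n * x * (f ^ n)⁻¹) w = ρ x w := by
      intro n
      induction n with
      | zero => intro x _ w _; simp
      | succ n ih =>
        intro x hx w hw
        have hxn : f ^ n * x * (f ^ n)⁻¹ ∈ Q :=
          conj_mem_of_mem_normalizer' (pr.AQ (𝔸.pow_mem g.f_mem n)) hx
        have e : f ^ (n + 1) * x * (f ^ (n + 1))⁻¹ = f * (f ^ n * x * (f ^ n)⁻¹) * f⁻¹ := by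
          rw [pow_succ']; group
        rw [e, key _ hxn w hw]
        exact ih x hx w hw
    have key2 : ∀ φ ∈ Subgroup.zpowers f, ∀ x ∈ Q, ∀ w ∈ wtSpace ρ (centIn Q Q) μ,
        ρ (φ * x * φ⁻¹) w = ρ x w := by
      intro φ hφ
      obtain ⟨n, rfl⟩ := (mem_powers_iff_mem_zpowers (x := f)).2 hφ
      exact key1 n
    have hle0 : ⁅Q, Subgroup.zpowers f⁆ ≤ fixer ρ (wtSpace ρ (centIn Q Q) μ) := by
      rw [Subgroup.commutator_le]
      intro x hx φ hφ w hw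
      have e : ⁅x, φ⁆ = x * (φ * x⁻¹ * φ⁻¹) := by rw [commutatorElement_def]; group
      rw [e, map_mul, Module.End.mul_apply, key2 φ hφ x⁻¹ (Q.inv_mem hx) w hw,
        ← Module.End.mul_apply, ← map_mul, mul_inv_cancel, map_one, Module.End.one_apply]
    have hle : Q ≤ fixer ρ (wtSpace ρ (centIn Q Q) μ) := (le_of_eq hQF.symm).trans hle0
    exact false_of_le_fixer ρ _ Q hZQ hCW μ hμ hle
  · -- a conjugate of `h` fixes the weight and has no fixed vectors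
    obtain ⟨-, a, ha, haS, hfixy⟩ := h1
    have g' := g.conj_h ha
    have r' := g'.toFrobRel
    have hy𝔸 : a * h * a⁻¹ ∈ 𝔸 := g'.h_mem
    have hfree : ∀ x ∈ T, a * h * a⁻¹ * x * (a * h * a⁻¹)⁻¹ = x → x = 1 := by
      intro x hx h2
      apply hTh x hx
      have c1 : a * x = x * a := commute_zpowers (hTf x hx) ha
      have c2 : a⁻¹ * x = x * a⁻¹ := commute_zpowers (hTf x hx) (Subgroup.inv_mem _ ha)
      have e : a * h * a⁻¹ * x * (a * h * a⁻¹)⁻¹ = a * (h * (a⁻¹ * x * a) * h⁻¹) * a⁻¹ := by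
        group
      rw [e, c2, mul_assoc x, inv_mul_cancel, mul_one] at h2
      have h3 : h * x * h⁻¹ = a⁻¹ * x * a := by
        calc h * x * h⁻¹ = a⁻¹ * (a * (h * x * h⁻¹) * a⁻¹) * a := by group
          _ = a⁻¹ * x * a := by rw [h2]
      rw [h3, c2, mul_assoc, inv_mul_cancel, mul_one]
    have hMy : ∀ w ∈ wtSpace ρ (centIn Q Q) μ, ρ (a * h * a⁻¹) w ∈ wtSpace ρ (centIn Q Q) μ :=
      fun w hw => rho_mem_wtSpace_of_mem_charStab ρ _ μ _ haS w hw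
    have hsc : ∀ g ∈ Q, ∀ h ∈ Q, ∃ c : k, ∀ w ∈ wtSpace ρ (centIn Q Q) μ,
        ρ (g * h * g⁻¹ * h⁻¹) w = c • w := by
      intro x hx y hy
      have hc : x * y * x⁻¹ * y⁻¹ ∈ centIn Q Q := by
        apply pr.derived_le_center
        have := Subgroup.commutator_mem_commutator hx hy
        rwa [commutatorElement_def] at this
      exact ⟨((μ ⟨_, hc⟩ : kˣ) : k), fun w hw => hw ⟨_, hc⟩⟩
    have key := hR (a * h * a⁻¹) (wtSpace ρ (centIn Q Q) μ) hy𝔸 r'.hq1 hfree hMQ hMT hMy hfixy hsc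
    have hle := le_fixer_of_comm ρ (wtSpace ρ (centIn Q Q) μ) Q T pr.comm_eq key
    exact false_of_le_fixer ρ _ Q hZQ hCW μ hμ hle

end Cfsg.Agent.Lead.Fpq
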