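import Mathlib
import Cfsg.Agent.Lead.QdStruct5
import Cfsg.Agent.Helper1.FrattiniAct

set_option autoImplicit false

/-!
In `Qd(p)` the normalizer of every nontrivial characteristic subgroup of a Sylow `p`-subgroup `S`
equals `N(S)`, a proper subgroup.
-/

namespace Cfsg.Agent.Lead.Qd

open Cfsg

theorem char_main {p : ℕ} [hp : Fact p.Prime] (S : Sylow p ↥(Cfsg.qd p))
    (T : Subgroup ↥(S : Subgroup ↥(Cfsg.qd p))) (hT : T ≠ ⊥) (hTc : T.Characteristic) :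
    Subgroup.normalizer ((T.map (S : Subgroup ↥(Cfsg.qd p)).subtype : Subgroup ↥(Cfsg.qd p)) :
        Set ↥(Cfsg.qd p)) = Subgroup.normalizer ((S : Subgroup ↥(Cfsg.qd p)) : Set ↥(Cfsg.qd p)) ∧
      Subgroup.normalizer ((S : Subgroup ↥(Cfsg.qd p)) : Set ↥(Cfsg.qd p)) ≠ ⊤ := by
  have hG := good_sylow p S
  obtain ⟨S₀, hS₀⟩ : ∃ S₀ : Subgroup ↥(Cfsg.qd p), S₀ = (S : Subgroup ↥(Cfsg.qd p)) := ⟨_, rfl⟩
  obtain ⟨T', hT'⟩ : ∃ T' : Subgroup ↥(Cfsg.qd p),
      T' = T.map (S : Subgroup ↥(Cfsg.qd p)).subtype := ⟨_, rfl⟩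
  rw [← hT']
  have hT'S : T' ≤ (S : Subgroup ↥(Cfsg.qd p)) := by
    rw [hT']; exact Subgroup.map_subtype_le _
  have hT'1 : T' ≠ ⊥ := by
    rw [hT']
    intro h
    apply hT
    rwa [Subgroup.map_eq_bot_iff_of_injective _ (Subgroup.subtype_injective _)] at h
  have hle : Subgroup.normalizer ((S : Subgroup ↥(Cfsg.qd p)) : Set ↥(Cfsg.qd p)) ≤
      Subgroup.normalizer ((T' : Subgroup ↥(Cfsg.qd p)) : Set ↥(Cfsg.qd p)) := by
    rw [hT']
    exact Cfsg.Agent.Helper1.le_normalizer_map_of_characteristic _ T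
  refine ⟨le_antisymm ?_ hle, ?_⟩
  · by_contra hcon
    obtain ⟨m, hmT, hmS⟩ := SetLike.not_le_iff_exists.1 hcon
    have hgen := hG.gen m hmS
    have hSN : (S : Subgroup ↥(Cfsg.qd p)) ≤
        Subgroup.normalizer ((T' : Subgroup ↥(Cfsg.qd p)) : Set ↥(Cfsg.qd p)) :=
      Subgroup.le_normalizer.trans hle
    have hSmN : (S : Subgroup ↥(Cfsg.qd p)).map (MulAut.conj m).toMonoidHom ≤
        Subgroup.normalizer ((T' : Subgroup ↥(Cfsg.qd p)) : Set ↥(Cfsg.qd p)) := by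
      rintro _ ⟨s, hs, rfl⟩
      exact Subgroup.mul_mem _ (Subgroup.mul_mem _ hmT (hSN hs)) (Subgroup.inv_mem _ hmT)
    have htop : Subgroup.normalizer ((T' : Subgroup ↥(Cfsg.qd p)) : Set ↥(Cfsg.qd p)) = ⊤ := by
      rw [eq_top_iff, ← hgen]
      exact sup_le hSN hSmN
    have hT'n : T'.Normal := Subgroup.normalizer_eq_top_iff.1 htop
    have h1 : T' ≤ V p := hG.le_V T' hT'S hT'n
    have h2 : V p ≤ T' := V_le_of_normal p T' h1 hT'n hT'1
    have hTV : T' = V p := le_antisymm h1 h2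
    obtain ⟨ψ, x, hx, hψx⟩ := hG.aut
    apply hψx
    rw [← hTV, hT']
    have hxT : x ∈ T := by
      rw [← hTV, hT'] at hx
      obtain ⟨y, hy, hyx⟩ := hx
      have : y = x := Subtype.ext hyx
      rw [← this]; exact hy
    have hfix := hTc.fixed ψ
    have hψxT : ψ x ∈ T := by
      have : x ∈ T.comap ψ.toMonoidHom := by rw [hfix]; exact hxT
      exact this
    exact ⟨ψ x, hψxT, rfl⟩
  · obtain ⟨m, hm⟩ := hG.not_normal
    intro htop
    apply hm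
    rw [htop]
    exact Subgroup.mem_top m

end Cfsg.Agent.Lead.Qd
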