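import Mathlib
import Cfsg.Prelude.Def_GeometricClasses
import Cfsg.Agent.Lead.AschOBase
import Cfsg.Agent.Helper3.AschForms
import Cfsg.Agent.Helper6.AschSub
import Cfsg.Agent.Helper6.AschSubA
import Cfsg.Agent.Helper7.AschC2

/-!
# ASCH-PRIME-O piece O4b: over a non-prime field the stabiliser of an orthogonal frame of isometric lines lies in a
subfield group whose rational structure carries the quadratic form
-/

set_option autoImplicit false

namespace Cfsg.Agent.Lead.AschO

open Cfsg Cfsg.Geo Cfsg.Agent.Lead.Asch Cfsg.Agent.Helper3.Asch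
open scoped MatrixGroups Matrix

variable {n : ℕ} {F : Type*} [Field F]

/-! ## the matrix of a basis -/

/-- the matrix whose columns are the vectors of the basis `b`. -/
noncomputable def colMat (b : Module.Basis (Fin n) F (Fin n → F)) : Matrix (Fin n) (Fin n) F :=
  (Pi.basisFun F (Fin n)).toMatrix b

/-- the inverse matrix: the coordinates with respect to `b`. -/
noncomputable def rowMat (b : Module.Basis (Fin n) F (Fin n → F)) : Matrix (Fin n) (Fin n) F :=
  b.toMatrix (Pi.basisFun F (Fin n))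

theorem colMat_mul_rowMat (b : Module.Basis (Fin n) F (Fin n → F)) : colMat b * rowMat b = 1 :=
  Module.Basis.toMatrix_mul_toMatrix_flip _ _

theorem rowMat_mul_colMat (b : Module.Basis (Fin n) F (Fin n → F)) : rowMat b * colMat b = 1 :=
  Module.Basis.toMatrix_mul_toMatrix_flip _ _

/-- the change of basis as an element of `GL`. -/
noncomputable def colGL (b : Module.Basis (Fin n) F (Fin n → F)) : GL (Fin n) F :=
  ⟨colMat b, rowMat b, colMat_mul_rowMat b, rowMat_mul_colMat b⟩

theorem colGL_val (b : Module.Basis (Fin n) F (Fin n → F)) :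
    ((colGL b : GL (Fin n) F) : Matrix (Fin n) (Fin n) F) = colMat b := rfl

theorem colGL_inv_val (b : Module.Basis (Fin n) F (Fin n → F)) :
    (((colGL b)⁻¹ : GL (Fin n) F) : Matrix (Fin n) (Fin n) F) = rowMat b := rfl

theorem rowMat_mulVec (b : Module.Basis (Fin n) F (Fin n → F)) (v : Fin n → F) :
    rowMat b *ᵥ v = b.equivFun v := by
  have h := Module.Basis.toMatrix_mulVec_repr (Pi.basisFun F (Fin n)) b v
  have h2 : ((Pi.basisFun F (Fin n)).repr v : Fin n → F) = v := by
    funext i
    simp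
  rw [h2] at h
  exact h

theorem colMat_mulVec_single (b : Module.Basis (Fin n) F (Fin n → F)) (i : Fin n) :
    colMat b *ᵥ (Pi.single i 1) = b i := by
  funext k
  rw [Matrix.mulVec_single_one]
  simp [colMat, Module.Basis.toMatrix_apply]

theorem colMat_mulVec_equivFun (b : Module.Basis (Fin n) F (Fin n → F)) (v : Fin n → F) :
    colMat b *ᵥ (b.equivFun v) = v := by
  rw [← rowMat_mulVec, Matrix.mulVec_mulVec, colMat_mul_rowMat, Matrix.one_mulVec]

/-! ## Gram matrices -/

theorem bv_eq_single (i : Fin n) : (bv i : Fin n → F) = Pi.single i 1 := by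
  funext j
  unfold bv
  by_cases h : i = j
  · subst h
    simp
  · rw [if_neg h, Pi.single_eq_of_ne (Ne.symm h)]

theorem gram_eq_gramMatrix (f : (Fin n → F) → (Fin n → F) → F) : gram f = gramMatrix f := by
  ext i j
  unfold gram gramMatrix
  rw [bv_eq_single, bv_eq_single]

theorem bilin_expand {f : (Fin n → F) → (Fin n → F) → F} (hf : IsBilinearForm f) (u v : Fin n → F) :
    f u v = u ⬝ᵥ (gramMatrix f *ᵥ v) := by
  have h := (IsSesq.of_bilinear hf).expand u v
  rw [gram_eq_gramMatrix] at h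
  simpa using h

theorem bilin_mulVec {f : (Fin n → F) → (Fin n → F) → F} (hf : IsBilinearForm f)
    (M : Matrix (Fin n) (Fin n) F) (x y : Fin n → F) :
    f (M *ᵥ x) (M *ᵥ y) = x ⬝ᵥ ((Mᵀ * gramMatrix f * M) *ᵥ y) := by
  rw [bilin_expand hf, ← Matrix.mulVec_mulVec, ← Matrix.mulVec_mulVec, Matrix.dotProduct_mulVec x,
    Matrix.vecMul_transpose]

theorem conj_gram_apply {f : (Fin n → F) → (Fin n → F) → F} (hf : IsBilinearForm f)
    (M : Matrix (Fin n) (Fin n) F) (i j : Fin n) :
    (Mᵀ * gramMatrix f * M) i j = f (M *ᵥ Pi.single i 1) (M *ᵥ Pi.single j 1) := by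
  rw [bilin_mulVec hf, Matrix.mulVec_single_one, single_one_dotProduct]
  rfl


/-! ## small facts -/

theorem two_ne_zero_of_odd' [Fintype F] (hodd : Odd (Fintype.card F)) : (2 : F) ≠ 0 := by
  intro h
  have hc : ringChar F = 2 := by
    have : CharP F 2 := CharTwo.of_one_ne_zero_of_two_eq_zero one_ne_zero h
    exact ringChar.eq F 2
  have := FiniteField.even_card_of_char_two hc
  rw [Nat.odd_iff] at hodd
  omega

theorem bot_ne_top_of_not_prime [Fintype F] (hq : ¬ (Fintype.card F).Prime) :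
    (⊥ : Subfield F) ≠ ⊤ := by
  intro h
  obtain ⟨p, hp⟩ := CharP.exists F
  have := hp
  have : Fact p.Prime := ⟨CharP.char_is_prime F p⟩
  have h1 : Nat.card (⊥ : Subfield F) = p := Subfield.card_bot F p
  have h2 : Nat.card (⊤ : Subfield F) = Fintype.card F := by
    rw [← Nat.card_eq_fintype_card]
    exact Nat.card_congr Subfield.topEquiv.toEquiv
  rw [h, h2] at h1
  apply hq
  rw [h1]
  exact CharP.char_is_prime F p

theorem quad_zero {Q : (Fin n → F) → F} (hQ : IsNondegenerateQuadraticForm Q) : Q 0 = 0 := by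
  have := hQ.smul 0 0
  rw [zero_smul] at this
  rw [this]
  ring

theorem polar_self {Q : (Fin n → F) → F} (hQ : IsNondegenerateQuadraticForm Q) (v : Fin n → F) :
    QuadraticMap.polar Q v v = 2 * Q v := by
  unfold QuadraticMap.polar
  have h : v + v = (2 : F) • v := (two_smul F v).symm
  rw [h, hQ.smul]
  ring

/-- in adapted coordinates with constant value `c₀` on the basis, `Q` is `c₀` times the sum of squares. -/
theorem quad_of_orthonormal (h2 : (2 : F) ≠ 0) {Q : (Fin n → F) → F} (hQ : IsNondegenerateQuadraticForm Q)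
    (b : Module.Basis (Fin n) F (Fin n → F)) (c₀ : F)
    (hdiag : ∀ i, Q (b i) = c₀)
    (horth : ∀ i j, i ≠ j → QuadraticMap.polar Q (b i) (b j) = 0) (u : Fin n → F) :
    Q (colMat b *ᵥ u) = c₀ * ∑ i, u i ^ 2 := by
  have hbil := hQ.polar_bilinear
  have hA : (colMat b)ᵀ * gramMatrix (QuadraticMap.polar Q) * colMat b = (2 * c₀) • (1 : Matrix (Fin n) (Fin n) F) := by
    ext i j
    rw [conj_gram_apply hbil, colMat_mulVec_single, colMat_mulVec_single, Matrix.smul_apply, smul_eq_mul]
    by_cases hij : i = j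
    · subst hij
      rw [polar_self hQ, hdiag, Matrix.one_apply_eq, mul_one]
    · rw [horth i j hij, Matrix.one_apply_ne hij, mul_zero]
  have h1 := polar_self hQ (colMat b *ᵥ u)
  rw [bilin_mulVec hbil, hA, Matrix.smul_mulVec, Matrix.one_mulVec, dotProduct_smul, smul_eq_mul] at h1
  have h3 : u ⬝ᵥ u = ∑ i, u i ^ 2 := by
    unfold dotProduct
    exact Finset.sum_congr rfl (fun i _ => (sq (u i)).symm)
  rw [h3] at h1
  have : 2 * (c₀ * ∑ i, u i ^ 2) = 2 * Q (colMat b *ᵥ u) := by
    rw [← h1]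
    ring
  exact (mul_left_cancel₀ h2 this).symm

/-- **O4b**. -/
theorem c2_orth_nonprime [Fintype F] (hn : Odd n) (hodd : Odd (Fintype.card F))
    (Q : (Fin n → F) → F) (hQ : IsNondegenerateQuadraticForm Q) (hdisc : DiscInt Q)
    (D : Fin n → Submodule F (Fin n → F)) (hD : IsOrthogonalMDecomposition Q 1 D)
    (hq : ¬ (Fintype.card F).Prime) :
    ∃ (F₀ : Subfield F) (r : ℕ) (P : GL (Fin n) F), r.Prime ∧ Fintype.card F = Nat.card F₀ ^ r ∧
      IsQuadFormRationalStructure Q F₀ P ∧
      decompositionStabilizer D ⊓ isometryGroup F Q ≤ subfieldSubgroup F₀ P := by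
  classical
  have h2 : (2 : F) ≠ 0 := two_ne_zero_of_odd' hodd
  have hbil : IsBilinearForm (QuadraticMap.polar Q) := hQ.polar_bilinear
  obtain ⟨b, hb1, hb2⟩ := Cfsg.Agent.Helper7.Asch.exists_line_basis D hD.decomp.decomp
  have hn1 : 0 < n := hn.pos
  let i₀ : Fin n := ⟨0, hn1⟩
  have hspan : ∀ i v, v ∈ D i → v = b.equivFun v i • b i := by
    intro i v hv
    conv_lhs => rw [← b.sum_equivFun v]
    rw [Finset.sum_eq_single i]
    · intro j _ hj
      rw [hb2 i v hv j hj, zero_smul]
    · intro h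
      exact absurd (Finset.mem_univ i) h
  have hqne : ∀ i, Q (b i) ≠ 0 := by
    intro i h0
    obtain ⟨⟨x, hx, hx0⟩, -⟩ := hD.decomp.nondegenerate i (b i) (hb1 i) (b.ne_zero i)
    apply hx0
    rw [hspan i x hx, hbil.smul_left, polar_self hQ, h0]
    ring
  have hai : ∀ i, ∃ a : F, a ≠ 0 ∧ a ^ 2 * Q (b i) = Q (b i₀) := by
    intro i
    obtain ⟨e, he⟩ := hD.isometric i₀ i
    have h1 := he ⟨b i₀, hb1 i₀⟩
    have hw := hspan i ((e ⟨b i₀, hb1 i₀⟩ : D i) : Fin n → F) (e ⟨b i₀, hb1 i₀⟩).2
    refine ⟨b.equivFun ((e ⟨b i₀, hb1 i₀⟩ : D i) : Fin n → F) i, ?_, ?_⟩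
    · intro h0
      rw [h0, zero_smul] at hw
      rw [hw, quad_zero hQ] at h1
      exact hqne i₀ h1.symm
    · rw [← hQ.smul, ← hw]
      exact h1
  choose a ha0 ha using hai
  set q₀ := Q (b i₀) with hq₀
  have hq₀ne : q₀ ≠ 0 := hqne i₀
  -- the discriminant
  obtain ⟨k, s, hks⟩ := hdisc
  have horth : ∀ i j, i ≠ j → QuadraticMap.polar Q (b i) (b j) = 0 := fun i j hij =>
    hD.decomp.orthogonal i j hij (b i) (hb1 i) (b j) (hb1 j)
  have hA : (colMat b)ᵀ * gramMatrix (QuadraticMap.polar Q) * colMat b =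
      Matrix.diagonal (fun i => 2 * Q (b i)) := by
    ext i j
    rw [conj_gram_apply hbil, colMat_mulVec_single, colMat_mulVec_single]
    by_cases hij : i = j
    · subst hij
      rw [polar_self hQ, Matrix.diagonal_apply_eq]
    · rw [horth i j hij, Matrix.diagonal_apply_ne _ hij]
  have hdet : (colMat b).det ^ 2 * ((k : F) * s ^ 2) = ∏ i, (2 * Q (b i)) := by
    have := congrArg Matrix.det hA
    rw [Matrix.det_mul, Matrix.det_mul, Matrix.det_transpose, Matrix.det_diagonal, hks] at this
    rw [← this]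
    ring
  have hprod : (∏ i, a i) ^ 2 * ∏ i, (2 * Q (b i)) = (2 * q₀) ^ n := by
    rw [← Finset.prod_pow, ← Finset.prod_mul_distrib]
    have : ∀ i ∈ (Finset.univ : Finset (Fin n)), a i ^ 2 * (2 * Q (b i)) = 2 * q₀ := by
      intro i _
      rw [← ha i]
      ring
    rw [Finset.prod_congr rfl this, Finset.prod_const, Finset.card_univ, Fintype.card_fin]
  obtain ⟨l, hl⟩ := hn
  have h2q : 2 * q₀ ≠ 0 := mul_ne_zero h2 hq₀ne
  set t := (∏ i, a i) * (colMat b).det * s / (2 * q₀) ^ l with ht
  have hkt : 2 * q₀ = (k : F) * t ^ 2 := by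
    have h1 : (2 * q₀) * ((2 * q₀) ^ l) ^ 2 = (k : F) * ((∏ i, a i) * (colMat b).det * s) ^ 2 := by
      have : (2 * q₀) * ((2 * q₀) ^ l) ^ 2 = (2 * q₀) ^ n := by
        rw [hl]
        ring
      rw [this, ← hprod, ← hdet]
      ring
    rw [ht, div_pow, mul_div_assoc', ← h1]
    field_simp
  have ht0 : t ≠ 0 := by
    intro h0
    rw [h0] at hkt
    apply h2q
    rw [hkt]
    ring
  set c₀ : F := (k : F) / 2 with hc₀
  have hqc : q₀ = c₀ * t ^ 2 := by
    rw [hc₀]
    field_simp
    rw [mul_comm]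
    exact hkt
  -- the rescaled basis
  let w : Fin n → Fˣ := fun i => Units.mk0 (a i / t) (div_ne_zero (ha0 i) ht0)
  let b' : Module.Basis (Fin n) F (Fin n → F) := b.unitsSMul w
  have hb'app : ∀ i, b' i = (a i / t) • b i := by
    intro i
    rw [Module.Basis.unitsSMul_apply]
    rfl
  have hb'1 : ∀ i, b' i ∈ D i := by
    intro i
    rw [hb'app]
    exact (D i).smul_mem _ (hb1 i)
  have hb'2 : ∀ i v, v ∈ D i → ∀ j, j ≠ i → b'.equivFun v j = 0 := by
    intro i v hv j hj
    rw [Module.Basis.equivFun_apply, Module.Basis.repr_unitsSMul]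
    have := hb2 i v hv j hj
    rw [Module.Basis.equivFun_apply] at this
    rw [this, smul_zero]
  have hb'Q : ∀ i, Q (b' i) = c₀ := by
    intro i
    rw [hb'app, hQ.smul, div_pow, div_mul_eq_mul_div, ha i, hqc]
    field_simp
  have hb'orth : ∀ i j, i ≠ j → QuadraticMap.polar Q (b' i) (b' j) = 0 := by
    intro i j hij
    rw [hb'app, hb'app, hbil.smul_left, hbil.smul_right, horth i j hij]
    ring
  have hc₀ne : c₀ ≠ 0 := by
    intro h0
    rw [h0, zero_mul] at hqc
    exact hq₀ne hqc
  have hQform : ∀ u, Q (colMat b' *ᵥ u) = c₀ * ∑ i, u i ^ 2 := quad_of_orthonormal h2 hQ b' c₀ hb'Q hb'orth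
  -- the subfield
  obtain ⟨σ, F₁, r, hr, hcard, -, -⟩ :=
    Cfsg.Agent.Helper6.Asch.exists_prime_fixed_subfield (⊥ : Subfield F) (bot_ne_top_of_not_prime hq)
  have hc₀F : c₀ ∈ F₁ := by
    rw [hc₀]
    apply F₁.div_mem (intCast_mem F₁ k)
    have : (2 : F) = ((2 : ℤ) : F) := by norm_num
    rw [this]
    exact intCast_mem F₁ 2
  refine ⟨F₁, r, colGL b', hr, hcard, ?_, ?_⟩
  · intro u hu
    rw [colGL_val, hQform]
    exact F₁.mul_mem hc₀F (F₁.sum_mem (fun i _ => F₁.pow_mem (hu i) 2))
  · -- the stabiliser is signed monomial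
    have key : ∀ g : GL (Fin n) F, g ∈ decompositionStabilizer D → g ∈ isometryGroup F Q →
        ∀ k i, ((colGL b')⁻¹ * g * colGL b' : GL (Fin n) F).1 k i ∈ F₁ := by
      intro g hgD hgI
      obtain ⟨τ, c, hc0, hc⟩ := Cfsg.Agent.Helper7.Asch.exists_monomial b' hb'1 hb'2 hgD
      -- c i ^ 2 = 1
      have hcsq : ∀ i, c i ^ 2 = 1 := by
        intro i
        have h1 : Q ((g : Matrix (Fin n) (Fin n) F) *ᵥ b' i) = Q (b' i) :=
          mem_isometryGroup_iff.1 hgI (b' i)
        have h3 : Q ((g : Matrix (Fin n) (Fin n) F) *ᵥ b' i) = c₀ * c i ^ 2 := by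
          rw [← colMat_mulVec_equivFun b' ((g : Matrix (Fin n) (Fin n) F) *ᵥ b' i), hQform]
          congr 1
          rw [← Equiv.sum_comp τ]
          rw [Finset.sum_eq_single i]
          · rw [hc, Cfsg.Agent.Helper7.Asch.coord_self, mul_one]
          · intro j _ hj
            rw [hc, Cfsg.Agent.Helper7.Asch.coord_ne b' (Ne.symm hj), mul_zero]
            ring
          · intro h
            exact absurd (Finset.mem_univ i) h
        rw [h3, hb'Q] at h1
        have : c₀ * (c i ^ 2 - 1) = 0 := by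
          rw [mul_sub, h1, mul_one, sub_self]
        rcases mul_eq_zero.1 this with h | h
        · exact absurd h hc₀ne
        · exact sub_eq_zero.1 h
      have hcF : ∀ i, c i ∈ F₁ := by
        intro i
        have h1 : (c i - 1) * (c i + 1) = 0 := by
          have := hcsq i
          ring_nf
          ring_nf at this
          rw [this]
          ring
        rcases mul_eq_zero.1 h1 with h | h
        · rw [sub_eq_zero.1 h]
          exact F₁.one_mem
        · rw [eq_neg_of_add_eq_zero_left h]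
          exact F₁.neg_mem F₁.one_mem
      intro k i
      have hentry : ((colGL b')⁻¹ * g * colGL b' : GL (Fin n) F).1 k i =
          b'.equivFun ((g : Matrix (Fin n) (Fin n) F) *ᵥ b' i) k := by
        have h1 : ((colGL b')⁻¹ * g * colGL b' : GL (Fin n) F).1 *ᵥ (Pi.single i 1) =
            b'.equivFun ((g : Matrix (Fin n) (Fin n) F) *ᵥ b' i) := by
          rw [Units.val_mul, Units.val_mul, colGL_val, colGL_inv_val, ← Matrix.mulVec_mulVec,
            ← Matrix.mulVec_mulVec, colMat_mulVec_single, rowMat_mulVec]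
        have h3 := congrFun h1 k
        rw [Matrix.mulVec_single_one] at h3
        exact h3
      rw [hentry]
      obtain ⟨j, rfl⟩ := τ.surjective k
      rw [hc]
      by_cases hij : i = j
      · subst hij
        rw [Cfsg.Agent.Helper7.Asch.coord_self, mul_one]
        exact hcF i
      · rw [Cfsg.Agent.Helper7.Asch.coord_ne b' hij, mul_zero]
        exact F₁.zero_mem
    intro g hg
    have hE := Cfsg.Agent.Helper6.Asch.mem_range_map_of_entries F₁ ((colGL b')⁻¹ * g * colGL b')
      (key g hg.1 hg.2)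
    unfold subfieldSubgroup
    refine ⟨(colGL b')⁻¹ * g * colGL b', Subgroup.mem_sup_left hE, ?_⟩
    simp only [MulEquiv.coe_toMonoidHom, MulAut.conj_apply]
    group

end Cfsg.Agent.Lead.AschO
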