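import Mathlib
import Cfsg.Prelude.Def_GeometricClasses
import Cfsg.Agent.Lead.AschBase
import Cfsg.Agent.Lead.AschOBase
import Cfsg.Agent.Lead.AschOC2
import Cfsg.Agent.Helper1.AschOSchur
import Cfsg.Agent.Helper2.AschORed
import Cfsg.Agent.Helper4.AschPerfect
import Cfsg.Agent.Helper5.AschO4a

/-!
# ASCH-PRIME-O: Aschbacher's theorem for subgroups of the orthogonal group in odd prime dimension (assembly;
the subfield piece O6 and the unitary-form piece O9 as hypotheses)
-/

set_option autoImplicit false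

namespace Cfsg.Agent.Lead.AschO

open Cfsg Cfsg.Geo Cfsg.Agent.Lead.Asch
open scoped MatrixGroups Matrix commutatorElement

variable {n : ℕ} {F : Type*} [Field F]

/-- The statement of the piece O6 `subfield_orth`. -/
def SubfieldOrth (n : ℕ) (F : Type*) [Field F] [Fintype F] : Prop :=
  ∀ (Q : (Fin n → F) → F), IsNondegenerateQuadraticForm Q → DiscInt Q →
    ∀ {H P : Subgroup (GL (Fin n) F)}, P ≤ isometryGroup F Q → Nzes H P →
    ActsAbsolutelyIrreducibly (matrixSet P) → ∀ F₀ : Subfield F, F₀ ≠ ⊤ →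
    RealisableOver F₀ (matrixSet P) →
    ∃ (F₁ : Subfield F) (r : ℕ) (Pm : GL (Fin n) F), r.Prime ∧ Fintype.card F = Nat.card F₁ ^ r ∧
      IsQuadFormRationalStructure Q F₁ Pm ∧ H ≤ subfieldSubgroup F₁ Pm

/-- The statement of the piece O9 `realisable_of_fixes_quad_unitary`. -/
def QuadUnitary (n : ℕ) (F : Type*) [Field F] [Fintype F] : Prop :=
  ∀ {P : Subgroup (GL (Fin n) F)}, ActsAbsolutelyIrreducibly (matrixSet P) →
    ∀ (σ : F ≃+* F) (f : (Fin n → F) → (Fin n → F) → F), IsUnitaryForm σ f →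
    FixesForm (matrixSet P) f →
    ∀ (Q : (Fin n → F) → F), IsNondegenerateQuadraticForm Q → FixesQuadForm (matrixSet P) Q →
    ∃ F₀ : Subfield F, F₀ ≠ ⊤ ∧ RealisableOver F₀ (matrixSet P)

/-- Aschbacher's theorem for subgroups of the orthogonal group in odd prime dimension, `q` odd, generic form. -/
theorem asch_prime_orth_of [Fintype F] (hO6 : SubfieldOrth n F) (hO9 : QuadUnitary n F)
    (hn : n.Prime) (hn5 : 5 ≤ n) (hodd : Odd (Fintype.card F))
    (Q : (Fin n → F) → F) (hQ : IsNondegenerateQuadraticForm Q) (hdisc : DiscInt Q)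
    (H : Subgroup (GL (Fin n) F)) (hHI : H ≤ isometryGroup F Q) : OConcl n Q H := by
  have hn2 : n ≠ 2 := by omega
  have hnodd : Odd n := hn.odd_of_ne_two hn2
  -- Step 1: reducible
  by_cases hirr : ActsIrreducibly (matrixSet H)
  swap
  · rcases Cfsg.Agent.Helper2.AschO.orth_reducible hodd hnodd hn5 Q hQ hHI hirr with h | h
    · exact Or.inl h
    · exact Or.inr (Or.inl h)
  -- Step 2: imprimitive
  by_cases hC2 : ∃ D : Fin n → Submodule F (Fin n → F), IsOrthogonalMDecomposition Q 1 D ∧
      H ≤ decompositionStabilizer D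
  · obtain ⟨D, hD, hle⟩ := hC2
    by_cases hq : (Fintype.card F).Prime
    · exact Or.inr (Or.inr (Or.inl ⟨hq, D, hD, hle⟩))
    · obtain ⟨F₀, r, P, hr, hc, hrat, hsub⟩ := c2_orth_nonprime hnodd hodd Q hQ hdisc D hD hq
      exact Or.inr (Or.inr (Or.inr (Or.inl ⟨F₀, r, P, hr, hc, hrat, (le_inf hle hHI).trans hsub⟩)))
  -- Step 3: all normal subgroups are scalar or absolutely irreducible
  have hall : ∀ M : Subgroup (GL (Fin n) F), M ≤ H → Nzes H M →
      M ≤ scalars (Fin n) F ∨ ActsAbsolutelyIrreducibly (matrixSet M) := by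
    intro M hMH hMnz
    rcases Cfsg.Agent.Helper5.AschO.clifford_prime_orth hn hn2 hodd Q hQ hHI hirr hMH hMnz with h | h | h
    · exact absurd h.1 hC2
    · exact Or.inl h
    · exact Or.inr (Cfsg.Agent.Helper1.AschO.schur_orth hn hn2 hodd Q hQ (hMH.trans hHI) h)
  have hHns : ¬ H ≤ scalars (Fin n) F := not_le_scalars_of_irred (by omega) hirr
  obtain ⟨N, hNH, hNnz, hNns, hmin⟩ := exists_minimal hHns
  have hNabs : ActsAbsolutelyIrreducibly (matrixSet N) := (hall N hNH hNnz).resolve_left hNns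
  have hNI : N ≤ isometryGroup F Q := hNH.trans hHI
  by_cases hperf : ⁅N, N⁆ = N
  · -- perfect case
    obtain ⟨hsimp, hnab, hcent⟩ := Cfsg.Agent.Helper4.AschP.perfect_case hn hNH hNnz hNns hall hmin hperf
    by_cases hsub : ∃ F₀ : Subfield F, F₀ ≠ ⊤ ∧ RealisableOver F₀ (matrixSet N)
    · obtain ⟨F₀, h0, hr⟩ := hsub
      exact Or.inr (Or.inr (Or.inr (Or.inl (hO6 Q hQ hdisc hNI hNnz hNabs F₀ h0 hr))))
    · refine Or.inr (Or.inr (Or.inr (Or.inr ⟨N, ?_, ?_⟩)))
      · exact
          { le := hNH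
            normal := hNnz
            perfect := hperf
            simple := hsimp
            nonabelian := hnab
            centralizer_scalar := hcent
            absIrred := hNabs
            no_subfield := fun F₀ h0 hr => hsub ⟨F₀, h0, hr⟩ }
      · rintro ⟨σ, f, hf, hfix⟩
        apply hsub
        refine hO9 hNabs σ f hf hfix Q hQ ?_
        intro s hs v
        rw [mem_matrixSet_iff] at hs
        obtain ⟨g, hg, rfl⟩ := hs
        exact mem_isometryGroup_iff.1 (hNI hg) v
  · -- symplectic-type case: impossible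
    exfalso
    have hcomm : ⁅N, N⁆ ≤ scalars (Fin n) F := by
      by_contra hc
      exact hperf (hmin _ (Subgroup.commutator_le_self N) (nzes_commutator hNnz) hc)
    have hab := abelian_of_commutator_le_scalars hnodd Q hQ (by omega) hNI hcomm
    apply hNns
    intro x hx
    obtain ⟨c, hc⟩ := hNabs.2 (x : Matrix (Fin n) (Fin n) F) (by
      intro s hs
      rw [mem_matrixSet_iff] at hs
      obtain ⟨g, hg, rfl⟩ := hs
      rw [← Units.val_mul, ← Units.val_mul, hab x hx g hg])
    rw [mem_scalars_iff]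
    have hc0 : c ≠ 0 := by
      intro h0
      rw [h0, zero_smul] at hc
      have hdet : Matrix.det (x : Matrix (Fin n) (Fin n) F) = 0 := by
        rw [hc]
        have : Nonempty (Fin n) := ⟨⟨0, by omega⟩⟩
        exact Matrix.det_zero
      have hu : IsUnit (Matrix.det (x : Matrix (Fin n) (Fin n) F)) :=
        (Matrix.isUnit_iff_isUnit_det _).1 x.isUnit
      rw [hdet] at hu
      exact not_isUnit_zero hu
    exact ⟨Units.mk0 c hc0, hc⟩

end Cfsg.Agent.Lead.AschO
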