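import Mathlib
import Cfsg.Prelude.Def_GeometricClasses
import Cfsg.Agent.Lead.AschOMain
import Cfsg.Agent.Helper1.AschOSub
import Cfsg.Agent.Helper5.AschO9

/-!
# ASCH-PRIME-O: Aschbacher's theorem for subgroups of the orthogonal group in odd prime dimension, `q` odd
(unconditional, on `Fin n`, abstract quadratic form)
-/

set_option autoImplicit false

namespace Cfsg.Agent.Lead.AschO

open Cfsg Cfsg.Geo Cfsg.Agent.Lead.Asch
open scoped MatrixGroups Matrix

variable {n : ℕ} {F : Type*} [Field F]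

theorem subfieldOrth [Fintype F] (hn : Odd n) (hn2 : 2 ≤ n) (hodd : Odd (Fintype.card F)) : SubfieldOrth n F :=
  fun Q hQ hdisc _ _ hPI hnz hP F₀ h0 hr =>
    Cfsg.Agent.Helper1.AschO.subfield_orth hn hn2 hodd Q hQ hdisc hPI hnz hP F₀ h0 hr

theorem quadUnitary [Fintype F] (hn : 1 ≤ n) : QuadUnitary n F :=
  fun hP σ f hf hfix Q hQ hfixQ =>
    Cfsg.Agent.Helper5.AschO.realisable_of_fixes_quad_unitary hn hP σ f hf hfix Q hQ hfixQ

/-- Aschbacher's theorem for subgroups of the orthogonal group in odd prime dimension, `q` odd. -/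
theorem asch_prime_orth [Fintype F] (hn : n.Prime) (hn5 : 5 ≤ n) (hodd : Odd (Fintype.card F))
    (Q : (Fin n → F) → F) (hQ : IsNondegenerateQuadraticForm Q) (hdisc : DiscInt Q)
    (H : Subgroup (GL (Fin n) F)) (hHI : H ≤ isometryGroup F Q) : OConcl n Q H :=
  asch_prime_orth_of (subfieldOrth (hn.odd_of_ne_two (by omega)) (by omega) hodd) (quadUnitary (by omega))
    hn hn5 hodd Q hQ hdisc H hHI

end Cfsg.Agent.Lead.AschO
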