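import Mathlib
import Cfsg.Prelude.Def_GeometricClasses
import Cfsg.Agent.Lead.AschOBase
import Cfsg.Agent.Helper8.StdForms

/-!
# ASCH-PRIME-O: the standard odd-dimensional quadratic form satisfies the abstract hypotheses
-/

set_option autoImplicit false

namespace Cfsg.Agent.Lead.AschO

open Cfsg Cfsg.Geo Cfsg.Agent.Helper8.StdForms
open scoped MatrixGroups Matrix

variable {F : Type*} [Field F] {m : ℕ}

theorem polar_quadFormOdd (u v : Unit ⊕ (Fin m ⊕ Fin m) → F) :
    QuadraticMap.polar (quadFormOdd m F) u v = 2 * u (Sum.inl ()) * v (Sum.inl ())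
      + (∑ i : Fin m, u (Sum.inr (Sum.inl i)) * v (Sum.inr (Sum.inr i))
        + ∑ i : Fin m, v (Sum.inr (Sum.inl i)) * u (Sum.inr (Sum.inr i))) := by
  have h := polar_oddForm F m u v
  have he : (⇑(oddForm F m) : (Unit ⊕ (Fin m ⊕ Fin m) → F) → F) = quadFormOdd m F := by
    funext w
    exact oddForm_apply F m w
  rw [he] at h
  exact h

theorem quadFormOdd_isNondegenerateQuadraticForm (h2 : (2 : F) ≠ 0) :
    IsNondegenerateQuadraticForm (quadFormOdd m F) := by
  classical
  have he : (⇑(oddForm F m) : (Unit ⊕ (Fin m ⊕ Fin m) → F) → F) = quadFormOdd m F := by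
    funext w
    exact oddForm_apply F m w
  refine ⟨?_, ⟨?_, ?_, ?_, ?_⟩, ?_⟩
  · intro c v
    rw [← he, QuadraticMap.map_smul, smul_eq_mul, sq]
  · intro x y v
    rw [← he]
    exact QuadraticMap.polar_add_left _ x y v
  · intro c x v
    rw [← he, QuadraticMap.polar_smul_left, smul_eq_mul]
  · intro v x y
    rw [← he]
    exact QuadraticMap.polar_add_right _ v x y
  · intro c v x
    rw [← he, QuadraticMap.polar_smul_right, smul_eq_mul]
  · intro v hv
    have hex : ∃ x, QuadraticMap.polar (quadFormOdd m F) x v ≠ 0 := by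
      by_contra hcon
      push Not at hcon
      apply hv
      funext k
      rcases k with k | k | k
      · have := hcon (Pi.single (Sum.inl ()) 1)
        rw [polar_quadFormOdd] at this
        simp only [Pi.single_apply, reduceCtorEq, if_false, mul_zero, zero_mul, Finset.sum_const_zero,
          add_zero, if_true, mul_one] at this
        rcases mul_eq_zero.mp this with h | h
        · exact absurd h h2
        · exact h
      · have := hcon (Pi.single (Sum.inr (Sum.inr k)) 1)
        rw [polar_quadFormOdd] at this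
        simpa [Pi.single_apply] using this
      · have := hcon (Pi.single (Sum.inr (Sum.inl k)) 1)
        rw [polar_quadFormOdd] at this
        simpa [Pi.single_apply] using this
    obtain ⟨x, hx⟩ := hex
    refine ⟨⟨x, hx⟩, ⟨x, ?_⟩⟩
    rw [QuadraticMap.polar_comm]
    exact hx

theorem quadFormOdd_discInt : DiscInt (quadFormOdd m F) := by
  classical
  -- all Gram entries are integers
  have hent : ∀ a b, ∃ z : ℤ, gramMatrix (QuadraticMap.polar (quadFormOdd m F)) a b = (z : F) := by
    intro a b
    unfold gramMatrix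
    rw [polar_quadFormOdd]
    have hs : ∀ (a : Unit ⊕ (Fin m ⊕ Fin m)) (k : Unit ⊕ (Fin m ⊕ Fin m)),
        ∃ z : ℤ, (Pi.single a (1 : F) : Unit ⊕ (Fin m ⊕ Fin m) → F) k = (z : F) := by
      intro a k
      by_cases h : k = a
      · exact ⟨1, by rw [h, Pi.single_eq_same, Int.cast_one]⟩
      · exact ⟨0, by rw [Pi.single_eq_of_ne h, Int.cast_zero]⟩
    choose z hz using hs
    simp only [hz]
    refine ⟨2 * z a (Sum.inl ()) * z b (Sum.inl ()) +
      (∑ i : Fin m, z a (Sum.inr (Sum.inl i)) * z b (Sum.inr (Sum.inr i)) +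
        ∑ i : Fin m, z b (Sum.inr (Sum.inl i)) * z a (Sum.inr (Sum.inr i))), ?_⟩
    push_cast
    rfl
  choose Z hZ using hent
  refine ⟨(Matrix.of Z).det, 1, ?_⟩
  rw [one_pow, mul_one]
  have hG : gramMatrix (QuadraticMap.polar (quadFormOdd m F)) = (Matrix.of Z).map (Int.castRingHom F) := by
    ext a b
    rw [hZ a b]
    rfl
  rw [hG]
  exact ((Int.castRingHom F).map_det (Matrix.of Z)).symm

theorem omegaGL_le_isometryGroup {ι : Type} [Fintype ι] [DecidableEq ι] (Q : (ι → F) → F) :
    omegaGL Q ≤ isometryGroup F Q := by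
  unfold omegaGL
  exact Subgroup.map_subtype_le _

end Cfsg.Agent.Lead.AschO
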