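import Mathlib

set_option autoImplicit false

/-! Number theory for the action of a `p`-element on a cyclic `p`-group. -/

namespace Cfsg.Agent.Lead.NAC

/-- odd `p`: if `s ^ p ≡ 1 mod p ^ n` then `s ≡ 1 mod p ^ (n-1)`, in the form `p ^ n ∣ (s - 1) * p`. -/
theorem nt_odd {p : ℕ} [hp : Fact p.Prime] (hp2 : p ≠ 2) {n s : ℕ} (hs : 2 ≤ s)
    (h : s ^ p ≡ 1 [MOD p ^ n]) : p ^ n ∣ (s - 1) * p := by
  rcases Nat.eq_zero_or_pos n with rfl | hn
  · simp
  have hodd : Odd p := hp.out.odd_of_ne_two hp2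
  have h1 : p ^ n ∣ s ^ p - 1 := (Nat.modEq_iff_dvd' (Nat.one_le_pow _ _ (by omega))).mp h.symm
  have hpd : p ∣ s ^ p - 1 := dvd_trans (dvd_pow_self p (by omega)) h1
  have hsp : 1 ≤ s ^ p := Nat.one_le_pow _ _ (by omega)
  -- p does not divide s
  have hnd : ¬ p ∣ s := by
    intro hd
    have h2 : p ∣ s ^ p := dvd_pow hd hp.out.ne_zero
    have h3 : p ∣ s ^ p - (s ^ p - 1) := Nat.dvd_sub h2 hpd
    have h4 : s ^ p - (s ^ p - 1) = 1 := by omega
    rw [h4] at h3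
    exact hp.out.one_lt.ne' (Nat.dvd_one.mp h3)
  -- Fermat
  have hF : (s : ZMod p) ^ p = (s : ZMod p) := ZMod.pow_card _
  have hs1 : p ∣ s - 1 := by
    have h5 : ((s ^ p - 1 : ℕ) : ZMod p) = 0 := (ZMod.natCast_eq_zero_iff _ _).mpr hpd
    rw [Nat.cast_sub hsp, Nat.cast_pow, hF, Nat.cast_one] at h5
    have h6 : ((s - 1 : ℕ) : ZMod p) = 0 := by
      rw [Nat.cast_sub (by omega), Nat.cast_one]; exact h5
    exact (ZMod.natCast_eq_zero_iff _ _).mp h6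
  have hlte := padicValNat.pow_sub_pow (p := p) hodd (x := s) (y := 1) (by omega) (by simpa using hs1) hnd
    (n := p) hp.out.ne_zero
  rw [one_pow, padicValNat_self] at hlte
  have hne : s ^ p - 1 ≠ 0 := by
    have : 2 ^ p ≤ s ^ p := Nat.pow_le_pow_left hs p
    have h2 : 2 ≤ 2 ^ p := by
      calc 2 = 2 ^ 1 := by norm_num
        _ ≤ 2 ^ p := Nat.pow_le_pow_right (by norm_num) hp.out.one_lt.le
    omega
  have h7 : n ≤ padicValNat p (s ^ p - 1) := (padicValNat_dvd_iff_le hne).mp h1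
  rw [hlte] at h7
  have h8 : p ^ (n - 1) ∣ s - 1 := (padicValNat_dvd_iff_le (by omega)).mpr (by omega)
  have h9 : p ^ n = p ^ (n - 1) * p := by
    rw [← pow_succ]; congr 1; omega
  rw [h9]
  exact Nat.mul_dvd_mul_right h8 p

/-- `p = 2`. -/
theorem nt_two {n s : ℕ} (hs : 1 ≤ s) (h : s * s ≡ 1 [MOD 2 ^ n]) :
    (s % 4 = 1 → 2 ^ n ∣ 2 * (s - 1)) ∧ (s % 4 = 3 → 2 ^ n ∣ 2 * (s + 1)) := by
  have h1 : 2 ^ n ∣ s * s - 1 := (Nat.modEq_iff_dvd' (by nlinarith)).mp h.symm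
  have hfac : s * s - 1 = (s - 1) * (s + 1) := by
    obtain ⟨t, rfl⟩ : ∃ t, s = t + 1 := ⟨s - 1, by omega⟩
    have : (t + 1) * (t + 1) = t * (t + 1 + 1) + 1 := by ring
    rw [this]; simp
  rw [hfac] at h1
  constructor
  · intro h4
    obtain ⟨k, hk⟩ : ∃ k, s = 4 * k + 1 := ⟨s / 4, by omega⟩
    have h2 : s + 1 = 2 * (2 * k + 1) := by omega
    rw [h2] at h1
    have hcop : Nat.Coprime (2 ^ n) (2 * k + 1) := by
      apply Nat.Coprime.pow_left
      rw [Nat.coprime_comm, Nat.coprime_two_right]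
      exact ⟨k, rfl⟩
    have h3 : (s - 1) * (2 * (2 * k + 1)) = (2 * (s - 1)) * (2 * k + 1) := by ring
    rw [h3] at h1
    exact hcop.dvd_of_dvd_mul_right h1
  · intro h4
    obtain ⟨k, hk⟩ : ∃ k, s = 4 * k + 3 := ⟨s / 4, by omega⟩
    have h2 : s - 1 = 2 * (2 * k + 1) := by omega
    rw [h2] at h1
    have hcop : Nat.Coprime (2 ^ n) (2 * k + 1) := by
      apply Nat.Coprime.pow_left
      rw [Nat.coprime_comm, Nat.coprime_two_right]
      exact ⟨k, rfl⟩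
    have h3 : 2 * (2 * k + 1) * (s + 1) = (2 * (s + 1)) * (2 * k + 1) := by ring
    rw [h3] at h1
    exact hcop.dvd_of_dvd_mul_right h1

end Cfsg.Agent.Lead.NAC
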