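import Mathlib
import Cfsg.Agent.Lead.NacNT
import Cfsg.Agent.Helper4.CyclicCentA
import Cfsg.Agent.S0016

set_option autoImplicit false

/-! `p`-groups with a self-centralizing cyclic normal subgroup in which every normal abelian
subgroup is cyclic: the local analysis. -/

namespace Cfsg.Agent.Lead.NAC

variable {P : Type*} [Group P]

theorem exists_pow_conj [Finite P] {a : P} (g : P) (h : g * a * g⁻¹ ∈ Subgroup.zpowers a) :
    ∃ s : ℕ, 2 ≤ s ∧ g * a * g⁻¹ = a ^ s := by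
  have hfin : IsOfFinOrder a := isOfFinOrder_of_finite a
  rw [← hfin.mem_powers_iff_mem_zpowers, Submonoid.mem_powers_iff] at h
  obtain ⟨k, hk⟩ := h
  have ho : 1 ≤ orderOf a := orderOf_pos a
  refine ⟨k + 2 * orderOf a, by omega, ?_⟩
  rw [pow_add, pow_mul', pow_orderOf_eq_one, one_pow, mul_one, hk]

theorem conj_pow_of {a g : P} {s : ℕ} (h : g * a * g⁻¹ = a ^ s) (k : ℕ) :
    g * a ^ k * g⁻¹ = (a ^ k) ^ s := by
  rw [← conj_pow, h, ← pow_mul, ← pow_mul, mul_comm]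

theorem conj_iter {a g : P} {s : ℕ} (h : g * a * g⁻¹ = a ^ s) (k : ℕ) :
    g ^ k * a * (g ^ k)⁻¹ = a ^ (s ^ k) := by
  induction k with
  | zero => simp
  | succ k ih =>
    have h1 : g ^ (k + 1) * a * (g ^ (k + 1))⁻¹ = g * (g ^ k * a * (g ^ k)⁻¹) * g⁻¹ := by
      rw [pow_succ']; group
    rw [h1, ih, conj_pow_of h, ← pow_mul, pow_succ]

/-- The standing hypotheses. -/
structure Ctx (p : ℕ) (a z : P) (n : ℕ) : Prop where
  isP : IsPGroup p P
  ord_a : orderOf a = p ^ n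
  norm : ∀ g : P, g * a * g⁻¹ ∈ Subgroup.zpowers a
  cent : ∀ g : P, g * a = a * g → g ∈ Subgroup.zpowers a
  z_mem : z ∈ Subgroup.zpowers a
  z_ord : orderOf z = p
  z_cent : ∀ g : P, g * z = z * g
  hyp : ∀ V : Subgroup P, V.Normal → IsMulCommutative V → IsCyclic V

variable [Finite P] {p : ℕ} [hp : Fact p.Prime] {a z : P} {n : ℕ}

theorem Ctx.z_pow (h : Ctx p a z n) : z ^ p = 1 := by
  rw [← h.z_ord]; exact pow_orderOf_eq_one z

theorem Ctx.z_ne (h : Ctx p a z n) : z ≠ 1 := by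
  intro h1
  have := h.z_ord
  rw [h1, orderOf_one] at this
  exact hp.out.one_lt.ne this

theorem Ctx.omega (h : Ctx p a z n) {u : P} (hu : u ∈ Subgroup.zpowers a) (hup : u ^ p = 1) :
    u ∈ Subgroup.zpowers z := by
  have hmem := Cfsg.Agent.Helper4.mem_zpowers_of_isCyclic_of_pow_prime hp.out
    (⟨u, hu⟩ : Subgroup.zpowers a) ⟨z, h.z_mem⟩
    (Subtype.ext (by simpa using hup)) (Subtype.ext (by simpa using h.z_pow))
    (fun h1 => h.z_ne (congrArg Subtype.val h1))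
  obtain ⟨i, hi⟩ := Subgroup.mem_zpowers_iff.1 hmem
  rw [Subgroup.mem_zpowers_iff]
  refine ⟨i, ?_⟩
  have := congrArg Subtype.val hi
  simpa using this

theorem Ctx.zpowers_z_le (h : Ctx p a z n) : Subgroup.zpowers z ≤ Subgroup.zpowers a := by
  rw [Subgroup.zpowers_le]; exact h.z_mem

theorem Ctx.central_of_mem (h : Ctx p a z n) {w : P} (hw : w ∈ Subgroup.zpowers z) (g : P) :
    g * w = w * g := by
  obtain ⟨i, rfl⟩ := Subgroup.mem_zpowers_iff.1 hw
  have hc : Commute g z := h.z_cent g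
  exact (hc.zpow_right i).eq

theorem Ctx.pow_p_of_mem (h : Ctx p a z n) {w : P} (hw : w ∈ Subgroup.zpowers z) : w ^ p = 1 := by
  obtain ⟨i, rfl⟩ := Subgroup.mem_zpowers_iff.1 hw
  rw [← zpow_natCast, ← zpow_mul, mul_comm, zpow_mul, zpow_natCast, h.z_pow, one_zpow]

theorem Ctx.conj_mem (h : Ctx p a z n) {u : P} (hu : u ∈ Subgroup.zpowers a) (g : P) :
    g * u * g⁻¹ ∈ Subgroup.zpowers a := by
  obtain ⟨i, rfl⟩ := Subgroup.mem_zpowers_iff.1 hu
  rw [← conj_zpow]
  exact Subgroup.zpow_mem _ (h.norm g) i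

theorem Ctx.comm_mem_aux (h : Ctx p a z n) (g k : P) :
    (k * g)⁻¹ * (g * k) ∈ Subgroup.zpowers a := by
  apply h.cent
  obtain ⟨i, -, hi⟩ := exists_pow_conj g (h.norm g)
  obtain ⟨j, -, hj⟩ := exists_pow_conj k (h.norm k)
  have e1 : (g * k) * a * (g * k)⁻¹ = a ^ (j * i) := by
    have : (g * k) * a * (g * k)⁻¹ = g * (k * a * k⁻¹) * g⁻¹ := by group
    rw [this, hj, conj_pow_of hi, ← pow_mul]
  have e2 : (k * g) * a * (k * g)⁻¹ = a ^ (j * i) := by
    have : (k * g) * a * (k * g)⁻¹ = k * (g * a * g⁻¹) * k⁻¹ := by group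
    rw [this, hi, conj_pow_of hj, ← pow_mul, mul_comm]
  have e : (g * k) * a * (g * k)⁻¹ = (k * g) * a * (k * g)⁻¹ := by rw [e1, e2]
  have e3 : (g * k) * a = (k * g) * a * (k * g)⁻¹ * (g * k) := by
    rw [← e]; group
  calc (k * g)⁻¹ * (g * k) * a = (k * g)⁻¹ * ((g * k) * a) := by group
    _ = (k * g)⁻¹ * ((k * g) * a * (k * g)⁻¹ * (g * k)) := by rw [e3]
    _ = a * ((k * g)⁻¹ * (g * k)) := by group

theorem Ctx.comm_mem (h : Ctx p a z n) (g k : P) :
    g * k * g⁻¹ * k⁻¹ ∈ Subgroup.zpowers a := by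
  have := h.comm_mem_aux g⁻¹ k⁻¹
  have e : (k⁻¹ * g⁻¹)⁻¹ * (g⁻¹ * k⁻¹) = g * k * g⁻¹ * k⁻¹ := by group
  rwa [e] at this

/-- The candidate normal non-cyclic abelian subgroup. -/
def vee (z y : P) : Subgroup P := Subgroup.closure ({z, y} : Set P)

theorem Ctx.vee_comm (h : Ctx p a z n) (y : P) : IsMulCommutative (vee z y) := by
  apply Subgroup.isMulCommutative_closure
  rintro x (rfl | rfl) w (rfl | rfl)
  · rfl
  · exact (h.z_cent w).symm
  · exact h.z_cent x
  · rfl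

theorem Ctx.vee_not_cyclic (h : Ctx p a z n) {y : P} (hy : y ∉ Subgroup.zpowers a)
    (hyp : y ^ p = 1) : ¬ IsCyclic (vee z y) := by
  intro hc
  have hzV : z ∈ vee z y := Subgroup.subset_closure (by simp)
  have hyV : y ∈ vee z y := Subgroup.subset_closure (by simp)
  have hmem := Cfsg.Agent.Helper4.mem_zpowers_of_isCyclic_of_pow_prime hp.out
    (⟨y, hyV⟩ : vee z y) ⟨z, hzV⟩
    (Subtype.ext (by simpa using hyp)) (Subtype.ext (by simpa using h.z_pow))
    (fun h1 => h.z_ne (congrArg Subtype.val h1))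
  obtain ⟨i, hi⟩ := Subgroup.mem_zpowers_iff.1 hmem
  have h2 := congrArg Subtype.val hi
  apply hy
  apply h.zpowers_z_le
  rw [Subgroup.mem_zpowers_iff]
  refine ⟨i, ?_⟩
  simpa using h2

theorem Ctx.no_normal (h : Ctx p a z n) {y : P} (hy : y ∉ Subgroup.zpowers a)
    (hyp : y ^ p = 1) (H : ∀ g : P, g * y * g⁻¹ * y⁻¹ ∈ Subgroup.zpowers z) : False := by
  have hzV : z ∈ vee z y := Subgroup.subset_closure (by simp)
  have hyV : y ∈ vee z y := Subgroup.subset_closure (by simp)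
  have hzle : Subgroup.zpowers z ≤ vee z y := by
    rw [Subgroup.zpowers_le]; exact hzV
  have hnorm : (vee z y).Normal := by
    refine ⟨fun v hv g => ?_⟩
    induction hv using Subgroup.closure_induction with
    | mem x hx =>
      rcases hx with rfl | rfl
      · have : g * x * g⁻¹ = x := by rw [h.z_cent g]; group
        rw [this]; exact hzV
      · have : g * x * g⁻¹ = (g * x * g⁻¹ * x⁻¹) * x := by group
        rw [this]
        exact Subgroup.mul_mem _ (hzle (H g)) hyV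
    | one => simp
    | mul x w _ _ hx hw =>
      have : g * (x * w) * g⁻¹ = (g * x * g⁻¹) * (g * w * g⁻¹) := by group
      rw [this]; exact Subgroup.mul_mem _ hx hw
    | inv x _ hx =>
      have : g * x⁻¹ * g⁻¹ = (g * x * g⁻¹)⁻¹ := by group
      rw [this]; exact Subgroup.inv_mem _ hx
  exact h.vee_not_cyclic hy hyp (h.hyp _ hnorm (h.vee_comm y))

theorem Ctx.no_bad_y (h : Ctx p a z n) {y : P} (hy : y ∉ Subgroup.zpowers a)
    (hyp : y ^ p = 1)
    (H : ∀ c ∈ Subgroup.zpowers a, (c * y) ^ p = 1 → c ∈ Subgroup.zpowers z) : False := by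
  apply h.no_normal hy hyp
  intro g
  apply H _ (h.comm_mem g y)
  have : g * y * g⁻¹ * y⁻¹ * y = g * y * g⁻¹ := by group
  rw [this, conj_pow, hyp]; group

end Cfsg.Agent.Lead.NAC
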