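import Mathlib
import Cfsg.Agent.Lead.NacCtx
import Cfsg.Agent.Helper4.CyclicCentA

set_option autoImplicit false

/-!
`p`-groups with a self-centralizing cyclic normal subgroup `⟨a⟩`: the subgroup `M = C(a ^ p)`.
-/

namespace Cfsg.Agent.Lead.CycSC

open Cfsg.Agent.Lead.NAC

variable {P : Type*} [Group P]

/-- The standing hypotheses: `⟨a⟩` is normal and self-centralizing of order `p ^ n`, `n ≥ 2`. -/
structure CS (p : ℕ) (a : P) (n : ℕ) : Prop where
  isP : IsPGroup p P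
  ord_a : orderOf a = p ^ n
  norm : ∀ g : P, g * a * g⁻¹ ∈ Subgroup.zpowers a
  cent : ∀ g : P, g * a = a * g → g ∈ Subgroup.zpowers a
  two_le : 2 ≤ n

variable [Finite P] {p : ℕ} [hp : Fact p.Prime] {a : P} {n : ℕ}

/-- the element of order `p` in `⟨a⟩` -/
def zz (p : ℕ) (a : P) (n : ℕ) : P := a ^ (p ^ (n - 1))

/-- `M = C(a ^ p)` -/
def MM (p : ℕ) (a : P) : Subgroup P := Subgroup.centralizer ({a ^ p} : Set P)

theorem mem_MM {g : P} : g ∈ MM p a ↔ g * a ^ p = a ^ p * g := by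
  unfold MM
  rw [Subgroup.mem_centralizer_singleton_iff]

theorem CS.zz_ord (h : CS p a n) : orderOf (zz p a n) = p := by
  have hd : p ^ (n - 1) ∣ orderOf a := by
    rw [h.ord_a]; exact pow_dvd_pow p (by omega)
  unfold zz
  rw [orderOf_pow_of_dvd (pow_ne_zero _ hp.out.ne_zero) hd, h.ord_a,
    Nat.pow_div (by omega) hp.out.pos]
  have : n - (n - 1) = 1 := by have := h.two_le; omega
  rw [this, pow_one]

theorem CS.zz_pow (h : CS p a n) : (zz p a n) ^ p = 1 := by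
  have := pow_orderOf_eq_one (zz p a n)
  rwa [h.zz_ord] at this

theorem CS.zz_ne (h : CS p a n) : zz p a n ≠ 1 := by
  intro h1
  have := h.zz_ord
  rw [h1, orderOf_one] at this
  exact hp.out.one_lt.ne this

theorem zz_mem : zz p a n ∈ Subgroup.zpowers a :=
  Subgroup.pow_mem _ (Subgroup.mem_zpowers a) _

theorem CS.zz_mem_pow (h : CS p a n) : zz p a n ∈ Subgroup.zpowers (a ^ p) := by
  unfold zz
  have : p ^ (n - 1) = p * p ^ (n - 2) := by
    rw [← pow_succ']; congr 1; have := h.two_le; omega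
  rw [this, pow_mul]
  exact Subgroup.pow_mem _ (Subgroup.mem_zpowers _) _

theorem CS.omega (h : CS p a n) {u : P} (hu : u ∈ Subgroup.zpowers a) (hup : u ^ p = 1) :
    u ∈ Subgroup.zpowers (zz p a n) := by
  have hmem := Cfsg.Agent.Helper4.mem_zpowers_of_isCyclic_of_pow_prime hp.out
    (⟨u, hu⟩ : Subgroup.zpowers a) ⟨zz p a n, zz_mem⟩
    (Subtype.ext (by simpa using hup)) (Subtype.ext (by simpa using h.zz_pow))
    (fun h1 => h.zz_ne (congrArg Subtype.val h1))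
  obtain ⟨i, hi⟩ := Subgroup.mem_zpowers_iff.1 hmem
  rw [Subgroup.mem_zpowers_iff]
  refine ⟨i, ?_⟩
  have := congrArg Subtype.val hi
  simpa using this

theorem zpowers_le_MM : Subgroup.zpowers a ≤ MM p a := by
  rw [Subgroup.zpowers_le, mem_MM, ← pow_succ', ← pow_succ]

theorem comm_of_mem_zpowers {u v : P} (hu : u ∈ Subgroup.zpowers a) (hv : v ∈ Subgroup.zpowers a) :
    u * v = v * u := by
  obtain ⟨i, rfl⟩ := Subgroup.mem_zpowers_iff.mp hu
  obtain ⟨j, rfl⟩ := Subgroup.mem_zpowers_iff.mp hv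
  rw [← zpow_add, ← zpow_add, add_comm]

theorem CS.conj_mem (h : CS p a n) {u : P} (hu : u ∈ Subgroup.zpowers a) (g : P) :
    g * u * g⁻¹ ∈ Subgroup.zpowers a := by
  obtain ⟨i, rfl⟩ := Subgroup.mem_zpowers_iff.mp hu
  have : g * a ^ i * g⁻¹ = (g * a * g⁻¹) ^ i := by
    have := map_zpow (MulAut.conj g) a i
    simpa [MulAut.conj_apply] using this
  rw [this]
  exact Subgroup.zpow_mem _ (h.norm g) i

/-- elements of `M` centralize `z` -/
theorem CS.zz_comm (h : CS p a n) {m : P} (hm : m ∈ MM p a) : m * zz p a n = zz p a n * m := by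
  obtain ⟨i, hi⟩ := Subgroup.mem_zpowers_iff.mp h.zz_mem_pow
  rw [← hi]
  have hc : Commute m (a ^ p) := mem_MM.mp hm
  exact (hc.zpow_right i).eq

/-- for `m ∈ M`, `a⁻¹ * (m a m⁻¹) ∈ ⟨z⟩` -/
theorem CS.comm_mem_zz (h : CS p a n) {m : P} (hm : m ∈ MM p a) :
    a⁻¹ * (m * a * m⁻¹) ∈ Subgroup.zpowers (zz p a n) := by
  have h1 : m * a * m⁻¹ ∈ Subgroup.zpowers a := h.norm m
  have h2 : a⁻¹ ∈ Subgroup.zpowers a := Subgroup.inv_mem _ (Subgroup.mem_zpowers a)
  apply h.omega (Subgroup.mul_mem _ h2 h1)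
  have hc : Commute a⁻¹ (m * a * m⁻¹) := comm_of_mem_zpowers h2 h1
  have h3 : m * a ^ p * m⁻¹ = a ^ p := by
    rw [mem_MM.mp hm]; group
  rw [hc.mul_pow, conj_pow, h3, inv_pow, inv_mul_cancel]

/-- the homomorphism `M → ⟨z⟩`, `m ↦ a⁻¹ m a m⁻¹` -/
noncomputable def CS.psi (h : CS p a n) : ↥(MM p a) →* ↥(Subgroup.zpowers (zz p a n)) where
  toFun m := ⟨a⁻¹ * ((m : P) * a * (m : P)⁻¹), h.comm_mem_zz m.2⟩
  map_one' := by
    apply Subtype.ext
    show a⁻¹ * ((1 : P) * a * (1 : P)⁻¹) = 1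
    group
  map_mul' m₁ m₂ := by
    apply Subtype.ext
    show a⁻¹ * (((m₁ : P) * (m₂ : P)) * a * ((m₁ : P) * (m₂ : P))⁻¹) =
      a⁻¹ * ((m₁ : P) * a * (m₁ : P)⁻¹) * (a⁻¹ * ((m₂ : P) * a * (m₂ : P)⁻¹))
    obtain ⟨w, hw⟩ : ∃ w, w = a⁻¹ * ((m₂ : P) * a * (m₂ : P)⁻¹) := ⟨_, rfl⟩
    have hwz : w ∈ Subgroup.zpowers (zz p a n) := by rw [hw]; exact h.comm_mem_zz m₂.2
    have hwc : (m₁ : P) * w = w * (m₁ : P) := by
      obtain ⟨i, rfl⟩ := Subgroup.mem_zpowers_iff.mp hwz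
      have hc : Commute (m₁ : P) (zz p a n) := h.zz_comm m₁.2
      exact (hc.zpow_right i).eq
    have h1 : (m₂ : P) * a * (m₂ : P)⁻¹ = a * w := by rw [hw]; group
    have h2 : ((m₁ : P) * (m₂ : P)) * a * ((m₁ : P) * (m₂ : P))⁻¹ =
        (m₁ : P) * ((m₂ : P) * a * (m₂ : P)⁻¹) * (m₁ : P)⁻¹ := by group
    rw [h2, h1]
    have h3 : (m₁ : P) * (a * w) * (m₁ : P)⁻¹ = ((m₁ : P) * a * (m₁ : P)⁻¹) *
        ((m₁ : P) * w * (m₁ : P)⁻¹) := by group
    have h4 : (m₁ : P) * w * (m₁ : P)⁻¹ = w := by rw [hwc]; group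
    rw [h3, h4, inv_mul_cancel_left]
    group

theorem CS.psi_ker (h : CS p a n) : h.psi.ker = (Subgroup.zpowers a).subgroupOf (MM p a) := by
  ext m
  rw [MonoidHom.mem_ker, Subgroup.mem_subgroupOf]
  constructor
  · intro hm
    have h1 : a⁻¹ * ((m : P) * a * (m : P)⁻¹) = 1 := congrArg Subtype.val hm
    apply h.cent
    have h2 : (m : P) * a * (m : P)⁻¹ = a := by
      rw [inv_mul_eq_one] at h1
      exact h1.symm
    calc (m : P) * a = ((m : P) * a * (m : P)⁻¹) * (m : P) := by group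
      _ = a * (m : P) := by rw [h2]
  · intro hm
    apply Subtype.ext
    show a⁻¹ * ((m : P) * a * (m : P)⁻¹) = 1
    have h1 : (m : P) * a = a * (m : P) := comm_of_mem_zpowers hm (Subgroup.mem_zpowers a)
    rw [h1]
    group

/-- `|M : ⟨a⟩|` is `1` or `p` -/
theorem CS.relIndex_dvd (h : CS p a n) : (Subgroup.zpowers a).relIndex (MM p a) ∣ p := by
  unfold Subgroup.relIndex
  rw [← h.psi_ker, Subgroup.index_ker]
  have h1 : Nat.card h.psi.range ∣ Nat.card ↥(Subgroup.zpowers (zz p a n)) :=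
    Subgroup.card_subgroup_dvd_card _
  rwa [Nat.card_zpowers, h.zz_ord] at h1

theorem CS.relIndex_eq (h : CS p a n) (hne : MM p a ≠ Subgroup.zpowers a) :
    (Subgroup.zpowers a).relIndex (MM p a) = p := by
  rcases (Nat.dvd_prime hp.out).mp h.relIndex_dvd with h1 | h1
  · exfalso
    apply hne
    apply le_antisymm _ zpowers_le_MM
    exact Subgroup.relIndex_eq_one.mp h1
  · exact h1

end Cfsg.Agent.Lead.CycSC
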