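import Mathlib
import Cfsg.Prelude.Def_PLocal
import Cfsg.Prelude.Def_Transfer
import Cfsg.Agent.Lead.CycSC
import Cfsg.Agent.Helper1.CyclicMaxSub

set_option autoImplicit false

/-!
`Ω₁(M)` for `M = C(a ^ p)`: normal, and characteristic once it has exponent `p`; its structure for
odd `p`.
-/

namespace Cfsg.Agent.Lead.CycSC

open Cfsg.Agent.Lead.NAC

variable {P : Type*} [Group P] [Finite P] {p : ℕ} [hp : Fact p.Prime] {a : P} {n : ℕ}

theorem CS.MM_normal (h : CS p a n) : (MM p a).Normal := by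
  refine ⟨fun m hm g => ?_⟩
  rw [mem_MM] at hm ⊢
  have h1 : g⁻¹ * a ^ p * g ∈ Subgroup.zpowers (a ^ p) := by
    have h2 : g⁻¹ * a * g⁻¹⁻¹ ∈ Subgroup.zpowers a := h.norm g⁻¹
    obtain ⟨i, hi⟩ := Subgroup.mem_zpowers_iff.mp h2
    have h3 : g⁻¹ * a ^ p * g = (g⁻¹ * a * g⁻¹⁻¹) ^ p := by
      rw [conj_pow, inv_inv]
    rw [h3, ← hi]
    have h5 : (a ^ i) ^ p = (a ^ p) ^ i := by
      rw [← zpow_natCast, ← zpow_mul, mul_comm, zpow_mul, zpow_natCast]
    rw [h5]
    exact Subgroup.zpow_mem _ (Subgroup.mem_zpowers _) i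
  obtain ⟨i, hi⟩ := Subgroup.mem_zpowers_iff.mp h1
  have hc : Commute m ((a ^ p) ^ i) := (show Commute m (a ^ p) from hm).zpow_right i
  rw [hi] at hc
  have h4 : g * m * g⁻¹ * a ^ p = g * (m * (g⁻¹ * a ^ p * g)) * g⁻¹ := by group
  rw [h4, hc.eq]
  group

/-- a normal subgroup of exponent `p` lies in `M` -/
theorem CS.normal_exp_le_MM (h : CS p a n) (F : Subgroup P) (hF : F.Normal)
    (hexp : ∀ f ∈ F, f ^ p = 1) : F ≤ MM p a := by
  intro f hf
  rw [mem_MM]
  obtain ⟨c, hc⟩ : ∃ c, c = f * a * f⁻¹ * a⁻¹ := ⟨_, rfl⟩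
  have hcF : c ∈ F := by
    rw [hc]
    have : f * a * f⁻¹ * a⁻¹ = f * (a * f⁻¹ * a⁻¹) := by group
    rw [this]
    exact F.mul_mem hf (hF.conj_mem _ (F.inv_mem hf) a)
  have hcA : c ∈ Subgroup.zpowers a := by
    rw [hc]
    exact Subgroup.mul_mem _ (h.norm f) (Subgroup.inv_mem _ (Subgroup.mem_zpowers a))
  have hcp : c ^ p = 1 := hexp c hcF
  have h1 : f * a * f⁻¹ = c * a := by rw [hc]; group
  have hcomm : Commute c a := comm_of_mem_zpowers hcA (Subgroup.mem_zpowers a)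
  have h2 : f * a ^ p * f⁻¹ = a ^ p := by
    rw [← conj_pow, h1, hcomm.mul_pow, hcp, one_mul]
  calc f * a ^ p = (f * a ^ p * f⁻¹) * f := by group
    _ = a ^ p * f := by rw [h2]

theorem CS.omegaOne_normal (h : CS p a n) : (Cfsg.omegaOne p (MM p a)).Normal := by
  have hMn := h.MM_normal
  refine ⟨fun v hv g => ?_⟩
  unfold Cfsg.omegaOne at hv ⊢
  induction hv using Subgroup.closure_induction with
  | mem x hx =>
    apply Subgroup.subset_closure
    refine ⟨hMn.conj_mem x hx.1 g, ?_⟩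
    rw [conj_pow, hx.2]
    group
  | one => simp
  | mul x w _ _ hx hw =>
    have : g * (x * w) * g⁻¹ = (g * x * g⁻¹) * (g * w * g⁻¹) := by group
    rw [this]; exact Subgroup.mul_mem _ hx hw
  | inv x _ hx =>
    have : g * x⁻¹ * g⁻¹ = (g * x * g⁻¹)⁻¹ := by group
    rw [this]; exact Subgroup.inv_mem _ hx

/-- if `Ω₁(M)` has exponent `p`, it is characteristic -/
theorem CS.omegaOne_characteristic (h : CS p a n)
    (hexp : ∀ x ∈ Cfsg.omegaOne p (MM p a), x ^ p = 1) :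
    (Cfsg.omegaOne p (MM p a)).Characteristic := by
  rw [Subgroup.characteristic_iff_map_le]
  intro φ
  have hn : ((Cfsg.omegaOne p (MM p a)).map φ.toMonoidHom).Normal :=
    h.omegaOne_normal.map φ.toMonoidHom φ.surjective
  have hexp' : ∀ f ∈ (Cfsg.omegaOne p (MM p a)).map φ.toMonoidHom, f ^ p = 1 := by
    rintro _ ⟨x, hx, rfl⟩
    rw [← map_pow, hexp x hx, map_one]
  have hle := h.normal_exp_le_MM _ hn hexp'
  intro y hy
  exact Subgroup.subset_closure ⟨hle hy, hexp' y hy⟩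

theorem omegaOne_eq_map (M : Subgroup P) :
    Cfsg.omegaOne p M = (Subgroup.closure {x : ↥M | x ^ p = 1}).map M.subtype := by
  unfold Cfsg.omegaOne
  rw [MonoidHom.map_closure]
  congr 1
  ext y
  constructor
  · rintro ⟨hy, hyp⟩
    exact ⟨⟨y, hy⟩, Subtype.ext hyp, rfl⟩
  · rintro ⟨x, hx, rfl⟩
    exact ⟨x.2, congrArg Subtype.val hx⟩

theorem CS.MM_not_cyclic (h : CS p a n) (hne : MM p a ≠ Subgroup.zpowers a) :
    ¬ IsCyclic ↥(MM p a) := by
  intro hc
  apply hne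
  apply le_antisymm _ zpowers_le_MM
  intro m hm
  apply h.cent
  have := IsCyclic.isMulCommutative (α := ↥(MM p a))
  have h1 := mul_comm' (⟨m, hm⟩ : ↥(MM p a)) ⟨a, zpowers_le_MM (Subgroup.mem_zpowers a)⟩
  exact congrArg Subtype.val h1

/-- odd `p`: `Ω₁(M)` is elementary abelian of order `p ^ 2` -/
theorem CS.omegaOne_odd (h : CS p a n) (hp2 : p ≠ 2) (hne : MM p a ≠ Subgroup.zpowers a) :
    Cfsg.IsElementaryAbelian p (Cfsg.omegaOne p (MM p a)) ∧
      Nat.card ↥(Cfsg.omegaOne p (MM p a)) = p ^ 2 := by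
  have hMp : IsPGroup p ↥(MM p a) := h.isP.to_subgroup _
  have hcyc : IsCyclic ↥((Subgroup.zpowers a).subgroupOf (MM p a)) := by
    have e := Subgroup.subgroupOfEquivOfLe (zpowers_le_MM (p := p) (a := a))
    exact isCyclic_of_surjective e.symm.toMonoidHom e.symm.surjective
  have hidx : ((Subgroup.zpowers a).subgroupOf (MM p a)).index = p := h.relIndex_eq hne
  obtain ⟨⟨hcomm, hexp⟩, hcard⟩ := Cfsg.Agent.Helper1.omega_elementary_of_cyclic_index_p hp2 hMp
    (h.MM_not_cyclic hne) _ hcyc hidx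
  rw [omegaOne_eq_map]
  refine ⟨⟨?_, ?_⟩, ?_⟩
  · constructor
    constructor
    rintro ⟨_, x, hx, rfl⟩ ⟨_, y, hy, rfl⟩
    apply Subtype.ext
    have := mul_comm' (⟨x, hx⟩ : ↥(Subgroup.closure {x : ↥(MM p a) | x ^ p = 1})) ⟨y, hy⟩
    have h2 : x * y = y * x := congrArg Subtype.val this
    show (x : P) * (y : P) = (y : P) * (x : P)
    exact congrArg Subtype.val h2
  · rintro _ ⟨x, hx, rfl⟩
    have := hexp x hx
    exact congrArg Subtype.val this
  · rw [Subgroup.card_map_of_injective (Subgroup.subtype_injective _), hcard]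

end Cfsg.Agent.Lead.CycSC
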