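import Mathlib
import Cfsg.Agent.Lead.CycSC2
import Cfsg.Agent.Lead.FourConnected
import Cfsg.Agent.Helper2.KleinSylow

set_option autoImplicit false

/-!
`p = 2`, `n ≥ 3`, `M ≠ ⟨a⟩`: `M` is the modular group and `Ω₁(M)` is a four-group.
-/

namespace Cfsg.Agent.Lead.CycSC

open Cfsg.Agent.Lead.NAC

variable {P : Type*} [Group P] [Finite P] {a : P} {n : ℕ}

theorem CS.mem_zz_two (h : CS 2 a n) {w : P} (hw : w ∈ Subgroup.zpowers (zz 2 a n)) :
    w = 1 ∨ w = zz 2 a n := by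
  haveI : Fact (Nat.Prime 2) := ⟨Nat.prime_two⟩
  have hfin : IsOfFinOrder (zz 2 a n) := isOfFinOrder_of_finite _
  rw [← hfin.mem_powers_iff_mem_zpowers, Submonoid.mem_powers_iff] at hw
  obtain ⟨k, rfl⟩ := hw
  rw [← pow_mod_orderOf, h.zz_ord]
  rcases Nat.mod_two_eq_zero_or_one k with h0 | h1
  · left; rw [h0, pow_zero]
  · right; rw [h1, pow_one]

theorem CS.zz_sq (h : CS 2 a n) : zz 2 a n * zz 2 a n = 1 := by
  haveI : Fact (Nat.Prime 2) := ⟨Nat.prime_two⟩
  rw [← pow_two]; exact h.zz_pow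

/-- an element of `M` outside `⟨a⟩` sends `a` to `a z` -/
theorem CS.conj_of_not_mem (h : CS 2 a n) {x : P} (hx : x ∈ MM 2 a)
    (hxU : x ∉ Subgroup.zpowers a) : x * a * x⁻¹ = a * zz 2 a n := by
  haveI : Fact (Nat.Prime 2) := ⟨Nat.prime_two⟩
  rcases h.mem_zz_two (h.comm_mem_zz hx) with h1 | h1
  · exfalso
    apply hxU
    apply h.cent
    have h2 : x * a * x⁻¹ = a := by
      rw [inv_mul_eq_one] at h1
      exact h1.symm
    calc x * a = (x * a * x⁻¹) * x := by group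
      _ = a * x := by rw [h2]
  · rw [← h1]; group

theorem CS.conj_pow_of_not_mem (h : CS 2 a n) {x : P} (hx : x ∈ MM 2 a)
    (hxU : x ∉ Subgroup.zpowers a) (i : ℕ) : x * a ^ i * x⁻¹ = a ^ i * (zz 2 a n) ^ i := by
  have hc : Commute a (zz 2 a n) :=
    comm_of_mem_zpowers (Subgroup.mem_zpowers a) zz_mem
  rw [← conj_pow, h.conj_of_not_mem hx hxU, hc.mul_pow]

theorem CS.zz_pow_even (h : CS 2 a n) {i : ℕ} (hi : Even i) : (zz 2 a n) ^ i = 1 := by
  obtain ⟨j, rfl⟩ := hi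
  rw [← two_mul, pow_mul, pow_two, h.zz_sq, one_pow]

theorem CS.zz_pow_odd (h : CS 2 a n) {i : ℕ} (hi : Odd i) : (zz 2 a n) ^ i = zz 2 a n := by
  obtain ⟨j, rfl⟩ := hi
  rw [pow_succ, pow_mul, pow_two, h.zz_sq, one_pow, one_mul]

/-- even powers of `a` are central in `M` -/
theorem commute_even_pow {m : P} (hm : m ∈ MM 2 a) {e : ℕ} (he : Even e) : Commute m (a ^ e) := by
  obtain ⟨j, rfl⟩ := he
  have hc : Commute m (a ^ 2) := mem_MM.mp hm
  rw [← two_mul, pow_mul]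
  exact hc.pow_right j

/-- the squaring trick -/
theorem invol_of_sq_eq {x₁ : P} (hx₁ : x₁ ∈ MM 2 a) (hx₁U : x₁ ∉ Subgroup.zpowers a) {e : ℕ}
    (he : Even e) (hsq : x₁ ^ 2 = (a ^ e) ^ 2) :
    ∃ t : P, t ∈ MM 2 a ∧ t ∉ Subgroup.zpowers a ∧ t * t = 1 := by
  have haM : a ^ e ∈ MM 2 a := zpowers_le_MM (Subgroup.pow_mem _ (Subgroup.mem_zpowers a) _)
  refine ⟨(a ^ e)⁻¹ * x₁, Subgroup.mul_mem _ (Subgroup.inv_mem _ haM) hx₁, ?_, ?_⟩
  · intro hmem
    apply hx₁U
    have : x₁ = a ^ e * ((a ^ e)⁻¹ * x₁) := by group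
    rw [this]
    exact Subgroup.mul_mem _ (Subgroup.pow_mem _ (Subgroup.mem_zpowers a) _) hmem
  · have hc : Commute (a ^ e)⁻¹ x₁ := ((commute_even_pow hx₁ he).symm).inv_left
    rw [← pow_two, hc.mul_pow, hsq, inv_pow, inv_mul_cancel]

/-- `M \ ⟨a⟩` contains an involution -/
theorem CS.exists_invol (h : CS 2 a n) (hn3 : 3 ≤ n) (hne : MM 2 a ≠ Subgroup.zpowers a) :
    ∃ t : P, t ∈ MM 2 a ∧ t ∉ Subgroup.zpowers a ∧ t * t = 1 := by
  haveI : Fact (Nat.Prime 2) := ⟨Nat.prime_two⟩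
  obtain ⟨x, hxM, hxU⟩ : ∃ x, x ∈ MM 2 a ∧ x ∉ Subgroup.zpowers a := by
    by_contra hno
    push Not at hno
    exact hne (le_antisymm hno zpowers_le_MM)
  have hxa := h.conj_of_not_mem hxM hxU
  have hzc : x * zz 2 a n = zz 2 a n * x := h.zz_comm hxM
  have hca : Commute a (zz 2 a n) := comm_of_mem_zpowers (Subgroup.mem_zpowers a) zz_mem
  -- `x ^ 2 ∈ ⟨a⟩`
  have hx2U : x ^ 2 ∈ Subgroup.zpowers a := by
    apply h.cent
    have h1 : x ^ 2 * a * (x ^ 2)⁻¹ = a := by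
      have e1 : x ^ 2 * a * (x ^ 2)⁻¹ = x * (x * a * x⁻¹) * x⁻¹ := by rw [pow_two]; group
      rw [e1, hxa]
      have e2 : x * (a * zz 2 a n) * x⁻¹ = (x * a * x⁻¹) * (x * zz 2 a n * x⁻¹) := by group
      have e3 : x * zz 2 a n * x⁻¹ = zz 2 a n := by rw [hzc]; group
      rw [e2, e3, hxa, mul_assoc, h.zz_sq, mul_one]
    calc x ^ 2 * a = (x ^ 2 * a * (x ^ 2)⁻¹) * x ^ 2 := by group
      _ = a * x ^ 2 := by rw [h1]
  have hfin : IsOfFinOrder a := isOfFinOrder_of_finite a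
  rw [← hfin.mem_powers_iff_mem_zpowers, Submonoid.mem_powers_iff] at hx2U
  obtain ⟨k, hk⟩ := hx2U
  -- `k` is even
  have hkeven : Even k := by
    have h1 := h.conj_pow_of_not_mem hxM hxU k
    rw [hk] at h1
    have h2 : x * x ^ 2 * x⁻¹ = x ^ 2 := by group
    rw [h2] at h1
    have h3 : (zz 2 a n) ^ k = 1 := by
      have := congrArg (fun w => (x ^ 2)⁻¹ * w) h1
      simpa using this.symm
    have h4 : orderOf (zz 2 a n) ∣ k := orderOf_dvd_of_pow_eq_one h3
    rw [h.zz_ord] at h4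
    exact (even_iff_two_dvd).mpr h4
  obtain ⟨j, hj⟩ := hkeven
  have hsq : x ^ 2 = (a ^ j) ^ 2 := by
    rw [← hk, hj, ← pow_mul, mul_two]
  rcases Nat.even_or_odd j with hjev | hjodd
  · exact invol_of_sq_eq hxM hxU hjev hsq
  · -- replace `x` by `a * x`
    have haxM : a * x ∈ MM 2 a :=
      Subgroup.mul_mem _ (zpowers_le_MM (Subgroup.mem_zpowers a)) hxM
    have haxU : a * x ∉ Subgroup.zpowers a := by
      intro hmem
      apply hxU
      have : x = a⁻¹ * (a * x) := by group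
      rw [this]
      exact Subgroup.mul_mem _ (Subgroup.inv_mem _ (Subgroup.mem_zpowers a)) hmem
    have hev : Even (1 + j + 2 ^ (n - 2)) := by
      have h1 : Even (2 ^ (n - 2)) := (Nat.even_pow' (by omega)).mpr even_two
      have h2 : Even (1 + j) := by
        rw [add_comm]; exact Odd.add_one hjodd
      exact h2.add h1
    apply invol_of_sq_eq haxM haxU hev
    have e1 : (a * x) ^ 2 = a * (x * a * x⁻¹) * x ^ 2 := by rw [pow_two, pow_two]; group
    rw [e1, hxa, hsq]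
    have e2 : zz 2 a n = a ^ (2 ^ (n - 1)) := rfl
    have e3 : a * (a * a ^ (2 ^ (n - 1))) * (a ^ j) ^ 2 = a ^ (1 + 1 + 2 ^ (n - 1) + j * 2) := by
      rw [pow_add, pow_add, pow_add, pow_one, pow_mul]
      group
    rw [e2, e3, ← pow_mul]
    congr 1
    have : 2 ^ (n - 1) = 2 ^ (n - 2) * 2 := by
      rw [← pow_succ]; congr 1; omega
    rw [this]
    ring

/-- the involutions of `M` -/
theorem CS.invol_cases (h : CS 2 a n) (hn3 : 3 ≤ n) {t : P} (ht : t ∈ MM 2 a)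
    (htU : t ∉ Subgroup.zpowers a) (htt : t * t = 1) {m : P} (hm : m ∈ MM 2 a) (hmm : m ^ 2 = 1) :
    m = 1 ∨ m = zz 2 a n ∨ m = t ∨ m = zz 2 a n * t := by
  haveI : Fact (Nat.Prime 2) := ⟨Nat.prime_two⟩
  by_cases hmU : m ∈ Subgroup.zpowers a
  · rcases h.mem_zz_two (h.omega hmU hmm) with h1 | h1
    · left; exact h1
    · right; left; exact h1
  · right; right
    have hti : t⁻¹ = t := inv_eq_of_mul_eq_one_left htt
    -- `u = m t ∈ ⟨a⟩`
    have huU : m * t ∈ Subgroup.zpowers a := by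
      apply h.cent
      have h1 : m * t * a * (m * t)⁻¹ = a := by
        have e1 : m * t * a * (m * t)⁻¹ = m * (t * a * t⁻¹) * m⁻¹ := by group
        rw [e1, h.conj_of_not_mem ht htU]
        have e2 : m * (a * zz 2 a n) * m⁻¹ = (m * a * m⁻¹) * (m * zz 2 a n * m⁻¹) := by group
        have e3 : m * zz 2 a n * m⁻¹ = zz 2 a n := by rw [h.zz_comm hm]; group
        rw [e2, e3, h.conj_of_not_mem hm hmU, mul_assoc, h.zz_sq, mul_one]
      calc m * t * a = (m * t * a * (m * t)⁻¹) * (m * t) := by group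
        _ = a * (m * t) := by rw [h1]
    have hfin : IsOfFinOrder a := isOfFinOrder_of_finite a
    rw [← hfin.mem_powers_iff_mem_zpowers, Submonoid.mem_powers_iff] at huU
    obtain ⟨i, hi⟩ := huU
    have hmeq : m = a ^ i * t := by
      rw [hi, mul_assoc, htt, mul_one]
    -- `t u t⁻¹ = u⁻¹`
    have h1 : t * a ^ i * t⁻¹ = (a ^ i)⁻¹ := by
      have e1 : m * m = 1 := by rw [← pow_two]; exact hmm
      rw [hmeq] at e1
      have e2 : t * a ^ i * t⁻¹ = (a ^ i)⁻¹ * (a ^ i * t * (a ^ i * t)) * t⁻¹ * t⁻¹ := by group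
      rw [e2, e1, hti]
      have : (a ^ i)⁻¹ * 1 * t * t = (a ^ i)⁻¹ * (t * t) := by group
      rw [this, htt, mul_one]
    have h2 := h.conj_pow_of_not_mem ht htU i
    rw [h1] at h2
    -- `(a ^ i) ^ 2 = z ^ i`
    have h3 : (a ^ i) ^ 2 * (zz 2 a n) ^ i = 1 := by
      have := congrArg (fun w => a ^ i * w) h2
      simp only [mul_inv_cancel] at this
      rw [pow_two, mul_assoc]
      exact this.symm
    rcases Nat.even_or_odd i with hev | hodd
    · rw [h.zz_pow_even hev, mul_one] at h3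
      have hU : a ^ i ∈ Subgroup.zpowers a := Subgroup.pow_mem _ (Subgroup.mem_zpowers a) _
      rcases h.mem_zz_two (h.omega hU h3) with h4 | h4
      · left; rw [hmeq, h4, one_mul]
      · right; rw [hmeq, h4]
    · exfalso
      rw [h.zz_pow_odd hodd] at h3
      have h4 : (a ^ i) ^ 4 = 1 := by
        have e1 : (a ^ i) ^ 4 = ((a ^ i) ^ 2 * zz 2 a n) * ((a ^ i) ^ 2 * zz 2 a n) *
            (zz 2 a n * zz 2 a n)⁻¹ := by
          have hc : Commute ((a ^ i) ^ 2) (zz 2 a n) :=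
            comm_of_mem_zpowers (Subgroup.pow_mem _
              (Subgroup.pow_mem _ (Subgroup.mem_zpowers a) _) _) zz_mem
          have e0 : (a ^ i) ^ 4 = (a ^ i) ^ 2 * (a ^ i) ^ 2 := by rw [← pow_add]
          rw [e0]
          have e5 : (a ^ i) ^ 2 * zz 2 a n * ((a ^ i) ^ 2 * zz 2 a n) =
              (a ^ i) ^ 2 * (zz 2 a n * (a ^ i) ^ 2) * zz 2 a n := by group
          rw [e5, ← hc.eq]
          group
        rw [e1, h3, h.zz_sq]
        group
      rw [← pow_mul, ← orderOf_dvd_iff_pow_eq_one, h.ord_a] at h4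
      have h5 : 2 ^ n = 2 ^ (n - 2) * 4 := by
        have : n = n - 2 + 2 := by omega
        conv_lhs => rw [this, pow_add]
        norm_num
      rw [h5] at h4
      have h6 : 2 ^ (n - 2) ∣ i := Nat.dvd_of_mul_dvd_mul_right (by norm_num) h4
      have h7 : 2 ∣ 2 ^ (n - 2) := dvd_pow_self 2 (by omega)
      have h8 : 2 ∣ i := h7.trans h6
      exact (Nat.not_even_iff_odd.mpr hodd) (even_iff_two_dvd.mpr h8)

/-- `p = 2`, `n ≥ 3`: `Ω₁(M)` is a four-group -/
theorem CS.omegaOne_two (h : CS 2 a n) (hn3 : 3 ≤ n) (hne : MM 2 a ≠ Subgroup.zpowers a) :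
    Cfsg.IsElementaryAbelian 2 (Cfsg.omegaOne 2 (MM 2 a)) ∧
      Nat.card ↥(Cfsg.omegaOne 2 (MM 2 a)) = 2 ^ 2 := by
  haveI : Fact (Nat.Prime 2) := ⟨Nat.prime_two⟩
  obtain ⟨t, htM, htU, htt⟩ := h.exists_invol hn3 hne
  have hzt : zz 2 a n * t = t * zz 2 a n := (h.zz_comm htM).symm
  have ht1 : t ≠ 1 := by
    intro h1; apply htU; rw [h1]; exact Subgroup.one_mem _
  have hzne : zz 2 a n ≠ t := by
    intro h1; apply htU; rw [← h1]; exact zz_mem
  have hK := fourOf_isKleinFour (zz 2 a n) t h.zz_sq htt hzt h.zz_ne ht1 hzne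
  have heq : Cfsg.omegaOne 2 (MM 2 a) = fourOf (zz 2 a n) t h.zz_sq htt hzt := by
    apply le_antisymm
    · unfold Cfsg.omegaOne
      rw [Subgroup.closure_le]
      rintro m ⟨hm, hmm⟩
      rw [SetLike.mem_coe, mem_fourOf]
      exact h.invol_cases hn3 htM htU htt hm hmm
    · intro m hm
      apply Subgroup.subset_closure
      have hzM : zz 2 a n ∈ MM 2 a := zpowers_le_MM zz_mem
      rw [mem_fourOf] at hm
      have hsq : m * m = 1 := Cfsg.Agent.Helper2.klein_mul_self _ hK (mem_fourOf.mpr hm)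
      refine ⟨?_, by rw [pow_two]; exact hsq⟩
      rcases hm with rfl | rfl | rfl | rfl
      · exact Subgroup.one_mem _
      · exact hzM
      · exact htM
      · exact Subgroup.mul_mem _ hzM htM
  rw [heq]
  refine ⟨⟨?_, ?_⟩, hK.card_four⟩
  · have := hK
    exact IsKleinFour.isMulCommutative
  · intro x hx
    rw [pow_two]
    exact Cfsg.Agent.Helper2.klein_mul_self _ hK hx

end Cfsg.Agent.Lead.CycSC
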