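import Mathlib
import Cfsg.Agent.Lead.NacCtx

set_option autoImplicit false

namespace Cfsg.Agent.Lead.NAC

variable {P : Type*} [Group P] [Finite P] {p : ℕ} [hp : Fact p.Prime] {a z : P} {n : ℕ}

/-- the exponent of the action of an element whose `p`-th power centralizes `a` -/
theorem Ctx.exp_of_pow (h : Ctx p a z n) {y : P} (hyp : y ^ p * a = a * y ^ p) :
    ∃ s : ℕ, 2 ≤ s ∧ y * a * y⁻¹ = a ^ s ∧ s ^ p ≡ 1 [MOD p ^ n] := by
  obtain ⟨s, hs2, hs⟩ := exists_pow_conj y (h.norm y)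
  refine ⟨s, hs2, hs, ?_⟩
  have h1 := conj_iter hs p
  have h2 : y ^ p * a * (y ^ p)⁻¹ = a := by rw [hyp]; group
  rw [h2] at h1
  have h3 : a ^ (s ^ p) = a ^ 1 := by rw [pow_one]; exact h1.symm
  rw [pow_eq_pow_iff_modEq, h.ord_a] at h3
  exact h3

theorem Ctx.pow_mem_conj (h : Ctx p a z n) {y w : P} (hw : w ∈ Subgroup.zpowers z)
    (hy : y * a * y⁻¹ = w * a) (m : ℕ) : y * a ^ m = w ^ m * a ^ m * y := by
  have hc : Commute w a := (h.central_of_mem hw a).symm
  have h1 : y * a ^ m * y⁻¹ = w ^ m * a ^ m := by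
    rw [← conj_pow, hy, hc.mul_pow]
  rw [← h1]; group

theorem Ctx.odd_case (h : Ctx p a z n) (hp2 : p ≠ 2) {y : P} (hy : y ∉ Subgroup.zpowers a)
    (hyp : y ^ p = 1) : False := by
  obtain ⟨s, hs2, hs, hmod⟩ := h.exp_of_pow (y := y) (by rw [hyp]; simp)
  have hdvd := nt_odd hp2 hs2 hmod
  obtain ⟨w, hwdef⟩ : ∃ w, w = a ^ (s - 1) := ⟨_, rfl⟩
  have hwA : w ∈ Subgroup.zpowers a := by rw [hwdef]; exact Subgroup.pow_mem _ (Subgroup.mem_zpowers a) _
  have hwp : w ^ p = 1 := by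
    rw [hwdef, ← pow_mul, ← orderOf_dvd_iff_pow_eq_one, h.ord_a]; exact hdvd
  have hwz : w ∈ Subgroup.zpowers z := h.omega hwA hwp
  have hya : y * a * y⁻¹ = w * a := by
    rw [hs, hwdef, ← pow_succ]; congr 1; omega
  apply h.no_bad_y hy hyp
  intro c hc hcy
  have hfin : IsOfFinOrder a := isOfFinOrder_of_finite a
  rw [← hfin.mem_powers_iff_mem_zpowers, Submonoid.mem_powers_iff] at hc
  obtain ⟨m, rfl⟩ := hc
  have hrel := h.pow_mem_conj hwz hya m
  have hwm : w ^ m ∈ Subgroup.zpowers z := Subgroup.pow_mem _ hwz m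
  have hcx : Commute (w ^ m) (a ^ m) := (h.central_of_mem hwm (a ^ m)).symm
  have hcyy : Commute (w ^ m) y := (h.central_of_mem hwm y).symm
  have hform := Cfsg.Agent.S0016.mul_pow_class_two (a ^ m) y (w ^ m) hrel hcx hcyy p
  have hch : p ∣ p.choose 2 := by
    apply hp.out.dvd_choose_self (by norm_num)
    have := hp.out.two_le
    omega
  obtain ⟨t, ht⟩ := hch
  have hone : (w ^ m) ^ (p.choose 2) = 1 := by
    rw [ht, pow_mul, h.pow_p_of_mem hwm, one_pow]
  rw [hform, hyp, hone, mul_one, mul_one] at hcy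
  exact h.omega (Subgroup.pow_mem _ (Subgroup.mem_zpowers a) _) hcy

/-- `p = 2`: the action of an involution, according to its action on the elements of order 4. -/
theorem Ctx.two_dich (h : Ctx 2 a z n) {y a₂ : P} (hyy : y * y = 1)
    (ha₂ : a₂ ∈ Subgroup.zpowers a) (ho : orderOf a₂ = 4) :
    (y * a₂ = a₂ * y ∧ ∃ w ∈ Subgroup.zpowers z, y * a * y⁻¹ = w * a) ∨
      (y * a₂ * y⁻¹ = a₂⁻¹ ∧ y * a * y⁻¹ * a ∈ Subgroup.zpowers z) := by
  have hy2 : y ^ 2 = 1 := by rw [pow_two]; exact hyy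
  obtain ⟨s, hs2, hs, hmod⟩ := h.exp_of_pow (y := y) (by rw [hy2]; simp)
  have hmod' : s * s ≡ 1 [MOD 2 ^ n] := by rw [← pow_two]; exact hmod
  obtain ⟨hA, hB⟩ := nt_two (by omega : 1 ≤ s) hmod'
  -- action on a₂
  have hfin : IsOfFinOrder a := isOfFinOrder_of_finite a
  have ha₂' := ha₂
  rw [← hfin.mem_powers_iff_mem_zpowers, Submonoid.mem_powers_iff] at ha₂'
  obtain ⟨t, ht⟩ := ha₂'
  have hconj : y * a₂ * y⁻¹ = a₂ ^ s := by
    rw [← ht]; exact conj_pow_of hs t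
  have hconj' : y * a₂ * y⁻¹ = a₂ ^ (s % 4) := by
    rw [hconj, ← ho, pow_mod_orderOf]
  have hoc : orderOf (y * a₂ * y⁻¹) = 4 := by
    rw [← ho]
    have hsc : SemiconjBy y a₂ (y * a₂ * y⁻¹) := by
      unfold SemiconjBy; group
    exact (hsc.orderOf_eq).symm
  have h4 : a₂ ^ 4 = 1 := by rw [← ho]; exact pow_orderOf_eq_one _
  have hlt : s % 4 < 4 := Nat.mod_lt _ (by norm_num)
  have hcases : s % 4 = 1 ∨ s % 4 = 3 := by
    rcases (by omega : s % 4 = 0 ∨ s % 4 = 1 ∨ s % 4 = 2 ∨ s % 4 = 3) with h0 | h1 | h2 | h3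
    · exfalso
      rw [hconj', h0, pow_zero, orderOf_one] at hoc
      omega
    · exact Or.inl h1
    · exfalso
      rw [hconj', h2] at hoc
      have : orderOf (a₂ ^ 2) ∣ 2 := by
        apply orderOf_dvd_of_pow_eq_one
        rw [← pow_mul]; exact h4
      rw [hoc] at this
      omega
    · exact Or.inr h3
  rcases hcases with h1 | h3
  · left
    constructor
    · have : y * a₂ * y⁻¹ = a₂ := by rw [hconj', h1, pow_one]
      calc y * a₂ = (y * a₂ * y⁻¹) * y := by group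
        _ = a₂ * y := by rw [this]
    · refine ⟨a ^ (s - 1), ?_, ?_⟩
      · apply h.omega (Subgroup.pow_mem _ (Subgroup.mem_zpowers a) _)
        rw [← pow_mul, ← orderOf_dvd_iff_pow_eq_one, h.ord_a, mul_comm]
        exact hA h1
      · rw [hs, ← pow_succ]; congr 1; omega
  · right
    constructor
    · rw [hconj', h3]
      apply eq_inv_of_mul_eq_one_left
      rw [← pow_succ]; exact h4
    · rw [hs, ← pow_succ]
      apply h.omega (Subgroup.pow_mem _ (Subgroup.mem_zpowers a) _)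
      rw [← pow_mul, ← orderOf_dvd_iff_pow_eq_one, h.ord_a, mul_comm]
      exact hB h3

end Cfsg.Agent.Lead.NAC
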