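import Mathlib
import Cfsg.Agent.Lead.NacCases

set_option autoImplicit false

namespace Cfsg.Agent.Lead.NAC

variable {P : Type*} [Group P] [Finite P] {p : ℕ} [hp : Fact p.Prime] {a z : P} {n : ℕ}

/-- every element normalizes `⟨a₂⟩`, acting by `±1`. -/
theorem Ctx.conj_order_four (h : Ctx 2 a z n) {a₂ : P}
    (ha₂ : a₂ ∈ Subgroup.zpowers a) (ho : orderOf a₂ = 4) (g : P) :
    g * a₂ * g⁻¹ = a₂ ∨ g * a₂ * g⁻¹ = a₂⁻¹ := by
  obtain ⟨s, -, hs⟩ := exists_pow_conj g (h.norm g)
  have hfin : IsOfFinOrder a := isOfFinOrder_of_finite a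
  have ha₂' := ha₂
  rw [← hfin.mem_powers_iff_mem_zpowers, Submonoid.mem_powers_iff] at ha₂'
  obtain ⟨t, ht⟩ := ha₂'
  have hconj : g * a₂ * g⁻¹ = a₂ ^ s := by
    rw [← ht]; exact conj_pow_of hs t
  have hconj' : g * a₂ * g⁻¹ = a₂ ^ (s % 4) := by
    rw [hconj, ← ho, pow_mod_orderOf]
  have hoc : orderOf (g * a₂ * g⁻¹) = 4 := by
    rw [← ho]
    have hsc : SemiconjBy g a₂ (g * a₂ * g⁻¹) := by
      unfold SemiconjBy; group
    exact (hsc.orderOf_eq).symm
  have h4 : a₂ ^ 4 = 1 := by rw [← ho]; exact pow_orderOf_eq_one _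
  have hlt : s % 4 < 4 := Nat.mod_lt _ (by norm_num)
  rcases (by omega : s % 4 = 0 ∨ s % 4 = 1 ∨ s % 4 = 2 ∨ s % 4 = 3) with h0 | h1 | h2 | h3
  · exfalso
    rw [hconj', h0, pow_zero, orderOf_one] at hoc
    omega
  · left; rw [hconj', h1, pow_one]
  · exfalso
    rw [hconj', h2] at hoc
    have : orderOf (a₂ ^ 2) ∣ 2 := by
      apply orderOf_dvd_of_pow_eq_one
      rw [← pow_mul]; exact h4
    rw [hoc] at this
    omega
  · right
    rw [hconj', h3]
    apply eq_inv_of_mul_eq_one_left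
    rw [← pow_succ]; exact h4

theorem Ctx.K_case (h : Ctx 2 a z n) {y a₂ : P} (hy : y ∉ Subgroup.zpowers a) (hyy : y * y = 1)
    (ha₂ : a₂ ∈ Subgroup.zpowers a) (ho : orderOf a₂ = 4) (hcomm : y * a₂ = a₂ * y) : False := by
  have hy2 : y ^ 2 = 1 := by rw [pow_two]; exact hyy
  rcases h.two_dich hyy ha₂ ho with ⟨-, w, hwz, hya⟩ | ⟨hinv, -⟩
  swap
  · have h1 : y * a₂ * y⁻¹ = a₂ := by rw [hcomm]; group
    rw [h1] at hinv
    have h2 : a₂ ^ 2 = 1 := by
      rw [pow_two]
      calc a₂ * a₂ = a₂ * a₂⁻¹ := by rw [← hinv]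
        _ = 1 := mul_inv_cancel _
    have : orderOf a₂ ∣ 2 := orderOf_dvd_of_pow_eq_one h2
    rw [ho] at this; omega
  · have hw2 : w ^ 2 = 1 := h.pow_p_of_mem hwz
    apply h.no_bad_y hy hy2
    intro c hc hcy
    have hfin : IsOfFinOrder a := isOfFinOrder_of_finite a
    rw [← hfin.mem_powers_iff_mem_zpowers, Submonoid.mem_powers_iff] at hc
    obtain ⟨m, rfl⟩ := hc
    have hrel := h.pow_mem_conj hwz hya m
    have hwm : w ^ m ∈ Subgroup.zpowers z := Subgroup.pow_mem _ hwz m
    have hcx : Commute (w ^ m) (a ^ m) := (h.central_of_mem hwm (a ^ m)).symm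
    have hsq : (a ^ m * y) ^ 2 = (a ^ m) ^ 2 * w ^ m := by
      rw [pow_two]
      calc a ^ m * y * (a ^ m * y) = a ^ m * (y * a ^ m) * y := by group
        _ = a ^ m * (w ^ m * a ^ m * y) * y := by rw [hrel]
        _ = a ^ m * (w ^ m * a ^ m) * (y * y) := by group
        _ = a ^ m * (a ^ m * w ^ m) := by rw [hyy, mul_one, hcx.eq]
        _ = (a ^ m) ^ 2 * w ^ m := by rw [pow_two, mul_assoc]
    rw [hsq] at hcy
    rcases Nat.even_or_odd m with he | hodd
    · obtain ⟨k, hk⟩ := he
      have hwm1 : w ^ m = 1 := by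
        rw [hk, ← two_mul, pow_mul, hw2, one_pow]
      rw [hwm1, mul_one] at hcy
      exact h.omega (Subgroup.pow_mem _ (Subgroup.mem_zpowers a) _) hcy
    · exfalso
      have hord : orderOf (a ^ m) = 2 ^ n := by
        rw [← h.ord_a]
        apply Nat.Coprime.orderOf_pow
        rw [h.ord_a]
        exact Nat.Coprime.pow_left _ (Nat.coprime_two_left.mpr hodd)
      have h4 : (a ^ m) ^ 4 = 1 := by
        have h5 : (a ^ m) ^ 2 = (w ^ m)⁻¹ := eq_inv_of_mul_eq_one_left hcy
        have h6 : (a ^ m) ^ 4 = ((a ^ m) ^ 2) ^ 2 := by rw [← pow_mul (a ^ m) 2 2]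
        rw [h6, h5, inv_pow, ← pow_mul, mul_comm, pow_mul, hw2, one_pow, inv_one]
      have hd1 : 2 ^ n ∣ 4 := by rw [← hord]; exact orderOf_dvd_of_pow_eq_one h4
      have hd2 : 4 ∣ 2 ^ n := by
        rw [← ho, ← h.ord_a]; exact orderOf_dvd_of_mem_zpowers ha₂
      have hn4 : 2 ^ n = 4 := Nat.dvd_antisymm hd1 hd2
      have heq : Subgroup.zpowers a₂ = Subgroup.zpowers a := by
        apply Subgroup.eq_of_le_of_card_ge
        · rw [Subgroup.zpowers_le]; exact ha₂
        · rw [Nat.card_zpowers, Nat.card_zpowers, ho, h.ord_a, hn4]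
      have haa : a ∈ Subgroup.zpowers a₂ := by rw [heq]; exact Subgroup.mem_zpowers a
      obtain ⟨i, hi⟩ := Subgroup.mem_zpowers_iff.1 haa
      apply hy; apply h.cent
      rw [← hi]
      have hc : Commute y a₂ := hcomm
      exact (hc.zpow_right i).eq

theorem Ctx.D_case (h : Ctx 2 a z n) {y a₂ : P} (hyy : y * y = 1)
    (ha₂ : a₂ ∈ Subgroup.zpowers a) (ho : orderOf a₂ = 4) (hnc : y * a₂ ≠ a₂ * y) :
    y * a₂ * y⁻¹ = a₂⁻¹ ∧ y * a * y⁻¹ * a ∈ Subgroup.zpowers z := by
  rcases h.two_dich hyy ha₂ ho with ⟨hc, -⟩ | hw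
  · exact absurd hc hnc
  · exact hw

/-- "unique subgroup of order `p`" from "all elements of order dividing `p` lie in `⟨z⟩`". -/
theorem unique_of_forall {G : Type*} [Group G] [Finite G] {p : ℕ} [hp : Fact p.Prime] (z : G)
    (hz : orderOf z = p) (H : ∀ y : G, y ^ p = 1 → y ∈ Subgroup.zpowers z) :
    ∀ H K : Subgroup G, Nat.card H = p → Nat.card K = p → H = K := by
  have key : ∀ H : Subgroup G, Nat.card H = p → H = Subgroup.zpowers z := by
    intro L hL
    apply Subgroup.eq_of_le_of_card_ge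
    · intro x hx
      apply H
      have h1 : (⟨x, hx⟩ : L) ^ p = 1 := by
        have := pow_card_eq_one' (G := L) (x := ⟨x, hx⟩)
        rwa [hL] at this
      have h2 := congrArg Subtype.val h1
      rw [Subgroup.coe_pow, Subgroup.coe_one] at h2
      exact h2
    · rw [Nat.card_zpowers, hz, hL]
  intro H K hH hK
  rw [key H hH, key K hK]

/-- a generalized quaternion group with a central element of order greater than 2 is
commutative -/
theorem quaternion_comm_of_central {m : ℕ} (q : QuaternionGroup m) (hq : ∀ r, q * r = r * q)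
    (hq2 : q * q ≠ 1) : ∀ r t : QuaternionGroup m, r * t = t * r := by
  cases q with
  | a i =>
    exfalso
    apply hq2
    have h1 := hq (QuaternionGroup.xa 0)
    rw [QuaternionGroup.a_mul_xa, QuaternionGroup.xa_mul_a] at h1
    have h2 : (0 : ZMod (2 * m)) - i = 0 + i := by
      simpa using h1
    rw [QuaternionGroup.a_mul_a, QuaternionGroup.one_def]
    congr 1
    have : i + i = (0 + i) - (0 - i) := by ring
    rw [this, h2]; ring
  | xa i =>
    have h1 := hq (QuaternionGroup.a 1)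
    rw [QuaternionGroup.xa_mul_a, QuaternionGroup.a_mul_xa] at h1
    have h2 : i + 1 = i - 1 := by simpa using h1
    have h3 : (2 : ZMod (2 * m)) = 0 := by
      have : (2 : ZMod (2 * m)) = (i + 1) - (i - 1) := by ring
      rw [this, h2]; ring
    have hneg : ∀ j : ZMod (2 * m), -j = j := by
      intro j
      have : j + j = 0 := by
        have : j + j = 2 * j := by ring
        rw [this, h3, zero_mul]
      exact neg_eq_of_add_eq_zero_left this
    intro r t
    cases r with
    | a j =>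
      cases t with
      | a k => rw [QuaternionGroup.a_mul_a, QuaternionGroup.a_mul_a, add_comm]
      | xa k =>
        rw [QuaternionGroup.a_mul_xa, QuaternionGroup.xa_mul_a, sub_eq_add_neg, hneg]
    | xa j =>
      cases t with
      | a k =>
        rw [QuaternionGroup.a_mul_xa, QuaternionGroup.xa_mul_a, sub_eq_add_neg, hneg]
      | xa k =>
        rw [QuaternionGroup.xa_mul_xa, QuaternionGroup.xa_mul_xa]
        congr 1
        have : (m : ZMod (2 * m)) + k - j = (m : ZMod (2 * m)) + j - k + ((k + k) - (j + j)) := by ring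
        rw [this]
        have hk : k + k = 0 := by
          have : k + k = 2 * k := by ring
          rw [this, h3, zero_mul]
        have hj : j + j = 0 := by
          have : j + j = 2 * j := by ring
          rw [this, h3, zero_mul]
        rw [hk, hj]; ring

end Cfsg.Agent.Lead.NAC
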