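import Mathlib
import Cfsg.Prelude.Def_CaseTheorems
import Cfsg.Agent.Lead.CycSC3
import Cfsg.Agent.Lead.NacTwo
import Cfsg.Agent.Helper2.DihedralIso
import Cfsg.Agent.S0016

set_option autoImplicit false

/-!
`p = 2`: if the centralizer of the elements of order 4 of `⟨a⟩` is `⟨a⟩`, the group is dihedral,
generalized quaternion or quasi-dihedral.
-/

namespace Cfsg.Agent.Lead.CycSC

open Cfsg.Agent.Lead.NAC

variable {P : Type*} [Group P] [Finite P] {a : P} {n : ℕ}

theorem CS.a₂_ord (h : CS 2 a n) : orderOf (a ^ (2 ^ (n - 2))) = 4 := by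
  have hn2 := h.two_le
  have hd : 2 ^ (n - 2) ∣ orderOf a := by
    rw [h.ord_a]; exact pow_dvd_pow 2 (by omega)
  rw [orderOf_pow_of_dvd (by positivity) hd, h.ord_a, Nat.pow_div (by omega) (by norm_num)]
  have : n - (n - 2) = 2 := by omega
  rw [this]

/-- every element normalizes `⟨a₂⟩`, acting by `±1`. -/
theorem CS.conj_order_four (h : CS 2 a n) (g : P) :
    g * a ^ (2 ^ (n - 2)) * g⁻¹ = a ^ (2 ^ (n - 2)) ∨
      g * a ^ (2 ^ (n - 2)) * g⁻¹ = (a ^ (2 ^ (n - 2)))⁻¹ := by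
  obtain ⟨a₂, ha₂def⟩ : ∃ a₂, a₂ = a ^ (2 ^ (n - 2)) := ⟨_, rfl⟩
  have ho : orderOf a₂ = 4 := by rw [ha₂def]; exact h.a₂_ord
  rw [← ha₂def]
  obtain ⟨s, -, hs⟩ := exists_pow_conj g (h.norm g)
  have hconj : g * a₂ * g⁻¹ = a₂ ^ s := by
    rw [ha₂def]; exact conj_pow_of hs _
  have hconj' : g * a₂ * g⁻¹ = a₂ ^ (s % 4) := by
    rw [hconj, ← ho, pow_mod_orderOf]
  have hoc : orderOf (g * a₂ * g⁻¹) = 4 := by
    rw [← ho]
    have hsc : SemiconjBy g a₂ (g * a₂ * g⁻¹) := by
      unfold SemiconjBy; group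
    exact (hsc.orderOf_eq).symm
  have h4 : a₂ ^ 4 = 1 := by rw [← ho]; exact pow_orderOf_eq_one _
  have hlt : s % 4 < 4 := Nat.mod_lt _ (by norm_num)
  rcases (by omega : s % 4 = 0 ∨ s % 4 = 1 ∨ s % 4 = 2 ∨ s % 4 = 3) with h0 | h1 | h2 | h3
  · exfalso
    rw [hconj', h0, pow_zero, orderOf_one] at hoc
    omega
  · left; rw [hconj', h1, pow_one]
  · exfalso
    rw [hconj', h2] at hoc
    have : orderOf (a₂ ^ 2) ∣ 2 := by
      apply orderOf_dvd_of_pow_eq_one
      rw [← pow_mul]; exact h4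
    rw [hoc] at this
    omega
  · right
    rw [hconj', h3]
    apply eq_inv_of_mul_eq_one_left
    rw [← pow_succ]; exact h4

section core

variable (h : CS 2 a n)
  (hcent4 : ∀ g : P, g * a ^ (2 ^ (n - 2)) = a ^ (2 ^ (n - 2)) * g → g ∈ Subgroup.zpowers a)

include h hcent4

theorem CS.inv_of_not_mem {y : P} (hy : y ∉ Subgroup.zpowers a) :
    y * a ^ (2 ^ (n - 2)) * y⁻¹ = (a ^ (2 ^ (n - 2)))⁻¹ := by
  rcases h.conj_order_four y with h1 | h1
  · exfalso
    apply hy
    apply hcent4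
    calc y * a ^ (2 ^ (n - 2)) = (y * a ^ (2 ^ (n - 2)) * y⁻¹) * y := by group
      _ = a ^ (2 ^ (n - 2)) * y := by rw [h1]
  · exact h1

theorem CS.cover {y : P} (hy : y ∉ Subgroup.zpowers a) (g : P) :
    g ∈ Subgroup.zpowers a ∨ g * y ∈ Subgroup.zpowers a := by
  obtain ⟨a₂, ha₂def⟩ : ∃ a₂, a₂ = a ^ (2 ^ (n - 2)) := ⟨_, rfl⟩
  have hyinv := h.inv_of_not_mem hcent4 hy
  rw [← ha₂def] at hyinv
  rcases h.conj_order_four g with h1 | h1
  · left
    apply hcent4
    rw [← ha₂def] at h1 ⊢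
    calc g * a₂ = (g * a₂ * g⁻¹) * g := by group
      _ = a₂ * g := by rw [h1]
  · right
    apply hcent4
    rw [← ha₂def] at h1 ⊢
    have h2 : y * a₂ = a₂⁻¹ * y := by
      calc y * a₂ = (y * a₂ * y⁻¹) * y := by group
        _ = a₂⁻¹ * y := by rw [hyinv]
    have h3 : g * a₂⁻¹ = a₂ * g := by
      have h4 : g * a₂⁻¹ * g⁻¹ = (g * a₂ * g⁻¹)⁻¹ := by group
      calc g * a₂⁻¹ = (g * a₂⁻¹ * g⁻¹) * g := by group
        _ = a₂ * g := by rw [h4, h1, inv_inv]
    calc g * y * a₂ = g * (y * a₂) := by group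
      _ = g * (a₂⁻¹ * y) := by rw [h2]
      _ = (g * a₂⁻¹) * y := by group
      _ = a₂ * g * y := by rw [h3]
      _ = a₂ * (g * y) := by group

theorem CS.index_two {y : P} (hy : y ∉ Subgroup.zpowers a) : (Subgroup.zpowers a).index = 2 := by
  rw [Subgroup.index_eq_two_iff]
  refine ⟨y, fun b => ?_⟩
  by_cases hb : b ∈ Subgroup.zpowers a
  · right
    refine ⟨hb, fun hby => hy ?_⟩
    have : y = b⁻¹ * (b * y) := by group
    rw [this]
    exact Subgroup.mul_mem _ (Subgroup.inv_mem _ hb) hby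
  · left
    exact ⟨(h.cover hcent4 hy b).resolve_left hb, hb⟩

theorem CS.card_two {y : P} (hy : y ∉ Subgroup.zpowers a) : Nat.card P = 2 ^ (n + 1) := by
  rw [← (Subgroup.zpowers a).index_mul_card, h.index_two hcent4 hy, Nat.card_zpowers, h.ord_a,
    pow_succ, mul_comm]

/-- the action of an involution outside `⟨a⟩` -/
theorem CS.invol_action {y : P} (hy : y ∉ Subgroup.zpowers a) (hyy : y * y = 1) :
    y * a * y⁻¹ * a = 1 ∨ y * a * y⁻¹ * a = zz 2 a n := by
  haveI : Fact (Nat.Prime 2) := ⟨Nat.prime_two⟩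
  obtain ⟨s, hs2, hs⟩ := exists_pow_conj y (h.norm y)
  have hmod : s * s ≡ 1 [MOD 2 ^ n] := by
    have h1 := conj_iter hs 2
    have h2 : y ^ 2 * a * (y ^ 2)⁻¹ = a := by rw [pow_two, hyy]; group
    rw [h2] at h1
    have h3 : a ^ (s ^ 2) = a ^ 1 := by rw [pow_one]; exact h1.symm
    rw [pow_eq_pow_iff_modEq, h.ord_a, pow_two] at h3
    exact h3
  obtain ⟨-, hB⟩ := nt_two (by omega : 1 ≤ s) hmod
  obtain ⟨a₂, ha₂def⟩ : ∃ a₂, a₂ = a ^ (2 ^ (n - 2)) := ⟨_, rfl⟩
  have ho : orderOf a₂ = 4 := by rw [ha₂def]; exact h.a₂_ord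
  have hyinv := h.inv_of_not_mem hcent4 hy
  rw [← ha₂def] at hyinv
  have hconj : y * a₂ * y⁻¹ = a₂ ^ s := by
    rw [ha₂def]; exact conj_pow_of hs _
  have h4 : a₂ ^ 4 = 1 := by rw [← ho]; exact pow_orderOf_eq_one _
  have hs3 : s % 4 = 3 := by
    have h5 : a₂ ^ (s + 1) = 1 := by
      rw [pow_succ, ← hconj, hyinv, inv_mul_cancel]
    have h6 : orderOf a₂ ∣ s + 1 := orderOf_dvd_of_pow_eq_one h5
    rw [ho] at h6
    omega
  have hw2 : (a ^ (s + 1)) ^ 2 = 1 := by
    rw [← pow_mul, ← orderOf_dvd_iff_pow_eq_one, h.ord_a, mul_comm]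
    exact hB hs3
  have hw : y * a * y⁻¹ * a = a ^ (s + 1) := by rw [hs, ← pow_succ]
  rw [hw]
  exact h.mem_zz_two (h.omega (Subgroup.pow_mem _ (Subgroup.mem_zpowers a) _) hw2)

theorem CS.two_core (hna : ∃ g : P, g ∉ Subgroup.zpowers a) :
    Nat.card P = 2 ^ (n + 1) ∧
      ((∃ m : ℕ, Nonempty (P ≃* DihedralGroup m)) ∨ (∃ m : ℕ, Nonempty (P ≃* QuaternionGroup m)) ∨
        Cfsg.IsQuasiDihedral P) := by
  haveI : Fact (Nat.Prime 2) := ⟨Nat.prime_two⟩
  obtain ⟨y₀, hy₀⟩ := hna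
  have hcard := h.card_two hcent4 hy₀
  refine ⟨hcard, ?_⟩
  by_cases hcase : ∀ y : P, y ^ 2 = 1 → y ∈ Subgroup.zpowers a
  · -- unique involution
    right; left
    rcases Cfsg.Agent.S0016.result 2 h.isP
      (unique_of_forall (zz 2 a n) h.zz_ord (fun y hy => h.omega (hcase y hy) hy)) with
      hc | ⟨-, m, hm⟩
    · exfalso
      apply hy₀
      apply h.cent
      have := IsCyclic.isMulCommutative (α := P)
      exact mul_comm' y₀ a
    · exact ⟨2 ^ m, hm⟩
  · push Not at hcase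
    obtain ⟨y, hyp, hy⟩ := hcase
    have hyy : y * y = 1 := by rw [← pow_two]; exact hyp
    have hy1 : y ≠ 1 := by
      intro h1; apply hy; rw [h1]; exact Subgroup.one_mem _
    have hyo : orderOf y = 2 := orderOf_eq_prime hyp hy1
    rcases h.invol_action hcent4 hy hyy with hw1 | hwz
    · -- dihedral
      left
      have hya : y * a * y⁻¹ = a⁻¹ := eq_inv_of_mul_eq_one_left hw1
      refine ⟨2 ^ n, ?_⟩
      have hx : (a * y) * (a * y) = 1 := by
        calc (a * y) * (a * y) = a * (y * a * y⁻¹) * (y * y) := by group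
          _ = 1 := by rw [hya, hyy]; group
      have hx1 : a * y ≠ 1 := by
        intro h1
        apply hy
        have : y = a⁻¹ := eq_inv_of_mul_eq_one_right h1
        rw [this]; exact Subgroup.inv_mem _ (Subgroup.mem_zpowers a)
      have e := Cfsg.Agent.Helper2.closure_pair_invol_equiv_dihedral hx hyy hx1 hy1
      have hxy : a * y * y = a := by rw [mul_assoc, hyy, mul_one]
      rw [hxy, h.ord_a] at e
      obtain ⟨e⟩ := e
      have htop : Subgroup.closure ({a * y, y} : Set P) = ⊤ := by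
        rw [eq_top_iff]
        intro g _
        have hyC : y ∈ Subgroup.closure ({a * y, y} : Set P) := Subgroup.subset_closure (by simp)
        have haC : a ∈ Subgroup.closure ({a * y, y} : Set P) := by
          have h1 : a * y ∈ Subgroup.closure ({a * y, y} : Set P) :=
            Subgroup.subset_closure (by simp)
          have h2 := Subgroup.mul_mem _ h1 hyC
          rwa [hxy] at h2
        have hAC : Subgroup.zpowers a ≤ Subgroup.closure ({a * y, y} : Set P) := by
          rw [Subgroup.zpowers_le]; exact haC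
        rcases h.cover hcent4 hy g with hg | hg
        · exact hAC hg
        · have : g = (g * y) * y⁻¹ := by group
          rw [this]
          exact Subgroup.mul_mem _ (hAC hg) (Subgroup.inv_mem _ hyC)
      exact ⟨(Subgroup.topEquiv.symm.trans (MulEquiv.subgroupCongr htop.symm)).trans e⟩
    · -- quasi-dihedral
      right; right
      have hrel : y * a * y⁻¹ = a ^ (2 ^ (n - 1) - 1) := by
        have h1 : y * a * y⁻¹ = zz 2 a n * a⁻¹ := by rw [← hwz]; group
        rw [h1]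
        have hpos : 1 ≤ 2 ^ (n - 1) := Nat.one_le_pow _ _ (by norm_num)
        have h2 : zz 2 a n = a ^ (2 ^ (n - 1) - 1) * a := by
          rw [← pow_succ]
          show a ^ (2 ^ (n - 1)) = _
          congr 1; omega
        rw [h2]; group
      have hn3 : 3 ≤ n := by
        by_contra hn3
        have hn : n = 2 := by have := h.two_le; omega
        rw [hn] at hrel
        norm_num at hrel
        apply hy; apply h.cent
        calc y * a = (y * a * y⁻¹) * y := by group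
          _ = a * y := by rw [hrel]
      exact ⟨n, hn3, hcard, a, y, h.ord_a, hyo, hrel⟩

end core

end Cfsg.Agent.Lead.CycSC
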