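import Mathlib
import Cfsg.Prelude.Def_CaseTheorems
import Cfsg.Prelude.Def_PLocal
import Cfsg.Prelude.Def_Transfer
import Cfsg.Agent.Lead.CycSC4

set_option autoImplicit false

/-!
The case `M = ⟨a⟩` and the final assembly.
-/

namespace Cfsg.Agent.Lead.CycSC

open Cfsg.Agent.Lead.NAC

variable {P : Type*} [Group P] [Finite P] {p : ℕ} [hp : Fact p.Prime] {a : P} {n : ℕ}

omit [Finite P] in
/-- an element outside `U` has a power outside `U` whose `p`-th power is in `U` -/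
theorem exists_pow_not_mem (hP : IsPGroup p P) (U : Subgroup P) {g : P} (hg : g ∉ U) :
    ∃ k : ℕ, g ^ (p ^ k) ∉ U ∧ (g ^ (p ^ k)) ^ p ∈ U := by
  classical
  have hex : ∃ k : ℕ, g ^ (p ^ k) ∈ U := by
    obtain ⟨k, hk⟩ := hP g
    exact ⟨k, by rw [hk]; exact U.one_mem⟩
  have hk0 : Nat.find hex ≠ 0 := by
    intro h0
    have := Nat.find_spec hex
    rw [h0, pow_zero, pow_one] at this
    exact hg this
  obtain ⟨k, hk⟩ := Nat.exists_eq_succ_of_ne_zero hk0
  refine ⟨k, ?_, ?_⟩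
  · exact Nat.find_min hex (by omega)
  · rw [← pow_mul, ← pow_succ, ← Nat.succ_eq_add_one, ← hk]
    exact Nat.find_spec hex

theorem mem_MM_of_dvd (h : CS p a n) {g : P} {s : ℕ} (hs1 : 1 ≤ s) (hs : g * a * g⁻¹ = a ^ s)
    (hd : p ^ n ∣ (s - 1) * p) : g ∈ MM p a := by
  rw [mem_MM]
  have h1 : g * a ^ p * g⁻¹ = a ^ p := by
    rw [← conj_pow, hs, ← pow_mul]
    have h2 : s * p = p + (s - 1) * p := by
      obtain ⟨t, rfl⟩ : ∃ t, s = t + 1 := ⟨s - 1, by omega⟩
      simp only [Nat.add_sub_cancel]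
      ring
    rw [h2, pow_add]
    have h3 : a ^ ((s - 1) * p) = 1 := by
      rw [← orderOf_dvd_iff_pow_eq_one, h.ord_a]; exact hd
    rw [h3, mul_one]
  calc g * a ^ p = (g * a ^ p * g⁻¹) * g := by group
    _ = a ^ p * g := by rw [h1]

/-- the exponent of the action of an element whose `p`-th power lies in `⟨a⟩` -/
theorem CS.exp_of_pow (h : CS p a n) {y : P} (hyp : y ^ p ∈ Subgroup.zpowers a) :
    ∃ s : ℕ, 2 ≤ s ∧ y * a * y⁻¹ = a ^ s ∧ s ^ p ≡ 1 [MOD p ^ n] := by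
  obtain ⟨s, hs2, hs⟩ := exists_pow_conj y (h.norm y)
  refine ⟨s, hs2, hs, ?_⟩
  have h1 := conj_iter hs p
  have hc : y ^ p * a = a * y ^ p := comm_of_mem_zpowers hyp (Subgroup.mem_zpowers a)
  have h2 : y ^ p * a * (y ^ p)⁻¹ = a := by rw [hc]; group
  rw [h2] at h1
  have h3 : a ^ (s ^ p) = a ^ 1 := by rw [pow_one]; exact h1.symm
  rw [pow_eq_pow_iff_modEq, h.ord_a] at h3
  exact h3

/-- odd `p`: `M ≠ ⟨a⟩` -/
theorem CS.MM_ne_odd (h : CS p a n) (hp2 : p ≠ 2) (hna : ∃ g : P, g ∉ Subgroup.zpowers a) :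
    MM p a ≠ Subgroup.zpowers a := by
  intro heq
  obtain ⟨g, hg⟩ := hna
  obtain ⟨k, hk1, hk2⟩ := exists_pow_not_mem h.isP (Subgroup.zpowers a) hg
  obtain ⟨s, hs2, hs, hmod⟩ := h.exp_of_pow hk2
  have hdvd := nt_odd hp2 hs2 hmod
  apply hk1
  rw [← heq]
  exact mem_MM_of_dvd h (by omega) hs hdvd

/-- `p = 2`, `M = ⟨a⟩`: the centralizer of the elements of order 4 of `⟨a⟩` is `⟨a⟩` -/
theorem CS.cent4_of_MM_eq (h : CS 2 a n) (heq : MM 2 a = Subgroup.zpowers a) (g : P)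
    (hg : g * a ^ (2 ^ (n - 2)) = a ^ (2 ^ (n - 2)) * g) : g ∈ Subgroup.zpowers a := by
  haveI : Fact (Nat.Prime 2) := ⟨Nat.prime_two⟩
  by_contra hgU
  obtain ⟨k, hk1, hk2⟩ := exists_pow_not_mem h.isP (Subgroup.zpowers a) hgU
  obtain ⟨s, hs2, hs, hmod⟩ := h.exp_of_pow hk2
  have hmod' : s * s ≡ 1 [MOD 2 ^ n] := by rw [← pow_two]; exact hmod
  obtain ⟨hA, -⟩ := nt_two (by omega : 1 ≤ s) hmod'
  obtain ⟨a₂, ha₂def⟩ : ∃ a₂, a₂ = a ^ (2 ^ (n - 2)) := ⟨_, rfl⟩
  rw [← ha₂def] at hg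
  have ho : orderOf a₂ = 4 := by rw [ha₂def]; exact h.a₂_ord
  have hc : Commute (g ^ (2 ^ k)) a₂ := (show Commute g a₂ from hg).pow_left _
  have hconj : g ^ (2 ^ k) * a₂ * (g ^ (2 ^ k))⁻¹ = a₂ ^ s := by
    rw [ha₂def]; exact conj_pow_of hs _
  have h1 : g ^ (2 ^ k) * a₂ * (g ^ (2 ^ k))⁻¹ = a₂ := by rw [hc.eq]; group
  rw [h1] at hconj
  have hs1 : s % 4 = 1 := by
    have h5 : a₂ ^ s = a₂ ^ 1 := by rw [pow_one]; exact hconj.symm
    rw [pow_eq_pow_iff_modEq, ho] at h5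
    exact h5
  apply hk1
  rw [← heq]
  apply mem_MM_of_dvd h (by omega) hs
  rw [mul_comm]
  exact hA hs1

theorem centralizer_powerClosure (a : P) (p : ℕ) [Fact p.Prime] :
    Subgroup.centralizer ((Cfsg.powerClosure p 1 (Subgroup.zpowers a) : Subgroup P) : Set P) =
      MM p a := by
  have hpc : Cfsg.powerClosure p 1 (Subgroup.zpowers a) = Subgroup.zpowers (a ^ p) := by
    unfold Cfsg.powerClosure
    apply le_antisymm
    · rw [Subgroup.closure_le]
      rintro y ⟨x, hx, rfl⟩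
      obtain ⟨i, rfl⟩ := Subgroup.mem_zpowers_iff.mp hx
      rw [SetLike.mem_coe, pow_one]
      have : (a ^ i) ^ p = (a ^ p) ^ i := by
        rw [← zpow_natCast, ← zpow_mul, mul_comm, zpow_mul, zpow_natCast]
      rw [this]
      exact Subgroup.zpow_mem _ (Subgroup.mem_zpowers _) i
    · rw [Subgroup.zpowers_le]
      apply Subgroup.subset_closure
      exact ⟨a, Subgroup.mem_zpowers a, by rw [pow_one]⟩
  rw [hpc]
  ext g
  rw [mem_MM, Subgroup.mem_centralizer_iff]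
  constructor
  · intro hg
    exact (hg _ (Subgroup.mem_zpowers _)).symm
  · rintro hg _ ⟨i, rfl⟩
    have hc : Commute g (a ^ p) := hg
    exact ((hc.zpow_right i).eq).symm

theorem main {G : Type*} [Group G] [Finite G] {p : ℕ} [hp : Fact p.Prime] (hG : IsPGroup p G)
    (hna : ¬ IsMulCommutative G) (U : Subgroup G) [hUn' : U.Normal] (hU : IsCyclic U) (n : ℕ)
    (hUn : Nat.card U = p ^ n) (hC : Subgroup.centralizer (U : Set G) = U) :
    (p = 2 ∧ Nat.card G = 2 ^ (n + 1) ∧ ((∃ m : ℕ, Nonempty (G ≃* DihedralGroup m)) ∨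
      (∃ m : ℕ, Nonempty (G ≃* QuaternionGroup m)) ∨ Cfsg.IsQuasiDihedral G)) ∨
    (U.relIndex (Subgroup.centralizer (Cfsg.powerClosure p 1 U : Set G)) = p ∧
      Cfsg.IsElementaryAbelian p
        (Cfsg.omegaOne p (Subgroup.centralizer (Cfsg.powerClosure p 1 U : Set G))) ∧
      Nat.card ↥(Cfsg.omegaOne p (Subgroup.centralizer (Cfsg.powerClosure p 1 U : Set G))) =
        p ^ 2 ∧
      (Cfsg.omegaOne p
        (Subgroup.centralizer (Cfsg.powerClosure p 1 U : Set G))).Characteristic) := by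
  obtain ⟨a₀, ha₀⟩ := IsCyclic.exists_generator (α := U)
  obtain ⟨a, hadef⟩ : ∃ a : G, a = (a₀ : G) := ⟨_, rfl⟩
  have hUeq : U = Subgroup.zpowers a := by
    apply le_antisymm
    · intro x hx
      obtain ⟨i, hi⟩ := Subgroup.mem_zpowers_iff.1 (ha₀ ⟨x, hx⟩)
      rw [Subgroup.mem_zpowers_iff]
      refine ⟨i, ?_⟩
      have := congrArg Subtype.val hi
      rw [Subgroup.coe_zpow] at this
      rw [hadef]; exact this
    · rw [Subgroup.zpowers_le, hadef]; exact a₀.2
  have hord : orderOf a = p ^ n := by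
    rw [← Nat.card_zpowers, ← hUeq, hUn]
  have hnorm : ∀ g : G, g * a * g⁻¹ ∈ Subgroup.zpowers a := by
    intro g
    rw [← hUeq]
    exact hUn'.conj_mem a (by rw [hUeq]; exact Subgroup.mem_zpowers a) g
  have hcent : ∀ g : G, g * a = a * g → g ∈ Subgroup.zpowers a := by
    intro g hg
    rw [← hUeq, ← hC, Subgroup.mem_centralizer_iff]
    intro b hb
    rw [SetLike.mem_coe, hUeq] at hb
    obtain ⟨i, rfl⟩ := Subgroup.mem_zpowers_iff.1 hb
    have hc : Commute g a := hg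
    exact ((hc.zpow_right i).eq).symm
  have hne : ∃ g : G, g ∉ Subgroup.zpowers a := by
    by_contra hall
    push Not at hall
    apply hna
    have : IsCyclic G := ⟨a, hall⟩
    exact IsCyclic.isMulCommutative
  -- a central element of order p
  have hnt : Nontrivial G := by
    obtain ⟨g, hg⟩ := hne
    exact ⟨g, 1, fun h1 => hg (by rw [h1]; exact Subgroup.one_mem _)⟩
  have hcn : Nontrivial (Subgroup.center G) := hG.center_nontrivial
  have hcp : IsPGroup p (Subgroup.center G) := hG.to_subgroup _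
  obtain ⟨k, hk⟩ := IsPGroup.iff_card.1 hcp
  have hk0 : k ≠ 0 := by
    rintro rfl
    rw [pow_zero] at hk
    have := (Finite.one_lt_card_iff_nontrivial (α := Subgroup.center G)).2 hcn
    omega
  have hdvd : p ∣ Nat.card (Subgroup.center G) := by
    rw [hk]; exact dvd_pow_self p hk0
  obtain ⟨z₀, hz₀⟩ := exists_prime_orderOf_dvd_card' p hdvd
  have hz₀c : ∀ g : G, g * (z₀ : G) = (z₀ : G) * g := fun g => Subgroup.mem_center_iff.1 z₀.2 g
  have hz₀U : (z₀ : G) ∈ Subgroup.zpowers a := by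
    apply hcent
    exact (hz₀c a).symm
  have hz₀p : (z₀ : G) ^ p = 1 := by
    have := pow_orderOf_eq_one z₀
    rw [hz₀] at this
    exact congrArg Subtype.val this
  have hz₀1 : (z₀ : G) ≠ 1 := by
    intro h1
    have h2 : z₀ = 1 := Subtype.ext h1
    rw [h2, orderOf_one] at hz₀
    exact hp.out.one_lt.ne hz₀
  have hn2 : 2 ≤ n := by
    by_contra hn2
    have hap : a ^ p = 1 := by
      rw [← orderOf_dvd_iff_pow_eq_one, hord]
      have : n ≤ 1 := by omega
      calc p ^ n ∣ p ^ 1 := pow_dvd_pow p this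
        _ = p := pow_one p
    have hmem := Cfsg.Agent.Helper4.mem_zpowers_of_isCyclic_of_pow_prime hp.out
      (⟨a, Subgroup.mem_zpowers a⟩ : Subgroup.zpowers a) ⟨(z₀ : G), hz₀U⟩
      (Subtype.ext (by simpa using hap)) (Subtype.ext (by simpa using hz₀p))
      (fun h1 => hz₀1 (congrArg Subtype.val h1))
    obtain ⟨i, hi⟩ := Subgroup.mem_zpowers_iff.1 hmem
    have hi' : (z₀ : G) ^ i = a := by
      have := congrArg Subtype.val hi
      simpa using this
    obtain ⟨g, hg⟩ := hne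
    apply hg
    apply hcent
    rw [← hi']
    have hc : Commute g (z₀ : G) := hz₀c g
    exact (hc.zpow_right i).eq
  have h : CS p a n := ⟨hG, hord, hnorm, hcent, hn2⟩
  have hMM : Subgroup.centralizer (Cfsg.powerClosure p 1 U : Set G) = MM p a := by
    rw [hUeq]; exact centralizer_powerClosure a p
  rw [hMM, hUeq]
  by_cases hMU : MM p a = Subgroup.zpowers a
  · -- `M = U`
    left
    by_cases hp2 : p = 2
    · subst hp2
      exact ⟨rfl, h.two_core (h.cent4_of_MM_eq hMU) hne⟩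
    · exact absurd hMU (h.MM_ne_odd hp2 hne)
  · by_cases hsmall : p = 2 ∧ n = 2
    · left
      obtain ⟨hp2, hn⟩ := hsmall
      subst hp2
      refine ⟨rfl, h.two_core ?_ hne⟩
      intro g hg
      apply hcent
      rw [hn] at hg
      simpa using hg
    · right
      have hΩ : Cfsg.IsElementaryAbelian p (Cfsg.omegaOne p (MM p a)) ∧
          Nat.card ↥(Cfsg.omegaOne p (MM p a)) = p ^ 2 := by
        by_cases hp2 : p = 2
        · subst hp2
          have hn3 : 3 ≤ n := by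
            by_contra hlt
            exact hsmall ⟨rfl, by omega⟩
          exact h.omegaOne_two hn3 hMU
        · exact h.omegaOne_odd hp2 hMU
      exact ⟨h.relIndex_eq hMU, hΩ.1, hΩ.2, h.omegaOne_characteristic hΩ.1.2⟩

end Cfsg.Agent.Lead.CycSC
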