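import Mathlib
import Cfsg.Prelude.Def_CaseTheorems
import Cfsg.Agent.Helper5.PGroupCenter
import Cfsg.Agent.Helper1.Basic
import Cfsg.Agent.Helper1.Card
import Cfsg.Agent.Lead.CycSC5

set_option autoImplicit false

/-!
Two normal non-abelian subgroups with distinct centres of order 2 in a 2-group of sectional rank
at most 4.
-/

namespace Cfsg.Agent.Lead.SecRankFour

open scoped commutatorElement

theorem comm_mem_of_index_two {P : Type*} [Group P] (M : Subgroup P) (hM : M.index = 2) (x y : P) :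
    x * y * x⁻¹ * y⁻¹ ∈ M := by
  have h1 : x * y * x⁻¹ * y⁻¹ = (x * y) * (x⁻¹ * y⁻¹) := by group
  rw [h1, Subgroup.mul_mem_iff_of_index_two hM, Subgroup.mul_mem_iff_of_index_two hM,
    Subgroup.mul_mem_iff_of_index_two hM, inv_mem_iff, inv_mem_iff]

theorem eq_of_card_two {Z : Type*} [Group Z] (hZ : Nat.card Z = 2) {a b : Z} (ha : a ≠ 1)
    (hb : b ≠ 1) : a = b := by
  obtain ⟨y, -, hy⟩ := (Nat.card_eq_two_iff' (1 : Z)).1 hZ
  rw [hy a ha, hy b hb]

theorem exists_two_index_two {P : Type*} [Group P] [Finite P] (hP : IsPGroup 2 P)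
    (hc : ¬ IsCyclic P) :
    ∃ M₁ M₂ : Subgroup P, M₁.index = 2 ∧ M₂.index = 2 ∧ M₁ ≠ M₂ := by
  haveI : Fact (Nat.Prime 2) := ⟨Nat.prime_two⟩
  obtain ⟨n, hn⟩ := IsPGroup.iff_card.1 hP
  have hn0 : n ≠ 0 := by
    rintro rfl
    rw [pow_zero] at hn
    haveI : Subsingleton P := (Nat.card_eq_one_iff_unique.1 hn).1
    exact hc isCyclic_of_subsingleton
  obtain ⟨m, rfl⟩ := Nat.exists_eq_succ_of_ne_zero hn0
  have hdvd : 2 ^ m ∣ Nat.card P := by rw [hn]; exact pow_dvd_pow 2 (Nat.le_succ m)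
  have hidx : ∀ M : Subgroup P, Nat.card M = 2 ^ m → M.index = 2 := by
    intro M hM
    have := M.card_mul_index
    rw [hM, hn, pow_succ] at this
    exact Nat.eq_of_mul_eq_mul_left (by positivity) this
  obtain ⟨M₁, hM₁⟩ := Sylow.exists_subgroup_card_pow_prime 2 hdvd
  have hne : M₁ ≠ ⊤ := by
    intro h
    have := hidx M₁ hM₁
    rw [h, Subgroup.index_top] at this
    omega
  obtain ⟨x, hx⟩ : ∃ x, x ∉ M₁ := by
    by_contra hcon
    push Not at hcon
    exact hne (eq_top_iff.2 fun x _ => hcon x)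
  obtain ⟨k, hk⟩ := IsPGroup.iff_card.1 (hP.to_subgroup (Subgroup.zpowers x))
  have hkm : k ≤ m := by
    by_contra hcon
    push Not at hcon
    apply hc
    have h1 : Nat.card P ≤ Nat.card (Subgroup.zpowers x) := by
      rw [hk, hn]; exact Nat.pow_le_pow_right (by norm_num) hcon
    have h2 : Subgroup.zpowers x = ⊤ := Subgroup.eq_top_of_le_card _ h1
    exact isCyclic_iff_exists_zpowers_eq_top.2 ⟨x, h2⟩
  obtain ⟨M₂, hM₂, hxM₂⟩ :=
    Sylow.exists_subgroup_card_pow_prime_le 2 hdvd (Subgroup.zpowers x) hk hkm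
  refine ⟨M₁, M₂, hidx _ hM₁, hidx _ hM₂, ?_⟩
  intro h
  apply hx
  rw [h]
  exact hxM₂ (Subgroup.mem_zpowers x)

theorem center_le_of_index_two {P : Type*} [Group P] [Finite P] (hP : IsPGroup 2 P)
    (hna : ¬ IsMulCommutative P) (hZ : Nat.card (Subgroup.center P) = 2) (M : Subgroup P)
    (hM : M.index = 2) : Subgroup.center P ≤ M := by
  haveI : Fact (Nat.Prime 2) := ⟨Nat.prime_two⟩
  have hcomm : commutator P ≤ M := by
    rw [commutator_def, Subgroup.commutator_le]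
    intro x _ y _
    rw [commutatorElement_def]
    exact comm_mem_of_index_two M hM x y
  have hne : commutator P ≠ ⊥ := by
    intro h
    apply hna
    constructor; constructor
    intro a b
    have : ⁅a, b⁆ ∈ commutator P := by
      rw [commutator_def]
      exact Subgroup.commutator_mem_commutator (Subgroup.mem_top a) (Subgroup.mem_top b)
    rw [h, Subgroup.mem_bot] at this
    exact commutatorElement_eq_one_iff_mul_comm.1 this
  obtain ⟨x, hxc, hx1, hxz⟩ :=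
    Cfsg.Agent.Helper5.exists_ne_one_mem_center_of_normal hP (commutator P) hne
  intro z hz
  by_cases hz1 : z = 1
  · rw [hz1]; exact M.one_mem
  · have hxZ : x ∈ Subgroup.center P := by
      rw [Subgroup.mem_center_iff]; intro g; exact hxz g
    have : (⟨z, hz⟩ : Subgroup.center P) = ⟨x, hxZ⟩ :=
      eq_of_card_two hZ (fun h => hz1 (congrArg Subtype.val h))
        (fun h => hx1 (congrArg Subtype.val h))
    have hzx : z = x := congrArg Subtype.val this
    rw [hzx]; exact hcomm hxc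

variable {S : Type*} [Group S] [Finite S]

theorem exists_K (P : Subgroup S) (h2 : IsPGroup 2 S) (hP : ¬ IsMulCommutative ↥P)
    (hZP : Nat.card ↥(Subgroup.center ↥P) = 2) :
    ∃ K : Subgroup S, K ≤ P ∧ (∀ x ∈ P, x ^ 2 ∈ K) ∧
      (∀ z ∈ P, (∀ y ∈ P, z * y = y * z) → z ∈ K) ∧ Nat.card K * 4 = Nat.card P := by
  have hPp : IsPGroup 2 ↥P := h2.to_subgroup P
  have hnc : ¬ IsCyclic ↥P := fun h => hP (IsCyclic.isMulCommutative (α := ↥P))
  obtain ⟨M₁, M₂, h1, h2', hne⟩ := exists_two_index_two hPp hnc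
  refine ⟨(M₁ ⊓ M₂).map P.subtype, ?_, ?_, ?_, ?_⟩
  · exact Subgroup.map_subtype_le _
  · intro x hx
    exact ⟨⟨x, hx⟩ ^ 2,
      ⟨Subgroup.sq_mem_of_index_two h1 _, Subgroup.sq_mem_of_index_two h2' _⟩, rfl⟩
  · intro z hz hzc
    have hzZ : (⟨z, hz⟩ : ↥P) ∈ Subgroup.center ↥P := by
      rw [Subgroup.mem_center_iff]
      intro g
      apply Subtype.ext
      exact (hzc g g.2).symm
    exact ⟨⟨z, hz⟩, ⟨center_le_of_index_two hPp hP hZP M₁ h1 hzZ,
      center_le_of_index_two hPp hP hZP M₂ h2' hzZ⟩, rfl⟩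
  · have hidx : (M₁ ⊓ M₂).index = 4 := by
      rw [← Subgroup.relIndex_mul_index (inf_le_right : M₁ ⊓ M₂ ≤ M₂),
        Subgroup.inf_relIndex_right, h2']
      haveI : M₁.Normal := Subgroup.normal_of_index_eq_two h1
      have hd : M₁.relIndex M₂ ∣ 2 := h1 ▸ Subgroup.relIndex_dvd_index_of_normal M₁ M₂
      have hne1 : M₁.relIndex M₂ ≠ 1 := by
        rw [Ne, Subgroup.relIndex_eq_one]
        intro hle
        apply hne
        symm
        apply Subgroup.eq_of_le_of_card_ge hle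
        have e1 := M₁.card_mul_index
        have e2 := M₂.card_mul_index
        rw [h1] at e1; rw [h2'] at e2
        omega
      rcases (Nat.dvd_prime Nat.prime_two).1 hd with h | h
      · exact absurd h hne1
      · rw [h]
    have := (M₁ ⊓ M₂).card_mul_index
    rw [hidx] at this
    rw [Subgroup.card_map_of_injective P.subtype_injective]
    exact this

theorem mem_center_sub (P : Subgroup S) {w : S} (hw : w ∈ P) (hc : ∀ y ∈ P, w * y = y * w) :
    (⟨w, hw⟩ : ↥P) ∈ Subgroup.center ↥P := by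
  rw [Subgroup.mem_center_iff]
  intro g
  apply Subtype.ext
  exact (hc g g.2).symm

theorem map_center_eq_zpowers (P : Subgroup S) (hZP : Nat.card ↥(Subgroup.center ↥P) = 2)
    {x : S} (hx : x ∈ P) (hx1 : x ≠ 1) (hxc : ∀ y ∈ P, x * y = y * x) :
    (Subgroup.center ↥P).map P.subtype = Subgroup.zpowers x := by
  symm
  apply Subgroup.eq_of_le_of_card_ge
  · rw [Subgroup.zpowers_le]
    exact ⟨⟨x, hx⟩, mem_center_sub P hx hxc, rfl⟩
  · rw [Subgroup.card_map_of_injective P.subtype_injective, hZP, Nat.card_zpowers]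
    have h0 : 0 < orderOf x := orderOf_pos x
    have h1 : orderOf x ≠ 1 := by rwa [Ne, orderOf_eq_one_iff]
    omega

theorem main (h2 : IsPGroup 2 S) (hr : Cfsg.SectionalPRankLE 2 4 S)
    (P Q : Subgroup S) [P.Normal] [Q.Normal] (hP : ¬ IsMulCommutative ↥P)
    (hQ : ¬ IsMulCommutative ↥Q)
    (hZP : Nat.card ↥(Subgroup.center ↥P) = 2) (hZQ : Nat.card ↥(Subgroup.center ↥Q) = 2)
    (hne : (Subgroup.center ↥P).map P.subtype ≠ (Subgroup.center ↥Q).map Q.subtype) :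
    ⁅P, Q⁆ = ⊥ ∧ P ⊓ Q = ⊥ ∧ Subgroup.centralizer ((P ⊔ Q : Subgroup S) : Set S) ≤ P ⊔ Q := by
  haveI : Fact (Nat.Prime 2) := ⟨Nat.prime_two⟩
  have hPQ : P ⊓ Q = ⊥ := by
    by_contra hcon
    obtain ⟨x, hx, hx1, hxc⟩ :=
      Cfsg.Agent.Helper5.exists_ne_one_mem_center_of_normal h2 (P ⊓ Q) hcon
    apply hne
    rw [map_center_eq_zpowers P hZP hx.1 hx1 (fun y _ => (hxc y).symm),
      map_center_eq_zpowers Q hZQ hx.2 hx1 (fun y _ => (hxc y).symm)]
  have hcomm : ⁅P, Q⁆ = ⊥ := by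
    have := Subgroup.commutator_le_inf P Q
    rw [hPQ] at this
    exact le_bot_iff.1 this
  refine ⟨hcomm, hPQ, ?_⟩
  have hPQc : ∀ a ∈ P, ∀ b ∈ Q, a * b = b * a := by
    intro a ha b hb
    have h1 : ⁅a, b⁆ ∈ ⁅P, Q⁆ := Subgroup.commutator_mem_commutator ha hb
    rw [hcomm, Subgroup.mem_bot] at h1
    exact commutatorElement_eq_one_iff_mul_comm.1 h1
  by_contra hcon
  obtain ⟨c₀, hc₀, hc₀n⟩ := SetLike.not_le_iff_exists.1 hcon
  obtain ⟨k, hk1, hk2⟩ := Cfsg.Agent.Lead.CycSC.exists_pow_not_mem h2 (P ⊔ Q) hc₀n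
  obtain ⟨c, hcdef⟩ : ∃ c, c = c₀ ^ (2 ^ k) := ⟨_, rfl⟩
  rw [← hcdef] at hk1 hk2
  have hcC : c ∈ Subgroup.centralizer ((P ⊔ Q : Subgroup S) : Set S) := by
    rw [hcdef]; exact Subgroup.pow_mem _ hc₀ _
  have hcc : ∀ u ∈ P ⊔ Q, c * u = u * c := fun u hu =>
    (Subgroup.mem_centralizer_iff.1 hcC u hu).symm
  obtain ⟨KP, hKP, hKPsq, hKPz, hKPcard⟩ := exists_K P h2 hP hZP
  obtain ⟨KQ, hKQ, hKQsq, hKQz, hKQcard⟩ := exists_K Q h2 hQ hZQ
  have hmem_sup : ∀ u ∈ P ⊔ Q, ∃ a ∈ P, ∃ b ∈ Q, a * b = u := by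
    intro u hu
    have : u ∈ ((P ⊔ Q : Subgroup S) : Set S) := hu
    rw [Subgroup.mul_normal] at this
    exact Set.mem_mul.1 this
  obtain ⟨a, ha, b, hb, hab⟩ := hmem_sup _ hk2
  have hc2 : ∀ u ∈ P ⊔ Q, c ^ 2 * u = u * c ^ 2 := by
    intro u hu
    rw [pow_two, mul_assoc, hcc u hu, ← mul_assoc, hcc u hu, mul_assoc]
  have hac : ∀ y ∈ P, a * y = y * a := by
    intro y hy
    have ha' : a = c ^ 2 * b⁻¹ := by rw [← hab]; group
    have h1 := hc2 y (Subgroup.mem_sup_left hy)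
    have h2' := hPQc y hy b⁻¹ (Q.inv_mem hb)
    rw [ha', mul_assoc, ← h2', ← mul_assoc, h1, mul_assoc]
  have hbc : ∀ y ∈ Q, b * y = y * b := by
    intro y hy
    have hb' : b = a⁻¹ * c ^ 2 := by rw [← hab]; group
    have h1 := hc2 y (Subgroup.mem_sup_right hy)
    have h2' := hPQc a⁻¹ (P.inv_mem ha) y hy
    rw [hb', mul_assoc, h1, ← mul_assoc, h2', mul_assoc]
  have haK : a ∈ KP := hKPz a ha hac
  have hbK : b ∈ KQ := hKQz b hb hbc
  obtain ⟨N₀, hN₀⟩ : ∃ N₀, N₀ = KP ⊔ KQ := ⟨_, rfl⟩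
  have hc2N : c ^ 2 ∈ N₀ := by
    rw [← hab, hN₀]
    exact Subgroup.mul_mem _ (Subgroup.mem_sup_left haK) (Subgroup.mem_sup_right hbK)
  obtain ⟨H, hH⟩ : ∃ H, H = P ⊔ Q ⊔ Subgroup.zpowers c := ⟨_, rfl⟩
  have hsq : ∀ h ∈ H, h ^ 2 ∈ N₀ := by
    intro h hh
    rw [hH] at hh
    have : h ∈ ((P ⊔ Q ⊔ Subgroup.zpowers c : Subgroup S) : Set S) := hh
    rw [Subgroup.normal_mul] at this
    obtain ⟨u, hu, w, hw, rfl⟩ := Set.mem_mul.1 this
    obtain ⟨i, rfl⟩ := Subgroup.mem_zpowers_iff.1 hw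
    obtain ⟨a', ha', b', hb', rfl⟩ := hmem_sup u hu
    have hcomm0 : Commute c (a' * b') := hcc _ hu
    have hcomm1 : Commute (a' * b') (c ^ i) := (hcomm0.zpow_left i).symm
    rw [hcomm1.mul_pow, (show Commute a' b' from hPQc a' ha' b' hb').mul_pow]
    have h3 : (c ^ i) ^ 2 = (c ^ 2) ^ i := by
      rw [← zpow_natCast, ← zpow_mul, mul_comm, zpow_mul, zpow_natCast]
    rw [h3]
    refine Subgroup.mul_mem _ ?_ (Subgroup.zpow_mem _ hc2N i)
    rw [hN₀]
    exact Subgroup.mul_mem _ (Subgroup.mem_sup_left (hKPsq _ ha'))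
      (Subgroup.mem_sup_right (hKQsq _ hb'))
  obtain ⟨N, hN⟩ : ∃ N : Subgroup ↥H, N = Subgroup.normalClosure (Set.range fun h : ↥H => h ^ 2) :=
    ⟨_, rfl⟩
  haveI hNn : N.Normal := by rw [hN]; infer_instance
  have hq2 : ∀ q : ↥H ⧸ N, q * q = 1 := by
    intro q
    obtain ⟨h, rfl⟩ := QuotientGroup.mk_surjective q
    rw [← QuotientGroup.mk_mul, QuotientGroup.eq_one_iff, hN, ← pow_two]
    exact Subgroup.subset_normalClosure ⟨h, rfl⟩
  have hqinv : ∀ q : ↥H ⧸ N, q⁻¹ = q := fun q => inv_eq_of_mul_eq_one_right (hq2 q)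
  have hqc : ∀ q r : ↥H ⧸ N, q * r = r * q := by
    intro q r
    calc q * r = (q * r)⁻¹ := (hqinv _).symm
      _ = r⁻¹ * q⁻¹ := mul_inv_rev q r
      _ = r * q := by rw [hqinv, hqinv]
  haveI hTc : IsMulCommutative (⊤ : Subgroup (↥H ⧸ N)) := ⟨⟨fun a b => Subtype.ext (hqc a b)⟩⟩
  have hrank := hr H N (⊤ : Subgroup (↥H ⧸ N)) hTc (fun a _ => by rw [pow_two]; exact hq2 a)
  rw [Subgroup.card_top, ← Subgroup.index_eq_card] at hrank
  have hNle : N.map H.subtype ≤ N₀ := by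
    rw [Subgroup.map_le_iff_le_comap, hN, Subgroup.normalClosure]
    rw [Subgroup.closure_le]
    intro x hx
    obtain ⟨y, ⟨h, rfl⟩, hconj⟩ := Group.mem_conjugatesOfSet_iff.1 hx
    obtain ⟨g, hg⟩ := isConj_iff.1 hconj
    have hx' : x = (g * h * g⁻¹) ^ 2 := by
      rw [← hg, conj_pow]
    rw [hx']
    show ((H.subtype ((g * h * g⁻¹) ^ 2)) : S) ∈ N₀
    rw [map_pow]
    exact hsq _ (g * h * g⁻¹).2
  have hcardN : Nat.card N ≤ Nat.card N₀ := by
    rw [← Subgroup.card_map_of_injective H.subtype_injective]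
    exact Subgroup.card_le_of_le hNle
  have hcardN₀ : Nat.card N₀ = Nat.card KP * Nat.card KQ := by
    have hinf : KP ⊓ KQ = ⊥ := le_bot_iff.1 (hPQ ▸ inf_le_inf hKP hKQ)
    have hnorm : KQ ≤ Subgroup.normalizer (KP : Set S) := by
      refine le_trans ?_ (Subgroup.centralizer_le_normalizer (KP : Set S))
      intro y hy
      rw [Subgroup.mem_centralizer_iff]
      intro x hx
      exact hPQc x (hKP hx) y (hKQ hy)
    have := Cfsg.Agent.Helper1.card_sup_mul_card_inf hnorm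
    rw [hinf, Subgroup.card_bot, mul_one] at this
    rw [hN₀]; exact this
  have hcardPQ : Nat.card (P ⊔ Q : Subgroup S) = Nat.card P * Nat.card Q :=
    Cfsg.Agent.Helper1.card_sup_of_disjoint_normal P Q hPQ
  have hPQH : P ⊔ Q ≤ H := by rw [hH]; exact le_sup_left
  have hlt : Nat.card (P ⊔ Q : Subgroup S) < Nat.card H := by
    apply Cfsg.Agent.Helper1.card_lt_card_of_lt
    refine lt_of_le_of_ne hPQH ?_
    intro h; apply hk1; rw [h, hH]; exact Subgroup.mem_sup_right (Subgroup.mem_zpowers c)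
  have hdvd : Nat.card (P ⊔ Q : Subgroup S) ∣ Nat.card H := Subgroup.card_dvd_of_le hPQH
  have h2le : 2 * Nat.card (P ⊔ Q : Subgroup S) ≤ Nat.card H := by
    obtain ⟨t, ht⟩ := hdvd
    have hpos : 0 < Nat.card (P ⊔ Q : Subgroup S) := Nat.card_pos
    have : 2 ≤ t := by
      by_contra hcon
      push Not at hcon
      interval_cases t
      · rw [ht] at hlt; omega
      · rw [ht] at hlt; omega
    rw [ht]; nlinarith
  have hidx := N.card_mul_index
  have hKPpos : 0 < Nat.card KP := Nat.card_pos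
  have hKQpos : 0 < Nat.card KQ := Nat.card_pos
  have h5 : Nat.card H ≤ Nat.card KP * Nat.card KQ * 16 := by
    rw [← hidx, ← hcardN₀]
    exact Nat.mul_le_mul hcardN hrank
  have h6 : 32 * (Nat.card KP * Nat.card KQ) ≤ Nat.card H := by
    rw [hcardPQ, ← hKPcard, ← hKQcard] at h2le
    nlinarith
  nlinarith [Nat.mul_pos hKPpos hKQpos]

end Cfsg.Agent.Lead.SecRankFour
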