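import Mathlib
import Cfsg.Agent.Helper5.PGroupCenter
import Cfsg.Agent.Helper1.Nilp
import Cfsg.Agent.Lead.NormalE32
import Cfsg.Agent.S0016
import Cfsg.Agent.S3761
import Cfsg.Agent.Lead.SecRankFour
import Cfsg.Agent.Helper1.Basic

set_option autoImplicit false

/-!
A finite `2`-group of rank at least three has a normal four-subgroup.
-/

namespace Cfsg.Agent.Lead.RankThreeCent

open Cfsg

variable {S : Type*} [Group S] [Finite S]

omit [Finite S] in
theorem inv_eq_of_sq {x : S} (h : x ^ 2 = 1) : x⁻¹ = x := by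
  rw [pow_two] at h
  exact inv_eq_of_mul_eq_one_right h

omit [Finite S] in
theorem comm_of_exp_two {E : Subgroup S} (hE : ∀ e ∈ E, e ^ 2 = 1) {a b : S} (ha : a ∈ E)
    (hb : b ∈ E) : a * b = b * a := by
  calc a * b = (a * b)⁻¹ := (inv_eq_of_sq (hE _ (E.mul_mem ha hb))).symm
    _ = b⁻¹ * a⁻¹ := mul_inv_rev a b
    _ = b * a := by rw [inv_eq_of_sq (hE a ha), inv_eq_of_sq (hE b hb)]

omit [Finite S] in
theorem normal_zpowers_of_central (z : S) (hz : ∀ t : S, t * z = z * t) :
    (Subgroup.zpowers z).Normal := by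
  constructor
  intro n hn g
  obtain ⟨k, rfl⟩ := Subgroup.mem_zpowers_iff.1 hn
  have h1 : g * z * g⁻¹ = z := by rw [hz g, mul_assoc, mul_inv_cancel, mul_one]
  have : g * z ^ k * g⁻¹ = z ^ k := by
    rw [← conj_zpow, h1]
  rw [this]
  exact Subgroup.zpow_mem _ (Subgroup.mem_zpowers z) k

theorem exists_normal_four_in (h2 : IsPGroup 2 S) (V : Subgroup S) [V.Normal]
    (hV : ∀ v ∈ V, v ^ 2 = 1) (hcard : 4 ≤ Nat.card V) :
    ∃ U : Subgroup S, U.Normal ∧ Nat.card U = 4 ∧ U ≤ V := by
  haveI : Fact (Nat.Prime 2) := ⟨Nat.prime_two⟩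
  have hVne : V ≠ ⊥ := by
    intro h
    rw [h, Subgroup.card_bot] at hcard
    omega
  obtain ⟨z, hzV, hz1, hzc⟩ := Cfsg.Agent.Helper5.exists_ne_one_mem_center_of_normal h2 V hVne
  obtain ⟨Z, hZ⟩ : ∃ Z, Z = Subgroup.zpowers z := ⟨_, rfl⟩
  haveI hZn : Z.Normal := hZ ▸ normal_zpowers_of_central z hzc
  have hZcard : Nat.card Z = 2 := by
    rw [hZ, Nat.card_zpowers]
    exact orderOf_eq_prime (hV z hzV) hz1
  have hVbar : V.map (QuotientGroup.mk' Z) ≠ ⊥ := by
    intro h
    have hle : V ≤ Z := by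
      have := (Subgroup.map_eq_bot_iff V (f := QuotientGroup.mk' Z)).1 h
      rwa [QuotientGroup.ker_mk'] at this
    have := Subgroup.card_le_of_le hle
    omega
  haveI : (V.map (QuotientGroup.mk' Z)).Normal :=
    Subgroup.Normal.map inferInstance _ (QuotientGroup.mk'_surjective Z)
  obtain ⟨ū, hūV, hū1, hūc⟩ := Cfsg.Agent.Helper5.exists_ne_one_mem_center_of_normal
    (h2.to_quotient Z) (V.map (QuotientGroup.mk' Z)) hVbar
  obtain ⟨u, huV, rfl⟩ := hūV
  have huZ : u ∉ Z := by
    intro h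
    apply hū1
    exact (QuotientGroup.eq_one_iff u).2 h
  haveI hn2 : (Subgroup.zpowers ((QuotientGroup.mk' Z) u)).Normal :=
    normal_zpowers_of_central _ hūc
  have hU : (Subgroup.zpowers ((QuotientGroup.mk' Z) u)).comap (QuotientGroup.mk' Z) =
      Z ⊔ Subgroup.zpowers u := by
    rw [← MonoidHom.map_zpowers, Subgroup.comap_map_eq, QuotientGroup.ker_mk', sup_comm]
  refine ⟨Z ⊔ Subgroup.zpowers u, ?_, ?_, ?_⟩
  · rw [← hU]
    exact Subgroup.Normal.comap hn2 _
  · rw [Cfsg.Agent.Lead.E32.card_sup_zpowers Z u (by rw [← pow_two]; exact hV u huV) huZ, hZcard]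
    intro v hv
    rw [hZ] at hv
    obtain ⟨k, rfl⟩ := Subgroup.mem_zpowers_iff.1 hv
    have hc : Commute u z := hzc u
    exact (hc.zpow_right k)
  · apply sup_le
    · rw [hZ, Subgroup.zpowers_le]; exact hzV
    · rw [Subgroup.zpowers_le]; exact huV

omit [Finite S] in
/-- the elements of order dividing two in an abelian subgroup -/
def sqKer (A : Subgroup S) (hA : ∀ a ∈ A, ∀ b ∈ A, a * b = b * a) : Subgroup S where
  carrier := {a | a ∈ A ∧ a ^ 2 = 1}
  one_mem' := ⟨A.one_mem, one_pow 2⟩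
  mul_mem' := by
    rintro a b ⟨ha, ha2⟩ ⟨hb, hb2⟩
    refine ⟨A.mul_mem ha hb, ?_⟩
    rw [(show Commute a b from hA a ha b hb).mul_pow, ha2, hb2, one_mul]
  inv_mem' := by
    rintro a ⟨ha, ha2⟩
    exact ⟨A.inv_mem ha, by rw [inv_pow, ha2, inv_one]⟩

omit [Finite S] in
theorem mem_sqKer {A : Subgroup S} {hA : ∀ a ∈ A, ∀ b ∈ A, a * b = b * a} {x : S} :
    x ∈ sqKer A hA ↔ x ∈ A ∧ x ^ 2 = 1 := Iff.rfl

omit [Finite S] in
theorem sqKer_normal (A : Subgroup S) [hAn : A.Normal] (hA : ∀ a ∈ A, ∀ b ∈ A, a * b = b * a) :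
    (sqKer A hA).Normal := by
  constructor
  rintro a ⟨ha, ha2⟩ g
  refine ⟨hAn.conj_mem a ha g, ?_⟩
  rw [conj_pow, ha2, mul_one, mul_inv_cancel]

omit [Finite S] in
theorem quaternion_not_comm {n : ℕ} (hn : 1 ≤ n)
    (h : ∀ x y : QuaternionGroup (2 ^ n), x * y = y * x) : False := by
  have h1 := h (QuaternionGroup.a 1) (QuaternionGroup.xa 0)
  rw [QuaternionGroup.a_mul_xa, QuaternionGroup.xa_mul_a] at h1
  have h2 : (0 : ZMod (2 * 2 ^ n)) - 1 = 0 + 1 := by
    injection h1
  have h3 : ((2 : ℕ) : ZMod (2 * 2 ^ n)) = 0 := by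
    push_cast
    linear_combination (-1 : ZMod (2 * 2 ^ n)) * h2
  rw [ZMod.natCast_eq_zero_iff] at h3
  have h4 : 2 * 2 ^ n ≤ 2 := Nat.le_of_dvd (by norm_num) h3
  have h5 : 2 ^ 1 ≤ 2 ^ n := Nat.pow_le_pow_right (by norm_num) hn
  omega

theorem exists_normal_four (h2 : IsPGroup 2 S) (E : Subgroup S) (hE8 : Nat.card E = 8)
    (hE : ∀ e ∈ E, e ^ 2 = 1) :
    ∃ U : Subgroup S, U.Normal ∧ Nat.card U = 4 ∧ ∀ u ∈ U, u ^ 2 = 1 := by
  haveI : Fact (Nat.Prime 2) := ⟨Nat.prime_two⟩
  -- a maximal normal abelian subgroup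
  haveI : Nonempty {B : Subgroup S // B.Normal ∧ IsMulCommutative B} :=
    ⟨⟨⊥, inferInstance, inferInstance⟩⟩
  obtain ⟨⟨A, hAn, hAc⟩, hAmax⟩ := Finite.exists_max
    (fun B : {B : Subgroup S // B.Normal ∧ IsMulCommutative B} => Nat.card B.1)
  haveI := hAn
  haveI := hAc
  have hmax : ∀ M : Subgroup S, M.Normal → IsMulCommutative M → A ≤ M → M = A := by
    intro M hMn hMc hAM
    exact (Subgroup.eq_of_le_of_card_ge hAM (hAmax ⟨M, hMn, hMc⟩)).symm
  haveI := h2.isNilpotent
  have hC : Subgroup.centralizer (A : Set S) = A :=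
    Cfsg.Agent.Helper1.centralizer_eq_of_maximal_abelian_normal A hmax
  have hAcomm : ∀ a ∈ A, ∀ b ∈ A, a * b = b * a := by
    intro a ha b hb
    have := hAc.is_comm.comm (⟨a, ha⟩ : A) ⟨b, hb⟩
    exact congrArg Subtype.val this
  obtain ⟨V, hVdef⟩ : ∃ V, V = sqKer A hAcomm := ⟨_, rfl⟩
  haveI hVn : V.Normal := hVdef ▸ sqKer_normal A hAcomm
  have hVsq : ∀ v ∈ V, v ^ 2 = 1 := by
    intro v hv
    rw [hVdef] at hv
    exact hv.2
  by_cases hex : ∃ a b, a ∈ V ∧ b ∈ V ∧ a ≠ 1 ∧ b ≠ 1 ∧ a ≠ b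
  · obtain ⟨a, b, ha, hb, ha1, hb1, hab⟩ := hex
    have hca : Nat.card (Subgroup.zpowers a) = 2 := by
      rw [Nat.card_zpowers]; exact orderOf_eq_prime (hVsq a ha) ha1
    have hba : b ∉ Subgroup.zpowers a := by
      intro hmem
      apply hab
      have := Cfsg.Agent.Lead.SecRankFour.eq_of_card_two hca
        (a := ⟨a, Subgroup.mem_zpowers a⟩) (b := ⟨b, hmem⟩)
        (fun h => ha1 (congrArg Subtype.val h)) (fun h => hb1 (congrArg Subtype.val h))
      exact congrArg Subtype.val this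
    have h4 : 4 ≤ Nat.card V := by
      have hle : Subgroup.zpowers a ⊔ Subgroup.zpowers b ≤ V := by
        apply sup_le
        · rw [Subgroup.zpowers_le]; exact ha
        · rw [Subgroup.zpowers_le]; exact hb
      have hc := Cfsg.Agent.Lead.E32.card_sup_zpowers (Subgroup.zpowers a) b
        (by rw [← pow_two]; exact hVsq b hb) hba (by
          intro v hv
          exact comm_of_exp_two hVsq hb (by
            rw [← Subgroup.zpowers_le] at ha
            exact ha hv))
      rw [hca] at hc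
      have := Subgroup.card_le_of_le hle
      omega
    obtain ⟨U, hUn, hU4, hUV⟩ := exists_normal_four_in h2 V hVsq h4
    exact ⟨U, hUn, hU4, fun u hu => hVsq u (hUV hu)⟩
  · push Not at hex
    -- `A` has a unique subgroup of order two
    have huniq : ∀ H K : Subgroup ↥A, Nat.card H = 2 → Nat.card K = 2 → H = K := by
      have key : ∀ H : Subgroup ↥A, Nat.card H = 2 →
          ∃ h : ↥A, h ∈ H ∧ h ≠ 1 ∧ (h : S) ∈ V ∧ H = Subgroup.zpowers h := by
        intro H hH
        have hne : H ≠ ⊥ := by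
          intro hb
          rw [hb, Subgroup.card_bot] at hH
          omega
        obtain ⟨h, hhH, hh1⟩ := (Subgroup.ne_bot_iff_exists_ne_one (H := H)).1 hne |>.imp
          (fun x hx => hx) |> fun ⟨x, hx⟩ => (⟨x.1, x.2, fun h => hx (Subtype.ext h)⟩ :
            ∃ h : ↥A, h ∈ H ∧ h ≠ 1)
        have hsq : h ^ 2 = 1 := by
          have := pow_card_eq_one' (G := H) (x := ⟨h, hhH⟩)
          rw [hH] at this
          exact congrArg Subtype.val this
        refine ⟨h, hhH, hh1, ?_, ?_⟩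
        · rw [hVdef, mem_sqKer]
          refine ⟨h.2, ?_⟩
          have := congrArg Subtype.val hsq
          simpa using this
        · symm
          apply Subgroup.eq_of_le_of_card_ge
          · rw [Subgroup.zpowers_le]; exact hhH
          · rw [hH, Nat.card_zpowers, orderOf_eq_prime hsq hh1]
      intro H K hH hK
      obtain ⟨h, -, hh1, hhV, rfl⟩ := key H hH
      obtain ⟨k, -, hk1, hkV, rfl⟩ := key K hK
      have : (h : S) = k := hex h k hhV hkV (fun e => hh1 (Subtype.ext e))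
        (fun e => hk1 (Subtype.ext e))
      rw [Subtype.ext this]
    have hcyc : IsCyclic ↥A := by
      rcases Cfsg.Agent.S0016.result 2 (h2.to_subgroup A) huniq with h | ⟨-, n, ⟨e⟩⟩
      · exact h
      · rcases Nat.eq_zero_or_pos n with rfl | hn
        · haveI := QuaternionGroup.quaternionGroup_one_isCyclic
          rw [pow_zero] at e
          exact isCyclic_of_surjective e.symm e.symm.surjective
        · exfalso
          apply quaternion_not_comm hn
          intro x y
          have := hAc.is_comm.comm (e.symm x) (e.symm y)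
          have h' := congrArg e this
          simpa [map_mul] using h'
    -- `E ⊓ A` has at most two elements
    have hEA : Nat.card (A ⊓ E : Subgroup S) ≤ 2 := by
      by_contra hcon
      push Not at hcon
      haveI : Fintype ↥(A ⊓ E : Subgroup S) := Fintype.ofFinite _
      rw [Nat.card_eq_fintype_card, Fintype.two_lt_card_iff] at hcon
      obtain ⟨a, b, c, hab, hac, hbc⟩ := hcon
      have hmemV : ∀ x : ↥(A ⊓ E : Subgroup S), (x : S) ∈ V := by
        intro x
        rw [hVdef, mem_sqKer]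
        exact ⟨x.2.1, hE _ x.2.2⟩
      have hne : ∀ x y : ↥(A ⊓ E : Subgroup S), x ≠ y → (x : S) ≠ 1 → (y : S) ≠ 1 → False := by
        intro x y hxy hx hy
        exact hxy (Subtype.ext (hex x y (hmemV x) (hmemV y) hx hy))
      by_cases ha : (a : S) = 1
      · have hb : (b : S) ≠ 1 := fun hb => hab (Subtype.ext (ha.trans hb.symm))
        have hc : (c : S) ≠ 1 := fun hc => hac (Subtype.ext (ha.trans hc.symm))
        exact hne b c hbc hb hc
      · by_cases hb : (b : S) = 1
        · have hc : (c : S) ≠ 1 := fun hc => hbc (Subtype.ext (hb.trans hc.symm))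
          exact hne a c hac ha hc
        · exact hne a b hab ha hb
    have hna : ¬ IsMulCommutative S := by
      intro hab
      have htop : (⊤ : Subgroup S) = A := hmax ⊤ inferInstance inferInstance le_top
      have : A ⊓ E = E := by rw [← htop]; exact top_inf_eq E
      rw [this, hE8] at hEA
      omega
    obtain ⟨n, hn⟩ := IsPGroup.iff_card.1 (h2.to_subgroup A)
    rcases Cfsg.Agent.S3761.result h2 hna A hcyc n hn hC with ⟨-, hcard, -⟩ | ⟨-, hel, hc4, hchar⟩
    · exfalso
      have hidx : A.index = 2 := by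
        have := A.card_mul_index
        rw [hn, hcard, pow_succ] at this
        exact Nat.eq_of_mul_eq_mul_left (by positivity) this
      have hd : A.relIndex E ∣ 2 := hidx ▸ Subgroup.relIndex_dvd_index_of_normal A E
      have hle : A.relIndex E ≤ 2 := Nat.le_of_dvd (by norm_num) hd
      have h3 := Cfsg.Agent.Helper1.relIndex_mul_card_of_le (inf_le_right : A ⊓ E ≤ E)
      rw [Subgroup.inf_relIndex_right, hE8] at h3
      nlinarith
    · refine ⟨_, ?_, by simpa using hc4, hel.2⟩
      haveI := hchar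
      infer_instance

end Cfsg.Agent.Lead.RankThreeCent
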