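import Mathlib
import Cfsg.Prelude.Def_Transfer

set_option autoImplicit false

namespace Cfsg.Agent.Lead

open scoped commutatorElement

/-- Homomorphisms into a group of prime order are at most as many as the index of the derived
subgroup. -/
theorem card_monoidHom_le_index_commutator {E : Type*} [Group E] [Finite E] {Z : Type*}
    [CommGroup Z] [Finite Z] (hZ : (Nat.card Z).Prime) :
    Nat.card (E →* Z) ≤ (commutator E).index := by
  have : Fact (Nat.card Z).Prime := ⟨hZ⟩
  have hne1 : NeZero ((Monoid.exponent Z : ℕ) : ℂ) :=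
    ⟨by exact_mod_cast Monoid.exponent_ne_zero_of_finite⟩
  have hne2 : NeZero ((Monoid.exponent (Abelianization E) : ℕ) : ℂ) :=
    ⟨by exact_mod_cast Monoid.exponent_ne_zero_of_finite⟩
  have hnt : Nontrivial Z := Finite.one_lt_card_iff_nontrivial.mp hZ.one_lt
  obtain ⟨a, ha⟩ := exists_ne (1 : Z)
  obtain ⟨ψ, hψ⟩ := CommGroup.exists_apply_ne_one_of_hasEnoughRootsOfUnity Z ℂ ha
  have hψinj : Function.Injective ψ := by
    rw [← MonoidHom.ker_eq_bot_iff]
    rcases Subgroup.eq_bot_or_eq_top_of_prime_card ψ.ker with h | h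
    · exact h
    · exfalso
      apply hψ
      have : a ∈ ψ.ker := by rw [h]; exact Subgroup.mem_top a
      exact this
  have hcard := CommGroup.card_monoidHom_of_hasEnoughRootsOfUnity (Abelianization E) ℂ
  have : Finite (Abelianization E →* ℂˣ) := by
    apply Nat.finite_of_card_ne_zero
    rw [hcard]
    exact Nat.card_pos.ne'
  have hinj : Function.Injective
      (fun χ : E →* Z => (Abelianization.lift (ψ.comp χ) : Abelianization E →* ℂˣ)) := by
    intro χ χ' h
    ext e
    apply hψinj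
    have := congrArg (fun f : Abelianization E →* ℂˣ => f (Abelianization.of e)) h
    simpa using this
  have := Nat.card_le_card_of_injective _ hinj
  rw [hcard] at this
  exact this

variable {E : Type*} [Group E]

/-- The centre as a commutative group (local instance). -/
@[reducible] def centerCommGroup : CommGroup (Subgroup.center E) :=
  { (inferInstance : Group (Subgroup.center E)) with
    mul_comm := fun a b => Subtype.ext ((Subgroup.mem_center_iff.mp a.2 (b : E)).symm) }

attribute [local instance] centerCommGroup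

/-- The homomorphism `e ↦ e⁻¹ u e u⁻¹` into the centre, when commutators are central. -/
def commHom (hc : commutator E ≤ Subgroup.center E) (u : E) : E →* Subgroup.center E where
  toFun e := ⟨e⁻¹ * u * e * u⁻¹, hc (by
    have : e⁻¹ * u * e * u⁻¹ = ⁅e⁻¹, u⁆ := by rw [commutatorElement_def]; group
    rw [this, commutator_def]
    exact Subgroup.commutator_mem_commutator (Subgroup.mem_top _) (Subgroup.mem_top _))⟩
  map_one' := by
    apply Subtype.ext
    simp
  map_mul' a b := by
    apply Subtype.ext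
    have hc1 : a⁻¹ * u * a * u⁻¹ ∈ Subgroup.center E := hc (by
      have : a⁻¹ * u * a * u⁻¹ = ⁅a⁻¹, u⁆ := by rw [commutatorElement_def]; group
      rw [this, commutator_def]
      exact Subgroup.commutator_mem_commutator (Subgroup.mem_top _) (Subgroup.mem_top _))
    have h1 := Subgroup.mem_center_iff.mp hc1 b⁻¹
    show (a * b)⁻¹ * u * (a * b) * u⁻¹ = (a⁻¹ * u * a * u⁻¹) * (b⁻¹ * u * b * u⁻¹)
    calc (a * b)⁻¹ * u * (a * b) * u⁻¹ = b⁻¹ * (a⁻¹ * u * a * u⁻¹) * (u * b * u⁻¹) := by group
      _ = (a⁻¹ * u * a * u⁻¹) * b⁻¹ * (u * b * u⁻¹) := by rw [h1]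
      _ = (a⁻¹ * u * a * u⁻¹) * (b⁻¹ * u * b * u⁻¹) := by group

theorem commHom_apply (hc : commutator E ≤ Subgroup.center E) (u e : E) :
    ((commHom hc u e : Subgroup.center E) : E) = e⁻¹ * u * e * u⁻¹ := rfl

/-- `u ↦ commHom u` as a homomorphism. -/
def commHomHom (hc : commutator E ≤ Subgroup.center E) : E →* (E →* Subgroup.center E) where
  toFun u := commHom hc u
  map_one' := by
    ext e
    rw [commHom_apply]
    simp
  map_mul' u v := by
    ext e
    rw [MonoidHom.mul_apply, Subgroup.coe_mul, commHom_apply, commHom_apply, commHom_apply]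
    have hc1 : e⁻¹ * v * e * v⁻¹ ∈ Subgroup.center E := (commHom hc v e).2
    have h1 := Subgroup.mem_center_iff.mp hc1 u⁻¹
    calc e⁻¹ * (u * v) * e * (u * v)⁻¹ = e⁻¹ * u * e * (e⁻¹ * v * e * v⁻¹) * u⁻¹ := by group
      _ = e⁻¹ * u * e * (u⁻¹ * (e⁻¹ * v * e * v⁻¹)) := by rw [h1]; group
      _ = e⁻¹ * u * e * u⁻¹ * (e⁻¹ * v * e * v⁻¹) := by group

theorem commHomHom_ker (hc : commutator E ≤ Subgroup.center E) :
    (commHomHom hc).ker = Subgroup.center E := by
  ext u
  rw [MonoidHom.mem_ker, Subgroup.mem_center_iff]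
  constructor
  · intro h e
    have := congrArg (fun f : E →* Subgroup.center E => ((f e : Subgroup.center E) : E)) h
    simp only [MonoidHom.one_apply, Subgroup.coe_one] at this
    change e⁻¹ * u * e * u⁻¹ = 1 at this
    have h2 := congrArg (fun t => e * t * u) this
    simpa [mul_assoc] using h2.symm
  · intro h
    ext e
    change e⁻¹ * u * e * u⁻¹ = 1
    have := h e
    rw [mul_assoc e⁻¹, ← this]
    group

/-- In an extraspecial group, every homomorphism into the centre is `e ↦ e⁻¹ u e u⁻¹`. -/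
theorem exists_commHom_eq [Finite E] {p : ℕ} [Fact p.Prime] (hE : Cfsg.IsExtraspecial p E)
    (χ : E →* Subgroup.center E) : ∃ u : E, ∀ e : E, ((χ e : Subgroup.center E) : E) =
      e⁻¹ * u * e * u⁻¹ := by
  obtain ⟨⟨_, _, hcomm⟩, hcard⟩ := hE
  have hc : commutator E ≤ Subgroup.center E := hcomm.le
  have hp : p.Prime := Fact.out
  have hZprime : (Nat.card (Subgroup.center E)).Prime := by rw [hcard]; exact hp
  have hle := card_monoidHom_le_index_commutator (E := E) (Z := Subgroup.center E) hZprime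
  rw [hcomm] at hle
  have hfin : Finite (E →* Subgroup.center E) :=
    Finite.of_injective (fun f : E →* Subgroup.center E => (f : E → Subgroup.center E))
      DFunLike.coe_injective
  have hsurj : Function.Surjective (commHomHom hc) := by
    apply MonoidHom.surjective_of_card_ker_le_div
    rw [commHomHom_ker, hcard]
    have h1 := (Subgroup.center E).card_mul_index
    rw [hcard] at h1
    have hpos : 0 < Nat.card (E →* Subgroup.center E) := Nat.card_pos
    have hidx : 0 < (Subgroup.center E).index := by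
      rcases Nat.eq_zero_or_pos (Subgroup.center E).index with h | h
      · rw [h, mul_zero] at h1
        exact absurd h1.symm Nat.card_pos.ne'
      · exact h
    rw [Nat.le_div_iff_mul_le hpos, ← h1]
    exact Nat.mul_le_mul_left p hle
  obtain ⟨u, hu⟩ := hsurj χ
  refine ⟨u, fun e => ?_⟩
  rw [← hu]
  rfl

/-- An element acting on an extraspecial subgroup `Q` by central multipliers lies in `Q C(Q)`. -/
theorem mem_sup_centralizer_of_extraspecial {G : Type*} [Group G] {p : ℕ} [Fact p.Prime]
    (Q : Subgroup G) [Finite Q] (hQ : Cfsg.IsExtraspecial p ↥Q) (g : G)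
    (hg : ∀ e ∈ Q, e⁻¹ * g * e * g⁻¹ ∈ Q ⊓ Subgroup.centralizer (Q : Set G)) :
    g ∈ Q ⊔ Subgroup.centralizer (Q : Set G) := by
  have hcen : ∀ e ∈ Q, ∀ q ∈ Q, q * (e⁻¹ * g * e * g⁻¹) = (e⁻¹ * g * e * g⁻¹) * q := by
    intro e he q hq
    exact (Subgroup.mem_centralizer_iff.mp (Subgroup.mem_inf.mp (hg e he)).2 q hq)
  let χ : ↥Q →* Subgroup.center ↥Q :=
    { toFun := fun e => ⟨⟨(e : G)⁻¹ * g * e * g⁻¹, (Subgroup.mem_inf.mp (hg e e.2)).1⟩, by
        rw [Subgroup.mem_center_iff]
        intro q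
        apply Subtype.ext
        exact hcen e e.2 q q.2⟩
      map_one' := by
        apply Subtype.ext
        apply Subtype.ext
        simp
      map_mul' := by
        intro a b
        apply Subtype.ext
        apply Subtype.ext
        have h1 := hcen a a.2 (b : G)⁻¹ (Q.inv_mem b.2)
        show ((a : G) * b)⁻¹ * g * (a * b) * g⁻¹ =
          ((a : G)⁻¹ * g * a * g⁻¹) * ((b : G)⁻¹ * g * b * g⁻¹)
        calc ((a : G) * b)⁻¹ * g * (a * b) * g⁻¹
            = (b : G)⁻¹ * ((a : G)⁻¹ * g * a * g⁻¹) * (g * b * g⁻¹) := by group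
          _ = ((a : G)⁻¹ * g * a * g⁻¹) * (b : G)⁻¹ * (g * b * g⁻¹) := by rw [h1]
          _ = ((a : G)⁻¹ * g * a * g⁻¹) * ((b : G)⁻¹ * g * b * g⁻¹) := by group }
  obtain ⟨u, hu⟩ := exists_commHom_eq hQ χ
  have hu' : ∀ e ∈ Q, e⁻¹ * g * e * g⁻¹ = e⁻¹ * u * e * (u : G)⁻¹ := by
    intro e he
    have := congrArg (Subtype.val) (hu ⟨e, he⟩)
    simpa [χ] using this
  have hcent : (u : G)⁻¹ * g ∈ Subgroup.centralizer (Q : Set G) := by
    rw [Subgroup.mem_centralizer_iff]
    intro e he
    have h1 := hu' e he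
    -- `g e g⁻¹ = u e u⁻¹`
    have h2 : g * e * g⁻¹ = u * e * (u : G)⁻¹ := by
      have := congrArg (fun z => e * z) h1
      simpa [mul_assoc] using this
    have h3 : e * ((u : G)⁻¹ * g) = (u : G)⁻¹ * (u * e * (u : G)⁻¹) * g := by group
    rw [h3, ← h2]
    group
  have : g = (u : G) * ((u : G)⁻¹ * g) := by group
  rw [this]
  exact Subgroup.mul_mem_sup u.2 hcent

/-- `S0110`. -/
theorem extraspecial_sup_centralizer_eq_top {G : Type*} [Group G] [Finite G] {p : ℕ}
    [Fact p.Prime] (E : Subgroup G) (hE : Cfsg.IsExtraspecial p E)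
    (h : ⁅(⊤ : Subgroup G), E⁆ ≤ E ⊓ Subgroup.centralizer (E : Set G)) :
    E ⊔ Subgroup.centralizer (E : Set G) = ⊤ := by
  rw [eq_top_iff]
  intro g _
  apply mem_sup_centralizer_of_extraspecial E hE g
  intro e he
  have h1 : ⁅g, e⁻¹⁆ ∈ ⁅(⊤ : Subgroup G), E⁆ :=
    Subgroup.commutator_mem_commutator (Subgroup.mem_top g) (E.inv_mem he)
  have h2 := Subgroup.inv_mem _ (h h1)
  have e1 : (⁅g, e⁻¹⁆)⁻¹ = e⁻¹ * g * e * g⁻¹ := by rw [commutatorElement_def]; group
  rwa [e1] at h2

end Cfsg.Agent.Lead
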