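import Mathlib
import Cfsg.Agent.Lead.ExtraspecialInner

set_option autoImplicit false

namespace Cfsg.Agent.Lead

/-- An automorphism of an extraspecial group inducing the identity modulo the centre is inner. -/
theorem inner_of_trivial_mod_center {E : Type*} [Group E] [Finite E] {p : ℕ} [Fact p.Prime]
    (hE : Cfsg.IsExtraspecial p E) (φ : E ≃* E)
    (hφ : ∀ x : E, φ x * x⁻¹ ∈ Subgroup.center E) : ∃ g : E, ∀ x : E, φ x = g * x * g⁻¹ := by
  have hcen : ∀ x y : E, y * (φ x * x⁻¹) = (φ x * x⁻¹) * y := fun x y =>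
    Subgroup.mem_center_iff.1 (hφ x) y
  let χ : E →* Subgroup.center E :=
    { toFun := fun x => ⟨φ x * x⁻¹, hφ x⟩
      map_one' := by
        apply Subtype.ext
        simp
      map_mul' := by
        intro a b
        apply Subtype.ext
        show φ (a * b) * (a * b)⁻¹ = (φ a * a⁻¹) * (φ b * b⁻¹)
        rw [map_mul, mul_inv_rev]
        calc φ a * φ b * (b⁻¹ * a⁻¹) = φ a * (φ b * b⁻¹) * a⁻¹ := by group
          _ = φ a * (a⁻¹ * (φ b * b⁻¹)) := by rw [mul_assoc, ← hcen b a⁻¹]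
          _ = (φ a * a⁻¹) * (φ b * b⁻¹) := by group }
  obtain ⟨u, hu⟩ := exists_commHom_eq hE χ
  refine ⟨u, fun x => ?_⟩
  have h1 : φ x * x⁻¹ = x⁻¹ * u * x * u⁻¹ := hu x
  have h2 : φ x = (φ x * x⁻¹) * x := by group
  have h3 : (φ x * x⁻¹) * x = x * (φ x * x⁻¹) := (hcen x x).symm
  rw [h2, h3, h1]
  group

end Cfsg.Agent.Lead
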