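import Mathlib
import Cfsg.Agent.Helper2.Layer3
import Cfsg.Agent.Helper1.FrattiniAct
import Cfsg.Prelude.Def_ClassificationK

set_option autoImplicit false

namespace Cfsg.Agent.Lead

/-- A finite cyclic group has at most one involution. -/
theorem eq_of_sq_eq_one_of_isCyclic {H : Type*} [Group H] [Finite H] [IsCyclic H] {x y : H}
    (hx : x ^ 2 = 1) (hy : y ^ 2 = 1) (hx1 : x ≠ 1) (hy1 : y ≠ 1) : x = y := by
  classical
  haveI : Fintype H := Fintype.ofFinite H
  by_contra hxy
  have h := IsCyclic.card_pow_eq_one_le (α := H) (n := 2) (by norm_num)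
  have hsub : ({1, x, y} : Finset H) ⊆ Finset.univ.filter (fun a : H => a ^ 2 = 1) := by
    intro a ha
    simp only [Finset.mem_insert, Finset.mem_singleton] at ha
    simp only [Finset.mem_filter, Finset.mem_univ, true_and]
    rcases ha with rfl | rfl | rfl
    · exact one_pow 2
    · exact hx
    · exact hy
  have hcard : ({1, x, y} : Finset H).card = 3 := by
    rw [Finset.card_insert_of_notMem, Finset.card_insert_of_notMem, Finset.card_singleton]
    · simpa using hxy
    · simp only [Finset.mem_insert, Finset.mem_singleton, not_or]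
      exact ⟨fun h => hx1 h.symm, fun h => hy1 h.symm⟩
  have := Finset.card_le_card hsub
  omega

/-- In a `2`-group of symplectic type, a nontrivial characteristic abelian subgroup contains every
central involution, and that is its only involution. -/
theorem symplectic_char_abelian_involution {Q : Type*} [Group Q] [Finite Q]
    (hQ : Cfsg.IsOfSymplecticType Q) (B : Subgroup Q) [hBc : B.Characteristic]
    (hBa : IsMulCommutative B) (z : Q) (hz : orderOf z = 2) (hzc : z ∈ Subgroup.center Q)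
    (hB : B ≠ ⊥) : z ∈ B ∧ ∀ x ∈ B, x ^ 2 = 1 → x = 1 ∨ x = z := by
  haveI hBcyc : IsCyclic B := hQ.2 B hBc hBa
  haveI hZcyc : IsCyclic (Subgroup.center Q) :=
    hQ.2 (Subgroup.center Q) inferInstance inferInstance
  -- involutions in `B`
  have huniqB : ∀ x y : Q, x ∈ B → y ∈ B → x ^ 2 = 1 → y ^ 2 = 1 → x ≠ 1 → y ≠ 1 → x = y := by
    intro x y hx hy hx2 hy2 hx1 hy1
    have := eq_of_sq_eq_one_of_isCyclic (H := B) (x := ⟨x, hx⟩) (y := ⟨y, hy⟩)
      (Subtype.ext (by simpa using hx2)) (Subtype.ext (by simpa using hy2))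
      (fun h => hx1 (by simpa using congrArg Subtype.val h))
      (fun h => hy1 (by simpa using congrArg Subtype.val h))
    exact congrArg Subtype.val this
  have huniqZ : ∀ x y : Q, x ∈ Subgroup.center Q → y ∈ Subgroup.center Q → x ^ 2 = 1 →
      y ^ 2 = 1 → x ≠ 1 → y ≠ 1 → x = y := by
    intro x y hx hy hx2 hy2 hx1 hy1
    have := eq_of_sq_eq_one_of_isCyclic (H := Subgroup.center Q) (x := ⟨x, hx⟩) (y := ⟨y, hy⟩)
      (Subtype.ext (by simpa using hx2)) (Subtype.ext (by simpa using hy2))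
      (fun h => hx1 (by simpa using congrArg Subtype.val h))
      (fun h => hy1 (by simpa using congrArg Subtype.val h))
    exact congrArg Subtype.val this
  -- an involution `t ∈ B`
  have hBp : IsPGroup 2 B := hQ.1.to_subgroup B
  haveI : Fact (Nat.Prime 2) := ⟨Nat.prime_two⟩
  have hBnt : Nontrivial B := (Subgroup.nontrivial_iff_ne_bot B).mpr hB
  have h2dvd : 2 ∣ Nat.card B := by
    obtain ⟨k, hk⟩ := IsPGroup.iff_card.mp hBp
    have hk0 : k ≠ 0 := by
      rintro rfl
      have : 1 < Nat.card B := Finite.one_lt_card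
      omega
    rw [hk]
    exact dvd_pow_self 2 hk0
  obtain ⟨t, ht⟩ := exists_prime_orderOf_dvd_card' 2 h2dvd
  have htB : (t : Q) ∈ B := t.2
  have ht2 : (t : Q) ^ 2 = 1 := by
    have := pow_orderOf_eq_one t
    rw [ht] at this
    simpa using congrArg Subtype.val this
  have ht1 : (t : Q) ≠ 1 := by
    intro h
    have : t = 1 := Subtype.ext h
    rw [this, orderOf_one] at ht
    omega
  -- `t` is central
  have hBn : B.Normal := inferInstance
  have htc : (t : Q) ∈ Subgroup.center Q := by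
    rw [Subgroup.mem_center_iff]
    intro q
    have h1 : q * (t : Q) * q⁻¹ ∈ B := hBn.conj_mem _ htB q
    have h2 : (q * (t : Q) * q⁻¹) ^ 2 = 1 := by rw [conj_pow, ht2]; group
    have h3 : q * (t : Q) * q⁻¹ ≠ 1 := by
      intro h
      apply ht1
      have := congrArg (fun u => q⁻¹ * u * q) h
      simpa [mul_assoc] using this
    have := huniqB _ _ h1 htB h2 ht2 h3 ht1
    have := congrArg (fun u => u * q) this
    simpa using this
  have hz2 : z ^ 2 = 1 := by rw [← hz]; exact pow_orderOf_eq_one z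
  have hz1 : z ≠ 1 := by
    intro h
    rw [h, orderOf_one] at hz
    omega
  have htz : (t : Q) = z := huniqZ _ _ htc hzc ht2 hz2 ht1 hz1
  refine ⟨htz ▸ htB, ?_⟩
  intro x hx hx2
  by_cases hx1 : x = 1
  · exact Or.inl hx1
  · exact Or.inr (huniqB _ _ hx (htz ▸ htB) hx2 hz2 hx1 hz1)

/-- `S1755`. -/
theorem symplectic_char_abelian_ti {G : Type*} [Group G] [Finite G] (z : G) (hz : orderOf z = 2)
    (hQ : Cfsg.IsOfSymplecticType
      ↥(Cfsg.generalizedFittingSubgroup ↥(Subgroup.centralizer ({z} : Set G))))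
    (B : Subgroup ↥(Cfsg.generalizedFittingSubgroup ↥(Subgroup.centralizer ({z} : Set G))))
    (hBc : B.Characteristic) (hBa : IsMulCommutative ↥B) (g : G) :
    ((B.map (Cfsg.generalizedFittingSubgroup ↥(Subgroup.centralizer ({z} : Set G))).subtype).map
        (Subgroup.centralizer ({z} : Set G)).subtype).map (MulAut.conj g).toMonoidHom =
        (B.map (Cfsg.generalizedFittingSubgroup ↥(Subgroup.centralizer ({z} : Set G))).subtype).map
          (Subgroup.centralizer ({z} : Set G)).subtype ∨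
      ((B.map (Cfsg.generalizedFittingSubgroup ↥(Subgroup.centralizer ({z} : Set G))).subtype).map
        (Subgroup.centralizer ({z} : Set G)).subtype).map (MulAut.conj g).toMonoidHom ⊓
        (B.map (Cfsg.generalizedFittingSubgroup ↥(Subgroup.centralizer ({z} : Set G))).subtype).map
          (Subgroup.centralizer ({z} : Set G)).subtype = ⊥ := by
  by_cases hB : B = ⊥
  · right
    rw [hB]
    simp
  -- the central involution inside `Q`
  have hzmem : z ∈ Subgroup.centralizer ({z} : Set G) := by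
    rw [Subgroup.mem_centralizer_iff]
    rintro h rfl
    rfl
  have hzCc : ∀ c : ↥(Subgroup.centralizer ({z} : Set G)),
      c * (⟨z, hzmem⟩ : ↥(Subgroup.centralizer ({z} : Set G))) = ⟨z, hzmem⟩ * c := by
    intro c
    apply Subtype.ext
    have := Subgroup.mem_centralizer_iff.mp c.2 z rfl
    simpa using this.symm
  have hzQmem : (⟨z, hzmem⟩ : ↥(Subgroup.centralizer ({z} : Set G))) ∈
      Cfsg.generalizedFittingSubgroup ↥(Subgroup.centralizer ({z} : Set G)) := by
    apply Cfsg.Agent.Helper2.centralizer_generalizedFittingSubgroup_le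
    rw [Subgroup.mem_centralizer_iff]
    intro c _
    exact hzCc c
  have hzQord : orderOf (⟨⟨z, hzmem⟩, hzQmem⟩ :
      ↥(Cfsg.generalizedFittingSubgroup ↥(Subgroup.centralizer ({z} : Set G)))) = 2 := by
    rw [← hz, ← Subgroup.orderOf_coe, ← Subgroup.orderOf_coe]
  have hzQc : (⟨⟨z, hzmem⟩, hzQmem⟩ :
      ↥(Cfsg.generalizedFittingSubgroup ↥(Subgroup.centralizer ({z} : Set G)))) ∈
      Subgroup.center _ := by
    rw [Subgroup.mem_center_iff]
    intro q
    apply Subtype.ext
    exact hzCc q.1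
  obtain ⟨hzB, huniq⟩ := symplectic_char_abelian_involution hQ B hBa _ hzQord hzQc hB
  -- abbreviations
  obtain ⟨Bt, hBt⟩ : ∃ Bt : Subgroup G, Bt =
      (B.map (Cfsg.generalizedFittingSubgroup ↥(Subgroup.centralizer ({z} : Set G))).subtype).map
        (Subgroup.centralizer ({z} : Set G)).subtype := ⟨_, rfl⟩
  rw [← hBt]
  have hmemBt : ∀ x : G, x ∈ Bt ↔ ∃ b ∈ B, ((b : ↥(Subgroup.centralizer ({z} : Set G))) : G) = x := by
    intro x
    rw [hBt]
    constructor
    · rintro ⟨y, ⟨b, hb, rfl⟩, rfl⟩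
      exact ⟨b, hb, rfl⟩
    · rintro ⟨b, hb, rfl⟩
      exact ⟨_, ⟨b, hb, rfl⟩, rfl⟩
  have hzBt : z ∈ Bt := (hmemBt z).mpr ⟨_, hzB, rfl⟩
  have huniqG : ∀ x ∈ Bt, x ^ 2 = 1 → x = 1 ∨ x = z := by
    intro x hx hx2
    obtain ⟨b, hb, rfl⟩ := (hmemBt x).mp hx
    have hb2 : b ^ 2 = 1 := by
      apply Subtype.ext
      apply Subtype.ext
      simpa using hx2
    rcases huniq b hb hb2 with h | h
    · left; rw [h]; rfl
    · right; rw [h]
  have hpow2 : ∀ x ∈ Bt, ∃ k : ℕ, orderOf x = 2 ^ k := by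
    intro x hx
    obtain ⟨b, hb, rfl⟩ := (hmemBt x).mp hx
    obtain ⟨k, hk⟩ := (IsPGroup.iff_orderOf.mp hQ.1) b
    refine ⟨k, ?_⟩
    rw [← hk, Subgroup.orderOf_coe, Subgroup.orderOf_coe]
  by_cases hinf : Bt.map (MulAut.conj g).toMonoidHom ⊓ Bt = ⊥
  · exact Or.inr hinf
  left
  -- a nontrivial element of the intersection
  obtain ⟨⟨x, hxI⟩, hx1⟩ := (Subgroup.ne_bot_iff_exists_ne_one.mp hinf)
  have hx1' : x ≠ 1 := fun h => hx1 (Subtype.ext h)
  have hxg := (Subgroup.mem_inf.mp hxI).1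
  have hxB := (Subgroup.mem_inf.mp hxI).2
  obtain ⟨k, hk⟩ := hpow2 x hxB
  have hk0 : k ≠ 0 := by
    rintro rfl
    rw [pow_zero, orderOf_eq_one_iff] at hk
    exact hx1' hk
  obtain ⟨j, rfl⟩ := Nat.exists_eq_succ_of_ne_zero hk0
  -- `s = x^(2^j)` is an involution in both
  have hs2 : (x ^ 2 ^ j) ^ 2 = 1 := by
    rw [← pow_mul, ← pow_succ, ← hk]
    exact pow_orderOf_eq_one x
  have hs1 : x ^ 2 ^ j ≠ 1 := by
    intro h
    have := orderOf_dvd_of_pow_eq_one h
    rw [hk] at this
    have := (Nat.pow_dvd_pow_iff_le_right (by norm_num : 1 < 2)).mp this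
    omega
  have hsB : x ^ 2 ^ j ∈ Bt := Subgroup.pow_mem _ hxB _
  have hsg : x ^ 2 ^ j ∈ Bt.map (MulAut.conj g).toMonoidHom := Subgroup.pow_mem _ hxg _
  have hsz : x ^ 2 ^ j = z := (huniqG _ hsB hs2).resolve_left hs1
  obtain ⟨b, hb, hbs⟩ := hsg
  have hbs' : g * b * g⁻¹ = x ^ 2 ^ j := hbs
  have hb2 : b ^ 2 = 1 := by
    have h1 : (g * b * g⁻¹) ^ 2 = 1 := by rw [hbs']; exact hs2
    rw [conj_pow] at h1
    have := congrArg (fun u => g⁻¹ * u * g) h1
    simpa [mul_assoc] using this
  have hb1 : b ≠ 1 := by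
    intro h
    apply hs1
    rw [← hbs', h]
    group
  have hbz : b = z := (huniqG _ hb hb2).resolve_left hb1
  have hgz : g * z * g⁻¹ = z := by rw [← hbz] at hsz ⊢; rw [hbs', hsz]
  have hgC : g ∈ Subgroup.centralizer ({z} : Set G) := by
    rw [Subgroup.mem_centralizer_iff]
    rintro h rfl
    have := congrArg (fun u => u * g) hgz
    simpa using this.symm
  -- `B₁` is normal in `C`
  have hQn : (Cfsg.generalizedFittingSubgroup ↥(Subgroup.centralizer ({z} : Set G))).Normal :=
    inferInstance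
  have hB1N : ∀ c : ↥(Subgroup.centralizer ({z} : Set G)),
      c ∈ Subgroup.normalizer ((B.map
        (Cfsg.generalizedFittingSubgroup ↥(Subgroup.centralizer ({z} : Set G))).subtype :
          Subgroup ↥(Subgroup.centralizer ({z} : Set G))) : Set _) := by
    intro c
    apply Cfsg.Agent.Helper1.le_normalizer_map_of_characteristic
    rw [Subgroup.normalizer_eq_top]
    exact Subgroup.mem_top c
  apply Subgroup.eq_of_le_of_card_ge
  · rintro _ ⟨y, hy, rfl⟩
    obtain ⟨b', hb', rfl⟩ := (hmemBt y).mp hy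
    have h1 := (Subgroup.mem_normalizer_iff.mp (hB1N ⟨g, hgC⟩)
      (b' : ↥(Subgroup.centralizer ({z} : Set G)))).mp ⟨b', hb', rfl⟩
    obtain ⟨b'', hb'', hbb⟩ := h1
    refine (hmemBt _).mpr ⟨b'', hb'', ?_⟩
    have := congrArg Subtype.val hbb
    simpa using this
  · rw [Subgroup.card_map_of_injective (MulAut.conj g).injective]

end Cfsg.Agent.Lead
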