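import Mathlib
import Cfsg.Prelude.Def_GeometricClasses
import Cfsg.Agent.Helper8.OmegaCrit

set_option autoImplicit false
open Cfsg

namespace Cfsg.Agent.Lead.OrthPlane

open Cfsg.Agent.Helper8.ReflMatrix Cfsg.Agent.Helper8.Reflections Cfsg.Agent.Helper8.OmegaCrit
  Cfsg.Agent.Helper8.QuadForm

variable {F : Type*} [Field F] {ι : Type} [Fintype ι] [DecidableEq ι]
  (Q : QuadraticForm F (ι → F))

/-- product of two reflections -/
noncomputable def rr (a b : ι → F) : ↥(Cfsg.isometryGroup F ⇑Q) := reflElt Q a * reflElt Q b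

theorem rr_mulVec (a b x : ι → F) :
    (((rr Q a b : ↥(Cfsg.isometryGroup F ⇑Q)) : GL ι F) : Matrix ι ι F).mulVec x =
      refl Q a (refl Q b x) := by
  unfold rr
  rw [Subgroup.coe_mul, Units.val_mul, ← Matrix.mulVec_mulVec, reflElt_val, reflElt_val,
    reflectionMatrix_mulVec, reflectionMatrix_mulVec]

theorem rr_mem [Fintype F] (h2 : (2 : F) ≠ 0) (hQ : (QuadraticMap.polarBilin Q).Nondegenerate)
    (hn : 2 ≤ Fintype.card ι) {a b : ι → F} (ha : Q a ≠ 0) (hb : Q b ≠ 0)
    (hsq : IsSquare (Q a * Q b)) : rr Q a b ∈ commutator ↥(Cfsg.isometryGroup F ⇑Q) := by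
  have := (prod_reflElt_mem_iff Q h2 hQ hn [a, b] (by
    intro z hz
    simp only [List.mem_cons, List.not_mem_nil, or_false] at hz
    rcases hz with rfl | rfl
    · exact ha
    · exact hb)).2 ⟨by simp, by simpa using hsq⟩
  simpa [rr] using this

theorem rr_mem_omegaGL [Fintype F] (h2 : (2 : F) ≠ 0)
    (hQ : (QuadraticMap.polarBilin Q).Nondegenerate)
    (hn : 2 ≤ Fintype.card ι) {a b : ι → F} (ha : Q a ≠ 0) (hb : Q b ≠ 0)
    (hsq : IsSquare (Q a * Q b)) :
    ((rr Q a b : ↥(Cfsg.isometryGroup F ⇑Q)) : GL ι F) ∈ Cfsg.Geo.omegaGL ⇑Q := by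
  unfold Cfsg.Geo.omegaGL
  exact Subgroup.mem_map.2 ⟨rr Q a b, rr_mem Q h2 hQ hn ha hb hsq, rfl⟩

theorem isom_of_mem_omegaGL {g : GL ι F} (hg : g ∈ Cfsg.Geo.omegaGL ⇑Q) (v : ι → F) :
    Q ((g : Matrix ι ι F).mulVec v) = Q v := by
  unfold Cfsg.Geo.omegaGL at hg
  obtain ⟨h, _, rfl⟩ := Subgroup.mem_map.1 hg
  exact h.2 v v

theorem inv_mulVec_mulVec (g : GL ι F) (v : ι → F) :
    ((g⁻¹ : GL ι F) : Matrix ι ι F).mulVec ((g : Matrix ι ι F).mulVec v) = v := by
  rw [Matrix.mulVec_mulVec, ← Units.val_mul, inv_mul_cancel, Units.val_one, Matrix.one_mulVec]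

theorem mulVec_inv_mulVec (g : GL ι F) (v : ι → F) :
    (g : Matrix ι ι F).mulVec (((g⁻¹ : GL ι F) : Matrix ι ι F).mulVec v) = v := by
  rw [Matrix.mulVec_mulVec, ← Units.val_mul, mul_inv_cancel, Units.val_one, Matrix.one_mulVec]

theorem mem_stab_iff (W : Submodule F (ι → F)) (g : GL ι F) :
    g ∈ Cfsg.Geo.subspaceStabilizer W ↔ ∀ v, v ∈ W ↔ (g : Matrix ι ι F).mulVec v ∈ W := Iff.rfl

/-- an element fixing `u` up to sign, together with its inverse, stabilises the line. -/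
theorem mem_stab_span {u : ι → F} {g : GL ι F}
    (h1 : (g : Matrix ι ι F).mulVec u = u ∨ (g : Matrix ι ι F).mulVec u = -u)
    (h2 : ((g⁻¹ : GL ι F) : Matrix ι ι F).mulVec u = u ∨
      ((g⁻¹ : GL ι F) : Matrix ι ι F).mulVec u = -u) :
    g ∈ Cfsg.Geo.subspaceStabilizer (Submodule.span F {u}) := by
  rw [mem_stab_iff]
  intro v
  constructor
  · intro hv
    obtain ⟨t, rfl⟩ := Submodule.mem_span_singleton.1 hv
    rw [Matrix.mulVec_smul]
    rcases h1 with h | h
    · rw [h]; exact Submodule.smul_mem _ _ (Submodule.mem_span_singleton_self u)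
    · rw [h]
      exact Submodule.smul_mem _ _ (Submodule.neg_mem _ (Submodule.mem_span_singleton_self u))
  · intro hv
    obtain ⟨t, ht⟩ := Submodule.mem_span_singleton.1 hv
    have : v = t • ((g⁻¹ : GL ι F) : Matrix ι ι F).mulVec u := by
      rw [← Matrix.mulVec_smul, ht, inv_mulVec_mulVec]
    rw [this]
    rcases h2 with h | h
    · rw [h]; exact Submodule.smul_mem _ _ (Submodule.mem_span_singleton_self u)
    · rw [h]
      exact Submodule.smul_mem _ _ (Submodule.neg_mem _ (Submodule.mem_span_singleton_self u))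

/-- field with three elements -/
theorem f3_cases [Fintype F] (hq : Fintype.card F = 3) (a : F) : a = 0 ∨ a = 1 ∨ a = -1 := by
  have h := FiniteField.pow_card a
  rw [hq] at h
  have h' : a * (a - 1) * (a + 1) = 0 := by linear_combination h
  rcases mul_eq_zero.1 h' with h1 | h1
  · rcases mul_eq_zero.1 h1 with h2 | h2
    · exact Or.inl h2
    · exact Or.inr (Or.inl (sub_eq_zero.1 h2))
  · exact Or.inr (Or.inr (eq_neg_of_add_eq_zero_left h1))

theorem f3_two_ne [Fintype F] (hq : Fintype.card F = 3) : (2 : F) ≠ 0 := by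
  intro h
  have h3 : ((Fintype.card F : ℕ) : F) = 0 := FiniteField.cast_card_eq_zero F
  rw [hq] at h3
  have : (1 : F) = 0 := by
    have e : ((3 : ℕ) : F) = 2 + 1 := by norm_num
    rw [e, h, zero_add] at h3
    exact h3
  exact one_ne_zero this

theorem f3_mul_eq_one [Fintype F] (hq : Fintype.card F = 3) {s t : F} (h : s * t = 1) :
    (s = 1 ∧ t = 1) ∨ (s = -1 ∧ t = -1) := by
  rcases f3_cases hq s with rfl | rfl | rfl
  · rw [zero_mul] at h
    exact absurd h zero_ne_one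
  · left
    exact ⟨rfl, by simpa using h⟩
  · right
    refine ⟨rfl, ?_⟩
    have : t = -(-1 * t) := by ring
    rw [this, h]

end Cfsg.Agent.Lead.OrthPlane
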