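import Mathlib
import Cfsg.Agent.Lead.OrthPlaneA

set_option autoImplicit false
open Cfsg

namespace Cfsg.Agent.Lead.OrthPlane

open Cfsg.Agent.Helper8.ReflMatrix Cfsg.Agent.Helper8.Reflections Cfsg.Agent.Helper8.OmegaCrit
  Cfsg.Agent.Helper8.QuadForm Module

variable {F : Type*} [Field F] {ι : Type} [Fintype ι] [DecidableEq ι]
  (Q : QuadraticForm F (ι → F))

theorem nondegOn_of_geo {W : Submodule F (ι → F)}
    (hW : Cfsg.Geo.IsNondegenerateOn (QuadraticMap.polar ⇑Q) W) : NondegOn Q W := by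
  intro w hw hww
  by_contra hne
  obtain ⟨_, ⟨x, hx, hxw⟩⟩ := hW w hw hne
  exact hxw (hww x hx)

theorem exists_hyp_pair {W : Submodule F (ι → F)} (hdim : finrank F W = 2)
    (hW : Cfsg.Geo.IsNondegenerateOn (QuadraticMap.polar ⇑Q) W)
    (hplus : Cfsg.Geo.IsPlusTypeOn ⇑Q W) :
    ∃ e f : ι → F, e ∈ W ∧ f ∈ W ∧ Q e = 0 ∧ Q f = 0 ∧ QuadraticMap.polar Q e f = 1 ∧
      ∀ x ∈ W, ∃ s t : F, x = s • e + t • f := by
  obtain ⟨U, hUW, hUs, hUd⟩ := hplus
  have hU1 : 0 < finrank F U := by omega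
  obtain ⟨e0, he0⟩ := (Module.finrank_pos_iff_exists_ne_zero (R := F) (M := U)).1 hU1
  have heW : (e0 : ι → F) ∈ W := hUW e0.2
  have hQe : Q (e0 : ι → F) = 0 := hUs _ e0.2
  have hnd : Nondeg (Q.comp W.subtype) := (nondeg_comp_subtype_iff Q W).2 (nondegOn_of_geo Q hW)
  have he1 : (⟨(e0 : ι → F), heW⟩ : W) ≠ 0 := by
    intro h
    apply he0
    apply Subtype.ext
    have h' : (e0 : ι → F) = 0 := congrArg (fun z : W => (z : ι → F)) h
    exact h'
  obtain ⟨f', hf', hef'⟩ := exists_hyperbolic_pair (Q.comp W.subtype) hnd he1 hQe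
  have hQf : Q (f' : ι → F) = 0 := hf'
  have hef : QuadraticMap.polar Q (e0 : ι → F) (f' : ι → F) = 1 := hef'
  have hfe : QuadraticMap.polar Q (f' : ι → F) (e0 : ι → F) = 1 := by
    rw [QuadraticMap.polar_comm]; exact hef
  have hee : QuadraticMap.polar Q (e0 : ι → F) (e0 : ι → F) = 0 := by
    rw [polar_self', hQe, mul_zero]
  have hff : QuadraticMap.polar Q (f' : ι → F) (f' : ι → F) = 0 := by
    rw [polar_self', hQf, mul_zero]
  refine ⟨e0, f', heW, f'.2, hQe, hQf, hef, ?_⟩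
  have hli : LinearIndependent F ![(e0 : ι → F), (f' : ι → F)] := by
    rw [LinearIndependent.pair_iff]
    intro s t hst
    have h1 := congrArg (fun z => QuadraticMap.polar Q (e0 : ι → F) z) hst
    have h2 := congrArg (fun z => QuadraticMap.polar Q (f' : ι → F) z) hst
    simp only [QuadraticMap.polar_add_right, QuadraticMap.polar_smul_right, hee, hef, hfe, hff,
      QuadraticMap.polar_zero_right, smul_eq_mul, mul_zero, mul_one, zero_add, add_zero] at h1 h2
    exact ⟨h2, h1⟩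
  have hspan : Submodule.span F (Set.range ![(e0 : ι → F), (f' : ι → F)]) = W := by
    apply Submodule.eq_of_le_of_finrank_eq
    · rw [Submodule.span_le]
      rintro _ ⟨i, rfl⟩
      fin_cases i
      · exact heW
      · exact f'.2
    · rw [finrank_span_eq_card hli, hdim, Fintype.card_fin]
  intro x hx
  rw [← hspan, Submodule.mem_span_range_iff_exists_fun] at hx
  obtain ⟨c, hc⟩ := hx
  refine ⟨c 0, c 1, ?_⟩
  rw [← hc, Fin.sum_univ_two]
  rfl

theorem main_q3 [Fintype F] (hq : Fintype.card F = 3)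
    (hQ : (QuadraticMap.polarBilin Q).Nondegenerate)
    (hn : 2 ≤ Fintype.card ι) (W : Submodule F (ι → F)) (hdim : finrank F W = 2)
    (hW : Cfsg.Geo.IsNondegenerateOn (QuadraticMap.polar ⇑Q) W)
    (hplus : Cfsg.Geo.IsPlusTypeOn ⇑Q W)
    (w bp bm : ι → F) (hw0 : w ≠ 0) (hw : Q w = 0) (hbp : Q bp = 1) (hbm : Q bm = -1)
    (hwW : ∀ x ∈ W, QuadraticMap.polar Q x w = 0) (hbpW : ∀ x ∈ W, QuadraticMap.polar Q x bp = 0)
    (hbmW : ∀ x ∈ W, QuadraticMap.polar Q x bm = 0) :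
    ∃ K : Subgroup (GL ι F), Cfsg.Geo.subspaceStabilizer W ⊓ Cfsg.Geo.omegaGL ⇑Q < K ∧
      K < Cfsg.Geo.omegaGL ⇑Q := by
  have h2 := f3_two_ne hq
  obtain ⟨e, f, heW, hfW, hQe, hQf, hef, hspan⟩ := exists_hyp_pair Q hdim hW hplus
  have hfe : QuadraticMap.polar Q f e = 1 := by rw [QuadraticMap.polar_comm]; exact hef
  have hee : QuadraticMap.polar Q e e = 0 := by rw [polar_self', hQe, mul_zero]
  have hff : QuadraticMap.polar Q f f = 0 := by rw [polar_self', hQf, mul_zero]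
  obtain ⟨u, hu⟩ : ∃ u, u = e + f := ⟨_, rfl⟩
  obtain ⟨u', hu'⟩ : ∃ u', u' = e - f := ⟨_, rfl⟩
  have huW : u ∈ W := by rw [hu]; exact W.add_mem heW hfW
  have hu'W : u' ∈ W := by rw [hu']; exact W.sub_mem heW hfW
  have hQu : Q u = 1 := by
    rw [hu, QuadraticMap.map_add Q, hQe, hQf, hef]; ring
  have hQu' : Q u' = -1 := by
    rw [hu', sub_eq_add_neg, QuadraticMap.map_add Q, QuadraticMap.map_neg, hQe, hQf,
      QuadraticMap.polar_neg_right, hef]; ring
  have hu'u : QuadraticMap.polar Q u' u = 0 := by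
    rw [hu, hu', QuadraticMap.polar_sub_left, QuadraticMap.polar_add_right,
      QuadraticMap.polar_add_right, hee, hef, hfe, hff]; ring
  have hwnW : ∀ c : F, c ≠ 0 → ∀ z ∈ W, z + c • w ∉ W := by
    intro c hc z hz hmem
    have h1 : c • w ∈ W := by simpa using W.sub_mem hmem hz
    have hwW' : w ∈ W := by
      have := W.smul_mem c⁻¹ h1
      rwa [smul_smul, inv_mul_cancel₀ hc, one_smul] at this
    obtain ⟨⟨x, hx, hxw⟩, _⟩ := hW w hwW' hw0
    exact hxw (hwW x hx)
  have hnorm1 : ∀ x ∈ W, Q x = 1 → x = u ∨ x = -u := by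
    intro x hx hQx
    obtain ⟨s, t, rfl⟩ := hspan x hx
    have h1 : Q (s • e + t • f) = s * t := by
      rw [QuadraticMap.map_add Q, QuadraticMap.map_smul, QuadraticMap.map_smul, hQe, hQf,
        QuadraticMap.polar_smul_left, QuadraticMap.polar_smul_right, hef]
      simp
    rw [h1] at hQx
    rcases f3_mul_eq_one hq hQx with ⟨rfl, rfl⟩ | ⟨rfl, rfl⟩
    · left; rw [hu, one_smul, one_smul]
    · right; rw [hu, neg_smul, neg_smul, one_smul, one_smul, neg_add]
  have hkey : ∀ g : GL ι F, g ∈ Cfsg.Geo.subspaceStabilizer W ⊓ Cfsg.Geo.omegaGL ⇑Q →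
      (g : Matrix ι ι F).mulVec u = u ∨ (g : Matrix ι ι F).mulVec u = -u := by
    intro g hg
    apply hnorm1
    · exact ((mem_stab_iff W g).1 hg.1 u).1 huW
    · rw [isom_of_mem_omegaGL Q hg.2, hQu]
  have hone_sq : IsSquare (1 : F) := ⟨1, by ring⟩
  refine ⟨Cfsg.Geo.subspaceStabilizer (Submodule.span F {u}) ⊓ Cfsg.Geo.omegaGL ⇑Q, ?_, ?_⟩
  · rw [SetLike.lt_iff_le_and_exists]
    refine ⟨?_, ?_⟩
    · intro g hg
      exact ⟨mem_stab_span (hkey g hg) (hkey g⁻¹ (inv_mem hg)), hg.2⟩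
    · obtain ⟨a, ha⟩ : ∃ a, a = u' + w := ⟨_, rfl⟩
      have hu'w : QuadraticMap.polar Q u' w = 0 := hwW u' hu'W
      have hQa : Q a = -1 := by
        rw [ha, QuadraticMap.map_add Q, hQu', hw, hu'w]; ring
      have hau : QuadraticMap.polar Q a u = 0 := by
        rw [ha, QuadraticMap.polar_add_left, hu'u, QuadraticMap.polar_comm, hwW u huW, add_zero]
      have hbmu : QuadraticMap.polar Q bm u = 0 := by
        rw [QuadraticMap.polar_comm]; exact hbmW u huW
      have hbmu' : QuadraticMap.polar Q bm u' = 0 := by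
        rw [QuadraticMap.polar_comm]; exact hbmW u' hu'W
      have hmemΩ : ((rr Q a bm : ↥(Cfsg.isometryGroup F ⇑Q)) : GL ι F) ∈ Cfsg.Geo.omegaGL ⇑Q := by
        apply rr_mem_omegaGL Q h2 hQ hn
        · rw [hQa]; simp
        · rw [hbm]; simp
        · rw [hQa, hbm]; simpa using hone_sq
      have hfix : (((rr Q a bm : ↥(Cfsg.isometryGroup F ⇑Q)) : GL ι F) : Matrix ι ι F).mulVec u
          = u := by
        rw [rr_mulVec, refl_of_perp Q hbmu, refl_of_perp Q hau]
      have hfix' : (((((rr Q a bm : ↥(Cfsg.isometryGroup F ⇑Q)) : GL ι F))⁻¹ : GL ι F) :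
          Matrix ι ι F).mulVec u = u := by
        conv_lhs => rw [← hfix]
        rw [inv_mulVec_mulVec]
      refine ⟨_, ⟨mem_stab_span (Or.inl hfix) (Or.inl hfix'), hmemΩ⟩, ?_⟩
      intro hmem
      have h1 := ((mem_stab_iff W _).1 hmem.1 u').1 hu'W
      rw [rr_mulVec, refl_of_perp Q hbmu', refl_apply] at h1
      have hr : QuadraticMap.polar Q a u' / Q a = 2 := by
        rw [ha, QuadraticMap.polar_add_left, polar_self', hQu', QuadraticMap.polar_comm, hu'w,
          ← ha, hQa]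
        field_simp
        ring
      rw [hr] at h1
      have e1 : u' - (2 : F) • a = (-u') + (-2 : F) • w := by
        rw [ha]; module
      rw [e1] at h1
      exact hwnW (-2) (by simpa using h2) (-u') (W.neg_mem hu'W) h1
  · rw [SetLike.lt_iff_le_and_exists]
    refine ⟨inf_le_right, ?_⟩
    obtain ⟨a, ha⟩ : ∃ a, a = u + w := ⟨_, rfl⟩
    have huw : QuadraticMap.polar Q u w = 0 := hwW u huW
    have hQa : Q a = 1 := by
      rw [ha, QuadraticMap.map_add Q, hQu, hw, huw]; ring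
    have hbpu : QuadraticMap.polar Q bp u = 0 := by
      rw [QuadraticMap.polar_comm]; exact hbpW u huW
    have hmemΩ : ((rr Q a bp : ↥(Cfsg.isometryGroup F ⇑Q)) : GL ι F) ∈ Cfsg.Geo.omegaGL ⇑Q := by
      apply rr_mem_omegaGL Q h2 hQ hn
      · rw [hQa]; simp
      · rw [hbp]; simp
      · rw [hQa, hbp]; simpa using hone_sq
    refine ⟨_, hmemΩ, ?_⟩
    intro hmem
    have h1 := ((mem_stab_iff _ _).1 hmem.1 u).1 (Submodule.mem_span_singleton_self u)
    rw [rr_mulVec, refl_of_perp Q hbpu, refl_apply] at h1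
    have hr : QuadraticMap.polar Q a u / Q a = 2 := by
      rw [ha, QuadraticMap.polar_add_left, polar_self', hQu, QuadraticMap.polar_comm, huw,
        ← ha, hQa]
      field_simp
      ring
    rw [hr] at h1
    have e1 : u - (2 : F) • a = (-u) + (-2 : F) • w := by
      rw [ha]; module
    rw [e1] at h1
    have hle : Submodule.span F {u} ≤ W := by
      rw [Submodule.span_le]
      intro z hz
      rw [Set.mem_singleton_iff] at hz
      rw [hz]; exact huW
    exact hwnW (-2) (by simpa using h2) (-u) (W.neg_mem huW) (hle h1)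

theorem main_q3' [Fintype F] (hq : Fintype.card F = 3)
    (hQ : (QuadraticMap.polarBilin Q).Nondegenerate)
    (hn : 5 ≤ Fintype.card ι) (W : Submodule F (ι → F)) (hdim : finrank F W = 2)
    (hW : Cfsg.Geo.IsNondegenerateOn (QuadraticMap.polar ⇑Q) W)
    (hplus : Cfsg.Geo.IsPlusTypeOn ⇑Q W) :
    ∃ K : Subgroup (GL ι F), Cfsg.Geo.subspaceStabilizer W ⊓ Cfsg.Geo.omegaGL ⇑Q < K ∧
      K < Cfsg.Geo.omegaGL ⇑Q := by
  obtain ⟨e, f, heW, hfW, hQe, hQf, hef, hspan⟩ := exists_hyp_pair Q hdim hW hplus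
  have hnd : Nondeg Q := (nondeg_iff Q).1 hQ
  have hPnd : NondegOn Q (perpPair Q e f) := perpPair_nondeg Q hnd hQe hQf hef
  have hPdim := finrank_perpPair Q hQe hQf hef
  rw [Module.finrank_pi, ] at hPdim
  have hP3 : 3 ≤ finrank F (perpPair Q e f) := by omega
  have hPnd' : Nondeg (Q.comp (perpPair Q e f).subtype) :=
    (nondeg_comp_subtype_iff Q _).2 hPnd
  obtain ⟨w', hw'0, hw'⟩ := exists_singular (Q.comp (perpPair Q e f).subtype) hP3
  obtain ⟨bp', hbp'⟩ := exists_repr (Q.comp (perpPair Q e f).subtype) hPnd' (by omega) 1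
  obtain ⟨bm', hbm'⟩ := exists_repr (Q.comp (perpPair Q e f).subtype) hPnd' (by omega) (-1)
  have hperp : ∀ z : perpPair Q e f, ∀ x ∈ W, QuadraticMap.polar Q x (z : ι → F) = 0 := by
    intro z x hx
    obtain ⟨s, t, rfl⟩ := hspan x hx
    have hz := (mem_perpPair Q e f z).1 z.2
    rw [QuadraticMap.polar_add_left, QuadraticMap.polar_smul_left, QuadraticMap.polar_smul_left,
      hz.1, hz.2]
    simp
  refine main_q3 Q hq hQ (by omega) W hdim hW hplus (w' : ι → F) (bp' : ι → F) (bm' : ι → F)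
    ?_ hw' hbp' hbm' (hperp w') (hperp bp') (hperp bm')
  intro h
  apply hw'0
  apply Subtype.ext
  exact h

end Cfsg.Agent.Lead.OrthPlane
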