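import Mathlib
import Cfsg.Agent.Lead.OrthPlaneB
import Cfsg.Agent.Helper8.EvenRefl

set_option autoImplicit false
open Cfsg

namespace Cfsg.Agent.Lead.OrthPlane

open Cfsg.Agent.Helper8.ReflMatrix Cfsg.Agent.Helper8.Reflections Cfsg.Agent.Helper8.EvenRefl
  Cfsg.Agent.Helper8.QuadForm Module

variable {F : Type*} [Field F] {ι : Type} [Fintype ι] [DecidableEq ι]

/-- bundle a function satisfying the frozen predicate into a quadratic form -/
noncomputable def bundle (Q : (ι → F) → F) (h : Cfsg.Geo.IsNondegenerateQuadraticForm Q) :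
    QuadraticForm F (ι → F) where
  toFun := Q
  toFun_smul := fun a x => by rw [h.smul, sq, smul_eq_mul]
  exists_companion' := ⟨LinearMap.mk₂ F (QuadraticMap.polar Q) h.polar_bilinear.add_left
    (fun c m n => by rw [h.polar_bilinear.smul_left, smul_eq_mul]) h.polar_bilinear.add_right
    (fun c m n => by rw [h.polar_bilinear.smul_right, smul_eq_mul]), fun x y => by
      simp only [LinearMap.mk₂_apply, QuadraticMap.polar]
      ring⟩

theorem bundle_coe (Q : (ι → F) → F) (h : Cfsg.Geo.IsNondegenerateQuadraticForm Q) :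
    ⇑(bundle Q h) = Q := rfl

theorem bundle_nondeg (Q : (ι → F) → F) (h : Cfsg.Geo.IsNondegenerateQuadraticForm Q) :
    (QuadraticMap.polarBilin (bundle Q h)).Nondegenerate := by
  rw [nondeg_iff]
  intro v hv
  by_contra hne
  obtain ⟨_, ⟨x, hx⟩⟩ := h.nondegenerate v hne
  exact hx (hv x)

variable (Q : QuadraticForm F (ι → F))

theorem rr_mem_omegaGL_even [Fintype F] (h2 : (2 : F) = 0)
    (hQ : (QuadraticMap.polarBilin Q).Nondegenerate)
    (hn : 2 ≤ Fintype.card ι) (hex : Fintype.card F ≠ 2 ∨ Fintype.card ι ≠ 4) {a b : ι → F}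
    (ha : Q a ≠ 0) (hb : Q b ≠ 0) :
    ((rr Q a b : ↥(Cfsg.isometryGroup F ⇑Q)) : GL ι F) ∈ Cfsg.Geo.omegaGL ⇑Q := by
  unfold Cfsg.Geo.omegaGL
  refine Subgroup.mem_map.2 ⟨rr Q a b, ?_, rfl⟩
  change rr Q a b ∈ commutator ↥(Cfsg.isometryGroup F ⇑Q)
  rw [commutator_eq_closure_pairs Q h2 hQ hn hex]
  exact Subgroup.subset_closure ⟨a, b, ha, hb, rfl⟩

theorem f2_cases [Fintype F] (hq : Fintype.card F = 2) (a : F) : a = 0 ∨ a = 1 := by
  have h := FiniteField.pow_card a
  rw [hq] at h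
  have h' : a * (a - 1) = 0 := by linear_combination h
  rcases mul_eq_zero.1 h' with h1 | h1
  · exact Or.inl h1
  · exact Or.inr (sub_eq_zero.1 h1)

theorem f2_two [Fintype F] (hq : Fintype.card F = 2) : (2 : F) = 0 := by
  have h3 : ((Fintype.card F : ℕ) : F) = 0 := FiniteField.cast_card_eq_zero F
  rw [hq] at h3
  exact_mod_cast h3

theorem main_q2 [Fintype F] (hq : Fintype.card F = 2)
    (hQ : (QuadraticMap.polarBilin Q).Nondegenerate)
    (hn : 5 ≤ Fintype.card ι) (W : Submodule F (ι → F)) (hdim : finrank F W = 2)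
    (hW : Cfsg.Geo.IsNondegenerateOn (QuadraticMap.polar ⇑Q) W)
    (hplus : Cfsg.Geo.IsPlusTypeOn ⇑Q W) :
    ∃ K : Subgroup (GL ι F), Cfsg.Geo.subspaceStabilizer W ⊓ Cfsg.Geo.omegaGL ⇑Q < K ∧
      K < Cfsg.Geo.omegaGL ⇑Q := by
  have h2 := f2_two hq
  have hneg : ∀ x : ι → F, -x = x := by
    intro x
    have : x + x = 0 := by rw [← two_smul F x, h2, zero_smul]
    exact neg_eq_of_add_eq_zero_left this
  obtain ⟨e, f, heW, hfW, hQe, hQf, hef, hspan⟩ := exists_hyp_pair Q hdim hW hplus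
  have hfe : QuadraticMap.polar Q f e = 1 := by rw [QuadraticMap.polar_comm]; exact hef
  have hee : QuadraticMap.polar Q e e = 0 := by rw [polar_self', hQe, mul_zero]
  have hff : QuadraticMap.polar Q f f = 0 := by rw [polar_self', hQf, mul_zero]
  have hnd : Nondeg Q := (nondeg_iff Q).1 hQ
  have hPnd : NondegOn Q (perpPair Q e f) := perpPair_nondeg Q hnd hQe hQf hef
  have hPdim := finrank_perpPair Q hQe hQf hef
  rw [Module.finrank_pi] at hPdim
  have hP3 : 3 ≤ finrank F (perpPair Q e f) := by omega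
  have hPnd' : Nondeg (Q.comp (perpPair Q e f).subtype) :=
    (nondeg_comp_subtype_iff Q _).2 hPnd
  obtain ⟨w', hw'0, hw'⟩ := exists_singular (Q.comp (perpPair Q e f).subtype) hP3
  obtain ⟨b', hb'⟩ := exists_repr (Q.comp (perpPair Q e f).subtype) hPnd' (by omega) 1
  have hperp : ∀ z : perpPair Q e f, ∀ x ∈ W, QuadraticMap.polar Q x (z : ι → F) = 0 := by
    intro z x hx
    obtain ⟨s, t, rfl⟩ := hspan x hx
    have hz := (mem_perpPair Q e f z).1 z.2
    rw [QuadraticMap.polar_add_left, QuadraticMap.polar_smul_left, QuadraticMap.polar_smul_left,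
      hz.1, hz.2]
    simp
  obtain ⟨w, hwdef⟩ : ∃ w : ι → F, w = (w' : ι → F) := ⟨_, rfl⟩
  obtain ⟨b, hbdef⟩ : ∃ b : ι → F, b = (b' : ι → F) := ⟨_, rfl⟩
  have hw0 : w ≠ 0 := by
    intro h
    apply hw'0
    apply Subtype.ext
    rw [← hwdef]; exact h
  have hw : Q w = 0 := by rw [hwdef]; exact hw'
  have hb : Q b = 1 := by rw [hbdef]; exact hb'
  have hwW : ∀ x ∈ W, QuadraticMap.polar Q x w = 0 := by rw [hwdef]; exact hperp w'
  have hbW : ∀ x ∈ W, QuadraticMap.polar Q x b = 0 := by rw [hbdef]; exact hperp b'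
  have hb0 : b ≠ 0 := by
    rintro rfl
    rw [QuadraticMap.map_zero] at hb
    exact zero_ne_one hb
  obtain ⟨u, hu⟩ : ∃ u, u = e + f := ⟨_, rfl⟩
  have huW : u ∈ W := by rw [hu]; exact W.add_mem heW hfW
  have hQu : Q u = 1 := by
    rw [hu, QuadraticMap.map_add Q, hQe, hQf, hef]; ring
  have huu : QuadraticMap.polar Q u u = 0 := by rw [polar_self', h2, zero_mul]
  have hue : QuadraticMap.polar Q u e = 1 := by
    rw [hu, QuadraticMap.polar_add_left, hee, hfe, zero_add]
  have hnotW : ∀ v : ι → F, v ≠ 0 → (∀ x ∈ W, QuadraticMap.polar Q x v = 0) →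
      ∀ z ∈ W, z + v ∉ W := by
    intro v hv0 hvW z hz hmem
    have hvW' : v ∈ W := by simpa using W.sub_mem hmem hz
    obtain ⟨⟨x, hx, hxv⟩, _⟩ := hW v hvW' hv0
    exact hxv (hvW x hx)
  have hnorm1 : ∀ x ∈ W, Q x = 1 → x = u := by
    intro x hx hQx
    obtain ⟨s, t, rfl⟩ := hspan x hx
    have h1 : Q (s • e + t • f) = s * t := by
      rw [QuadraticMap.map_add Q, QuadraticMap.map_smul, QuadraticMap.map_smul, hQe, hQf,
        QuadraticMap.polar_smul_left, QuadraticMap.polar_smul_right, hef]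
      simp
    rw [h1] at hQx
    rcases f2_cases hq s with rfl | rfl
    · rw [zero_mul] at hQx; exact absurd hQx zero_ne_one
    · rcases f2_cases hq t with rfl | rfl
      · rw [mul_zero] at hQx; exact absurd hQx zero_ne_one
      · rw [hu, one_smul, one_smul]
  have hkey : ∀ g : GL ι F, g ∈ Cfsg.Geo.subspaceStabilizer W ⊓ Cfsg.Geo.omegaGL ⇑Q →
      (g : Matrix ι ι F).mulVec u = u := by
    intro g hg
    apply hnorm1
    · exact ((mem_stab_iff W g).1 hg.1 u).1 huW
    · rw [isom_of_mem_omegaGL Q hg.2, hQu]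
  have hcard : Fintype.card F ≠ 2 ∨ Fintype.card ι ≠ 4 := Or.inr (by omega)
  refine ⟨Cfsg.Geo.subspaceStabilizer (Submodule.span F {u}) ⊓ Cfsg.Geo.omegaGL ⇑Q, ?_, ?_⟩
  · rw [SetLike.lt_iff_le_and_exists]
    refine ⟨?_, ?_⟩
    · intro g hg
      exact ⟨mem_stab_span (Or.inl (hkey g hg)) (Or.inl (hkey g⁻¹ (inv_mem hg))), hg.2⟩
    · obtain ⟨a, ha⟩ : ∃ a, a = u + w := ⟨_, rfl⟩
      have huw : QuadraticMap.polar Q u w = 0 := hwW u huW
      have hQa : Q a = 1 := by
        rw [ha, QuadraticMap.map_add Q, hQu, hw, huw]; ring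
      have hau : QuadraticMap.polar Q a u = 0 := by
        rw [ha, QuadraticMap.polar_add_left, huu, QuadraticMap.polar_comm, huw, add_zero]
      have hbu : QuadraticMap.polar Q b u = 0 := by
        rw [QuadraticMap.polar_comm]; exact hbW u huW
      have hbe : QuadraticMap.polar Q b e = 0 := by
        rw [QuadraticMap.polar_comm]; exact hbW e heW
      have hmemΩ : ((rr Q a b : ↥(Cfsg.isometryGroup F ⇑Q)) : GL ι F) ∈ Cfsg.Geo.omegaGL ⇑Q := by
        apply rr_mem_omegaGL_even Q h2 hQ (by omega) hcard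
        · rw [hQa]; exact one_ne_zero
        · rw [hb]; exact one_ne_zero
      have hfix : (((rr Q a b : ↥(Cfsg.isometryGroup F ⇑Q)) : GL ι F) : Matrix ι ι F).mulVec u
          = u := by
        rw [rr_mulVec, refl_of_perp Q hbu, refl_of_perp Q hau]
      have hfix' : (((((rr Q a b : ↥(Cfsg.isometryGroup F ⇑Q)) : GL ι F))⁻¹ : GL ι F) :
          Matrix ι ι F).mulVec u = u := by
        conv_lhs => rw [← hfix]
        rw [inv_mulVec_mulVec]
      refine ⟨_, ⟨mem_stab_span (Or.inl hfix) (Or.inl hfix'), hmemΩ⟩, ?_⟩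
      intro hmem
      have h1 := ((mem_stab_iff W _).1 hmem.1 e).1 heW
      rw [rr_mulVec, refl_of_perp Q hbe, refl_apply] at h1
      have hr : QuadraticMap.polar Q a e / Q a = 1 := by
        rw [ha, QuadraticMap.polar_add_left, hue, QuadraticMap.polar_comm, hwW e heW, ← ha, hQa]
        simp
      rw [hr, one_smul] at h1
      have e1 : e - a = f + w := by
        rw [ha, hu, sub_eq_add_neg, hneg]
        have : e + (e + f + w) = (e + e) + (f + w) := by abel
        rw [this, ← two_smul F e, h2, zero_smul, zero_add]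
      rw [e1] at h1
      exact hnotW w hw0 hwW f hfW h1
  · rw [SetLike.lt_iff_le_and_exists]
    refine ⟨inf_le_right, ?_⟩
    obtain ⟨a, ha⟩ : ∃ a, a = e + b := ⟨_, rfl⟩
    have heb : QuadraticMap.polar Q e b = 0 := hbW e heW
    have hQa : Q a = 1 := by
      rw [ha, QuadraticMap.map_add Q, hQe, hb, heb]; ring
    have hbu : QuadraticMap.polar Q b u = 0 := by
      rw [QuadraticMap.polar_comm]; exact hbW u huW
    have hmemΩ : ((rr Q a b : ↥(Cfsg.isometryGroup F ⇑Q)) : GL ι F) ∈ Cfsg.Geo.omegaGL ⇑Q := by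
      apply rr_mem_omegaGL_even Q h2 hQ (by omega) hcard
      · rw [hQa]; exact one_ne_zero
      · rw [hb]; exact one_ne_zero
    refine ⟨_, hmemΩ, ?_⟩
    intro hmem
    have h1 := ((mem_stab_iff _ _).1 hmem.1 u).1 (Submodule.mem_span_singleton_self u)
    rw [rr_mulVec, refl_of_perp Q hbu, refl_apply] at h1
    have hr : QuadraticMap.polar Q a u / Q a = 1 := by
      rw [ha, QuadraticMap.polar_add_left, QuadraticMap.polar_comm Q e u, hue, hbu, ← ha, hQa]
      simp
    rw [hr, one_smul] at h1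
    have e1 : u - a = f + b := by
      rw [ha, hu, sub_eq_add_neg, hneg]
      have : e + f + (e + b) = (e + e) + (f + b) := by abel
      rw [this, ← two_smul F e, h2, zero_smul, zero_add]
    rw [e1] at h1
    have hle : Submodule.span F {u} ≤ W := by
      rw [Submodule.span_le]
      intro z hz
      rw [Set.mem_singleton_iff] at hz
      rw [hz]; exact huW
    exact hnotW b hb0 hbW f hfW (hle h1)

end Cfsg.Agent.Lead.OrthPlane
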