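import Mathlib

set_option autoImplicit false

namespace Cfsg.Agent.Lead.PJ

open MulAction SubMulAction

variable {G α : Type*} [Group G] [MulAction G α]

/-- If `G` is `m`-transitive and the pointwise stabiliser of an `m`-set is `k`-transitive on the
complement, then `G` is `(m+k)`-transitive. -/
theorem isMultiplyPretransitive_add_of_fixingSubgroup {m k : ℕ} (s : Set α) [Finite s]
    (hs : s.ncard = m) (hm : IsMultiplyPretransitive G α m)
    (hk : IsMultiplyPretransitive (fixingSubgroup G s) (ofFixingSubgroup G s) k) :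
    IsMultiplyPretransitive G α (m + k) := by
  obtain ⟨e⟩ : Nonempty (Fin m ≃ s) := Finite.card_eq.mp (by simp [_root_.Nat.card_coe_set_eq, hs])
  let e' : Fin m ↪ α := e.toEmbedding.trans (Function.Embedding.subtype _)
  have he' : ∀ i, e' i ∈ s := fun i => (e i).2
  have key : ∀ x : Fin (m + k) ↪ α, ∃ (g : G) (z : Fin k ↪ ofFixingSubgroup G s),
      (∀ i : Fin m, g • x (Fin.castAdd k i) = e' i) ∧
        ∀ j : Fin k, g • x (Fin.natAdd m j) = (z j : α) := by
    intro x
    let x₁ : Fin m ↪ α := (Fin.castAddEmb k).trans x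
    obtain ⟨g, hg⟩ := hm.exists_smul_eq x₁ e'
    have hg' : ∀ i : Fin m, g • x (Fin.castAdd k i) = e' i := by
      intro i
      rw [← hg]; rfl
    have hz : ∀ j : Fin k, g • x (Fin.natAdd m j) ∈ ofFixingSubgroup G s := by
      intro j
      rw [mem_ofFixingSubgroup_iff]
      intro hmem
      have hi : e' (e.symm ⟨_, hmem⟩) = g • x (Fin.natAdd m j) := by simp [e']
      rw [← hg'] at hi
      have h1 := x.injective (MulAction.injective g hi)
      have h2 := congrArg Fin.val h1
      simp at h2
      omega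
    refine ⟨g, ⟨fun j => ⟨g • x (Fin.natAdd m j), hz j⟩, ?_⟩, hg', fun j => rfl⟩
    intro j₁ j₂ h
    have h1 : g • x (Fin.natAdd m j₁) = g • x (Fin.natAdd m j₂) := congrArg Subtype.val h
    have h2 := x.injective (MulAction.injective g h1)
    have h3 := congrArg Fin.val h2
    simp at h3
    exact Fin.ext h3
  refine ⟨fun x y => ?_⟩
  obtain ⟨g₁, z₁, h₁a, h₁b⟩ := key x
  obtain ⟨g₂, z₂, h₂a, h₂b⟩ := key y
  obtain ⟨h, hh⟩ := hk.exists_smul_eq z₁ z₂
  refine ⟨g₂⁻¹ * (h : G) * g₁, ?_⟩
  ext i
  show (g₂⁻¹ * (h : G) * g₁) • x i = y i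
  rw [mul_smul, mul_smul, inv_smul_eq_iff]
  induction i using Fin.addCases with
  | left i =>
    rw [h₁a, h₂a]
    exact (mem_fixingSubgroup_iff G).mp h.2 _ (he' i)
  | right j =>
    rw [h₁b, h₂b, ← hh]
    rfl


/-- Jordan: a primitive group whose pointwise stabiliser of an `m`-set is 2-transitive on the
complement is `(m+2)`-transitive. -/
theorem jordan_two {α : Type*} [Fintype α] (G : Subgroup (Equiv.Perm α))
    (hG : MulAction.IsPreprimitive G α) (s : Set α) {m : ℕ} (hsm : s.ncard = m)
    (hm : m + 2 ≤ Fintype.card α)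
    (h2 : MulAction.IsMultiplyPretransitive (fixingSubgroup G s)
      (SubMulAction.ofFixingSubgroup G s) 2) :
    MulAction.IsMultiplyPretransitive G α (m + 2) := by
  have hmt : IsMultiplyPretransitive G α m := by
    rcases Nat.eq_zero_or_pos m with rfl | hpos
    · exact MulAction.is_zero_pretransitive
    · obtain ⟨n, rfl⟩ := Nat.exists_eq_add_of_le' hpos
      have hprim := isPreprimitive_of_is_two_pretransitive h2
      have h3 : IsMultiplyPreprimitive G α (n + 2) :=
        hG.isMultiplyPreprimitive hsm (by rw [Nat.card_eq_fintype_card]; omega) hprim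
      have h4 : IsMultiplyPretransitive G α (n + 2) := inferInstance
      exact isMultiplyPretransitive_of_le (n := n + 2) (by omega)
        (by rw [Nat.card_eq_fintype_card]; omega)
  exact isMultiplyPretransitive_add_of_fixingSubgroup s hsm hmt h2

end Cfsg.Agent.Lead.PJ
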