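import Mathlib
import Cfsg.Agent.Lead.PermJordan
import Cfsg.Agent.Lead.SylowLemmas

set_option autoImplicit false

namespace Cfsg.Agent.Lead.PJ

open Equiv Equiv.Perm MulAction SubMulAction

variable {α : Type*} [Fintype α] [DecidableEq α]

/-- A primitive group containing a `p`-cycle is `(n-p)`-transitive. -/
theorem multiply_transitive_of_prime_cycle (G : Subgroup (Perm α)) (hG : IsPreprimitive G α)
    {p : ℕ} (hp : p.Prime) (hpn : p + 3 ≤ Fintype.card α) {g : Perm α} (hgc : g.IsCycle)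
    (hgp : g.support.card = p) (hg : g ∈ G) :
    IsMultiplyPretransitive G α (Fintype.card α - p) := by
  obtain ⟨m, hm⟩ : ∃ m, Fintype.card α = p + (m + 1) := ⟨Fintype.card α - p - 1, by omega⟩
  have hsc : Set.ncard ((g.support : Set α)ᶜ) = m + 1 := by
    apply Nat.add_left_cancel (n := (g.support : Set α).ncard)
    rw [Set.ncard_add_ncard_compl, Set.ncard_coe_finset, hgp, Nat.card_eq_fintype_card, hm]
  have hprim : IsPreprimitive (fixingSubgroup G (g.support : Set α)ᶜ)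
      (ofFixingSubgroup G (g.support : Set α)ᶜ) := by
    classical
    have := isPretransitive_of_isCycle_mem hgc hg
    apply IsPreprimitive.of_prime_card
    convert hp
    rw [Nat.card_eq_fintype_card, Fintype.card_subtype, ← hgp]
    apply congr_arg
    ext x
    simp [SubMulAction.mem_ofFixingSubgroup_iff]
  have h1 : IsMultiplyPreprimitive G α (m + 2) :=
    hG.isMultiplyPreprimitive hsc
      (by rw [Nat.card_eq_fintype_card, hm]; have := hp.two_le; omega) hprim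
  have h2 : IsMultiplyPretransitive G α (m + 2) := inferInstance
  have : Fintype.card α - p = m + 1 := by omega
  rw [this]
  exact isMultiplyPretransitive_of_le (n := m + 2) (by omega)
    (by rw [Nat.card_eq_fintype_card]; have := hp.two_le; omega)

/-- In a `d`-transitive group any permutation can be realised on a given `d`-set. -/
theorem exists_mem_eqOn (G : Subgroup (Perm α)) {d : ℕ} (hd : IsMultiplyPretransitive G α d)
    (Δ : Finset α) (hΔ : Δ.card = d) (σ : Perm α) : ∃ x ∈ G, ∀ δ ∈ Δ, x δ = σ δ := by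
  let e : Fin d ↪ α :=
    (Finset.equivFinOfCardEq hΔ).symm.toEmbedding.trans (Function.Embedding.subtype _)
  obtain ⟨x, hx⟩ := hd.exists_smul_eq e (e.trans σ.toEmbedding)
  refine ⟨x, x.2, fun δ hδ => ?_⟩
  have h1 := DFunLike.congr_fun hx (Finset.equivFinOfCardEq hΔ ⟨δ, hδ⟩)
  have h2 : e (Finset.equivFinOfCardEq hΔ ⟨δ, hδ⟩) = δ := by simp [e]
  have h3 : (x • e) (Finset.equivFinOfCardEq hΔ ⟨δ, hδ⟩) =
      (x : Perm α) (e (Finset.equivFinOfCardEq hΔ ⟨δ, hδ⟩)) := rfl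
  rw [h3, h2] at h1
  rw [h1]
  show σ (e _) = σ δ
  rw [h2]


theorem card_fixingSubgroup_perm (s : Set α) :
    Nat.card (fixingSubgroup (Perm α) s) = (Fintype.card α - s.ncard).factorial := by
  have h1 := (Equiv.Perm.isMultiplyPretransitive α s.ncard).index_of_fixingSubgroup_mul
    (s := s) rfl
  have h2 := (fixingSubgroup (Perm α) s).index_mul_card
  rw [Nat.card_perm] at h2
  rw [← h2, Nat.card_eq_fintype_card] at h1
  have hpos : 0 < (fixingSubgroup (Perm α) s).index := Nat.pos_of_ne_zero Subgroup.index_ne_zero_of_finite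
  exact (Nat.eq_of_mul_eq_mul_left hpos h1).symm

theorem not_sq_dvd_factorial {p : ℕ} (hp : p.Prime) : ¬ p ^ 2 ∣ p.factorial := by
  intro h
  obtain ⟨q, hq⟩ : ∃ q, p = q + 1 := ⟨p - 1, by have := hp.two_le; omega⟩
  rw [hq, Nat.factorial_succ, pow_two] at h
  have h2 : (q + 1) ∣ q.factorial := Nat.dvd_of_mul_dvd_mul_left (Nat.succ_pos q) h
  rw [← hq] at h2
  have := (hp.dvd_factorial).mp h2
  omega

/-- Elements of `N_G(⟨g⟩)` realise every permutation of the fixed points of the `p`-cycle `g`. -/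
theorem exists_normalizing (G : Subgroup (Perm α)) {p : ℕ} (hp : p.Prime) {g : Perm α}
    (hgc : g.IsCycle) (hgp : g.support.card = p) (hg : g ∈ G)
    (hd : IsMultiplyPretransitive G α (Fintype.card α - p)) (σ : Perm α)
    (hσ : ∀ δ, δ ∉ g.support → σ δ ∉ g.support) :
    ∃ x ∈ G, (∀ δ, δ ∉ g.support → x δ = σ δ) ∧ x * g * x⁻¹ ∈ Subgroup.zpowers g := by
  haveI : Fact p.Prime := ⟨hp⟩
  have hΔ : (g.supportᶜ).card = Fintype.card α - p := by rw [Finset.card_compl, hgp]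
  obtain ⟨x₀, hx₀G, hx₀⟩ := exists_mem_eqOn G hd (g.supportᶜ) hΔ σ
  have hx₀' : ∀ δ, δ ∉ g.support → x₀ δ = σ δ := fun δ hδ => hx₀ δ (Finset.mem_compl.mpr hδ)
  -- x₀ maps Δ onto Δ
  have hmap : (g.supportᶜ).map x₀.toEmbedding = g.supportᶜ := by
    apply Finset.eq_of_subset_of_card_le
    · intro y hy
      obtain ⟨δ, hδ, rfl⟩ := Finset.mem_map.mp hy
      rw [Finset.mem_compl] at hδ ⊢
      show x₀ δ ∉ g.support
      rw [hx₀' δ hδ]; exact hσ δ hδ
    · rw [Finset.card_map]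
  have hinv : ∀ δ, δ ∉ g.support → x₀⁻¹ δ ∉ g.support := by
    intro δ hδ
    have : δ ∈ (g.supportᶜ).map x₀.toEmbedding := by rw [hmap]; exact Finset.mem_compl.mpr hδ
    obtain ⟨δ', hδ', hδδ⟩ := Finset.mem_map.mp this
    have : x₀⁻¹ δ = δ' := by
      rw [← hδδ]; simp
    rw [this]; exact Finset.mem_compl.mp hδ'
  -- h = x₀ g x₀⁻¹ fixes Δ pointwise
  have hfix : ∀ δ, δ ∉ g.support → (x₀ * g * x₀⁻¹) δ = δ := by
    intro δ hδ
    have h1 := Perm.notMem_support.mp (hinv δ hδ)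
    have h2 : x₀ (x₀⁻¹ δ) = δ := by
      have : (x₀ * x₀⁻¹) δ = δ := by rw [mul_inv_cancel]; rfl
      exact this
    rw [Perm.mul_apply, Perm.mul_apply, h1, h2]
  obtain ⟨K, hK⟩ : ∃ K : Subgroup (Perm α),
      K = G ⊓ fixingSubgroup (Perm α) ((g.support : Set α)ᶜ) := ⟨_, rfl⟩
  have hmemK : ∀ y : Perm α, y ∈ K ↔ y ∈ G ∧ ∀ δ, δ ∉ g.support → y δ = δ := by
    intro y
    rw [hK, Subgroup.mem_inf, mem_fixingSubgroup_iff]
    constructor
    · rintro ⟨h1, h2⟩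
      exact ⟨h1, fun δ hδ => h2 δ (by simpa using hδ)⟩
    · rintro ⟨h1, h2⟩
      exact ⟨h1, fun δ hδ => h2 δ (by simpa using hδ)⟩
  have hgK : g ∈ K := (hmemK g).mpr ⟨hg, fun δ hδ => Perm.notMem_support.mp hδ⟩
  have hhK : x₀ * g * x₀⁻¹ ∈ K :=
    (hmemK _).mpr ⟨G.mul_mem (G.mul_mem hx₀G hg) (G.inv_mem hx₀G), hfix⟩
  have hcg : Nat.card (Subgroup.zpowers g) = p := by
    rw [Nat.card_zpowers, hgc.orderOf, hgp]
  have hch : Nat.card (Subgroup.zpowers (x₀ * g * x₀⁻¹)) = p := by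
    rw [Nat.card_zpowers, (hgc.conj).orderOf, Perm.card_support_conj, hgp]
  -- the p-part of |K| is p
  have hKdvd : Nat.card K ∣ p.factorial := by
    have h1 : Nat.card K ∣ Nat.card (fixingSubgroup (Perm α) ((g.support : Set α)ᶜ)) :=
      Subgroup.card_dvd_of_le (hK ▸ inf_le_right)
    rw [card_fixingSubgroup_perm] at h1
    have h2 : ((g.support : Set α)ᶜ).ncard = Fintype.card α - p := by
      rw [← Finset.coe_compl, Set.ncard_coe_finset, hΔ]
    have h3 : p ≤ Fintype.card α := by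
      rw [← hgp]; exact Finset.card_le_univ _
    rw [h2, Nat.sub_sub_self h3] at h1
    exact h1
  have hfac : (Nat.card K).factorization p = 1 := by
    have h1 : p ∣ Nat.card K := hcg ▸ Subgroup.card_dvd_of_le ((Subgroup.zpowers_le).mpr hgK)
    have h2 : ¬ p ^ 2 ∣ Nat.card K := fun h => not_sq_dvd_factorial hp (h.trans hKdvd)
    have h3 := (Nat.Prime.pow_dvd_iff_le_factorization hp (Nat.card_pos (α := K)).ne' (k := 1))
    have h4 := (Nat.Prime.pow_dvd_iff_le_factorization hp (Nat.card_pos (α := K)).ne' (k := 2))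
    rw [pow_one] at h3
    have h5 := h3.mp h1
    have h6 : ¬ 2 ≤ (Nat.card K).factorization p := fun h => h2 (h4.mpr h)
    omega
  obtain ⟨m, hmK, hm⟩ := exists_conj_le_of_card_eq_ppart (p := p)
    ((Subgroup.zpowers_le).mpr hgK) (by rw [hcg, hfac, pow_one])
    ((Subgroup.zpowers_le).mpr hhK) (IsPGroup.of_card (n := 1) (by rw [hch, pow_one]))
  obtain ⟨hmG, hmfix⟩ := (hmemK m).mp hmK
  refine ⟨m * x₀, G.mul_mem hmG hx₀G, ?_, ?_⟩
  · intro δ hδ
    rw [Perm.mul_apply, hx₀' δ hδ]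
    exact hmfix _ (hσ δ hδ)
  · have h1 : m * (x₀ * g * x₀⁻¹) * m⁻¹ ∈ Subgroup.zpowers g :=
      hm ⟨x₀ * g * x₀⁻¹, Subgroup.mem_zpowers _, rfl⟩
    have e : m * x₀ * g * (m * x₀)⁻¹ = m * (x₀ * g * x₀⁻¹) * m⁻¹ := by group
    rw [e]; exact h1


/-- **Jordan's theorem**: a primitive group of degree `n` containing a `p`-cycle, `p` prime,
`p ≤ n - 3`, contains the alternating group. -/
theorem jordan_prime_cycle (G : Subgroup (Perm α)) (hG : IsPreprimitive G α) {p : ℕ}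
    (hp : p.Prime) (hpn : p + 3 ≤ Fintype.card α) {g : Perm α} (hgc : g.IsCycle)
    (hgp : g.support.card = p) (hg : g ∈ G) : alternatingGroup α ≤ G := by
  have hd := multiply_transitive_of_prime_cycle G hG hp hpn hgc hgp hg
  have hΔ : 2 < (g.supportᶜ).card := by rw [Finset.card_compl, hgp]; omega
  obtain ⟨δ₁, δ₂, δ₃, h1, h2, h3, h12, h13, h23⟩ := Finset.two_lt_card_iff.mp hΔ
  rw [Finset.mem_compl] at h1 h2 h3
  have hσ : ∀ a b, a ∉ g.support → b ∉ g.support → ∀ δ, δ ∉ g.support →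
      swap a b δ ∉ g.support := by
    intro a b ha hb δ hδ
    rcases eq_or_ne δ a with rfl | hda
    · rw [swap_apply_left]; exact hb
    · rcases eq_or_ne δ b with rfl | hdb
      · rw [swap_apply_right]; exact ha
      · rw [swap_apply_of_ne_of_ne hda hdb]; exact hδ
  obtain ⟨x₁, hx₁G, hx₁, hx₁g⟩ :=
    exists_normalizing G hp hgc hgp hg hd (swap δ₁ δ₂) (hσ _ _ h1 h2)
  obtain ⟨x₂, hx₂G, hx₂, hx₂g⟩ :=
    exists_normalizing G hp hgc hgp hg hd (swap δ₁ δ₃) (hσ _ _ h1 h3)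
  -- inverses act as the swaps too
  have hinv : ∀ (x σ : Perm α), (∀ δ, δ ∉ g.support → x δ = σ δ) →
      (∀ δ, δ ∉ g.support → σ δ ∉ g.support) → σ * σ = 1 →
      ∀ y, y ∉ g.support → x⁻¹ y = σ y := by
    intro x σ hx hσs hσ2 y hy
    have e1 : x (σ y) = y := by
      rw [hx _ (hσs y hy)]
      have : (σ * σ) y = y := by rw [hσ2]; rfl
      exact this
    have e2 : x⁻¹ (x (σ y)) = σ y := by
      have : (x⁻¹ * x) (σ y) = σ y := by rw [inv_mul_cancel]; rfl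
      exact this
    rw [e1] at e2
    exact e2
  have hx₁i := hinv x₁ _ hx₁ (hσ _ _ h1 h2) (swap_mul_self _ _)
  have hx₂i := hinv x₂ _ hx₂ (hσ _ _ h1 h3) (swap_mul_self _ _)
  obtain ⟨c, hcdef⟩ : ∃ c, c = x₁⁻¹ * x₂⁻¹ * x₁ * x₂ := ⟨_, rfl⟩
  obtain ⟨τ, hτdef⟩ : ∃ τ, τ = swap δ₁ δ₂ * swap δ₁ δ₃ * (swap δ₁ δ₂ * swap δ₁ δ₃) := ⟨_, rfl⟩
  have hcG : c ∈ G := by
    rw [hcdef]
    exact G.mul_mem (G.mul_mem (G.mul_mem (G.inv_mem hx₁G) (G.inv_mem hx₂G)) hx₁G) hx₂G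
  have hcg : Commute c g := by
    obtain ⟨a, ha⟩ := Subgroup.mem_zpowers_iff.mp hx₁g
    obtain ⟨b, hb⟩ := Subgroup.mem_zpowers_iff.mp hx₂g
    have e1 : x₁ * x₂ * g * (x₁ * x₂)⁻¹ = g ^ (a * b) := by
      calc x₁ * x₂ * g * (x₁ * x₂)⁻¹ = x₁ * (x₂ * g * x₂⁻¹) * x₁⁻¹ := by group
        _ = x₁ * g ^ b * x₁⁻¹ := by rw [hb]
        _ = (x₁ * g * x₁⁻¹) ^ b := by rw [conj_zpow]
        _ = (g ^ a) ^ b := by rw [ha]
        _ = g ^ (a * b) := by rw [zpow_mul]
    have e2 : x₂ * x₁ * g * (x₂ * x₁)⁻¹ = g ^ (a * b) := by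
      calc x₂ * x₁ * g * (x₂ * x₁)⁻¹ = x₂ * (x₁ * g * x₁⁻¹) * x₂⁻¹ := by group
        _ = x₂ * g ^ a * x₂⁻¹ := by rw [ha]
        _ = (x₂ * g * x₂⁻¹) ^ a := by rw [conj_zpow]
        _ = (g ^ b) ^ a := by rw [hb]
        _ = g ^ (a * b) := by rw [← zpow_mul, mul_comm]
    have e3 : c * g * c⁻¹ = g := by
      calc c * g * c⁻¹ = (x₂ * x₁)⁻¹ * (x₁ * x₂ * g * (x₁ * x₂)⁻¹) * (x₂ * x₁) := by
            rw [hcdef]; group
        _ = (x₂ * x₁)⁻¹ * (x₂ * x₁ * g * (x₂ * x₁)⁻¹) * (x₂ * x₁) := by rw [e1, e2]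
        _ = g := by group
    show c * g = g * c
    calc c * g = c * g * c⁻¹ * c := by group
      _ = g * c := by rw [e3]
  -- action of c off the support
  have hcτ : ∀ δ, δ ∉ g.support → c δ = τ δ := by
    intro δ hδ
    have s1 := hσ _ _ h1 h3 δ hδ
    have s2 := hσ _ _ h1 h2 _ s1
    have s3 := hσ _ _ h1 h3 _ s2
    rw [hcdef, hτdef]
    simp only [Perm.mul_apply]
    rw [hx₂ δ hδ, hx₁ _ s1, hx₂i _ s2, hx₁i _ s3]
  have hτsupp : ∀ x, x ∈ g.support → τ x = x := by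
    intro x hx
    have n1 : x ≠ δ₁ := fun h => h1 (h ▸ hx)
    have n2 : x ≠ δ₂ := fun h => h2 (h ▸ hx)
    have n3 : x ≠ δ₃ := fun h => h3 (h ▸ hx)
    rw [hτdef]
    simp only [Perm.mul_apply]
    rw [swap_apply_of_ne_of_ne n1 n3, swap_apply_of_ne_of_ne n1 n2,
      swap_apply_of_ne_of_ne n1 n3, swap_apply_of_ne_of_ne n1 n2]
  have hτoff : ∀ δ, δ ∉ g.support → τ δ ∉ g.support := by
    intro δ hδ
    rw [hτdef]
    simp only [Perm.mul_apply]
    exact hσ _ _ h1 h2 _ (hσ _ _ h1 h3 _ (hσ _ _ h1 h2 _ (hσ _ _ h1 h3 δ hδ)))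
  have hτ3 : IsThreeCycle τ := by
    rw [hτdef]
    exact (isThreeCycle_swap_mul_swap_same h12 h13 h23).isThreeCycle_sq
  obtain ⟨hc', hmem⟩ := hgc.commute_iff.mp hcg
  obtain ⟨i, hi⟩ := Subgroup.mem_zpowers_iff.mp hmem
  have hceq : c = g ^ i * τ := by
    ext x
    rw [Perm.mul_apply, hi]
    by_cases hx : x ∈ g.support
    · rw [hτsupp x hx, ofSubtype_subtypePerm_of_mem hc' hx]
    · rw [ofSubtype_apply_of_not_mem _ (hτoff x hx), hcτ x hx]
  have hτG : τ ∈ G := by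
    have : τ = (g ^ i)⁻¹ * c := by rw [hceq]; group
    rw [this]
    exact G.mul_mem (G.inv_mem (G.zpow_mem hg i)) hcG
  exact alternatingGroup_le_of_isPreprimitive_of_isThreeCycle_mem hG hτ3 hτG

end Cfsg.Agent.Lead.PJ
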