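import Mathlib
import Cfsg.Agent.Lead.FusionInner
import Cfsg.Agent.Lead.FusionSat3

set_option autoImplicit false

/-!
# An abstract configuration giving a generalized quaternion `2`-subgroup `C₂⟨w⟩`

`e` is a central involution, `j * j = e = w * w`, the centralizer `C` of `j` is abelian and is
inverted by `w`, and a few further axioms hold (modelled on `SL_2(F)`, `|F|` odd).
`Q` is the subgroup `C₂ ∪ C₂ w` where `C₂` is the set of `2`-elements of `C`.
-/

namespace Cfsg.Agent.Lead.QC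

variable {L : Type*} [Group L]

/-- the abstract configuration -/
structure Cfg (j w e : L) : Prop where
  e_sq : e * e = 1
  e_ne : e ≠ 1
  e_cen : ∀ x : L, Commute e x
  j_sq : j * j = e
  w_sq : w * w = e
  comm : ∀ x y : L, Commute x j → Commute y j → Commute x y
  w_conj : ∀ x : L, Commute x j → w * x * w⁻¹ = x⁻¹
  h3 : ∀ y g : L, Commute y j → y ≠ 1 → y ≠ e → Commute g y → Commute g j
  h4 : ∀ x : L, Commute x j → x * x = e → x = j ∨ x = j⁻¹
  h5 : ∀ x : L, Commute x j → x * x = 1 → x = 1 ∨ x = e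
  conj : ∀ x : L, Commute x j → ∃ g : L, g * j * g⁻¹ = x * w

/-- `x` is a `2`-element of the centralizer of `j` -/
def IsC2 (j x : L) : Prop := Commute x j ∧ ∃ k : ℕ, x ^ 2 ^ k = 1

variable {j w e : L}

namespace Cfg

theorem e_inv (c : Cfg j w e) : e⁻¹ = e := inv_eq_of_mul_eq_one_right c.e_sq

theorem w_inv (c : Cfg j w e) : w⁻¹ = w * e := by
  apply inv_eq_of_mul_eq_one_right
  rw [← mul_assoc, c.w_sq, c.e_sq]

theorem j_inv (c : Cfg j w e) : j⁻¹ = j * e := by
  apply inv_eq_of_mul_eq_one_right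
  rw [← mul_assoc, c.j_sq, c.e_sq]

theorem w_j (c : Cfg j w e) : w * j * w⁻¹ = j⁻¹ := c.w_conj j (Commute.refl j)

theorem e_comm_j (c : Cfg j w e) : Commute e j := c.e_cen j

theorem j_ne_one (c : Cfg j w e) : j ≠ 1 := by
  intro h
  apply c.e_ne
  rw [← c.j_sq, h, one_mul]

theorem j_ne_e (c : Cfg j w e) : j ≠ e := by
  intro h
  apply c.e_ne
  have h1 := c.j_sq
  rw [h, c.e_sq] at h1
  exact h1.symm

/-- the other conjugation by `w` -/
theorem w_conj' (c : Cfg j w e) {x : L} (hx : Commute x j) : w⁻¹ * x * w = x⁻¹ := by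
  have h1 := c.w_conj x⁻¹ hx.inv_left
  rw [inv_inv] at h1
  calc w⁻¹ * x * w = w⁻¹ * (w * x⁻¹ * w⁻¹) * w := by rw [h1]
    _ = x⁻¹ := by group

theorem not_comm_w_j (c : Cfg j w e) : ¬ Commute w j := by
  intro h
  have h1 : w * j * w⁻¹ = j := by
    rw [h.eq]; group
  rw [c.w_j] at h1
  apply c.e_ne
  rw [← c.j_sq]
  calc j * j = j * j⁻¹ := by rw [h1]
    _ = 1 := mul_inv_cancel j

theorem j_isC2 (c : Cfg j w e) : IsC2 j j := by
  refine ⟨Commute.refl j, 2, ?_⟩
  have : j ^ 2 ^ 2 = (j * j) * (j * j) := by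
    show j ^ 4 = _
    rw [pow_succ, pow_succ, pow_succ, pow_one]
    group
  rw [this, c.j_sq, c.e_sq]

theorem e_isC2 (c : Cfg j w e) : IsC2 j e := by
  refine ⟨c.e_comm_j, 1, ?_⟩
  rw [pow_one, pow_two, c.e_sq]

/-- the `2`-elements of the centralizer of `j` -/
def C2 (c : Cfg j w e) : Subgroup L where
  carrier := {x | IsC2 j x}
  one_mem' := ⟨Commute.one_left j, 0, by simp⟩
  mul_mem' := by
    rintro x y ⟨hx, k, hk⟩ ⟨hy, l, hl⟩
    refine ⟨hx.mul_left hy, k + l, ?_⟩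
    rw [(c.comm x y hx hy).mul_pow, pow_add, pow_mul, hk, one_pow, one_mul, mul_comm (2 ^ k),
      pow_mul, hl, one_pow]
  inv_mem' := by
    rintro x ⟨hx, k, hk⟩
    refine ⟨hx.inv_left, k, ?_⟩
    rw [inv_pow, hk, inv_one]

theorem mem_C2 (c : Cfg j w e) {x : L} : x ∈ c.C2 ↔ IsC2 j x := Iff.rfl

theorem e_mem_C2 (c : Cfg j w e) : e ∈ c.C2 := c.e_isC2

theorem j_mem_C2 (c : Cfg j w e) : j ∈ c.C2 := c.j_isC2

/-- the subgroup `C₂ ∪ C₂ w` -/
def Q (c : Cfg j w e) : Subgroup L where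
  carrier := {x | x ∈ c.C2 ∨ x * w ∈ c.C2}
  one_mem' := Or.inl c.C2.one_mem
  mul_mem' := by
    rintro x y (hx | hx) (hy | hy)
    · exact Or.inl (c.C2.mul_mem hx hy)
    · right
      have : x * y * w = x * (y * w) := by group
      rw [this]
      exact c.C2.mul_mem hx hy
    · right
      have h1 : w⁻¹ * y * w = y⁻¹ := c.w_conj' hy.1
      have : x * y * w = (x * w) * y⁻¹ := by
        rw [← h1]; group
      rw [this]
      exact c.C2.mul_mem hx (c.C2.inv_mem hy)
    · left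
      have h1 : w⁻¹ * (y * w) * w = (y * w)⁻¹ := c.w_conj' hy.1
      have : x * y = (x * w) * (y * w)⁻¹ * e := by
        have h2 : x * y = (x * w) * (w⁻¹ * (y * w) * w) * (w * w)⁻¹ := by group
        rw [h2, h1, c.w_sq, c.e_inv]
      rw [this]
      exact c.C2.mul_mem (c.C2.mul_mem hx (c.C2.inv_mem hy)) c.e_mem_C2
  inv_mem' := by
    rintro x (hx | hx)
    · exact Or.inl (c.C2.inv_mem hx)
    · right
      have h1 : w * (x * w)⁻¹ * w⁻¹ = (x * w)⁻¹⁻¹ := c.w_conj _ hx.1.inv_left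
      rw [inv_inv] at h1
      have : x⁻¹ * w = (x * w) * e := by
        rw [← h1, ← c.w_sq]; group
      rw [this]
      exact c.C2.mul_mem hx c.e_mem_C2

theorem mem_Q (c : Cfg j w e) {x : L} : x ∈ c.Q ↔ x ∈ c.C2 ∨ x * w ∈ c.C2 := Iff.rfl

theorem C2_le_Q (c : Cfg j w e) : c.C2 ≤ c.Q := fun _ hx => Or.inl hx

theorem e_mem_Q (c : Cfg j w e) : e ∈ c.Q := c.C2_le_Q c.e_mem_C2

theorem j_mem_Q (c : Cfg j w e) : j ∈ c.Q := c.C2_le_Q c.j_mem_C2

theorem w_mem_Q (c : Cfg j w e) : w ∈ c.Q := by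
  right
  rw [c.w_sq]
  exact c.e_mem_C2

/-- `y w` lies in `Q` for `y ∈ C₂` -/
theorem mul_w_mem_Q (c : Cfg j w e) {y : L} (hy : y ∈ c.C2) : y * w ∈ c.Q :=
  c.Q.mul_mem (c.C2_le_Q hy) c.w_mem_Q

/-- elements of `C₂ w` have square `e` -/
theorem sq_of_mul_w (c : Cfg j w e) {x : L} (hx : Commute (x * w) j) : x * x = e := by
  have h1 : w⁻¹ * (x * w) * w = (x * w)⁻¹ := c.w_conj' hx
  have h2 : x * x = (x * w) * (w⁻¹ * (x * w) * w) * (w * w)⁻¹ := by group
  rw [h2, h1, mul_inv_cancel, one_mul, c.w_sq, c.e_inv]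

theorem isPGroup_Q (c : Cfg j w e) : IsPGroup 2 c.Q := by
  rintro ⟨x, hx⟩
  rcases hx with hx | hx
  · obtain ⟨-, k, hk⟩ := hx
    exact ⟨k, Subtype.ext hk⟩
  · refine ⟨2, Subtype.ext ?_⟩
    show x ^ 2 ^ 2 = 1
    have : x ^ 2 ^ 2 = (x * x) * (x * x) := by
      show x ^ 4 = _
      rw [pow_succ, pow_succ, pow_succ, pow_one]
      group
    rw [this, c.sq_of_mul_w hx.1, c.e_sq]

/-- the center of `Q` -/
theorem center_Q (c : Cfg j w e) {x : L} (h1 : Commute x j) (h2 : Commute x w) :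
    x = 1 ∨ x = e := by
  apply c.h5 x h1
  have h3 : w * x * w⁻¹ = x⁻¹ := c.w_conj x h1
  have h4 : w * x * w⁻¹ = x := by
    rw [← h2.eq]; group
  rw [h4] at h3
  calc x * x = x * x⁻¹ := by rw [← h3]
    _ = 1 := mul_inv_cancel x

/-- an element of `C` normalizing `Q` lies in `C₂` -/
theorem normalizer_C (c : Cfg j w e) {g : L} (hg : Commute g j)
    (hN : g ∈ Subgroup.normalizer (c.Q : Set L)) : g ∈ c.C2 := by
  have hmem : g * w * g⁻¹ ∈ c.Q := (Subgroup.mem_normalizer_iff.mp hN w).mp c.w_mem_Q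
  have h1 : w * g⁻¹ * w⁻¹ = g⁻¹⁻¹ := c.w_conj _ hg.inv_left
  rw [inv_inv] at h1
  have h2 : g * w * g⁻¹ = g * g * w := by
    calc g * w * g⁻¹ = g * (w * g⁻¹ * w⁻¹) * w := by group
      _ = g * g * w := by rw [h1]
  rw [h2] at hmem
  have hgg : Commute (g * g) j := hg.mul_left hg
  rcases hmem with h3 | h3
  · exfalso
    apply c.not_comm_w_j
    have h4 : Commute ((g * g)⁻¹ * (g * g * w)) j := hgg.inv_left.mul_left h3.1
    rwa [inv_mul_cancel_left] at h4
  · have h4 : g * g * w * w = g * g * e := by rw [mul_assoc, c.w_sq]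
    rw [h4] at h3
    have h5 : g * g ∈ c.C2 := by
      have := c.C2.mul_mem h3 c.e_mem_C2
      rwa [mul_assoc, c.e_sq, mul_one] at this
    obtain ⟨-, k, hk⟩ := h5
    refine ⟨hg, k + 1, ?_⟩
    rw [pow_succ, mul_comm, pow_mul, pow_two, hk]

/-- an element normalizing `Q` and conjugating `j` to `j` or `j⁻¹` lies in `Q` -/
theorem normalizer_of_conj (c : Cfg j w e) {g : L} (hN : g ∈ Subgroup.normalizer (c.Q : Set L))
    (h : g * j * g⁻¹ = j ∨ g * j * g⁻¹ = j⁻¹) : g ∈ c.Q := by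
  rcases h with h1 | h1
  · have hgj : Commute g j := by
      show g * j = j * g
      calc g * j = (g * j * g⁻¹) * g := by group
        _ = j * g := by rw [h1]
    exact c.C2_le_Q (c.normalizer_C hgj hN)
  · have hgw : Commute (g * w) j := by
      show g * w * j = j * (g * w)
      have h2 : w * j * w⁻¹ = j⁻¹ := c.w_j
      have h3 : g * j⁻¹ * g⁻¹ = j := by
        calc g * j⁻¹ * g⁻¹ = (g * j * g⁻¹)⁻¹ := by group
          _ = j := by rw [h1, inv_inv]
      calc g * w * j = g * (w * j * w⁻¹) * g⁻¹ * (g * w) := by group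
        _ = j * (g * w) := by rw [h2, h3]
    have hNw : g * w ∈ Subgroup.normalizer (c.Q : Set L) :=
      Subgroup.mul_mem _ hN (Subgroup.le_normalizer c.w_mem_Q)
    exact Or.inr (c.normalizer_C hgw hNw)

/-- Case A: `N_L(Q) = Q` -/
theorem normalizer_Q (c : Cfg j w e) (hy : ∃ y : L, IsC2 j y ∧ y * y ≠ 1 ∧ y * y ≠ e) :
    Subgroup.normalizer (c.Q : Set L) ≤ c.Q := by
  intro g hN
  have hN' := Subgroup.mem_normalizer_iff.mp hN
  obtain ⟨y, hy2, hy1, hye⟩ := hy
  set j' := g⁻¹ * j * g with hj'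
  have hj'sq : j' * j' = e := by
    calc j' * j' = g⁻¹ * (j * j) * g := by rw [hj']; group
      _ = g⁻¹ * (e * g) := by rw [c.j_sq]; group
      _ = g⁻¹ * (g * e) := by rw [(c.e_cen g).eq]
      _ = e := by group
  have hy' : g * y * g⁻¹ ∈ c.Q := (hN' y).mp (c.C2_le_Q hy2)
  have hA : Commute (g * y * g⁻¹) j := by
    rcases hy' with h1 | h1
    · exact h1.1
    · exfalso
      have hsq : (g * y * g⁻¹) * (g * y * g⁻¹) = e := c.sq_of_mul_w h1.1
      apply hye
      calc y * y = g⁻¹ * ((g * y * g⁻¹) * (g * y * g⁻¹)) * g := by group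
        _ = g⁻¹ * (e * g) := by rw [hsq]; group
        _ = g⁻¹ * (g * e) := by rw [(c.e_cen g).eq]
        _ = e := by group
  have hB : Commute j' y := by
    show j' * y = y * j'
    have h1 : g * y * g⁻¹ * j = j * (g * y * g⁻¹) := hA.eq
    calc j' * y = g⁻¹ * (j * (g * y * g⁻¹)) * g := by rw [hj']; group
      _ = g⁻¹ * (g * y * g⁻¹ * j) * g := by rw [h1]
      _ = y * j' := by rw [hj']; group
  have hy1' : y ≠ 1 := by
    intro h; apply hy1; rw [h, one_mul]
  have hye' : y ≠ e := by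
    intro h; apply hy1; rw [h, c.e_sq]
  have hj'C : Commute j' j := c.h3 y j' hy2.1 hy1' hye' hB
  have hNinv : g⁻¹ ∈ Subgroup.normalizer (c.Q : Set L) := Subgroup.inv_mem _ hN
  have h9 : g⁻¹ ∈ c.Q := by
    apply c.normalizer_of_conj hNinv
    rw [inv_inv]
    exact c.h4 j' hj'C hj'sq
  have := c.Q.inv_mem h9
  rwa [inv_inv] at this

/-- Case B: the elements of `C₂` -/
theorem C2_caseB (c : Cfg j w e) (hB : ∀ y : L, IsC2 j y → y * y = 1 ∨ y * y = e) {y : L}
    (hy : y ∈ c.C2) : y = 1 ∨ y = e ∨ y = j ∨ y = j⁻¹ := by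
  rcases hB y hy with h | h
  · rcases c.h5 y hy.1 h with h1 | h1
    · exact Or.inl h1
    · exact Or.inr (Or.inl h1)
  · rcases c.h4 y hy.1 h with h1 | h1
    · exact Or.inr (Or.inr (Or.inl h1))
    · exact Or.inr (Or.inr (Or.inr h1))

/-- Case B: squares of elements of `Q` -/
theorem sq_caseB (c : Cfg j w e) (hB : ∀ y : L, IsC2 j y → y * y = 1 ∨ y * y = e) {x : L}
    (hx : x ∈ c.Q) : x * x = 1 ∨ x * x = e := by
  rcases hx with hx | hx
  · exact hB x hx
  · exact Or.inr (c.sq_of_mul_w hx.1)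

/-- Case B: inverses of elements of `Q` -/
theorem inv_caseB (c : Cfg j w e) (hB : ∀ y : L, IsC2 j y → y * y = 1 ∨ y * y = e) {x : L}
    (hx : x ∈ c.Q) : x⁻¹ = x ∨ x⁻¹ = x * e := by
  rcases c.sq_caseB hB hx with h | h
  · left
    exact inv_eq_of_mul_eq_one_right h
  · right
    apply inv_eq_of_mul_eq_one_right
    rw [← mul_assoc, h, c.e_sq]

/-- Case B: `Q` is generated by `j` and `w` -/
theorem Q_le_closure (c : Cfg j w e) (hB : ∀ y : L, IsC2 j y → y * y = 1 ∨ y * y = e) :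
    c.Q ≤ Subgroup.closure {j, w} := by
  have hj : j ∈ Subgroup.closure ({j, w} : Set L) := Subgroup.subset_closure (by simp)
  have hw : w ∈ Subgroup.closure ({j, w} : Set L) := Subgroup.subset_closure (by simp)
  have hC : c.C2 ≤ Subgroup.closure {j, w} := by
    intro y hy
    rcases c.C2_caseB hB hy with h | h | h | h
    · rw [h]; exact Subgroup.one_mem _
    · rw [h, ← c.j_sq]; exact Subgroup.mul_mem _ hj hj
    · rw [h]; exact hj
    · rw [h]; exact Subgroup.inv_mem _ hj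
  intro x hx
  rcases hx with hx | hx
  · exact hC hx
  · have : x = (x * w) * w⁻¹ := by group
    rw [this]
    exact Subgroup.mul_mem _ (hC hx) (Subgroup.inv_mem _ hw)

/-- Case B: commutators in `Q` -/
theorem conj_caseB (c : Cfg j w e) (hB : ∀ y : L, IsC2 j y → y * y = 1 ∨ y * y = e) {x y : L}
    (hx : x ∈ c.Q) (hy : y ∈ c.Q) : x * y * x⁻¹ = y ∨ x * y * x⁻¹ = y * e := by
  -- reduce to the statement for `y ∈ {j, w}`-generated subgroup
  have key : ∀ y ∈ Subgroup.closure ({j, w} : Set L), x * y * x⁻¹ = y ∨ x * y * x⁻¹ = y * e := by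
    intro y hy
    induction hy using Subgroup.closure_induction with
    | mem y hy =>
      rcases hy with rfl | rfl
      · -- conjugating `j`
        rcases hx with hx | hx
        · left
          rw [hx.1.eq]; group
        · right
          have h1 : x = (x * w) * w⁻¹ := by group
          have h2 : w⁻¹ * y * w = y⁻¹ := c.w_conj' (Commute.refl y)
          have h3 : Commute (x * w) y⁻¹ := hx.1.inv_right
          rw [← c.j_inv]
          calc x * y * x⁻¹ = (x * w) * (w⁻¹ * y * w) * (x * w)⁻¹ := by group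
            _ = (x * w) * y⁻¹ * (x * w)⁻¹ := by rw [h2]
            _ = y⁻¹ := by rw [h3.eq]; group
      · -- conjugating `w`
        rcases hx with hx | hx
        · have h2 : y * x⁻¹ * y⁻¹ = x⁻¹⁻¹ := c.w_conj _ hx.1.inv_left
          rw [inv_inv] at h2
          have h3 : x * y * x⁻¹ = x * x * y := by
            calc x * y * x⁻¹ = x * (y * x⁻¹ * y⁻¹) * y := by group
              _ = x * x * y := by rw [h2]
          rw [h3]
          rcases hB x hx with h | h
          · left; rw [h, one_mul]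
          · right; rw [h, (c.e_cen y).eq]
        · have h1 : y * (x * y)⁻¹ * y⁻¹ = (x * y)⁻¹⁻¹ := c.w_conj _ hx.1.inv_left
          rw [inv_inv] at h1
          have h3 : x * y * x⁻¹ = (x * y) * (y * (x * y)⁻¹ * y⁻¹) * y := by group
          rw [h3, h1]
          rcases hB _ hx with h | h
          · left; rw [h, one_mul]
          · right; rw [h, (c.e_cen y).eq]
    | one => left; group
    | mul a b _ _ ha hb =>
      have h1 : x * (a * b) * x⁻¹ = (x * a * x⁻¹) * (x * b * x⁻¹) := by group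
      rw [h1]
      rcases ha with ha | ha <;> rcases hb with hb | hb <;> rw [ha, hb]
      · left; rfl
      · right; group
      · right
        rw [mul_assoc, (c.e_cen b).eq, ← mul_assoc]
      · left
        rw [mul_assoc, ← mul_assoc e, (c.e_cen b).eq, mul_assoc b, c.e_sq, mul_one]
    | inv a _ ha =>
      have h1 : x * a⁻¹ * x⁻¹ = (x * a * x⁻¹)⁻¹ := by group
      rw [h1]
      rcases ha with ha | ha <;> rw [ha]
      · left; rfl
      · right
        rw [_root_.mul_inv_rev, c.e_inv, (c.e_cen a⁻¹).eq]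
  exact key y (c.Q_le_closure hB hy)

/-- Case B: the elements of `Q` of order four -/
theorem order_four_caseB (c : Cfg j w e) (hB : ∀ y : L, IsC2 j y → y * y = 1 ∨ y * y = e)
    {v : L} (hv : v ∈ c.Q) (hsq : v * v = e) :
    (v = j ∨ v = j⁻¹) ∨ (v = w ∨ v = w⁻¹) ∨ (v = j * w ∨ v = (j * w)⁻¹) := by
  rcases hv with h1 | h1
  · left
    exact c.h4 _ h1.1 hsq
  · right
    have hv : v = (v * w) * w⁻¹ := by group
    rcases c.C2_caseB hB h1 with h2 | h2 | h2 | h2
    · left; right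
      rw [hv, h2, one_mul]
    · left; left
      rw [hv, h2, c.w_inv, ← mul_assoc, (c.e_cen w).eq, mul_assoc, c.e_sq, mul_one]
    · right; right
      rw [hv, h2, _root_.mul_inv_rev]
      have h3 : w⁻¹ * j⁻¹ = (w⁻¹ * j⁻¹ * w) * w⁻¹ := by group
      have h4 : w⁻¹ * j⁻¹ * w = j⁻¹⁻¹ := c.w_conj' (Commute.refl j).inv_left
      rw [h3, h4, inv_inv]
    · right; left
      rw [hv, h2, c.j_inv, c.w_inv, mul_assoc, ← mul_assoc e, (c.e_cen w).eq, mul_assoc w,
        c.e_sq, mul_one]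

/-- Case B: the normalizer of `Q` -/
theorem normalizer_caseB (c : Cfg j w e) (hB : ∀ y : L, IsC2 j y → y * y = 1 ∨ y * y = e)
    (a : L) (ha1 : a * j * a⁻¹ = w) (ha2 : a * w * a⁻¹ = j * w)
    (haN : a ∈ Subgroup.normalizer (c.Q : Set L)) {g : L}
    (hN : g ∈ Subgroup.normalizer (c.Q : Set L)) :
    ∃ k : ℤ, ∃ x ∈ c.Q, g = a ^ k * x := by
  have h0 : g * j * g⁻¹ ∈ c.Q := (Subgroup.mem_normalizer_iff.mp hN j).mp c.j_mem_Q
  have hsq : (g * j * g⁻¹) * (g * j * g⁻¹) = e := by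
    calc (g * j * g⁻¹) * (g * j * g⁻¹) = g * (j * j) * g⁻¹ := by group
      _ = (g * e) * g⁻¹ := by rw [c.j_sq]
      _ = (e * g) * g⁻¹ := by rw [(c.e_cen g).eq]
      _ = e := by group
  have ha3 : a * (j * w) * a⁻¹ = j := by
    have h1 : a * (j * w) * a⁻¹ = (a * j * a⁻¹) * (a * w * a⁻¹) := by group
    rw [h1, ha1, ha2]
    have h2 : w * j * w⁻¹ = j⁻¹ := c.w_j
    calc w * (j * w) = (w * j * w⁻¹) * (w * w) := by group
      _ = j⁻¹ * e := by rw [h2, c.w_sq]
      _ = j := by rw [c.j_inv, mul_assoc, c.e_sq, mul_one]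
  have ha1' : a⁻¹ * w * a = j := by
    rw [← ha1]; group
  have haNinv : a⁻¹ ∈ Subgroup.normalizer (c.Q : Set L) := Subgroup.inv_mem _ haN
  rcases c.order_four_caseB hB h0 hsq with h1 | h1 | h1
  · exact ⟨0, g, c.normalizer_of_conj hN h1, by rw [zpow_zero, one_mul]⟩
  · -- `a⁻¹ g` conjugates `j` to `j^±`
    have hN' : a⁻¹ * g ∈ Subgroup.normalizer (c.Q : Set L) := Subgroup.mul_mem _ haNinv hN
    have h2 : (a⁻¹ * g) * j * (a⁻¹ * g)⁻¹ = a⁻¹ * (g * j * g⁻¹) * a := by group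
    refine ⟨1, a⁻¹ * g, c.normalizer_of_conj hN' ?_, by rw [zpow_one]; group⟩
    rw [h2]
    rcases h1 with h1 | h1
    · left; rw [h1, ha1']
    · right
      have h3 : a⁻¹ * w⁻¹ * a = (a⁻¹ * w * a)⁻¹ := by group
      rw [h1, h3, ha1']
  · have hN' : a * g ∈ Subgroup.normalizer (c.Q : Set L) := Subgroup.mul_mem _ haN hN
    have h2 : (a * g) * j * (a * g)⁻¹ = a * (g * j * g⁻¹) * a⁻¹ := by group
    refine ⟨-1, a * g, c.normalizer_of_conj hN' ?_, by rw [zpow_neg_one]; group⟩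
    rw [h2]
    rcases h1 with h1 | h1
    · left; rw [h1, ha3]
    · right
      have h3 : a * (j * w)⁻¹ * a⁻¹ = (a * (j * w) * a⁻¹)⁻¹ := by group
      rw [h1, h3, ha3]

/-- the inverse of an element of `C w` is conjugate to `j` -/
theorem exists_conj_inv (c : Cfg j w e) {x : L} (hx : Commute x j) :
    ∃ g : L, g * (x * w)⁻¹ * g⁻¹ = j := by
  obtain ⟨g, hg⟩ := c.conj (x * e) (hx.mul_left c.e_comm_j)
  refine ⟨g⁻¹, ?_⟩
  have h1 : w⁻¹ * x⁻¹ * w = x⁻¹⁻¹ := c.w_conj' hx.inv_left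
  rw [inv_inv] at h1
  have h2 : (x * w)⁻¹ = x * e * w := by
    calc (x * w)⁻¹ = (w⁻¹ * x⁻¹ * w) * w⁻¹ := by group
      _ = x * (w * e) := by rw [h1, c.w_inv]
      _ = x * (e * w) := by rw [(c.e_cen w).eq]
      _ = x * e * w := by group
  rw [h2, ← hg]
  group

/-- `Q` is generated by `C₂ w` -/
theorem Q_le_of_mul_w_mem (c : Cfg j w e) (Y : Subgroup L) (h : ∀ y ∈ c.C2, y * w ∈ Y) :
    c.Q ≤ Y := by
  have hw : w ∈ Y := by
    have := h 1 c.C2.one_mem
    rwa [one_mul] at this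
  intro x hx
  rcases hx with hx | hx
  · have : x = (x * w) * w⁻¹ := by group
    rw [this]
    exact Y.mul_mem (h x hx) (Y.inv_mem hw)
  · have : x = ((x * w) * w) * (w⁻¹ * w⁻¹) := by group
    rw [this]
    exact Y.mul_mem (h _ hx) (Y.mul_mem (Y.inv_mem hw) (Y.inv_mem hw))

end Cfg

end Cfsg.Agent.Lead.QC
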