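import Mathlib
import Cfsg.Agent.Lead.QCfgA

set_option autoImplicit false

/-!
# The quaternion configuration in `SL_2(F)`, `F` a field of characteristic not two
-/

namespace Cfsg.Agent.Lead.SL2Q

open Matrix

variable {F : Type*} [Field F]

/-- entries of a product -/
theorem mul00 (x y : SpecialLinearGroup (Fin 2) F) :
    (x * y) 0 0 = x 0 0 * y 0 0 + x 0 1 * y 1 0 := by
  rw [Matrix.SpecialLinearGroup.coe_mul, Matrix.mul_apply, Fin.sum_univ_two]

theorem mul01 (x y : SpecialLinearGroup (Fin 2) F) :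
    (x * y) 0 1 = x 0 0 * y 0 1 + x 0 1 * y 1 1 := by
  rw [Matrix.SpecialLinearGroup.coe_mul, Matrix.mul_apply, Fin.sum_univ_two]

theorem mul10 (x y : SpecialLinearGroup (Fin 2) F) :
    (x * y) 1 0 = x 1 0 * y 0 0 + x 1 1 * y 1 0 := by
  rw [Matrix.SpecialLinearGroup.coe_mul, Matrix.mul_apply, Fin.sum_univ_two]

theorem mul11 (x y : SpecialLinearGroup (Fin 2) F) :
    (x * y) 1 1 = x 1 0 * y 0 1 + x 1 1 * y 1 1 := by
  rw [Matrix.SpecialLinearGroup.coe_mul, Matrix.mul_apply, Fin.sum_univ_two]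

theorem ext2 {x y : SpecialLinearGroup (Fin 2) F} (h00 : x 0 0 = y 0 0)
    (h01 : x 0 1 = y 0 1) (h10 : x 1 0 = y 1 0) (h11 : x 1 1 = y 1 1) : x = y := by
  apply Subtype.ext
  ext i k
  fin_cases i <;> fin_cases k
  · exact h00
  · exact h01
  · exact h10
  · exact h11

theorem det2 (x : SpecialLinearGroup (Fin 2) F) :
    x 0 0 * x 1 1 - x 0 1 * x 1 0 = 1 := by
  have := x.2
  rwa [Matrix.det_fin_two] at this

/-- the matrix with the given entries, of determinant one -/
def mk2 (a b c d : F) (h : a * d - b * c = 1) : SpecialLinearGroup (Fin 2) F :=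
  ⟨!![a, b; c, d], by rw [Matrix.det_fin_two_of]; exact h⟩

@[simp] theorem mk2_00 (a b c d : F) (h : a * d - b * c = 1) : (mk2 a b c d h) 0 0 = a := rfl
@[simp] theorem mk2_01 (a b c d : F) (h : a * d - b * c = 1) : (mk2 a b c d h) 0 1 = b := rfl
@[simp] theorem mk2_10 (a b c d : F) (h : a * d - b * c = 1) : (mk2 a b c d h) 1 0 = c := rfl
@[simp] theorem mk2_11 (a b c d : F) (h : a * d - b * c = 1) : (mk2 a b c d h) 1 1 = d := rfl

@[simp] theorem one00 : (1 : SpecialLinearGroup (Fin 2) F) 0 0 = 1 := rfl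
@[simp] theorem one01 : (1 : SpecialLinearGroup (Fin 2) F) 0 1 = 0 := rfl
@[simp] theorem one10 : (1 : SpecialLinearGroup (Fin 2) F) 1 0 = 0 := rfl
@[simp] theorem one11 : (1 : SpecialLinearGroup (Fin 2) F) 1 1 = 1 := rfl

/-- the element `J` -/
def Jm : SpecialLinearGroup (Fin 2) F := mk2 0 (-1) 1 0 (by ring)

/-- the element `-1` -/
def eN : SpecialLinearGroup (Fin 2) F := mk2 (-1) 0 0 (-1) (by ring)

/-- the element `ω` -/
def om (p r : F) (h : p ^ 2 + r ^ 2 = -1) : SpecialLinearGroup (Fin 2) F :=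
  mk2 p r r (-p) (by linear_combination -h)

/-- commuting with `J` -/
theorem comm_J_iff (x : SpecialLinearGroup (Fin 2) F) :
    Commute x Jm ↔ x 1 1 = x 0 0 ∧ x 1 0 = - x 0 1 := by
  constructor
  · intro h
    have h1 := congrArg (fun y : SpecialLinearGroup (Fin 2) F => y 0 0) h.eq
    have h2 := congrArg (fun y : SpecialLinearGroup (Fin 2) F => y 0 1) h.eq
    simp only [mul00, mul01, Jm, mk2_00, mk2_01, mk2_10, mk2_11] at h1 h2
    constructor
    · linear_combination h2
    · linear_combination h1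
  · rintro ⟨h1, h2⟩
    apply ext2 <;> simp only [mul00, mul01, mul10, mul11, Jm, mk2_00, mk2_01, mk2_10, mk2_11]
    · linear_combination h2
    · linear_combination h1
    · linear_combination h1
    · linear_combination -h2

theorem eN_sq : (eN : SpecialLinearGroup (Fin 2) F) * eN = 1 := by
  apply ext2 <;> simp only [mul00, mul01, mul10, mul11, eN, mk2_00, mk2_01, mk2_10, mk2_11,
    one00, one01, one10, one11] <;> ring

theorem eN_ne (h2 : (2 : F) ≠ 0) : (eN : SpecialLinearGroup (Fin 2) F) ≠ 1 := by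
  intro h
  have h1 := congrArg (fun y : SpecialLinearGroup (Fin 2) F => y 0 0) h
  simp only [eN, mk2_00, one00] at h1
  apply h2
  linear_combination -h1

theorem eN_cen (x : SpecialLinearGroup (Fin 2) F) : Commute eN x := by
  apply ext2 <;> simp only [mul00, mul01, mul10, mul11, eN, mk2_00, mk2_01, mk2_10, mk2_11] <;> ring

theorem Jm_sq : (Jm : SpecialLinearGroup (Fin 2) F) * Jm = eN := by
  apply ext2 <;> simp only [mul00, mul01, mul10, mul11, eN, Jm, mk2_00, mk2_01, mk2_10, mk2_11] <;>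
    ring

theorem om_sq (p r : F) (h : p ^ 2 + r ^ 2 = -1) : om p r h * om p r h = eN := by
  apply ext2 <;> simp only [mul00, mul01, mul10, mul11, eN, om, mk2_00, mk2_01, mk2_10, mk2_11]
  · linear_combination h
  · ring
  · ring
  · linear_combination h

theorem comm_of_comm_J (x y : SpecialLinearGroup (Fin 2) F) (hx : Commute x Jm)
    (hy : Commute y Jm) : Commute x y := by
  obtain ⟨hx1, hx2⟩ := (comm_J_iff x).mp hx
  obtain ⟨hy1, hy2⟩ := (comm_J_iff y).mp hy
  apply ext2 <;> simp only [mul00, mul01, mul10, mul11, hx1, hx2, hy1, hy2] <;> ring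

/-- the relation `x ω x = ω` for `x` commuting with `J` -/
theorem mul_om_mul (p r : F) (h : p ^ 2 + r ^ 2 = -1) (x : SpecialLinearGroup (Fin 2) F)
    (hx : Commute x Jm) : x * (om p r h * x) = om p r h := by
  obtain ⟨hx1, hx2⟩ := (comm_J_iff x).mp hx
  have hd := det2 x
  rw [hx1, hx2] at hd
  apply ext2 <;> simp only [mul00, mul01, mul10, mul11, om, mk2_00, mk2_01, mk2_10, mk2_11, hx1, hx2]
  · linear_combination p * hd
  · linear_combination r * hd
  · linear_combination r * hd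
  · linear_combination (-p) * hd

theorem om_conj (p r : F) (h : p ^ 2 + r ^ 2 = -1) (x : SpecialLinearGroup (Fin 2) F)
    (hx : Commute x Jm) : om p r h * x * (om p r h)⁻¹ = x⁻¹ := by
  rw [mul_inv_eq_iff_eq_mul, eq_inv_mul_iff_mul_eq]
  exact mul_om_mul p r h x hx

theorem h3_SL2 (y g : SpecialLinearGroup (Fin 2) F) (hy : Commute y Jm) (hy1 : y ≠ 1)
    (hye : y ≠ eN) (hg : Commute g y) : Commute g Jm := by
  obtain ⟨h1, h2⟩ := (comm_J_iff y).mp hy
  have hd := det2 y
  rw [h1, h2] at hd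
  have hb : y 0 1 ≠ 0 := by
    intro hb
    rw [hb] at hd
    have h3 : (y 0 0 - 1) * (y 0 0 + 1) = 0 := by linear_combination hd
    rcases mul_eq_zero.mp h3 with h4 | h4
    · apply hy1
      apply ext2 <;> simp only [one00, one01, one10, one11, h1, h2, hb]
      · linear_combination h4
      · ring
      · linear_combination h4
    · apply hye
      apply ext2 <;> simp only [eN, mk2_00, mk2_01, mk2_10, mk2_11, h1, h2, hb]
      · linear_combination h4
      · ring
      · linear_combination h4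
  have e00 := congrArg (fun z : SpecialLinearGroup (Fin 2) F => z 0 0) hg.eq
  have e01 := congrArg (fun z : SpecialLinearGroup (Fin 2) F => z 0 1) hg.eq
  simp only [mul00, mul01, h1, h2] at e00 e01
  rw [comm_J_iff]
  constructor
  · have h3 : y 0 1 * (g 1 1 - g 0 0) = 0 := by linear_combination -e01
    rcases mul_eq_zero.mp h3 with h4 | h4
    · exact absurd h4 hb
    · linear_combination h4
  · have h3 : y 0 1 * (g 1 0 + g 0 1) = 0 := by linear_combination -e00
    rcases mul_eq_zero.mp h3 with h4 | h4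
    · exact absurd h4 hb
    · linear_combination h4

theorem Jm_inv : (Jm : SpecialLinearGroup (Fin 2) F)⁻¹ = mk2 0 1 (-1) 0 (by ring) := by
  apply inv_eq_of_mul_eq_one_right
  apply ext2 <;> simp only [mul00, mul01, mul10, mul11, Jm, mk2_00, mk2_01, mk2_10, mk2_11,
    one00, one01, one10, one11] <;> ring

theorem h4_SL2 (h2 : (2 : F) ≠ 0) (x : SpecialLinearGroup (Fin 2) F) (hx : Commute x Jm)
    (hsq : x * x = eN) : x = Jm ∨ x = Jm⁻¹ := by
  obtain ⟨h1, h2'⟩ := (comm_J_iff x).mp hx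
  have hd := det2 x
  rw [h1, h2'] at hd
  have e00 := congrArg (fun z : SpecialLinearGroup (Fin 2) F => z 0 0) hsq
  simp only [mul00, h1, h2', eN, mk2_00] at e00
  have ha : x 0 0 = 0 := by
    have h3 : 2 * (x 0 0 * x 0 0) = 0 := by linear_combination hd + e00
    rcases mul_eq_zero.mp h3 with h4 | h4
    · exact absurd h4 h2
    · exact mul_self_eq_zero.mp h4
  rw [ha] at hd
  have h3 : (x 0 1 - 1) * (x 0 1 + 1) = 0 := by linear_combination hd
  rcases mul_eq_zero.mp h3 with h4 | h4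
  · right
    rw [Jm_inv]
    apply ext2 <;> simp only [mk2_00, mk2_01, mk2_10, mk2_11, h1, h2', ha]
    · linear_combination h4
    · linear_combination -h4
  · left
    apply ext2 <;> simp only [Jm, mk2_00, mk2_01, mk2_10, mk2_11, h1, h2', ha]
    · linear_combination h4
    · linear_combination -h4

theorem h5_SL2 (h2 : (2 : F) ≠ 0) (x : SpecialLinearGroup (Fin 2) F) (hx : Commute x Jm)
    (hsq : x * x = 1) : x = 1 ∨ x = eN := by
  obtain ⟨h1, h2'⟩ := (comm_J_iff x).mp hx
  have hd := det2 x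
  rw [h1, h2'] at hd
  have e00 := congrArg (fun z : SpecialLinearGroup (Fin 2) F => z 0 0) hsq
  simp only [mul00, h1, h2', one00] at e00
  have hb : x 0 1 = 0 := by
    have h3 : 2 * (x 0 1 * x 0 1) = 0 := by linear_combination hd - e00
    rcases mul_eq_zero.mp h3 with h4 | h4
    · exact absurd h4 h2
    · exact mul_self_eq_zero.mp h4
  rw [hb] at hd
  have h3 : (x 0 0 - 1) * (x 0 0 + 1) = 0 := by linear_combination hd
  rcases mul_eq_zero.mp h3 with h4 | h4
  · left
    apply ext2 <;> simp only [one00, one01, one10, one11, h1, h2', hb]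
    · linear_combination h4
    · ring
    · linear_combination h4
  · right
    apply ext2 <;> simp only [eN, mk2_00, mk2_01, mk2_10, mk2_11, h1, h2', hb]
    · linear_combination h4
    · ring
    · linear_combination h4

/-- the conjugating element `(1 + J + X + J X) / 2` -/
def cj (i2 : F) (hi : 2 * i2 = 1) (A B : F) (hAB : A ^ 2 + B ^ 2 = -1) :
    SpecialLinearGroup (Fin 2) F :=
  mk2 (i2 * (1 + A - B)) (i2 * (-1 + A + B)) (i2 * (1 + A + B)) (i2 * (1 - A + B))
    (by linear_combination (-2 * i2 ^ 2) * hAB + (2 * i2 + 1) * hi)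

theorem cj_mul (i2 : F) (hi : 2 * i2 = 1) (A B : F) (hAB : A ^ 2 + B ^ 2 = -1) :
    cj i2 hi A B hAB * Jm = mk2 A B B (-A) (by linear_combination -hAB) * cj i2 hi A B hAB := by
  apply ext2 <;> simp only [mul00, mul01, mul10, mul11, Jm, cj, mk2_00, mk2_01, mk2_10, mk2_11]
  · linear_combination (-i2) * hAB
  · linear_combination (-i2) * hAB
  · linear_combination (i2) * hAB
  · linear_combination (-i2) * hAB

theorem conj_SL2 (i2 : F) (hi : 2 * i2 = 1) (p r : F) (h : p ^ 2 + r ^ 2 = -1)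
    (x : SpecialLinearGroup (Fin 2) F) (hx : Commute x Jm) :
    ∃ g : SpecialLinearGroup (Fin 2) F, g * Jm * g⁻¹ = x * om p r h := by
  obtain ⟨h1, h2⟩ := (comm_J_iff x).mp hx
  have hd := det2 x
  rw [h1, h2] at hd
  have hAB : (x 0 0 * p + x 0 1 * r) ^ 2 + (x 0 0 * r - x 0 1 * p) ^ 2 = -1 := by
    linear_combination (p ^ 2 + r ^ 2) * hd + h
  refine ⟨cj i2 hi _ _ hAB, ?_⟩
  rw [mul_inv_eq_iff_eq_mul, cj_mul]
  congr 1
  apply ext2 <;> simp only [mul00, mul01, mul10, mul11, om, mk2_00, mk2_01, mk2_10, mk2_11, h1, h2]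
    <;> ring

/-- the quaternion configuration in `SL_2(F)` -/
theorem cfg (h2 : (2 : F) ≠ 0) (i2 : F) (hi : 2 * i2 = 1) (p r : F) (h : p ^ 2 + r ^ 2 = -1) :
    QC.Cfg (Jm : SpecialLinearGroup (Fin 2) F) (om p r h) eN where
  e_sq := eN_sq
  e_ne := eN_ne h2
  e_cen := eN_cen
  j_sq := Jm_sq
  w_sq := om_sq p r h
  comm := comm_of_comm_J
  w_conj := om_conj p r h
  h3 := h3_SL2
  h4 := h4_SL2 h2
  h5 := h5_SL2 h2
  conj := conj_SL2 i2 hi p r h

/-- the element of order three -/
def aa (i2 : F) (hi : 2 * i2 = 1) (p r : F) (h : p ^ 2 + r ^ 2 = -1) :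
    SpecialLinearGroup (Fin 2) F := eN * cj i2 hi p r h

theorem aa_J (i2 : F) (hi : 2 * i2 = 1) (p r : F) (h : p ^ 2 + r ^ 2 = -1) :
    aa i2 hi p r h * Jm * (aa i2 hi p r h)⁻¹ = om p r h := by
  rw [mul_inv_eq_iff_eq_mul, aa, mul_assoc, cj_mul, ← mul_assoc, ← mul_assoc, (eN_cen _).eq]
  rfl

theorem aa_om (i2 : F) (hi : 2 * i2 = 1) (p r : F) (h : p ^ 2 + r ^ 2 = -1) :
    aa i2 hi p r h * om p r h * (aa i2 hi p r h)⁻¹ = Jm * om p r h := by
  rw [mul_inv_eq_iff_eq_mul, aa]
  apply ext2 <;> simp only [mul00, mul01, mul10, mul11, Jm, om, eN, cj, mk2_00, mk2_01, mk2_10,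
    mk2_11] <;> ring

theorem aa_cube (i2 : F) (hi : 2 * i2 = 1) (p r : F) (h : p ^ 2 + r ^ 2 = -1) :
    aa i2 hi p r h ^ 3 = 1 := by
  rw [pow_succ, pow_succ, pow_one, aa]
  apply ext2 <;> simp only [mul00, mul01, mul10, mul11, eN, cj, mk2_00, mk2_01, mk2_10,
    mk2_11, one00, one01, one10, one11]
  · linear_combination (-i2 ^ 3 * (6 + 2 * p - 2 * r)) * h + (4 * i2 ^ 2 + 2 * i2 + 1) * hi
  · linear_combination (-i2 ^ 3 * (-2 + 2 * p + 2 * r)) * h
  · linear_combination (-i2 ^ 3 * (2 + 2 * p + 2 * r)) * h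
  · linear_combination (-i2 ^ 3 * (6 - 2 * p + 2 * r)) * h + (4 * i2 ^ 2 + 2 * i2 + 1) * hi

end Cfsg.Agent.Lead.SL2Q
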