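import Mathlib
import Cfsg.Agent.Lead.DihedralInvolutions
import Cfsg.Agent.Lead.SylowLemmas
import Cfsg.Agent.Helper1.MaxClassDihedral

set_option autoImplicit false

namespace Cfsg.Agent.Lead.DihSyl

open DihedralGroup Cfsg.Agent.Lead

theorem r_eq_pow (m : ℕ) [NeZero m] (i : ZMod m) : (r i : DihedralGroup m) = (r 1) ^ i.val := by
  rw [r_one_pow, ZMod.natCast_zmod_val]

instance isCyclic_dihedralRot (m : ℕ) [NeZero m] : IsCyclic (dihedralRot m) := by
  refine ⟨⟨⟨r 1, r_mem_dihedralRot m 1⟩, ?_⟩⟩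
  rintro ⟨_, i, rfl⟩
  refine ⟨(i.val : ℤ), ?_⟩
  apply Subtype.ext
  show ((⟨r 1, r_mem_dihedralRot m 1⟩ : dihedralRot m) ^ (i.val : ℤ) : dihedralRot m).1 = r i
  rw [zpow_natCast, Subgroup.coe_pow, r_eq_pow m i]

theorem card_dihedralRot (m : ℕ) [NeZero m] : Nat.card (dihedralRot m) = m := by
  have h1 := Subgroup.card_mul_index (dihedralRot m)
  rw [dihedralRot_index, DihedralGroup.nat_card] at h1
  omega

/-- A subgroup of order `2^(k+1)` of a dihedral group `D_m` with `2^(k+1) ∤ m` is dihedral. -/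
theorem subgroup_dihedral_two (m k : ℕ) [NeZero m] (P : Subgroup (DihedralGroup m))
    (hP : Nat.card P = 2 ^ (k + 1)) (hm : ¬ 2 ^ (k + 1) ∣ m) :
    Nonempty (P ≃* DihedralGroup (2 ^ k)) := by
  have hRn : (dihedralRot m).Normal := Subgroup.normal_of_index_eq_two (dihedralRot_index m)
  set C : Subgroup P := (dihedralRot m).subgroupOf P with hC
  haveI : IsCyclic C := by
    have hinj : Function.Injective
        (Subgroup.inclusion (inf_le_left : dihedralRot m ⊓ P ≤ dihedralRot m)) :=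
      Subgroup.inclusion_injective _
    haveI : IsCyclic ↥(dihedralRot m ⊓ P) :=
      isCyclic_of_injective (Subgroup.inclusion (inf_le_left : dihedralRot m ⊓ P ≤ dihedralRot m)) hinj
    have e : ↥(dihedralRot m ⊓ P) ≃* C :=
      (Subgroup.subgroupOfEquivOfLe (inf_le_right : dihedralRot m ⊓ P ≤ P)).symm.trans
        (MulEquiv.subgroupCongr (by rw [hC, Subgroup.inf_subgroupOf_right]))
    exact isCyclic_of_surjective e e.surjective
  have hidx : C.index = 2 := by
    have h1 : C.index = (dihedralRot m).relIndex P := rfl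
    have h2 : (dihedralRot m).relIndex P ∣ 2 := by
      rw [← dihedralRot_index m]
      exact Subgroup.relIndex_dvd_index_of_normal _ _
    rcases (Nat.dvd_prime Nat.prime_two).mp h2 with h3 | h3
    · exfalso
      have hle : P ≤ dihedralRot m := Subgroup.relIndex_eq_one.mp h3
      have := Subgroup.card_dvd_of_le hle
      rw [hP, card_dihedralRot] at this
      exact hm this
    · rw [h1, h3]
  have hinv : ∀ y : P, y ∉ C → y * y = 1 := by
    rintro ⟨y, hy⟩ hyC
    rw [hC, Subgroup.mem_subgroupOf] at hyC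
    apply Subtype.ext
    show y * y = 1
    cases y with
    | r i => exact absurd (r_mem_dihedralRot m i) hyC
    | sr i => rw [sr_mul_sr, sub_self, one_def]
  obtain ⟨e⟩ := Cfsg.Agent.Helper1.dihedral_of_cyclic_index_two_invol C hidx hinv
  have hcard : Nat.card C = 2 ^ k := by
    have h1 := Subgroup.card_mul_index C
    rw [hidx, hP, pow_succ] at h1
    omega
  rw [hcard] at e
  exact ⟨e⟩


/-- If a finite group `G` has a dihedral subgroup `D ≃ D_m` containing a Sylow `2`-subgroup (by order),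
then the Sylow `2`-subgroups of `G` are dihedral. -/
theorem sylow_dihedral {G : Type*} [Group G] [Finite G] (S : Sylow 2 G) (D : Subgroup G) (m k : ℕ)
    [NeZero m] (e : D ≃* DihedralGroup m) (hcard : Nat.card S = 2 ^ (k + 1)) (hm : 2 ^ k ∣ m)
    (hm' : ¬ 2 ^ (k + 1) ∣ m) : Nonempty (S ≃* DihedralGroup (2 ^ k)) := by
  haveI : Fact (Nat.Prime 2) := ⟨Nat.prime_two⟩
  have hD : Nat.card D = 2 * m := by
    rw [Nat.card_congr e.toEquiv, DihedralGroup.nat_card]
  have hdvd : 2 ^ (k + 1) ∣ Nat.card D := by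
    rw [hD, pow_succ, mul_comm]
    exact Nat.mul_dvd_mul_left 2 hm
  obtain ⟨P₀', hP₀'⟩ := Sylow.exists_subgroup_card_pow_prime 2 hdvd
  set P₀ : Subgroup G := P₀'.map D.subtype with hP₀
  have hP₀card : Nat.card P₀ = 2 ^ (k + 1) := by
    rw [hP₀, Subgroup.card_map_of_injective D.subtype_injective, hP₀']
  have hP₀p : IsPGroup 2 P₀ := IsPGroup.of_card hP₀card
  obtain ⟨g, hg⟩ := exists_conj_le_sylow S P₀ hP₀p
  have heq : P₀.map (MulAut.conj g).toMonoidHom = (S : Subgroup G) := by
    apply Subgroup.eq_of_le_of_card_ge hg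
    rw [card_map_conj, hP₀card, hcard]
  set P₁ : Subgroup (DihedralGroup m) := P₀'.map e.toMonoidHom with hP₁
  have hP₁card : Nat.card P₁ = 2 ^ (k + 1) := by
    rw [hP₁, Subgroup.card_map_of_injective e.injective, hP₀']
  obtain ⟨f⟩ := subgroup_dihedral_two m k P₁ hP₁card hm'
  have e1 : (S : Subgroup G) ≃* ↥(P₀.map (MulAut.conj g).toMonoidHom) :=
    MulEquiv.subgroupCongr heq.symm
  have e2 : ↥P₀ ≃* ↥(P₀.map (MulAut.conj g).toMonoidHom) :=
    Subgroup.equivMapOfInjective P₀ _ (MulAut.conj g).injective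
  have e3 : ↥P₀' ≃* ↥P₀ := Subgroup.equivMapOfInjective P₀' _ D.subtype_injective
  have e4 : ↥P₀' ≃* ↥P₁ := Subgroup.equivMapOfInjective P₀' _ e.injective
  exact ⟨((e1.trans e2.symm).trans e3.symm).trans (e4.trans f)⟩

end Cfsg.Agent.Lead.DihSyl
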