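import Mathlib
import Cfsg.Prelude.Def_FusionSystem
import Cfsg.Agent.Lead.DihedralAut
import Cfsg.Agent.Lead.FusionInner
import Cfsg.Agent.Lead.FusionSat
import Cfsg.Agent.Lead.FusionAlperin

set_option autoImplicit false

namespace Cfsg.Agent.Lead

open Cfsg Cfsg.FusionSystem

variable {Ω : Type*} [Group Ω] {S : Subgroup Ω}

/-- S5112: for `S` dihedral or generalized quaternion of order at least 16, `Aut_F(S) = Inn(S)`. -/
theorem Fusion.autGroup_eq_inn_of_dihedral_quaternion [Finite S] (n : ℕ) (hn : 4 ≤ n)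
    (hshape : Nonempty (S ≃* DihedralGroup (2 ^ (n - 1))) ∨
      Nonempty (S ≃* QuaternionGroup (2 ^ (n - 2))))
    (F : FusionSystem S) (hF : F.IsSaturated 2) : F.autGroup S = Inn S := by
  have hAut2 : IsPGroup 2 (MulAut S) := by
    rcases hshape with ⟨⟨e⟩⟩ | ⟨⟨e⟩⟩
    · have : NeZero (2 ^ (n - 1)) := ⟨by positivity⟩
      have h := isPGroup_two_mulAut_of_odd_trivial
        (fun β t ht hβ => dihedral_aut_odd_trivial (n - 1) (by omega) β t ht hβ)
      exact h.of_equiv (MulAut.congr e).symm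
    · have : NeZero (2 ^ (n - 2)) := ⟨by positivity⟩
      have h := isPGroup_two_mulAut_of_odd_trivial
        (fun β t ht hβ => quaternion_aut_odd_trivial (n - 2) (by omega) β t ht hβ)
      exact h.of_equiv (MulAut.congr e).symm
  have hA : IsPGroup 2 (F.autGroup S) := hAut2.to_subgroup _
  obtain ⟨-, R, hR⟩ := Fusion.top_fullyAutomized 2 F hF
  have htop : (⊤ : Subgroup (F.autGroup S)) = R :=
    R.is_maximal' (hA.to_subgroup _) le_top
  have hle1 : F.autGroup S ≤ autInducedBy S S := by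
    intro α hα
    have h1 : (⟨α, hα⟩ : F.autGroup S) ∈ (⊤ : Subgroup (F.autGroup S)) := Subgroup.mem_top _
    rw [htop, hR, Subgroup.mem_subgroupOf] at h1
    exact h1
  have hle2 : autInducedBy S S ≤ Inn S := by
    intro α hα
    rw [mem_autInducedBy_iff] at hα
    obtain ⟨g, hg, hα⟩ := hα
    refine ⟨⟨g, hg⟩, ?_⟩
    ext x
    rw [hα]
    rfl
  apply le_antisymm (hle1.trans hle2)
  exact (Fusion.inn_le_autInducedBy le_rfl).trans (Fusion.autInducedBy_le_autGroup F le_rfl)

end Cfsg.Agent.Lead
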