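import Mathlib
import Cfsg.Prelude.Def_FusionSystem
import Cfsg.Agent.Lead.FusionCentric
import Cfsg.Agent.Lead.FusionSubsys
import Cfsg.Agent.Lead.FusionStrongInvD
import Cfsg.Agent.Lead.ConjAutDef
import Cfsg.Agent.Lead.SylowLemmas
import Cfsg.Agent.S5076

set_option autoImplicit false

namespace Cfsg.Agent.Lead.SimpCrit

open Cfsg Cfsg.FusionSystem Cfsg.Agent.Lead

variable {Ω : Type*} [Group Ω] {S : Subgroup Ω}

/-- For `E` invariant in the saturated system `F` (both over `S`) and `R` fully normalized in `F`,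
every `p`-element of `Aut_F(R)` lies in `Aut_E(R)`. -/
theorem pElement_mem [Finite S] (p : ℕ) [Fact p.Prime] (hS : IsPGroup p S) (F : FusionSystem S)
    (hF : F.IsSaturated p) (E : FusionSystem S) (hinv : E.IsInvariantIn F) {R : Subgroup Ω}
    (hfn : F.IsFullyNormalized R) (β : MulAut R) (hβ : β ∈ F.autGroup R) (k : ℕ)
    (hk : β ^ p ^ k = 1) : β ∈ E.autGroup R := by
  have hp : p.Prime := Fact.out
  have hRS : R ≤ S := hfn.1
  have : Finite R := Fusion.finite_of_le hRS
  have : Finite (MulAut R) := inferInstance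
  obtain ⟨hfc, hfa⟩ := Fusion.fullyCentralized_fullyAutomized_of_fullyNormalized p hS F hF hfn
  have hUA : autInducedBy S R ≤ F.autGroup R := Fusion.autInducedBy_le_autGroup F hRS
  have hUE : autInducedBy S R ≤ E.autGroup R := Fusion.autInducedBy_le_autGroup E hRS
  have hcardU : Nat.card (autInducedBy S R) = p ^ (Nat.card (F.autGroup R)).factorization p :=
    (exists_sylow_eq_subgroupOf_iff (F.autGroup R) (autInducedBy S R) hUA).mp hfa.2
  have hT : IsPGroup p (Subgroup.zpowers β) := by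
    have hdvd : orderOf β ∣ p ^ k := orderOf_dvd_of_pow_eq_one hk
    obtain ⟨j, -, hj⟩ := (Nat.dvd_prime_pow hp).mp hdvd
    apply IsPGroup.of_card (n := j)
    rw [Nat.card_zpowers, hj]
  obtain ⟨m, hm, hle⟩ := exists_conj_le_of_card_eq_ppart hUA hcardU
    (Subgroup.zpowers_le.mpr hβ) hT
  have h1 : m * β * m⁻¹ ∈ autInducedBy S R := hle ⟨β, Subgroup.mem_zpowers β, rfl⟩
  have hSI := StrongInv.SI_of_invariant F E hinv
  have h2 := StrongInv.conj_mem_autGroup F E hSI le_rfl hRS m⁻¹ (m * β * m⁻¹)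
    (inv_mem hm) (hUE h1)
  have h3 : m⁻¹ * (m * β * m⁻¹) * m⁻¹⁻¹ = β := by group
  rwa [h3] at h2


/-- The simplicity criterion for the fusion system of a group. -/
theorem main {G : Type*} [Group G] [Finite G] (p : ℕ) [Fact p.Prime] (S : Sylow p G)
    (hS1 : (S : Subgroup G) ≠ ⊥)
    (ha : ∀ T : Subgroup G, (groupFusionSystem (S : Subgroup G)).StronglyClosed T →
      T = ⊥ ∨ T = (S : Subgroup G))
    (hb : autInducedBy ⊤ (S : Subgroup G) =
      ⨆ (R : Subgroup G) (_ : (groupFusionSystem (S : Subgroup G)).IsFullyNormalized R ∧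
        (groupFusionSystem (S : Subgroup G)).IsRadical p R ∧
        (groupFusionSystem (S : Subgroup G)).IsCentric R),
        autInducedBy (Subgroup.closure {g : G | g ∈ Subgroup.normalizer (R : Set G) ∧
          ∃ k : ℕ, orderOf g = p ^ k}) (S : Subgroup G)) :
    (groupFusionSystem (S : Subgroup G)).IsSimple p := by
  have hF : (groupFusionSystem (S : Subgroup G)).IsSaturated p := Cfsg.Agent.S5076.result p S
  have hS : IsPGroup p (S : Subgroup G) := S.isPGroup'
  refine ⟨hF, hS1, ?_⟩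
  intro T E hE
  obtain ⟨⟨hEsat, -, hinv⟩, -⟩ := hE
  rcases ha T hinv.2.1 with hT | hT
  · exact Or.inl hT
  right
  subst hT
  refine ⟨rfl, ?_⟩
  set F := groupFusionSystem (S : Subgroup G) with hFdef
  have hle : E ≤ F := hinv.1
  -- key: `Aut_F(S) ≤ Aut_E(S)`
  have key : F.autGroup (S : Subgroup G) ≤ E.autGroup (S : Subgroup G) := by
    rw [hFdef, Cfsg.Agent.S5076.autGroup_groupFusionSystem (S : Subgroup G) (S : Subgroup G) le_rfl,
      hb]
    apply iSup₂_le
    rintro R ⟨hRfn, -, hRc⟩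
    have hRS : R ≤ (S : Subgroup G) := hRfn.1
    unfold autInducedBy
    rw [Subgroup.closure_le]
    rintro α ⟨g, hgK, hgα⟩
    have hψ : (S : Subgroup G).subtype.comp α.toMonoidHom ∈ F.Hom (S : Subgroup G) :=
      ⟨le_rfl, fun x => (α x).2, g, fun x => hgα x⟩
    rw [SetLike.mem_coe, Fusion.mem_autGroup_iff E le_rfl]
    -- the subgroup of `N_G(R)` inducing elements of `Aut_E(R)`
    have hKle : Subgroup.closure {g : G | g ∈ Subgroup.normalizer (R : Set G) ∧
        ∃ k : ℕ, orderOf g = p ^ k} ≤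
        ((E.autGroup R).comap (conjAutHom R)).map (Subgroup.normalizer (R : Set G)).subtype := by
      rw [Subgroup.closure_le]
      rintro g' ⟨hg'N, k, hk⟩
      refine ⟨⟨g', hg'N⟩, ?_, rfl⟩
      rw [SetLike.mem_coe, Subgroup.mem_comap]
      apply pElement_mem p hS F hF E hinv hRfn _ _ k
      · rw [← map_pow]
        have : (⟨g', hg'N⟩ : Subgroup.normalizer (R : Set G)) ^ p ^ k = 1 := by
          apply Subtype.ext
          show g' ^ p ^ k = 1
          rw [← hk]; exact pow_orderOf_eq_one g'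
        rw [this, map_one]
      · rw [Fusion.mem_autGroup_iff F hRS]
        refine ⟨hRS, fun x => hRS (conjAutHom R ⟨g', hg'N⟩ x).2, g', fun x => rfl⟩
    obtain ⟨n, hn, hng⟩ := hKle hgK
    rw [SetLike.mem_coe, Subgroup.mem_comap, Fusion.mem_autGroup_iff E hRS] at hn
    apply Fusion.mem_of_restrict_centric_mem p hS F hF E hEsat hle (S : Subgroup G) _ hψ _ R hRS hRc
      _ rfl
    convert hn using 1
    ext x
    show ((α ⟨x.1, hRS x.2⟩ : (S : Subgroup G)) : G) = n.1 * x * n.1⁻¹
    rw [hgα]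
    have : n.1 = g := hng
    rw [this]
  intro P
  apply Set.Subset.antisymm (hle P)
  intro φ hφ
  have hP : P ≤ (S : Subgroup G) := Fusion.src_le F hφ
  obtain ⟨α, hα, φ₀, hφ₀, hv⟩ := hinv.2.2.2 P hP φ hφ
  have hα' := (Fusion.mem_autGroup_iff E le_rfl α).mp (key hα)
  have hφ₀S : ∀ x : P, φ₀ x ∈ (S : Subgroup G) := fun x => Fusion.map_mem E hφ₀ x
  have hc := E.comp_mem hφ₀ hα' hφ₀S
  convert hc using 1
  ext x
  exact hv x (hφ₀S x)

end Cfsg.Agent.Lead.SimpCrit
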