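import Mathlib
import Cfsg.Prelude.Def_FusionSystem
import Cfsg.Agent.Lead.SimpleCrit
import Cfsg.Agent.Lead.FusionDihedralTop
import Cfsg.Agent.Lead.DihedralSylow
import Cfsg.Agent.Helper2.StrEmb

set_option autoImplicit false

namespace Cfsg.Agent.Lead.SimpCrit

open Cfsg Cfsg.FusionSystem Cfsg.Agent.Lead

/-- In a saturated system whose `Aut_F(S)` is a `p`-group, `Aut_F(S) = Inn(S)`. -/
theorem autGroup_eq_inn_of_isPGroup {Ω : Type*} [Group Ω] {S : Subgroup Ω} [Finite S] (p : ℕ)
    [Fact p.Prime] (F : FusionSystem S) (hF : F.IsSaturated p) (hA : IsPGroup p (F.autGroup S)) :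
    F.autGroup S = Inn S := by
  obtain ⟨-, R, hR⟩ := Fusion.top_fullyAutomized p F hF
  have htop : (⊤ : Subgroup (F.autGroup S)) = R :=
    R.is_maximal' (hA.to_subgroup _) le_top
  have hle1 : F.autGroup S ≤ autInducedBy S S := by
    intro α hα
    have h1 : (⟨α, hα⟩ : F.autGroup S) ∈ (⊤ : Subgroup (F.autGroup S)) := Subgroup.mem_top _
    rw [htop, hR, Subgroup.mem_subgroupOf] at h1
    exact h1
  have hle2 : autInducedBy S S ≤ Inn S := by
    intro α hα
    rw [mem_autInducedBy_iff] at hα
    obtain ⟨g, hg, hα⟩ := hα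
    refine ⟨⟨g, hg⟩, ?_⟩
    ext x
    rw [hα]
    rfl
  apply le_antisymm (hle1.trans hle2)
  exact (Fusion.inn_le_autInducedBy le_rfl).trans (Fusion.autInducedBy_le_autGroup F le_rfl)

/-- Hypothesis (b) of the simplicity criterion holds when `Aut_G(S) = Inn(S)`. -/
theorem hb_of_autGroup_eq_inn {G : Type*} [Group G] [Finite G] (p : ℕ) [Fact p.Prime] (S : Sylow p G)
    (h : (groupFusionSystem (S : Subgroup G)).autGroup (S : Subgroup G) = Inn (S : Subgroup G)) :
    autInducedBy ⊤ (S : Subgroup G) =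
      ⨆ (R : Subgroup G) (_ : (groupFusionSystem (S : Subgroup G)).IsFullyNormalized R ∧
        (groupFusionSystem (S : Subgroup G)).IsRadical p R ∧
        (groupFusionSystem (S : Subgroup G)).IsCentric R),
        autInducedBy (Subgroup.closure {g : G | g ∈ Subgroup.normalizer (R : Set G) ∧
          ∃ k : ℕ, orderOf g = p ^ k}) (S : Subgroup G) := by
  set F := groupFusionSystem (S : Subgroup G) with hFdef
  have hS : IsPGroup p (S : Subgroup G) := S.isPGroup'
  apply le_antisymm
  · rw [← Cfsg.Agent.S5076.autGroup_groupFusionSystem (S : Subgroup G) (S : Subgroup G) le_rfl, h]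
    have hfn : F.IsFullyNormalized (S : Subgroup G) := by
      refine ⟨le_rfl, fun Q hQ => ?_⟩
      rw [Fusion.isConj_top_eq F hQ]
    have hInnp : IsPGroup p (Inn (S : Subgroup G)) :=
      hS.of_surjective (MulAut.conj : (S : Subgroup G) →* MulAut (S : Subgroup G)).rangeRestrict
        (MonoidHom.rangeRestrict_surjective _)
    have hrad : F.IsRadical p (S : Subgroup G) := by
      refine ⟨le_rfl, ?_⟩
      have hAp : IsPGroup p (F.autGroup (S : Subgroup G)) := by
        rw [hFdef, h]; exact hInnp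
      have htop : pCore p (F.autGroup (S : Subgroup G)) = ⊤ := by
        apply le_antisymm le_top
        apply le_sSup
        exact ⟨inferInstance, hAp.to_subgroup _⟩
      rw [htop, ← MonoidHom.range_eq_map, Subgroup.range_subtype]
      exact h
    refine le_iSup₂_of_le (S : Subgroup G) ⟨hfn, hrad, Fusion.top_isCentric F⟩ ?_
    rintro α ⟨x, rfl⟩
    rw [mem_autInducedBy_iff]
    refine ⟨x.1, Subgroup.subset_closure ⟨Subgroup.le_normalizer x.2, ?_⟩, fun y => rfl⟩
    obtain ⟨k, hk⟩ := (IsPGroup.iff_orderOf.mp hS) x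
    exact ⟨k, by rw [← hk, Subgroup.orderOf_coe]⟩
  · apply iSup₂_le
    intro R _
    unfold autInducedBy
    apply Subgroup.closure_mono
    rintro α ⟨g, -, hg⟩
    exact ⟨g, Subgroup.mem_top g, hg⟩


/-- The `2`-fusion system of a finite group with dihedral Sylow `2`-subgroups of order at least `8`
and a single class of involutions is simple. -/
theorem isSimple_of_dihedral {G : Type*} [Group G] [Finite G] (S : Sylow 2 G) (k : ℕ) (hk : 2 ≤ k)
    (e : (S : Subgroup G) ≃* DihedralGroup (2 ^ k))
    (hconj : ∀ x y : G, orderOf x = 2 → orderOf y = 2 → IsConj x y) :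
    (groupFusionSystem (S : Subgroup G)).IsSimple 2 := by
  haveI : Fact (Nat.Prime 2) := ⟨Nat.prime_two⟩
  have : NeZero (2 ^ k) := ⟨by positivity⟩
  set F := groupFusionSystem (S : Subgroup G) with hFdef
  have hF : F.IsSaturated 2 := Cfsg.Agent.S5076.result 2 S
  have hS : IsPGroup 2 (S : Subgroup G) := S.isPGroup'
  have hAut2 : IsPGroup 2 (MulAut (S : Subgroup G)) := by
    have h := isPGroup_two_mulAut_of_odd_trivial
      (fun β t ht hβ => dihedral_aut_odd_trivial k hk β t ht hβ)
    exact h.of_equiv (MulAut.congr e).symm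
  have hinn := autGroup_eq_inn_of_isPGroup 2 F hF (hAut2.to_subgroup _)
  have hcardS : Nat.card (S : Subgroup G) = 2 * 2 ^ k := by
    rw [Nat.card_congr e.toEquiv, DihedralGroup.nat_card]
  apply main 2 S ?_ ?_ (hb_of_autGroup_eq_inn 2 S hinn)
  · intro h
    rw [h, Subgroup.card_bot] at hcardS
    have : 0 < 2 ^ k := by positivity
    omega
  · intro T hT
    by_cases hT0 : T = ⊥
    · exact Or.inl hT0
    right
    apply le_antisymm hT.1
    have hTp : IsPGroup 2 T := hS.to_le hT.1
    obtain ⟨j, hj⟩ := IsPGroup.iff_card.mp hTp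
    have hj0 : j ≠ 0 := by
      rintro rfl
      rw [pow_zero] at hj
      exact hT0 (Subgroup.card_eq_one.mp hj)
    have heven : Even (Nat.card T) := by
      rw [hj]
      exact (Nat.even_pow.mpr ⟨even_two, hj0⟩)
    obtain ⟨t, htT, ht2⟩ := Cfsg.Agent.Helper2.exists_invol_of_even_card T heven
    have hinvol : ∀ s : G, s ∈ (S : Subgroup G) → orderOf s = 2 → s ∈ T := by
      intro s hsS hs2
      obtain ⟨g, hg⟩ := isConj_iff.mp (hconj t s ht2 hs2)
      have hle : Subgroup.zpowers t ≤ T := Subgroup.zpowers_le.mpr htT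
      have hφ : conjHom (Subgroup.zpowers t) g ∈ F.Hom (Subgroup.zpowers t) := by
        refine ⟨hle.trans hT.1, ?_, g, fun x => rfl⟩
        rintro ⟨x, hx⟩
        obtain ⟨i, rfl⟩ := Subgroup.mem_zpowers_iff.mp hx
        show g * t ^ i * g⁻¹ ∈ (S : Subgroup G)
        rw [← conj_zpow, hg]
        exact Subgroup.zpow_mem _ hsS i
      have := hT.2 (Subgroup.zpowers t) hle _ hφ ⟨t, Subgroup.mem_zpowers t⟩
      have h2 : conjHom (Subgroup.zpowers t) g ⟨t, Subgroup.mem_zpowers t⟩ = s := hg
      rwa [h2] at this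
    have hsr : ∀ i : ZMod (2 ^ k), ((e.symm (DihedralGroup.sr i) : (S : Subgroup G)) : G) ∈ T := by
      intro i
      apply hinvol _ (e.symm (DihedralGroup.sr i)).2
      rw [Subgroup.orderOf_coe, MulEquiv.orderOf_eq, DihedralGroup.orderOf_sr]
    intro x hx
    have hx' : (⟨x, hx⟩ : (S : Subgroup G)) = e.symm (e ⟨x, hx⟩) := (e.symm_apply_apply _).symm
    cases hy : e ⟨x, hx⟩ with
    | r i =>
      have h1 : (DihedralGroup.r i : DihedralGroup (2 ^ k)) =
          DihedralGroup.sr 0 * DihedralGroup.sr i := by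
        rw [DihedralGroup.sr_mul_sr, sub_zero]
      rw [hy, h1, map_mul] at hx'
      have h2 : x = ((e.symm (DihedralGroup.sr 0) : (S : Subgroup G)) : G) *
          ((e.symm (DihedralGroup.sr i) : (S : Subgroup G)) : G) := congrArg Subtype.val hx'
      rw [h2]
      exact T.mul_mem (hsr 0) (hsr i)
    | sr i =>
      rw [hy] at hx'
      have h2 : x = ((e.symm (DihedralGroup.sr i) : (S : Subgroup G)) : G) :=
        congrArg Subtype.val hx'
      rw [h2]
      exact hsr i

end Cfsg.Agent.Lead.SimpCrit
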