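import Mathlib
import Cfsg.Prelude.Def_FusionSystem
import Cfsg.Agent.Lead.SimpleCritB
import Cfsg.Agent.Helper8.DkMaxE
import Cfsg.Agent.S0809

set_option autoImplicit false

namespace Cfsg.Agent.Lead.PSL2Fus

open Cfsg Cfsg.FusionSystem Cfsg.Agent.Lead Matrix Subgroup
open Cfsg.Agent.Helper8.Dk Cfsg.Agent.Helper7.SL2 Cfsg.Agent.Helper8.SL2C

variable {F : Type*} [Field F] [Fintype F]

/-- the two dihedral subgroups of `PSL₂(q)`, `q` odd, of orders `q - 1` and `q + 1` -/
theorem exists_dihedral_data (hodd : Fintype.card F % 2 = 1) (h4 : 4 ≤ Fintype.card F) :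
    (∃ (D : Subgroup (ProjectiveSpecialLinearGroup (Fin 2) F)) (m : ℕ),
      Nonempty (D ≃* DihedralGroup m) ∧ 2 * m = Fintype.card F - 1) ∧
    (∃ (D : Subgroup (ProjectiveSpecialLinearGroup (Fin 2) F)) (m : ℕ),
      Nonempty (D ≃* DihedralGroup m) ∧ 2 * m = Fintype.card F + 1) := by
  have hd : Nat.card (center (SpecialLinearGroup (Fin 2) F)) = 2 := by
    rw [card_center_SL2]
    have : 2 ∣ Fintype.card F - 1 := by omega
    exact Nat.gcd_eq_left this
  constructor
  · obtain ⟨t, ht4, ht, w, hw⟩ := exists_split h4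
    have hM : (Tc t).map (ph F) ∈ GT F := Tc_map_mem_GT ht4
    have hN := card_normalizer_Tc_map ht4 hw
    have hcard := card_Tc_map t
    rw [card_Tc_split ht4 ht, hd] at hcard
    exact ⟨_, _, normalizer_GT_dihedral hM hN, hcard⟩
  · obtain ⟨t, ht⟩ := exists_ellt (F := F)
    have ht4 := ellt_sq_ne ht
    obtain ⟨w, hw⟩ := exists_isW ht
    have hM : (Tc t).map (ph F) ∈ GT F := Tc_map_mem_GT ht4
    have hN := card_normalizer_Tc_map ht4 hw
    have hcard := card_Tc_map t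
    rw [card_Tc ht, hd] at hcard
    exact ⟨_, _, normalizer_GT_dihedral hM hN, hcard⟩


theorem arith (q m w N : ℕ) (hN : 2 * N = q * ((2 * m) * (2 * w))) (hq : q % 2 = 1)
    (hw : w % 2 = 1) (h16 : 16 ∣ (2 * m) * (2 * w)) (hm0 : m ≠ 0) :
    ∃ k, 2 ≤ k ∧ 2 ^ k ∣ m ∧ ¬ 2 ^ (k + 1) ∣ m ∧ N.factorization 2 = k + 1 := by
  obtain ⟨k, u, hu, hmk⟩ := Nat.exists_eq_two_pow_mul_odd hm0
  have hu2 : u % 2 = 1 := Nat.odd_iff.mp hu
  refine ⟨k, ?_, ⟨u, hmk⟩, ?_, ?_⟩
  · have h4 : 4 ∣ m * w := by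
      have : (2 * m) * (2 * w) = 4 * (m * w) := by ring
      rw [this] at h16
      have h16' : 4 * 4 ∣ 4 * (m * w) := h16
      exact (Nat.mul_dvd_mul_iff_left (by norm_num)).mp h16'
    have hcop : Nat.Coprime 4 w := by
      have : Nat.Coprime 2 w := by
        rw [Nat.coprime_two_left]; exact Nat.odd_iff.mpr hw
      exact Nat.Coprime.pow_left 2 this
    have h4m : 4 ∣ m := hcop.dvd_of_dvd_mul_right h4
    by_contra hk
    push Not at hk
    interval_cases k
    · rw [pow_zero, one_mul] at hmk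
      omega
    · rw [pow_one] at hmk
      omega
  · rintro ⟨c, hc⟩
    rw [hmk, pow_succ, mul_assoc] at hc
    have := Nat.eq_of_mul_eq_mul_left (by positivity) hc
    omega
  · have hNeq : N = 2 ^ (k + 1) * (q * u * w) := by
      have h1 : 2 * N = 2 * (2 ^ (k + 1) * (q * u * w)) := by
        rw [hN, hmk, pow_succ]; ring
      omega
    have hodd : ¬ 2 ∣ q * u * w := by
      rw [Nat.Prime.dvd_mul Nat.prime_two, Nat.Prime.dvd_mul Nat.prime_two]
      omega
    have hne : q * u * w ≠ 0 := by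
      intro h
      apply hodd
      rw [h]; exact dvd_zero 2
    rw [hNeq, Nat.factorization_mul (by positivity) hne, Nat.factorization_pow]
    simp only [Finsupp.coe_add, Finsupp.coe_smul, Pi.add_apply, Pi.smul_apply, smul_eq_mul]
    rw [Nat.Prime.factorization_self Nat.prime_two, Nat.factorization_eq_zero_of_not_dvd hodd]
    omega

/-- S5317: the `2`-fusion system of `PSL₂(q)`, `q` odd with `q² ≡ 1 mod 16`, is simple. -/
theorem main (hodd : Fintype.card F % 2 = 1) (h16 : 16 ∣ Fintype.card F ^ 2 - 1)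
    (S : Sylow 2 (ProjectiveSpecialLinearGroup (Fin 2) F)) :
    (groupFusionSystem (S : Subgroup (ProjectiveSpecialLinearGroup (Fin 2) F))).IsSimple 2 := by
  haveI : Fact (Nat.Prime 2) := ⟨Nat.prime_two⟩
  have hq2 : 2 ≤ Fintype.card F := Fintype.one_lt_card
  have hq5 : 5 ≤ Fintype.card F := by
    by_contra h
    push Not at h
    interval_cases (Fintype.card F) <;> omega
  have hq1 : 1 ≤ Fintype.card F := by omega
  have hsq := sq_sub_one_eq (Fintype.card F) hq1
  have hd : Nat.card (center (SpecialLinearGroup (Fin 2) F)) = 2 := by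
    rw [card_center_SL2]
    have : 2 ∣ Fintype.card F - 1 := by omega
    exact Nat.gcd_eq_left this
  have hG := card_center_mul_card_PSL2 (F := F)
  rw [hd, hsq] at hG
  -- all involutions are conjugate
  have hconj : ∀ x y : ProjectiveSpecialLinearGroup (Fin 2) F, orderOf x = 2 → orderOf y = 2 →
      IsConj x y := by
    have h4 : 2 ^ 2 ∣ Nat.card (SpecialLinearGroup (Fin 2) F) := by
      rw [card_SL2, hsq]
      have h1 : 2 ∣ Fintype.card F - 1 := by omega
      have h2 : 2 ∣ Fintype.card F + 1 := by omega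
      exact Dvd.dvd.mul_left (Nat.mul_dvd_mul h1 h2) _
    obtain ⟨A, hA⟩ := Sylow.exists_subgroup_card_pow_prime 2 h4
    exact (Cfsg.Agent.S0809.result rfl (Nat.odd_iff.mpr hodd) A hA).2.2.2
  obtain ⟨⟨D₁, m₁, ⟨e₁⟩, hm₁⟩, ⟨D₂, m₂, ⟨e₂⟩, hm₂⟩⟩ := exists_dihedral_data hodd (by omega)
  rw [hsq] at h16
  have hmod : Fintype.card F % 4 = 1 ∨ Fintype.card F % 4 = 3 := by omega
  rcases hmod with hmod | hmod
  · -- the split torus
    obtain ⟨w, hw⟩ : ∃ w, 2 * w = Fintype.card F + 1 := ⟨(Fintype.card F + 1) / 2, by omega⟩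
    have hwodd : w % 2 = 1 := by omega
    have hm0 : m₁ ≠ 0 := by omega
    obtain ⟨k, hk2, hkm, hkm', hfac⟩ := arith (Fintype.card F) m₁ w _
      (by rw [hG, hm₁, hw]) hodd hwodd (by rw [hm₁, hw]; exact h16) hm0
    haveI : NeZero m₁ := ⟨hm0⟩
    have hcard : Nat.card S = 2 ^ (k + 1) := by rw [S.card_eq_multiplicity, hfac]
    obtain ⟨e⟩ := DihSyl.sylow_dihedral S D₁ m₁ k e₁ hcard hkm hkm'
    exact SimpCrit.isSimple_of_dihedral S k hk2 e hconj
  · obtain ⟨w, hw⟩ : ∃ w, 2 * w = Fintype.card F - 1 := ⟨(Fintype.card F - 1) / 2, by omega⟩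
    have hwodd : w % 2 = 1 := by omega
    have hm0 : m₂ ≠ 0 := by omega
    obtain ⟨k, hk2, hkm, hkm', hfac⟩ := arith (Fintype.card F) m₂ w _
      (by rw [hG, hm₂, hw, mul_comm (Fintype.card F - 1)]) hodd hwodd
      (by rw [hm₂, hw, mul_comm]; exact h16) hm0
    haveI : NeZero m₂ := ⟨hm0⟩
    have hcard : Nat.card S = 2 ^ (k + 1) := by rw [S.card_eq_multiplicity, hfac]
    obtain ⟨e⟩ := DihSyl.sylow_dihedral S D₂ m₂ k e₂ hcard hkm hkm'
    exact SimpCrit.isSimple_of_dihedral S k hk2 e hconj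

end Cfsg.Agent.Lead.PSL2Fus
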