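import Mathlib

/-!
Shult–Gross (S3793): the shared interfaces between the pieces of the proof.

* `LinQHyp p`: the linear core.  A `q`-group `Q` normalized by an element `x` with
  `x ^ (p ^ n) = 1`, `x` without fixed points on `Q` and on the module, `Q` faithful: then
  `x ^ (p ^ (n - 1))` centralizes `Q`.
  (The linear theorem for the bridge is `Cfsg.Agent.Helper9.GrossBr.LinHypC`.)
-/

set_option autoImplicit false

namespace Cfsg.Agent.Lead.SG

universe u

/-- the linear core: `x ^ (p ^ (n - 1))` centralizes every `x`-invariant `q`-subgroup acting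
faithfully, when `x` has no fixed points on it and on the module. -/
def LinQHyp (p : ℕ) : Prop :=
  ∀ (k : Type) [Field k] [IsAlgClosed k]
    (Γ : Type u) [Group Γ] [Finite Γ] (W : Type u) [AddCommGroup W] [Module k W]
    [Module.Finite k W] (ρ : Representation k Γ W) (q : ℕ), q.Prime → q ≠ p →
    (p : k) ≠ 0 → (q : k) ≠ 0 →
    ∀ (Q : Subgroup Γ), IsPGroup q Q →
    ∀ (x : Γ) (n : ℕ), 1 ≤ n → x ^ (p ^ n) = 1 →
    (∀ g ∈ Q, x * g * x⁻¹ ∈ Q) →
    (∀ g ∈ Q, x * g * x⁻¹ = g → g = 1) →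
    (∀ g ∈ Q, ρ g = 1 → g = 1) →
    (∀ w : W, ρ x w = w → w = 0) →
    ∀ g ∈ Q, x ^ (p ^ (n - 1)) * g * (x ^ (p ^ (n - 1)))⁻¹ = g

end Cfsg.Agent.Lead.SG
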