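import Cfsg.Agent.Helper2.SymLQC

set_option autoImplicit false
set_option linter.unusedSectionVars false
set_option linter.unusedVariables false

/-! S5666 piece [LQ], the three-dimensional core (lead): for `dim W = 3` and `|F| ≥ 5`, a
reflection-invariant subspace `𝒵` of `End W` containing a non-scalar self-adjoint endomorphism
contains `P f w w` for a nonzero singular vector `w`.  (Companion of helper2's `lq_core_four`.) -/

namespace Cfsg.Agent.Helper2.SymLQ

open Module Cfsg.Agent.Helper8.Tens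

variable {F : Type*} [Field F] {W : Type*} [AddCommGroup W] [Module F W]
  {f : LinearMap.BilinForm F W} {𝒵 : Submodule F (Module.End F W)}

/-- a nonzero vector perpendicular to two given ones, in dimension at least three. -/
theorem exists_perp2 [FiniteDimensional F W] (f : LinearMap.BilinForm F W)
    (h3 : 3 ≤ finrank F W) (a b : W) : ∃ s : W, s ≠ 0 ∧ f s a = 0 ∧ f s b = 0 := by
  set φ : W →ₗ[F] F × F := (f.flip a).prod (f.flip b) with hφ
  have hlt : finrank F (F × F) < finrank F W := by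
    simp only [Module.finrank_prod, Module.finrank_self]
    omega
  have hker := LinearMap.ker_ne_bot_of_finrank_lt hlt (f := φ)
  obtain ⟨y₀, hy₀, hne⟩ := Submodule.exists_mem_ne_zero_of_ne_bot hker
  refine ⟨y₀, hne, ?_⟩
  have h0 : φ y₀ = 0 := LinearMap.mem_ker.mp hy₀
  rw [hφ, LinearMap.prod_apply] at h0
  have h1 := Prod.mk_eq_zero.mp h0
  exact ⟨h1.1, h1.2⟩

/-- a field with at least four elements has a nonzero element whose square is not one. -/
theorem exists_sq_ne_one [Finite F] (hq : 4 ≤ Nat.card F) : ∃ c : F, c ≠ 0 ∧ c * c ≠ 1 := by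
  classical
  haveI := Fintype.ofFinite F
  by_contra hcon
  push Not at hcon
  have hsub : (Finset.univ : Finset F) ⊆ {0, 1, -1} := by
    intro c _
    by_cases hc : c = 0
    · simp [hc]
    · have h1 := hcon c hc
      have h2 : (c - 1) * (c + 1) = 0 := by linear_combination h1
      rcases mul_eq_zero.mp h2 with h3 | h3
      · have : c = 1 := by linear_combination h3
        simp [this]
      · have : c = -1 := by linear_combination h3
        simp [this]
  have h1 := Finset.card_le_card hsub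
  have h2 : ({0, 1, -1} : Finset F).card ≤ 3 := Finset.card_le_three
  rw [Finset.card_univ, ← Nat.card_eq_fintype_card] at h1
  omega

/-- a nonzero `t` with `t² β ≠ α`. -/
theorem exists_t_ne [Finite F] (hq : 4 ≤ Nat.card F) (α : F) {β : F} (hβ : β ≠ 0) :
    ∃ t : F, t ≠ 0 ∧ t * t * β ≠ α := by
  by_contra hcon
  push Not at hcon
  obtain ⟨c, hc0, hc1⟩ := exists_sq_ne_one (F := F) hq
  have h1 := hcon 1 one_ne_zero
  have h2 := hcon c hc0
  have h3 : (c * c - 1) * β = 0 := by linear_combination h2 - h1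
  rcases mul_eq_zero.mp h3 with h4 | h4
  · exact hc1 (by linear_combination h4)
  · exact hβ h4

/-- the rule (K): from `sv y y' ∈ 𝒵` (`y ⊥ y'`, `y'` nonsingular) and `s ⊥ y, y'` with
`f s s ≠ - f y' y'`, get `sv y s ∈ 𝒵`. -/
theorem K_rule (h : Inv f 𝒵) {y y' : W} (hβ : f y' y' ≠ 0) (hyy' : f y y' = 0)
    (hE : sv f y y' ∈ 𝒵) {s : W} (hsy : f s y = 0) (hsy' : f s y' = 0)
    (hN : f s s ≠ - f y' y') : s ∈ Lsp f 𝒵 y := by
  have hy'y : f y' y = 0 := by rw [h.symm, hyy']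
  have hy's : f y' s = 0 := by rw [h.symm, hsy']
  have hE' : sv f y' y ∈ 𝒵 := by rw [sv_comm]; exact hE
  have hv : f (y' + s) (y' + s) ≠ 0 := by
    simp only [map_add, LinearMap.add_apply, hsy', hy's, add_zero, zero_add]
    intro h0
    exact hN (by linear_combination h0)
  have h1 := refl_rule₂ h hE' hv (by simp [hy'y, hsy]) (by simp [hsy']; exact hβ)
  rw [sv_add_left] at h1
  have h2 := 𝒵.sub_mem h1 hE'
  rw [add_sub_cancel_left] at h2
  show sv f y s ∈ 𝒵
  rw [sv_comm]; exact h2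

/-- the rule (K) for every nonsingular `s ⊥ y, y'`, after rescaling `s`. -/
theorem mem_Lsp_of_perp [Finite F] (h : Inv f 𝒵) (hq : 4 ≤ Nat.card F) {y y' : W}
    (hβ : f y' y' ≠ 0) (hyy' : f y y' = 0) (hE : sv f y y' ∈ 𝒵) {s : W} (hsy : f s y = 0)
    (hsy' : f s y' = 0) (hγ : f s s ≠ 0) : s ∈ Lsp f 𝒵 y := by
  by_cases hN : f s s = - f y' y'
  · obtain ⟨c, hc0, hc1⟩ := exists_sq_ne_one (F := F) hq
    have hcs : c • s ∈ Lsp f 𝒵 y := by
      apply K_rule h hβ hyy' hE
      · rw [map_smul, LinearMap.smul_apply, hsy, smul_zero]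
      · rw [map_smul, LinearMap.smul_apply, hsy', smul_zero]
      · simp only [map_smul, LinearMap.smul_apply, smul_eq_mul]
        intro h0
        have h3 : (c * c - 1) * f s s = 0 := by linear_combination h0 - hN
        rcases mul_eq_zero.mp h3 with h4 | h4
        · exact hc1 (by linear_combination h4)
        · exact hγ h4
    have := (Lsp f 𝒵 y).smul_mem c⁻¹ hcs
    rwa [smul_smul, inv_mul_cancel₀ hc0, one_smul] at this
  · exact K_rule h hβ hyy' hE hsy hsy' hN

/-- one pair of an orthogonal basis `e₁, e₂, e₃` of nonsingular vectors with all three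
`sv eᵢ eⱼ ∈ 𝒵`: either a singular vector of the plane `⟨e₁, e₂⟩` works, or
`f e₂ e₂ • P e₁ e₁ - f e₁ e₁ • P e₂ e₂ ∈ 𝒵`. -/
theorem pair_step [Finite F] (h : Inv f 𝒵) (hq : 4 ≤ Nat.card F) {e₁ e₂ e₃ : W}
    (hα : f e₁ e₁ ≠ 0) (hβ : f e₂ e₂ ≠ 0) (hγ : f e₃ e₃ ≠ 0)
    (h12 : f e₁ e₂ = 0) (h13 : f e₁ e₃ = 0) (h23 : f e₂ e₃ = 0)
    (hE12 : sv f e₁ e₂ ∈ 𝒵) (hE31 : sv f e₃ e₁ ∈ 𝒵) (hE32 : sv f e₃ e₂ ∈ 𝒵) :
    (∃ w, w ≠ 0 ∧ f w w = 0 ∧ P f w w ∈ 𝒵) ∨
      f e₂ e₂ • P f e₁ e₁ - f e₁ e₁ • P f e₂ e₂ ∈ 𝒵 := by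
  have h21 : f e₂ e₁ = 0 := by rw [h.symm, h12]
  have h31 : f e₃ e₁ = 0 := by rw [h.symm, h13]
  have h32 : f e₃ e₂ = 0 := by rw [h.symm, h23]
  by_cases hiso : ∃ t : F, f e₁ e₁ + t * t * f e₂ e₂ = 0
  · left
    obtain ⟨t, ht⟩ := hiso
    have hsing : f (e₁ + t • e₂) (e₁ + t • e₂) = 0 := by
      simp only [map_add, map_smul, LinearMap.add_apply, LinearMap.smul_apply, smul_eq_mul,
        h12, h21, mul_zero, add_zero, zero_add]
      linear_combination ht
    refine ⟨e₁ + t • e₂, ?_, hsing, ?_⟩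
    · intro h0
      have h1 := congrArg (fun x => f x e₁) h0
      simp only [map_add, map_smul, LinearMap.add_apply, LinearMap.smul_apply, smul_eq_mul,
        h21, mul_zero, add_zero, map_zero, LinearMap.zero_apply] at h1
      exact hα h1
    · apply P_mem_of_sing h (y := e₃) ?_ hγ hsing ?_
      · rw [sv_add_right, sv_smul_right]
        exact 𝒵.add_mem hE31 (𝒵.smul_mem t hE32)
      · rw [map_add, map_smul, h31, h32, smul_zero, add_zero]
  · right
    push Not at hiso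
    obtain ⟨t, ht0, ht⟩ := exists_t_ne (F := F) hq (f e₁ e₁) hβ
    have hν : f (e₁ + t • e₂) (e₁ + t • e₂) ≠ 0 := by
      simp only [map_add, map_smul, LinearMap.add_apply, LinearMap.smul_apply, smul_eq_mul,
        h12, h21, mul_zero, add_zero, zero_add]
      intro h0
      exact hiso t (by linear_combination h0)
    have h1 := refl_rule h hE12 (isAdj_sv_symm h.symm e₁ e₂) hν
    have e : f (e₁ + t • e₂) (e₁ + t • e₂) • sv f e₁ e₂ (e₁ + t • e₂)
        - f (sv f e₁ e₂ (e₁ + t • e₂)) (e₁ + t • e₂) • (e₁ + t • e₂)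
        = (t * t * f e₂ e₂ - f e₁ e₁) • ((t * f e₂ e₂) • e₁ - f e₁ e₁ • e₂) := by
      simp only [sv_apply, map_add, map_smul, LinearMap.add_apply, LinearMap.smul_apply,
        smul_eq_mul, h12, h21, mul_zero, add_zero, zero_add]
      module
    rw [e] at h1
    have e2 : sv f (e₁ + t • e₂)
        ((t * t * f e₂ e₂ - f e₁ e₁) • ((t * f e₂ e₂) • e₁ - f e₁ e₁ • e₂))
        = (t * t * f e₂ e₂ - f e₁ e₁) •
          ((2 * t) • (f e₂ e₂ • P f e₁ e₁ - f e₁ e₁ • P f e₂ e₂)
            + (t * t * f e₂ e₂ - f e₁ e₁) • sv f e₁ e₂) := by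
      apply LinearMap.ext; intro x
      simp only [sv_apply, P_apply, LinearMap.add_apply, LinearMap.smul_apply,
        LinearMap.sub_apply, map_add, map_sub, map_smul, smul_eq_mul]
      module
    rw [e2] at h1
    have hne : t * t * f e₂ e₂ - f e₁ e₁ ≠ 0 := sub_ne_zero.mpr ht
    have h2 := 𝒵.smul_mem (t * t * f e₂ e₂ - f e₁ e₁)⁻¹ h1
    rw [smul_smul, inv_mul_cancel₀ hne, one_smul] at h2
    have h3 := 𝒵.sub_mem h2 (𝒵.smul_mem (t * t * f e₂ e₂ - f e₁ e₁) hE12)
    rw [add_sub_cancel_right] at h3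
    have h2t : (2 * t : F) ≠ 0 := mul_ne_zero h.two ht0
    have h4 := 𝒵.smul_mem (2 * t : F)⁻¹ h3
    rwa [smul_smul, inv_mul_cancel₀ h2t, one_smul] at h4

/-- **[LQ] core, `dim W = 3`, `|F| ≥ 5`**: a reflection-invariant subspace of `End W` containing
a non-scalar self-adjoint endomorphism contains `P f w w` for a nonzero singular vector `w`. -/
theorem lq_core_three [Finite F] [FiniteDimensional F W] (h : Inv f 𝒵)
    (hnd : ∀ x, (∀ y, f x y = 0) → x = 0) (hb : finrank F W = 3) (hq : 5 ≤ Nat.card F)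
    {Z : Module.End F W} (hZ : Z ∈ 𝒵) (hself : IsAdj f Z Z) (hns : ∀ c : F, Z ≠ c • 1) :
    ∃ w, w ≠ 0 ∧ f w w = 0 ∧ P f w w ∈ 𝒵 := by
  obtain ⟨y, hy, hy''⟩ := exists_noneigen h.symm hnd h.two (by omega) hns
  have hE := refl_rule h hZ hself hy
  obtain ⟨y', hy'def⟩ : ∃ y' : W, y' = f y y • Z y - f (Z y) y • y := ⟨_, rfl⟩
  rw [← hy'def] at hE hy''
  have hyy' : f y y' = 0 := by
    rw [hy'def, map_sub, map_smul, map_smul, smul_eq_mul, smul_eq_mul, h.symm y (Z y)]
    ring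
  have hy'y : f y' y = 0 := by rw [h.symm, hyy']
  by_cases hβ : f y' y' = 0
  · exact ⟨y', hy'', hβ, P_mem_of_sing h hE hy hβ hyy'⟩
  obtain ⟨s, hs0, hsy, hsy'⟩ := exists_perp2 f (by omega) y y'
  have hys : f y s = 0 := by rw [h.symm, hsy]
  have hy's : f y' s = 0 := by rw [h.symm, hsy']
  have hE' : sv f y' y ∈ 𝒵 := by rw [sv_comm]; exact hE
  by_cases hγ : f s s = 0
  · have hsL : s ∈ Lsp f 𝒵 y :=
      K_rule h hβ hyy' hE hsy hsy' (by rw [hγ]; exact fun h0 => hβ (neg_eq_zero.mp h0.symm))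
    exact ⟨s, hs0, hγ, P_mem_of_sing h hsL hy hγ hys⟩
  have hq4 : 4 ≤ Nat.card F := by omega
  have hsL : sv f y s ∈ 𝒵 := mem_Lsp_of_perp h hq4 hβ hyy' hE hsy hsy' hγ
  have hsL' : sv f y' s ∈ 𝒵 := mem_Lsp_of_perp h hq4 hy hy'y hE' hsy' hsy hγ
  have hE31 : sv f s y ∈ 𝒵 := by rw [sv_comm]; exact hsL
  have hE32 : sv f s y' ∈ 𝒵 := by rw [sv_comm]; exact hsL'
  rcases pair_step h hq4 hy hβ hγ hyy' hys hy's hE hE31 hE32 with hdone | hR12
  · exact hdone
  rcases pair_step h hq4 hy hγ hβ hys hyy' hsy' hsL hE' hsL' with hdone | hR13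
  · exact hdone
  obtain ⟨a, b, c, hw0, hw⟩ := exists_sing3 h.symm hy hβ hγ hyy' hys hy's
  refine ⟨_, hw0, hw, ?_⟩
  have hsum : a * a * f y y + b * b * f y' y' + c * c * f s s = 0 := by
    have h1 := hw
    simp only [map_add, map_smul, LinearMap.add_apply, LinearMap.smul_apply, smul_eq_mul,
      hyy', hy'y, hys, hsy, hy's, hsy', mul_zero, add_zero, zero_add] at h1
    linear_combination h1
  have key : f y y • P f (a • y + b • y' + c • s) (a • y + b • y' + c • s)
      = (a * a * f y y + b * b * f y' y' + c * c * f s s) • P f y y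
        - (b * b) • (f y' y' • P f y y - f y y • P f y' y')
        - (c * c) • (f s s • P f y y - f y y • P f s s)
        + f y y • ((a * b) • sv f y y' + (a * c) • sv f y s + (b * c) • sv f y' s) := by
    apply LinearMap.ext; intro x
    simp only [sv_apply, P_apply, LinearMap.add_apply, LinearMap.smul_apply,
      LinearMap.sub_apply, map_add, map_smul, smul_eq_mul]
    module
  rw [hsum, zero_smul, zero_sub] at key
  have hmem : f y y • P f (a • y + b • y' + c • s) (a • y + b • y' + c • s) ∈ 𝒵 := by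
    rw [key]
    refine 𝒵.add_mem (𝒵.sub_mem (𝒵.neg_mem (𝒵.smul_mem _ hR12)) (𝒵.smul_mem _ hR13)) ?_
    exact 𝒵.smul_mem _ (𝒵.add_mem (𝒵.add_mem (𝒵.smul_mem _ hE) (𝒵.smul_mem _ hsL))
      (𝒵.smul_mem _ hsL'))
  have := 𝒵.smul_mem (f y y)⁻¹ hmem
  rwa [smul_smul, inv_mul_cancel₀ hy, one_smul] at this

end Cfsg.Agent.Helper2.SymLQ
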