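import Mathlib
import Cfsg.Agent.Lead.FusionInner
import Cfsg.Agent.Lead.FusionInnerSat
import Cfsg.Agent.Lead.FusionExt
import Cfsg.Agent.Lead.FusionInvariant
import Cfsg.Agent.Lead.FusionNormModel
import Cfsg.Agent.Lead.ModelH

set_option autoImplicit false

/-!
Glauberman-Thompson for fusion systems, part A: the predicates `NP` (all automorphisms of the system
normalizing `Q` have `p`-power order) and `Inner`, and their first properties.
-/

namespace Cfsg.Agent.Lead.GlTh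

open Cfsg Cfsg.FusionSystem Cfsg.Agent.Lead

variable {Ω : Type*} [Group Ω] {S : Subgroup Ω}

/-- Every automorphism in the system of a subgroup `P` with `Q ≤ P ≤ N_S(Q)` that normalizes `Q` has
`p`-power order. -/
def NP (p : ℕ) (F : FusionSystem S) (Q : Subgroup Ω) : Prop :=
  ∀ P : Subgroup Ω, Q ≤ P → P ≤ normalizerIn S Q → ∀ α ∈ F.autGroup P,
    (Q.subgroupOf P).map α.toMonoidHom = Q.subgroupOf P → ∃ k : ℕ, α ^ (p ^ k) = 1

/-- All automizers consist of elements of `p`-power order. -/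
def Inner (p : ℕ) (F : FusionSystem S) : Prop :=
  ∀ P : Subgroup Ω, P ≤ S → ∀ α ∈ F.autGroup P, ∃ k : ℕ, α ^ (p ^ k) = 1

theorem inner_iff_isPGroup (p : ℕ) (F : FusionSystem S) :
    Inner p F ↔ ∀ P : Subgroup Ω, P ≤ S → IsPGroup p (F.autGroup P) := by
  constructor
  · intro h P hP α
    obtain ⟨k, hk⟩ := h P hP α.1 α.2
    exact ⟨k, Subtype.ext (by rw [Subgroup.coe_pow, hk]; rfl)⟩
  · intro h P hP α hα
    obtain ⟨k, hk⟩ := h P hP ⟨α, hα⟩
    refine ⟨k, ?_⟩
    have := congrArg Subtype.val hk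
    rwa [Subgroup.coe_pow] at this

theorem np_of_inner {p : ℕ} {F : FusionSystem S} (h : Inner p F) (Q : Subgroup Ω) : NP p F Q :=
  fun P _ hPN α hα _ => h P (hPN.trans inf_le_left) α hα

/-- The inner system is characterised by `Inner`. -/
theorem inner_iff_hom [Finite S] (p : ℕ) [Fact p.Prime] (hS : IsPGroup p S) (F : FusionSystem S)
    (hF : F.IsSaturated p) :
    Inner p F ↔ ∀ P : Subgroup Ω, F.Hom P = (innerFusionSystem S).Hom P := by
  constructor
  · intro h
    have h1 := Fusion.eq_inner_of_autGroup_isPGroup p hS F hF ((inner_iff_isPGroup p F).mp h)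
    intro P
    rw [h1]
  · intro h
    rw [inner_iff_isPGroup]
    intro P _
    have h1 : F.autGroup P = (innerFusionSystem S).autGroup P := by
      unfold FusionSystem.autGroup
      rw [h P]
    rw [h1]
    exact (Fusion.isPGroup_autInducedBy p hS P).to_le (Fusion.inner_autGroup_le S P)

/-- Powers of an automorphism restrict to powers. -/
theorem pow_restrict {P R : Subgroup Ω} (hPR : P ≤ R) (α : MulAut P) (β : MulAut R)
    (h : ∀ x : P, ((β (Subgroup.inclusion hPR x) : R) : Ω) = ((α x : P) : Ω)) (n : ℕ) (x : P) :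
    (((β ^ n) (Subgroup.inclusion hPR x) : R) : Ω) = (((α ^ n) x : P) : Ω) := by
  induction n generalizing x with
  | zero => rfl
  | succ n ih =>
    rw [pow_succ', pow_succ', MulAut.mul_apply, MulAut.mul_apply]
    have h1 : (β ^ n) (Subgroup.inclusion hPR x) = Subgroup.inclusion hPR ((α ^ n) x) :=
      Subtype.ext (ih x)
    rw [h1, h]

theorem pow_eq_one_of_restrict {P R : Subgroup Ω} (hPR : P ≤ R) (α : MulAut P) (β : MulAut R)
    (h : ∀ x : P, ((β (Subgroup.inclusion hPR x) : R) : Ω) = ((α x : P) : Ω)) {n : ℕ}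
    (hn : β ^ n = 1) : α ^ n = 1 := by
  ext x
  have h1 := pow_restrict hPR α β h n x
  rw [hn] at h1
  exact h1.symm

/-- An extension to `P ⊔ U` of an automorphism of `P` carrying `U` to `U` is an automorphism. -/
theorem exists_aut_sup [Finite S] (F : FusionSystem S) {P U : Subgroup Ω} (α : MulAut P)
    (ψ : ↥(P ⊔ U) →* Ω) (hψ : ψ ∈ F.Hom (P ⊔ U))
    (hψP : ∀ x : P, ψ (Subgroup.inclusion le_sup_left x) = ((α x : P) : Ω))
    (hψU : (U.subgroupOf (P ⊔ U)).map ψ = U) :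
    ∃ β ∈ F.autGroup (P ⊔ U),
      (∀ x : P, ((β (Subgroup.inclusion le_sup_left x) : ↥(P ⊔ U)) : Ω) = ((α x : P) : Ω)) ∧
      (U.subgroupOf (P ⊔ U)).map β.toMonoidHom = U.subgroupOf (P ⊔ U) := by
  have hPU : P ⊔ U ≤ S := Fusion.src_le F hψ
  haveI : Finite ↥(P ⊔ U) := Fusion.finite_of_le hPU
  have hle : ψ.range ≤ P ⊔ U := by
    rintro _ ⟨z, rfl⟩
    apply Fusion.sup_map_mem ψ (P ⊔ U)
    · intro x
      rw [hψP]
      exact (le_sup_left : P ≤ P ⊔ U) (α x).2
    · intro x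
      have : ψ (Subgroup.inclusion le_sup_right x) ∈ (U.subgroupOf (P ⊔ U)).map ψ := by
        refine ⟨_, ?_, rfl⟩
        rw [SetLike.mem_coe, Subgroup.mem_subgroupOf]
        exact x.2
      rw [hψU] at this
      exact (le_sup_right : U ≤ P ⊔ U) this
  have hr : ψ.range = P ⊔ U := by
    apply Subgroup.eq_of_le_of_card_ge hle
    rw [Nat.card_congr (MonoidHom.ofInjective (F.injective_of_mem hψ)).toEquiv]
  obtain ⟨β, hβ, hβx⟩ := Fusion.exists_aut_of_range_eq F hψ hr
  refine ⟨β, hβ, fun x => by rw [hβx, hψP], ?_⟩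
  apply Fusion.map_aut_eq_of_le
  rintro _ ⟨x, hx, rfl⟩
  rw [SetLike.mem_coe, Subgroup.mem_subgroupOf] at hx
  rw [Subgroup.mem_subgroupOf]
  show ((β x : ↥(P ⊔ U)) : Ω) ∈ U
  rw [hβx]
  have : ψ x ∈ (U.subgroupOf (P ⊔ U)).map ψ := by
    refine ⟨x, ?_, rfl⟩
    rw [SetLike.mem_coe, Subgroup.mem_subgroupOf]
    exact hx
  rwa [hψU] at this

/-- If `U` is normal in the system, `U' ≤ U` is normal in `S` and invariant under the automorphisms
normalizing `U`, and `NP` holds for `U'`, then the system is inner. -/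
theorem inner_of_np_normal' [Finite S] {p : ℕ} (F : FusionSystem S) {U U' : Subgroup Ω}
    (hU : F.IsNormal U) (hU'U : U' ≤ U) (hU'S : S ≤ Subgroup.normalizer (U' : Set Ω))
    (hinv : ∀ P : Subgroup Ω, U ≤ P → P ≤ S → ∀ α ∈ F.autGroup P,
      (U.subgroupOf P).map α.toMonoidHom = U.subgroupOf P →
      (U'.subgroupOf P).map α.toMonoidHom = U'.subgroupOf P)
    (hnp : NP p F U') : Inner p F := by
  intro P hP α hα
  have hα' := (Fusion.mem_autGroup_iff F hP α).mp hα
  obtain ⟨ψ, hψ, hψP, hψU⟩ := hU.2 P _ hα'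
  obtain ⟨β, hβ, hβP, hβU⟩ := exists_aut_sup F α ψ hψ hψP hψU
  have hPU : P ⊔ U ≤ S := Fusion.src_le F hψ
  obtain ⟨k, hk⟩ := hnp (P ⊔ U) (hU'U.trans le_sup_right) (le_inf hPU (hPU.trans hU'S)) β hβ
    (hinv (P ⊔ U) le_sup_right hPU β hβ hβU)
  exact ⟨k, pow_eq_one_of_restrict le_sup_left α β hβP hk⟩

theorem inner_of_np_normal [Finite S] {p : ℕ} (F : FusionSystem S) {U : Subgroup Ω}
    (hU : F.IsNormal U) (hnp : NP p F U) : Inner p F :=
  inner_of_np_normal' F hU le_rfl (Model.le_normalizer_of_isNormal F hU)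
    (fun _ _ _ _ _ h => h) hnp

/-- Automizers of a subsystem. -/
theorem autGroup_mono {T : Subgroup Ω} (E : FusionSystem T) (F : FusionSystem S)
    (h : ∀ P : Subgroup Ω, E.Hom P ⊆ F.Hom P) (P : Subgroup Ω) :
    E.autGroup P ≤ F.autGroup P := by
  unfold FusionSystem.autGroup
  apply Subgroup.closure_mono
  intro α hα
  exact h P hα

theorem normalizerSystem_hom_subset (F : FusionSystem S) {Q : Subgroup Ω}
    (E : FusionSystem (normalizerIn S Q)) (hE : F.IsNormalizerSystem Q E) (P : Subgroup Ω) :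
    E.Hom P ⊆ F.Hom P := by
  intro φ hφ
  rw [hE P] at hφ
  exact hφ.1

/-- `NP` for `Q` is equivalent to the normalizer system of `Q` being inner. -/
theorem np_iff_normalizer_inner [Finite S] {p : ℕ} (F : FusionSystem S) {Q : Subgroup Ω}
    (hQS : Q ≤ S) (E : FusionSystem (normalizerIn S Q)) (hE : F.IsNormalizerSystem Q E) :
    NP p F Q ↔ Inner p E := by
  have hQN : Q ≤ normalizerIn S Q := Fusion.le_normalizerIn hQS
  constructor
  · intro h P hP α hα
    have hα' := (Fusion.mem_autGroup_iff E hP α).mp hα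
    rw [hE P] at hα'
    obtain ⟨-, -, -, ψ, hψ, hψP, hψQ⟩ := hα'
    obtain ⟨β, hβ, hβP, hβQ⟩ := exists_aut_sup F α ψ hψ hψP hψQ
    obtain ⟨k, hk⟩ := h (P ⊔ Q) le_sup_right (sup_le hP hQN) β hβ hβQ
    exact ⟨k, pow_eq_one_of_restrict le_sup_left α β hβP hk⟩
  · intro h P hQP hPN α hα hαQ
    have hPS : P ≤ S := hPN.trans inf_le_left
    apply h P hPN α
    rw [Fusion.mem_autGroup_iff E hPN α, hE P]
    have hα' := (Fusion.mem_autGroup_iff F hPS α).mp hα
    refine ⟨hα', hPN, fun x => hPN (α x).2, ?_⟩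
    have heq : P = P ⊔ Q := (sup_eq_left.mpr hQP).symm
    obtain ⟨ψ, hψ, hψx⟩ := Fusion.exists_hom_of_eq F heq hα'
    refine ⟨ψ, hψ, fun x => hψx x.1 x.2 _, ?_⟩
    ext y
    constructor
    · rintro ⟨z, hz, rfl⟩
      rw [SetLike.mem_coe, Subgroup.mem_subgroupOf] at hz
      rw [hψx z.1 (hQP hz) z.2]
      have : α ⟨z.1, hQP hz⟩ ∈ (Q.subgroupOf P).map α.toMonoidHom :=
        ⟨_, by rw [SetLike.mem_coe, Subgroup.mem_subgroupOf]; exact hz, rfl⟩
      rw [hαQ, Subgroup.mem_subgroupOf] at this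
      exact this
    · intro hy
      have : (⟨y, hQP hy⟩ : P) ∈ (Q.subgroupOf P).map α.toMonoidHom := by
        rw [hαQ, Subgroup.mem_subgroupOf]; exact hy
      obtain ⟨x, hx, hxy⟩ := this
      rw [SetLike.mem_coe, Subgroup.mem_subgroupOf] at hx
      refine ⟨⟨x.1, heq ▸ x.2⟩, ?_, ?_⟩
      · rw [SetLike.mem_coe, Subgroup.mem_subgroupOf]; exact hx
      · rw [hψx x.1 x.2]
        exact congrArg Subtype.val hxy

end Cfsg.Agent.Lead.GlTh
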