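import Mathlib
import Cfsg.Agent.Lead.GlThA
import Cfsg.Agent.Lead.FusionSat2

set_option autoImplicit false

/-!
Glauberman-Thompson for fusion systems, part B: transport of the failure of `NP` to a fully
normalized conjugate.
-/

namespace Cfsg.Agent.Lead.GlTh

open Cfsg Cfsg.FusionSystem Cfsg.Agent.Lead

variable {Ω : Type*} [Group Ω] {S : Subgroup Ω}

theorem exists_fullyNormalized_np [Finite S] (p : ℕ) [Fact p.Prime] (hS : IsPGroup p S)
    (F : FusionSystem S) (hF : F.IsSaturated p) {Q : Subgroup Ω} (hQS : Q ≤ S) :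
    ∃ Q' : Subgroup Ω, F.IsFullyNormalized Q' ∧ Nat.card Q' = Nat.card Q ∧
      Nat.card (normalizerIn S Q) ≤ Nat.card (normalizerIn S Q') ∧ (NP p F Q' → NP p F Q) := by
  obtain ⟨Q', hconj, hfn⟩ := Fusion.exists_isConj_fullyNormalized F hQS
  have h12 := Fusion.fullyCentralized_fullyAutomized_of_fullyNormalized p hS F hF hfn
  have hrec := Fusion.receptive_of_fullyCentralized p hS F hF h12.1
  obtain ⟨ρ, hρ, hρN, hρQ⟩ := Fusion.exists_hom_normalizerIn p hS F h12.2 hrec hconj
  have hρinj := F.injective_of_mem hρ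
  refine ⟨Q', hfn, (Fusion.card_eq_of_isConj F hconj).symm, hfn.2 Q (Fusion.isConj_symm F hconj), ?_⟩
  intro hnp P hQP hPN α hα hαQ
  have hPS : P ≤ S := hPN.trans inf_le_left
  set φ : P →* Ω := ρ.comp (Subgroup.inclusion hPN) with hφdef
  have hφ : φ ∈ F.Hom P := Fusion.restrict_mem F hρ hPN
  have hφinj := F.injective_of_mem hφ
  set e := Fusion.equivOfRange φ hφinj rfl with he
  have hα' := Fusion.congr_mem_autGroup F hφ rfl α hα
  have hrS : φ.range ≤ S := Fusion.range_le F hφ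
  haveI : Finite ↥φ.range := Fusion.finite_of_le hrS
  have hQ'r : Q' ≤ φ.range := by
    intro y hy
    rw [← hρQ] at hy
    obtain ⟨z, hz, rfl⟩ := hy
    rw [SetLike.mem_coe, Subgroup.mem_subgroupOf] at hz
    exact ⟨⟨z.1, hQP hz⟩, rfl⟩
  have hrN : φ.range ≤ normalizerIn S Q' := by
    rintro _ ⟨x, rfl⟩
    exact hρN _
  have hinvQ : (Q'.subgroupOf φ.range).map (MulAut.congr e α).toMonoidHom = Q'.subgroupOf φ.range := by
    apply Fusion.map_aut_eq_of_le
    rintro _ ⟨y, hy, rfl⟩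
    rw [SetLike.mem_coe, Subgroup.mem_subgroupOf] at hy
    rw [Subgroup.mem_subgroupOf]
    show ((e (α (e.symm y)) : φ.range) : Ω) ∈ Q'
    rw [he, Fusion.equivOfRange_coe]
    have hxQ : ((e.symm y : P) : Ω) ∈ Q := by
      have hy' := hy
      rw [← hρQ] at hy'
      obtain ⟨z, hz, hzy⟩ := hy'
      rw [SetLike.mem_coe, Subgroup.mem_subgroupOf] at hz
      have h1 : φ (e.symm y) = y := Fusion.map_equivOfRange_symm φ hφinj rfl y
      have h2 : ρ (Subgroup.inclusion hPN (e.symm y)) = ρ z := by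
        rw [hzy]
        exact h1
      have h3 := hρinj h2
      have h4 : ((e.symm y : P) : Ω) = z.1 := congrArg Subtype.val h3
      rw [h4]
      exact hz
    have hαx : ((α (e.symm y) : P) : Ω) ∈ Q := by
      have : α (e.symm y) ∈ (Q.subgroupOf P).map α.toMonoidHom :=
        ⟨_, by rw [SetLike.mem_coe, Subgroup.mem_subgroupOf]; exact hxQ, rfl⟩
      rw [hαQ, Subgroup.mem_subgroupOf] at this
      exact this
    rw [← hρQ]
    refine ⟨Subgroup.inclusion hPN (α (e.symm y)), ?_, rfl⟩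
    rw [SetLike.mem_coe, Subgroup.mem_subgroupOf]
    exact hαx
  obtain ⟨k, hk⟩ := hnp φ.range hQ'r hrN _ hα' hinvQ
  refine ⟨k, ?_⟩
  rw [← map_pow] at hk
  exact (MulAut.congr e).injective (hk.trans (map_one _).symm)

end Cfsg.Agent.Lead.GlTh
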