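import Mathlib
import Cfsg.Prelude.Def_FusionSystem
import Cfsg.Agent.Lead.Fusion
import Cfsg.Agent.Lead.FusionAut
import Cfsg.Agent.Lead.FusionInner

set_option autoImplicit false

namespace Cfsg.Agent.Lead

open Cfsg Cfsg.FusionSystem

variable {Ω : Type*} [Group Ω] {S : Subgroup Ω}

/-- A `p'`-automorphism `β` of a `p`-group with `β x = x z` and `β z = z` has `z = 1`. -/
theorem eq_one_of_coprime_aut {P : Type*} [Group P] (p : ℕ) [Fact p.Prime] (hP : IsPGroup p P)
    (β : MulAut P) (hβ : (orderOf β).Coprime p) (x z : P) (hx : β x = x * z) (hz : β z = z) :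
    z = 1 := by
  have hpow : ∀ k : ℕ, (β ^ k) x = x * z ^ k := by
    intro k
    induction k with
    | zero => simp
    | succ k ih =>
      rw [pow_succ', MulAut.mul_apply, ih, map_mul, map_pow, hx, hz, pow_succ, mul_assoc]
      congr 1
      exact (pow_mul_comm' z k).symm
  have h1 := hpow (orderOf β)
  rw [pow_orderOf_eq_one, MulAut.one_apply] at h1
  have h2 : z ^ orderOf β = 1 := by
    have := mul_left_cancel (a := x) (b := 1) (c := z ^ orderOf β) (by rw [mul_one]; exact h1)
    exact this.symm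
  obtain ⟨j, hj⟩ := hP z
  have h3 : orderOf z ∣ p ^ j := orderOf_dvd_of_pow_eq_one hj
  have h4 : orderOf z ∣ orderOf β := orderOf_dvd_of_pow_eq_one h2
  have h5 : (orderOf z).Coprime (orderOf z) :=
    Nat.Coprime.coprime_dvd_left h4 (Nat.Coprime.coprime_dvd_right h3 (Nat.Coprime.pow_right j hβ))
  rw [Nat.coprime_self] at h5
  exact orderOf_eq_one_iff.mp h5

/-- A finite group in which every element of order prime to `p` is trivial is a `p`-group. -/
theorem isPGroup_of_coprime_eq_one {A : Type*} [Group A] [Finite A] (p : ℕ) [Fact p.Prime]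
    (h : ∀ β : A, (orderOf β).Coprime p → β = 1) : IsPGroup p A := by
  intro α
  have hpos : 0 < orderOf α := orderOf_pos α
  obtain ⟨k, m, hm, hkm⟩ := Nat.exists_eq_pow_mul_and_not_dvd hpos.ne' p (Fact.out : p.Prime).ne_one
  refine ⟨k, ?_⟩
  apply h
  have hcop : m.Coprime p := ((Fact.out : p.Prime).coprime_iff_not_dvd.mpr hm).symm
  have h1 : orderOf (α ^ p ^ k) = m := by
    rw [orderOf_pow' α (pow_pos (Fact.out : p.Prime).pos k).ne', hkm]
    rw [Nat.gcd_eq_right (Dvd.intro _ rfl)]
    exact Nat.mul_div_cancel_left m (pow_pos (Fact.out : p.Prime).pos k)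
  rw [h1]
  exact hcop

theorem Fusion.eq_inner_of_focal_chain [Finite S] (p : ℕ) [Fact p.Prime] (hS : IsPGroup p S)
    (F : FusionSystem S) (hF : F.IsSaturated p) (n : ℕ) (Q : Fin (n + 1) → Subgroup Ω)
    (hQ0 : Q 0 = S) (hQn : Q (Fin.last n) = ⊥)
    (hstep : ∀ i : Fin n, Subgroup.closure {y : Ω | ∃ x ∈ Q i.castSucc,
      ∃ φ ∈ F.Hom (Subgroup.zpowers x), y = x⁻¹ * φ ⟨x, Subgroup.mem_zpowers x⟩} ≤ Q i.succ) :
    F = innerFusionSystem S := by
  apply Fusion.eq_inner_of_autGroup_isPGroup p hS F hF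
  intro P hPS
  have : Finite P := Fusion.finite_of_le hPS
  have : Finite (MulAut P) := inferInstance
  have hPp : IsPGroup p P := hS.to_le hPS
  apply isPGroup_of_coprime_eq_one
  intro β hβ
  have hβ' : (orderOf (β : MulAut P)).Coprime p := by
    rwa [Subgroup.orderOf_coe]
  have hβF := (Fusion.mem_autGroup_iff F hPS β.1).mp β.2
  have key : ∀ i : Fin (n + 1), ∀ x : P, (x : Ω) ∈ Q i → (β : MulAut P) x = x := by
    intro i
    induction i using Fin.reverseInduction with
    | last =>
      intro x hx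
      rw [hQn, Subgroup.mem_bot] at hx
      have : x = 1 := Subtype.ext hx
      rw [this, map_one]
    | cast i ih =>
      intro x hx
      set z : P := x⁻¹ * (β : MulAut P) x with hz
      have hzQ : (z : Ω) ∈ Q i.succ := by
        apply hstep i
        apply Subgroup.subset_closure
        have hle : Subgroup.zpowers (x : Ω) ≤ P := by
          rw [Subgroup.zpowers_le]; exact x.2
        refine ⟨x, hx, _, Fusion.restrict_mem F hβF hle, rfl⟩
      have h1 : (β : MulAut P) z = z := ih z hzQ
      have h2 : (β : MulAut P) x = x * z := by rw [hz]; group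
      have h3 := eq_one_of_coprime_aut p hPp (β : MulAut P) hβ' x z h2 h1
      rw [h2, h3, mul_one]
  apply Subtype.ext
  ext x
  have := key 0 x (by rw [hQ0]; exact hPS x.2)
  rw [this]
  rfl

end Cfsg.Agent.Lead
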