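import Mathlib
import Cfsg.Agent.Lead.GlThA
import Cfsg.Agent.Lead.FusionSat3
import Cfsg.Agent.Helper1.FrobPCompl2
import Cfsg.Agent.Lead.FusionMorph3
import Cfsg.Agent.Lead.FusionFactor
import Cfsg.Agent.Lead.FusionFactorSys
import Cfsg.Agent.Lead.FusionNormalCrit

set_option autoImplicit false

/-!
Copies of the parts of `GlThC`-`GlThE` that do not involve characteristic functors, in a file whose
imports avoid `Helper1.PNilpBasic` (so that it can be used together with `Helper1.Tate`).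
-/

namespace Cfsg.Agent.Lead.GlTh2

open Cfsg Cfsg.FusionSystem Cfsg.Agent.Lead Cfsg.Agent.Helper1 Cfsg.Agent.Lead.GlTh

universe u

variable {Ω : Type u} [Group Ω] {S : Subgroup Ω} {Ω' : Type u} [Group Ω'] {S' : Subgroup Ω'}

/-- An element conjugating the image of `P` into itself induces an automorphism of the system. -/
theorem exists_aut_of_conj [Finite S] (F : FusionSystem S) {G : Type*} [Group G] (ι : S →* G)
    (hι : F.IsRealizedBy ι) {P : Subgroup Ω} (hP : P ≤ S) (g : G)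
    (hg : ∀ x : P, ∃ y : P, g * ι ⟨x, hP x.2⟩ * g⁻¹ = ι ⟨y, hP y.2⟩) :
    ∃ α ∈ F.autGroup P, ∀ x : P, ι ⟨(α x : P), hP (α x).2⟩ = g * ι ⟨x, hP x.2⟩ * g⁻¹ := by
  haveI : Finite P := Fusion.finite_of_le hP
  have hg' : ∀ x : P, g * ι ⟨x, hP x.2⟩ * g⁻¹ ∈ ι.range := by
    intro x
    obtain ⟨y, hy⟩ := hg x
    exact ⟨_, hy.symm⟩
  obtain ⟨φ, hφ, hφS, hφx⟩ := Fusion.exists_hom_of_conj_mem_range F ι hι hP g hg'
  have hle : φ.range ≤ P := by
    rintro _ ⟨x, rfl⟩
    obtain ⟨y, hy⟩ := hg x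
    have h1 : ι ⟨φ x, hφS x⟩ = ι ⟨y, hP y.2⟩ := (hφx x).trans hy
    have h2 := hι.1 h1
    have h3 : φ x = y := congrArg Subtype.val h2
    rw [h3]
    exact y.2
  have hr : φ.range = P := by
    apply Subgroup.eq_of_le_of_card_ge hle
    rw [Nat.card_congr (MonoidHom.ofInjective (F.injective_of_mem hφ)).toEquiv]
  obtain ⟨α, hα, hαx⟩ := Fusion.exists_aut_of_range_eq F hφ hr
  refine ⟨α, hα, fun x => ?_⟩
  rw [← hφx x]
  congr 1
  exact Subtype.ext (hαx x)

/-- Powers of an automorphism induced by conjugation. -/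
theorem pow_of_conj {G : Type*} [Group G] (ι : S →* G) {P : Subgroup Ω} (hP : P ≤ S) (g : G)
    (α : MulAut P) (h : ∀ x : P, ι ⟨(α x : P), hP (α x).2⟩ = g * ι ⟨x, hP x.2⟩ * g⁻¹) (n : ℕ)
    (x : P) : ι ⟨((α ^ n) x : P), hP ((α ^ n) x).2⟩ = g ^ n * ι ⟨x, hP x.2⟩ * (g ^ n)⁻¹ := by
  induction n generalizing x with
  | zero => simp
  | succ n ih =>
    rw [pow_succ', MulAut.mul_apply, h, ih, pow_succ']
    group

theorem pow_eq_one_of_conj {G : Type*} [Group G] (ι : S →* G) (hinj : Function.Injective ι)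
    {P : Subgroup Ω} (hP : P ≤ S) (g : G)
    (α : MulAut P) (h : ∀ x : P, ι ⟨(α x : P), hP (α x).2⟩ = g * ι ⟨x, hP x.2⟩ * g⁻¹) (n : ℕ)
    (hn : ∀ x : P, g ^ n * ι ⟨x, hP x.2⟩ * (g ^ n)⁻¹ = ι ⟨x, hP x.2⟩) : α ^ n = 1 := by
  ext x
  have h1 := pow_of_conj ι hP g α h n x
  rw [hn] at h1
  have h2 := hinj h1
  have h3 : (((α ^ n) x : P) : Ω) = (x : Ω) := congrArg (fun z : S => (z : Ω)) h2
  exact h3

theorem inner_of_plocalCentral [Finite S] (p : ℕ) [Fact p.Prime] (hS : IsPGroup p S)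
    (F : FusionSystem S) (G : Type*) [Group G] [Finite G] (ι : S →* G) (hι : F.IsRealizedBy ι)
    (hG : PLocalCentral p G) : Inner p F := by
  intro P hP α hα
  haveI : Finite P := Fusion.finite_of_le hP
  have hα' := (Fusion.mem_autGroup_iff F hP α).mp hα
  have hφS : ∀ x : P, (P.subtype.comp α.toMonoidHom) x ∈ S := fun x => hP (α x).2
  obtain ⟨g, hg⟩ := (hι.2 P hP _ hφS).mp hα'
  have hg' : ∀ x : P, ι ⟨(α x : P), hP (α x).2⟩ = g * ι ⟨x, hP x.2⟩ * g⁻¹ := hg
  have hn0 : orderOf g ≠ 0 := (orderOf_pos g).ne'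
  obtain ⟨a, m, hm, hnm⟩ := Nat.exists_eq_pow_mul_and_not_dvd hn0 p (Fact.out : p.Prime).ne_one
  refine ⟨a, ?_⟩
  apply pow_eq_one_of_conj ι hι.1 hP g α hg'
  set Q₂ : Subgroup G := (P.subgroupOf S).map ι with hQ₂
  have hQ₂p : IsPGroup p Q₂ := (hS.to_subgroup (P.subgroupOf S)).map ι
  have hgN : g ∈ Subgroup.normalizer (Q₂ : Set G) := by
    apply mem_normalizer_of_conj_mem_of_finite
    rintro _ ⟨s, hs, rfl⟩
    rw [SetLike.mem_coe, Subgroup.mem_subgroupOf] at hs
    have h1 := hg' ⟨s.1, hs⟩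
    have h2 : (⟨((⟨s.1, hs⟩ : P) : Ω), hP hs⟩ : S) = s := rfl
    rw [h2] at h1
    rw [← h1]
    refine ⟨_, ?_, rfl⟩
    rw [SetLike.mem_coe, Subgroup.mem_subgroupOf]
    exact (α ⟨s.1, hs⟩).2
  have hg'N : g ^ (p ^ a) ∈ Subgroup.normalizer (Q₂ : Set G) := Subgroup.pow_mem _ hgN _
  have hcop : Nat.Coprime (orderOf (g ^ (p ^ a))) p := by
    have hdvd : orderOf (g ^ (p ^ a)) ∣ m := by
      apply orderOf_dvd_of_pow_eq_one
      rw [← pow_mul, ← hnm, pow_orderOf_eq_one]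
    have hpm : Nat.Coprime m p :=
      ((Nat.Prime.coprime_iff_not_dvd (Fact.out : p.Prime)).mpr hm).symm
    exact Nat.Coprime.coprime_dvd_left hdvd hpm
  have hcent := hG Q₂ hQ₂p _ hg'N hcop
  rw [Subgroup.mem_centralizer_iff] at hcent
  intro x
  have hx : ι ⟨x, hP x.2⟩ ∈ (Q₂ : Set G) := by
    refine ⟨_, ?_, rfl⟩
    rw [SetLike.mem_coe, Subgroup.mem_subgroupOf]
    exact x.2
  have := hcent _ hx
  rw [← this]
  group

/-- An automorphism fixing a normal subgroup pointwise and acting trivially modulo it has order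
dividing the order of the subgroup. -/
theorem stab_pow_card {E : Type*} [Group E] (N : Subgroup E) [Finite N] (β : MulAut E)
    (h1 : ∀ x ∈ N, β x = x) (h2 : ∀ x, x⁻¹ * β x ∈ N) : β ^ (Nat.card N) = 1 := by
  have hpow : ∀ (k : ℕ) (x : E), (β ^ k) x = x * (x⁻¹ * β x) ^ k := by
    intro k
    induction k with
    | zero => intro x; simp
    | succ k ih =>
      intro x
      rw [pow_succ', MulAut.mul_apply, ih, map_mul, map_pow, h1 _ (h2 x), pow_succ' (x⁻¹ * β x),
        ← mul_assoc]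
      congr 1
      group
  ext x
  rw [hpow]
  have h3 : (⟨x⁻¹ * β x, h2 x⟩ : N) ^ Nat.card N = 1 := pow_card_eq_one'
  have h4 : (x⁻¹ * β x) ^ Nat.card N = 1 := by
    have := congrArg Subtype.val h3
    rwa [Subgroup.coe_pow] at this
  rw [h4, mul_one]
  rfl

/-- Pushing an automorphism of a subgroup forward along a morphism: some `p`-power of it acts
trivially modulo the kernel when the image system is inner. -/
theorem exists_pow_trivial_mod [Finite S] (p : ℕ) (F : FusionSystem S)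
    (F' : FusionSystem S') (θ : S →* Ω') (hθ : F.IsSurjectiveMorphism F' θ) (hin : Inner p F')
    {E : Subgroup Ω} (hES : E ≤ S) (α : MulAut E) (hα : α ∈ F.autGroup E) :
    ∃ k : ℕ, ∀ x : E, θ ⟨((α ^ (p ^ k)) x : E), hES ((α ^ (p ^ k)) x).2⟩ = θ ⟨x, hES x.2⟩ := by
  haveI : Finite S' := Fusion.finite_of_range θ hθ.2.1
  have hα' := (Fusion.mem_autGroup_iff F hES α).mp hα
  set E' := imageAlong θ E with hE'
  obtain ⟨φ', hφ', hES', hφS, hEE', hind⟩ := hθ.1.2 E _ hα'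
  have hE'S' : E' ≤ S' := Fusion.src_le F' hφ'
  haveI : Finite E' := Fusion.finite_of_le hE'S'
  have hle : φ'.range ≤ E' := by
    rintro _ ⟨y, rfl⟩
    obtain ⟨x, hx, hxS, hxy⟩ := (Fusion.mem_imageAlong θ E y.1).mp y.2
    have h1 : y = ⟨θ ⟨((⟨x, hx⟩ : E) : Ω), hES' hx⟩, hEE' ⟨x, hx⟩⟩ := Subtype.ext hxy.symm
    rw [h1, hind ⟨x, hx⟩]
    exact hEE' (α ⟨x, hx⟩)
  have hr : φ'.range = E' := by
    apply Subgroup.eq_of_le_of_card_ge hle
    rw [Nat.card_congr (MonoidHom.ofInjective (F'.injective_of_mem hφ')).toEquiv]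
  obtain ⟨α', hα'm, hα'x⟩ := Fusion.exists_aut_of_range_eq F' hφ' hr
  obtain ⟨k, hk⟩ := hin E' hE'S' α' hα'm
  refine ⟨k, ?_⟩
  have hpow : ∀ (n : ℕ) (x : E), (((α' ^ n) ⟨θ ⟨x, hES' x.2⟩, hEE' x⟩ : E') : Ω') =
      θ ⟨((α ^ n) x : E), hES ((α ^ n) x).2⟩ := by
    intro n
    induction n with
    | zero => intro x; rfl
    | succ n ih =>
      intro x
      rw [pow_succ', pow_succ', MulAut.mul_apply, MulAut.mul_apply]
      have h1 : (α' ^ n) ⟨θ ⟨x, hES' x.2⟩, hEE' x⟩ =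
          ⟨θ ⟨((α ^ n) x : E), hES' ((α ^ n) x).2⟩, hEE' ((α ^ n) x)⟩ := Subtype.ext (ih x)
      rw [h1, hα'x, hind]
      rfl
  intro x
  rw [← hpow, hk]
  rfl

theorem pow_apply_of_fix {E : Type*} [Group E] (a : MulAut E) (x : E) (h : a x = x) (n : ℕ) :
    (a ^ n) x = x := by
  induction n with
  | zero => rfl
  | succ n ih => rw [pow_succ', MulAut.mul_apply, ih, h]

/-- `C_S(Q)` is normalized by `S` when `Q` is. -/
theorem le_normalizer_centralizerIn [Finite S] {Q : Subgroup Ω}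
    (hQ : S ≤ Subgroup.normalizer (Q : Set Ω)) :
    S ≤ Subgroup.normalizer (centralizerIn S Q : Set Ω) := by
  intro s hs
  haveI : Finite ↥(centralizerIn S Q) := Fusion.finite_of_le (inf_le_left : centralizerIn S Q ≤ S)
  apply mem_normalizer_of_conj_mem_of_finite
  intro d hd
  obtain ⟨hdS, hdC⟩ := Subgroup.mem_inf.mp hd
  refine Subgroup.mem_inf.mpr ⟨S.mul_mem (S.mul_mem hs hdS) (S.inv_mem hs), ?_⟩
  rw [Subgroup.mem_centralizer_iff] at hdC ⊢
  intro q hq
  have hq' : s⁻¹ * q * s ∈ Q := by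
    have := (Subgroup.mem_normalizer_iff.mp (hQ (S.inv_mem hs)) q).mp hq
    rwa [inv_inv] at this
  have h1 := hdC _ hq'
  calc q * (s * d * s⁻¹) = s * ((s⁻¹ * q * s) * d) * s⁻¹ := by group
    _ = s * (d * (s⁻¹ * q * s)) * s⁻¹ := by rw [h1]
    _ = s * d * s⁻¹ * q := by group

/-- If the factor system modulo the normal subgroup `Q` is inner, then `C_S(Q)` lies in every
essential subgroup. -/
theorem centralizerIn_le_essential [Finite S] (p : ℕ) [Fact p.Prime] (hS : IsPGroup p S)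
    (F : FusionSystem S) (F' : FusionSystem S') (θ : S →* Ω') (hθ : F.IsSurjectiveMorphism F' θ)
    (hin : Inner p F') {Q : Subgroup Ω} (hQ : F.IsNormal Q) (hker : Fusion.kerAlong θ = Q)
    {E : Subgroup Ω} (hess : F.IsEssential p E) : centralizerIn S Q ≤ E := by
  have hc := hess.1
  have hrad := Fusion.isRadical_of_isEssential p hS F hess
  have hES : E ≤ S := hc.1
  have hQE : Q ≤ E := Fusion.le_of_isNormal_of_centric_radical p hS F hQ hc hrad
  haveI : Finite E := Fusion.finite_of_le hES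
  have hQS : S ≤ Subgroup.normalizer (Q : Set Ω) := Model.le_normalizer_of_isNormal F hQ
  -- automorphisms fixing `Q` pointwise have `p`-power order
  have hfix : ∀ a ∈ F.autGroup E, (∀ x : E, (x : Ω) ∈ Q → a x = x) → ∃ k : ℕ, a ^ (p ^ k) = 1 := by
    intro a ha hax
    obtain ⟨k, hk⟩ := exists_pow_trivial_mod p F F' θ hθ hin hES a ha
    have hβ1 : ∀ x ∈ Q.subgroupOf E, (a ^ (p ^ k)) x = x := by
      intro x hx
      exact pow_apply_of_fix a x (hax x (Subgroup.mem_subgroupOf.mp hx)) _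
    have hβ2 : ∀ x : E, x⁻¹ * (a ^ (p ^ k)) x ∈ Q.subgroupOf E := by
      intro x
      rw [Subgroup.mem_subgroupOf, ← hker]
      exact Fusion.inv_mul_mem_kerAlong θ (hES x.2) (hES ((a ^ (p ^ k)) x).2) (hk x).symm
    have h1 := stab_pow_card (Q.subgroupOf E) (a ^ (p ^ k)) hβ1 hβ2
    have hQp : IsPGroup p ↥(Q.subgroupOf E) := (hS.to_le hES).to_subgroup _
    obtain ⟨m, hm⟩ := IsPGroup.iff_card.mp hQp
    refine ⟨k + m, ?_⟩
    rw [pow_add, pow_mul, ← hm]
    exact h1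
  have hinvQ : ∀ b ∈ F.autGroup E, ∀ x : E, (x : Ω) ∈ Q → ((b x : E) : Ω) ∈ Q := by
    intro b hb x hx
    have h1 := Fusion.map_aut_eq_of_isNormal F hQ hQE hES b hb
    have h2 : b x ∈ (Q.subgroupOf E).map b.toMonoidHom :=
      ⟨x, by rw [SetLike.mem_coe, Subgroup.mem_subgroupOf]; exact hx, rfl⟩
    rw [h1, Subgroup.mem_subgroupOf] at h2
    exact h2
  -- the subgroup `K₂`
  let K₂ : Subgroup ↥(F.autGroup E) :=
    { carrier := {a | ∀ x : E, (x : Ω) ∈ Q → (a : MulAut E) x = x}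
      one_mem' := fun x _ => rfl
      mul_mem' := by
        intro a b ha hb x hx
        show (a : MulAut E) ((b : MulAut E) x) = x
        rw [hb x hx, ha x hx]
      inv_mem' := by
        intro a ha x hx
        show (a : MulAut E)⁻¹ x = x
        have := ha x hx
        rw [MulAut.inv_apply, MulEquiv.symm_apply_eq]
        exact this.symm }
  have hK₂n : K₂.Normal := by
    constructor
    intro a ha b x hx
    show (b : MulAut E) ((a : MulAut E) ((b : MulAut E)⁻¹ x)) = x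
    have h1 : (((b : MulAut E)⁻¹ x : E) : Ω) ∈ Q :=
      hinvQ _ ((F.autGroup E).inv_mem b.2) x hx
    rw [ha _ h1, MulAut.apply_inv_self]
  have hK₂p : IsPGroup p K₂ := by
    rintro ⟨a, ha⟩
    obtain ⟨k, hk⟩ := hfix a.1 a.2 ha
    refine ⟨k, ?_⟩
    apply Subtype.ext
    apply Subtype.ext
    rw [Subgroup.coe_pow, Subgroup.coe_pow]
    exact hk
  have hK₂le : K₂ ≤ pCore p (F.autGroup E) := le_sSup ⟨hK₂n, hK₂p⟩
  -- elements of `C_S(Q)` normalizing `E` lie in `E`
  have key : ∀ c ∈ centralizerIn S Q, c ∈ Subgroup.normalizer (E : Set Ω) → c ∈ E := by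
    intro c hcD hcN
    obtain ⟨hcS, hcC⟩ := Subgroup.mem_inf.mp hcD
    have hcA : conjAutHom E ⟨c, hcN⟩ ∈ F.autGroup E :=
      Fusion.autInducedBy_le_autGroup F hES (Fusion.conjAutHom_mem_autInducedBy E ⟨c, hcN⟩ hcS)
    have hcK : (⟨_, hcA⟩ : F.autGroup E) ∈ K₂ := by
      intro x hx
      apply Subtype.ext
      show c * (x : Ω) * c⁻¹ = x
      rw [Subgroup.mem_centralizer_iff] at hcC
      rw [← hcC _ hx]
      group
    have hInn : conjAutHom E ⟨c, hcN⟩ ∈ Inn E := by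
      rw [← hrad.2]
      exact ⟨⟨_, hcA⟩, hK₂le hcK, rfl⟩
    exact Fusion.mem_of_conjAutHom_mem_inn F hc c hcS hcN hInn
  -- normalizer growth
  by_contra hDE
  set D := centralizerIn S Q with hD
  have hDS : D ≤ S := inf_le_left
  have hEDS : E ⊔ D ≤ S := sup_le hES hDS
  have hne : E ≠ E ⊔ D := by
    intro h
    apply hDE
    rw [h]
    exact le_sup_right
  haveI : Finite ↥(E ⊔ D) := Fusion.finite_of_le hEDS
  obtain ⟨g, hgT, hgE⟩ := Fusion.exists_mem_normalizerIn_not_mem (S := E ⊔ D) (hS.to_le hEDS)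
    le_sup_left hne
  obtain ⟨hgED, hgN⟩ := Subgroup.mem_inf.mp hgT
  have hEnD : E ≤ Subgroup.normalizer (D : Set Ω) := hES.trans (le_normalizer_centralizerIn hQS)
  have hmul := Subgroup.coe_mul_of_left_le_normalizer_right E D hEnD
  have hg' : g ∈ ((E ⊔ D : Subgroup Ω) : Set Ω) := hgED
  rw [hmul] at hg'
  obtain ⟨e, he, d, hd, hed⟩ := Set.mem_mul.mp hg'
  have hdN : d ∈ Subgroup.normalizer (E : Set Ω) := by
    have h1 : d = e⁻¹ * g := by rw [← hed]; group
    rw [h1]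
    exact Subgroup.mul_mem _ (Subgroup.inv_mem _ (Subgroup.le_normalizer he)) hgN
  have hdE := key d hd hdN
  apply hgE
  rw [← hed]
  exact E.mul_mem he hdE

/-- If the factor system modulo the normal subgroup `Q` is inner then `Q C_S(Q)` is normal. -/
theorem sup_centralizerIn_isNormal [Finite S] (p : ℕ) [Fact p.Prime] (hS : IsPGroup p S)
    (F : FusionSystem S) (hF : F.IsSaturated p) {Ω' : Type u} [Group Ω'] {S' : Subgroup Ω'}
    (F' : FusionSystem S') (θ : S →* Ω') (hθ : F.IsSurjectiveMorphism F' θ)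
    (hin : Inner p F') {Q : Subgroup Ω} (hQ : F.IsNormal Q) (hker : Fusion.kerAlong θ = Q) :
    F.IsNormal (Q ⊔ centralizerIn S Q) := by
  apply Fusion.isNormal_of_forall_essential p hS F hF
  intro P hP
  have hPS : P ≤ S := by
    rcases hP with rfl | hess
    · exact le_rfl
    · exact hess.1.1
  have hQP : Q ≤ P := by
    rcases hP with rfl | hess
    · exact hQ.1
    · exact Fusion.le_of_isNormal_of_centric_radical p hS F hQ hess.1
        (Fusion.isRadical_of_isEssential p hS F hess)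
  have hDP : centralizerIn S Q ≤ P := by
    rcases hP with rfl | hess
    · exact inf_le_left
    · exact centralizerIn_le_essential p hS F F' θ hθ hin hQ hker hess
  haveI : Finite P := Fusion.finite_of_le hPS
  refine ⟨sup_le hQP hDP, fun α hα => ?_⟩
  have hαQ := Fusion.map_aut_eq_of_isNormal F hQ hQP hPS α hα
  apply Fusion.map_aut_eq_of_le
  rw [Subgroup.subgroupOf_sup hQP hDP, Subgroup.map_sup]
  apply sup_le
  · rw [hαQ]
    exact le_sup_left
  · refine le_trans ?_ le_sup_right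
    rintro _ ⟨d, hd, rfl⟩
    rw [SetLike.mem_coe, Subgroup.mem_subgroupOf] at hd
    rw [Subgroup.mem_subgroupOf]
    obtain ⟨-, hdC⟩ := Subgroup.mem_inf.mp hd
    refine Subgroup.mem_inf.mpr ⟨hPS (α d).2, ?_⟩
    rw [Subgroup.mem_centralizer_iff] at hdC ⊢
    intro q hq
    have hq' : (⟨q, hQP hq⟩ : P) ∈ (Q.subgroupOf P).map α.toMonoidHom := by
      rw [hαQ, Subgroup.mem_subgroupOf]; exact hq
    obtain ⟨q₀, hq₀, hq₀q⟩ := hq'
    rw [SetLike.mem_coe, Subgroup.mem_subgroupOf] at hq₀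
    have h1 : q₀ * d = d * q₀ := Subtype.ext (hdC _ hq₀)
    have h2 : α q₀ * α d = α d * α q₀ := by rw [← map_mul, ← map_mul, h1]
    have h3 : α q₀ = ⟨q, hQP hq⟩ := hq₀q
    rw [h3] at h2
    exact congrArg Subtype.val h2

theorem isCentric_of_isNormal [Finite S] (F : FusionSystem S) {Q : Subgroup Ω} (hQ : F.IsNormal Q)
    (h : centralizerIn S Q ≤ Q) : F.IsCentric Q := by
  refine ⟨hQ.1, ?_⟩
  rintro Q'' ⟨φ, hφ, hr⟩
  have hsc := Fusion.stronglyClosed_of_isNormal F hQ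
  haveI : Finite Q := Fusion.finite_of_le hQ.1
  have hQ'' : Q'' = Q := by
    rw [← hr]
    apply Subgroup.eq_of_le_of_card_ge
    · rintro _ ⟨x, rfl⟩
      exact hsc.2 Q le_rfl φ hφ x
    · rw [Nat.card_congr (MonoidHom.ofInjective (F.injective_of_mem hφ)).toEquiv]
  rw [hQ'']
  exact h

/-- The factor system modulo a normal subgroup. -/
theorem exists_factor [Finite S] (p : ℕ) [Fact p.Prime] (hS : IsPGroup p S)
    (F : FusionSystem S) (hF : F.IsSaturated p) {Q : Subgroup Ω} (hQ : F.IsNormal Q) :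
    ∃ (Ω' : Type u) (_ : Group Ω') (S' : Subgroup Ω') (_ : Finite S') (F' : FusionSystem S')
      (θ : S →* Ω'), IsPGroup p S' ∧ F.IsSurjectiveMorphism F' θ ∧ Fusion.kerAlong θ = Q ∧
        F'.IsSaturated p ∧ Nat.card S' * Nat.card Q = Nat.card S := by
  haveI := Model.Qs_normal F hQ
  have hQS := hQ.1
  set θ : S →* (↥S ⧸ Model.Qs S Q) := QuotientGroup.mk' (Model.Qs S Q) with hθdef
  have hker : ∀ s : S, θ s = 1 ↔ (s : Ω) ∈ Q := by
    intro s
    rw [hθdef, QuotientGroup.mk'_apply, QuotientGroup.eq_one_iff, Subgroup.mem_subgroupOf]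
  have hr : θ.range = (⊤ : Subgroup (↥S ⧸ Model.Qs S Q)) :=
    MonoidHom.range_eq_top.mpr (QuotientGroup.mk'_surjective _)
  have hsc := Fusion.stronglyClosed_of_isNormal F hQ
  have hfac := Fusion.factorSystem_isFactorSystem F θ hsc hker hr
  have hθ := Fusion.isSurjectiveMorphism_of_isFactorSystem p hS F hF Q hsc θ _ hfac
  have hsat := Fusion.isSaturated_image p hS F hF _ θ hθ
  haveI hfin : Finite ↥(⊤ : Subgroup (↥S ⧸ Model.Qs S Q)) := Fusion.finite_of_range θ hr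
  refine ⟨↥S ⧸ Model.Qs S Q, inferInstance, ⊤, hfin, Fusion.factorSystem F θ hsc hker hr, θ,
    ?_, hθ, ?_, hsat, ?_⟩
  · have h1 : IsPGroup p (↥S ⧸ Model.Qs S Q) := hS.to_quotient _
    exact h1.to_subgroup _
  · ext s
    rw [Fusion.mem_kerAlong]
    constructor
    · rintro ⟨hs, h⟩
      exact (hker _).mp h
    · intro hs
      exact ⟨hQS hs, (hker _).mpr hs⟩
  · rw [Subgroup.card_top, Nat.card_congr (Model.eQ hQS).toEquiv]
    exact (Subgroup.card_eq_card_quotient_mul_card_subgroup (Model.Qs S Q)).symm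

end Cfsg.Agent.Lead.GlTh2
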