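import Mathlib
import Cfsg.Agent.Lead.GlTh2A
import Cfsg.Agent.Lead.HyperfocalGroup
import Cfsg.Agent.Helper1.Tate

set_option autoImplicit false

/-!
Tate-type theorem for fusion systems, part B: the group-theoretic input.
-/

namespace Cfsg.Agent.Lead.GlTh2

open Cfsg Cfsg.FusionSystem Cfsg.Agent.Lead Cfsg.Agent.Helper1 Cfsg.Agent.Lead.GlTh

universe u

variable {Ω : Type u} [Group Ω] {S : Subgroup Ω} {Ω' : Type u} [Group Ω'] {S' : Subgroup Ω'}

theorem frattini_map_equiv {A B : Type*} [Group A] [Group B] (e : A ≃* B) :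
    (frattini A).map e.toMonoidHom = frattini B := by
  apply le_antisymm
  · rw [Subgroup.map_le_iff_le_comap]
    exact frattini_le_comap_frattini_of_surjective (φ := e.toMonoidHom) e.surjective
  · intro x hx
    have h1 := frattini_le_comap_frattini_of_surjective (φ := e.symm.toMonoidHom) e.symm.surjective hx
    rw [Subgroup.mem_comap] at h1
    exact ⟨e.symm x, h1, e.apply_symm_apply x⟩

theorem pow_trivial_mod (θ : S →* Ω') {E : Subgroup Ω} (hES : E ≤ S) (β : MulAut E)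
    (h : ∀ x : E, θ ⟨(β x : E), hES (β x).2⟩ = θ ⟨x, hES x.2⟩) (j : ℕ) (x : E) :
    θ ⟨((β ^ j) x : E), hES ((β ^ j) x).2⟩ = θ ⟨x, hES x.2⟩ := by
  induction j generalizing x with
  | zero => rfl
  | succ j ih =>
    rw [pow_succ', MulAut.mul_apply, h, ih]

theorem trivial_mod_of_coprime [Finite S] (p : ℕ) [Fact p.Prime] (F : FusionSystem S)
    (F' : FusionSystem S') (θ : S →* Ω') (hθ : F.IsSurjectiveMorphism F' θ) (hin : Inner p F')
    {E : Subgroup Ω} (hES : E ≤ S) (α : MulAut E) (hα : α ∈ F.autGroup E) (n : ℕ)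
    (hn : α ^ n = 1) (hcop : Nat.Coprime n p) (x : E) :
    (x : Ω)⁻¹ * ((α x : E) : Ω) ∈ Fusion.kerAlong θ := by
  obtain ⟨k, hk⟩ := exists_pow_trivial_mod p F F' θ hθ hin hES α hα
  have hc : Nat.Coprime (p ^ k) n := Nat.Coprime.pow_left k hcop.symm
  have hc' : Nat.Coprime (p ^ k) (orderOf α) :=
    Nat.Coprime.coprime_dvd_right (orderOf_dvd_of_pow_eq_one hn) hc
  obtain ⟨j, hj⟩ := exists_pow_eq_self_of_coprime hc'
  have h1 := pow_trivial_mod θ hES (α ^ (p ^ k)) hk j x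
  rw [hj] at h1
  exact Fusion.inv_mul_mem_kerAlong θ (hES x.2) (hES (α x).2) h1.symm

/-- An automorphism of `p'`-order of a subgroup of the Sylow subgroup of a group realizing `F`
acts trivially modulo the kernel of a morphism onto an inner system. -/
theorem conj_mod [Finite S] (p : ℕ) [Fact p.Prime] (F : FusionSystem S)
    (F' : FusionSystem S') (θ : S →* Ω') (hθ : F.IsSurjectiveMorphism F' θ) (hin : Inner p F')
    {G : Type*} [Group G] [Finite G] (ι : S →* G) (hι : F.IsRealizedBy ι)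
    {P : Subgroup G} (hPT : P ≤ ι.range) (α : MulAut P) (g : G)
    (hg : ∀ x : P, ((α x : P) : G) = g * x * g⁻¹)
    (hcop : Nat.Coprime (orderOf α) p) (x : P) :
    (x : G)⁻¹ * ((α x : P) : G) ∈ ((Fusion.kerAlong θ).subgroupOf S).map ι := by
  set P₀ : Subgroup Ω := (P.comap ι).map S.subtype with hP₀def
  have hP₀ : P₀ ≤ S := by rintro _ ⟨s, -, rfl⟩; exact s.2
  have hmem : ∀ (y : Ω) (hy : y ∈ S), y ∈ P₀ ↔ ι ⟨y, hy⟩ ∈ P := by
    intro y hy
    constructor
    · rintro ⟨s, hs, hsy⟩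
      have : s = ⟨y, hy⟩ := Subtype.ext hsy
      rw [← this]; exact hs
    · intro h; exact ⟨⟨y, hy⟩, h, rfl⟩
  have hgP₀ : ∀ y : P₀, ∃ z : P₀, g * ι ⟨y, hP₀ y.2⟩ * g⁻¹ = ι ⟨z, hP₀ z.2⟩ := by
    intro y
    have hy : ι ⟨y, hP₀ y.2⟩ ∈ P := (hmem y.1 (hP₀ y.2)).mp y.2
    have h1 := hg ⟨_, hy⟩
    have h2 : ((α ⟨_, hy⟩ : P) : G) ∈ ι.range := hPT (α ⟨_, hy⟩).2
    obtain ⟨s, hs⟩ := h2
    have hsP : s.1 ∈ P₀ := (hmem s.1 s.2).mpr (by
      have : (⟨s.1, s.2⟩ : S) = s := rfl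
      rw [this, hs]; exact (α ⟨_, hy⟩).2)
    refine ⟨⟨s.1, hsP⟩, ?_⟩
    rw [← h1, ← hs]
  obtain ⟨α₀, hα₀, hα₀x⟩ := exists_aut_of_conj F ι hι hP₀ g hgP₀
  have hα₀n : α₀ ^ orderOf α = 1 := by
    apply pow_eq_one_of_conj ι hι.1 hP₀ g α₀ hα₀x
    intro y
    have hy : ι ⟨y, hP₀ y.2⟩ ∈ P := (hmem y.1 (hP₀ y.2)).mp y.2
    have h1 := aut_pow_conj α g hg (orderOf α) ⟨_, hy⟩
    rw [pow_orderOf_eq_one] at h1
    exact h1.symm
  obtain ⟨s, hs⟩ := hPT x.2
  have hsP : s.1 ∈ P₀ := (hmem s.1 s.2).mpr (by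
    have : (⟨s.1, s.2⟩ : S) = s := rfl
    rw [this, hs]; exact x.2)
  have h1 := trivial_mod_of_coprime p F F' θ hθ hin hP₀ α₀ hα₀ (orderOf α) hα₀n hcop ⟨s.1, hsP⟩
  have h2 := hα₀x ⟨s.1, hsP⟩
  have h3 : (⟨((⟨s.1, hsP⟩ : P₀) : Ω), hP₀ hsP⟩ : S) = s := rfl
  rw [h3, hs] at h2
  have h4 : ((α x : P) : G) = ι ⟨(α₀ ⟨s.1, hsP⟩ : P₀), hP₀ (α₀ ⟨s.1, hsP⟩).2⟩ := by
    rw [h2, hg]
  have hmemS : (s : Ω)⁻¹ * ((α₀ ⟨s.1, hsP⟩ : P₀) : Ω) ∈ S :=
    S.mul_mem (S.inv_mem s.2) (hP₀ (α₀ ⟨s.1, hsP⟩).2)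
  refine ⟨⟨_, hmemS⟩, ?_, ?_⟩
  · rw [SetLike.mem_coe, Subgroup.mem_subgroupOf]
    exact h1
  · have h5 : (⟨(s : Ω)⁻¹ * ((α₀ ⟨s.1, hsP⟩ : P₀) : Ω), hmemS⟩ : S) =
        s⁻¹ * ⟨(α₀ ⟨s.1, hsP⟩ : P₀), hP₀ (α₀ ⟨s.1, hsP⟩).2⟩ := rfl
    rw [h5, map_mul, map_inv, hs, h4]

/-- The hyperfocal subgroup of a group realizing `F` lies in the image of the kernel of a morphism
onto an inner system. -/
theorem sylow_inf_pResidual_le [Finite S] (p : ℕ) [Fact p.Prime] (F : FusionSystem S)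
    (F' : FusionSystem S') (θ : S →* Ω') (hθ : F.IsSurjectiveMorphism F' θ) (hin : Inner p F')
    {G : Type*} [Group G] [Finite G] (ι : S →* G) (hι : F.IsRealizedBy ι)
    (T : Sylow p G) (hT : (T : Subgroup G) = ι.range) :
    (T : Subgroup G) ⊓ pResidual p G ≤ ((Fusion.kerAlong θ).subgroupOf S).map ι := by
  rw [← Fusion.hyperfocal_group_eq p T]
  unfold FusionSystem.hyperfocalSubgroup
  rw [Subgroup.closure_le]
  rintro y ⟨P, a, x, hPT, ha, rfl⟩
  set Q₁ : Subgroup G := ((Fusion.kerAlong θ).subgroupOf S).map ι with hQ₁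
  let B : Subgroup ↥((groupFusionSystem (T : Subgroup G)).autGroup P) :=
    { carrier := {a | ∀ x : P, (x : G)⁻¹ * (((a : MulAut P) x : P) : G) ∈ Q₁}
      one_mem' := by
        intro x
        show (x : G)⁻¹ * (x : G) ∈ Q₁
        rw [inv_mul_cancel]
        exact Q₁.one_mem
      mul_mem' := by
        intro a b ha hb x
        have h1 := hb x
        have h2 := ha ((b : MulAut P) x)
        have h3 : (x : G)⁻¹ * ((((a * b : ↥((groupFusionSystem (T : Subgroup G)).autGroup P)) :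
            MulAut P) x : P) : G) =
            ((x : G)⁻¹ * (((b : MulAut P) x : P) : G)) *
              ((((b : MulAut P) x : P) : G)⁻¹ *
                (((a : MulAut P) ((b : MulAut P) x) : P) : G)) := by
          show (x : G)⁻¹ * (((a : MulAut P) ((b : MulAut P) x) : P) : G) = _
          group
        show (x : G)⁻¹ * ((((a * b : ↥((groupFusionSystem (T : Subgroup G)).autGroup P)) :
            MulAut P) x : P) : G) ∈ Q₁
        rw [h3]
        exact Q₁.mul_mem h1 h2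
      inv_mem' := by
        intro a ha x
        have h1 := ha ((a : MulAut P)⁻¹ x)
        rw [MulAut.apply_inv_self] at h1
        have h2 : (x : G)⁻¹ * ((((a⁻¹ : ↥((groupFusionSystem (T : Subgroup G)).autGroup P)) :
            MulAut P) x : P) : G) =
            ((((a : MulAut P)⁻¹ x : P) : G)⁻¹ * (x : G))⁻¹ := by
          show (x : G)⁻¹ * ((((a : MulAut P)⁻¹ x : P)) : G) = _
          group
        show (x : G)⁻¹ * ((((a⁻¹ : ↥((groupFusionSystem (T : Subgroup G)).autGroup P)) :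
            MulAut P) x : P) : G) ∈ Q₁
        rw [h2]
        exact Q₁.inv_mem h1 }
  have hle : pResidual p ↥((groupFusionSystem (T : Subgroup G)).autGroup P) ≤ B := by
    unfold pResidual
    rw [Subgroup.closure_le]
    intro b hb x
    have hb' : Nat.Coprime (orderOf (b : MulAut P)) p := by
      rw [Subgroup.orderOf_coe]; exact hb
    have hmem := (Fusion.mem_autGroup_iff (groupFusionSystem (T : Subgroup G)) hPT b.1).mp b.2
    obtain ⟨-, -, g, hg⟩ := hmem
    exact conj_mod p F F' θ hθ hin ι hι (hPT.trans hT.le) b.1 g hg hb' x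
  exact hle ha x

/-- Group-theoretic input: a group realizing `F`, with `F` modulo a subgroup of the Frattini
subgroup inner, has a normal `p`-complement. -/
theorem hasNormalPComplement_of_tate [Finite S] (p : ℕ) [Fact p.Prime] (F : FusionSystem S)
    (F' : FusionSystem S') (θ : S →* Ω') (hθ : F.IsSurjectiveMorphism F' θ) (hin : Inner p F')
    {G : Type*} [Group G] [Finite G] (ι : S →* G) (hι : F.IsRealizedBy ι)
    (T : Sylow p G) (hT : (T : Subgroup G) = ι.range)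
    (hΦ : Fusion.kerAlong θ ≤ (frattini ↥S).map S.subtype) : HasNormalPComplement p G := by
  haveI : (pResidual p G).Characteristic := Cfsg.Agent.Helper5.pResidual_characteristic p
  haveI : (pResidual p G).Normal := inferInstance
  have h1 := sylow_inf_pResidual_le p F F' θ hθ hin ι hι T hT
  have h2 : ((Fusion.kerAlong θ).subgroupOf S).map ι ≤
      (frattini ↥(T : Subgroup G)).map (T : Subgroup G).subtype := by
    rw [hT]
    set e := MonoidHom.ofInjective hι.1 with he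
    rw [← frattini_map_equiv e, Subgroup.map_map]
    have h3 : (ι.range).subtype.comp e.toMonoidHom = ι := by
      ext s; rfl
    rw [h3]
    apply Subgroup.map_mono
    intro x hx
    rw [Subgroup.mem_subgroupOf] at hx
    obtain ⟨f, hf, hfx⟩ := hΦ hx
    have : f = x := Subtype.ext hfx
    rw [← this]
    exact hf
  have h4 : pResidual p G ⊓ (T : Subgroup G) ≤
      (frattini ↥(T : Subgroup G)).map (T : Subgroup G).subtype := by
    rw [inf_comm]
    exact h1.trans h2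
  have h5 := tate_normal_pcomplement T (pResidual p G) h4
  obtain ⟨k, hk⟩ := Cfsg.Agent.Helper5.index_pResidual (G := G) p
  exact hasNormalPComplement_of_normal_ppow_index (pResidual p G) hk h5

end Cfsg.Agent.Lead.GlTh2
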