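import Mathlib
import Cfsg.Agent.Lead.GlTh2B
import Cfsg.Agent.Lead.FusionAbelian
import Cfsg.Agent.Lead.FusionKNorm6
import Cfsg.Agent.Lead.ModelK
import Cfsg.Agent.S5096

set_option autoImplicit false

/-!
Tate-type theorem for fusion systems, part C: if `Aut_F(S)` is a `p`-group then the normalizer system
of every `Q` with `[S, S] ≤ Q ≤ Φ(S)` is inner.
-/

namespace Cfsg.Agent.Lead.GlTh2

open Cfsg Cfsg.FusionSystem Cfsg.Agent.Lead Cfsg.Agent.Helper1 Cfsg.Agent.Lead.GlTh
open scoped commutatorElement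

universe u

variable {Ω : Type u} [Group Ω] {S : Subgroup Ω}

theorem frattini_map_eq_of_eq {R S : Subgroup Ω} (h : R = S) :
    (frattini ↥R).map R.subtype = (frattini ↥S).map S.subtype := by
  subst h
  rfl

theorem tate_fusion [Finite S] (p : ℕ) [Fact p.Prime] (hS : IsPGroup p S) (F : FusionSystem S)
    (hF : F.IsSaturated p) (hNS : NP p F S) (Q : Subgroup Ω)
    (h1 : (commutator ↥S).map S.subtype ≤ Q) (h2 : Q ≤ (frattini ↥S).map S.subtype) :
    NP p F Q := by
  have hQS : Q ≤ S := by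
    intro x hx
    obtain ⟨s, -, rfl⟩ := h2 hx
    exact s.2
  have hcomm : ∀ a ∈ S, ∀ b ∈ S, a * b * a⁻¹ * b⁻¹ ∈ Q := by
    intro a ha b hb
    apply h1
    refine ⟨⁅(⟨a, ha⟩ : S), ⟨b, hb⟩⁆, ?_, rfl⟩
    rw [commutator_def]
    exact Subgroup.commutator_mem_commutator (Subgroup.mem_top _) (Subgroup.mem_top _)
  haveI : Finite Q := Fusion.finite_of_le hQS
  have hSn : S ≤ Subgroup.normalizer (Q : Set Ω) := by
    intro s hs
    apply mem_normalizer_of_conj_mem_of_finite
    intro q hq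
    have h3 := hcomm s hs q (hQS hq)
    have h4 : s * q * s⁻¹ = (s * q * s⁻¹ * q⁻¹) * q := by group
    rw [h4]
    exact Q.mul_mem h3 hq
  have hNQ : normalizerIn S Q = S := le_antisymm inf_le_left (le_inf le_rfl hSn)
  have hfn : F.IsFullyNormalized Q := by
    refine ⟨hQS, fun U' _ => ?_⟩
    rw [hNQ]
    exact Subgroup.card_le_of_le inf_le_left
  obtain ⟨M, hM⟩ := Cfsg.Agent.S5096.result F Q hQS
  have hMsat := Fusion.normalizerSystem_isSaturated p hS F hF Q hfn M hM
  have hQM := Fusion.normalizerSystem_isNormal F hQS M hM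
  rw [np_iff_normalizer_inner F hQS M hM]
  have hRS : normalizerIn S Q ≤ S := inf_le_left
  haveI : Finite ↥(normalizerIn S Q) := Fusion.finite_of_le hRS
  have hRp : IsPGroup p ↥(normalizerIn S Q) := hS.to_le hRS
  have hMsub := normalizerSystem_hom_subset F M hM
  obtain ⟨Ω', _, S', _, F', θ, hS'p, hθ, hker, hsat', hcard⟩ := exists_factor p hRp M hMsat hQM
  have hr := hθ.2.1
  -- `S'` is abelian
  have hab' : ∀ x ∈ S', ∀ y ∈ S', x * y = y * x := by
    intro x hx y hy
    rw [← hr] at hx hy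
    obtain ⟨a, rfl⟩ := hx
    obtain ⟨b, rfl⟩ := hy
    have h3 : (a : Ω) * b * (a : Ω)⁻¹ * (b : Ω)⁻¹ ∈ Fusion.kerAlong θ := by
      rw [hker]
      exact hcomm a (hRS a.2) b (hRS b.2)
    obtain ⟨hm, h4⟩ := (Fusion.mem_kerAlong θ _).mp h3
    have h5 : (⟨(a : Ω) * b * (a : Ω)⁻¹ * (b : Ω)⁻¹, hm⟩ : ↥(normalizerIn S Q)) =
        a * b * a⁻¹ * b⁻¹ := rfl
    rw [h5, map_mul, map_mul, map_mul, map_inv, map_inv] at h4
    calc θ a * θ b = (θ a * θ b * (θ a)⁻¹ * (θ b)⁻¹) * (θ b * θ a) := by group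
      _ = θ b * θ a := by rw [h4, one_mul]
  -- the factor system is inner
  have hin' : Inner p F' := by
    intro P' hP' α' hα'
    have hα'' := (Fusion.mem_autGroup_iff F' hP' α').mp hα'
    obtain ⟨β', hβ', hβ'x⟩ :=
      Fusion.exists_aut_extension_of_abelian p hS'p F' hsat' hab' hα''
    obtain ⟨γ, hγ, hlift⟩ := Fusion.exists_liftsAut M F' θ hθ le_rfl β' hβ'
    have hP₀ : preimageAlong θ S' = normalizerIn S Q := Fusion.preimageAlong_top θ hθ.1.1
    have hP₀S : preimageAlong θ S' ≤ S := by rw [hP₀]; exact hRS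
    have hγF : γ ∈ F.autGroup (preimageAlong θ S') := autGroup_mono M F hMsub _ hγ
    obtain ⟨k, hk⟩ := hNS (preimageAlong θ S') (by rw [hP₀, hNQ])
      (le_inf hP₀S (hP₀S.trans Subgroup.le_normalizer)) γ hγF (by
        have h3 : S.subgroupOf (preimageAlong θ S') = ⊤ := Subgroup.subgroupOf_eq_top.mpr hP₀S
        rw [h3]
        exact Subgroup.map_top_of_surjective _ γ.surjective)
    refine ⟨k, ?_⟩
    have h3 := Fusion.liftsAut_pow θ S' hlift (p ^ k)
    rw [hk] at h3
    have hβk : β' ^ (p ^ k) = 1 := by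
      ext y
      obtain ⟨x, rfl⟩ := Fusion.toImage_surjective θ hr le_rfl y
      have h4 := h3 x
      rw [← h4]
      rfl
    exact pow_eq_one_of_restrict hP' α' β' (fun x => hβ'x x) hβk
  have hQD := sup_centralizerIn_isNormal p hRp M hMsat F' θ hθ hin' hQM hker
  have hcen : M.IsCentric (Q ⊔ centralizerIn (normalizerIn S Q) Q) := by
    apply isCentric_of_isNormal M hQD
    intro x hx
    obtain ⟨hxR, hxC⟩ := Subgroup.mem_inf.mp hx
    apply (le_sup_right : centralizerIn (normalizerIn S Q) Q ≤ _)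
    refine Subgroup.mem_inf.mpr ⟨hxR, ?_⟩
    rw [Subgroup.mem_centralizer_iff] at hxC ⊢
    intro q hq
    exact hxC q ((le_sup_left : Q ≤ Q ⊔ centralizerIn (normalizerIn S Q) Q) hq)
  obtain ⟨G, _, ι, hfin, hreal, ⟨T, hT⟩, -⟩ :=
    Model.exists_isModel p hRp M ⟨hMsat, _, hQD, hcen⟩
  haveI := hfin
  have hΦ : Fusion.kerAlong θ ≤ (frattini ↥(normalizerIn S Q)).map (normalizerIn S Q).subtype := by
    rw [hker, frattini_map_eq_of_eq hNQ]
    exact h2
  have hnpc := hasNormalPComplement_of_tate p M F' θ hθ hin' ι hreal T hT hΦ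
  exact inner_of_plocalCentral p hRp M G ι hreal (plocalCentral_of_hasNormalPComplement hnpc)

/-- The statement in terms of normalizer systems. -/
theorem tate_main [Finite S] (p : ℕ) [Fact p.Prime] (hS : IsPGroup p S) (F : FusionSystem S)
    (hF : F.IsSaturated p)
    (hN : ∀ N : FusionSystem (normalizerIn S S), F.IsNormalizerSystem S N →
      ∀ P : Subgroup Ω, N.Hom P = (innerFusionSystem (normalizerIn S S)).Hom P)
    (Q : Subgroup Ω) (h1 : (commutator ↥S).map S.subtype ≤ Q)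
    (h2 : Q ≤ (frattini ↥S).map S.subtype) :
    ∀ N : FusionSystem (normalizerIn S Q), F.IsNormalizerSystem Q N →
      ∀ P : Subgroup Ω, N.Hom P = (innerFusionSystem (normalizerIn S Q)).Hom P := by
  -- `NP` for `S`
  have hSfn : F.IsFullyNormalized S := by
    refine ⟨le_rfl, fun U' _ => ?_⟩
    have h3 : normalizerIn S S = S := le_antisymm inf_le_left (le_inf le_rfl Subgroup.le_normalizer)
    rw [h3]
    exact Subgroup.card_le_of_le inf_le_left
  have hRS : normalizerIn S S ≤ S := inf_le_left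
  haveI : Finite ↥(normalizerIn S S) := Fusion.finite_of_le hRS
  have hRp : IsPGroup p ↥(normalizerIn S S) := hS.to_le hRS
  obtain ⟨N₀, hN₀⟩ := Cfsg.Agent.S5096.result F S le_rfl
  have hN₀sat := Fusion.normalizerSystem_isSaturated p hS F hF S hSfn N₀ hN₀
  have h3 : Inner p N₀ := (inner_iff_hom p hRp N₀ hN₀sat).mpr (hN N₀ hN₀)
  have hNS : NP p F S := (np_iff_normalizer_inner F le_rfl N₀ hN₀).mpr h3
  have hNPQ := tate_fusion p hS F hF hNS Q h1 h2
  have hQS : Q ≤ S := by
    intro x hx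
    obtain ⟨s, -, rfl⟩ := h2 hx
    exact s.2
  intro N hNn
  have hfn : F.IsFullyNormalized Q := by
    refine ⟨hQS, fun U' hU' => ?_⟩
    -- `Q` is normal in `S`
    have hle : S ≤ normalizerIn S Q := by
      have hcomm : ∀ a ∈ S, ∀ b ∈ S, a * b * a⁻¹ * b⁻¹ ∈ Q := by
        intro a ha b hb
        apply h1
        refine ⟨⁅(⟨a, ha⟩ : S), ⟨b, hb⟩⁆, ?_, rfl⟩
        rw [commutator_def]
        exact Subgroup.commutator_mem_commutator (Subgroup.mem_top _) (Subgroup.mem_top _)
      haveI : Finite Q := Fusion.finite_of_le hQS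
      intro s hs
      refine Subgroup.mem_inf.mpr ⟨hs, ?_⟩
      apply mem_normalizer_of_conj_mem_of_finite
      intro q hq
      have h3 := hcomm s hs q (hQS hq)
      have h4 : s * q * s⁻¹ = (s * q * s⁻¹ * q⁻¹) * q := by group
      rw [h4]
      exact Q.mul_mem h3 hq
    haveI : Finite ↥(normalizerIn S Q) := Fusion.finite_of_le (inf_le_left : normalizerIn S Q ≤ S)
    exact (Subgroup.card_le_of_le inf_le_left).trans (Subgroup.card_le_of_le hle)
  have hRQS : normalizerIn S Q ≤ S := inf_le_left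
  haveI : Finite ↥(normalizerIn S Q) := Fusion.finite_of_le hRQS
  have hRQp : IsPGroup p ↥(normalizerIn S Q) := hS.to_le hRQS
  have hNsat := Fusion.normalizerSystem_isSaturated p hS F hF Q hfn N hNn
  exact (inner_iff_hom p hRQp N hNsat).mp ((np_iff_normalizer_inner F hQS N hNn).mp hNPQ)

end Cfsg.Agent.Lead.GlTh2
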