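import Mathlib
import Cfsg.Prelude.Def_GeometricClasses
import Cfsg.Agent.Lead.AschBase
import Cfsg.Agent.Helper3.AschForms
import Cfsg.Agent.Helper8.GUOrder
import Cfsg.Agent.Helper5.AschU5
import Cfsg.Agent.Helper5.AschO9

/-!
# ASCH-COMP-U piece V4 (lead): an absolutely irreducible subgroup of `GU_n(q)` fixing a non-degenerate symplectic form
is realisable over `F_q`.
-/

set_option autoImplicit false
set_option linter.unusedVariables false
set_option linter.unusedSectionVars false
set_option linter.style.haveILetI false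

namespace Cfsg.Agent.Lead.AschCU

open Cfsg Cfsg.Geo Cfsg.Agent.Lead.Asch Cfsg.Agent.Helper7.Herm Cfsg.Agent.Helper5.AschU
open scoped MatrixGroups Matrix

variable {n : ℕ} {F : Type*} [Field F] [Fintype F]

/-- **V4** -/
theorem realisable_of_fixes_symp (q : ℕ) (hF : Fintype.card F = q ^ 2) (hn : 1 ≤ n)
    {P : Subgroup (GL (Fin n) F)} (hPI : P ≤ GU n F q) (hP : ActsAbsolutelyIrreducibly (matrixSet P))
    (f : (Fin n → F) → (Fin n → F) → F) (hf : IsSymplecticForm f) (hfix : FixesForm (matrixSet P) f) :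
    ∃ F₀ : Subfield F, F₀ ≠ ⊤ ∧ RealisableOver F₀ (matrixSet P) := by
  classical
  obtain ⟨p, k, hp, hchar, hqk⟩ := exists_char_pow hF
  haveI : ExpChar F p := ExpChar.prime hp
  have hk : 0 < k := by
    by_contra h0
    have : k = 0 := by omega
    rw [this, pow_zero] at hqk
    rw [hqk] at hF
    have := Fintype.one_lt_card (α := F)
    omega
  let σ : F →+* F := iterateFrobenius F p k
  have hσ : ∀ x, σ x = x ^ q := by
    intro x
    show iterateFrobenius F p k x = x ^ q
    rw [iterateFrobenius_def, hqk]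
  have hcard : Fintype.card F = p ^ (2 * k) := by rw [hF, hqk, ← pow_mul, mul_comm]
  obtain ⟨ω, hω'⟩ := Cfsg.Agent.Helper5.Asch.exists_pow_ne (F := F) (d := k) hp hcard hk (by omega)
  have hω : σ ω ≠ ω := by
    rw [hσ, hqk]; exact hω'
  -- the Gram matrix of the symplectic form
  have hsesq := Cfsg.Agent.Helper3.Asch.IsSesq.of_bilinear hf.bilinear
  let S : Matrix (Fin n) (Fin n) F := Cfsg.Agent.Helper3.Asch.gram f
  have hS : ∀ u v, f u v = u ⬝ᵥ (S *ᵥ v) := by
    intro u v
    have := hsesq.expand u v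
    simpa using this
  have hSdet : IsUnit S.det := hsesq.isUnit_det_gram (fun v hv => (hf.nondegenerate v hv).1)
  refine Cfsg.Agent.Helper5.AschO.realisable_core q hF hn σ hσ ω hω hP S hSdet ?_
  intro g hg
  have ha : (g : Matrix (Fin n) (Fin n) F)ᵀ * (g : Matrix (Fin n) (Fin n) F).map σ = 1 := by
    have := (Cfsg.Agent.Helper8.GUOrder.mem_GU_iff hF g).1 (hPI hg)
    have h2 : (g : Matrix (Fin n) (Fin n) F).map (· ^ q) = (g : Matrix (Fin n) (Fin n) F).map σ := by
      ext i j
      simp only [Matrix.map_apply, hσ]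
    rwa [h2] at this
  have ha' : (g : Matrix (Fin n) (Fin n) F).map σ * (g : Matrix (Fin n) (Fin n) F)ᵀ = 1 :=
    mul_eq_one_comm.1 ha
  have hb : (g : Matrix (Fin n) (Fin n) F)ᵀ * S * (g : Matrix (Fin n) (Fin n) F) = S := by
    apply mat_ext_of_forall
    intro u v
    rw [← hS, Matrix.mul_assoc, ← Matrix.mulVec_mulVec, ← mulVec_dotProduct', ← Matrix.mulVec_mulVec,
      ← hS]
    exact hfix _ (coe_mem_matrixSet hg) u v
  calc S * (g : Matrix (Fin n) (Fin n) F)
      = ((g : Matrix (Fin n) (Fin n) F).map σ * (g : Matrix (Fin n) (Fin n) F)ᵀ) * S *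
          (g : Matrix (Fin n) (Fin n) F) := by rw [ha', Matrix.one_mul]
    _ = (g : Matrix (Fin n) (Fin n) F).map σ *
          ((g : Matrix (Fin n) (Fin n) F)ᵀ * S * (g : Matrix (Fin n) (Fin n) F)) := by
        simp only [Matrix.mul_assoc]
    _ = (g : Matrix (Fin n) (Fin n) F).map σ * S := by rw [hb]

end Cfsg.Agent.Lead.AschCU
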