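import Mathlib
import Cfsg.Prelude.Def_GeometricClasses
import Cfsg.Agent.Helper7.TensNMJ

set_option autoImplicit false

/-!
ASCH-COMP-U piece V8b (lead): over the field with four elements the stabiliser of a tensor decomposition `2 ⊗ n₂` of
the unitary space fixes the decomposition `u ⊗ W ⊕ v ⊗ W` for an orthonormal basis `u, v` of the first factor.
Built on helper7's `TensNM` library (frames, monomiality of `GU_2(2)`).
-/

namespace Cfsg.Agent.Lead.AschCU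

open Matrix Cfsg Cfsg.Geo Cfsg.Agent.Helper7.TensNM Cfsg.Agent.Helper7.Herm
open scoped MatrixGroups Matrix Kronecker

variable {F : Type*} [Field F]

section blocks

variable {ι : Type} [Fintype ι] [DecidableEq ι] {J : Type} [Fintype J] [DecidableEq J]

theorem split_two (x : Fin 2 × J → F) :
    x = pt (ev F 0) (fun j => x (0, j)) + pt (ev F 1) (fun j => x (1, j)) := by
  ext a
  obtain ⟨i, j⟩ := a
  fin_cases i <;> simp [pt_apply, ev_apply]

theorem pt_ev_inj {l : Fin 2} {y y' : J → F} (h : pt (ev F l) y = pt (ev F l) y') : y = y' := by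
  ext j
  have := congrFun h (l, j)
  simpa [pt_apply, ev_apply] using this

theorem pt_ev_disjoint {y y' : J → F} (h : pt (ev F (0 : Fin 2)) y = pt (ev F (1 : Fin 2)) y') : y = 0 := by
  ext j
  have := congrFun h (0, j)
  simpa [pt_apply, ev_apply] using this

/-- the linear map `y ↦ R (e_l ⊗ y)` -/
def blkMap (R : Matrix ι (Fin 2 × J) F) (l : Fin 2) : (J → F) →ₗ[F] (ι → F) where
  toFun y := R *ᵥ pt (ev F l) y
  map_add' y y' := by rw [pt_add_right, Matrix.mulVec_add]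
  map_smul' c y := by rw [pt_smul_right, Matrix.mulVec_smul, RingHom.id_apply]

theorem blkMap_apply (R : Matrix ι (Fin 2 × J) F) (l : Fin 2) (y : J → F) :
    blkMap R l y = R *ᵥ pt (ev F l) y := rfl

theorem blk_eq_range (R : Matrix ι (Fin 2 × J) F) (l : Fin 2) : blk R l = LinearMap.range (blkMap R l) := by
  ext v
  rw [mem_blk, LinearMap.mem_range]
  constructor
  · rintro ⟨y, rfl⟩
    exact ⟨y, rfl⟩
  · rintro ⟨y, rfl⟩
    exact ⟨y, rfl⟩

theorem blk_isMDecomposition {R : Matrix ι (Fin 2 × J) F} {R' : Matrix (Fin 2 × J) ι F}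
    (hR'R : R' * R = 1) (hRR' : R * R' = 1) (hJ : 0 < Fintype.card J) :
    IsMDecomposition (Fintype.card J) (blk R) := by
  have hinj : ∀ {x y : Fin 2 × J → F}, R *ᵥ x = R *ᵥ y → x = y := by
    intro x y hxy
    have := congrArg (fun v => R' *ᵥ v) hxy
    simpa [Matrix.mulVec_mulVec, hR'R] using this
  refine ⟨le_refl 2, hJ, ?_, ?_, ?_⟩
  · intro l
    rw [blk_eq_range, LinearMap.finrank_range_of_inj, Module.finrank_pi]
    intro y y' h
    exact pt_ev_inj (hinj h)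
  · rw [iSupIndep_pair (by decide : (0 : Fin 2) ≠ 1) (by intro k; fin_cases k <;> simp)]
    rw [Submodule.disjoint_def]
    intro v h0 h1
    obtain ⟨y, rfl⟩ := mem_blk.mp h0
    obtain ⟨y', hy'⟩ := mem_blk.mp h1
    have := pt_ev_disjoint (hinj hy')
    rw [this, pt_zero_right, Matrix.mulVec_zero]
  · rw [eq_top_iff]
    intro v _
    have hv : v = R *ᵥ (R' *ᵥ v) := by
      rw [Matrix.mulVec_mulVec, hRR', Matrix.one_mulVec]
    rw [hv, split_two (R' *ᵥ v), Matrix.mulVec_add]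
    exact Submodule.add_mem _ (Submodule.mem_iSup_of_mem 0 (mem_blk.mpr ⟨_, rfl⟩))
      (Submodule.mem_iSup_of_mem 1 (mem_blk.mpr ⟨_, rfl⟩))

end blocks

variable [Fintype F] {n : ℕ}

/-- `q = 2`: `GU_2(2) ⊗ GU_{n₂}(2)` fixes the decomposition `u ⊗ W ⊕ v ⊗ W` for the orthonormal basis `u, v` of the
first factor. -/
theorem tensor_two_small (hF : Fintype.card F = 2 ^ 2) (n₂ : ℕ) (hn₂ : 0 < n₂) (e : Fin n ≃ Fin 2 × Fin n₂)
    (P : GL (Fin n) F) (f₁ : (Fin 2 → F) → (Fin 2 → F) → F) (f₂ : (Fin n₂ → F) → (Fin n₂ → F) → F)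
    (h₁ : IsUnitaryFormPow 2 f₁) (h₂ : IsUnitaryFormPow 2 f₂)
    (hT : IsTensorFormStructure (fun x : F => x ^ 2) (hermForm n F 2) f₁ f₂ e P) :
    ∃ D : Fin 2 → Submodule F (Fin n → F), IsNondegenerateMDecomposition (hermForm n F 2) n₂ D ∧
      tensorProductSubgroup 2 n₂ e P ⊓ GU n F 2 ≤ decompositionStabilizer D := by
  obtain ⟨c, hc, hform⟩ := hT
  obtain ⟨τ, hτ⟩ : ∃ τ : F →+* F, τ = frobQ hF := ⟨_, rfl⟩
  obtain ⟨U, U', ε, hU, hU', hε, hG⟩ := frame_F4 hF h₁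
  rw [← hτ] at hG
  have hf : ∀ (u u' : Fin 2 → F) (y y' : Fin n₂ → F),
      hermForm n F 2 (Rm e P *ᵥ pt u y) (Rm e P *ᵥ pt u' y') =
        c * (formOfGram τ (gramMatrix f₁) u u' * formOfGram τ (gramMatrix f₂) y y') := by
    intro u u' y y'
    rw [← mulVec_comp, ← mulVec_comp, hform, hτ]
    exact congrArg (fun z => c * z) (formOfGram_pt (frobQ hF) (gramMatrix f₁) (gramMatrix f₂) u u' y y')
  have hgram : ∀ y y' : Fin n₂ → F, formOfGram τ (gramMatrix f₂) y y' = f₂ y y' := by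
    intro y y'
    rw [hτ]
    exact (unitary_eq_gram hF h₂ y y').symm
  have hy0 : (Pi.single ⟨0, hn₂⟩ 1 : Fin n₂ → F) ≠ 0 := by
    intro h
    have := congrFun h ⟨0, hn₂⟩
    simp at this
  have hnz : ∃ y y', formOfGram τ (gramMatrix f₂) y y' ≠ 0 := by
    obtain ⟨x, hx⟩ := (h₂.nondegenerate _ hy0).1
    exact ⟨x, _, by rw [hgram]; exact hx⟩
  have hFr := frame_of (Rm_mul_Rm' e P) (Rm'_mul_Rm e P) hc hf hU hU' hε hG hnz
  obtain ⟨R, hR⟩ : ∃ R, R = Rm e P * (U ⊗ₖ (1 : Matrix (Fin n₂) (Fin n₂) F)) := ⟨_, rfl⟩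
  obtain ⟨R', hR'⟩ : ∃ R', R' = (U' ⊗ₖ (1 : Matrix (Fin n₂) (Fin n₂) F)) * Rm' e P := ⟨_, rfl⟩
  rw [← hR, ← hR'] at hFr
  have hκ0 : c * ε ≠ 0 := mul_ne_zero hc hε
  have hval : ∀ (l l' : Fin 2) (y y' : Fin n₂ → F),
      hermForm n F 2 (R *ᵥ pt (ev F l) y) (R *ᵥ pt (ev F l') y') = if l = l' then c * ε * f₂ y y' else 0 := by
    intro l l' y y'
    rw [hFr.form_ev, hgram]
  have hrep : ∀ g ∈ tensorProductSubgroup 2 n₂ e P, ∃ (B : Matrix (Fin 2) (Fin 2) F) (a : GL (Fin n₂) F),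
      (g : Matrix (Fin n) (Fin n) F) = R * (B ⊗ₖ (a : Matrix (Fin n₂) (Fin n₂) F)) * R' := by
    intro g hg
    obtain ⟨b, a, hab⟩ := mem_tensor hg
    refine ⟨U' * (b : Matrix (Fin 2) (Fin 2) F) * U, a, ?_⟩
    rw [hR, hR']
    exact conj_of hU hab
  refine ⟨blk R, ⟨?_, ?_, ?_⟩, ?_⟩
  · have := blk_isMDecomposition (R := R) (R' := R') hFr.R'R hFr.RR' (by simpa using hn₂)
    simpa using this
  · intro l w hw hw0
    obtain ⟨y, rfl⟩ := mem_blk.mp hw
    have hy : y ≠ 0 := by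
      intro h
      apply hw0
      rw [h, pt_zero_right, Matrix.mulVec_zero]
    obtain ⟨⟨x, hx⟩, ⟨x', hx'⟩⟩ := h₂.nondegenerate y hy
    refine ⟨⟨R *ᵥ pt (ev F l) x, mem_blk.mpr ⟨x, rfl⟩, ?_⟩, ⟨R *ᵥ pt (ev F l) x', mem_blk.mpr ⟨x', rfl⟩, ?_⟩⟩
    · rw [hval, if_pos rfl]
      exact mul_ne_zero hκ0 hx
    · rw [hval, if_pos rfl]
      exact mul_ne_zero hκ0 hx'
  · intro l l' hll u hu v hv
    obtain ⟨y, rfl⟩ := mem_blk.mp hu
    obtain ⟨y', rfl⟩ := mem_blk.mp hv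
    rw [hval, if_neg hll]
  · rintro g ⟨hg1, hg2⟩
    obtain ⟨B, a, hg⟩ := hrep g hg1
    have hmono : Mono τ 2 := by
      rw [hτ]
      exact mono_F4 hF
    refine hFr.stab hmono (A := (a : Matrix (Fin n₂) (Fin n₂) F))
      (A' := ((a⁻¹ : GL (Fin n₂) F) : Matrix (Fin n₂) (Fin n₂) F)) ?_ hg (fun x y => hg2 x y)
    rw [← Units.val_mul, mul_inv_cancel, Units.val_one]

end Cfsg.Agent.Lead.AschCU
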