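import Mathlib

set_option autoImplicit false

/-!
Automorphisms stabilizing a descending chain of subgroups of a finite `p`-group form a `p`-group.
-/

namespace Cfsg.Agent.Lead.Gex

variable {Q : Type*} [Group Q]

/-- `α` moves each element of `c i` by an element of `c (i + 1)`. -/
def ChainStab (c : ℕ → Subgroup Q) (α : MulAut Q) : Prop :=
  ∀ i, ∀ x ∈ c i, x⁻¹ * α x ∈ c (i + 1)

theorem ChainStab.one (c : ℕ → Subgroup Q) : ChainStab c 1 := by
  intro i x _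
  rw [MulAut.one_apply, inv_mul_cancel]
  exact (c (i + 1)).one_mem

theorem ChainStab.map_mem {c : ℕ → Subgroup Q} (hc : ∀ i, c (i + 1) ≤ c i) {α : MulAut Q}
    (h : ChainStab c α) {i : ℕ} {x : Q} (hx : x ∈ c i) : α x ∈ c i := by
  have h1 : α x = x * (x⁻¹ * α x) := by group
  rw [h1]
  exact (c i).mul_mem hx (hc i (h i x hx))

theorem ChainStab.mul {c : ℕ → Subgroup Q} (hc : ∀ i, c (i + 1) ≤ c i) {α β : MulAut Q}
    (hα : ChainStab c α) (hβ : ChainStab c β) : ChainStab c (α * β) := by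
  intro i x hx
  have h1 : x⁻¹ * (α * β) x = (x⁻¹ * β x) * ((β x)⁻¹ * α (β x)) := by
    rw [MulAut.mul_apply]; group
  rw [h1]
  exact (c (i + 1)).mul_mem (hβ i x hx) (hα i _ (hβ.map_mem hc hx))

theorem ChainStab.pow {c : ℕ → Subgroup Q} (hc : ∀ i, c (i + 1) ≤ c i) {α : MulAut Q}
    (hα : ChainStab c α) (k : ℕ) : ChainStab c (α ^ k) := by
  induction k with
  | zero => rw [pow_zero]; exact ChainStab.one c
  | succ k ih => rw [pow_succ]; exact ChainStab.mul hc ih hα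

theorem ChainStab.inv [Finite Q] {c : ℕ → Subgroup Q} (hc : ∀ i, c (i + 1) ≤ c i) {α : MulAut Q}
    (hα : ChainStab c α) : ChainStab c α⁻¹ := by
  have h1 : α⁻¹ = α ^ (orderOf α - 1) := by
    rw [eq_comm, ← mul_eq_one_iff_eq_inv, ← pow_succ,
      Nat.sub_add_cancel (orderOf_pos α), pow_orderOf_eq_one]
  rw [h1]
  exact hα.pow hc _

theorem ChainStab.of_mem_closure [Finite Q] {c : ℕ → Subgroup Q} (hc : ∀ i, c (i + 1) ≤ c i)
    {T : Set (MulAut Q)} (hT : ∀ α ∈ T, ChainStab c α) {α : MulAut Q}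
    (hα : α ∈ Subgroup.closure T) : ChainStab c α := by
  induction hα using Subgroup.closure_induction with
  | mem x hx => exact hT x hx
  | one => exact ChainStab.one c
  | mul x y _ _ hx hy => exact ChainStab.mul hc hx hy
  | inv x _ hx => exact ChainStab.inv hc hx

theorem ChainStab.conj {c : ℕ → Subgroup Q} {a α : MulAut Q}
    (ha : ∀ i x, x ∈ c i → a x ∈ c i) (ha' : ∀ i x, x ∈ c i → a⁻¹ x ∈ c i)
    (hα : ChainStab c α) : ChainStab c (a * α * a⁻¹) := by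
  intro i x hx
  have h1 : x⁻¹ * (a * α * a⁻¹) x = a ((a⁻¹ x)⁻¹ * α (a⁻¹ x)) := by
    rw [map_mul, map_inv, MulAut.apply_inv_self]
    rfl
  rw [h1]
  exact ha _ _ (hα i _ (ha' i x hx))

theorem pow_apply_of_fix (β : MulAut Q) (x : Q) (h : β (x⁻¹ * β x) = x⁻¹ * β x) (n : ℕ) :
    (β ^ n) x = x * (x⁻¹ * β x) ^ n := by
  induction n with
  | zero => simp
  | succ n ih =>
    rw [pow_succ', MulAut.mul_apply, ih, map_mul, map_pow, h, pow_succ', ← mul_assoc x,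
      mul_inv_cancel_left]

/-- A chain stabilizer of order prime to `p` is trivial. -/
theorem ChainStab.eq_one_of_coprime {p : ℕ} (hQ : IsPGroup p Q)
    {c : ℕ → Subgroup Q} (h0 : c 0 = ⊤) {k : ℕ} (hk : c k = ⊥) {β : MulAut Q}
    (hβ : ChainStab c β) {m : ℕ} (hm : β ^ m = 1) (hcop : m.Coprime p) : β = 1 := by
  have key : ∀ d i : ℕ, i + d = k → ∀ x ∈ c i, β x = x := by
    intro d
    induction d with
    | zero =>
      intro i hi x hx
      rw [Nat.add_zero] at hi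
      rw [hi, hk, Subgroup.mem_bot] at hx
      rw [hx, map_one]
    | succ d ih =>
      intro i hi x hx
      have hfix : β (x⁻¹ * β x) = x⁻¹ * β x := ih (i + 1) (by omega) _ (hβ i x hx)
      have h1 := pow_apply_of_fix β x hfix m
      rw [hm, MulAut.one_apply] at h1
      have h2 : (x⁻¹ * β x) ^ m = 1 := by
        have h3 : x * (x⁻¹ * β x) ^ m = x * 1 := by rw [mul_one]; exact h1.symm
        exact mul_left_cancel h3
      obtain ⟨a, ha⟩ := hQ (x⁻¹ * β x)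
      have h4 : orderOf (x⁻¹ * β x) ∣ Nat.gcd m (p ^ a) :=
        Nat.dvd_gcd (orderOf_dvd_of_pow_eq_one h2) (orderOf_dvd_of_pow_eq_one ha)
      have h5 : Nat.gcd m (p ^ a) = 1 := Nat.Coprime.pow_right a hcop
      rw [h5, Nat.dvd_one, orderOf_eq_one_iff, inv_mul_eq_one] at h4
      exact h4.symm
  ext x
  rw [MulAut.one_apply]
  exact key k 0 (by omega) x (by rw [h0]; exact Subgroup.mem_top x)

/-- A group of chain stabilizers of a finite `p`-group is a `p`-group. -/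
theorem isPGroup_of_chainStab [Finite Q] {p : ℕ} [hp : Fact p.Prime] (hQ : IsPGroup p Q)
    {c : ℕ → Subgroup Q} (hc : ∀ i, c (i + 1) ≤ c i) (h0 : c 0 = ⊤) {k : ℕ} (hk : c k = ⊥)
    (K : Subgroup (MulAut Q)) (hK : ∀ α ∈ K, ChainStab c α) : IsPGroup p K := by
  rintro ⟨α, hα⟩
  have hpos : orderOf α ≠ 0 := (orderOf_pos α).ne'
  obtain ⟨a, m, hm, hfac⟩ := Nat.exists_eq_pow_mul_and_not_dvd hpos p hp.out.ne_one
  refine ⟨a, Subtype.ext ?_⟩
  rw [Subgroup.coe_pow, Subgroup.coe_one]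
  have h1 : (α ^ p ^ a) ^ m = 1 := by
    rw [← pow_mul, ← hfac, pow_orderOf_eq_one]
  have hcop : m.Coprime p := by
    rw [Nat.coprime_comm]
    exact (Nat.Prime.coprime_iff_not_dvd hp.out).mpr hm
  exact ChainStab.eq_one_of_coprime hQ h0 hk ((hK α hα).pow hc _) h1 hcop

/-- The chain `⊤ ≥ M ≥ W ≥ Z₁ ≥ ⊥`. -/
def chain4 (M W Z₁ : Subgroup Q) : ℕ → Subgroup Q
  | 0 => ⊤
  | 1 => M
  | 2 => W
  | 3 => Z₁
  | _ => ⊥

theorem chain4_anti {M W Z₁ : Subgroup Q} (hWM : W ≤ M) (hZW : Z₁ ≤ W) :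
    ∀ i, chain4 M W Z₁ (i + 1) ≤ chain4 M W Z₁ i := by
  intro i
  match i with
  | 0 => exact le_top
  | 1 => exact hWM
  | 2 => exact hZW
  | 3 => exact bot_le
  | (n + 4) => exact bot_le

theorem chain4_zero (M W Z₁ : Subgroup Q) : chain4 M W Z₁ 0 = ⊤ := rfl

theorem chain4_four (M W Z₁ : Subgroup Q) : chain4 M W Z₁ 4 = ⊥ := rfl

theorem chainStab_chain4 {M W Z₁ : Subgroup Q} {α : MulAut Q} (h1 : ∀ x, x⁻¹ * α x ∈ M)
    (h2 : ∀ x ∈ M, x⁻¹ * α x ∈ W) (h3 : ∀ x ∈ W, x⁻¹ * α x ∈ Z₁) (h4 : ∀ x ∈ Z₁, α x = x) :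
    ChainStab (chain4 M W Z₁) α := by
  intro i x hx
  match i with
  | 0 => exact h1 x
  | 1 => exact h2 x hx
  | 2 => exact h3 x hx
  | 3 =>
    show x⁻¹ * α x ∈ (⊥ : Subgroup Q)
    rw [h4 x hx, inv_mul_cancel]
    exact Subgroup.one_mem _
  | (n + 4) =>
    have hx1 : x = 1 := by
      have : x ∈ (⊥ : Subgroup Q) := hx
      exact Subgroup.mem_bot.mp this
    show x⁻¹ * α x ∈ (⊥ : Subgroup Q)
    rw [hx1, map_one, inv_one, one_mul]
    exact Subgroup.one_mem _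

theorem chain4_inv {M W Z₁ : Subgroup Q} {a : MulAut Q} (hM : ∀ x ∈ M, a x ∈ M)
    (hW : ∀ x ∈ W, a x ∈ W) (hZ : ∀ x ∈ Z₁, a x ∈ Z₁) :
    ∀ i x, x ∈ chain4 M W Z₁ i → a x ∈ chain4 M W Z₁ i := by
  intro i x hx
  match i with
  | 0 => exact Subgroup.mem_top _
  | 1 => exact hM x hx
  | 2 => exact hW x hx
  | 3 => exact hZ x hx
  | (n + 4) =>
    have hx1 : x = 1 := by
      have : x ∈ (⊥ : Subgroup Q) := hx
      exact Subgroup.mem_bot.mp this
    show a x ∈ (⊥ : Subgroup Q)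
    rw [hx1, map_one]
    exact Subgroup.one_mem _

end Cfsg.Agent.Lead.Gex
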