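import Mathlib

set_option autoImplicit false

/-!
Automorphisms of order `p` of a group of order dividing `p ^ 2`.
-/

namespace Cfsg.Agent.Lead.Meta

variable {V : Type*} [Group V]

/-- The fixed points of an automorphism. -/
def fixAut (u : MulAut V) : Subgroup V where
  carrier := {w | u w = w}
  mul_mem' := by
    intro a b ha hb
    show u (a * b) = a * b
    rw [map_mul, ha, hb]
  one_mem' := map_one u
  inv_mem' := by
    intro a ha
    show u a⁻¹ = a⁻¹
    rw [map_inv, ha]

theorem mem_fixAut (u : MulAut V) (w : V) : w ∈ fixAut u ↔ u w = w := Iff.rfl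

theorem fixAut_ne_top {u : MulAut V} (hu1 : u ≠ 1) : fixAut u ≠ ⊤ := by
  intro h
  apply hu1
  ext w
  have : w ∈ fixAut u := by rw [h]; exact Subgroup.mem_top w
  exact this

theorem isPGroup_zpowers {G : Type*} [Group G] {p : ℕ} (u : G) (hu : u ^ p = 1) :
    IsPGroup p (Subgroup.zpowers u) := by
  rintro ⟨g, hg⟩
  obtain ⟨n, rfl⟩ := Subgroup.mem_zpowers_iff.mp hg
  refine ⟨1, ?_⟩
  apply Subtype.ext
  rw [Subgroup.coe_pow, pow_one]
  show (u ^ n) ^ p = 1
  rw [← zpow_natCast, ← zpow_mul, mul_comm, zpow_mul, zpow_natCast, hu, one_zpow]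

theorem fixedPoints_zpowers (u : MulAut V) :
    MulAction.fixedPoints (Subgroup.zpowers u) V = (fixAut u : Set V) := by
  ext w
  constructor
  · intro h
    exact h ⟨u, Subgroup.mem_zpowers u⟩
  · intro h g
    have h1 : Subgroup.zpowers u ≤ MulAction.stabilizer (MulAut V) w := by
      rw [Subgroup.zpowers_le]
      exact h
    exact h1 g.2

/-- An automorphism `u ≠ 1` with `u ^ p = 1` of a group of order dividing `p ^ 2`: the group has
order `p ^ 2` and the fixed points have order `p`. -/
theorem card_fixAut [Finite V] {p : ℕ} [hp : Fact p.Prime] (hcard : Nat.card V ∣ p ^ 2)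
    (u : MulAut V) (hu : u ^ p = 1) (hu1 : u ≠ 1) :
    Nat.card V = p ^ 2 ∧ Nat.card (fixAut u) = p := by
  have hPG := isPGroup_zpowers u hu
  have hmod := hPG.card_modEq_card_fixedPoints V
  have hfp : Nat.card (MulAction.fixedPoints (Subgroup.zpowers u) V) = Nat.card (fixAut u) := by
    rw [fixedPoints_zpowers]
    rfl
  rw [hfp] at hmod
  have hne := fixAut_ne_top hu1
  have hlt : Nat.card (fixAut u) ≠ Nat.card V := by
    intro h
    exact hne ((Subgroup.card_eq_iff_eq_top _).mp h)
  have hdvd : Nat.card (fixAut u) ∣ Nat.card V := Subgroup.card_subgroup_dvd_card _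
  obtain ⟨k, hk, hVk⟩ := (Nat.dvd_prime_pow hp.out).mp hcard
  have hdvd' : Nat.card (fixAut u) ∣ p ^ k := hVk ▸ hdvd
  obtain ⟨j, hj, hLj⟩ := (Nat.dvd_prime_pow hp.out).mp hdvd'
  have hp2 : 2 ≤ p := hp.out.two_le
  rw [hVk, hLj] at hmod
  rw [hVk, hLj] at hlt
  have hjk : j ≠ k := fun h => hlt (by rw [h])
  have hj0 : j ≠ 0 := by
    intro h0
    subst h0
    have hk0 : k ≠ 0 := fun h => hjk h.symm
    have h1 : p ^ k ≡ 0 [MOD p] := by
      rw [Nat.modEq_zero_iff_dvd]
      exact dvd_pow_self p hk0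
    have h2 : 1 ≡ 0 [MOD p] := by
      have := hmod.symm.trans h1
      simpa using this
    rw [Nat.modEq_zero_iff_dvd] at h2
    have := Nat.le_of_dvd one_pos h2
    omega
  have hj1 : j = 1 ∧ k = 2 := by omega
  obtain ⟨rfl, rfl⟩ := hj1
  exact ⟨hVk, by rw [hLj, pow_one]⟩


theorem normal_of_comm (hcomm : ∀ a b : V, a * b = b * a) (L : Subgroup V) : L.Normal := by
  constructor
  intro n hn g
  rw [hcomm g n, mul_inv_cancel_right]
  exact hn

/-- An automorphism `u` with `u ^ p = 1` of a group of order `p` is trivial. -/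
theorem eq_one_of_card_eq [Finite V] {p : ℕ} [hp : Fact p.Prime] (hcard : Nat.card V = p)
    (u : MulAut V) (hu : u ^ p = 1) : u = 1 := by
  by_contra hu1
  have h1 : Nat.card V ∣ p ^ 2 := by
    rw [hcard]
    exact dvd_pow_self p (by norm_num)
  have h2 := (card_fixAut h1 u hu hu1).1
  rw [hcard] at h2
  have hp2 : 2 ≤ p := hp.out.two_le
  nlinarith

/-- In a commutative group of order dividing `p ^ 2`, an automorphism `u` with `u ^ p = 1` satisfies
`u w * w⁻¹ ∈ Fix(u)`. -/
theorem map_mul_inv_mem_fixAut [Finite V] {p : ℕ} [hp : Fact p.Prime] (hcard : Nat.card V ∣ p ^ 2)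
    (hcomm : ∀ a b : V, a * b = b * a) (u : MulAut V) (hu : u ^ p = 1) (w : V) :
    u w * w⁻¹ ∈ fixAut u := by
  by_cases hu1 : u = 1
  · subst hu1
    show (1 : MulAut V) _ = _
    rfl
  obtain ⟨hV, hL⟩ := card_fixAut hcard u hu hu1
  haveI hLn : (fixAut u).Normal := normal_of_comm hcomm _
  have hmap : (fixAut u).map u.toMonoidHom = fixAut u := by
    ext x
    constructor
    · rintro ⟨y, hy, rfl⟩
      have hy' : u y = y := hy
      show u (u y) = u y
      rw [hy', hy']
    · intro hx
      exact ⟨x, hx, hx⟩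
  set ubar : MulAut (V ⧸ fixAut u) := QuotientGroup.congr (fixAut u) (fixAut u) u hmap with hubar
  have hcardq : Nat.card (V ⧸ fixAut u) = p := by
    have h1 := Subgroup.card_eq_card_quotient_mul_card_subgroup (fixAut u)
    rw [hV, hL, sq] at h1
    exact (Nat.eq_of_mul_eq_mul_right hp.out.pos h1).symm
  have hpow : ∀ (k : ℕ) (x : V), (ubar ^ k) (QuotientGroup.mk x) = QuotientGroup.mk ((u ^ k) x) := by
    intro k
    induction k with
    | zero => intro x; rfl
    | succ k ih =>
      intro x
      rw [pow_succ', pow_succ', MulAut.mul_apply, ih, MulAut.mul_apply]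
      rfl
  have hubarp : ubar ^ p = 1 := by
    ext x
    induction x using QuotientGroup.induction_on with
    | H x =>
      rw [hpow, hu]
      rfl
  have h1 := eq_one_of_card_eq hcardq ubar hubarp
  have h2 : ubar (QuotientGroup.mk w) = QuotientGroup.mk w := by rw [h1]; rfl
  have h3 : ubar (QuotientGroup.mk w) = QuotientGroup.mk (u w) := rfl
  rw [h3, QuotientGroup.eq] at h2
  have h4 : u w * w⁻¹ = ((u w)⁻¹ * w)⁻¹ := by
    rw [mul_inv_rev, inv_inv, hcomm]
  rw [h4]
  exact (fixAut u).inv_mem h2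


theorem eq_top_of_lt [Finite V] {p : ℕ} [hp : Fact p.Prime] (hV : Nat.card V = p ^ 2)
    {L H : Subgroup V} (hL : Nat.card L = p) (hLH : L < H) : H = ⊤ := by
  have h1 : Nat.card L ∣ Nat.card H := Subgroup.card_dvd_of_le hLH.le
  have h2 : Nat.card H ∣ Nat.card V := Subgroup.card_subgroup_dvd_card _
  rw [hV] at h2
  rw [hL] at h1
  obtain ⟨k, hk, hHk⟩ := (Nat.dvd_prime_pow hp.out).mp h2
  have hne : Nat.card H ≠ p := by
    intro h
    have : L = H := Subgroup.eq_of_le_of_card_ge hLH.le (by rw [h, hL])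
    exact hLH.ne this
  have hp2 : 2 ≤ p := hp.out.two_le
  have hk2 : k = 2 := by
    rcases Nat.lt_or_ge k 2 with h | h
    · interval_cases k
      · rw [hHk, pow_zero] at h1
        have := Nat.le_of_dvd one_pos h1
        omega
      · rw [hHk, pow_one] at hne
        exact absurd rfl hne
    · omega
  rw [← Subgroup.card_eq_iff_eq_top, hHk, hk2, hV]

theorem pow_apply_of_shift (a : MulAut V) (w f : V) (hw : a w = f * w) (hf : a f = f) (n : ℕ) :
    (a ^ n) w = f ^ n * w := by
  induction n with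
  | zero => simp
  | succ n ih =>
    rw [pow_succ', MulAut.mul_apply, ih, map_mul, map_pow, hf, hw, pow_succ, mul_assoc]

theorem pow_apply_of_fixed (a : MulAut V) (w : V) (hw : a w = w) (n : ℕ) : (a ^ n) w = w := by
  induction n with
  | zero => rfl
  | succ n ih => rw [pow_succ', MulAut.mul_apply, ih, hw]

theorem exists_pow_eq_of_prime_card [Finite V] {p : ℕ} [hp : Fact p.Prime] (L : Subgroup V)
    (hL : Nat.card L = p) {g x : V} (hg : g ∈ L) (hg1 : g ≠ 1) (hx : x ∈ L) : ∃ n : ℕ, g ^ n = x := by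
  have h1 : Subgroup.zpowers (⟨g, hg⟩ : L) = ⊤ := by
    apply zpowers_eq_top_of_prime_card hL
    intro h
    exact hg1 (congrArg Subtype.val h)
  have h2 : (⟨x, hx⟩ : L) ∈ Subgroup.zpowers (⟨g, hg⟩ : L) := by rw [h1]; exact Subgroup.mem_top _
  rw [← mem_powers_iff_mem_zpowers] at h2
  obtain ⟨n, hn⟩ := h2
  refine ⟨n, ?_⟩
  have := congrArg Subtype.val hn
  simpa using this

/-- Two automorphisms of order `p` of a commutative group of order dividing `p ^ 2` that do not
generate the same cyclic group generate a group containing the inversion. -/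
theorem exists_inversion [Finite V] {p : ℕ} [hp : Fact p.Prime] (hcard : Nat.card V ∣ p ^ 2)
    (hcomm : ∀ a b : V, a * b = b * a) (u v : MulAut V) (hu : u ^ p = 1) (hv : v ^ p = 1)
    (hu1 : u ≠ 1) (hvu : v ∉ Subgroup.zpowers u) :
    ∃ t ∈ Subgroup.closure ({u, v} : Set (MulAut V)), ∀ w : V, t w = w⁻¹ := by
  have hv1 : v ≠ 1 := by
    intro h
    exact hvu (h ▸ Subgroup.one_mem _)
  obtain ⟨hV, hL1⟩ := card_fixAut hcard u hu hu1
  obtain ⟨-, hL2⟩ := card_fixAut hcard v hv hv1
  have hp2 : 2 ≤ p := hp.out.two_le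
  by_cases hL : fixAut u = fixAut v
  · exfalso
    apply hvu
    obtain ⟨e2, he2⟩ : ∃ e2 : V, e2 ∉ fixAut u := by
      by_contra hcon
      push_neg at hcon
      exact fixAut_ne_top hu1 (by rw [eq_top_iff]; intro x _; exact hcon x)
    have hfu : u e2 * e2⁻¹ ∈ fixAut u := map_mul_inv_mem_fixAut hcard hcomm u hu e2
    have hfv : v e2 * e2⁻¹ ∈ fixAut u := by
      rw [hL]
      exact map_mul_inv_mem_fixAut hcard hcomm v hv e2
    have hfu1 : u e2 * e2⁻¹ ≠ 1 := by
      intro h
      apply he2
      show u e2 = e2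
      exact mul_inv_eq_one.mp h
    obtain ⟨n, hn⟩ := exists_pow_eq_of_prime_card (fixAut u) hL1 hfu hfu1 hfv
    have h1 : (u ^ n) e2 = (u e2 * e2⁻¹) ^ n * e2 := by
      apply pow_apply_of_shift
      · rw [inv_mul_cancel_right]
      · exact hfu
    have h2 : v e2 = (u ^ n) e2 := by
      rw [h1, hn, inv_mul_cancel_right]
    have h3 : fixAut u < MonoidHom.eqLocus v.toMonoidHom (u ^ n).toMonoidHom := by
      refine lt_of_le_of_ne ?_ ?_
      · intro x hx
        show v x = (u ^ n) x
        have hx' : v x = x := by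
          have : x ∈ fixAut v := hL ▸ hx
          exact this
        rw [hx', pow_apply_of_fixed u x hx]
      · intro h
        apply he2
        rw [h]
        exact h2
    have h4 := eq_top_of_lt hV hL1 h3
    have h5 : v = u ^ n := by
      ext x
      have : x ∈ MonoidHom.eqLocus v.toMonoidHom (u ^ n).toMonoidHom := by
        rw [h4]; exact Subgroup.mem_top x
      exact this
    rw [h5]
    exact Subgroup.pow_mem _ (Subgroup.mem_zpowers u) n
  · -- distinct fixed lines
    have hinf : fixAut u ⊓ fixAut v = ⊥ := by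
      have h1 : Nat.card ↥(fixAut u ⊓ fixAut v) ∣ p := by
        rw [← hL1]
        exact Subgroup.card_dvd_of_le inf_le_left
      rcases (Nat.dvd_prime hp.out).mp h1 with h | h
      · exact Subgroup.card_eq_one.mp h
      · exfalso
        apply hL
        have h2 : fixAut u ⊓ fixAut v = fixAut u :=
          Subgroup.eq_of_le_of_card_ge inf_le_left (by rw [h, hL1])
        have h3 : fixAut u ⊓ fixAut v = fixAut v :=
          Subgroup.eq_of_le_of_card_ge inf_le_right (by rw [h, hL2])
        rw [← h2, h3]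
    obtain ⟨e2, he2, he21⟩ : ∃ e2 ∈ fixAut v, e2 ≠ 1 := by
      have h1 : fixAut v ≠ ⊥ := by
        intro h
        rw [h, Subgroup.card_bot] at hL2
        omega
      exact (Subgroup.ne_bot_iff_exists_ne_one.mp h1).elim fun x hx => ⟨x.1, x.2, fun h => hx (Subtype.ext h)⟩
    set e1 := u e2 * e2⁻¹ with he1def
    have he1 : e1 ∈ fixAut u := map_mul_inv_mem_fixAut hcard hcomm u hu e2
    have he11 : e1 ≠ 1 := by
      intro h
      apply he21
      have h1 : e2 ∈ fixAut u := by
        show u e2 = e2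
        exact mul_inv_eq_one.mp h
      have h2 : e2 ∈ fixAut u ⊓ fixAut v := Subgroup.mem_inf.mpr ⟨h1, he2⟩
      rw [hinf] at h2
      exact Subgroup.mem_bot.mp h2
    set g := v e1 * e1⁻¹ with hgdef
    have hg : g ∈ fixAut v := map_mul_inv_mem_fixAut hcard hcomm v hv e1
    have hg1 : g ≠ 1 := by
      intro h
      apply he11
      have h1 : e1 ∈ fixAut v := by
        show v e1 = e1
        exact mul_inv_eq_one.mp h
      have h2 : e1 ∈ fixAut u ⊓ fixAut v := Subgroup.mem_inf.mpr ⟨he1, h1⟩
      rw [hinf] at h2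
      exact Subgroup.mem_bot.mp h2
    obtain ⟨j, hj⟩ := exists_pow_eq_of_prime_card (fixAut v) hL2 hg hg1 ((fixAut v).inv_mem he2)
    have hu_e1 : u e1 = e1 := he1
    have hu_e2 : u e2 = e1 * e2 := by rw [he1def, inv_mul_cancel_right]
    have hv'_e2 : (v ^ j) e2 = e2 := pow_apply_of_fixed v e2 he2 j
    have hv'_e1 : (v ^ j) e1 = e2⁻¹ * e1 := by
      rw [← hj]
      apply pow_apply_of_shift
      · rw [hgdef, inv_mul_cancel_right]
      · exact hg
    set w := u * v ^ j * u with hwdef
    have hw_e1 : w e1 = e2⁻¹ := by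
      show u ((v ^ j) (u e1)) = e2⁻¹
      rw [hu_e1, hv'_e1, map_mul, map_inv, hu_e2, hu_e1, mul_inv_rev, hcomm e2⁻¹ e1⁻¹, mul_assoc,
        hcomm e2⁻¹ e1, ← mul_assoc, inv_mul_cancel, one_mul]
    have hw_e2 : w e2 = e1 := by
      show u ((v ^ j) (u e2)) = e1
      rw [hu_e2, map_mul, hv'_e1, hv'_e2, mul_assoc, hcomm e1 e2, ← mul_assoc, inv_mul_cancel,
        one_mul, hu_e1]
    have hum : u ∈ Subgroup.closure ({u, v} : Set (MulAut V)) :=
      Subgroup.subset_closure (Set.mem_insert _ _)
    have hvm : v ∈ Subgroup.closure ({u, v} : Set (MulAut V)) :=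
      Subgroup.subset_closure (Set.mem_insert_of_mem _ rfl)
    have hwm : w ∈ Subgroup.closure ({u, v} : Set (MulAut V)) :=
      Subgroup.mul_mem _ (Subgroup.mul_mem _ hum (Subgroup.pow_mem _ hvm j)) hum
    refine ⟨w * w, Subgroup.mul_mem _ hwm hwm, ?_⟩
    have ht_e1 : (w * w) e1 = e1⁻¹ := by
      show w (w e1) = e1⁻¹
      rw [hw_e1, map_inv, hw_e2]
    have ht_e2 : (w * w) e2 = e2⁻¹ := by
      show w (w e2) = e2⁻¹
      rw [hw_e2, hw_e1]
    -- the subgroup of inverted elements
    let H : Subgroup V :=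
      { carrier := {x | (w * w) x = x⁻¹}
        mul_mem' := by
          intro a b ha hb
          show (w * w) (a * b) = (a * b)⁻¹
          rw [map_mul, ha, hb, mul_inv_rev, hcomm]
        one_mem' := by
          show (w * w) 1 = 1⁻¹
          rw [map_one, inv_one]
        inv_mem' := by
          intro a ha
          show (w * w) a⁻¹ = a⁻¹⁻¹
          rw [map_inv, ha] }
    have hHe1 : e1 ∈ H := ht_e1
    have hHe2 : e2 ∈ H := ht_e2
    have hzL : Subgroup.zpowers e1 ≤ fixAut u := by
      rw [Subgroup.zpowers_le]; exact he1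
    have hzcard : Nat.card (Subgroup.zpowers e1) = p := by
      rw [Nat.card_zpowers]
      apply orderOf_eq_prime
      · have h1 : (⟨e1, he1⟩ : fixAut u) ^ Nat.card (fixAut u) = 1 := pow_card_eq_one'
        rw [hL1] at h1
        have := congrArg Subtype.val h1
        simpa using this
      · exact he11
    have hlt : Subgroup.zpowers e1 < H := by
      refine lt_of_le_of_ne ?_ ?_
      · rw [Subgroup.zpowers_le]; exact hHe1
      · intro h
        apply he21
        have h1 : e2 ∈ fixAut u := hzL (h ▸ hHe2)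
        have h2 : e2 ∈ fixAut u ⊓ fixAut v := Subgroup.mem_inf.mpr ⟨h1, he2⟩
        rw [hinf] at h2
        exact Subgroup.mem_bot.mp h2
    have hH := eq_top_of_lt hV hzcard hlt
    intro x
    have : x ∈ H := by rw [hH]; exact Subgroup.mem_top x
    exact this


/-- The norm of an automorphism of order dividing `p` (`p` odd) of an elementary abelian group of
order dividing `p ^ 2` is trivial. -/
theorem prod_pow_apply_eq_one [Finite V] {p : ℕ} [hp : Fact p.Prime] (hp2 : p ≠ 2)
    (hcard : Nat.card V ∣ p ^ 2) (hcomm : ∀ a b : V, a * b = b * a) (hexp : ∀ w : V, w ^ p = 1)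
    (θ : MulAut V) (hθ : θ ^ p = 1) (v : V) :
    ((List.range p).map (fun i => (θ ^ i) v)).prod = 1 := by
  set f := θ v * v⁻¹ with hf
  have hfm : f ∈ fixAut θ := map_mul_inv_mem_fixAut hcard hcomm θ hθ v
  have hshift : ∀ i : ℕ, (θ ^ i) v = f ^ i * v := by
    intro i
    apply pow_apply_of_shift
    · rw [hf, inv_mul_cancel_right]
    · exact hfm
  have hcommpow : ∀ (a b : V) (n : ℕ), a ^ n * b = b * a ^ n := fun a b n => hcomm _ _
  have hprod : ∀ n : ℕ, ((List.range n).map (fun i => (θ ^ i) v)).prod =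
      f ^ (∑ i ∈ Finset.range n, i) * v ^ n := by
    intro n
    induction n with
    | zero => simp
    | succ n ih =>
      rw [List.range_succ, List.map_append, List.prod_append, ih, Finset.sum_range_succ]
      simp only [List.map_cons, List.map_nil, List.prod_cons, List.prod_nil, mul_one]
      rw [hshift n, pow_add, pow_succ]
      calc f ^ (∑ i ∈ Finset.range n, i) * v ^ n * (f ^ n * v)
          = f ^ (∑ i ∈ Finset.range n, i) * (v ^ n * f ^ n) * v := by simp only [mul_assoc]
        _ = f ^ (∑ i ∈ Finset.range n, i) * (f ^ n * v ^ n) * v := by rw [hcomm (v ^ n) (f ^ n)]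
        _ = f ^ (∑ i ∈ Finset.range n, i) * f ^ n * (v ^ n * v) := by simp only [mul_assoc]
  rw [hprod, hexp, mul_one]
  have h2 := Finset.sum_range_id_mul_two p
  have hodd : Odd p := hp.out.odd_of_ne_two hp2
  obtain ⟨k, hk⟩ := hodd
  have h3 : (∑ i ∈ Finset.range p, i) = p * k := by
    have h4 : p - 1 = 2 * k := by omega
    rw [h4] at h2
    have h5 : (∑ i ∈ Finset.range p, i) * 2 = (p * k) * 2 := by rw [h2]; ring
    exact Nat.eq_of_mul_eq_mul_right (by norm_num) h5
  rw [h3, pow_mul, hexp, one_pow]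

end Cfsg.Agent.Lead.Meta
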