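import Mathlib
import Cfsg.Agent.Lead.MetaA
import Cfsg.Agent.Lead.GlTh2A
import Cfsg.Agent.Helper4.FrattiniQuotient

set_option autoImplicit false

/-!
Automorphism groups acting on an invariant subgroup `M` and on its Frattini quotient.
-/

namespace Cfsg.Agent.Lead.Meta

open Cfsg.Agent.Lead.GlTh2

variable {Q : Type*} [Group Q]

/-- The Frattini subgroup of a subgroup, inside the ambient group. -/
def frat (M : Subgroup Q) : Subgroup Q := (frattini ↥M).map M.subtype

theorem mem_frat (M : Subgroup Q) (x : Q) :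
    x ∈ frat M ↔ ∃ h : x ∈ M, (⟨x, h⟩ : M) ∈ frattini ↥M := by
  constructor
  · rintro ⟨y, hy, rfl⟩
    exact ⟨y.2, hy⟩
  · rintro ⟨h, hx⟩
    exact ⟨⟨x, h⟩, hx, rfl⟩

theorem frat_le (M : Subgroup Q) : frat M ≤ M := by
  intro x hx
  obtain ⟨h, -⟩ := (mem_frat M x).mp hx
  exact h

/-- Restriction of an automorphism preserving `M`. -/
def resAut (M : Subgroup Q) (α : MulAut Q) (h : ∀ x, α x ∈ M ↔ x ∈ M) : MulAut ↥M where
  toFun x := ⟨α x, (h x).2 x.2⟩
  invFun y := ⟨α.symm y, by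
    have := h (α.symm y)
    rw [MulEquiv.apply_symm_apply] at this
    exact this.1 y.2⟩
  left_inv x := Subtype.ext (α.symm_apply_apply x)
  right_inv y := Subtype.ext (α.apply_symm_apply y)
  map_mul' x y := Subtype.ext (map_mul α (x : Q) (y : Q))

theorem resAut_apply (M : Subgroup Q) (α : MulAut Q) (h : ∀ x, α x ∈ M ↔ x ∈ M) (m : M) :
    ((resAut M α h m : M) : Q) = α (m : Q) := rfl

theorem frattini_map_resAut (M : Subgroup Q) (α : MulAut Q) (h : ∀ x, α x ∈ M ↔ x ∈ M) :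
    (frattini ↥M).map (resAut M α h).toMonoidHom = frattini ↥M :=
  Subgroup.characteristic_iff_map_eq.mp frattini_characteristic _

theorem map_mem_frat (M : Subgroup Q) (α : MulAut Q) (h : ∀ x, α x ∈ M ↔ x ∈ M) (x : Q) :
    α x ∈ frat M ↔ x ∈ frat M := by
  have hc : (frattini ↥M).comap (resAut M α h).toMonoidHom = frattini ↥M :=
    Subgroup.characteristic_iff_comap_eq.mp frattini_characteristic _
  rw [mem_frat, mem_frat]
  constructor
  · rintro ⟨h1, h2⟩
    have hx : x ∈ M := (h x).1 h1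
    refine ⟨hx, ?_⟩
    rw [← hc, Subgroup.mem_comap]
    exact h2
  · rintro ⟨hx, h2⟩
    refine ⟨(h x).2 hx, ?_⟩
    rw [← hc, Subgroup.mem_comap] at h2
    exact h2

/-- The induced automorphism of the Frattini quotient of `M`. -/
def quotAut (M : Subgroup Q) (α : MulAut Q) (h : ∀ x, α x ∈ M ↔ x ∈ M) :
    MulAut (↥M ⧸ frattini ↥M) :=
  QuotientGroup.congr (frattini ↥M) (frattini ↥M) (resAut M α h) (frattini_map_resAut M α h)

theorem quotAut_mk (M : Subgroup Q) (α : MulAut Q) (h : ∀ x, α x ∈ M ↔ x ∈ M) (m : M) :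
    quotAut M α h (QuotientGroup.mk m) = QuotientGroup.mk (resAut M α h m) := rfl

/-- The action of an automorphism group preserving `M` on the Frattini quotient of `M`. -/
def rho (M : Subgroup Q) (A : Subgroup (MulAut Q)) (hM : ∀ α ∈ A, ∀ x, α x ∈ M ↔ x ∈ M) :
    ↥A →* MulAut (↥M ⧸ frattini ↥M) where
  toFun a := quotAut M a.1 (hM a.1 a.2)
  map_one' := by
    ext x
    induction x using QuotientGroup.induction_on with
    | H x => rfl
  map_mul' a b := by
    ext x
    induction x using QuotientGroup.induction_on with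
    | H x => rfl

theorem rho_mk (M : Subgroup Q) (A : Subgroup (MulAut Q)) (hM : ∀ α ∈ A, ∀ x, α x ∈ M ↔ x ∈ M)
    (a : A) (m : M) :
    rho M A hM a (QuotientGroup.mk m) = QuotientGroup.mk (resAut M a.1 (hM a.1 a.2) m) := rfl

theorem rho_eq_one_iff (M : Subgroup Q) (A : Subgroup (MulAut Q))
    (hM : ∀ α ∈ A, ∀ x, α x ∈ M ↔ x ∈ M) (a : A) :
    rho M A hM a = 1 ↔ ∀ m ∈ M, m⁻¹ * a.1 m ∈ frat M := by
  constructor
  · intro h m hm
    have h1 : rho M A hM a (QuotientGroup.mk ⟨m, hm⟩) = QuotientGroup.mk ⟨m, hm⟩ := by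
      rw [h]; rfl
    rw [rho_mk, eq_comm, QuotientGroup.eq] at h1
    rw [mem_frat]
    exact ⟨M.mul_mem (M.inv_mem hm) ((hM a.1 a.2 m).2 hm), h1⟩
  · intro h
    ext x
    induction x using QuotientGroup.induction_on with
    | H x =>
      rw [rho_mk]
      show _ = QuotientGroup.mk x
      rw [eq_comm, QuotientGroup.eq]
      obtain ⟨h1, h2⟩ := (mem_frat M _).mp (h x.1 x.2)
      exact h2

theorem rho_inv_iff (M : Subgroup Q) (A : Subgroup (MulAut Q))
    (hM : ∀ α ∈ A, ∀ x, α x ∈ M ↔ x ∈ M) (a : A) :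
    (∀ w, rho M A hM a w = w⁻¹) ↔ ∀ m ∈ M, m * a.1 m ∈ frat M := by
  constructor
  · intro h m hm
    have h1 := h (QuotientGroup.mk ⟨m, hm⟩)
    rw [rho_mk, ← QuotientGroup.mk_inv, eq_comm, QuotientGroup.eq, inv_inv] at h1
    rw [mem_frat]
    exact ⟨M.mul_mem hm ((hM a.1 a.2 m).2 hm), h1⟩
  · intro h x
    induction x using QuotientGroup.induction_on with
    | H x =>
      rw [rho_mk, ← QuotientGroup.mk_inv, eq_comm, QuotientGroup.eq, inv_inv]
      obtain ⟨h1, h2⟩ := (mem_frat M _).mp (h x.1 x.2)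
      exact h2

end Cfsg.Agent.Lead.Meta
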