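import Mathlib
import Cfsg.Agent.Lead.MetaB

set_option autoImplicit false

/-!
The subgroups `C = C_A(Q/M)` and `K = C_C(M/Φ(M))`; `K` is a `p`-group.
-/

namespace Cfsg.Agent.Lead.Meta

open Cfsg.Agent.Lead.GlTh2

variable {Q : Type*} [Group Q]

/-- The automorphisms in `A` acting trivially on `Q / M`. -/
def Csub (M : Subgroup Q) (A : Subgroup (MulAut Q)) : Subgroup (MulAut Q) where
  carrier := {α | α ∈ A ∧ ∀ x, x⁻¹ * α x ∈ M}
  mul_mem' := by
    rintro α β ⟨hα, hα'⟩ ⟨hβ, hβ'⟩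
    refine ⟨A.mul_mem hα hβ, fun x => ?_⟩
    have h1 : x⁻¹ * (α * β) x = (x⁻¹ * β x) * ((β x)⁻¹ * α (β x)) := by
      rw [MulAut.mul_apply]; group
    rw [h1]
    exact M.mul_mem (hβ' x) (hα' (β x))
  one_mem' := ⟨A.one_mem, fun x => by simp⟩
  inv_mem' := by
    rintro α ⟨hα, hα'⟩
    refine ⟨A.inv_mem hα, fun x => ?_⟩
    have h1 := hα' (α⁻¹ x)
    rw [MulAut.apply_inv_self] at h1
    have h2 : x⁻¹ * α⁻¹ x = ((α⁻¹ x)⁻¹ * x)⁻¹ := by group
    rw [h2]
    exact M.inv_mem h1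

theorem mem_Csub (M : Subgroup Q) (A : Subgroup (MulAut Q)) (α : MulAut Q) :
    α ∈ Csub M A ↔ α ∈ A ∧ ∀ x, x⁻¹ * α x ∈ M := Iff.rfl

theorem Csub_le (M : Subgroup Q) (A : Subgroup (MulAut Q)) : Csub M A ≤ A := fun _ h => h.1

theorem Csub_map_mem {M : Subgroup Q} {A : Subgroup (MulAut Q)} {α : MulAut Q} (hα : α ∈ Csub M A)
    {m : Q} (hm : m ∈ M) : α m ∈ M := by
  have h1 : α m = m * (m⁻¹ * α m) := by group
  rw [h1]
  exact M.mul_mem hm (hα.2 m)

/-- The automorphisms in `C` acting trivially on `M / Φ(M)`. -/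
def Ksub (M : Subgroup Q) (A : Subgroup (MulAut Q)) : Subgroup (MulAut Q) where
  carrier := {α | α ∈ Csub M A ∧ ∀ m ∈ M, m⁻¹ * α m ∈ frat M}
  mul_mem' := by
    rintro α β ⟨hα, hα'⟩ ⟨hβ, hβ'⟩
    refine ⟨(Csub M A).mul_mem hα hβ, fun m hm => ?_⟩
    have h1 : m⁻¹ * (α * β) m = (m⁻¹ * β m) * ((β m)⁻¹ * α (β m)) := by
      rw [MulAut.mul_apply]; group
    rw [h1]
    exact (frat M).mul_mem (hβ' m hm) (hα' (β m) (Csub_map_mem hβ hm))
  one_mem' := ⟨(Csub M A).one_mem, fun m _ => by simp⟩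
  inv_mem' := by
    rintro α ⟨hα, hα'⟩
    refine ⟨(Csub M A).inv_mem hα, fun m hm => ?_⟩
    have hm' : α⁻¹ m ∈ M := Csub_map_mem ((Csub M A).inv_mem hα) hm
    have h1 := hα' (α⁻¹ m) hm'
    rw [MulAut.apply_inv_self] at h1
    have h2 : m⁻¹ * α⁻¹ m = ((α⁻¹ m)⁻¹ * m)⁻¹ := by group
    rw [h2]
    exact (frat M).inv_mem h1

theorem mem_Ksub (M : Subgroup Q) (A : Subgroup (MulAut Q)) (α : MulAut Q) :
    α ∈ Ksub M A ↔ α ∈ Csub M A ∧ ∀ m ∈ M, m⁻¹ * α m ∈ frat M := Iff.rfl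

theorem Ksub_le (M : Subgroup Q) (A : Subgroup (MulAut Q)) : Ksub M A ≤ Csub M A := fun _ h => h.1

theorem Csub_conj {M : Subgroup Q} {A : Subgroup (MulAut Q)}
    (hM : ∀ α ∈ A, ∀ x, α x ∈ M ↔ x ∈ M) {a α : MulAut Q} (ha : a ∈ A) (hα : α ∈ Csub M A) :
    a * α * a⁻¹ ∈ Csub M A := by
  refine ⟨A.mul_mem (A.mul_mem ha hα.1) (A.inv_mem ha), fun x => ?_⟩
  have h1 : x⁻¹ * (a * α * a⁻¹) x = a ((a⁻¹ x)⁻¹ * α (a⁻¹ x)) := by
    rw [map_mul, map_inv, MulAut.apply_inv_self]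
    rfl
  rw [h1, hM a ha]
  exact hα.2 _

theorem Ksub_conj {M : Subgroup Q} {A : Subgroup (MulAut Q)}
    (hM : ∀ α ∈ A, ∀ x, α x ∈ M ↔ x ∈ M) {a α : MulAut Q} (ha : a ∈ A) (hα : α ∈ Ksub M A) :
    a * α * a⁻¹ ∈ Ksub M A := by
  refine ⟨Csub_conj hM ha hα.1, fun m hm => ?_⟩
  have hm' : a⁻¹ m ∈ M := by
    have := hM a ha (a⁻¹ m)
    rw [MulAut.apply_inv_self] at this
    exact this.1 hm
  have h1 : m⁻¹ * (a * α * a⁻¹) m = a ((a⁻¹ m)⁻¹ * α (a⁻¹ m)) := by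
    rw [map_mul, map_inv, MulAut.apply_inv_self]
    rfl
  rw [h1, map_mem_frat M a (hM a ha)]
  exact hα.2 _ hm'

/-- An automorphism of prime order `r` preserving a finite set of cardinality prime to `r` fixes a
point of it. -/
theorem exists_fixed_of_invariant {r : ℕ} [hr : Fact r.Prime] (γ : MulAut Q) (hγ : γ ^ r = 1)
    (X : Set Q) [Finite X] (hX : ∀ x ∈ X, γ x ∈ X) (hcard : ¬ r ∣ Nat.card X) :
    ∃ x ∈ X, γ x = x := by
  have hpow : ∀ (n : ℕ), ∀ x ∈ X, (γ ^ n) x ∈ X := by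
    intro n
    induction n with
    | zero => intro x hx; exact hx
    | succ n ih =>
      intro x hx
      rw [pow_succ', MulAut.mul_apply]
      exact hX _ (ih x hx)
  have hfin : IsOfFinOrder γ := isOfFinOrder_iff_pow_eq_one.mpr ⟨r, hr.out.pos, hγ⟩
  let sub : SubMulAction (Subgroup.zpowers γ) Q :=
    { carrier := X
      smul_mem' := by
        rintro ⟨g, hg⟩ x hx
        rw [← hfin.mem_powers_iff_mem_zpowers] at hg
        obtain ⟨n, rfl⟩ := hg
        exact hpow n x hx }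
  haveI : Finite ↥sub := ‹Finite X›
  have hPG := isPGroup_zpowers γ hγ
  have hmod := hPG.card_modEq_card_fixedPoints ↥sub
  have hcardsub : Nat.card ↥sub = Nat.card X := rfl
  by_contra hcon
  push_neg at hcon
  have hempty : IsEmpty (MulAction.fixedPoints (Subgroup.zpowers γ) ↥sub) := by
    constructor
    rintro ⟨⟨x, hx⟩, hfix⟩
    apply hcon x hx
    have := hfix ⟨γ, Subgroup.mem_zpowers γ⟩
    exact congrArg Subtype.val this
  have h0 : Nat.card (MulAction.fixedPoints (Subgroup.zpowers γ) ↥sub) = 0 := Nat.card_of_isEmpty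
  rw [h0, hcardsub, Nat.modEq_zero_iff_dvd] at hmod
  exact hcard hmod


/-- An element of `K` of prime order `r ≠ p` is trivial. -/
theorem eq_one_of_mem_Ksub_of_prime [Finite Q] {p : ℕ} [hp : Fact p.Prime] (hQ : IsPGroup p Q)
    (M : Subgroup Q) (A : Subgroup (MulAut Q)) {r : ℕ} [hr : Fact r.Prime] (hrp : r ≠ p)
    {γ : MulAut Q} (hγK : γ ∈ Ksub M A) (hγ : γ ^ r = 1) : γ = 1 := by
  have hnd : ∀ n : ℕ, ¬ r ∣ p ^ n := by
    intro n h
    have h1 := hr.out.dvd_of_dvd_pow h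
    exact hrp ((Nat.prime_dvd_prime_iff_eq hr.out hp.out).mp h1)
  -- a fixed point in every coset of `frat M` in `M`
  have hfix : ∀ m ∈ M, ∃ c, m⁻¹ * c ∈ frat M ∧ γ c = c := by
    intro m hm
    set X : Set Q := {y | m⁻¹ * y ∈ frat M} with hXdef
    have hXM : ∀ y ∈ X, y ∈ M := by
      intro y hy
      have h1 : y = m * (m⁻¹ * y) := by group
      rw [h1]
      exact M.mul_mem hm (frat_le M hy)
    have hXinv : ∀ y ∈ X, γ y ∈ X := by
      intro y hy
      show m⁻¹ * γ y ∈ frat M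
      have h1 : m⁻¹ * γ y = (m⁻¹ * y) * (y⁻¹ * γ y) := by group
      rw [h1]
      exact (frat M).mul_mem hy (hγK.2 y (hXM y hy))
    let e : X ≃ frat M :=
      { toFun := fun y => ⟨m⁻¹ * y.1, y.2⟩
        invFun := fun z => ⟨m * z.1, by
          show m⁻¹ * (m * z.1) ∈ frat M
          rw [inv_mul_cancel_left]
          exact z.2⟩
        left_inv := fun y => by
          apply Subtype.ext
          show m * (m⁻¹ * y.1) = y.1
          rw [mul_inv_cancel_left]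
        right_inv := fun z => by
          apply Subtype.ext
          show m⁻¹ * (m * z.1) = z.1
          rw [inv_mul_cancel_left] }
    have hcardX : Nat.card X = Nat.card (frat M) := Nat.card_congr e
    obtain ⟨n, hn⟩ := (hQ.to_subgroup (frat M)).exists_card_eq
    haveI : Finite X := Finite.of_equiv _ e.symm
    have hcard : ¬ r ∣ Nat.card X := by
      rw [hcardX, hn]
      exact hnd n
    obtain ⟨c, hc, hγc⟩ := exists_fixed_of_invariant γ hγ X hXinv hcard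
    exact ⟨c, hc, hγc⟩
  -- `γ` fixes `M` pointwise
  have hM1 : ∀ m ∈ M, γ m = m := by
    have htop : (fixAut γ).subgroupOf M ⊔ frattini ↥M = ⊤ := by
      rw [eq_top_iff]
      intro x _
      obtain ⟨c, hc, hγc⟩ := hfix x.1 x.2
      have hcM : c ∈ M := by
        have h1 : c = x.1 * (x.1⁻¹ * c) := by group
        rw [h1]
        exact M.mul_mem x.2 (frat_le M hc)
      have h1 : x = (⟨c, hcM⟩ : M) * ((⟨c, hcM⟩ : M)⁻¹ * x) := by group
      rw [h1]
      apply Subgroup.mul_mem_sup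
      · rw [Subgroup.mem_subgroupOf]
        exact hγc
      · obtain ⟨h2, h3⟩ := (mem_frat M _).mp hc
        have h4 : (⟨c, hcM⟩ : M)⁻¹ * x = (⟨x.1⁻¹ * c, h2⟩ : M)⁻¹ := by
          apply Subtype.ext
          show c⁻¹ * x.1 = (x.1⁻¹ * c)⁻¹
          group
        rw [h4]
        exact (frattini ↥M).inv_mem h3
    have h5 := frattini_nongenerating htop
    intro m hm
    have h6 : (⟨m, hm⟩ : M) ∈ (fixAut γ).subgroupOf M := by rw [h5]; exact Subgroup.mem_top _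
    rw [Subgroup.mem_subgroupOf] at h6
    exact h6
  have hpow := stab_pow_card M γ hM1 hγK.1.2
  obtain ⟨a, ha⟩ := (hQ.to_subgroup M).exists_card_eq
  rw [ha] at hpow
  have h1 : orderOf γ ∣ p ^ a := orderOf_dvd_of_pow_eq_one hpow
  have h2 : orderOf γ ∣ r := orderOf_dvd_of_pow_eq_one hγ
  rcases (Nat.dvd_prime hr.out).mp h2 with h | h
  · exact orderOf_eq_one_iff.mp h
  · exfalso
    rw [h] at h1
    exact hnd a h1

/-- `K` is a `p`-group. -/
theorem isPGroup_Ksub [Finite Q] {p : ℕ} [hp : Fact p.Prime] (hQ : IsPGroup p Q)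
    (M : Subgroup Q) (A : Subgroup (MulAut Q)) : IsPGroup p (Ksub M A) := by
  rw [IsPGroup.iff_orderOf]
  intro g
  rw [← Subgroup.orderOf_coe]
  set n := orderOf (g : MulAut Q) with hn
  have hn0 : n ≠ 0 := (orderOf_pos (g : MulAut Q)).ne'
  refine ⟨n.primeFactorsList.length, Nat.eq_prime_pow_of_unique_prime_dvd hn0 ?_⟩
  intro d hd hdn
  by_contra hdp
  haveI : Fact d.Prime := ⟨hd⟩
  have hγK : (g : MulAut Q) ^ (n / d) ∈ Ksub M A := (Ksub M A).pow_mem g.2 _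
  have hγ : ((g : MulAut Q) ^ (n / d)) ^ d = 1 := by
    rw [← pow_mul, Nat.div_mul_cancel hdn, hn, pow_orderOf_eq_one]
  have h1 := eq_one_of_mem_Ksub_of_prime hQ M A hdp hγK hγ
  have h2 : n ∣ n / d := orderOf_dvd_of_pow_eq_one h1
  have h3 : n / d < n := Nat.div_lt_self (Nat.pos_of_ne_zero hn0) hd.one_lt
  have h4 : 0 < n / d := Nat.div_pos (Nat.le_of_dvd (Nat.pos_of_ne_zero hn0) hdn) hd.pos
  have := Nat.le_of_dvd h4 h2
  omega

end Cfsg.Agent.Lead.Meta
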