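import Mathlib
import Cfsg.Agent.Lead.MetaC

set_option autoImplicit false

/-!
The abstract lemma producing an automorphism in `C` that inverts `M / Φ(M)`.
-/

namespace Cfsg.Agent.Lead.Meta

open Cfsg.Agent.Lead.GlTh2 Cfsg.Agent.Helper4

variable {Q : Type*} [Group Q]

theorem quot_comm [Finite Q] {p : ℕ} [hp : Fact p.Prime] (hQ : IsPGroup p Q) (M : Subgroup Q)
    (a b : ↥M ⧸ frattini ↥M) : a * b = b * a := by
  induction a using QuotientGroup.induction_on with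
  | H a =>
    induction b using QuotientGroup.induction_on with
    | H b =>
      rw [← QuotientGroup.mk_mul, ← QuotientGroup.mk_mul, QuotientGroup.eq]
      have h1 := pgroup_commutator_mem_frattini (hQ.to_subgroup M) b⁻¹ a⁻¹
      have h2 : (a * b)⁻¹ * (b * a) = b⁻¹ * a⁻¹ * b⁻¹⁻¹ * a⁻¹⁻¹ := by group
      rw [h2]
      exact h1

theorem Ksub_le_of_radical [Finite Q] {p : ℕ} [hp : Fact p.Prime] (hQ : IsPGroup p Q)
    (M : Subgroup Q) (A : Subgroup (MulAut Q)) (hM : ∀ α ∈ A, ∀ x, α x ∈ M ↔ x ∈ M)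
    (I : Subgroup (MulAut Q))
    (hrad : ∀ N : Subgroup (MulAut Q), N ≤ A → (∀ a ∈ A, ∀ n ∈ N, a * n * a⁻¹ ∈ N) →
      IsPGroup p N → N ≤ I) : Ksub M A ≤ I :=
  hrad (Ksub M A) ((Ksub_le M A).trans (Csub_le M A)) (fun _ ha _ hn => Ksub_conj hM ha hn)
    (isPGroup_Ksub hQ M A)

/-- If `δ ∈ C` is not in `I ≥ O_p(A)` but `δ ^ p ∈ K`, then some element of `C` inverts
`M / Φ(M)`. -/
theorem exists_inverting [Finite Q] {p : ℕ} [hp : Fact p.Prime] (hp2 : p ≠ 2) (hQ : IsPGroup p Q)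
    (M : Subgroup Q) (A : Subgroup (MulAut Q)) (hM : ∀ α ∈ A, ∀ x, α x ∈ M ↔ x ∈ M)
    (I : Subgroup (MulAut Q))
    (hrad : ∀ N : Subgroup (MulAut Q), N ≤ A → (∀ a ∈ A, ∀ n ∈ N, a * n * a⁻¹ ∈ N) →
      IsPGroup p N → N ≤ I)
    (hidx : (frattini ↥M).index ∣ p ^ 2) {δ : MulAut Q} (hδC : δ ∈ Csub M A) (hδI : δ ∉ I)
    (hδp : δ ^ p ∈ Ksub M A) :
    ∃ t ∈ Csub M A, ∀ m ∈ M, m * t m ∈ frat M := by
  have hKI := Ksub_le_of_radical hQ M A hM I hrad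
  have hcard : Nat.card (↥M ⧸ frattini ↥M) ∣ p ^ 2 := hidx
  have hcomm := quot_comm hQ M
  set ρ := rho M A hM with hρ
  set δA : A := ⟨δ, hδC.1⟩ with hδA
  set u := ρ δA with hu
  have hu1 : u ≠ 1 := by
    intro h
    apply hδI
    apply hKI
    exact ⟨hδC, (rho_eq_one_iff M A hM δA).mp h⟩
  have hup : u ^ p = 1 := by
    rw [hu, ← map_pow]
    rw [rho_eq_one_iff]
    exact hδp.2
  by_cases h : ∀ (γ : MulAut Q) (hγ : γ ∈ Csub M A), (ρ ⟨γ, hγ.1⟩) ^ p = 1 →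
      ρ ⟨γ, hγ.1⟩ ∈ Subgroup.zpowers u
  · exfalso
    apply hδI
    let T : Subgroup (MulAut Q) := ((Subgroup.zpowers u).comap ρ).map A.subtype ⊓ Csub M A
    have hmemT : ∀ n : MulAut Q, n ∈ T ↔ ∃ hn : n ∈ Csub M A, ρ ⟨n, hn.1⟩ ∈ Subgroup.zpowers u := by
      intro n
      constructor
      · rintro ⟨⟨x, hx, rfl⟩, hn⟩
        exact ⟨hn, hx⟩
      · rintro ⟨hn, hx⟩
        exact ⟨⟨⟨n, hn.1⟩, hx, rfl⟩, hn⟩
    have hpowT : ∀ n : MulAut Q, n ∈ T → ∃ hn : n ∈ Csub M A, (ρ ⟨n, hn.1⟩) ^ p = 1 := by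
      intro n hn
      obtain ⟨hnC, hx⟩ := (hmemT n).mp hn
      refine ⟨hnC, ?_⟩
      obtain ⟨k, hk⟩ := Subgroup.mem_zpowers_iff.mp hx
      rw [← hk, ← zpow_natCast, ← zpow_mul, mul_comm, zpow_mul, zpow_natCast, hup, one_zpow]
    have hTI : T ≤ I := by
      apply hrad
      · exact inf_le_right.trans (Csub_le M A)
      · intro a ha n hn
        obtain ⟨hnC, hnp⟩ := hpowT n hn
        have hc : a * n * a⁻¹ ∈ Csub M A := Csub_conj hM ha hnC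
        rw [hmemT]
        refine ⟨hc, h _ hc ?_⟩
        have h1 : (⟨a * n * a⁻¹, hc.1⟩ : A) = ⟨a, ha⟩ * ⟨n, hnC.1⟩ * ⟨a, ha⟩⁻¹ := rfl
        rw [h1, map_mul, map_mul, map_inv, conj_pow, hnp, mul_one, mul_inv_cancel]
      · intro g
        obtain ⟨hnC, hnp⟩ := hpowT g.1 g.2
        have h1 : (g.1) ^ p ∈ Ksub M A := by
          refine ⟨(Csub M A).pow_mem hnC p, ?_⟩
          have h2 : ρ (⟨g.1, hnC.1⟩ ^ p) = 1 := by rw [map_pow, hnp]
          exact (rho_eq_one_iff M A hM _).mp h2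
        obtain ⟨k, hk⟩ := (isPGroup_Ksub hQ M A) ⟨g.1 ^ p, h1⟩
        refine ⟨k + 1, ?_⟩
        apply Subtype.ext
        have h3 := congrArg Subtype.val hk
        rw [Subgroup.coe_pow] at h3
        rw [Subgroup.coe_pow, pow_succ', pow_mul]
        exact h3
    apply hTI
    rw [hmemT]
    exact ⟨hδC, Subgroup.mem_zpowers u⟩
  · push_neg at h
    obtain ⟨γ, hγ, hγp, hγu⟩ := h
    set γA : A := ⟨γ, hγ.1⟩ with hγA
    obtain ⟨t', ht', htinv⟩ := exists_inversion hcard hcomm u (ρ γA) hup hγp hu1 hγu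
    have himg : ({u, ρ γA} : Set (MulAut (↥M ⧸ frattini ↥M))) = ρ '' {δA, γA} := by
      rw [Set.image_pair]
    rw [himg, ← MonoidHom.map_closure] at ht'
    obtain ⟨tA, htA, rfl⟩ := ht'
    have hle : Subgroup.closure ({δA, γA} : Set A) ≤ (Csub M A).subgroupOf A := by
      rw [Subgroup.closure_le]
      rintro x (rfl | rfl)
      · exact Subgroup.mem_subgroupOf.mpr hδC
      · exact Subgroup.mem_subgroupOf.mpr hγ
    have htC : tA.1 ∈ Csub M A := Subgroup.mem_subgroupOf.mp (hle htA)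
    exact ⟨tA.1, htC, (rho_inv_iff M A hM tA).mp htinv⟩


theorem quot_pow [Finite Q] {p : ℕ} [hp : Fact p.Prime] (hQ : IsPGroup p Q) (M : Subgroup Q)
    (a : ↥M ⧸ frattini ↥M) : a ^ p = 1 := by
  induction a using QuotientGroup.induction_on with
  | H a =>
    rw [← QuotientGroup.mk_pow, QuotientGroup.eq_one_iff]
    exact pgroup_pow_mem_frattini (hQ.to_subgroup M) a

/-- In the situation of `exists_inverting`, the Frattini quotient of `M` has order `p ^ 2`. -/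
theorem index_eq_sq [Finite Q] {p : ℕ} [hp : Fact p.Prime] (hQ : IsPGroup p Q)
    (M : Subgroup Q) (A : Subgroup (MulAut Q)) (hM : ∀ α ∈ A, ∀ x, α x ∈ M ↔ x ∈ M)
    (I : Subgroup (MulAut Q))
    (hrad : ∀ N : Subgroup (MulAut Q), N ≤ A → (∀ a ∈ A, ∀ n ∈ N, a * n * a⁻¹ ∈ N) →
      IsPGroup p N → N ≤ I)
    (hidx : (frattini ↥M).index ∣ p ^ 2) {δ : MulAut Q} (hδC : δ ∈ Csub M A) (hδI : δ ∉ I)
    (hδp : δ ^ p ∈ Ksub M A) : (frattini ↥M).index = p ^ 2 := by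
  have hKI := Ksub_le_of_radical hQ M A hM I hrad
  have hcard : Nat.card (↥M ⧸ frattini ↥M) ∣ p ^ 2 := hidx
  set δA : A := ⟨δ, hδC.1⟩ with hδA
  have hu1 : rho M A hM δA ≠ 1 := by
    intro h
    apply hδI
    apply hKI
    exact ⟨hδC, (rho_eq_one_iff M A hM δA).mp h⟩
  have hup : (rho M A hM δA) ^ p = 1 := by
    rw [← map_pow, rho_eq_one_iff]
    exact hδp.2
  exact (card_fixAut hcard _ hup hu1).1

/-- An element of `C` inverting `M / Φ(M)` commutes with every element of `C` modulo `K`. -/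
theorem comm_mem_Ksub (M : Subgroup Q) (A : Subgroup (MulAut Q))
    (hM : ∀ α ∈ A, ∀ x, α x ∈ M ↔ x ∈ M) {t δ : MulAut Q} (ht : t ∈ Csub M A)
    (htinv : ∀ m ∈ M, m * t m ∈ frat M) (hδ : δ ∈ Csub M A) :
    t * δ * t⁻¹ * δ⁻¹ ∈ Ksub M A := by
  have hC : t * δ * t⁻¹ * δ⁻¹ ∈ Csub M A :=
    (Csub M A).mul_mem ((Csub M A).mul_mem ((Csub M A).mul_mem ht hδ) ((Csub M A).inv_mem ht))
      ((Csub M A).inv_mem hδ)
  refine ⟨hC, ?_⟩
  set tA : A := ⟨t, ht.1⟩ with htA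
  set δA : A := ⟨δ, hδ.1⟩ with hδA
  have h1 : (⟨t * δ * t⁻¹ * δ⁻¹, hC.1⟩ : A) = tA * δA * tA⁻¹ * δA⁻¹ := rfl
  have hinv := (rho_inv_iff M A hM tA).mpr htinv
  have hinv' : ∀ w, (rho M A hM tA)⁻¹ w = w⁻¹ := by
    intro w
    rw [MulAut.inv_apply, MulEquiv.symm_apply_eq, hinv, inv_inv]
  have h2 : rho M A hM (tA * δA * tA⁻¹ * δA⁻¹) = 1 := by
    ext w
    rw [map_mul, map_mul, map_mul, map_inv, map_inv]
    simp only [MulAut.mul_apply, MulAut.one_apply]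
    rw [hinv, hinv', map_inv, inv_inv, MulAut.apply_inv_self]
  rw [← h1] at h2
  exact (rho_eq_one_iff M A hM _).mp h2

theorem rho_pow_mk (M : Subgroup Q) (A : Subgroup (MulAut Q))
    (hM : ∀ α ∈ A, ∀ x, α x ∈ M ↔ x ∈ M) (a : A) (i : ℕ) (m : M) :
    ((rho M A hM a) ^ i) (QuotientGroup.mk m) =
      QuotientGroup.mk ((resAut M a.1 (hM a.1 a.2) ^ i) m) := by
  induction i generalizing m with
  | zero => rfl
  | succ i ih =>
    rw [pow_succ, pow_succ, MulAut.mul_apply, MulAut.mul_apply, rho_mk, ih]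

theorem resAut_pow_apply (M : Subgroup Q) (α : MulAut Q) (h : ∀ x, α x ∈ M ↔ x ∈ M) (i : ℕ)
    (m : M) : (((resAut M α h ^ i) m : M) : Q) = (α ^ i) (m : Q) := by
  induction i generalizing m with
  | zero => rfl
  | succ i ih =>
    rw [pow_succ, pow_succ, MulAut.mul_apply, MulAut.mul_apply, ih, resAut_apply]

/-- The norm of an element of `M` under `δ ∈ C` with `δ ^ p ∈ K` lies in `Φ(M)`. -/
theorem norm_mem_frat [Finite Q] {p : ℕ} [hp : Fact p.Prime] (hp2 : p ≠ 2) (hQ : IsPGroup p Q)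
    (M : Subgroup Q) (A : Subgroup (MulAut Q)) (hM : ∀ α ∈ A, ∀ x, α x ∈ M ↔ x ∈ M)
    (hidx : (frattini ↥M).index ∣ p ^ 2) {δ : MulAut Q} (hδC : δ ∈ Csub M A)
    (hδp : δ ^ p ∈ Ksub M A) {q : Q} (hq : q ∈ M) :
    ((List.range p).map (fun i => (δ ^ i) q)).prod ∈ frat M := by
  have hcard : Nat.card (↥M ⧸ frattini ↥M) ∣ p ^ 2 := hidx
  set δA : A := ⟨δ, hδC.1⟩ with hδA
  have hup : (rho M A hM δA) ^ p = 1 := by
    rw [← map_pow, rho_eq_one_iff]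
    exact hδp.2
  have h1 := prod_pow_apply_eq_one hp2 hcard (quot_comm hQ M) (quot_pow hQ M) _ hup
    (QuotientGroup.mk (⟨q, hq⟩ : M))
  have h2 : (List.range p).map (fun i => ((rho M A hM δA) ^ i) (QuotientGroup.mk (⟨q, hq⟩ : M))) =
      (List.range p).map (fun i => QuotientGroup.mk' (frattini ↥M)
        ((resAut M δ (hM δ hδC.1) ^ i) ⟨q, hq⟩)) := by
    apply List.map_congr_left
    intro i _
    rw [rho_pow_mk]
    rfl
  rw [h2] at h1
  have h3 : (List.range p).map (fun i => QuotientGroup.mk' (frattini ↥M)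
        ((resAut M δ (hM δ hδC.1) ^ i) ⟨q, hq⟩)) =
      ((List.range p).map (fun i => (resAut M δ (hM δ hδC.1) ^ i) ⟨q, hq⟩)).map
        (QuotientGroup.mk' (frattini ↥M)) := by
    rw [List.map_map]
    rfl
  rw [h3, ← map_list_prod] at h1
  have h4 : ((List.range p).map (fun i => (resAut M δ (hM δ hδC.1) ^ i) ⟨q, hq⟩)).prod ∈
      frattini ↥M := by
    rw [← QuotientGroup.eq_one_iff]
    exact h1
  have h5 : (List.range p).map (fun i => (δ ^ i) q) =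
      ((List.range p).map (fun i => (resAut M δ (hM δ hδC.1) ^ i) ⟨q, hq⟩)).map M.subtype := by
    rw [List.map_map]
    apply List.map_congr_left
    intro i _
    exact (resAut_pow_apply M δ (hM δ hδC.1) i ⟨q, hq⟩).symm
  rw [h5, ← map_list_prod]
  exact ⟨_, h4, rfl⟩

/-- If `t` inverts `M / Φ(M)` and `t e = n e` with `n ∈ Φ(M)`, then `e ∈ Φ(M)` (`p` odd). -/
theorem mem_frat_of_inverting [Finite Q] {p : ℕ} [hp : Fact p.Prime] (hp2 : p ≠ 2)
    (hQ : IsPGroup p Q) (M : Subgroup Q) {t : MulAut Q}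
    (htinv : ∀ m ∈ M, m * t m ∈ frat M) {e n : Q} (he : e ∈ M) (hn : n ∈ frat M)
    (hte : t e = n * e) : e ∈ frat M := by
  have h1 := htinv e he
  rw [hte] at h1
  obtain ⟨hnM, hn'⟩ := (mem_frat M n).mp hn
  obtain ⟨h2, h3⟩ := (mem_frat M _).mp h1
  have h4 : (QuotientGroup.mk (⟨e, he⟩ : M) : ↥M ⧸ frattini ↥M) ^ 2 = 1 := by
    have h5 : (⟨e * (n * e), h2⟩ : M) = ⟨e, he⟩ * (⟨n, hnM⟩ * ⟨e, he⟩) := rfl
    rw [h5] at h3
    have h6 := (QuotientGroup.eq_one_iff _).mpr h3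
    rw [QuotientGroup.mk_mul, QuotientGroup.mk_mul, (QuotientGroup.eq_one_iff _).mpr hn',
      one_mul] at h6
    rw [sq]
    exact h6
  have h7 := quot_pow hQ M (QuotientGroup.mk (⟨e, he⟩ : M))
  have h8 : orderOf (QuotientGroup.mk (⟨e, he⟩ : M) : ↥M ⧸ frattini ↥M) ∣ Nat.gcd 2 p :=
    Nat.dvd_gcd (orderOf_dvd_of_pow_eq_one h4) (orderOf_dvd_of_pow_eq_one h7)
  have h9 : Nat.gcd 2 p = 1 := by
    rw [Nat.coprime_primes Nat.prime_two hp.out |>.mpr (Ne.symm hp2)]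
  rw [h9, Nat.dvd_one, orderOf_eq_one_iff, QuotientGroup.eq_one_iff] at h8
  exact (mem_frat M e).mpr ⟨he, h8⟩

end Cfsg.Agent.Lead.Meta
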