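import Mathlib
import Cfsg.Prelude.Def_FusionSystem
import Cfsg.Prelude.Def_OddOrderLocal
import Cfsg.Agent.Lead.MetaD
import Cfsg.Agent.Lead.FusionNormalCrit

set_option autoImplicit false

/-!
Strongly closed subgroups: basic consequences used for the metacyclic theorem.
-/

namespace Cfsg.Agent.Lead.Meta

open Cfsg Cfsg.FusionSystem Cfsg.Agent.Lead

variable {Ω : Type*} [Group Ω] {S : Subgroup Ω}

theorem conj_mem_of_stronglyClosed (F : FusionSystem S) {P : Subgroup Ω} (hP : F.StronglyClosed P)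
    {s x : Ω} (hs : s ∈ S) (hx : x ∈ P) : s * x * s⁻¹ ∈ P := by
  have h := F.conj_mem (P := P) (g := s) hP.1 hs
  exact hP.2 P le_rfl _ h ⟨x, hx⟩

theorem aut_map_mem (F : FusionSystem S) {P Q : Subgroup Ω} (hP : F.StronglyClosed P) (hQS : Q ≤ S)
    {α : MulAut Q} (hα : α ∈ F.autGroup Q) (x : Q) (hx : (x : Ω) ∈ P) : ((α x : Q) : Ω) ∈ P := by
  have hφ := (Fusion.mem_autGroup_iff F hQS α).mp hα
  have h1 := Fusion.restrict_mem F hφ (inf_le_left : Q ⊓ P ≤ Q)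
  exact hP.2 (Q ⊓ P) inf_le_right _ h1 ⟨x.1, ⟨x.2, hx⟩⟩

theorem aut_mem_iff (F : FusionSystem S) {P Q : Subgroup Ω} (hP : F.StronglyClosed P) (hQS : Q ≤ S)
    {α : MulAut Q} (hα : α ∈ F.autGroup Q) (x : Q) : ((α x : Q) : Ω) ∈ P ↔ (x : Ω) ∈ P := by
  constructor
  · intro h
    have h1 := aut_map_mem F hP hQS ((F.autGroup Q).inv_mem hα) (α x) h
    rwa [MulAut.inv_apply_self] at h1
  · exact aut_map_mem F hP hQS hα x

theorem mem_sup_iff' {T Q : Subgroup Ω} (h : T ≤ Subgroup.normalizer (Q : Set Ω)) (x : Ω) :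
    x ∈ T ⊔ Q ↔ ∃ t ∈ T, ∃ q ∈ Q, x = t * q := by
  have h1 := Subgroup.coe_mul_of_left_le_normalizer_right T Q h
  have h2 : x ∈ T ⊔ Q ↔ x ∈ ((T ⊔ Q : Subgroup Ω) : Set Ω) := Iff.rfl
  rw [h2, h1, Set.mem_mul]
  constructor
  · rintro ⟨t, ht, q, hq, rfl⟩
    exact ⟨t, ht, q, hq, rfl⟩
  · rintro ⟨t, ht, q, hq, rfl⟩
    exact ⟨t, ht, q, hq, rfl⟩

/-- A strongly closed subgroup not contained in `Q` has an element normalizing `Q`, outside `Q`,
whose `p`-th power lies in `Q`. -/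
theorem exists_elt [Finite S] (p : ℕ) [hp : Fact p.Prime] (hS : IsPGroup p S) (F : FusionSystem S)
    {P Q : Subgroup Ω} (hP : F.StronglyClosed P) (hQS : Q ≤ S) (hPQ : ¬ P ≤ Q) :
    ∃ d ∈ P, d ∈ Subgroup.normalizer (Q : Set Ω) ∧ d ∉ Q ∧ d ^ p ∈ Q := by
  have hPS := hP.1
  haveI : Finite P := Fusion.finite_of_le hPS
  have hQn : Q ≤ Subgroup.normalizer (P : Set Ω) := by
    intro q hq
    apply mem_normalizer_of_conj_mem_of_finite
    intro y hy
    exact conj_mem_of_stronglyClosed F hP (hQS hq) hy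
  have hle : Q ⊔ P ≤ S := sup_le hQS hPS
  haveI : Finite ↥(Q ⊔ P) := Fusion.finite_of_le hle
  have hne : Q ≠ Q ⊔ P := by
    intro h
    apply hPQ
    rw [h]
    exact le_sup_right
  obtain ⟨g, hgT, hgQ⟩ := Fusion.exists_mem_normalizerIn_not_mem (S := Q ⊔ P) (hS.to_le hle)
    le_sup_left hne
  obtain ⟨hgQP, hgN⟩ := Subgroup.mem_inf.mp hgT
  obtain ⟨t, ht, x, hx, rfl⟩ := (mem_sup_iff' hQn g).mp hgQP
  have hxN : x ∈ Subgroup.normalizer (Q : Set Ω) := by
    have h1 : x = t⁻¹ * (t * x) := by group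
    rw [h1]
    exact Subgroup.mul_mem _ (Subgroup.inv_mem _ (Subgroup.le_normalizer ht)) hgN
  have hxQ : x ∉ Q := fun h => hgQ (Q.mul_mem ht h)
  -- the least `k` with `x ^ (p ^ k) ∈ Q`
  have hex : ∃ k : ℕ, x ^ (p ^ k) ∈ Q := by
    obtain ⟨k, hk⟩ := hS ⟨x, hPS hx⟩
    refine ⟨k, ?_⟩
    have := congrArg Subtype.val hk
    rw [Subgroup.coe_pow] at this
    rw [show x ^ p ^ k = 1 from this]
    exact Q.one_mem
  classical
  set k₀ := Nat.find hex with hk₀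
  have hk₀spec : x ^ (p ^ k₀) ∈ Q := Nat.find_spec hex
  have hk₀pos : k₀ ≠ 0 := by
    intro h
    rw [h, pow_zero, pow_one] at hk₀spec
    exact hxQ hk₀spec
  obtain ⟨j, hj⟩ := Nat.exists_eq_succ_of_ne_zero hk₀pos
  refine ⟨x ^ (p ^ j), P.pow_mem hx _, Subgroup.pow_mem _ hxN _, ?_, ?_⟩
  · intro h
    have := Nat.find_min hex (m := j) (by omega)
    exact this h
  · rw [← pow_mul, ← pow_succ]
    have h1 : j + 1 = k₀ := hj.symm
    rw [h1]
    exact hk₀spec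

theorem mul_pow_eq_prod {G : Type*} [Group G] (q e : G) (n : ℕ) :
    (q * e) ^ n = ((List.range n).map (fun i => e ^ i * q * (e ^ i)⁻¹)).prod * e ^ n := by
  induction n with
  | zero => simp
  | succ n ih =>
    rw [pow_succ, ih, List.range_succ, List.map_append, List.prod_append]
    simp only [List.map_cons, List.map_nil, List.prod_cons, List.prod_nil, mul_one]
    rw [pow_succ]
    group

end Cfsg.Agent.Lead.Meta
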