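import Mathlib
import Cfsg.Agent.Lead.MetaE

set_option autoImplicit false

/-!
Extension step for the metacyclic theorem.
-/

namespace Cfsg.Agent.Lead.Meta

open Cfsg Cfsg.FusionSystem Cfsg.Agent.Lead

variable {Ω : Type*} [Group Ω] {S : Subgroup Ω}

theorem hrad_of_isRadical (p : ℕ) (F : FusionSystem S) {Q : Subgroup Ω} (hr : F.IsRadical p Q) :
    ∀ N : Subgroup (MulAut Q), N ≤ F.autGroup Q →
      (∀ a ∈ F.autGroup Q, ∀ n ∈ N, a * n * a⁻¹ ∈ N) → IsPGroup p N → N ≤ Inn Q := by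
  intro N hNA hnorm hNp
  have hnormal : (N.subgroupOf (F.autGroup Q)).Normal := by
    constructor
    intro n hn a
    rw [Subgroup.mem_subgroupOf] at hn ⊢
    exact hnorm a.1 a.2 n.1 hn
  have hle : N.subgroupOf (F.autGroup Q) ≤ pCore p (F.autGroup Q) :=
    le_sSup ⟨hnormal, hNp.comap_subtype⟩
  intro n hn
  rw [← hr.2]
  exact ⟨⟨n, hNA hn⟩, hle (Subgroup.mem_subgroupOf.mpr hn), rfl⟩

/-- If `t ∈ Aut_F(Q)` commutes with conjugation by `d` modulo `Inn(Q)`, then `t` extends to `d`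
and the image of `d` is `q₁ d` with `q₁ ∈ P ∩ Q`. -/
theorem exists_extension_data (F : FusionSystem S) {P Q : Subgroup Ω} (hP : F.StronglyClosed P)
    (hc : F.IsCentric Q) (hrec : F.IsReceptive Q) {d : Ω} (hdP : d ∈ P)
    (hdN : d ∈ Subgroup.normalizer (Q : Set Ω)) {t : MulAut Q} (ht : t ∈ F.autGroup Q)
    (hβ : t * conjAutHom Q ⟨d, hdN⟩ * t⁻¹ * (conjAutHom Q ⟨d, hdN⟩)⁻¹ ∈ Inn Q)
    (n : ℕ) (hdnQ : d ^ n ∈ Q) :
    ∃ q₁, q₁ ∈ P ∧ q₁ ∈ Q ∧ ((t ⟨d ^ n, hdnQ⟩ : Q) : Ω) = (q₁ * d) ^ n := by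
  have hQS := hc.1
  have hPS := hP.1
  have hdS : d ∈ S := hPS hdP
  set δ := conjAutHom Q ⟨d, hdN⟩ with hδ
  obtain ⟨q₀, hq₀⟩ := hβ
  have hkey : t * δ = MulAut.conj q₀ * δ * t := by
    rw [hq₀]
    group
  set φ : Q →* Ω := Q.subtype.comp t.toMonoidHom with hφdef
  have hφ : φ ∈ F.Hom Q := (Fusion.mem_autGroup_iff F hQS t).mp ht
  have hφr : φ.range = Q := by
    ext y
    constructor
    · rintro ⟨x, rfl⟩
      exact (t x).2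
    · intro hy
      refine ⟨t.symm ⟨y, hy⟩, ?_⟩
      show ((t (t.symm ⟨y, hy⟩) : Q) : Ω) = y
      simp
  obtain ⟨ψ, hψ, hψext⟩ := hrec.2 Q φ hφ hφr
  have hφS : ∀ x, φ x ∈ S := fun x => hQS (t x).2
  have hQE : Q ≤ extender S Q φ := Fusion.le_extender Q hQS φ hφS
  have hdE : d ∈ extender S Q φ := by
    apply Subgroup.subset_closure
    refine ⟨hdS, hdN, (q₀ : Ω) * d, S.mul_mem (hQS q₀.2) hdS, fun x hx => ?_⟩
    have h1 : (⟨d * (x : Ω) * d⁻¹, hx⟩ : Q) = δ x := Subtype.ext rfl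
    rw [h1]
    show ((t (δ x) : Q) : Ω) = (q₀ : Ω) * d * ((t x : Q) : Ω) * ((q₀ : Ω) * d)⁻¹
    have h2 : t (δ x) = (MulAut.conj q₀ * δ * t) x := by
      rw [← hkey]
      rfl
    rw [h2]
    show (q₀ : Ω) * (d * ((t x : Q) : Ω) * d⁻¹) * (q₀ : Ω)⁻¹ = _
    group
  set d' := ψ ⟨d, hdE⟩ with hd'
  have hd'S : d' ∈ S := (F.le_of_mem hψ).2 _
  have hd'P : d' ∈ P := by
    have h1 := Fusion.restrict_mem F hψ (inf_le_left : extender S Q φ ⊓ P ≤ extender S Q φ)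
    exact hP.2 (extender S Q φ ⊓ P) inf_le_right _ h1 ⟨d, ⟨hdE, hdP⟩⟩
  have hψQ : ∀ x : Q, ψ ⟨x.1, hQE x.2⟩ = ((t x : Q) : Ω) := fun x => hψext x.1 x.2 (hQE x.2)
  -- the relation `t (δ x) = d' (t x) d'⁻¹`
  have hrel : ∀ x : Q, ((t (δ x) : Q) : Ω) = d' * ((t x : Q) : Ω) * d'⁻¹ := by
    intro x
    rw [← hψQ (δ x), ← hψQ x, hd', ← map_inv, ← map_mul, ← map_mul]
    rfl
  have hrel2 : ∀ x : Q, ((t (δ x) : Q) : Ω) =
      ((q₀ : Ω) * d) * ((t x : Q) : Ω) * ((q₀ : Ω) * d)⁻¹ := by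
    intro x
    have h2 : t (δ x) = (MulAut.conj q₀ * δ * t) x := by
      rw [← hkey]
      rfl
    rw [h2]
    show (q₀ : Ω) * (d * ((t x : Q) : Ω) * d⁻¹) * (q₀ : Ω)⁻¹ = _
    group
  -- `z = (q₀ d)⁻¹ d'` centralizes `Q`
  have hz : ((q₀ : Ω) * d)⁻¹ * d' ∈ centralizerIn S Q := by
    refine Subgroup.mem_inf.mpr ⟨S.mul_mem (S.inv_mem (S.mul_mem (hQS q₀.2) hdS)) hd'S, ?_⟩
    rw [Subgroup.mem_centralizer_iff]
    intro y hy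
    have h1 := hrel (t⁻¹ ⟨y, hy⟩)
    have h2 := hrel2 (t⁻¹ ⟨y, hy⟩)
    rw [h1, MulAut.apply_inv_self] at h2
    have h3 : d' * y * d'⁻¹ = ((q₀ : Ω) * d) * y * ((q₀ : Ω) * d)⁻¹ := h2
    calc y * (((q₀ : Ω) * d)⁻¹ * d')
        = ((q₀ : Ω) * d)⁻¹ * (((q₀ : Ω) * d) * y * ((q₀ : Ω) * d)⁻¹) * d' := by group
      _ = ((q₀ : Ω) * d)⁻¹ * (d' * y * d'⁻¹) * d' := by rw [h3]
      _ = ((q₀ : Ω) * d)⁻¹ * d' * y := by group
  have hzQ : ((q₀ : Ω) * d)⁻¹ * d' ∈ Q := hc.2 Q (Fusion.isConj_refl F hQS) hz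
  have hq₁Q : d' * d⁻¹ ∈ Q := by
    have h1 : d' * d⁻¹ = (q₀ : Ω) * (d * (((q₀ : Ω) * d)⁻¹ * d') * d⁻¹) := by group
    rw [h1]
    refine Q.mul_mem q₀.2 ?_
    have := (Subgroup.mem_normalizer_iff.mp hdN (((q₀ : Ω) * d)⁻¹ * d')).mp hzQ
    exact this
  refine ⟨d' * d⁻¹, P.mul_mem hd'P (P.inv_mem hdP), hq₁Q, ?_⟩
  have h1 : d' * d⁻¹ * d = d' := by group
  rw [h1, hd', ← map_pow]
  have h2 : (⟨d, hdE⟩ : extender S Q φ) ^ n = ⟨d ^ n, hQE hdnQ⟩ := Subtype.ext rfl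
  rw [h2]
  exact (hψQ ⟨d ^ n, hdnQ⟩).symm

end Cfsg.Agent.Lead.Meta
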