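import Mathlib
import Cfsg.Agent.Lead.MetaF
import Cfsg.Agent.Lead.SylowLemmas

set_option autoImplicit false

/-!
Two fusion-theoretic tools: transporting conjugation by an element of a strongly closed subgroup,
and Sylow conjugation into `Aut_S(Q)`.
-/

namespace Cfsg.Agent.Lead.Gex

open Cfsg Cfsg.FusionSystem Cfsg.Agent.Lead

variable {Ω : Type*} [Group Ω] {S : Subgroup Ω}

/-- If `t ∘ c_d ∘ t⁻¹` is induced by an element of `S`, it is induced by an element of `P`. -/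
theorem exists_conj_elt (F : FusionSystem S) {P Q : Subgroup Ω} (hP : F.StronglyClosed P)
    (hQS : Q ≤ S) (hrec : F.IsReceptive Q) {d : Ω} (hdP : d ∈ P)
    (hdN : d ∈ Subgroup.normalizer (Q : Set Ω)) {t : MulAut Q} (ht : t ∈ F.autGroup Q)
    {s : Ω} (hs : s ∈ S)
    (hts : ∀ x : Q, ((t (conjAutHom Q ⟨d, hdN⟩ x) : Q) : Ω) = s * ((t x : Q) : Ω) * s⁻¹) :
    ∃ d' ∈ P, ∀ x : Q,
      ((t (conjAutHom Q ⟨d, hdN⟩ x) : Q) : Ω) = d' * ((t x : Q) : Ω) * d'⁻¹ := by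
  have hPS := hP.1
  have hdS : d ∈ S := hPS hdP
  set δ := conjAutHom Q ⟨d, hdN⟩ with hδ
  set φ : Q →* Ω := Q.subtype.comp t.toMonoidHom with hφdef
  have hφ : φ ∈ F.Hom Q := (Fusion.mem_autGroup_iff F hQS t).mp ht
  have hφr : φ.range = Q := by
    ext y
    constructor
    · rintro ⟨x, rfl⟩
      exact (t x).2
    · intro hy
      refine ⟨t.symm ⟨y, hy⟩, ?_⟩
      show ((t (t.symm ⟨y, hy⟩) : Q) : Ω) = y
      simp
  obtain ⟨ψ, hψ, hψext⟩ := hrec.2 Q φ hφ hφr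
  have hφS : ∀ x, φ x ∈ S := fun x => hQS (t x).2
  have hQE : Q ≤ extender S Q φ := Fusion.le_extender Q hQS φ hφS
  have hdE : d ∈ extender S Q φ := by
    apply Subgroup.subset_closure
    refine ⟨hdS, hdN, s, hs, fun x hx => ?_⟩
    have h1 : (⟨d * (x : Ω) * d⁻¹, hx⟩ : Q) = δ x := Subtype.ext rfl
    rw [h1]
    exact hts x
  set d' := ψ ⟨d, hdE⟩ with hd'
  have hd'P : d' ∈ P := by
    have h1 := Fusion.restrict_mem F hψ (inf_le_left : extender S Q φ ⊓ P ≤ extender S Q φ)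
    exact hP.2 (extender S Q φ ⊓ P) inf_le_right _ h1 ⟨d, ⟨hdE, hdP⟩⟩
  have hψQ : ∀ x : Q, ψ ⟨x.1, hQE x.2⟩ = ((t x : Q) : Ω) := fun x => hψext x.1 x.2 (hQE x.2)
  refine ⟨d', hd'P, fun x => ?_⟩
  rw [← hψQ (δ x), ← hψQ x, hd', ← map_inv, ← map_mul, ← map_mul]
  rfl

/-- A `p`-subgroup of `Aut_F(Q)` is conjugate into `Aut_S(Q)` when `Q` is fully automized. -/
theorem exists_conj_into_autS [Finite S] (p : ℕ) [Fact p.Prime] (F : FusionSystem S)
    {Q : Subgroup Ω} (hfa : F.IsFullyAutomized p Q) {K : Subgroup (MulAut Q)}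
    (hKA : K ≤ F.autGroup Q) (hK : IsPGroup p K) :
    ∃ β ∈ F.autGroup Q, ∀ k ∈ K, β * k * β⁻¹ ∈ autInducedBy S Q := by
  have hQS : Q ≤ S := hfa.1
  obtain ⟨R, hR⟩ := hfa.2
  haveI : Finite Q := Fusion.finite_of_le hQS
  haveI : Finite (MulAut Q) := inferInstance
  have hle : autInducedBy S Q ≤ F.autGroup Q := Fusion.autInducedBy_le_autGroup F hQS
  have hcard : Nat.card (autInducedBy S Q) = p ^ (Nat.card (F.autGroup Q)).factorization p := by
    rw [← R.card_eq_multiplicity, ← card_subgroupOf_of_le hle, ← hR]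
  obtain ⟨χ, hχA, hχ⟩ := exists_conj_le_of_card_eq_ppart (p := p) hle hcard hKA hK
  refine ⟨χ, hχA, fun k hk => ?_⟩
  have h1 : (MulAut.conj χ) k ∈ K.map (MulAut.conj χ).toMonoidHom := ⟨k, hk, rfl⟩
  have h2 := hχ h1
  rwa [MulAut.conj_apply] at h2

end Cfsg.Agent.Lead.Gex
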