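import Mathlib
import Cfsg.Agent.Lead.GexA
import Cfsg.Agent.Lead.GexB

set_option autoImplicit false

/-!
The setup for a strongly closed subgroup `P` with `[P, P] ≤ Z`, `|Z| = p`, and a fully normalized
centric radical `Q` not containing `P`.
-/

namespace Cfsg.Agent.Lead.Gex

open Cfsg Cfsg.FusionSystem Cfsg.Agent.Lead Cfsg.Agent.Lead.Meta

variable {Ω : Type*} [Group Ω] {S : Subgroup Ω}

structure Setup (p : ℕ) (F : FusionSystem S) (P Q Z : Subgroup Ω) : Prop where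
  hS : IsPGroup p S
  hF : F.IsSaturated p
  hP : F.StronglyClosed P
  hc : F.IsCentric Q
  hfn : F.IsFullyNormalized Q
  hr : F.IsRadical p Q
  hZP : Z ≤ P
  hZcard : Nat.card Z = p
  hcomm : ∀ a ∈ P, ∀ b ∈ P, a * b * a⁻¹ * b⁻¹ ∈ Z
  hpow : ∀ a ∈ P, a ^ p ∈ Z
  hZc : ∀ s ∈ S, ∀ z ∈ Z, s * z = z * s

namespace Setup

variable {p : ℕ} {F : FusionSystem S} {P Q Z : Subgroup Ω}

theorem hQS (h : Setup p F P Q Z) : Q ≤ S := h.hc.1

theorem hPS (h : Setup p F P Q Z) : P ≤ S := h.hP.1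

theorem finQ [Finite S] (h : Setup p F P Q Z) : Finite Q := Fusion.finite_of_le h.hQS

theorem hQp (h : Setup p F P Q Z) : IsPGroup p Q := h.hS.to_le h.hQS

theorem conj_mem (h : Setup p F P Q Z) {s x : Ω} (hs : s ∈ S) (hx : x ∈ P) : s * x * s⁻¹ ∈ P :=
  conj_mem_of_stronglyClosed F h.hP hs hx

theorem hM (h : Setup p F P Q Z) : ∀ α ∈ F.autGroup Q, ∀ x : Q,
    α x ∈ P.subgroupOf Q ↔ x ∈ P.subgroupOf Q := by
  intro α hα x
  rw [Subgroup.mem_subgroupOf, Subgroup.mem_subgroupOf]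
  exact aut_mem_iff F h.hP h.hQS hα x

theorem gen [hp : Fact p.Prime] (h : Setup p F P Q Z) {u : Ω} (hu : u ∈ Z) (hu1 : u ≠ 1) {v : Ω}
    (hv : v ∈ Z) : ∃ k : ℕ, v = u ^ k := by
  have hu' : (⟨u, hu⟩ : Z) ≠ 1 := fun h1 => hu1 (congrArg Subtype.val h1)
  have htop := zpowers_eq_top_of_prime_card h.hZcard hu'
  have hv' : (⟨v, hv⟩ : Z) ∈ Subgroup.zpowers (⟨u, hu⟩ : Z) := by rw [htop]; exact Subgroup.mem_top _
  have : Finite Z := Nat.finite_of_card_ne_zero (by rw [h.hZcard]; exact hp.out.ne_zero)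
  obtain ⟨k, hk⟩ := mem_powers_iff_mem_zpowers.mpr hv'
  refine ⟨k, ?_⟩
  have := congrArg Subtype.val hk
  rw [Subgroup.coe_pow] at this
  exact this.symm

theorem hrec [Finite S] [Fact p.Prime] (h : Setup p F P Q Z) : F.IsReceptive Q :=
  Fusion.receptive_of_fullyCentralized p h.hS F h.hF
    (Fusion.fullyCentralized_fullyAutomized_of_fullyNormalized p h.hS F h.hF h.hfn).1

theorem hfa [Finite S] [Fact p.Prime] (h : Setup p F P Q Z) : F.IsFullyAutomized p Q :=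
  (Fusion.fullyCentralized_fullyAutomized_of_fullyNormalized p h.hS F h.hF h.hfn).2

theorem conjA (h : Setup p F P Q Z) {d : Ω} (hdS : d ∈ S)
    (hdN : d ∈ Subgroup.normalizer (Q : Set Ω)) : conjAutHom Q ⟨d, hdN⟩ ∈ F.autGroup Q :=
  Fusion.autInducedBy_le_autGroup F h.hQS (Fusion.conjAutHom_mem_autInducedBy Q _ hdS)

theorem cj1 (h : Setup p F P Q Z) {d : Ω} (hdP : d ∈ P)
    (hdN : d ∈ Subgroup.normalizer (Q : Set Ω)) (x : Q) :
    x⁻¹ * conjAutHom Q ⟨d, hdN⟩ x ∈ P.subgroupOf Q := by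
  rw [Subgroup.mem_subgroupOf]
  show (x : Ω)⁻¹ * (d * (x : Ω) * d⁻¹) ∈ P
  have h1 : (x : Ω)⁻¹ * (d * (x : Ω) * d⁻¹) = ((x : Ω)⁻¹ * d * ((x : Ω)⁻¹)⁻¹) * d⁻¹ := by group
  rw [h1]
  exact P.mul_mem (h.conj_mem (S.inv_mem (h.hQS x.2)) hdP) (P.inv_mem hdP)

theorem cj2 (h : Setup p F P Q Z) {d : Ω} (hdP : d ∈ P)
    (hdN : d ∈ Subgroup.normalizer (Q : Set Ω)) (x : Q) (hx : x ∈ P.subgroupOf Q) :
    x⁻¹ * conjAutHom Q ⟨d, hdN⟩ x ∈ Z.subgroupOf Q := by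
  rw [Subgroup.mem_subgroupOf] at hx ⊢
  show (x : Ω)⁻¹ * (d * (x : Ω) * d⁻¹) ∈ Z
  have h1 : (x : Ω)⁻¹ * (d * (x : Ω) * d⁻¹) = (x : Ω)⁻¹ * d * ((x : Ω)⁻¹)⁻¹ * d⁻¹ := by group
  rw [h1]
  exact h.hcomm _ (P.inv_mem hx) _ hdP

theorem cj3 (h : Setup p F P Q Z) {d : Ω} (hdS : d ∈ S)
    (hdN : d ∈ Subgroup.normalizer (Q : Set Ω)) (x : Q) (hx : x ∈ Z.subgroupOf Q) :
    conjAutHom Q ⟨d, hdN⟩ x = x := by
  rw [Subgroup.mem_subgroupOf] at hx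
  apply Subtype.ext
  show d * (x : Ω) * d⁻¹ = (x : Ω)
  rw [h.hZc d hdS _ hx, mul_assoc, mul_inv_cancel, mul_one]

theorem Zq_le_M (h : Setup p F P Q Z) : Z.subgroupOf Q ≤ P.subgroupOf Q := by
  intro x hx
  rw [Subgroup.mem_subgroupOf] at hx ⊢
  exact h.hZP hx

/-- An element of `Aut_F(Q)` stabilizing an `Aut_F(Q)`-invariant chain is inner. -/
theorem mem_inn_of_chainStab [Finite S] [hp : Fact p.Prime] (h : Setup p F P Q Z)
    {c : ℕ → Subgroup Q} (hc : ∀ i, c (i + 1) ≤ c i) (h0 : c 0 = ⊤) {k : ℕ} (hk : c k = ⊥)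
    (hinv : ∀ a ∈ F.autGroup Q, ∀ i x, x ∈ c i → a x ∈ c i) {δ : MulAut Q}
    (hδA : δ ∈ F.autGroup Q) (hδ : ChainStab c δ) : δ ∈ Inn Q := by
  haveI := h.finQ
  set K : Subgroup (MulAut Q) :=
    { carrier := {α | α ∈ F.autGroup Q ∧ ChainStab c α}
      mul_mem' := fun ha hb => ⟨(F.autGroup Q).mul_mem ha.1 hb.1, ChainStab.mul hc ha.2 hb.2⟩
      one_mem' := ⟨(F.autGroup Q).one_mem, ChainStab.one c⟩
      inv_mem' := fun ha => ⟨(F.autGroup Q).inv_mem ha.1, ChainStab.inv hc ha.2⟩ } with hKdef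
  have hKA : K ≤ F.autGroup Q := fun α hα => hα.1
  have hKn : ∀ a ∈ F.autGroup Q, ∀ n ∈ K, a * n * a⁻¹ ∈ K := by
    intro a ha n hn
    refine ⟨(F.autGroup Q).mul_mem ((F.autGroup Q).mul_mem ha hn.1) ((F.autGroup Q).inv_mem ha), ?_⟩
    exact ChainStab.conj (hinv a ha) (hinv a⁻¹ ((F.autGroup Q).inv_mem ha)) hn.2
  have hKp : IsPGroup p K := isPGroup_of_chainStab h.hQp hc h0 hk K (fun α hα => hα.2)
  exact hrad_of_isRadical p F h.hr K hKA hKn hKp ⟨hδA, hδ⟩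

/-- An element of `N_S(Q)` whose conjugation stabilizes an invariant chain lies in `Q`. -/
theorem mem_of_chainStab [Finite S] [hp : Fact p.Prime] (h : Setup p F P Q Z)
    {c : ℕ → Subgroup Q} (hc : ∀ i, c (i + 1) ≤ c i) (h0 : c 0 = ⊤) {k : ℕ} (hk : c k = ⊥)
    (hinv : ∀ a ∈ F.autGroup Q, ∀ i x, x ∈ c i → a x ∈ c i) {d : Ω} (hdS : d ∈ S)
    (hdN : d ∈ Subgroup.normalizer (Q : Set Ω)) (hδ : ChainStab c (conjAutHom Q ⟨d, hdN⟩)) :
    d ∈ Q :=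
  Fusion.mem_of_conjAutHom_mem_inn F h.hc d hdS hdN
    (h.mem_inn_of_chainStab hc h0 hk hinv (h.conjA hdS hdN) hδ)

/-- Step 1: some automorphism moves `Z`. -/
theorem exists_moving [Finite S] [hp : Fact p.Prime] (h : Setup p F P Q Z) (hPQ : ¬ P ≤ Q) :
    ∃ α ∈ F.autGroup Q, ∃ z : Q, (z : Ω) ∈ Z ∧ ((α z : Q) : Ω) ∉ Z := by
  by_contra hcon
  push_neg at hcon
  obtain ⟨d, hdP, hdN, hdQ, -⟩ := exists_elt p h.hS F h.hP h.hQS hPQ
  apply hdQ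
  have hdS := h.hPS hdP
  refine h.mem_of_chainStab (chain4_anti h.Zq_le_M bot_le) (chain4_zero _ _ _) (chain4_four _ _ _)
    (c := chain4 (P.subgroupOf Q) (Z.subgroupOf Q) ⊥) ?_ hdS hdN ?_
  · intro a ha
    apply chain4_inv
    · intro x hx
      exact (h.hM a ha x).mpr hx
    · intro x hx
      rw [Subgroup.mem_subgroupOf] at hx ⊢
      exact hcon a ha x hx
    · intro x hx
      rw [Subgroup.mem_bot] at hx ⊢
      rw [hx, map_one]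
  · apply chainStab_chain4
    · exact h.cj1 hdP hdN
    · exact h.cj2 hdP hdN
    · intro x hx
      rw [h.cj3 hdS hdN x hx, inv_mul_cancel]
      exact Subgroup.one_mem _
    · intro x hx
      rw [Subgroup.mem_bot] at hx
      rw [hx, map_one]

end Setup

end Cfsg.Agent.Lead.Gex
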