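import Mathlib
import Cfsg.Agent.Lead.GexC

set_option autoImplicit false

/-!
Steps 2 and 3: when an automorphism moves `Z`, the intersection `P ∩ Q` is elementary abelian and
the centralizer in `N_P(Q)` of the moved `Z` lies in `Q`.
-/

namespace Cfsg.Agent.Lead.Gex

open Cfsg Cfsg.FusionSystem Cfsg.Agent.Lead Cfsg.Agent.Lead.Meta

variable {Ω : Type*} [Group Ω] {S : Subgroup Ω}

/-- `α` moves `Z`. -/
def Moves (Z : Subgroup Ω) {Q : Subgroup Ω} (α : MulAut Q) : Prop :=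
  ∃ z : Q, (z : Ω) ∈ Z ∧ ((α z : Q) : Ω) ∉ Z

namespace Setup

variable {p : ℕ} {F : FusionSystem S} {P Q Z : Subgroup Ω}

theorem gen' [hp : Fact p.Prime] (h : Setup p F P Q Z) {u : Q} (hu : (u : Ω) ∈ Z) (hu1 : u ≠ 1)
    {v : Q} (hv : (v : Ω) ∈ Z) : ∃ k : ℕ, v = u ^ k := by
  have hu1' : (u : Ω) ≠ 1 := fun h1 => hu1 (Subtype.ext h1)
  obtain ⟨k, hk⟩ := h.gen hu hu1' hv
  exact ⟨k, Subtype.ext (by rw [Subgroup.coe_pow]; exact hk)⟩

theorem moves_all [hp : Fact p.Prime] (h : Setup p F P Q Z) {α : MulAut Q} (hα : Moves Z α)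
    {v : Q} (hv : (v : Ω) ∈ Z) (hv1 : v ≠ 1) : ((α v : Q) : Ω) ∉ Z := by
  obtain ⟨z, hz, hαz⟩ := hα
  intro hcon
  obtain ⟨k, hk⟩ := h.gen' hv hv1 hz
  apply hαz
  rw [hk, map_pow, Subgroup.coe_pow]
  exact Z.pow_mem hcon k

theorem moves_ne_one {α : MulAut Q} {z : Q} (hαz : ((α z : Q) : Ω) ∉ Z) : z ≠ 1 := by
  rintro rfl
  apply hαz
  rw [map_one]
  exact Z.one_mem

theorem Z_le_Q [hp : Fact p.Prime] (h : Setup p F P Q Z) {α : MulAut Q} (hα : Moves Z α) :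
    Z ≤ Q := by
  obtain ⟨z, hz, hαz⟩ := hα
  intro v hv
  have hz1 : (z : Ω) ≠ 1 := fun h1 => moves_ne_one hαz (Subtype.ext h1)
  obtain ⟨k, hk⟩ := h.gen hz hz1 hv
  rw [hk]
  exact Q.pow_mem z.2 k

theorem moves_inv [hp : Fact p.Prime] (h : Setup p F P Q Z) {α : MulAut Q} (hα : Moves Z α) :
    Moves Z α⁻¹ := by
  obtain ⟨z, hz, hαz⟩ := hα
  refine ⟨z, hz, fun hcon => ?_⟩
  have hz1 : z ≠ 1 := moves_ne_one hαz
  have h1 : α⁻¹ z ≠ 1 := by
    intro h2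
    apply hz1
    have := congrArg α h2
    rwa [MulAut.apply_inv_self, map_one] at this
  obtain ⟨k, hk⟩ := h.gen' hcon h1 hz
  apply hαz
  have h3 : α z = z ^ k := by
    conv_lhs => rw [hk]
    rw [map_pow, MulAut.apply_inv_self]
  rw [h3, Subgroup.coe_pow]
  exact Z.pow_mem hz k

theorem M_comm [hp : Fact p.Prime] (h : Setup p F P Q Z) {α : MulAut Q}
    (hαA : α ∈ F.autGroup Q) (hα : Moves Z α) {a b : Q} (ha : a ∈ P.subgroupOf Q)
    (hb : b ∈ P.subgroupOf Q) : a * b = b * a := by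
  by_contra hne
  have hw1 : a * b * a⁻¹ * b⁻¹ ≠ 1 := by
    intro h1
    apply hne
    calc a * b = (a * b * a⁻¹ * b⁻¹) * (b * a) := by group
      _ = b * a := by rw [h1, one_mul]
  have haP : (a : Ω) ∈ P := Subgroup.mem_subgroupOf.mp ha
  have hbP : (b : Ω) ∈ P := Subgroup.mem_subgroupOf.mp hb
  have hwZ : ((a * b * a⁻¹ * b⁻¹ : Q) : Ω) ∈ Z := h.hcomm _ haP _ hbP
  apply h.moves_all hα hwZ hw1
  rw [map_mul, map_mul, map_mul, map_inv, map_inv]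
  exact h.hcomm _ (Subgroup.mem_subgroupOf.mp ((h.hM α hαA a).mpr ha)) _
    (Subgroup.mem_subgroupOf.mp ((h.hM α hαA b).mpr hb))

theorem M_exp [hp : Fact p.Prime] (h : Setup p F P Q Z) {α : MulAut Q}
    (hαA : α ∈ F.autGroup Q) (hα : Moves Z α) {a : Q} (ha : a ∈ P.subgroupOf Q) : a ^ p = 1 := by
  by_contra hne
  have haP : (a : Ω) ∈ P := Subgroup.mem_subgroupOf.mp ha
  have hwZ : ((a ^ p : Q) : Ω) ∈ Z := by
    rw [Subgroup.coe_pow]; exact h.hpow _ haP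
  apply h.moves_all hα hwZ hne
  rw [map_pow, Subgroup.coe_pow]
  exact h.hpow _ (Subgroup.mem_subgroupOf.mp ((h.hM α hαA a).mpr ha))

/-- Step 3: an element of `N_P(Q)` centralizing the moved `Z` lies in `Q`. -/
theorem centralizer_le [Finite S] [hp : Fact p.Prime] (h : Setup p F P Q Z) {α : MulAut Q}
    (hαA : α ∈ F.autGroup Q) (hα : Moves Z α) {z : Q} (hz : (z : Ω) ∈ Z) (hz1 : z ≠ 1)
    {c : Ω} (hcP : c ∈ P) (hcN : c ∈ Subgroup.normalizer (Q : Set Ω))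
    (hcz : c * ((α z : Q) : Ω) = ((α z : Q) : Ω) * c) : c ∈ Q := by
  by_contra hcQ
  haveI := h.finQ
  have hcS : c ∈ S := h.hPS hcP
  have hαiA : α⁻¹ ∈ F.autGroup Q := (F.autGroup Q).inv_mem hαA
  obtain ⟨t, htdef⟩ : ∃ t, t = conjAutHom Q ⟨c, hcN⟩ := ⟨_, rfl⟩
  have htA : t ∈ F.autGroup Q := htdef ▸ h.conjA hcS hcN
  have ht1 : ∀ x : Q, x⁻¹ * t x ∈ P.subgroupOf Q := fun x => htdef ▸ h.cj1 hcP hcN x
  have ht2 : ∀ x : Q, x ∈ P.subgroupOf Q → x⁻¹ * t x ∈ Z.subgroupOf Q :=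
    fun x hx => htdef ▸ h.cj2 hcP hcN x hx
  have ht3 : ∀ x : Q, x ∈ Z.subgroupOf Q → t x = x := fun x hx => htdef ▸ h.cj3 hcS hcN x hx
  have htαz : t (α z) = α z := by
    rw [htdef]
    apply Subtype.ext
    show c * ((α z : Q) : Ω) * c⁻¹ = ((α z : Q) : Ω)
    rw [hcz, mul_assoc, mul_inv_cancel, mul_one]
  have htα : ∀ x : Q, x ∈ Z.subgroupOf Q → t (α x) = α x := by
    intro x hx
    obtain ⟨k, hk⟩ := h.gen' hz hz1 (Subgroup.mem_subgroupOf.mp hx)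
    rw [hk, map_pow, map_pow, htαz]
  obtain ⟨t₂, ht₂def⟩ : ∃ t₂, t₂ = α⁻¹ * t * α := ⟨_, rfl⟩
  have ht₂A : t₂ ∈ F.autGroup Q := by
    rw [ht₂def]
    exact (F.autGroup Q).mul_mem ((F.autGroup Q).mul_mem hαiA htA) hαA
  have ht₂app : ∀ x : Q, t₂ x = α⁻¹ (t (α x)) := fun x => by rw [ht₂def]; rfl
  have hkey : ∀ x : Q, x⁻¹ * t₂ x = α⁻¹ ((α x)⁻¹ * t (α x)) := by
    intro x
    rw [ht₂app, map_mul, map_inv, MulAut.inv_apply_self]
  set M := P.subgroupOf Q with hMdef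
  set Zq := Z.subgroupOf Q with hZqdef
  set W := Zq ⊔ Zq.map (α⁻¹ : MulAut Q).toMonoidHom with hWdef
  have hf4 : ∀ x ∈ Zq, t₂ x = x := by
    intro x hx
    rw [ht₂app, htα x hx, MulAut.inv_apply_self]
  have hf5 : ∀ y ∈ Zq.map (α⁻¹ : MulAut Q).toMonoidHom, t₂ y = y := by
    rintro _ ⟨v, hv, rfl⟩
    show t₂ (α⁻¹ v) = α⁻¹ v
    rw [ht₂app, MulAut.apply_inv_self, ht3 v hv]
  have hf6 : ∀ x ∈ W, t₂ x = x := by
    have hle : W ≤ (t₂.toMonoidHom).eqLocus (MonoidHom.id Q) :=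
      sup_le (fun x hx => hf4 x hx) (fun y hy => hf5 y hy)
    intro x hx
    exact hle hx
  have hZM : Zq ≤ M := h.Zq_le_M
  have hf7 : W ≤ M := by
    apply sup_le hZM
    rintro _ ⟨v, hv, rfl⟩
    exact (h.hM α⁻¹ hαiA v).mpr (hZM hv)
  have hf8 : Zq ≤ W := le_sup_left
  have hcs1 : ChainStab (chain4 M W Zq) t := by
    apply chainStab_chain4 ht1
    · intro x hx
      exact hf8 (ht2 x hx)
    · intro x hx
      exact ht2 x (hf7 hx)
    · exact ht3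
  have hcs2 : ChainStab (chain4 M W Zq) t₂ := by
    apply chainStab_chain4
    · intro x
      rw [hkey]
      exact (h.hM α⁻¹ hαiA _).mpr (ht1 _)
    · intro x hx
      rw [hkey]
      exact Subgroup.mem_sup_right ⟨_, ht2 _ ((h.hM α hαA x).mpr hx), rfl⟩
    · intro x hx
      rw [hf6 x hx, inv_mul_cancel]
      exact Subgroup.one_mem _
    · exact hf4
  have hanti := chain4_anti hf7 hf8
  set Kc : Subgroup (MulAut Q) := Subgroup.closure {t, t₂} with hKcdef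
  have hKcA : Kc ≤ F.autGroup Q := by
    rw [hKcdef, Subgroup.closure_le]
    intro y hy
    rcases hy with rfl | rfl
    · exact htA
    · exact ht₂A
  have hKcp : IsPGroup p Kc := by
    apply isPGroup_of_chainStab h.hQp hanti (chain4_zero _ _ _) (chain4_four _ _ _)
    intro y hy
    apply ChainStab.of_mem_closure hanti _ hy
    intro y hy
    rcases hy with rfl | rfl
    · exact hcs1
    · exact hcs2
  obtain ⟨β, hβA, hβ⟩ := exists_conj_into_autS p F h.hfa hKcA hKcp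
  have htK : t ∈ Kc := Subgroup.subset_closure (Set.mem_insert _ _)
  have ht₂K : t₂ ∈ Kc := Subgroup.subset_closure (Set.mem_insert_of_mem _ rfl)
  -- transport of `t`
  obtain ⟨s₁, hs₁, hs₁'⟩ := (mem_autInducedBy_iff S Q _).mp (hβ t htK)
  have hts₁ : ∀ x : Q, ((β (conjAutHom Q ⟨c, hcN⟩ x) : Q) : Ω) = s₁ * ((β x : Q) : Ω) * s₁⁻¹ := by
    intro x
    rw [← htdef, ← hs₁' (β x)]
    simp only [MulAut.mul_apply, MulAut.inv_apply_self]
  obtain ⟨c₁, hc₁P, hc₁⟩ := exists_conj_elt F h.hP h.hQS h.hrec hcP hcN hβA hs₁ hts₁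
  rw [← htdef] at hc₁
  -- transport of `t₂`
  obtain ⟨γ, hγdef⟩ : ∃ γ, γ = β * α⁻¹ := ⟨_, rfl⟩
  have hγA : γ ∈ F.autGroup Q := by rw [hγdef]; exact (F.autGroup Q).mul_mem hβA hαiA
  obtain ⟨s₂, hs₂, hs₂'⟩ := (mem_autInducedBy_iff S Q _).mp (hβ t₂ ht₂K)
  have hts₂ : ∀ x : Q, ((γ (conjAutHom Q ⟨c, hcN⟩ x) : Q) : Ω) = s₂ * ((γ x : Q) : Ω) * s₂⁻¹ := by
    intro x
    rw [← htdef, ← hs₂' (γ x), hγdef, ht₂def]
    simp only [MulAut.mul_apply, MulAut.inv_apply_self, MulAut.apply_inv_self]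
  obtain ⟨c₂, hc₂P, hc₂⟩ := exists_conj_elt F h.hP h.hQS h.hrec hcP hcN hγA hs₂ hts₂
  rw [← htdef] at hc₂
  -- `t` acts nontrivially on `M`
  have hex : ∃ m ∈ M, t m ≠ m := by
    by_contra hcon
    push_neg at hcon
    apply hcQ
    refine h.mem_of_chainStab (chain4_anti bot_le bot_le) (chain4_zero _ _ _) (chain4_four _ _ _)
      (c := chain4 M ⊥ ⊥) ?_ hcS hcN ?_
    · intro a ha
      apply chain4_inv
      · intro x hx
        exact (h.hM a ha x).mpr hx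
      · intro x hx
        rw [Subgroup.mem_bot] at hx ⊢
        rw [hx, map_one]
      · intro x hx
        rw [Subgroup.mem_bot] at hx ⊢
        rw [hx, map_one]
    · rw [← htdef]
      apply chainStab_chain4 ht1
      · intro x hx
        rw [hcon x hx, inv_mul_cancel]
        exact Subgroup.one_mem _
      · intro x hx
        rw [Subgroup.mem_bot] at hx
        rw [hx, map_one, inv_one, one_mul]
        exact Subgroup.one_mem _
      · intro x hx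
        rw [Subgroup.mem_bot] at hx
        rw [hx, map_one]
  obtain ⟨m, hm, htm⟩ := hex
  obtain ⟨w, hwdef⟩ : ∃ w, w = m⁻¹ * t m := ⟨_, rfl⟩
  have hwZ : (w : Ω) ∈ Z := by
    have := ht2 m hm
    rw [← hwdef] at this
    exact Subgroup.mem_subgroupOf.mp this
  have hw1 : w ≠ 1 := by
    intro h1
    apply htm
    rw [hwdef, inv_mul_eq_one] at h1
    exact h1.symm
  have hβw : ((β w : Q) : Ω) ∈ Z := by
    have h1 : ((β w : Q) : Ω) = ((β m : Q) : Ω)⁻¹ * c₁ * (((β m : Q) : Ω)⁻¹)⁻¹ * c₁⁻¹ := by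
      rw [hwdef, map_mul, map_inv, Subgroup.coe_mul, Subgroup.coe_inv, hc₁ m]
      group
    rw [h1]
    exact h.hcomm _ (P.inv_mem (Subgroup.mem_subgroupOf.mp ((h.hM β hβA m).mpr hm))) _ hc₁P
  have hγw : ((γ w : Q) : Ω) ∈ Z := by
    have h1 : ((γ w : Q) : Ω) = ((γ m : Q) : Ω)⁻¹ * c₂ * (((γ m : Q) : Ω)⁻¹)⁻¹ * c₂⁻¹ := by
      rw [hwdef, map_mul, map_inv, Subgroup.coe_mul, Subgroup.coe_inv, hc₂ m]
      group
    rw [h1]
    exact h.hcomm _ (P.inv_mem (Subgroup.mem_subgroupOf.mp ((h.hM γ hγA m).mpr hm))) _ hc₂P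
  have hβw1 : β w ≠ 1 := by
    intro h1
    apply hw1
    exact β.injective (h1.trans (map_one β).symm)
  obtain ⟨k, hk⟩ := h.gen' hβw hβw1 hγw
  have h2 : α⁻¹ w = w ^ k := by
    apply β.injective
    rw [map_pow, ← hk, hγdef]
    rfl
  have h3 := h.moves_all (h.moves_inv hα) hwZ hw1
  apply h3
  rw [h2, Subgroup.coe_pow]
  exact Z.pow_mem hwZ k

end Setup

end Cfsg.Agent.Lead.Gex
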