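import Mathlib
import Cfsg.Agent.Lead.GexD

set_option autoImplicit false

/-!
Step 4: when an automorphism moves `Z`, the strongly closed subgroup `P` normalizes `Q`.
-/

namespace Cfsg.Agent.Lead.Gex

open Cfsg Cfsg.FusionSystem Cfsg.Agent.Lead Cfsg.Agent.Lead.Meta

variable {Ω : Type*} [Group Ω] {S : Subgroup Ω}

namespace Setup

variable {p : ℕ} {F : FusionSystem S} {P Q Z : Subgroup Ω}

/-- The moved generator is central in `Q`. -/
theorem moved_central (h : Setup p F P Q Z) (α : MulAut Q) {z : Q} (hz : (z : Ω) ∈ Z)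
    {q : Ω} (hq : q ∈ Q) : q * ((α z : Q) : Ω) = ((α z : Q) : Ω) * q := by
  have h1 : (α⁻¹ ⟨q, hq⟩) * z = z * (α⁻¹ ⟨q, hq⟩) := by
    apply Subtype.ext
    exact h.hZc _ (h.hQS (α⁻¹ ⟨q, hq⟩).2) _ hz
  have h2 := congrArg α h1
  rw [map_mul, map_mul, MulAut.apply_inv_self] at h2
  exact congrArg Subtype.val h2

theorem moved_mem_P (h : Setup p F P Q Z) {α : MulAut Q} (hαA : α ∈ F.autGroup Q) {z : Q}
    (hz : (z : Ω) ∈ Z) : ((α z : Q) : Ω) ∈ P := by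
  have h1 : z ∈ P.subgroupOf Q := Subgroup.mem_subgroupOf.mpr (h.hZP hz)
  exact Subgroup.mem_subgroupOf.mp ((h.hM α hαA z).mpr h1)

/-- Step 4. -/
theorem le_normalizer [Finite S] [hp : Fact p.Prime] (h : Setup p F P Q Z) {α : MulAut Q}
    (hαA : α ∈ F.autGroup Q) (hα : Moves Z α) : P ≤ Subgroup.normalizer (Q : Set Ω) := by
  by_contra hPN
  have hQS := h.hQS
  have hPS := h.hPS
  haveI : Finite Q := h.finQ
  haveI : Finite P := Fusion.finite_of_le hPS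
  obtain ⟨z, hz, hαz⟩ := id hα
  have hz1 : z ≠ 1 := moves_ne_one hαz
  obtain ⟨z', hz'def⟩ : ∃ z' : Ω, z' = ((α z : Q) : Ω) := ⟨_, rfl⟩
  have hz'P : z' ∈ P := hz'def ▸ h.moved_mem_P hαA hz
  have hz'c : ∀ q ∈ Q, q * z' = z' * q := fun q hq => hz'def ▸ h.moved_central α hz hq
  set N : Subgroup Ω := P ⊓ Subgroup.normalizer (Q : Set Ω) with hNdef
  have hNn : N ≤ Subgroup.normalizer (Q : Set Ω) := inf_le_right
  have hQnP : Q ≤ Subgroup.normalizer (P : Set Ω) := by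
    intro q hq
    apply mem_normalizer_of_conj_mem_of_finite
    intro y hy
    exact h.conj_mem (hQS hq) hy
  have hPQN : P ⊓ Q ≤ N := le_inf inf_le_left (inf_le_right.trans Subgroup.le_normalizer)
  set T : Subgroup Ω := N ⊔ Q with hTdef
  set U : Subgroup Ω := Q ⊔ P with hUdef
  have hTU : T ≤ U := sup_le (inf_le_left.trans le_sup_right) le_sup_left
  have hUS : U ≤ S := sup_le hQS hPS
  haveI : Finite U := Fusion.finite_of_le hUS
  have hTP : ∀ e ∈ T, e ∈ P → e ∈ N := by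
    intro e heT heP
    obtain ⟨n, hn, q₁, hq₁, rfl⟩ := (mem_sup_iff' hNn e).mp heT
    have hq₁P : q₁ ∈ P := by
      have h1 : q₁ = n⁻¹ * (n * q₁) := by group
      rw [h1]
      exact P.mul_mem (P.inv_mem hn.1) heP
    exact N.mul_mem hn (hPQN ⟨hq₁P, hq₁⟩)
  have hne : T ≠ U := by
    intro hTU'
    apply hPN
    intro y hy
    have hyT : y ∈ T := by rw [hTU']; exact Subgroup.mem_sup_right hy
    exact (hTP y hyT hy).2
  obtain ⟨g, hgT, hgnot⟩ := Fusion.exists_mem_normalizerIn_not_mem (S := U) (h.hS.to_le hUS) hTU hne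
  obtain ⟨hgU, hgN⟩ := Subgroup.mem_inf.mp hgT
  obtain ⟨q₀, hq₀, y, hy, rfl⟩ := (mem_sup_iff' hQnP g).mp hgU
  have hq₀T : q₀ ∈ T := Subgroup.mem_sup_right hq₀
  have hyNT : y ∈ Subgroup.normalizer (T : Set Ω) := by
    have h1 : y = q₀⁻¹ * (q₀ * y) := by group
    rw [h1]
    exact Subgroup.mul_mem _ (Subgroup.inv_mem _ (Subgroup.le_normalizer hq₀T)) hgN
  have hyT : y ∉ T := fun h1 => hgnot (T.mul_mem hq₀T h1)
  have hcommN : ∀ q ∈ Q, y * q * y⁻¹ * q⁻¹ ∈ N := by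
    intro q hq
    apply hTP
    · have h1 : y * q * y⁻¹ ∈ T :=
        (Subgroup.mem_normalizer_iff.mp hyNT q).mp (Subgroup.mem_sup_right hq)
      exact T.mul_mem h1 (T.inv_mem (Subgroup.mem_sup_right hq))
    · have h1 : y * q * y⁻¹ * q⁻¹ = y * (q * y⁻¹ * q⁻¹) := by group
      rw [h1]
      exact P.mul_mem hy (h.conj_mem (hQS hq) (P.inv_mem hy))
  have hyNQ : y ∉ Subgroup.normalizer (Q : Set Ω) := fun h1 => hyT (Subgroup.mem_sup_left ⟨hy, h1⟩)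
  have hex : ∃ q ∈ Q, y * q * y⁻¹ ∉ Q := by
    by_contra hcon
    push_neg at hcon
    exact hyNQ (mem_normalizer_of_conj_mem_of_finite Q y hcon)
  obtain ⟨q, hq, hyq⟩ := hex
  have heN := hcommN q hq
  have heQ : y * q * y⁻¹ * q⁻¹ ∉ Q := by
    intro h1
    apply hyq
    have h2 : y * q * y⁻¹ = (y * q * y⁻¹ * q⁻¹) * q := by group
    rw [h2]
    exact Q.mul_mem h1 hq
  apply heQ
  rw [hz'def] at hz'c hz'P
  refine h.centralizer_le hαA hα hz hz1 heN.1 heN.2 ?_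
  rw [← hz'def] at hz'c hz'P ⊢
  -- the commutator computation
  obtain ⟨u', hu'⟩ : ∃ u', u' = z'⁻¹ * y⁻¹ * z' * y := ⟨_, rfl⟩
  have hu'Z : u' ∈ Z := by
    have := h.hcomm _ (P.inv_mem hz'P) _ (P.inv_mem hy)
    rw [inv_inv, inv_inv] at this
    rw [hu']
    exact this
  have hq1 : q * z' = z' * q := hz'c q hq
  have hq2 : q * u' = u' * q := h.hZc q (hQS hq) u' hu'Z
  have hy1 : y⁻¹ * z' * y = z' * u' := by rw [hu']; group
  have hq1' : q⁻¹ * z' = z' * q⁻¹ := by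
    calc q⁻¹ * z' = q⁻¹ * (z' * q) * q⁻¹ := by group
      _ = q⁻¹ * (q * z') * q⁻¹ := by rw [hq1]
      _ = z' * q⁻¹ := by group
  calc y * q * y⁻¹ * q⁻¹ * z' = y * q * y⁻¹ * (q⁻¹ * z') := by group
    _ = y * q * y⁻¹ * (z' * q⁻¹) := by rw [hq1']
    _ = y * q * (y⁻¹ * z' * y) * y⁻¹ * q⁻¹ := by group
    _ = y * q * (z' * u') * y⁻¹ * q⁻¹ := by rw [hy1]
    _ = y * (q * z') * u' * y⁻¹ * q⁻¹ := by group
    _ = y * (z' * q) * u' * y⁻¹ * q⁻¹ := by rw [hq1]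
    _ = y * z' * (q * u') * y⁻¹ * q⁻¹ := by group
    _ = y * z' * (u' * q) * y⁻¹ * q⁻¹ := by rw [hq2]
    _ = y * (z' * u') * y⁻¹ * (y * q * y⁻¹ * q⁻¹) := by group
    _ = y * (y⁻¹ * z' * y) * y⁻¹ * (y * q * y⁻¹ * q⁻¹) := by rw [hy1]
    _ = z' * (y * q * y⁻¹ * q⁻¹) := by group

/-- After Step 4: an element of `P` commuting with the moved generator lies in `Q`. -/
theorem mem_Q_of_comm [Finite S] [hp : Fact p.Prime] (h : Setup p F P Q Z) {α : MulAut Q}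
    (hαA : α ∈ F.autGroup Q) (hα : Moves Z α) {z : Q} (hz : (z : Ω) ∈ Z) (hz1 : z ≠ 1)
    {c : Ω} (hcP : c ∈ P) (hcz : c * ((α z : Q) : Ω) = ((α z : Q) : Ω) * c) : c ∈ Q :=
  h.centralizer_le hαA hα hz hz1 hcP (h.le_normalizer hαA hα hcP) hcz

end Setup

end Cfsg.Agent.Lead.Gex
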