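import Mathlib
import Cfsg.Agent.Lead.GexE

set_option autoImplicit false

/-!
The inverting element: when an automorphism moves `Z`, every `d ∈ P \ Q` satisfies
`(q₁ d) ^ p = (d ^ p)⁻¹` for some `q₁ ∈ P ∩ Q`.
-/

namespace Cfsg.Agent.Lead.Gex

open Cfsg Cfsg.FusionSystem Cfsg.Agent.Lead Cfsg.Agent.Lead.Meta

theorem inv_apply_of_apply' {Q : Type*} [Group Q] {α : MulAut Q} {x y : Q} (h : α x = y) :
    α⁻¹ y = x := by
  rw [← h, MulAut.inv_apply_self]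

/-- The word `w ^ 2`, `w = u⁻¹ U' u⁻¹`, inverts `z₁` and `z₂`. -/
theorem inverting_word {Q : Type*} [Group Q] {u U' : MulAut Q} {z₁ z₂ : Q}
    (h1 : u z₁ = z₁) (h2 : u z₂ = z₂ * z₁) (h3 : U' z₁ = z₁ * z₂) (h4 : U' z₂ = z₂)
    (hc : z₁ * z₂ = z₂ * z₁) :
    ((u⁻¹ * U' * u⁻¹) * (u⁻¹ * U' * u⁻¹)) z₁ = z₁⁻¹ ∧
      ((u⁻¹ * U' * u⁻¹) * (u⁻¹ * U' * u⁻¹)) z₂ = z₂⁻¹ := by
  have hi1 : u⁻¹ z₁ = z₁ := inv_apply_of_apply' h1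
  have hi2 : u⁻¹ z₂ = z₂ * z₁⁻¹ := by
    apply inv_apply_of_apply'
    rw [map_mul, map_inv, h2, h1, mul_inv_cancel_right]
  have hw1 : (u⁻¹ * U' * u⁻¹) z₁ = z₂ := by
    rw [MulAut.mul_apply, MulAut.mul_apply, hi1, h3, map_mul, hi1, hi2, ← mul_assoc, hc,
      mul_inv_cancel_right]
  have hw2 : (u⁻¹ * U' * u⁻¹) z₂ = z₁⁻¹ := by
    rw [MulAut.mul_apply, MulAut.mul_apply, hi2, map_mul, map_inv, h4, h3, mul_inv_rev,
      ← mul_assoc, mul_inv_cancel, one_mul, map_inv, hi1]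
  constructor
  · rw [MulAut.mul_apply, hw1, hw2]
  · rw [MulAut.mul_apply, hw2, map_inv, hw1]

/-- The commutator `t u t⁻¹ u⁻¹` fixes `z₁` and `z₂`. -/
theorem comm_fix {Q : Type*} [Group Q] {u t : MulAut Q} {z₁ z₂ : Q}
    (h1 : u z₁ = z₁) (h2 : u z₂ = z₂ * z₁) (ht1 : t z₁ = z₁⁻¹) (ht2 : t z₂ = z₂⁻¹)
    (hc : z₁ * z₂ = z₂ * z₁) :
    (t * u * t⁻¹ * u⁻¹) z₁ = z₁ ∧ (t * u * t⁻¹ * u⁻¹) z₂ = z₂ := by
  have hi1 : u⁻¹ z₁ = z₁ := inv_apply_of_apply' h1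
  have hi2 : u⁻¹ z₂ = z₂ * z₁⁻¹ := by
    apply inv_apply_of_apply'
    rw [map_mul, map_inv, h2, h1, mul_inv_cancel_right]
  have hti1 : t⁻¹ z₁ = z₁⁻¹ := by
    apply inv_apply_of_apply'
    rw [map_inv, ht1, inv_inv]
  have hti2 : t⁻¹ z₂ = z₂⁻¹ := by
    apply inv_apply_of_apply'
    rw [map_inv, ht2, inv_inv]
  constructor
  · rw [MulAut.mul_apply, MulAut.mul_apply, MulAut.mul_apply, hi1, hti1, map_inv, h1, map_inv,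
      ht1, inv_inv]
  · rw [MulAut.mul_apply, MulAut.mul_apply, MulAut.mul_apply, hi2, map_mul, map_inv, hti2, hti1,
      inv_inv, map_mul, map_inv, h2, h1, map_mul, map_inv, map_mul, ht2, ht1]
    rw [mul_inv_rev, inv_inv, inv_inv, hc, mul_inv_cancel_right]

end Cfsg.Agent.Lead.Gex
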