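import Mathlib
import Cfsg.Agent.Lead.GexF

set_option autoImplicit false

/-!
The inverting element in context.
-/

namespace Cfsg.Agent.Lead.Gex

open Cfsg Cfsg.FusionSystem Cfsg.Agent.Lead Cfsg.Agent.Lead.Meta

variable {Ω : Type*} [Group Ω] {S : Subgroup Ω}

theorem pow_fix {Q : Type*} [Group Q] {α : MulAut Q} {x : Q} (h : α x = x) (n : ℕ) :
    (α ^ n) x = x := by
  induction n with
  | zero => rfl
  | succ n ih => rw [pow_succ, MulAut.mul_apply, h, ih]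

namespace Setup

variable {p : ℕ} {F : FusionSystem S} {P Q Z : Subgroup Ω}

set_option maxHeartbeats 800000 in
theorem exists_pow_inv [Finite S] [hp : Fact p.Prime] (h : Setup p F P Q Z) {α : MulAut Q}
    (hαA : α ∈ F.autGroup Q) (hα : Moves Z α) {d : Ω} (hdP : d ∈ P) (hdQ : d ∉ Q) :
    ∃ q₁, q₁ ∈ P ∧ q₁ ∈ Q ∧ (q₁ * d) ^ p = (d ^ p)⁻¹ := by
  haveI := h.finQ
  have hPN := h.le_normalizer hαA hα
  have hdN := hPN hdP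
  have hdS := h.hPS hdP
  have hαiA := (F.autGroup Q).inv_mem hαA
  have hαi := h.moves_inv hα
  obtain ⟨z, hz, hαz⟩ := id hα
  have hz1 := moves_ne_one hαz
  set M := P.subgroupOf Q with hMdef
  set Zq := Z.subgroupOf Q with hZqdef
  obtain ⟨u, hudef⟩ : ∃ u, u = conjAutHom Q ⟨d, hdN⟩ := ⟨_, rfl⟩
  have huA : u ∈ F.autGroup Q := hudef ▸ h.conjA hdS hdN
  have hu1 : ∀ x : Q, x⁻¹ * u x ∈ M := fun x => hudef ▸ h.cj1 hdP hdN x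
  have hu2 : ∀ x : Q, x ∈ M → x⁻¹ * u x ∈ Zq := fun x hx => hudef ▸ h.cj2 hdP hdN x hx
  have hu3 : ∀ x : Q, x ∈ Zq → u x = x := fun x hx => hudef ▸ h.cj3 hdS hdN x hx
  have hnofix : ∀ (α' : MulAut Q), α' ∈ F.autGroup Q → Moves Z α' → ∀ ζ : Q, (ζ : Ω) ∈ Z →
      ζ ≠ 1 → u (α' ζ) ≠ α' ζ := by
    intro α' hα'A hα' ζ hζ hζ1 hfix
    apply hdQ
    refine h.mem_Q_of_comm hα'A hα' hζ hζ1 hdP ?_
    have h1 := congrArg Subtype.val hfix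
    rw [hudef] at h1
    have h2 : d * ((α' ζ : Q) : Ω) * d⁻¹ = ((α' ζ : Q) : Ω) := h1
    calc d * ((α' ζ : Q) : Ω) = (d * ((α' ζ : Q) : Ω) * d⁻¹) * d := by group
      _ = ((α' ζ : Q) : Ω) * d := by rw [h2]
  have hcen : ∀ ζ : Q, ζ ∈ Zq → ∀ x : Q, x * ζ = ζ * x := by
    intro ζ hζ x
    apply Subtype.ext
    exact h.hZc _ (h.hQS x.2) _ (Subgroup.mem_subgroupOf.mp hζ)
  obtain ⟨u', hu'def⟩ : ∃ u', u' = α * u * α⁻¹ := ⟨_, rfl⟩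
  have hu'A : u' ∈ F.autGroup Q := by
    rw [hu'def]
    exact (F.autGroup Q).mul_mem ((F.autGroup Q).mul_mem hαA huA) hαiA
  have hu'app : ∀ x, u' x = α (u (α⁻¹ x)) := fun x => by rw [hu'def]; rfl
  have hu'cm : ∀ x : Q, x⁻¹ * u' x = α ((α⁻¹ x)⁻¹ * u (α⁻¹ x)) := by
    intro x
    rw [hu'app, map_mul, map_inv, MulAut.apply_inv_self]
  have hu'fix : ∀ x : Q, x ∈ Zq → u' (α x) = α x := by
    intro x hx
    rw [hu'app, MulAut.inv_apply_self, hu3 x hx]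
  have hMα : ∀ x : Q, x ∈ M → α x ∈ M := fun x hx => (h.hM α hαA x).mpr hx
  have hMαi : ∀ x : Q, x ∈ M → α⁻¹ x ∈ M := fun x hx => (h.hM α⁻¹ hαiA x).mpr hx
  have hZM : Zq ≤ M := h.Zq_le_M
  have hzZq : z ∈ Zq := Subgroup.mem_subgroupOf.mpr hz
  -- `z₁`
  obtain ⟨z₁, hz₁def⟩ : ∃ z₁, z₁ = (α z)⁻¹ * u (α z) := ⟨_, rfl⟩
  have hz₁Z : z₁ ∈ Zq := hz₁def ▸ hu2 _ (hMα z (hZM hzZq))
  have hz₁1 : z₁ ≠ 1 := by
    intro h1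
    rw [hz₁def, inv_mul_eq_one] at h1
    exact hnofix α hαA hα z hz hz1 h1.symm
  have hz₁Z' : (z₁ : Ω) ∈ Z := Subgroup.mem_subgroupOf.mp hz₁Z
  -- `ζ₂` and `z₂`
  obtain ⟨ζ₂, hζ₂def⟩ : ∃ ζ₂, ζ₂ = (α⁻¹ z₁)⁻¹ * u (α⁻¹ z₁) := ⟨_, rfl⟩
  have hζ₂Z : ζ₂ ∈ Zq := hζ₂def ▸ hu2 _ (hMαi z₁ (hZM hz₁Z))
  have hζ₂1 : ζ₂ ≠ 1 := by
    intro h1
    rw [hζ₂def, inv_mul_eq_one] at h1
    exact hnofix α⁻¹ hαiA hαi z₁ hz₁Z' hz₁1 h1.symm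
  have hζ₂Z' : (ζ₂ : Ω) ∈ Z := Subgroup.mem_subgroupOf.mp hζ₂Z
  obtain ⟨z₂, hz₂def⟩ : ∃ z₂, z₂ = α ζ₂ := ⟨_, rfl⟩
  have hu'z₁ : u' z₁ = z₁ * z₂ := by
    have h1 := hu'cm z₁
    rw [← hζ₂def, ← hz₂def] at h1
    rw [← h1, mul_inv_cancel_left]
  have hu'z₂ : u' z₂ = z₂ := by rw [hz₂def]; exact hu'fix ζ₂ hζ₂Z
  have hz₂M : z₂ ∈ M := hz₂def ▸ hMα ζ₂ (hZM hζ₂Z)
  -- `y₁`
  obtain ⟨y₁, hy₁def⟩ : ∃ y₁, y₁ = z₂⁻¹ * u z₂ := ⟨_, rfl⟩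
  have hy₁Z : y₁ ∈ Zq := hy₁def ▸ hu2 z₂ hz₂M
  have hy₁1 : y₁ ≠ 1 := by
    intro h1
    rw [hy₁def, inv_mul_eq_one] at h1
    apply hnofix α hαA hα ζ₂ hζ₂Z' hζ₂1
    rw [← hz₂def]
    exact h1.symm
  have huz₂ : u z₂ = z₂ * y₁ := by rw [hy₁def, mul_inv_cancel_left]
  obtain ⟨l, hl⟩ := h.gen' (Subgroup.mem_subgroupOf.mp hy₁Z) hy₁1 hz₁Z'
  -- the normalized pair
  have H1 : u z₁ = z₁ := hu3 z₁ hz₁Z
  have hcy : Commute z₂ y₁ := hcen y₁ hy₁Z z₂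
  have H2 : u (z₂ ^ l) = z₂ ^ l * z₁ := by
    rw [map_pow, huz₂, hcy.mul_pow, ← hl]
  have H3 : (u' ^ l) z₁ = z₁ * z₂ ^ l := by
    have hfix : u' (z₁⁻¹ * u' z₁) = z₁⁻¹ * u' z₁ := by
      rw [hu'z₁, inv_mul_cancel_left, hu'z₂]
    have h1 := pow_apply_of_fix u' z₁ hfix l
    rw [hu'z₁, inv_mul_cancel_left] at h1
    exact h1
  have H4 : (u' ^ l) (z₂ ^ l) = z₂ ^ l := by rw [map_pow, pow_fix hu'z₂]
  have H5 : z₁ * z₂ ^ l = z₂ ^ l * z₁ := (hcen z₁ hz₁Z (z₂ ^ l)).symm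
  obtain ⟨ht1, ht2⟩ := inverting_word H1 H2 H3 H4 H5
  obtain ⟨t, htdef⟩ : ∃ t, t = (u⁻¹ * u' ^ l * u⁻¹) * (u⁻¹ * u' ^ l * u⁻¹) := ⟨_, rfl⟩
  rw [← htdef] at ht1 ht2
  have huC : u ∈ Csub M (F.autGroup Q) := ⟨huA, hu1⟩
  have hu'C : u' ∈ Csub M (F.autGroup Q) := hu'def ▸ Csub_conj h.hM hαA huC
  have htC : t ∈ Csub M (F.autGroup Q) := by
    have hw : u⁻¹ * u' ^ l * u⁻¹ ∈ Csub M (F.autGroup Q) :=
      Subgroup.mul_mem _ (Subgroup.mul_mem _ (Subgroup.inv_mem _ huC) (Subgroup.pow_mem _ hu'C l))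
        (Subgroup.inv_mem _ huC)
    rw [htdef]
    exact Subgroup.mul_mem _ hw hw
  have htA : t ∈ F.autGroup Q := htC.1
  have hfixt : ∀ x : Q, u x = x → u' x = x → t x = x := by
    intro x hx hx'
    have hxi : u⁻¹ x = x := inv_apply_of_apply' hx
    have hxU : (u' ^ l) x = x := pow_fix hx' l
    rw [htdef]
    simp only [MulAut.mul_apply, hxi, hxU]
  have hτfix : ∀ x : Q, u x = x → u' x = x → (t * u * t⁻¹ * u⁻¹) x = x := by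
    intro x hx hx'
    have hxi : u⁻¹ x = x := inv_apply_of_apply' hx
    have hxt : t x = x := hfixt x hx hx'
    have hxti : t⁻¹ x = x := inv_apply_of_apply' hxt
    simp only [MulAut.mul_apply, hxi, hxti, hx, hxt]
  obtain ⟨hτ1, hτ2⟩ := comm_fix H1 H2 ht1 ht2 H5
  have hτC : t * u * t⁻¹ * u⁻¹ ∈ Csub M (F.autGroup Q) :=
    Subgroup.mul_mem _ (Subgroup.mul_mem _ (Subgroup.mul_mem _ htC huC) (Subgroup.inv_mem _ htC))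
      (Subgroup.inv_mem _ huC)
  have hτM : ∀ m : Q, m ∈ M → (t * u * t⁻¹ * u⁻¹) m = m := by
    intro m hm
    obtain ⟨b, hb⟩ := h.gen' hz₁Z' hz₁1 (Subgroup.mem_subgroupOf.mp (hu2 m hm))
    obtain ⟨m₁, hm₁def⟩ : ∃ m₁, m₁ = m * ((z₂ ^ l) ^ b)⁻¹ := ⟨_, rfl⟩
    have hm₁M : m₁ ∈ M := by
      rw [hm₁def]
      exact M.mul_mem hm (M.inv_mem (M.pow_mem (M.pow_mem hz₂M l) b))
    have hum₁ : u m₁ = m₁ := by
      have hc1 : Commute (z₂ ^ l) z₁ := hcen z₁ hz₁Z (z₂ ^ l)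
      have hum : u m = m * z₁ ^ b := by rw [← hb, mul_inv_cancel_left]
      rw [hm₁def, map_mul, map_inv, map_pow, H2, hc1.mul_pow, hum, mul_inv_rev, mul_assoc,
        mul_inv_cancel_left]
    have hζ₀Z : (α⁻¹ m₁)⁻¹ * u (α⁻¹ m₁) ∈ Zq := hu2 _ (hMαi m₁ hm₁M)
    obtain ⟨a, ha⟩ := h.gen' hζ₂Z' hζ₂1 (Subgroup.mem_subgroupOf.mp hζ₀Z)
    have hu'm₁ : u' m₁ = m₁ * z₂ ^ a := by
      have h1 := hu'cm m₁
      rw [ha, map_pow, ← hz₂def] at h1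
      rw [← h1, mul_inv_cancel_left]
    obtain ⟨m₀, hm₀def⟩ : ∃ m₀, m₀ = m₁ * (z₁ ^ a)⁻¹ := ⟨_, rfl⟩
    have hu'm₀ : u' m₀ = m₀ := by
      have hc2 : Commute z₁ z₂ := (hcen z₁ hz₁Z z₂).symm
      rw [hm₀def, map_mul, map_inv, map_pow, hu'z₁, hu'm₁, hc2.mul_pow, mul_inv_rev, mul_assoc,
        mul_inv_cancel_left]
    have hum₀ : u m₀ = m₀ := by rw [hm₀def, map_mul, map_inv, map_pow, H1, hum₁]
    have hmeq : m = m₀ * z₁ ^ a * (z₂ ^ l) ^ b := by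
      rw [hm₀def, hm₁def]
      group
    rw [hmeq, map_mul, map_mul, map_pow, map_pow, hτ1, hτ2, hτfix m₀ hum₀ hu'm₀]
  have hτInn : t * u * t⁻¹ * u⁻¹ ∈ Inn Q := by
    refine h.mem_inn_of_chainStab (chain4_anti bot_le bot_le) (chain4_zero _ _ _)
      (chain4_four _ _ _) (c := chain4 M ⊥ ⊥) ?_ hτC.1 ?_
    · intro a ha
      apply chain4_inv
      · intro x hx
        exact (h.hM a ha x).mpr hx
      · intro x hx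
        rw [Subgroup.mem_bot] at hx ⊢
        rw [hx, map_one]
      · intro x hx
        rw [Subgroup.mem_bot] at hx ⊢
        rw [hx, map_one]
    · apply chainStab_chain4 hτC.2
      · intro x hx
        rw [hτM x hx, inv_mul_cancel]
        exact Subgroup.one_mem _
      · intro x hx
        rw [Subgroup.mem_bot] at hx
        rw [hx, map_one, inv_one, one_mul]
        exact Subgroup.one_mem _
      · intro x hx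
        rw [Subgroup.mem_bot] at hx
        rw [hx, map_one]
  rw [hudef] at hτInn
  have hdpZ : d ^ p ∈ Z := h.hpow d hdP
  have hdpQ : d ^ p ∈ Q := h.Z_le_Q hα hdpZ
  obtain ⟨q₁, hq₁P, hq₁Q, hq₁⟩ :=
    exists_extension_data F h.hP h.hc h.hrec hdP hdN htA hτInn p hdpQ
  refine ⟨q₁, hq₁P, hq₁Q, ?_⟩
  rw [← hq₁]
  obtain ⟨k, hk⟩ := h.gen' hz₁Z' hz₁1 (v := (⟨d ^ p, hdpQ⟩ : Q)) hdpZ
  rw [hk, map_pow, ht1, inv_pow, ← hk]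
  rfl

end Setup

end Cfsg.Agent.Lead.Gex
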