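import Mathlib

set_option autoImplicit false

/-!
Structure of a group `G = M ⟨x⟩` with `M` elementary abelian, commutators in a central subgroup
`Z` of prime order: `G = E × A` with `E = ⟨x, z'⟩` and `A` a complement of `Z` in the centre.
-/

namespace Cfsg.Agent.Lead.Gex

variable {G : Type*} [Group G]

/-- An element of prime order outside a subgroup generates a subgroup meeting it trivially. -/
theorem zpowers_inf_eq_bot {p : ℕ} [hp : Fact p.Prime] {g : G} {K : Subgroup G}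
    (hg : g ^ p = 1) (hgK : g ∉ K) : Subgroup.zpowers g ⊓ K = ⊥ := by
  have hg1 : g ≠ 1 := fun h => hgK (h ▸ K.one_mem)
  have hcard : Nat.card (Subgroup.zpowers g) = p := by
    rw [Nat.card_zpowers]
    exact orderOf_eq_prime hg hg1
  rw [Subgroup.eq_bot_iff_forall]
  intro y hy
  obtain ⟨hy1, hy2⟩ := Subgroup.mem_inf.mp hy
  by_contra hne
  have hy' : (⟨y, hy1⟩ : Subgroup.zpowers g) ≠ 1 := fun h => hne (congrArg Subtype.val h)
  have htop := zpowers_eq_top_of_prime_card hcard hy'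
  have hmem : (⟨g, Subgroup.mem_zpowers g⟩ : Subgroup.zpowers g) ∈
      Subgroup.zpowers (⟨y, hy1⟩ : Subgroup.zpowers g) := by
    rw [htop]; exact Subgroup.mem_top _
  obtain ⟨k, hk⟩ := Subgroup.mem_zpowers_iff.mp hmem
  have hk' : y ^ k = g := by
    have := congrArg Subtype.val hk
    simpa using this
  exact hgK (hk' ▸ K.zpow_mem hy2 k)

/-- In a finite abelian group of exponent `p`, every subgroup has a complement. -/
theorem exists_compl_comm {H : Type*} [CommGroup H] [Finite H] {p : ℕ} [hp : Fact p.Prime]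
    (hexp : ∀ a : H, a ^ p = 1) (Z₀ : Subgroup H) :
    ∃ A₀ : Subgroup H, A₀ ⊓ Z₀ = ⊥ ∧ A₀ ⊔ Z₀ = ⊤ := by
  have hfin : {A : Subgroup H | A ⊓ Z₀ = ⊥}.Finite := Set.toFinite _
  obtain ⟨A₀, hA₀⟩ := hfin.exists_maximal ⟨⊥, by simp⟩
  refine ⟨A₀, hA₀.prop, ?_⟩
  rw [eq_top_iff]
  intro h _
  by_contra hh
  have hmem : A₀ ⊔ Subgroup.zpowers h ∈ {A : Subgroup H | A ⊓ Z₀ = ⊥} := by
    show (A₀ ⊔ Subgroup.zpowers h) ⊓ Z₀ = ⊥
    rw [Subgroup.eq_bot_iff_forall]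
    intro y hy
    obtain ⟨hy1, hy2⟩ := Subgroup.mem_inf.mp hy
    obtain ⟨a, ha, b, hb, rfl⟩ := Subgroup.mem_sup.mp hy1
    by_cases hb1 : b = 1
    · rw [hb1, mul_one] at hy2 ⊢
      have : a ∈ A₀ ⊓ Z₀ := Subgroup.mem_inf.mpr ⟨ha, hy2⟩
      rw [hA₀.prop, Subgroup.mem_bot] at this
      exact this
    · exfalso
      apply hh
      have hbmem : b ∈ A₀ ⊔ Z₀ := by
        have h1 : b = a⁻¹ * (a * b) := by group
        rw [h1]
        exact Subgroup.mul_mem _ (Subgroup.mem_sup_left (A₀.inv_mem ha)) (Subgroup.mem_sup_right hy2)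
      by_contra hcon
      have h2 := zpowers_inf_eq_bot (p := p) (hexp h) (K := A₀ ⊔ Z₀) hcon
      have h3 : b ∈ Subgroup.zpowers h ⊓ (A₀ ⊔ Z₀) := Subgroup.mem_inf.mpr ⟨hb, hbmem⟩
      rw [h2, Subgroup.mem_bot] at h3
      exact hb1 h3
  have hle := hA₀.le_of_ge hmem le_sup_left
  exact hh (Subgroup.mem_sup_left (hle (Subgroup.mem_sup_right (Subgroup.mem_zpowers h))))

/-- The structural data. -/
structure SData (p : ℕ) (Z M : Subgroup G) (x z' : G) : Prop where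
  hZcard : Nat.card Z = p
  hZc : ∀ g : G, ∀ z ∈ Z, g * z = z * g
  hcomm : ∀ a b : G, a * b * a⁻¹ * b⁻¹ ∈ Z
  hMab : ∀ a ∈ M, ∀ b ∈ M, a * b = b * a
  hMexp : ∀ a ∈ M, a ^ p = 1
  hZM : Z ≤ M
  hz' : z' ∈ M
  hC : ∀ c : G, c * z' = z' * c → c ∈ M
  hx : x ∉ M
  hxp : x ^ p = 1

namespace SData

variable {p : ℕ} {Z M : Subgroup G} {x z' : G}

/-- `g ↦ [g, z']` as a homomorphism to `Z`. -/
def cHom (h : SData p Z M x z') : G →* Z where
  toFun g := ⟨g * z' * g⁻¹ * z'⁻¹, h.hcomm g z'⟩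
  map_one' := by apply Subtype.ext; simp
  map_mul' a b := by
    apply Subtype.ext
    have h1 := h.hZc a _ (h.hcomm b z')
    show a * b * z' * (a * b)⁻¹ * z'⁻¹ = (a * z' * a⁻¹ * z'⁻¹) * (b * z' * b⁻¹ * z'⁻¹)
    have h2 := h.hZc (a * z' * a⁻¹ * z'⁻¹) _ (h.hcomm b z')
    rw [h2]
    calc a * b * z' * (a * b)⁻¹ * z'⁻¹
        = a * (b * z' * b⁻¹ * z'⁻¹) * (z' * a⁻¹ * z'⁻¹) := by group
      _ = (b * z' * b⁻¹ * z'⁻¹) * a * (z' * a⁻¹ * z'⁻¹) := by rw [h1]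
      _ = _ := by group

theorem cHom_apply (h : SData p Z M x z') (g : G) :
    ((h.cHom g : Z) : G) = g * z' * g⁻¹ * z'⁻¹ := rfl

/-- `g ↦ [x, g]` as a homomorphism to `Z`. -/
def dHom (h : SData p Z M x z') : G →* Z where
  toFun g := ⟨x * g * x⁻¹ * g⁻¹, h.hcomm x g⟩
  map_one' := by apply Subtype.ext; simp
  map_mul' a b := by
    apply Subtype.ext
    have h1 := h.hZc a _ (h.hcomm x b)
    show x * (a * b) * x⁻¹ * (a * b)⁻¹ = (x * a * x⁻¹ * a⁻¹) * (x * b * x⁻¹ * b⁻¹)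
    calc x * (a * b) * x⁻¹ * (a * b)⁻¹
        = (x * a * x⁻¹) * (x * b * x⁻¹ * b⁻¹) * a⁻¹ := by group
      _ = (x * a * x⁻¹) * (a⁻¹ * (a * (x * b * x⁻¹ * b⁻¹))) * a⁻¹ := by group
      _ = (x * a * x⁻¹) * (a⁻¹ * ((x * b * x⁻¹ * b⁻¹) * a)) * a⁻¹ := by rw [h1]
      _ = _ := by group

theorem dHom_apply (h : SData p Z M x z') (g : G) :
    ((h.dHom g : Z) : G) = x * g * x⁻¹ * g⁻¹ := rfl

theorem cHom_eq_one_iff (h : SData p Z M x z') (g : G) : h.cHom g = 1 ↔ g * z' = z' * g := by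
  rw [← Subtype.coe_inj, cHom_apply, Subgroup.coe_one]
  constructor
  · intro h1
    calc g * z' = (g * z' * g⁻¹ * z'⁻¹) * (z' * g) := by group
      _ = z' * g := by rw [h1, one_mul]
  · intro h1
    calc g * z' * g⁻¹ * z'⁻¹ = (g * z') * g⁻¹ * z'⁻¹ := by group
      _ = (z' * g) * g⁻¹ * z'⁻¹ := by rw [h1]
      _ = 1 := by group

theorem dHom_eq_one_iff (h : SData p Z M x z') (g : G) : h.dHom g = 1 ↔ x * g = g * x := by
  rw [← Subtype.coe_inj, dHom_apply, Subgroup.coe_one]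
  constructor
  · intro h1
    calc x * g = (x * g * x⁻¹ * g⁻¹) * (g * x) := by group
      _ = g * x := by rw [h1, one_mul]
  · intro h1
    calc x * g * x⁻¹ * g⁻¹ = (x * g) * x⁻¹ * g⁻¹ := by group
      _ = (g * x) * x⁻¹ * g⁻¹ := by rw [h1]
      _ = 1 := by group

theorem cHom_x_ne_one (h : SData p Z M x z') : h.cHom x ≠ 1 := by
  intro h1
  exact h.hx (h.hC x ((h.cHom_eq_one_iff x).mp h1))

theorem dHom_z' (h : SData p Z M x z') : h.dHom z' = h.cHom x := Subtype.ext rfl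

theorem exists_pow_eq [hp : Fact p.Prime] (h : SData p Z M x z') (v : Z) :
    ∃ k : ℕ, (h.cHom x) ^ k = v := by
  have htop := zpowers_eq_top_of_prime_card h.hZcard h.cHom_x_ne_one
  have hv : v ∈ Subgroup.zpowers (h.cHom x) := by rw [htop]; exact Subgroup.mem_top v
  haveI : Finite Z := Nat.finite_of_card_ne_zero (by rw [h.hZcard]; exact hp.out.ne_zero)
  obtain ⟨k, hk⟩ := mem_powers_iff_mem_zpowers.mpr hv
  exact ⟨k, hk⟩

theorem mem_M_of_comm (h : SData p Z M x z') {g : G} (hg : g * z' = z' * g) : g ∈ M := h.hC g hg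

/-- Every element is `m * x ^ i` with `m ∈ M`. -/
theorem exists_M_decomp [hp : Fact p.Prime] (h : SData p Z M x z') (g : G) :
    ∃ i : ℕ, g * (x ^ i)⁻¹ ∈ M := by
  obtain ⟨i, hi⟩ := h.exists_pow_eq (h.cHom g)
  refine ⟨i, h.hC _ ((h.cHom_eq_one_iff _).mp ?_)⟩
  rw [map_mul, map_inv, map_pow, hi, mul_inv_cancel]

theorem center_le_M (h : SData p Z M x z') : Subgroup.center G ≤ M := by
  intro c hc
  exact h.hC c (Subgroup.mem_center_iff.mp hc z').symm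

theorem Z_le_center (h : SData p Z M x z') : Z ≤ Subgroup.center G := by
  intro z hz
  rw [Subgroup.mem_center_iff]
  intro g
  exact h.hZc g z hz

theorem mem_center_of [hp : Fact p.Prime] (h : SData p Z M x z') {c : G} (hcM : c ∈ M)
    (hcx : x * c = c * x) : c ∈ Subgroup.center G := by
  rw [Subgroup.mem_center_iff]
  intro g
  obtain ⟨i, hi⟩ := h.exists_M_decomp g
  have h1 : g = (g * (x ^ i)⁻¹) * x ^ i := by group
  have h2 : (g * (x ^ i)⁻¹) * c = c * (g * (x ^ i)⁻¹) := h.hMab _ hi _ hcM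
  have h3 : x ^ i * c = c * x ^ i := by
    have : Commute x c := hcx
    exact (this.pow_left i).eq
  rw [h1, mul_assoc, h3, ← mul_assoc, h2, mul_assoc]

/-- Every element is `c * z' ^ j * x ^ i` with `c` central. -/
theorem exists_decomp [hp : Fact p.Prime] (h : SData p Z M x z') (g : G) :
    ∃ i j : ℕ, ∃ c ∈ Subgroup.center G, g = c * z' ^ j * x ^ i := by
  obtain ⟨i, hi⟩ := h.exists_M_decomp g
  obtain ⟨j, hj⟩ := h.exists_pow_eq (h.dHom (g * (x ^ i)⁻¹))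
  have hzj : z' ^ j ∈ M := M.pow_mem h.hz' j
  have hcM : g * (x ^ i)⁻¹ * (z' ^ j)⁻¹ ∈ M := M.mul_mem hi (M.inv_mem hzj)
  have hcx : h.dHom (g * (x ^ i)⁻¹ * (z' ^ j)⁻¹) = 1 := by
    rw [map_mul (h.dHom) (g * (x ^ i)⁻¹), map_inv, map_pow, h.dHom_z', hj, mul_inv_cancel]
  refine ⟨i, j, g * (x ^ i)⁻¹ * (z' ^ j)⁻¹,
    h.mem_center_of hcM ((h.dHom_eq_one_iff _).mp hcx), ?_⟩
  group

end SData

end Cfsg.Agent.Lead.Gex
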