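import Mathlib
import Cfsg.Agent.Lead.GexS

set_option autoImplicit false

/-!
The decomposition `G = E × A`.
-/

namespace Cfsg.Agent.Lead.Gex

variable {G : Type*} [Group G]

namespace SData

variable {p : ℕ} {Z M : Subgroup G} {x z' : G}

theorem Z_normal (h : SData p Z M x z') : Z.Normal := by
  constructor
  intro z hz g
  rw [h.hZc g z hz, mul_assoc, mul_inv_cancel, mul_one]
  exact hz

/-- `V = ⟨z'⟩ Z`. -/
def V (_h : SData p Z M x z') : Subgroup G := Subgroup.zpowers z' ⊔ Z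

/-- `E = ⟨x⟩ V`. -/
def E (h : SData p Z M x z') : Subgroup G := Subgroup.zpowers x ⊔ h.V

theorem Z_le_V (h : SData p Z M x z') : Z ≤ h.V := le_sup_right

theorem V_le_M (h : SData p Z M x z') : h.V ≤ M := by
  apply sup_le _ h.hZM
  rw [Subgroup.zpowers_le]
  exact h.hz'

theorem V_normal (h : SData p Z M x z') : h.V.Normal := by
  constructor
  intro v hv g
  have h1 : g * v * g⁻¹ = (g * v * g⁻¹ * v⁻¹) * v := by group
  rw [h1]
  exact h.V.mul_mem (h.Z_le_V (h.hcomm g v)) hv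

theorem mem_V (h : SData p Z M x z') {v : G} :
    v ∈ h.V ↔ ∃ b ∈ Subgroup.zpowers z', ∃ z ∈ Z, b * z = v := by
  have := h.Z_normal
  exact Subgroup.mem_sup_of_normal_right

theorem mem_E (h : SData p Z M x z') {e : G} :
    e ∈ h.E ↔ ∃ a ∈ Subgroup.zpowers x, ∃ v ∈ h.V, a * v = e := by
  have := h.V_normal
  exact Subgroup.mem_sup_of_normal_right

theorem x_mem_E (h : SData p Z M x z') : x ∈ h.E :=
  Subgroup.mem_sup_left (Subgroup.mem_zpowers x)

theorem z'_mem_E (h : SData p Z M x z') : z' ∈ h.E :=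
  Subgroup.mem_sup_right (Subgroup.mem_sup_left (Subgroup.mem_zpowers z'))

theorem Z_le_E (h : SData p Z M x z') : Z ≤ h.E := h.Z_le_V.trans le_sup_right

theorem z'_pow (h : SData p Z M x z') : z' ^ p = 1 := h.hMexp z' h.hz'

theorem z'_not_comm (h : SData p Z M x z') : ¬ x * z' = z' * x := fun h1 => h.hx (h.hC x h1)

/-- The centre of `E`, and the intersection of `E` with the centre of `G`, is `Z`. -/
theorem mem_Z_of_mem_E [hp : Fact p.Prime] (h : SData p Z M x z') {e : G} (he : e ∈ h.E)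
    (hez : e * z' = z' * e) (hex : x * e = e * x) : e ∈ Z := by
  obtain ⟨a, ha, v, hv, rfl⟩ := h.mem_E.mp he
  have hvM : v ∈ M := h.V_le_M hv
  have haM : a ∈ M := by
    have h1 : a = (a * v) * v⁻¹ := by group
    rw [h1]
    exact M.mul_mem (h.hC _ hez) (M.inv_mem hvM)
  have ha1 : a = 1 := by
    have h2 := zpowers_inf_eq_bot (p := p) h.hxp h.hx
    have h3 : a ∈ Subgroup.zpowers x ⊓ M := Subgroup.mem_inf.mpr ⟨ha, haM⟩
    rw [h2, Subgroup.mem_bot] at h3
    exact h3
  rw [ha1, one_mul] at hex ⊢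
  obtain ⟨b, hb, z, hz, rfl⟩ := h.mem_V.mp hv
  have hbx : x * b = b * x := by
    have h4 := h.hZc x z hz
    have h5 : x * b = (x * (b * z)) * z⁻¹ := by group
    rw [h5, hex, mul_assoc b z x, ← h4]
    group
  have hb1 : b = 1 := by
    have hz'K : z' ∉ Subgroup.centralizer ({x} : Set G) := by
      intro hmem
      rw [Subgroup.mem_centralizer_singleton_iff] at hmem
      exact h.z'_not_comm hmem.symm
    have h2 := zpowers_inf_eq_bot (p := p) h.z'_pow hz'K
    have h3 : b ∈ Subgroup.zpowers z' ⊓ Subgroup.centralizer ({x} : Set G) := by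
      refine Subgroup.mem_inf.mpr ⟨hb, ?_⟩
      rw [Subgroup.mem_centralizer_singleton_iff]
      exact hbx.symm
    rw [h2, Subgroup.mem_bot] at h3
    exact h3
  rw [hb1, one_mul]
  exact hz

theorem E_inf [hp : Fact p.Prime] (h : SData p Z M x z') {A : Subgroup G}
    (hA : A ≤ Subgroup.center G) (hAZ : A ⊓ Z = ⊥) : h.E ⊓ A = ⊥ := by
  rw [Subgroup.eq_bot_iff_forall]
  intro e he
  obtain ⟨he1, he2⟩ := Subgroup.mem_inf.mp he
  have hc := Subgroup.mem_center_iff.mp (hA he2)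
  have hz := h.mem_Z_of_mem_E he1 (hc z').symm (hc x)
  have : e ∈ A ⊓ Z := Subgroup.mem_inf.mpr ⟨he2, hz⟩
  rw [hAZ, Subgroup.mem_bot] at this
  exact this

theorem E_sup [hp : Fact p.Prime] (h : SData p Z M x z') {A : Subgroup G}
    (hAZ : Subgroup.center G ≤ A ⊔ Z) : h.E ⊔ A = ⊤ := by
  rw [eq_top_iff]
  intro g _
  obtain ⟨i, j, c, hc, rfl⟩ := h.exists_decomp g
  have h1 : A ⊔ Z ≤ h.E ⊔ A := sup_le le_sup_right (h.Z_le_E.trans le_sup_left)
  exact Subgroup.mul_mem _ (Subgroup.mul_mem _ (h1 (hAZ hc))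
    (Subgroup.mem_sup_left (Subgroup.pow_mem _ h.z'_mem_E j)))
    (Subgroup.mem_sup_left (Subgroup.pow_mem _ h.x_mem_E i))

/-- The complement `A` of `Z` in the centre. -/
theorem exists_A [Finite G] [hp : Fact p.Prime] (h : SData p Z M x z') :
    ∃ A : Subgroup G, A ≤ Subgroup.center G ∧ A ⊓ Z = ⊥ ∧ Subgroup.center G ≤ A ⊔ Z := by
  letI : CommGroup (Subgroup.center G) :=
    { (Subgroup.center G).toGroup with
      mul_comm := fun a b => Subtype.ext (Subgroup.mem_center_iff.mp a.2 b.1).symm }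
  have hexp : ∀ a : Subgroup.center G, a ^ p = 1 := by
    intro a
    apply Subtype.ext
    rw [Subgroup.coe_pow, Subgroup.coe_one]
    exact h.hMexp _ (h.center_le_M a.2)
  obtain ⟨A₀, hA1, hA2⟩ := exists_compl_comm (H := Subgroup.center G) hexp
    (Z.subgroupOf (Subgroup.center G))
  refine ⟨A₀.map (Subgroup.center G).subtype, ?_, ?_, ?_⟩
  · rintro _ ⟨a, _, rfl⟩
    exact a.2
  · rw [Subgroup.eq_bot_iff_forall]
    rintro _ hy
    obtain ⟨⟨a, ha, rfl⟩, hy2⟩ := Subgroup.mem_inf.mp hy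
    have h1 : a ∈ A₀ ⊓ Z.subgroupOf (Subgroup.center G) :=
      Subgroup.mem_inf.mpr ⟨ha, Subgroup.mem_subgroupOf.mpr hy2⟩
    rw [hA1, Subgroup.mem_bot] at h1
    rw [h1]
    rfl
  · intro c hc
    have h1 : (⟨c, hc⟩ : Subgroup.center G) ∈ A₀ ⊔ Z.subgroupOf (Subgroup.center G) := by
      rw [hA2]; exact Subgroup.mem_top _
    obtain ⟨a, ha, z, hz, haz⟩ := Subgroup.mem_sup.mp h1
    have h2 : c = (a : G) * (z : G) := by
      have := congrArg Subtype.val haz
      exact this.symm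
    rw [h2]
    exact Subgroup.mul_mem _ (Subgroup.mem_sup_left ⟨a, ha, rfl⟩)
      (Subgroup.mem_sup_right (Subgroup.mem_subgroupOf.mp hz))

/-- The isomorphism `E × A ≃* G`. -/
theorem exists_iso [hp : Fact p.Prime] (h : SData p Z M x z') {A : Subgroup G}
    (hA : A ≤ Subgroup.center G) (hAZ : A ⊓ Z = ⊥) (hAZ' : Subgroup.center G ≤ A ⊔ Z) :
    Nonempty (G ≃* h.E × A) := by
  have hcomm : ∀ (e : h.E) (a : A), Commute (h.E.subtype e) (A.subtype a) := by
    intro e a
    exact (Subgroup.mem_center_iff.mp (hA a.2) e.1)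
  set f := MonoidHom.noncommCoprod h.E.subtype A.subtype hcomm with hf
  have hinj : Function.Injective f := by
    rw [MonoidHom.noncommCoprod_injective]
    refine ⟨Subgroup.subtype_injective _, Subgroup.subtype_injective _, ?_⟩
    rw [Subgroup.range_subtype, Subgroup.range_subtype, disjoint_iff]
    exact h.E_inf hA hAZ
  have hsurj : Function.Surjective f := by
    rw [← MonoidHom.range_eq_top, MonoidHom.noncommCoprod_range, Subgroup.range_subtype,
      Subgroup.range_subtype]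
    exact h.E_sup hAZ'
  exact ⟨(MulEquiv.ofBijective f ⟨hinj, hsurj⟩).symm⟩

end SData

end Cfsg.Agent.Lead.Gex
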