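import Mathlib
import Cfsg.Prelude.Def_Transfer
import Cfsg.Agent.Lead.GexT
import Cfsg.Agent.Helper2.DihedralIso
import Cfsg.Agent.Helper3.Heis

set_option autoImplicit false

/-!
The two exceptional shapes: `D₈ × A` and `p^{1+2}_+ × A`.
-/

namespace Cfsg.Agent.Lead.Gex

open scoped commutatorElement

/-- A carrier type in the lowest universe. -/
def SmallCarrier (n : ℕ) : Type := Fin n

theorem exists_small_group (H : Type*) [Group H] [Finite H] :
    ∃ (H' : Type) (_ : Group H'), Nonempty (H ≃* H') := by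
  let e : SmallCarrier (Nat.card H) ≃ H := (Finite.equivFin H).symm
  letI : Group (SmallCarrier (Nat.card H)) := e.group
  exact ⟨SmallCarrier (Nat.card H), inferInstance, ⟨(e.mulEquiv).symm⟩⟩

theorem exists_small_commGroup (H : Type*) [CommGroup H] [Finite H] :
    ∃ (H' : Type) (_ : CommGroup H'), Nonempty (H ≃* H') := by
  let e : SmallCarrier (Nat.card H) ≃ H := (Finite.equivFin H).symm
  letI : CommGroup (SmallCarrier (Nat.card H)) := e.commGroup
  exact ⟨SmallCarrier (Nat.card H), inferInstance, ⟨(e.mulEquiv).symm⟩⟩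

variable {G : Type*} [Group G]

namespace SData

variable {p : ℕ} {Z M : Subgroup G} {x z' : G}

theorem E_eq_closure [hp : Fact p.Prime] (h : SData p Z M x z') :
    h.E = Subgroup.closure ({x, z'} : Set G) := by
  have hx : x ∈ Subgroup.closure ({x, z'} : Set G) :=
    Subgroup.subset_closure (Set.mem_insert _ _)
  have hz : z' ∈ Subgroup.closure ({x, z'} : Set G) :=
    Subgroup.subset_closure (Set.mem_insert_of_mem _ rfl)
  apply le_antisymm
  · apply sup_le
    · rw [Subgroup.zpowers_le]; exact hx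
    · apply sup_le
      · rw [Subgroup.zpowers_le]; exact hz
      · intro z hzZ
        obtain ⟨k, hk⟩ := h.exists_pow_eq ⟨z, hzZ⟩
        have h1 : z = (x * z' * x⁻¹ * z'⁻¹) ^ k := by
          have := congrArg Subtype.val hk
          rw [Subgroup.coe_pow, cHom_apply] at this
          exact this.symm
        rw [h1]
        exact Subgroup.pow_mem _ (Subgroup.mul_mem _ (Subgroup.mul_mem _ (Subgroup.mul_mem _ hx hz)
          (Subgroup.inv_mem _ hx)) (Subgroup.inv_mem _ hz)) k
  · rw [Subgroup.closure_le]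
    intro y hy
    rcases hy with rfl | rfl
    · exact h.x_mem_E
    · exact h.z'_mem_E

theorem exists_dihedral [Finite G] (h : SData 2 Z M x z') :
    ∃ (A : Type) (_ : CommGroup A), (∀ a : A, a ^ 2 = 1) ∧
      Nonempty (G ≃* DihedralGroup 4 × A) := by
  haveI : Fact (Nat.Prime 2) := ⟨Nat.prime_two⟩
  obtain ⟨A, hA, hAZ, hAZ'⟩ := h.exists_A
  obtain ⟨e₀⟩ := h.exists_iso hA hAZ hAZ'
  -- `E` is dihedral of order `8`
  have hxx : x * x = 1 := by rw [← pow_two]; exact h.hxp
  have hzz : z' * z' = 1 := by rw [← pow_two]; exact h.z'_pow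
  have hx1 : x ≠ 1 := fun h1 => h.hx (h1 ▸ M.one_mem)
  have hz1 : z' ≠ 1 := by
    intro h1
    apply h.z'_not_comm
    rw [h1, mul_one, one_mul]
  have hxi : x⁻¹ = x := inv_eq_of_mul_eq_one_right hxx
  have hzi : z'⁻¹ = z' := inv_eq_of_mul_eq_one_right hzz
  have hsq : (x * z') ^ 2 = x * z' * x⁻¹ * z'⁻¹ := by
    rw [pow_two, hxi, hzi]; group
  have hw1 : x * z' * x⁻¹ * z'⁻¹ ≠ 1 := by
    intro h1
    apply h.cHom_x_ne_one
    apply Subtype.ext
    rw [cHom_apply, Subgroup.coe_one]
    exact h1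
  have hw2 : (x * z' * x⁻¹ * z'⁻¹) ^ 2 = 1 := by
    have h1 : (h.cHom x) ^ Nat.card Z = 1 := pow_card_eq_one'
    rw [h.hZcard] at h1
    have := congrArg Subtype.val h1
    rw [Subgroup.coe_pow, cHom_apply] at this
    exact this
  have hord : orderOf (x * z') = 4 := by
    have h1 : ¬ (x * z') ^ 2 ^ 1 = 1 := by rw [pow_one, hsq]; exact hw1
    have h2 : (x * z') ^ 2 ^ (1 + 1) = 1 := by
      rw [pow_succ, pow_one, pow_mul, hsq]; exact hw2
    have := orderOf_eq_prime_pow h1 h2
    norm_num at this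
    exact this
  obtain ⟨e₁⟩ := Cfsg.Agent.Helper2.closure_pair_invol_equiv_dihedral hxx hzz hx1 hz1
  rw [hord] at e₁
  have e₂ : h.E ≃* DihedralGroup 4 := (MulEquiv.subgroupCongr h.E_eq_closure).trans e₁
  -- shrink `A`
  letI : CommGroup A :=
    { A.toGroup with
      mul_comm := fun a b => Subtype.ext (Subgroup.mem_center_iff.mp (hA a.2) b.1).symm }
  obtain ⟨A', iA', ⟨e₃⟩⟩ := exists_small_commGroup A
  refine ⟨A', iA', fun a => ?_, ⟨e₀.trans (MulEquiv.prodCongr e₂ e₃)⟩⟩
  obtain ⟨b, rfl⟩ := e₃.surjective a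
  rw [← map_pow]
  have hb : b ^ 2 = 1 := by
    apply Subtype.ext
    rw [Subgroup.coe_pow, Subgroup.coe_one]
    exact h.hMexp _ (h.center_le_M (hA b.2))
  rw [hb, map_one]

theorem exists_extra [Finite G] [hp : Fact p.Prime] (h : SData p Z M x z')
    (hexp : ∀ g : G, g ^ p = 1) :
    ∃ (E' : Type) (_ : Group E') (A' : Type) (_ : CommGroup A'), Cfsg.IsExtraspecial p E' ∧
      Nat.card E' = p ^ 3 ∧ Monoid.exponent E' = p ∧ (∀ a : A', a ^ p = 1) ∧
      Nonempty (G ≃* E' × A') := by
  obtain ⟨A, hA, hAZ, hAZ'⟩ := h.exists_A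
  obtain ⟨e₀⟩ := h.exists_iso hA hAZ hAZ'
  -- the centre of `E`
  have hcenter : ∀ e : h.E, e ∈ Subgroup.center h.E ↔ (e : G) ∈ Z := by
    intro e
    constructor
    · intro he
      have h1 := Subgroup.mem_center_iff.mp he
      have h2 := congrArg Subtype.val (h1 ⟨z', h.z'_mem_E⟩)
      have h3 := congrArg Subtype.val (h1 ⟨x, h.x_mem_E⟩)
      exact h.mem_Z_of_mem_E e.2 h2.symm h3
    · intro he
      rw [Subgroup.mem_center_iff]
      intro g
      apply Subtype.ext
      exact h.hZc g.1 e.1 he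
  have hmap : (Subgroup.center h.E).map h.E.subtype = Z := by
    ext y
    constructor
    · rintro ⟨e, he, rfl⟩
      exact (hcenter e).mp he
    · intro hy
      exact ⟨⟨y, h.Z_le_E hy⟩, (hcenter _).mpr hy, rfl⟩
  have hcc : Nat.card (Subgroup.center h.E) = p := by
    have h1 : Nat.card ((Subgroup.center h.E).map h.E.subtype) = Nat.card (Subgroup.center h.E) :=
      Subgroup.card_map_of_injective (Subgroup.subtype_injective _)
    rw [hmap] at h1
    rw [← h1]
    exact h.hZcard
  have hin : Cfsg.Agent.Helper3.Extra.InClass p h.E :=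
    { card_center := hcc
      comm_mem := fun a b => by
        rw [hcenter, commutatorElement_def]
        exact h.hcomm a.1 b.1
      pow_mem := fun a => by
        have h1 : a ^ p = 1 := by
          apply Subtype.ext
          rw [Subgroup.coe_pow, Subgroup.coe_one]
          exact hexp a.1
        rw [h1]
        exact Subgroup.one_mem _ }
  -- the order of `E`
  have hxy : ⁅(⟨z', h.z'_mem_E⟩ : h.E), (⟨x, h.x_mem_E⟩ : h.E)⁆ ≠ 1 := by
    intro h1
    rw [commutatorElement_eq_one_iff_mul_comm] at h1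
    have h2 := congrArg Subtype.val h1
    exact h.z'_not_comm h2.symm
  have hcent : Subgroup.centralizer ({(⟨x, h.x_mem_E⟩ : h.E), (⟨z', h.z'_mem_E⟩ : h.E)} : Set h.E)
      = Subgroup.center h.E := by
    apply le_antisymm
    · intro e he
      rw [Subgroup.mem_centralizer_iff] at he
      have h2 := congrArg Subtype.val (he ⟨z', h.z'_mem_E⟩ (by simp))
      have h3 := congrArg Subtype.val (he ⟨x, h.x_mem_E⟩ (by simp))
      exact (hcenter e).mpr (h.mem_Z_of_mem_E e.2 h2.symm h3)
    · exact Subgroup.center_le_centralizer _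
  have hcardE : Nat.card h.E = p ^ 3 := by
    rw [hin.card_eq _ _ hxy, hcent, hcc]
    ring
  -- shrink
  obtain ⟨E', iE', ⟨e₂⟩⟩ := exists_small_group h.E
  letI : CommGroup A :=
    { A.toGroup with
      mul_comm := fun a b => Subtype.ext (Subgroup.mem_center_iff.mp (hA a.2) b.1).symm }
  obtain ⟨A', iA', ⟨e₃⟩⟩ := exists_small_commGroup A
  have hin' : Cfsg.Agent.Helper3.Extra.InClass p E' := Cfsg.Agent.Helper3.Extra.InClass.of_mulEquiv e₂ hin
  have hcardE' : Nat.card E' = p ^ 3 := by
    rw [← hcardE]; exact (Nat.card_congr e₂.toEquiv).symm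
  haveI : Finite E' := Nat.finite_of_card_ne_zero (by rw [hcardE']; exact pow_ne_zero _ hp.out.ne_zero)
  have hlt : p < Nat.card E' := by
    rw [hcardE']
    calc p = p ^ 1 := (pow_one p).symm
      _ < p ^ 3 := Nat.pow_lt_pow_right hp.out.one_lt (by norm_num)
  refine ⟨E', iE', A', iA', hin'.isExtraspecial hlt, hcardE', ?_, fun a => ?_,
    ⟨e₀.trans (MulEquiv.prodCongr e₂ e₃)⟩⟩
  · have hdvd : Monoid.exponent E' ∣ p := by
      apply Monoid.exponent_dvd_of_forall_pow_eq_one
      intro g
      obtain ⟨b, rfl⟩ := e₂.surjective g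
      rw [← map_pow]
      have hb : b ^ p = 1 := by
        apply Subtype.ext
        rw [Subgroup.coe_pow, Subgroup.coe_one]
        exact hexp b.1
      rw [hb, map_one]
    rcases (Nat.dvd_prime hp.out).mp hdvd with h1 | h1
    · exfalso
      rw [Monoid.exp_eq_one_iff] at h1
      have : Nat.card E' = 1 := Nat.card_unique
      rw [hcardE'] at this
      have h2 : 1 < p ^ 3 := Nat.one_lt_pow (by norm_num) hp.out.one_lt
      omega
    · exact h1
  · obtain ⟨b, rfl⟩ := e₃.surjective a
    rw [← map_pow]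
    have hb : b ^ p = 1 := by
      apply Subtype.ext
      rw [Subgroup.coe_pow, Subgroup.coe_one]
      exact hexp b.1
    rw [hb, map_one]

end SData

end Cfsg.Agent.Lead.Gex
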