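import Mathlib
import Cfsg.Prelude.Def_Transfer
import Cfsg.Agent.Lead.GexG
import Cfsg.Agent.Lead.GexU
import Cfsg.Agent.Helper1.PGroup
import Cfsg.Agent.S0841

set_option autoImplicit false

/-!
A generalized extraspecial strongly closed subgroup, not of the two exceptional shapes, lies in every
fully normalized centric radical subgroup; hence it is normal in the system.
-/

namespace Cfsg.Agent.Lead.Gex

open Cfsg Cfsg.FusionSystem Cfsg.Agent.Lead Cfsg.Agent.Lead.Meta

open scoped commutatorElement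

variable {Ω : Type*} [Group Ω] {S : Subgroup Ω}

/-- A nontrivial normal subgroup of a finite `p`-group meets the centre nontrivially. -/
theorem normal_inf_center_ne_bot' {R : Type*} [Group R] [Finite R] {p : ℕ} [hp : Fact p.Prime]
    (hR : IsPGroup p R) (M : Subgroup R) [hM : M.Normal] (hMne : M ≠ ⊥) :
    ∃ b ∈ M, b ≠ 1 ∧ ∀ g : R, g * b = b * g := by
  have hR' : IsPGroup p (ConjAct R) := hR
  have hcard : p ∣ Nat.card M := by
    obtain ⟨k, hk⟩ := (hR.to_subgroup M).exists_card_eq
    have hk0 : k ≠ 0 := by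
      rintro rfl
      rw [pow_zero] at hk
      exact hMne (Subgroup.card_eq_one.1 hk)
    rw [hk]
    exact dvd_pow_self p hk0
  have h1 : (1 : M) ∈ MulAction.fixedPoints (ConjAct R) M := by
    intro g
    exact smul_one g
  obtain ⟨b, hb, hne⟩ := hR'.exists_fixed_point_of_prime_dvd_card_of_fixed_point M hcard h1
  refine ⟨(b : R), b.2, ?_, ?_⟩
  · intro h
    apply hne
    exact (Subtype.ext h).symm
  · intro g
    have h2 := hb (ConjAct.toConjAct g)
    have h3 := congrArg Subtype.val h2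
    rw [ConjAct.Subgroup.val_conj_smul, ConjAct.smul_def, ConjAct.ofConjAct_toConjAct] at h3
    calc g * b = g * b * g⁻¹ * g := by group
      _ = b * g := by rw [h3]

/-- The setup from the hypotheses of the theorem. -/
theorem setup_of [Finite S] (p : ℕ) [hp : Fact p.Prime] (hS : IsPGroup p S) (F : FusionSystem S)
    (hF : F.IsSaturated p) {P Q : Subgroup Ω} (hP : F.StronglyClosed P)
    (hge : frattini ↥P = commutator ↥P ∧ Nat.card ↥(commutator ↥P) = p)
    (hc : F.IsCentric Q) (hfn : F.IsFullyNormalized Q) (hr : F.IsRadical p Q) :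
    Setup p F P Q ((commutator ↥P).map P.subtype) := by
  have hPS := hP.1
  haveI : Finite P := Fusion.finite_of_le hPS
  have hPp : IsPGroup p P := hS.to_le hPS
  have hZcard : Nat.card ((commutator ↥P).map P.subtype) = p := by
    rw [Subgroup.card_map_of_injective P.subtype_injective]
    exact hge.2
  have hcomm : ∀ a ∈ P, ∀ b ∈ P, a * b * a⁻¹ * b⁻¹ ∈ (commutator ↥P).map P.subtype := by
    intro a ha b hb
    refine ⟨⁅(⟨a, ha⟩ : P), (⟨b, hb⟩ : P)⁆, ?_, rfl⟩
    rw [SetLike.mem_coe, commutator_def]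
    exact Subgroup.commutator_mem_commutator (Subgroup.mem_top _) (Subgroup.mem_top _)
  have hpow : ∀ a ∈ P, a ^ p ∈ (commutator ↥P).map P.subtype := by
    intro a ha
    refine ⟨(⟨a, ha⟩ : P) ^ p, ?_, rfl⟩
    rw [SetLike.mem_coe, ← hge.1]
    exact Cfsg.Agent.Helper1.IsPGroup.pow_mem_frattini hPp _
  -- `Z` is normalized by `S`
  have hSN : S ≤ Subgroup.normalizer (P : Set Ω) := by
    intro s hs
    apply mem_normalizer_of_conj_mem_of_finite
    intro y hy
    exact conj_mem_of_stronglyClosed F hP hs hy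
  haveI hchar : (commutator ↥P).Characteristic := by
    rw [commutator_def]
    infer_instance
  have hZconj : ∀ s ∈ S, ∀ z ∈ (commutator ↥P).map P.subtype,
      s * z * s⁻¹ ∈ (commutator ↥P).map P.subtype := by
    rintro s hs _ ⟨w, hw, rfl⟩
    have h1 := Subgroup.characteristic_iff_map_eq.mp hchar (conjAutHom P ⟨s, hSN hs⟩)
    refine ⟨conjAutHom P ⟨s, hSN hs⟩ w, ?_, rfl⟩
    rw [SetLike.mem_coe, ← h1]
    exact ⟨w, hw, rfl⟩
  set Z : Subgroup Ω := (commutator ↥P).map P.subtype with hZdef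
  have hZP : Z ≤ P := by
    rintro _ ⟨w, _, rfl⟩
    exact w.2
  have hZS : Z ≤ S := hZP.trans hPS
  haveI hZn : (Z.subgroupOf S).Normal := by
    constructor
    intro n hn g
    rw [Subgroup.mem_subgroupOf] at hn ⊢
    exact hZconj g.1 g.2 n.1 hn
  have hZne : Z.subgroupOf S ≠ ⊥ := by
    intro h1
    have h2 : Nat.card (Z.subgroupOf S) = 1 := by rw [h1]; exact Subgroup.card_bot
    have h3 : Nat.card (Z.subgroupOf S) = Nat.card Z :=
      Nat.card_congr (Subgroup.subgroupOfEquivOfLe hZS).toEquiv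
    rw [h3, hZcard] at h2
    exact hp.out.one_lt.ne' h2
  obtain ⟨b, hbZ, hb1, hbc⟩ := normal_inf_center_ne_bot' hS (Z.subgroupOf S) hZne
  rw [Subgroup.mem_subgroupOf] at hbZ
  have hb1' : (b : Ω) ≠ 1 := fun h1 => hb1 (Subtype.ext h1)
  have hZc : ∀ s ∈ S, ∀ z ∈ Z, s * z = z * s := by
    intro s hs z hz
    have hb' : (⟨(b : Ω), hbZ⟩ : Z) ≠ 1 := fun h1 => hb1' (congrArg Subtype.val h1)
    have htop := zpowers_eq_top_of_prime_card hZcard hb'
    have hz' : (⟨z, hz⟩ : Z) ∈ Subgroup.zpowers (⟨(b : Ω), hbZ⟩ : Z) := by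
      rw [htop]; exact Subgroup.mem_top _
    obtain ⟨k, hk⟩ := Subgroup.mem_zpowers_iff.mp hz'
    have hk' : (b : Ω) ^ k = z := by
      have := congrArg Subtype.val hk
      simpa using this
    have h1 : s * (b : Ω) = (b : Ω) * s := congrArg Subtype.val (hbc ⟨s, hs⟩)
    have h2 : Commute s (b : Ω) := h1
    rw [← hk']
    exact (h2.zpow_right k).eq
  exact
    { hS := hS
      hF := hF
      hP := hP
      hc := hc
      hfn := hfn
      hr := hr
      hZP := hZP
      hZcard := hZcard
      hcomm := hcomm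
      hpow := hpow
      hZc := hZc }

end Cfsg.Agent.Lead.Gex
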