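import Mathlib
import Cfsg.Prelude.Def_FusionSystem
import Cfsg.Agent.Lead.SimpleCrit
import Cfsg.Agent.Lead.GroupFusion

set_option autoImplicit false

namespace Cfsg.Agent.Lead.SimpCrit

open Cfsg Cfsg.FusionSystem Cfsg.Agent.Lead

/-- The simplicity criterion, generating form: `N_G(S)` is generated by elements lying in the
subgroups generated by the `p`-elements of `N_G(R)`, `R` fully normalized and centric. -/
theorem main' {G : Type*} [Group G] [Finite G] (p : ℕ) [Fact p.Prime] (S : Sylow p G)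
    (hS1 : (S : Subgroup G) ≠ ⊥)
    (ha : ∀ T : Subgroup G, (groupFusionSystem (S : Subgroup G)).StronglyClosed T →
      T = ⊥ ∨ T = (S : Subgroup G))
    (hb : Subgroup.normalizer ((S : Subgroup G) : Set G) ≤
      Subgroup.closure {m : G | m ∈ Subgroup.normalizer ((S : Subgroup G) : Set G) ∧
        ∃ R : Subgroup G, (groupFusionSystem (S : Subgroup G)).IsFullyNormalized R ∧
          (groupFusionSystem (S : Subgroup G)).IsCentric R ∧
          m ∈ Subgroup.closure {g : G | g ∈ Subgroup.normalizer (R : Set G) ∧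
            ∃ k : ℕ, orderOf g = p ^ k}}) :
    (groupFusionSystem (S : Subgroup G)).IsSimple p := by
  have hF : (groupFusionSystem (S : Subgroup G)).IsSaturated p := Cfsg.Agent.S5076.result p S
  have hS : IsPGroup p (S : Subgroup G) := S.isPGroup'
  refine ⟨hF, hS1, ?_⟩
  intro T E hE
  obtain ⟨⟨hEsat, -, hinv⟩, -⟩ := hE
  rcases ha T hinv.2.1 with hT | hT
  · exact Or.inl hT
  right
  subst hT
  refine ⟨rfl, ?_⟩
  set F := groupFusionSystem (S : Subgroup G) with hFdef
  have hle : E ≤ F := hinv.1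
  -- the subgroup of `N_G(S)` inducing elements of `Aut_E(S)`
  have hgen : Subgroup.closure {m : G | m ∈ Subgroup.normalizer ((S : Subgroup G) : Set G) ∧
        ∃ R : Subgroup G, F.IsFullyNormalized R ∧ F.IsCentric R ∧
          m ∈ Subgroup.closure {g : G | g ∈ Subgroup.normalizer (R : Set G) ∧
            ∃ k : ℕ, orderOf g = p ^ k}} ≤
      ((E.autGroup (S : Subgroup G)).comap (conjAutHom (S : Subgroup G))).map
        (Subgroup.normalizer ((S : Subgroup G) : Set G)).subtype := by
    rw [Subgroup.closure_le]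
    rintro m ⟨hmN, R, hRfn, hRc, hmK⟩
    refine ⟨⟨m, hmN⟩, ?_, rfl⟩
    rw [SetLike.mem_coe, Subgroup.mem_comap, Fusion.mem_autGroup_iff E le_rfl]
    have hRS : R ≤ (S : Subgroup G) := hRfn.1
    have hψ : (S : Subgroup G).subtype.comp (conjAutHom (S : Subgroup G) ⟨m, hmN⟩).toMonoidHom ∈
        F.Hom (S : Subgroup G) :=
      ⟨le_rfl, fun x => (conjAutHom (S : Subgroup G) ⟨m, hmN⟩ x).2, m, fun x => rfl⟩
    have hKle : Subgroup.closure {g : G | g ∈ Subgroup.normalizer (R : Set G) ∧
        ∃ k : ℕ, orderOf g = p ^ k} ≤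
        ((E.autGroup R).comap (conjAutHom R)).map (Subgroup.normalizer (R : Set G)).subtype := by
      rw [Subgroup.closure_le]
      rintro g' ⟨hg'N, k, hk⟩
      refine ⟨⟨g', hg'N⟩, ?_, rfl⟩
      rw [SetLike.mem_coe, Subgroup.mem_comap]
      apply pElement_mem p hS F hF E hinv hRfn _ _ k
      · rw [← map_pow]
        have : (⟨g', hg'N⟩ : Subgroup.normalizer (R : Set G)) ^ p ^ k = 1 := by
          apply Subtype.ext
          show g' ^ p ^ k = 1
          rw [← hk]; exact pow_orderOf_eq_one g'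
        rw [this, map_one]
      · rw [Fusion.mem_autGroup_iff F hRS]
        refine ⟨hRS, fun x => hRS (conjAutHom R ⟨g', hg'N⟩ x).2, g', fun x => rfl⟩
    obtain ⟨n, hn, hng⟩ := hKle hmK
    rw [SetLike.mem_coe, Subgroup.mem_comap, Fusion.mem_autGroup_iff E hRS] at hn
    apply Fusion.mem_of_restrict_centric_mem p hS F hF E hEsat hle (S : Subgroup G) _ hψ _ R hRS hRc
      _ rfl
    convert hn using 1
    ext x
    show m * x * m⁻¹ = n.1 * x * n.1⁻¹
    have : n.1 = m := hng
    rw [this]
  -- key: `Aut_F(S) ≤ Aut_E(S)`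
  have key : F.autGroup (S : Subgroup G) ≤ E.autGroup (S : Subgroup G) := by
    rw [hFdef, Cfsg.Agent.S5076.autGroup_groupFusionSystem (S : Subgroup G) (S : Subgroup G) le_rfl]
    unfold autInducedBy
    rw [Subgroup.closure_le]
    rintro α ⟨g, -, hgα⟩
    have hgN : g ∈ Subgroup.normalizer ((S : Subgroup G) : Set G) :=
      mem_normalizer_of_conj_eq_aut _ α g hgα
    obtain ⟨n, hn, hng⟩ := hgen (hb hgN)
    rw [SetLike.mem_coe, Subgroup.mem_comap] at hn
    have : conjAutHom (S : Subgroup G) n = α := by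
      ext x
      rw [hgα]
      have : n.1 = g := hng
      rw [← this]
      rfl
    rw [← this]
    exact hn
  intro P
  apply Set.Subset.antisymm (hle P)
  intro φ hφ
  have hP : P ≤ (S : Subgroup G) := Fusion.src_le F hφ
  obtain ⟨α, hα, φ₀, hφ₀, hv⟩ := hinv.2.2.2 P hP φ hφ
  have hα' := (Fusion.mem_autGroup_iff E le_rfl α).mp (key hα)
  have hφ₀S : ∀ x : P, φ₀ x ∈ (S : Subgroup G) := fun x => Fusion.map_mem E hφ₀ x
  have hc := E.comp_mem hφ₀ hα' hφ₀S
  convert hc using 1
  ext x
  exact hv x (hφ₀S x)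

end Cfsg.Agent.Lead.SimpCrit
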