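import Mathlib
import Cfsg.Prelude.Def_FusionSystem
import Cfsg.Agent.Lead.SimpleCritC

set_option autoImplicit false

namespace Cfsg.Agent.Lead.SimpCrit

open Cfsg Cfsg.FusionSystem Cfsg.Agent.Lead

variable {G : Type*} [Group G]

/-- A subgroup normal in `S` is fully normalized in the fusion system of `G` on `S`. -/
theorem isFullyNormalized_of_normal [Finite G] (S R : Subgroup G) (hRS : R ≤ S)
    (hSR : S ≤ Subgroup.normalizer (R : Set G)) :
    (groupFusionSystem S).IsFullyNormalized R := by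
  refine ⟨hRS, fun Q _ => ?_⟩
  have h1 : normalizerIn S R = S := inf_eq_left.mpr hSR
  rw [h1]
  exact Subgroup.card_le_of_le inf_le_left

/-- A self-centralizing subgroup normal in the Sylow subgroup `S` is centric. -/
theorem isCentric_of_normal [Finite G] (p : ℕ) [Fact p.Prime] (S : Sylow p G) (R : Subgroup G)
    (hRS : R ≤ (S : Subgroup G))
    (hSR : (S : Subgroup G) ≤ Subgroup.normalizer (R : Set G))
    (hC : (S : Subgroup G) ⊓ Subgroup.centralizer (R : Set G) ≤ R) :
    (groupFusionSystem (S : Subgroup G)).IsCentric R := by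
  have hF : (groupFusionSystem (S : Subgroup G)).IsSaturated p := Cfsg.Agent.S5076.result p S
  have hS : IsPGroup p (S : Subgroup G) := S.isPGroup'
  have hfn := isFullyNormalized_of_normal (S : Subgroup G) R hRS hSR
  obtain ⟨hfc, -⟩ := Fusion.fullyCentralized_fullyAutomized_of_fullyNormalized p hS _ hF hfn
  refine ⟨hRS, fun Q hQ => ?_⟩
  have hcard := hfc.2 Q hQ
  obtain ⟨-, hQS, g, rfl⟩ := (groupFusionSystem_isConj_iff _ _ _).mp hQ
  -- `C_S(R) = Z(R)`
  have h1 : centralizerIn (S : Subgroup G) R = R ⊓ Subgroup.centralizer (R : Set G) := by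
    apply le_antisymm
    · exact le_inf hC inf_le_right
    · exact inf_le_inf_right _ hRS
  set Q := R.map (MulAut.conj g).toMonoidHom with hQdef
  have h2 : Q ⊓ Subgroup.centralizer (Q : Set G) ≤ centralizerIn (S : Subgroup G) Q :=
    inf_le_inf_right _ hQS
  have h3 : Q ⊓ Subgroup.centralizer (Q : Set G) =
      (R ⊓ Subgroup.centralizer (R : Set G)).map (MulAut.conj g).toMonoidHom := by
    ext y
    constructor
    · rintro ⟨⟨x, hx, rfl⟩, hy2⟩
      refine ⟨x, ⟨hx, ?_⟩, rfl⟩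
      apply Subgroup.mem_centralizer_iff.mpr
      intro r hr
      have := Subgroup.mem_centralizer_iff.mp hy2 (MulAut.conj g r) ⟨r, hr, rfl⟩
      simp only [MulEquiv.coe_toMonoidHom, MulAut.conj_apply] at this
      have h4 : g * (r * x) * g⁻¹ = g * (x * r) * g⁻¹ := by
        calc g * (r * x) * g⁻¹ = g * r * g⁻¹ * (g * x * g⁻¹) := by group
          _ = g * x * g⁻¹ * (g * r * g⁻¹) := this
          _ = g * (x * r) * g⁻¹ := by group
      exact mul_left_cancel (mul_right_cancel h4)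
    · rintro ⟨x, ⟨hx, hx2⟩, rfl⟩
      refine ⟨⟨x, hx, rfl⟩, ?_⟩
      apply Subgroup.mem_centralizer_iff.mpr
      rintro _ ⟨r, hr, rfl⟩
      have := Subgroup.mem_centralizer_iff.mp hx2 r hr
      simp only [MulEquiv.coe_toMonoidHom, MulAut.conj_apply]
      calc g * r * g⁻¹ * (g * x * g⁻¹) = g * (r * x) * g⁻¹ := by group
        _ = g * (x * r) * g⁻¹ := by rw [this]
        _ = g * x * g⁻¹ * (g * r * g⁻¹) := by group
  have h4 : Nat.card (Q ⊓ Subgroup.centralizer (Q : Set G) : Subgroup G) =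
      Nat.card (centralizerIn (S : Subgroup G) R) := by
    rw [h3, card_map_conj, h1]
  have h5 : Q ⊓ Subgroup.centralizer (Q : Set G) = centralizerIn (S : Subgroup G) Q := by
    apply Subgroup.eq_of_le_of_card_ge h2
    rw [h4]
    exact hcard
  rw [← h5]
  exact inf_le_left

/-- The group-theoretic hypotheses of the simplicity criterion, for a subgroup `S`. -/
def Crit (p : ℕ) (S : Subgroup G) : Prop :=
  (∀ T : Subgroup G, T ≤ S → (∀ x ∈ T, ∀ g : G, g * x * g⁻¹ ∈ S → g * x * g⁻¹ ∈ T) →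
    T = ⊥ ∨ T = S) ∧
  Subgroup.normalizer (S : Set G) ≤
    Subgroup.closure {m : G | m ∈ Subgroup.normalizer (S : Set G) ∧
      ∃ R : Subgroup G, R ≤ S ∧ S ≤ Subgroup.normalizer (R : Set G) ∧
        S ⊓ Subgroup.centralizer (R : Set G) ≤ R ∧
        m ∈ Subgroup.closure {g : G | g ∈ Subgroup.normalizer (R : Set G) ∧
          ∃ k : ℕ, orderOf g = p ^ k}}

/-- Lemma A: the group-theoretic criterion. -/
theorem crit [Finite G] (p : ℕ) [Fact p.Prime] (S : Sylow p G)
    (hS1 : (S : Subgroup G) ≠ ⊥) (h : Crit p (S : Subgroup G)) :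
    (groupFusionSystem (S : Subgroup G)).IsSimple p := by
  obtain ⟨ha, hb⟩ := h
  apply main' p S hS1
  · intro T hT
    apply ha T hT.1
    intro x hxT g hgx
    have hle : Subgroup.zpowers x ≤ T := Subgroup.zpowers_le.mpr hxT
    have hφ : conjHom (Subgroup.zpowers x) g ∈
        (groupFusionSystem (S : Subgroup G)).Hom (Subgroup.zpowers x) := by
      refine ⟨hle.trans hT.1, ?_, g, fun y => rfl⟩
      rintro ⟨y, hy⟩
      obtain ⟨i, rfl⟩ := Subgroup.mem_zpowers_iff.mp hy
      show g * x ^ i * g⁻¹ ∈ (S : Subgroup G)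
      rw [← conj_zpow]
      exact Subgroup.zpow_mem _ hgx i
    exact hT.2 (Subgroup.zpowers x) hle _ hφ ⟨x, Subgroup.mem_zpowers x⟩
  · refine hb.trans (Subgroup.closure_mono ?_)
    rintro m ⟨hmN, R, hRS, hSR, hC, hm⟩
    exact ⟨hmN, R, isFullyNormalized_of_normal _ R hRS hSR, isCentric_of_normal p S R hRS hSR hC,
      hm⟩

/-- Lemma B: the criterion is invariant under automorphisms. -/
theorem Crit.map {p : ℕ} {S : Subgroup G} (h : Crit p S) (β : MulAut G) :
    Crit p (S.map β.toMonoidHom) := by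
  obtain ⟨ha, hb⟩ := h
  have hβ : ∀ x : G, β (β⁻¹ x) = x := fun x => β.apply_symm_apply x
  have hβ' : ∀ x : G, β⁻¹ (β x) = x := fun x => β.symm_apply_apply x
  have hmem : ∀ (H : Subgroup G) (x : G), x ∈ H.map β.toMonoidHom ↔ β⁻¹ x ∈ H := by
    intro H x
    constructor
    · rintro ⟨y, hy, rfl⟩
      show β⁻¹ (β y) ∈ H
      rw [hβ']; exact hy
    · intro hx
      exact ⟨β⁻¹ x, hx, hβ x⟩
  have hnorm : ∀ H : Subgroup G, Subgroup.normalizer ((H.map β.toMonoidHom : Subgroup G) : Set G) =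
      (Subgroup.normalizer (H : Set G)).map β.toMonoidHom := fun H =>
    (Subgroup.map_equiv_normalizer_eq H β).symm
  constructor
  · intro T' hT'S hcl
    have h1 := ha (T'.map (β⁻¹).toMonoidHom) ?_ ?_
    · rcases h1 with h1 | h1
      · left
        rw [eq_bot_iff]
        intro x hx
        have : β⁻¹ x ∈ T'.map (β⁻¹).toMonoidHom := ⟨x, hx, rfl⟩
        rw [h1, Subgroup.mem_bot] at this
        rw [Subgroup.mem_bot]
        have h2 := congrArg β this
        rwa [hβ, map_one] at h2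
      · right
        apply le_antisymm hT'S
        rintro _ ⟨s, hs, rfl⟩
        rw [← h1] at hs
        obtain ⟨t, ht, rfl⟩ := hs
        show β (β⁻¹ t) ∈ T'
        rw [hβ]; exact ht
    · rintro _ ⟨t, ht, rfl⟩
      exact (hmem S t).mp (hT'S ht)
    · rintro _ ⟨t, ht, rfl⟩ g hg
      refine ⟨β (g * β⁻¹ t * g⁻¹), ?_, hβ' _⟩
      have e : β (g * β⁻¹ t * g⁻¹) = β g * t * (β g)⁻¹ := by
        rw [map_mul, map_mul, map_inv]
        show β g * β (β⁻¹ t) * (β g)⁻¹ = _
        rw [hβ]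
      rw [e]
      apply hcl t ht
      rw [← e]
      exact ⟨_, hg, rfl⟩
  · rw [hnorm]
    rintro _ ⟨m, hm, rfl⟩
    have h1 := hb hm
    have h2 : β m ∈ (Subgroup.closure {m : G | m ∈ Subgroup.normalizer (S : Set G) ∧
      ∃ R : Subgroup G, R ≤ S ∧ S ≤ Subgroup.normalizer (R : Set G) ∧
        S ⊓ Subgroup.centralizer (R : Set G) ≤ R ∧
        m ∈ Subgroup.closure {g : G | g ∈ Subgroup.normalizer (R : Set G) ∧
          ∃ k : ℕ, orderOf g = p ^ k}}).map β.toMonoidHom := ⟨m, h1, rfl⟩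
    rw [MonoidHom.map_closure] at h2
    refine Subgroup.closure_mono ?_ h2
    rintro _ ⟨m₁, ⟨hm₁N, R, hRS, hSR, hC, hm₁⟩, rfl⟩
    refine ⟨⟨m₁, hm₁N, rfl⟩, R.map β.toMonoidHom, Subgroup.map_mono hRS, ?_, ?_, ?_⟩
    · rw [hnorm]
      exact Subgroup.map_mono hSR
    · rintro x ⟨hxS, hxC⟩
      have hxS' := (hmem S x).mp hxS
      apply (hmem R x).mpr
      apply hC
      refine ⟨hxS', ?_⟩
      apply Subgroup.mem_centralizer_iff.mpr
      intro r hr
      have := Subgroup.mem_centralizer_iff.mp hxC (β r) ⟨r, hr, rfl⟩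
      have h3 : (β⁻¹ : MulAut G) (β r * x) = (β⁻¹ : MulAut G) (x * β r) := by rw [this]
      rw [map_mul, map_mul, hβ'] at h3
      exact h3
    · have h3 : β m₁ ∈ (Subgroup.closure {g : G | g ∈ Subgroup.normalizer (R : Set G) ∧
          ∃ k : ℕ, orderOf g = p ^ k}).map β.toMonoidHom := ⟨m₁, hm₁, rfl⟩
      rw [MonoidHom.map_closure] at h3
      refine Subgroup.closure_mono ?_ h3
      rintro _ ⟨g, ⟨hgN, k, hk⟩, rfl⟩
      refine ⟨?_, k, ?_⟩
      · rw [hnorm]
        exact ⟨g, hgN, rfl⟩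
      · show orderOf (β g) = p ^ k
        rw [MulEquiv.orderOf_eq]
        exact hk

/-- If the criterion holds for one Sylow subgroup, the fusion system on every Sylow subgroup is
simple. -/
theorem crit_all [Finite G] (p : ℕ) [Fact p.Prime] (S₀ : Sylow p G)
    (hS1 : (S₀ : Subgroup G) ≠ ⊥) (h : Crit p (S₀ : Subgroup G)) (S : Sylow p G) :
    (groupFusionSystem (S : Subgroup G)).IsSimple p := by
  obtain ⟨g, hg⟩ := MulAction.exists_smul_eq G S₀ S
  have h1 : (S : Subgroup G) = (S₀ : Subgroup G).map (MulAut.conj g).toMonoidHom := by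
    rw [← hg, Sylow.coe_subgroup_smul]
    rfl
  apply crit p S
  · rw [h1]
    intro hbot
    apply hS1
    rw [eq_bot_iff]
    intro x hx
    have : MulAut.conj g x ∈ (S₀ : Subgroup G).map (MulAut.conj g).toMonoidHom := ⟨x, hx, rfl⟩
    rw [hbot, Subgroup.mem_bot] at this
    rw [Subgroup.mem_bot]
    exact (MulAut.conj g).map_eq_one_iff.mp this
  · rw [h1]
    exact h.map (MulAut.conj g)

end Cfsg.Agent.Lead.SimpCrit
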