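import Mathlib
import Cfsg.Prelude.Def_FusionSystem
import Cfsg.Agent.Lead.SimpleCritD
import Cfsg.Agent.Helper5.PGroupCenter

set_option autoImplicit false

/-!
The simplicity criterion for the `p`-fusion system of a group with a self-normalizing Sylow
`p`-subgroup `S`: it suffices that, for every non-identity central element `x` of `S`, the
conjugates of `x` lying in `S` generate `S`.
-/

namespace Cfsg.Agent.Lead.SimpCrit

open Cfsg Cfsg.FusionSystem Cfsg.Agent.Lead

variable {G : Type*} [Group G]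

/-- A strongly closed subgroup of a `p`-group `S` is trivial or everything, provided the conjugates
in `S` of each non-identity central element of `S` generate `S`. -/
theorem stronglyClosed_trivial_of_center_gen [Finite G] (p : ℕ) [Fact p.Prime] (S : Subgroup G)
    (hS : IsPGroup p S)
    (hgen : ∀ x ∈ S, x ≠ 1 → (∀ s ∈ S, s * x = x * s) →
      S ≤ Subgroup.closure {y : G | y ∈ S ∧ ∃ g : G, y = g * x * g⁻¹})
    (T : Subgroup G) (hTS : T ≤ S)
    (hT : ∀ x ∈ T, ∀ g : G, g * x * g⁻¹ ∈ S → g * x * g⁻¹ ∈ T) : T = ⊥ ∨ T = S := by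
  by_cases hbot : T = ⊥
  · exact Or.inl hbot
  right
  have hQn : (T.subgroupOf S).Normal := by
    constructor
    intro x hx u
    rw [Subgroup.mem_subgroupOf] at hx ⊢
    have h1 : ((u * x * u⁻¹ : S) : G) = (u : G) * (x : G) * (u : G)⁻¹ := rfl
    rw [h1]
    apply hT _ hx
    exact S.mul_mem (S.mul_mem u.2 x.2) (S.inv_mem u.2)
  have hQ1 : T.subgroupOf S ≠ ⊥ := by
    intro h
    apply hbot
    rw [Subgroup.subgroupOf_eq_bot] at h
    rw [eq_bot_iff]
    intro x hx
    have : x ∈ T ⊓ S := ⟨hx, hTS hx⟩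
    rw [disjoint_iff.mp h] at this
    exact this
  obtain ⟨z, hzQ, hz1, hzc⟩ :=
    Cfsg.Agent.Helper5.exists_ne_one_mem_center_of_normal hS (T.subgroupOf S) hQ1
  have hzT : (z : G) ∈ T := Subgroup.mem_subgroupOf.mp hzQ
  have hz1' : (z : G) ≠ 1 := by
    intro h
    apply hz1
    exact Subtype.ext h
  have hzc' : ∀ s ∈ S, s * (z : G) = (z : G) * s := by
    intro s hs
    exact congrArg Subtype.val (hzc ⟨s, hs⟩)
  apply le_antisymm hTS
  refine (hgen z z.2 hz1' hzc').trans ?_
  rw [Subgroup.closure_le]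
  rintro y ⟨hyS, g, rfl⟩
  exact hT _ hzT g hyS

/-- The criterion for a self-normalizing `p`-subgroup. -/
theorem crit_of_self_normalizing [Finite G] (p : ℕ) [Fact p.Prime] (S : Subgroup G)
    (hS : IsPGroup p S) (hN : Subgroup.normalizer (S : Set G) ≤ S)
    (hgen : ∀ x ∈ S, x ≠ 1 → (∀ s ∈ S, s * x = x * s) →
      S ≤ Subgroup.closure {y : G | y ∈ S ∧ ∃ g : G, y = g * x * g⁻¹}) : Crit p S := by
  refine ⟨fun T hTS hT => stronglyClosed_trivial_of_center_gen p S hS hgen T hTS hT, ?_⟩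
  intro m hm
  have hmS : m ∈ S := hN hm
  apply Subgroup.subset_closure
  refine ⟨hm, S, le_rfl, Subgroup.le_normalizer, inf_le_left, ?_⟩
  apply Subgroup.subset_closure
  refine ⟨hm, ?_⟩
  obtain ⟨k, hk⟩ := (IsPGroup.iff_orderOf.mp hS) ⟨m, hmS⟩
  rw [Subgroup.orderOf_mk] at hk
  exact ⟨k, hk⟩

/-- The `p`-fusion system of a finite group with a self-normalizing Sylow `p`-subgroup `S₀ ≠ 1`
is simple as soon as, for every non-identity central element `x` of `S₀`, the conjugates of `x`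
lying in `S₀` generate `S₀`. -/
theorem isSimple_of_self_normalizing [Finite G] (p : ℕ) [Fact p.Prime] (S₀ : Sylow p G)
    (hS1 : (S₀ : Subgroup G) ≠ ⊥)
    (hN : Subgroup.normalizer ((S₀ : Subgroup G) : Set G) ≤ (S₀ : Subgroup G))
    (hgen : ∀ x ∈ (S₀ : Subgroup G), x ≠ 1 → (∀ s ∈ (S₀ : Subgroup G), s * x = x * s) →
      (S₀ : Subgroup G) ≤
        Subgroup.closure {y : G | y ∈ (S₀ : Subgroup G) ∧ ∃ g : G, y = g * x * g⁻¹})
    (S : Sylow p G) : (groupFusionSystem (S : Subgroup G)).IsSimple p :=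
  crit_all p S₀ hS1 (crit_of_self_normalizing p (S₀ : Subgroup G) S₀.isPGroup' hN hgen) S

end Cfsg.Agent.Lead.SimpCrit
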