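import Mathlib

/-!
Elementary group theory used for S4305.
-/

set_option autoImplicit false

namespace Cfsg.Agent.Lead.S3F

variable {Γ : Type*} [Group Γ]

/-- in a finite group, mapping a subgroup into itself by conjugation means normalising it. -/
theorem mem_normalizer_of_conj_mem [Finite Γ] (H : Subgroup Γ) (g : Γ)
    (hg : ∀ x ∈ H, g * x * g⁻¹ ∈ H) : g ∈ Subgroup.normalizer (H : Set Γ) := by
  have hpow : ∀ n : ℕ, ∀ x ∈ H, g ^ n * x * (g ^ n)⁻¹ ∈ H := by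
    intro n
    induction n with
    | zero => intro x hx; simpa using hx
    | succ n ih =>
      intro x hx
      have := hg _ (ih x hx)
      have e : g * (g ^ n * x * (g ^ n)⁻¹) * g⁻¹ = g ^ (n + 1) * x * (g ^ (n + 1))⁻¹ := by
        rw [pow_succ']; group
      rwa [e] at this
  have hinv : ∀ x ∈ H, g⁻¹ * x * g ∈ H := by
    intro x hx
    have hpos : 0 < orderOf g := orderOf_pos g
    have h1 := hpow (orderOf g - 1) x hx
    have h2 : g ^ (orderOf g - 1) = g⁻¹ := by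
      have : g ^ (orderOf g - 1) * g = 1 := by
        rw [← pow_succ, Nat.sub_add_cancel hpos, pow_orderOf_eq_one]
      exact eq_inv_of_mul_eq_one_left this
    rw [h2, inv_inv] at h1
    exact h1
  rw [Subgroup.mem_normalizer_iff]
  intro x
  constructor
  · exact hg x
  · intro hx
    have := hinv _ hx
    have e : g⁻¹ * (g * x * g⁻¹) * g = x := by group
    rwa [e] at this

theorem conj_mem_of_mem_normalizer' {H : Subgroup Γ} {g : Γ}
    (hg : g ∈ Subgroup.normalizer (H : Set Γ)) {x : Γ} (hx : x ∈ H) : g * x * g⁻¹ ∈ H :=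
  (Subgroup.mem_normalizer_iff.1 hg x).1 hx

/-- a fixed-point-free involutory automorphism inverts. -/
theorem inverts_of_fpf [Finite Γ] (X : Subgroup Γ) (t : Γ) (ht : t * t = 1)
    (hX : ∀ x ∈ X, t * x * t⁻¹ ∈ X) (hfpf : ∀ x ∈ X, t * x * t⁻¹ = x → x = 1) :
    ∀ x ∈ X, t * x * t⁻¹ = x⁻¹ := by
  have hti : t⁻¹ = t := inv_eq_of_mul_eq_one_left ht
  let φ : X → X := fun x => ⟨(x : Γ)⁻¹ * (t * x * t⁻¹), X.mul_mem (X.inv_mem x.2) (hX _ x.2)⟩
  have hinj : Function.Injective φ := by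
    intro a b hab
    have h1 : (a : Γ)⁻¹ * (t * a * t⁻¹) = (b : Γ)⁻¹ * (t * b * t⁻¹) := congrArg Subtype.val hab
    have h2 : t * ((b : Γ) * (a : Γ)⁻¹) * t⁻¹ = (b : Γ) * (a : Γ)⁻¹ := by
      have e : t * ((b : Γ) * (a : Γ)⁻¹) * t⁻¹ = (t * b * t⁻¹) * (t * a * t⁻¹)⁻¹ := by group
      have e2 : t * a * t⁻¹ = (a : Γ) * ((b : Γ)⁻¹ * (t * b * t⁻¹)) := by
        rw [← h1]; group
      rw [e, e2]; group
    have h3 := hfpf _ (X.mul_mem b.2 (X.inv_mem a.2)) h2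
    apply Subtype.ext
    have : (b : Γ) = (b : Γ) * (a : Γ)⁻¹ * a := by group
    rw [this, h3, one_mul]
  have hsurj : Function.Surjective φ := Finite.surjective_of_injective hinj
  intro x hx
  obtain ⟨y, hy⟩ := hsurj ⟨x, hx⟩
  have h1 : (y : Γ)⁻¹ * (t * y * t⁻¹) = x := congrArg Subtype.val hy
  rw [← h1]
  have e1 : t * ((y : Γ)⁻¹ * (t * y * t⁻¹)) * t⁻¹ = t * (y : Γ)⁻¹ * t⁻¹ * (t * t) * y * (t * t)⁻¹ := by
    group
  rw [e1, ht]
  group

/-- `x ↦ x⁻¹ σ x σ⁻¹` is onto when `σ` acts without fixed points. -/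
theorem exists_eq_inv_mul_conj [Finite Γ] (Q : Subgroup Γ) (σ : Γ)
    (hσQ : ∀ x ∈ Q, σ * x * σ⁻¹ ∈ Q) (hfpf : ∀ x ∈ Q, σ * x * σ⁻¹ = x → x = 1)
    (y : Γ) (hy : y ∈ Q) : ∃ x ∈ Q, y = x⁻¹ * (σ * x * σ⁻¹) := by
  let φ : Q → Q := fun x => ⟨(x : Γ)⁻¹ * (σ * x * σ⁻¹), Q.mul_mem (Q.inv_mem x.2) (hσQ _ x.2)⟩
  have hinj : Function.Injective φ := by
    intro a b hab
    have h1 : (a : Γ)⁻¹ * (σ * a * σ⁻¹) = (b : Γ)⁻¹ * (σ * b * σ⁻¹) := congrArg Subtype.val hab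
    have h2 : σ * ((b : Γ) * (a : Γ)⁻¹) * σ⁻¹ = (b : Γ) * (a : Γ)⁻¹ := by
      have e : σ * ((b : Γ) * (a : Γ)⁻¹) * σ⁻¹ = (σ * b * σ⁻¹) * (σ * a * σ⁻¹)⁻¹ := by group
      have e2 : σ * a * σ⁻¹ = (a : Γ) * ((b : Γ)⁻¹ * (σ * b * σ⁻¹)) := by
        rw [← h1]; group
      rw [e, e2]; group
    have h3 := hfpf _ (Q.mul_mem b.2 (Q.inv_mem a.2)) h2
    apply Subtype.ext
    have : (b : Γ) = (b : Γ) * (a : Γ)⁻¹ * a := by group
    rw [this, h3, one_mul]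
  obtain ⟨x, hx⟩ := Finite.surjective_of_injective hinj ⟨y, hy⟩
  exact ⟨x, x.2, (congrArg Subtype.val hx).symm⟩

/-- Three normal subgroups permuted by a fixed-point-free `σ`, with trivial intersection and
pairwise products covering the `σ`-commutators, force commutativity. -/
theorem comm_of_three_kernels [Finite Γ] (Q K0 K1 K2 : Subgroup Γ) (σ : Γ)
    (hσ3 : σ * σ * σ = 1)
    (hσQ : ∀ x ∈ Q, σ * x * σ⁻¹ ∈ Q) (hfpf : ∀ x ∈ Q, σ * x * σ⁻¹ = x → x = 1)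
    (h0 : K0 ≤ Q) (h1 : K1 ≤ Q) (h2 : K2 ≤ Q)
    (n0 : ∀ g ∈ Q, ∀ x ∈ K0, g * x * g⁻¹ ∈ K0) (n1 : ∀ g ∈ Q, ∀ x ∈ K1, g * x * g⁻¹ ∈ K1)
    (n2 : ∀ g ∈ Q, ∀ x ∈ K2, g * x * g⁻¹ ∈ K2)
    (c0 : ∀ x ∈ K0, σ * x * σ⁻¹ ∈ K1) (c1 : ∀ x ∈ K1, σ * x * σ⁻¹ ∈ K2)
    (c2 : ∀ x ∈ K2, σ * x * σ⁻¹ ∈ K0)
    (hint : ∀ x, x ∈ K0 → x ∈ K1 → x ∈ K2 → x = 1)
    (p01 : ∀ x ∈ Q, ∃ a ∈ K0, ∃ b ∈ K1, x⁻¹ * (σ * x * σ⁻¹) = a * b)
    (p12 : ∀ x ∈ Q, ∃ a ∈ K1, ∃ b ∈ K2, x⁻¹ * (σ * x * σ⁻¹) = a * b)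
    (p20 : ∀ x ∈ Q, ∃ a ∈ K2, ∃ b ∈ K0, x⁻¹ * (σ * x * σ⁻¹) = a * b) :
    ∀ a ∈ Q, ∀ b ∈ Q, a * b = b * a := by
  -- every element is a product
  have q01 : ∀ y ∈ Q, ∃ a ∈ K0, ∃ b ∈ K1, y = a * b := by
    intro y hy
    obtain ⟨x, hx, rfl⟩ := exists_eq_inv_mul_conj Q σ hσQ hfpf y hy
    exact p01 x hx
  have q12 : ∀ y ∈ Q, ∃ a ∈ K1, ∃ b ∈ K2, y = a * b := by
    intro y hy
    obtain ⟨x, hx, rfl⟩ := exists_eq_inv_mul_conj Q σ hσQ hfpf y hy
    exact p12 x hx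
  have q20 : ∀ y ∈ Q, ∃ a ∈ K2, ∃ b ∈ K0, y = a * b := by
    intro y hy
    obtain ⟨x, hx, rfl⟩ := exists_eq_inv_mul_conj Q σ hσQ hfpf y hy
    exact p20 x hx
  have hσ3' : ∀ x : Γ, σ * (σ * (σ * x * σ⁻¹) * σ⁻¹) * σ⁻¹ = x := by
    intro x
    have : σ * (σ * (σ * x * σ⁻¹) * σ⁻¹) * σ⁻¹ = (σ * σ * σ) * x * (σ * σ * σ)⁻¹ := by group
    rw [this, hσ3]; group
  -- the commutator of elements of two normal subgroups lies in both
  have comm_mem : ∀ (A B : Subgroup Γ), A ≤ Q → B ≤ Q → (∀ g ∈ Q, ∀ x ∈ A, g * x * g⁻¹ ∈ A) →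
      (∀ g ∈ Q, ∀ x ∈ B, g * x * g⁻¹ ∈ B) → ∀ a ∈ A, ∀ b ∈ B,
      a * b * a⁻¹ * b⁻¹ ∈ A ∧ a * b * a⁻¹ * b⁻¹ ∈ B := by
    intro A B hA hB nA nB a ha b hb
    constructor
    · have := A.mul_mem ha (nA b (hB hb) a⁻¹ (A.inv_mem ha))
      have e : a * (b * a⁻¹ * b⁻¹) = a * b * a⁻¹ * b⁻¹ := by group
      rwa [e] at this
    · have := B.mul_mem (nB a (hA ha) b hb) (B.inv_mem hb)
      exact this
  -- K1 ⊓ K2 = ⊥
  have i12 : ∀ l, l ∈ K1 → l ∈ K2 → l = 1 := by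
    intro l hl1 hl2
    set l1 := σ * l * σ⁻¹ with hl1d
    set l2 := σ * l1 * σ⁻¹ with hl2d
    have a1 : l1 ∈ K2 := c1 l hl1
    have a2 : l1 ∈ K0 := c2 l hl2
    have b1 : l2 ∈ K0 := c2 l1 a1
    have b2 : l2 ∈ K1 := c0 l1 a2
    have hl3 : σ * l2 * σ⁻¹ = l := hσ3' l
    -- pairwise commuting
    have k1 : l * l1 = l1 * l := by
      have h3 := comm_mem K1 K0 h1 h0 n1 n0 l hl1 l1 a2
      have h4 := (comm_mem K2 K2 h2 h2 n2 n2 l hl2 l1 a1).1
      have := hint _ h3.2 h3.1 h4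
      calc l * l1 = (l * l1 * l⁻¹ * l1⁻¹) * (l1 * l) := by group
        _ = l1 * l := by rw [this, one_mul]
    have k2 : l * l2 = l2 * l := by
      have h3 := comm_mem K2 K0 h2 h0 n2 n0 l hl2 l2 b1
      have h4 := (comm_mem K1 K1 h1 h1 n1 n1 l hl1 l2 b2).1
      have := hint _ h3.2 h4 h3.1
      calc l * l2 = (l * l2 * l⁻¹ * l2⁻¹) * (l2 * l) := by group
        _ = l2 * l := by rw [this, one_mul]
    have k3 : l1 * l2 = l2 * l1 := by
      have h3 := comm_mem K2 K1 h2 h1 n2 n1 l1 a1 l2 b2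
      have h4 := (comm_mem K0 K0 h0 h0 n0 n0 l1 a2 l2 b1).1
      have := hint _ h4 h3.2 h3.1
      calc l1 * l2 = (l1 * l2 * l1⁻¹ * l2⁻¹) * (l2 * l1) := by group
        _ = l2 * l1 := by rw [this, one_mul]
    have hm : σ * (l * l1 * l2) * σ⁻¹ = l * l1 * l2 := by
      have e : σ * (l * l1 * l2) * σ⁻¹ = (σ * l * σ⁻¹) * (σ * l1 * σ⁻¹) * (σ * l2 * σ⁻¹) := by group
      rw [e, hl3, ← hl1d, ← hl2d]
      calc l1 * l2 * l = l1 * (l2 * l) := by group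
        _ = l1 * (l * l2) := by rw [k2]
        _ = (l1 * l) * l2 := by group
        _ = l * l1 * l2 := by rw [k1]
    have hmQ : l * l1 * l2 ∈ Q := Q.mul_mem (Q.mul_mem (h1 hl1) (h0 a2)) (h0 b1)
    have hm1 := hfpf _ hmQ hm
    have hl0 : l ∈ K0 := by
      have : l = (l1 * l2)⁻¹ := by
        have : l * (l1 * l2) = 1 := by rw [← mul_assoc]; exact hm1
        exact eq_inv_of_mul_eq_one_left this
      rw [this]
      exact K0.inv_mem (K0.mul_mem a2 b1)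
    exact hint l hl0 hl1 hl2
  have i01 : ∀ l, l ∈ K0 → l ∈ K1 → l = 1 := by
    intro l hl0 hl1
    have := i12 (σ * l * σ⁻¹) (c0 l hl0) (c1 l hl1)
    have e : l = σ⁻¹ * (σ * l * σ⁻¹) * σ := by group
    rw [e, this]; group
  have i20 : ∀ l, l ∈ K2 → l ∈ K0 → l = 1 := by
    intro l hl2 hl0
    have := i01 (σ * l * σ⁻¹) (c2 l hl2) (c0 l hl0)
    have e : l = σ⁻¹ * (σ * l * σ⁻¹) * σ := by group
    rw [e, this]; group
  -- elements of different kernels commute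
  have cm01 : ∀ a ∈ K0, ∀ b ∈ K1, a * b = b * a := by
    intro a ha b hb
    have h3 := comm_mem K0 K1 h0 h1 n0 n1 a ha b hb
    have := i01 _ h3.1 h3.2
    calc a * b = (a * b * a⁻¹ * b⁻¹) * (b * a) := by group
      _ = b * a := by rw [this, one_mul]
  have cm12 : ∀ a ∈ K1, ∀ b ∈ K2, a * b = b * a := by
    intro a ha b hb
    have h3 := comm_mem K1 K2 h1 h2 n1 n2 a ha b hb
    have := i12 _ h3.1 h3.2
    calc a * b = (a * b * a⁻¹ * b⁻¹) * (b * a) := by group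
      _ = b * a := by rw [this, one_mul]
  have cm20 : ∀ a ∈ K2, ∀ b ∈ K0, a * b = b * a := by
    intro a ha b hb
    have h3 := comm_mem K2 K0 h2 h0 n2 n0 a ha b hb
    have := i20 _ h3.1 h3.2
    calc a * b = (a * b * a⁻¹ * b⁻¹) * (b * a) := by group
      _ = b * a := by rw [this, one_mul]
  -- K0 and K1 are central
  have z0 : ∀ a ∈ K0, ∀ y ∈ Q, a * y = y * a := by
    intro a ha y hy
    obtain ⟨b, hb, c, hc, rfl⟩ := q12 y hy
    calc a * (b * c) = (a * b) * c := by group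
      _ = (b * a) * c := by rw [cm01 a ha b hb]
      _ = b * (a * c) := by group
      _ = b * (c * a) := by rw [← cm20 c hc a ha]
      _ = b * c * a := by group
  have z1 : ∀ a ∈ K1, ∀ y ∈ Q, a * y = y * a := by
    intro a ha y hy
    obtain ⟨c, hc, b, hb, rfl⟩ := q20 y hy
    calc a * (c * b) = (a * c) * b := by group
      _ = (c * a) * b := by rw [cm12 a ha c hc]
      _ = c * (a * b) := by group
      _ = c * (b * a) := by rw [← cm01 b hb a ha]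
      _ = c * b * a := by group
  intro x hx y hy
  obtain ⟨a, ha, b, hb, rfl⟩ := q01 x hx
  calc a * b * y = a * (b * y) := by group
    _ = a * (y * b) := by rw [z1 b hb y hy]
    _ = (a * y) * b := by group
    _ = (y * a) * b := by rw [z0 a ha y hy]
    _ = y * (a * b) := by group

/-! ### power formulas in class two -/

theorem pow_mul_comm_of_central {x y d : Γ} (h : y * x = x * y * d) (_hdx : d * x = x * d)
    (hdy : d * y = y * d) (n : ℕ) : y ^ n * x = x * y ^ n * d ^ n := by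
  induction n with
  | zero => simp
  | succ n ih =>
    have hdyn : ∀ m : ℕ, d ^ m * y = y * d ^ m := by
      intro m
      exact ((Commute.pow_left (show Commute d y from hdy) m)).eq
    calc y ^ (n + 1) * x = y ^ n * (y * x) := by rw [pow_succ]; group
      _ = y ^ n * (x * y * d) := by rw [h]
      _ = (y ^ n * x) * y * d := by group
      _ = (x * y ^ n * d ^ n) * y * d := by rw [ih]
      _ = x * y ^ n * (d ^ n * y) * d := by group
      _ = x * y ^ n * (y * d ^ n) * d := by rw [hdyn n]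
      _ = x * y ^ (n + 1) * d ^ (n + 1) := by rw [pow_succ, pow_succ]; group

theorem mul_pow_of_central {x y d : Γ} (h : y * x = x * y * d) (hdx : d * x = x * d)
    (hdy : d * y = y * d) (n : ℕ) :
    (x * y) ^ n = x ^ n * y ^ n * d ^ (n * (n - 1) / 2) := by
  induction n with
  | zero => simp
  | succ n ih =>
    have hdyn : ∀ m : ℕ, d ^ m * y = y * d ^ m := fun m =>
      ((Commute.pow_left (show Commute d y from hdy) m)).eq
    have hdxn : ∀ m : ℕ, d ^ m * x = x * d ^ m := fun m =>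
      ((Commute.pow_left (show Commute d x from hdx) m)).eq
    have hT : (n + 1) * (n + 1 - 1) / 2 = n * (n - 1) / 2 + n := by
      have h2 : (n + 1) * (n + 1 - 1) = n * (n - 1) + 2 * n := by
        cases n with
        | zero => rfl
        | succ m => simp only [Nat.add_sub_cancel]; ring
      rw [h2, Nat.add_mul_div_left _ _ (by norm_num : 0 < 2)]
    calc (x * y) ^ (n + 1) = (x * y) ^ n * (x * y) := pow_succ _ _
      _ = x ^ n * y ^ n * d ^ (n * (n - 1) / 2) * (x * y) := by rw [ih]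
      _ = x ^ n * y ^ n * (d ^ (n * (n - 1) / 2) * x) * y := by group
      _ = x ^ n * y ^ n * (x * d ^ (n * (n - 1) / 2)) * y := by rw [hdxn]
      _ = x ^ n * (y ^ n * x) * (d ^ (n * (n - 1) / 2) * y) := by group
      _ = x ^ n * (x * y ^ n * d ^ n) * (y * d ^ (n * (n - 1) / 2)) := by
          rw [pow_mul_comm_of_central h hdx hdy n, hdyn]
      _ = x ^ n * x * y ^ n * (d ^ n * y) * d ^ (n * (n - 1) / 2) := by group
      _ = x ^ n * x * y ^ n * (y * d ^ n) * d ^ (n * (n - 1) / 2) := by rw [hdyn]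
      _ = x ^ (n + 1) * y ^ (n + 1) * (d ^ n * d ^ (n * (n - 1) / 2)) := by
          rw [pow_succ, pow_succ]; group
      _ = x ^ (n + 1) * y ^ (n + 1) * d ^ ((n + 1) * (n + 1 - 1) / 2) := by
          rw [← pow_add, hT, Nat.add_comm (n * (n - 1) / 2) n]

end Cfsg.Agent.Lead.S3F
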