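import Cfsg.Agent.Lead.FpqWt
import Cfsg.Agent.Helper1.Coprime

/-!
S4306: the action on the linear characters of a subgroup, and the Frobenius lemma for it.
-/

set_option autoImplicit false
set_option linter.style.haveILetI false
set_option linter.unusedSectionVars false

namespace Cfsg.Agent.Lead.Fpq

open scoped BigOperators commutatorElement
open Classical
open Cfsg.Agent.Lead.S3F

/-- the representation over `ℤ` of the automorphism group of a commutative group. -/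
def autRep (U : Type*) [CommGroup U] : Representation ℤ (MulAut U) (Additive U) where
  toFun e := (MonoidHom.toAdditive e.toMonoidHom).toIntLinearMap
  map_one' := by
    refine LinearMap.ext fun u => ?_
    rfl
  map_mul' := by
    intro a b
    refine LinearMap.ext fun u => ?_
    rfl

theorem autRep_apply (U : Type*) [CommGroup U] (e : MulAut U) (u : U) :
    autRep U e (Additive.ofMul u) = Additive.ofMul (e u) := rfl


/-- **The Frobenius lemma for a commutative group.** -/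
theorem frob_trivial_commGroup {U : Type*} [CommGroup U] (X : Subgroup (MulAut U)) [Finite X]
    (y : MulAut U) (hy : y ∈ Subgroup.normalizer (X : Set (MulAut U))) (n : ℕ)
    (hyn : y ^ (n + 1) = 1)
    (hfree : ∀ i, 0 < i → i < n + 1 → ∀ x ∈ X, y ^ i * x * (y ^ i)⁻¹ = x → x = 1)
    (hXU : ∀ u : U, u ^ Nat.card X = 1 → u = 1)
    (hfix : ∀ u : U, y u = u → u = 1) :
    ∀ x ∈ X, ∀ u : U, x u = u := by
  have hXk : ∀ u : Additive U, (Nat.card X : ℤ) • u = 0 → u = 0 := by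
    intro u hu
    rw [natCast_zsmul] at hu
    have h1 : (Additive.toMul u) ^ Nat.card X = 1 := congrArg Additive.toMul hu
    exact congrArg Additive.ofMul (hXU _ h1)
  have hfixU : ∀ u ∈ (⊤ : Submodule ℤ (Additive U)), autRep U y u = u → u = 0 := by
    intro u _ hu
    have h1 : y (Additive.toMul u) = Additive.toMul u := congrArg Additive.toMul hu
    exact congrArg Additive.ofMul (hfix _ h1)
  have key := frob_trivial_ring (autRep U) X y hy n hyn hfree ⊤ hXk
    (fun _ _ _ _ => Submodule.mem_top) (fun _ _ => Submodule.mem_top) hfixU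
  intro x hx u
  exact congrArg Additive.toMul (key x hx (Additive.ofMul u) Submodule.mem_top)

variable {k : Type*} [Field k] {Γ : Type*} [Group Γ]

theorem conjChar_mul_char (Q : Subgroup Γ) (g : Γ) (hg : g ∈ Subgroup.normalizer (Q : Set Γ))
    (χ₁ χ₂ : Q →* kˣ) : conjChar Q g hg (χ₁ * χ₂) = conjChar Q g hg χ₁ * conjChar Q g hg χ₂ := by
  ext e
  rw [conjChar_apply, MonoidHom.mul_apply, MonoidHom.mul_apply, conjChar_apply, conjChar_apply]

theorem conjChar_inv_cancel (Q : Subgroup Γ) (g : Γ) (hg : g ∈ Subgroup.normalizer (Q : Set Γ))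
    (χ : Q →* kˣ) :
    conjChar Q g⁻¹ (Subgroup.inv_mem _ hg) (conjChar Q g hg χ) = χ := by
  rw [← conjChar_mul Q g⁻¹ g (Subgroup.inv_mem _ hg) hg χ]
  have e : g⁻¹ * g = 1 := inv_mul_cancel g
  rw [conjChar_congr Q e, conjChar_one]

theorem conjChar_cancel_inv (Q : Subgroup Γ) (g : Γ) (hg : g ∈ Subgroup.normalizer (Q : Set Γ))
    (χ : Q →* kˣ) :
    conjChar Q g hg (conjChar Q g⁻¹ (Subgroup.inv_mem _ hg) χ) = χ := by
  rw [← conjChar_mul Q g g⁻¹ hg (Subgroup.inv_mem _ hg) χ]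
  have e : g * g⁻¹ = 1 := mul_inv_cancel g
  rw [conjChar_congr Q e, conjChar_one]

/-- the action of the normalizer of `Q` on the group of linear characters of `Q`. -/
def conjAut (Q : Subgroup Γ) :
    ↥(Subgroup.normalizer (Q : Set Γ)) →* MulAut (Q →* kˣ) where
  toFun g :=
    { toFun := conjChar Q (g : Γ) g.2
      invFun := conjChar Q (g : Γ)⁻¹ (Subgroup.inv_mem _ g.2)
      left_inv := fun χ => conjChar_inv_cancel Q g g.2 χ
      right_inv := fun χ => conjChar_cancel_inv Q g g.2 χ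
      map_mul' := fun χ₁ χ₂ => conjChar_mul_char Q g g.2 χ₁ χ₂ }
  map_one' := by
    ext χ : 1
    exact conjChar_one Q χ
  map_mul' := by
    intro a b
    ext χ : 1
    exact conjChar_mul Q a b a.2 b.2 χ

theorem conjAut_apply (Q : Subgroup Γ) (g : ↥(Subgroup.normalizer (Q : Set Γ))) (χ : Q →* kˣ) :
    conjAut (k := k) Q g χ = conjChar Q (g : Γ) g.2 χ := rfl

/-- the characters are trivial on the elements fixed by every character. -/
theorem mem_commutator_of_chars (Q : Subgroup Γ) [Finite Q]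
    [HasEnoughRootsOfUnity k (Monoid.exponent (Abelianization Q))] (g : Q)
    (hg : ∀ χ : Q →* kˣ, χ g = 1) : g ∈ commutator Q := by
  by_contra hgc
  have h1 : (Abelianization.of g : Abelianization Q) ≠ 1 := by
    intro h
    apply hgc
    rw [← Abelianization.ker_of, MonoidHom.mem_ker]
    exact h
  obtain ⟨φ, hφ⟩ := CommGroup.exists_apply_ne_one_of_hasEnoughRootsOfUnity (Abelianization Q) k h1
  exact hφ (hg (φ.comp Abelianization.of))

variable [Finite Γ]

set_option maxHeartbeats 1600000 in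
/-- **The Frobenius lemma for characters**: if `y` has no fixed points on `Q` and acts without
fixed points on `T` modulo the kernel of the action on the linear characters of `Q`, then `T` fixes
all linear characters of `Q`. -/
theorem fix_chars_of_frob (Q T : Subgroup Γ) (y : Γ)
    (hTQ : T ≤ Subgroup.normalizer (Q : Set Γ)) (hyQ : y ∈ Subgroup.normalizer (Q : Set Γ))
    (hyT : y ∈ Subgroup.normalizer (T : Set Γ)) (n : ℕ) (hyn : y ^ (n + 1) = 1)
    (hQy : ∀ g ∈ Q, y * g * y⁻¹ = g → g = 1)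
    (hcop : (Nat.card T).Coprime (Nat.card Q))
    (hfreeT : ∀ i, 0 < i → i < n + 1 → ∀ x ∈ T,
      (∀ χ : Q →* kˣ, y ^ i * x * (y ^ i)⁻¹ * x⁻¹ ∈ charStab Q χ) →
      ∀ χ : Q →* kˣ, x ∈ charStab Q χ) :
    ∀ x ∈ T, ∀ χ : Q →* kˣ, x ∈ charStab Q χ := by
  obtain ⟨N, hN⟩ : ∃ N : Subgroup Γ, N = Subgroup.normalizer (Q : Set Γ) := ⟨_, rfl⟩
  obtain ⟨c, hc⟩ : ∃ c : ↥(Subgroup.normalizer (Q : Set Γ)) →* MulAut (Q →* kˣ),
      c = conjAut (k := k) Q := ⟨_, rfl⟩
  have hcapp : ∀ (g : ↥(Subgroup.normalizer (Q : Set Γ))) (χ : Q →* kˣ),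
      c g χ = conjChar Q (g : Γ) g.2 χ := by
    intro g χ; rw [hc]; rfl
  have hc1 : ∀ g : ↥(Subgroup.normalizer (Q : Set Γ)),
      c g = 1 ↔ ∀ χ : Q →* kˣ, (g : Γ) ∈ charStab Q χ := by
    intro g
    constructor
    · intro h χ
      refine ⟨g.2, ?_⟩
      rw [← hcapp, h, MulAut.one_apply]
    · intro h
      ext χ : 1
      rw [hcapp, MulAut.one_apply]
      obtain ⟨h1, h2⟩ := h χ
      exact h2
  obtain ⟨X, hX⟩ : ∃ X : Subgroup (MulAut (Q →* kˣ)),
      X = (T.subgroupOf (Subgroup.normalizer (Q : Set Γ))).map c := ⟨_, rfl⟩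
  haveI : Finite ↥X := by
    rw [hX]
    exact Finite.of_surjective (c.subgroupMap _) (c.subgroupMap_surjective _)
  obtain ⟨y', hy'⟩ : ∃ y' : ↥(Subgroup.normalizer (Q : Set Γ)), (y' : Γ) = y := ⟨⟨y, hyQ⟩, rfl⟩
  have hy'T : y' ∈ Subgroup.normalizer
      ((T.subgroupOf (Subgroup.normalizer (Q : Set Γ)) : Subgroup _) : Set _) := by
    rw [Subgroup.mem_normalizer_iff]
    intro x
    rw [Subgroup.mem_subgroupOf, Subgroup.mem_subgroupOf]
    have := Subgroup.mem_normalizer_iff.1 hyT (x : Γ)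
    simpa [hy'] using this
  have hyX : c y' ∈ Subgroup.normalizer ((X : Subgroup (MulAut (Q →* kˣ))) : Set _) := by
    rw [hX]
    exact Subgroup.le_normalizer_map c ⟨y', hy'T, rfl⟩
  have hy'n : (c y') ^ (n + 1) = 1 := by
    rw [← map_pow]
    have : y' ^ (n + 1) = 1 := by
      apply Subtype.ext
      rw [Subgroup.coe_pow, hy', hyn]
      rfl
    rw [this, map_one]
  have hfree : ∀ i, 0 < i → i < n + 1 → ∀ x ∈ X,
      (c y') ^ i * x * ((c y') ^ i)⁻¹ = x → x = 1 := by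
    intro i hi0 hin x hx hfix
    rw [hX] at hx
    obtain ⟨b, hb, rfl⟩ := hx
    rw [SetLike.mem_coe, Subgroup.mem_subgroupOf] at hb
    rw [hc1]
    apply hfreeT i hi0 hin (b : Γ) hb
    have h1 : c (y' ^ i * b * (y' ^ i)⁻¹ * b⁻¹) = 1 := by
      rw [map_mul, map_mul, map_mul, map_inv, map_inv, map_pow, hfix, mul_inv_cancel]
    have h2 := (hc1 _).1 h1
    intro χ
    have h3 := h2 χ
    simpa [hy'] using h3
  have hXcard : Nat.card X ∣ Nat.card T := by
    rw [hX]
    have h1 := Subgroup.card_map_dvd (T.subgroupOf (Subgroup.normalizer (Q : Set Γ))) c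
    have h2 : Nat.card (T.subgroupOf (Subgroup.normalizer (Q : Set Γ))) = Nat.card T :=
      Nat.card_congr (Subgroup.subgroupOfEquivOfLe hTQ).toEquiv
    rwa [h2] at h1
  have hpowQ : ∀ χ : Q →* kˣ, χ ^ Nat.card Q = 1 := by
    intro χ
    ext e
    rw [MonoidHom.pow_apply, ← map_pow, pow_card_eq_one', map_one, MonoidHom.one_apply]
  have hXU : ∀ χ : Q →* kˣ, χ ^ Nat.card X = 1 → χ = 1 := by
    intro χ h1
    have h2 := hpowQ χ
    refine MonoidHom.ext fun e => ?_
    rw [MonoidHom.one_apply]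
    obtain ⟨v, hv⟩ : ∃ v : kˣ, v = χ e := ⟨_, rfl⟩
    rw [← hv]
    have h1e : v ^ Nat.card X = 1 := by
      rw [hv, ← MonoidHom.pow_apply, h1, MonoidHom.one_apply]
    have h2e : v ^ Nat.card Q = 1 := by
      rw [hv, ← MonoidHom.pow_apply, h2, MonoidHom.one_apply]
    have h3 : orderOf v ∣ 1 := by
      have := Nat.dvd_gcd ((orderOf_dvd_of_pow_eq_one h1e).trans hXcard)
        (orderOf_dvd_of_pow_eq_one h2e)
      rwa [hcop] at this
    exact orderOf_eq_one_iff.1 (Nat.dvd_one.1 h3)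
  have hyi : ∀ g ∈ Q, y⁻¹ * g * y⁻¹⁻¹ ∈ Q := fun g hg =>
    conj_mem_of_mem_normalizer' (Subgroup.inv_mem _ hyQ) hg
  have hQyi : ∀ g ∈ Q, y⁻¹ * g * y⁻¹⁻¹ = g → g = 1 := by
    intro g hg h1
    apply hQy g hg
    rw [inv_inv] at h1
    calc y * g * y⁻¹ = y * (y⁻¹ * g * y) * y⁻¹ := by rw [h1]
      _ = g := by group
  have hfixU : ∀ χ : Q →* kˣ, c y' χ = χ → χ = 1 := by
    intro χ h1
    rw [hcapp] at h1
    ext e
    rw [MonoidHom.one_apply]
    obtain ⟨x, hx, hxe⟩ := exists_eq_inv_mul_conj Q y⁻¹ hyi hQyi (e : Γ) e.2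
    have hmem : y⁻¹ * x * y ∈ Q := by
      have := hyi x hx
      rwa [inv_inv] at this
    have h3 : χ ⟨y⁻¹ * x * y, hmem⟩ = χ ⟨x, hx⟩ := by
      have := congrArg (fun ψ : Q →* kˣ => ψ ⟨x, hx⟩) h1
      simp only [conjChar_apply] at this
      rw [← this]
      congr 1
      apply Subtype.ext
      simp [hy']
    have h4 : e = (⟨x, hx⟩ : Q)⁻¹ * ⟨y⁻¹ * x * y, hmem⟩ := by
      apply Subtype.ext
      rw [hxe]
      simp
    rw [h4, map_mul, map_inv, h3, inv_mul_cancel]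
  have key := frob_trivial_commGroup (U := Q →* kˣ) X (c y') hyX n hy'n hfree hXU hfixU
  intro x hx
  have hxN : x ∈ Subgroup.normalizer (Q : Set Γ) := hTQ hx
  have h1 : c ⟨x, hxN⟩ ∈ X := by
    rw [hX]
    exact ⟨⟨x, hxN⟩, by rw [SetLike.mem_coe, Subgroup.mem_subgroupOf]; exact hx, rfl⟩
  rw [← hc1 ⟨x, hxN⟩]
  ext χ : 1
  rw [MulAut.one_apply]
  exact key _ h1 χ

/-- if `T` fixes all linear characters of `Q` and centralizes the derived subgroup of `Q`, then `T`
centralizes `Q` (coprime action). -/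
theorem centralizes_of_fix_chars (Q T : Subgroup Γ)
    [HasEnoughRootsOfUnity k (Monoid.exponent (Abelianization Q))]
    (hTQ : T ≤ Subgroup.normalizer (Q : Set Γ))
    (hcop : (Nat.card T).Coprime (Nat.card Q))
    (hsolv : Group.IsSolvable T ∨ Group.IsSolvable Q)
    (hcomm : ∀ x ∈ T, ∀ g ∈ (⁅Q, Q⁆ : Subgroup Γ), x * g = g * x)
    (hfix : ∀ x ∈ T, ∀ χ : Q →* kˣ, x ∈ charStab Q χ) :
    ∀ x ∈ T, ∀ g ∈ Q, x * g = g * x := by
  have hQ' : (commutator Q).map Q.subtype = ⁅Q, Q⁆ := by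
    rw [commutator_def, Subgroup.map_commutator]
    have : (⊤ : Subgroup Q).map Q.subtype = Q := by
      rw [← MonoidHom.range_eq_map, Subgroup.range_subtype]
    rw [this]
  -- `[Q, T] ≤ Q'`
  have h1 : ⁅Q, T⁆ ≤ ⁅Q, Q⁆ := by
    rw [Subgroup.commutator_le]
    intro g hg x hx
    have hxN := hTQ hx
    have hmem : x * g⁻¹ * x⁻¹ ∈ Q := conj_mem_of_mem_normalizer' hxN (Q.inv_mem hg)
    have hmem2 : g * (x * g⁻¹ * x⁻¹) ∈ Q := Q.mul_mem hg hmem
    have hc : (⟨g * (x * g⁻¹ * x⁻¹), hmem2⟩ : Q) ∈ commutator Q := by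
      apply mem_commutator_of_chars (k := k)
      intro χ
      obtain ⟨hxN', hχ⟩ := hfix x⁻¹ (T.inv_mem hx) χ
      have h2 := congrArg (fun ψ : Q →* kˣ => ψ ⟨g⁻¹, Q.inv_mem hg⟩) hχ
      simp only [conjChar_apply] at h2
      have h3 : (⟨g * (x * g⁻¹ * x⁻¹), hmem2⟩ : Q) = ⟨g, hg⟩ * ⟨x * g⁻¹ * x⁻¹, hmem⟩ := rfl
      rw [h3, map_mul]
      have h4 : χ ⟨x * g⁻¹ * x⁻¹, hmem⟩ = χ ⟨g⁻¹, Q.inv_mem hg⟩ := by
        rw [← h2]
        congr 1
        apply Subtype.ext
        simp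
      rw [h4, ← map_mul]
      have : (⟨g, hg⟩ : Q) * ⟨g⁻¹, Q.inv_mem hg⟩ = 1 := by
        apply Subtype.ext
        simp
      rw [this, map_one]
    rw [← hQ']
    refine ⟨⟨g * (x * g⁻¹ * x⁻¹), hmem2⟩, hc, ?_⟩
    rw [commutatorElement_def]
    simp [mul_assoc]
  -- `[Q, T, T] = [Q, T]`
  have h2 := Cfsg.Agent.Helper1.coprime_commutator_commutator T Q hTQ hcop hsolv
  -- `[Q', T] = 1`
  have h3 : ⁅(⁅Q, Q⁆ : Subgroup Γ), T⁆ = ⊥ := by
    rw [Subgroup.commutator_eq_bot_iff_le_centralizer]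
    intro g hg
    rw [Subgroup.mem_centralizer_iff]
    intro x hx
    exact hcomm x hx g hg
  have h4 : ⁅Q, T⁆ = ⊥ := by
    rw [← h2]
    apply le_antisymm _ bot_le
    rw [← h3]
    exact Subgroup.commutator_mono h1 le_rfl
  intro x hx g hg
  have h5 : ⁅g, x⁆ ∈ (⁅Q, T⁆ : Subgroup Γ) := Subgroup.commutator_mem_commutator hg hx
  rw [h4, Subgroup.mem_bot, commutatorElement_eq_one_iff_mul_comm] at h5
  exact h5.symm

end Cfsg.Agent.Lead.Fpq
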