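import Cfsg.Agent.Lead.S3fOp
import Cfsg.Agent.Lead.S3fGp

/-!
S4305, case (b): the weights of an abelian normal subgroup.
-/

set_option autoImplicit false
set_option linter.style.haveILetI false

namespace Cfsg.Agent.Lead.S3F

open scoped BigOperators
open Classical

variable {k : Type*} [Field k] {Γ : Type*} [Group Γ] [Fintype Γ]
  {W : Type*} [AddCommGroup W] [Module k W] (ρ : Representation k Γ W)

/-- `χ` is a weight of `N`. -/
def IsWt (N : Subgroup Γ) (χ : N →* kˣ) : Prop := ∃ u ∈ wtSpace ρ N χ, u ≠ 0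

variable (N : Subgroup Γ)

omit [Fintype Γ] in
theorem charStab_conj_inv {χ : N →* kˣ} {a g : Γ} (hg : g ∈ Subgroup.normalizer (N : Set Γ))
    (ha : a ∈ charStab N (conjChar N g hg χ)) : g⁻¹ * a * g ∈ charStab N χ := by
  have hgi : g⁻¹ ∈ Subgroup.normalizer (N : Set Γ) := Subgroup.inv_mem _ hg
  have h1 := conj_mem_charStab ha hgi
  rw [inv_inv] at h1
  have h2 : conjChar N g⁻¹ hgi (conjChar N g hg χ) = χ := by
    rw [← conjChar_mul N g⁻¹ g hgi hg χ]
    have e : g⁻¹ * g = 1 := inv_mul_cancel g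
    rw [conjChar_congr N e, conjChar_one]
  rwa [h2] at h1

variable {σ τ : Γ}

/-- every conjugate of a weight has a non-trivial stabiliser in `⟨σ, τ⟩`. -/
theorem exists_conj_mem_charStab (h : S3Rel σ τ) (hfix : NoFix ρ σ τ)
    (hNk : (Fintype.card N : k) ≠ 0)
    (hσ : σ ∈ Subgroup.normalizer (N : Set Γ)) (hτ : τ ∈ Subgroup.normalizer (N : Set Γ))
    (χ : N →* kˣ) (hχ : IsWt ρ N χ) (g : Γ) (hg : g ∈ Subgroup.normalizer (N : Set Γ)) :
    g⁻¹ * σ * g ∈ charStab N χ ∨ g⁻¹ * τ * g ∈ charStab N χ ∨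
      g⁻¹ * (σ * τ) * g ∈ charStab N χ ∨ g⁻¹ * (σ * σ * τ) * g ∈ charStab N χ := by
  obtain ⟨u, hu, hu0⟩ := hχ
  have hu' : ρ g u ∈ wtSpace ρ N (conjChar N g hg χ) := rho_mem_wtSpace ρ N g hg χ u hu
  have hu0' : ρ g u ≠ 0 := by
    intro h0
    apply hu0
    have := congrArg (ρ g⁻¹) h0
    rwa [rho_rho, inv_mul_cancel, map_one, Module.End.one_apply, map_zero] at this
  rcases exists_mem_charStab ρ h hfix N hNk hσ hτ _ _ hu' hu0' with h1 | h1 | h1 | h1
  · exact Or.inl (charStab_conj_inv N hg h1)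
  · exact Or.inr (Or.inl (charStab_conj_inv N hg h1))
  · exact Or.inr (Or.inr (Or.inl (charStab_conj_inv N hg h1)))
  · exact Or.inr (Or.inr (Or.inr (charStab_conj_inv N hg h1)))

omit [Fintype Γ] in
/-- the stabiliser fixes the values of the character. -/
theorem apply_conj_of_mem_charStab {χ : N →* kˣ} {x : Γ} (hx : x ∈ charStab N χ) (n : N)
    (hn' : x⁻¹ * (n : Γ) * x ∈ N) : χ ⟨x⁻¹ * (n : Γ) * x, hn'⟩ = χ n := by
  obtain ⟨hxn, hxe⟩ := hx
  have := congrArg (fun f : N →* kˣ => f n) hxe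
  simp only [conjChar_apply] at this
  exact this

omit [Fintype Γ] in
/-- an element centralising `N` stabilises every character. -/
theorem mem_charStab_of_commute {χ : N →* kˣ} {x : Γ}
    (hx : ∀ n ∈ N, x * n = n * x) : x ∈ charStab N χ := by
  have hxn : x ∈ Subgroup.normalizer (N : Set Γ) := by
    rw [Subgroup.mem_normalizer_iff]
    intro n
    constructor
    · intro hn
      have : x * n * x⁻¹ = n := by rw [hx n hn]; group
      rw [this]; exact hn
    · intro hn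
      have h1 := hx _ hn
      have h2 : x * n = n * x := by
        have : x * (x * n * x⁻¹) * x⁻¹ = x * n * x⁻¹ := by rw [h1]; group
        calc x * n = x⁻¹ * (x * (x * n * x⁻¹) * x⁻¹) * x * x := by group
          _ = x⁻¹ * (x * n * x⁻¹) * x * x := by rw [this]
          _ = n * x := by group
      have : n = x * n * x⁻¹ := by rw [h2]; group
      rw [this]; exact hn
  exact ⟨hxn, conjChar_of_commute N x hxn hx χ⟩

section complete

variable (hNc : ∀ a ∈ N, ∀ b ∈ N, a * b = b * a) (hNk : (Fintype.card N : k) ≠ 0)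
  [HasEnoughRootsOfUnity k (Monoid.exponent N)]
include hNc hNk

/-- an element of `N` on which all weights are trivial acts trivially. -/
theorem rho_eq_one_of_wt_eq_one (n : N) (hn : ∀ χ : N →* kˣ, IsWt ρ N χ → χ n = 1) :
    ρ (n : Γ) = 1 := by
  ext w
  rw [Module.End.one_apply]
  obtain ⟨S, hS⟩ := exists_wt_decomp ρ N hNc hNk w
  rw [hS, map_sum]
  apply Finset.sum_congr rfl
  intro χ _
  by_cases h0 : wtProj ρ N χ w = 0
  · rw [h0, map_zero]
  · have hmem : wtProj ρ N χ w ∈ wtSpace ρ N χ := wtProj_apply_mem ρ N χ w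
    have hχ : IsWt ρ N χ := ⟨_, hmem, h0⟩
    rw [hmem n, hn χ hχ, Units.val_one, one_smul]

/-- weights exist when `N` acts non-trivially. -/
theorem exists_isWt (hfaith : ∀ n ∈ N, ρ n = 1 → n = 1) (hN : N ≠ ⊥) :
    ∃ χ : N →* kˣ, IsWt ρ N χ := by
  by_contra hno
  push Not at hno
  apply hN
  rw [Subgroup.eq_bot_iff_forall]
  intro n hn
  apply hfaith n hn
  exact rho_eq_one_of_wt_eq_one ρ N hNc hNk ⟨n, hn⟩ (fun χ hχ => absurd hχ (hno χ))

/-- an element stabilising all weights centralises `N`. -/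
theorem commute_of_forall_mem_charStab (hfaith : ∀ n ∈ N, ρ n = 1 → n = 1) {x : Γ}
    (hx : ∀ χ : N →* kˣ, IsWt ρ N χ → x ∈ charStab N χ) :
    ∀ n ∈ N, x * n = n * x := by
  by_cases hN : N = ⊥
  · intro n hn
    rw [hN, Subgroup.mem_bot] at hn
    rw [hn]; simp
  obtain ⟨χ₀, hχ₀⟩ := exists_isWt ρ N hNc hNk hfaith hN
  have hxn : x ∈ Subgroup.normalizer (N : Set Γ) := (hx χ₀ hχ₀).1
  intro n hn
  have hn' : x⁻¹ * n * x ∈ N := conj_mem_of_mem_normalizer hxn ⟨n, hn⟩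
  have hm : n⁻¹ * (x⁻¹ * n * x) ∈ N := N.mul_mem (N.inv_mem hn) hn'
  have h1 : ρ (n⁻¹ * (x⁻¹ * n * x)) = 1 := by
    apply rho_eq_one_of_wt_eq_one ρ N hNc hNk ⟨_, hm⟩
    intro χ hχ
    have h2 := apply_conj_of_mem_charStab N (hx χ hχ) ⟨n, hn⟩ hn'
    have h3 : (⟨n⁻¹ * (x⁻¹ * n * x), hm⟩ : N) = (⟨n, hn⟩ : N)⁻¹ * ⟨x⁻¹ * n * x, hn'⟩ := rfl
    rw [h3, map_mul, map_inv, h2, inv_mul_cancel]
  have h4 := hfaith _ hm h1
  have h5 : x⁻¹ * n * x = n := by
    calc x⁻¹ * n * x = n * (n⁻¹ * (x⁻¹ * n * x)) := by group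
      _ = n := by rw [h4, mul_one]
  calc x * n = x * (x⁻¹ * n * x) := by rw [h5]
    _ = n * x := by group

end complete

omit [Fintype Γ] in
/-- a weight is non-trivial when `N` has no fixed vectors. -/
theorem exists_apply_ne_one (hCW : ∀ w : W, (∀ e ∈ N, ρ e w = w) → w = 0)
    (χ : N →* kˣ) (hχ : IsWt ρ N χ) : ∃ n : N, χ n ≠ 1 := by
  by_contra hno
  push Not at hno
  obtain ⟨u, hu, hu0⟩ := hχ
  apply hu0
  apply hCW
  intro e he
  rw [hu ⟨e, he⟩, hno ⟨e, he⟩, Units.val_one, one_smul]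

omit [Fintype Γ] in
/-- a value of a character whose power prime to `|N|` is trivial is trivial. -/
theorem apply_eq_one_of_pow_eq_one [Finite N] (χ : N →* kˣ) (n : N) {m : ℕ}
    (hm : (Nat.card N).Coprime m) (h : χ n ^ m = 1) : χ n = 1 := by
  have h1 : χ n ^ Nat.card N = 1 := by
    rw [← map_pow, pow_card_eq_one', map_one]
  have h2 : orderOf (χ n) ∣ Nat.card N := orderOf_dvd_of_pow_eq_one h1
  have h3 : orderOf (χ n) ∣ m := orderOf_dvd_of_pow_eq_one h
  have h4 : orderOf (χ n) ∣ 1 := by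
    have := Nat.dvd_gcd h2 h3
    rwa [hm] at this
  exact orderOf_eq_one_iff.1 (Nat.dvd_one.1 h4)

end Cfsg.Agent.Lead.S3F
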