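import Mathlib

/-!
Roots of unity for subgroups of prime power order (toolbox for S4305).
-/

set_option autoImplicit false

namespace Cfsg.Agent.Lead.S3F

open Classical

variable {k : Type*} [Field k] [IsAlgClosed k] {Γ : Type*} [Group Γ] [Fintype Γ]

theorem card_cast_ne_zero_of_isPGroup {q : ℕ} [Fact q.Prime] (hqk : (q : k) ≠ 0)
    (E : Subgroup Γ) (hE : IsPGroup q E) : (Fintype.card E : k) ≠ 0 := by
  obtain ⟨n, hn⟩ := IsPGroup.iff_card.1 hE
  rw [← Nat.card_eq_fintype_card, hn, Nat.cast_pow]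
  exact pow_ne_zero _ hqk

theorem hasEnoughRootsOfUnity_of_isPGroup {q : ℕ} [hq : Fact q.Prime] (hqk : (q : k) ≠ 0)
    (E : Subgroup Γ) (hE : IsPGroup q E) : HasEnoughRootsOfUnity k (Monoid.exponent E) := by
  obtain ⟨n, hn⟩ := IsPGroup.iff_card.1 hE
  have h1 : Monoid.exponent E ∣ q ^ n := by
    rw [← hn]
    exact Group.exponent_dvd_nat_card
  obtain ⟨j, _, hj⟩ := (Nat.dvd_prime_pow hq.out).1 h1
  rw [hj]
  haveI : NeZero (q : k) := ⟨hqk⟩
  infer_instance

end Cfsg.Agent.Lead.S3F
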