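import Mathlib
import Cfsg.Agent.Lead.S3fB2
import Cfsg.Agent.Lead.S3fRt
import Cfsg.Agent.Lead.S3fGp
import Cfsg.Agent.Lead.FpqChar

/-!
Shult–Gross (S3793), linear core: the orbit argument for a cyclic group of prime power order and
the product of the characters of an orbit.
-/

set_option autoImplicit false

namespace Cfsg.Agent.Lead.SG

open Cfsg.Agent.Lead.S3F Cfsg.Agent.Lead.Fpq
open Classical

/-- in a cyclic group of order dividing `p ^ n`, a subgroup containing `x ^ i` contains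
`x ^ (p ^ e)` for some `p ^ e ≤ i`. -/
theorem exists_pow_prime_pow_mem {Γ : Type*} [Group Γ] {p : ℕ} (hp : p.Prime) (S : Subgroup Γ)
    (x : Γ) (n : ℕ) (hx : x ^ (p ^ n) = 1) (i : ℕ) (hi : 0 < i) (hxi : x ^ i ∈ S) :
    ∃ e : ℕ, p ^ e ≤ i ∧ x ^ (p ^ e) ∈ S := by
  obtain ⟨e, d, hd, hie⟩ := Nat.exists_eq_pow_mul_and_not_dvd (n := i) (by omega) p hp.ne_one
  have hd0 : 0 < d := by
    rcases Nat.eq_zero_or_pos d with h | h
    · exfalso; apply hd; rw [h]; exact dvd_zero p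
    · exact h
  refine ⟨e, ?_, ?_⟩
  · rw [hie]; exact Nat.le_mul_of_pos_right _ hd0
  · have hcop : Nat.Coprime d (p ^ n) :=
      Nat.Coprime.pow_right n ((Nat.Prime.coprime_iff_not_dvd hp).2 hd).symm
    by_cases hn1 : p ^ n = 1
    · have : x = 1 := by rw [← pow_one x, ← hn1, hx]
      rw [this, one_pow]; exact S.one_mem
    have hn1' : 1 < p ^ n := by
      have : 0 < p ^ n := pow_pos hp.pos n
      omega
    obtain ⟨d', -, hd'⟩ := Nat.exists_mul_mod_eq_one_of_coprime hcop hn1'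
    have h3 := Nat.div_add_mod (d * d') (p ^ n)
    rw [hd'] at h3
    have h4 : x ^ (p ^ e) = (x ^ i) ^ d' := by
      rw [← pow_mul, hie]
      have e2 : p ^ e * d * d' = p ^ e * (d * d') := by ring
      rw [e2, ← h3, mul_add, pow_add, mul_one]
      have e3 : p ^ e * (p ^ n * (d * d' / p ^ n)) = p ^ n * (p ^ e * (d * d' / p ^ n)) := by ring
      rw [e3, pow_mul, hx, one_pow, one_mul]
    rw [h4]
    exact S.pow_mem hxi d'

/-- the least power of `p` such that `x ^ (p ^ j)` lies in a subgroup. -/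
theorem exists_min_pow_mem {Γ : Type*} [Group Γ] {p : ℕ} (hp : p.Prime) (S : Subgroup Γ)
    (x : Γ) (n : ℕ) (hx : x ^ (p ^ n) = 1) (m : ℕ) (hm : x ^ (p ^ m) ∈ S) :
    ∃ j : ℕ, j ≤ m ∧ x ^ (p ^ j) ∈ S ∧ ∀ i, 0 < i → i < p ^ j → x ^ i ∉ S := by
  classical
  have hex : ∃ j, x ^ (p ^ j) ∈ S := ⟨m, hm⟩
  refine ⟨Nat.find hex, Nat.find_min' hex hm, Nat.find_spec hex, ?_⟩
  intro i hi0 hij hmem
  obtain ⟨e, he, hemem⟩ := exists_pow_prime_pow_mem hp S x n hx i hi0 hmem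
  have h1 : p ^ e < p ^ (Nat.find hex) := lt_of_le_of_lt he hij
  have h2 : e < Nat.find hex := (Nat.pow_lt_pow_iff_right hp.one_lt).1 h1
  exact Nat.find_min hex h2 hemem

section rep

variable {k : Type*} [Field k] {Γ : Type*} [Group Γ] [Fintype Γ]
  {W : Type*} [AddCommGroup W] [Module k W] (ρ : Representation k Γ W)

/-- **The orbit argument** for a cyclic group: a weight vector fixed by `x ^ P`, where the
smaller powers of `x` move the weight, vanishes when `x` has no fixed vectors. -/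
theorem orb_cyc (E : Subgroup Γ) (hE : (Fintype.card E : k) ≠ 0)
    (x : Γ) (hxE : x ∈ Subgroup.normalizer (E : Set Γ)) (hfix : ∀ w : W, ρ x w = w → w = 0)
    (χ : E →* kˣ) (P : ℕ) (hP : 0 < P)
    (hout : ∀ i, 0 < i → i < P → x ^ i ∉ charStab E χ)
    (w : W) (hw : w ∈ wtSpace ρ E χ) (hxw : ρ (x ^ P) w = w) : w = 0 := by
  obtain ⟨v, hv⟩ : ∃ v, v = ∑ i ∈ Finset.range P, ρ (x ^ i) w := ⟨_, rfl⟩
  have hv0 : v = 0 := by
    apply hfix
    rw [hv, map_sum]
    have h1 : ∀ i, ρ x (ρ (x ^ i) w) = ρ (x ^ (i + 1)) w := by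
      intro i
      rw [pow_succ', map_mul]; rfl
    rw [Finset.sum_congr rfl (fun i _ => h1 i)]
    have h2 := Finset.sum_range_succ (fun i => ρ (x ^ i) w) P
    have h3 := Finset.sum_range_succ' (fun i => ρ (x ^ i) w) P
    rw [h2] at h3
    simp only [pow_zero, map_one, Module.End.one_apply] at h3
    rw [hxw] at h3
    exact (add_right_cancel h3).symm
  have hpowE : ∀ i : ℕ, x ^ i ∈ Subgroup.normalizer (E : Set Γ) :=
    fun i => Subgroup.pow_mem _ hxE i
  have h4 : wtProj ρ E χ v = w := by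
    rw [hv, map_sum, Finset.sum_eq_single 0]
    · rw [pow_zero, map_one, Module.End.one_apply]
      exact wtProj_of_mem ρ E hE χ w hw
    · intro i hi hi0
      rw [Finset.mem_range] at hi
      exact wtProj_rho_of_not_mem ρ E hE χ (x ^ i) (hpowE i) (hout i (by omega) hi) w hw
    · intro h
      exact absurd (Finset.mem_range.2 hP) h
  rw [hv0, map_zero] at h4
  exact h4.symm

end rep

section prod

variable {k : Type*} [Field k] {Γ : Type*} [Group Γ]

/-- a character of a group invariant under an automorphism without fixed points is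
trivial. -/
theorem char_eq_one_of_invariant (E : Subgroup Γ) [Finite E] (x : Γ)
    (hxE : x ∈ Subgroup.normalizer (E : Set Γ))
    (hfpf : ∀ e ∈ E, x * e * x⁻¹ = e → e = 1) (ν : E →* kˣ)
    (hν : conjChar E x hxE ν = ν) (z : E) : ν z = 1 := by
  obtain ⟨φ, hφ⟩ : ∃ φ : E → E, ∀ e : E, ((φ e : E) : Γ) = x⁻¹ * (e : Γ) * x * (e : Γ)⁻¹ :=
    ⟨fun e => ⟨x⁻¹ * (e : Γ) * x * (e : Γ)⁻¹,
      E.mul_mem (conj_mem_of_mem_normalizer hxE e) (E.inv_mem e.2)⟩, fun e => rfl⟩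
  have hinj : Function.Injective φ := by
    intro a b hab
    have h1 : x⁻¹ * (a : Γ) * x * (a : Γ)⁻¹ = x⁻¹ * (b : Γ) * x * (b : Γ)⁻¹ := by
      rw [← hφ, ← hφ, hab]
    have hmem : (b : Γ)⁻¹ * (a : Γ) ∈ E := E.mul_mem (E.inv_mem b.2) a.2
    have hb' : x⁻¹ * (b : Γ) * x ∈ E := conj_mem_of_mem_normalizer hxE b
    have ha' : x⁻¹ * (a : Γ) * x ∈ E := conj_mem_of_mem_normalizer hxE a
    have h2 : x⁻¹ * ((b : Γ)⁻¹ * (a : Γ)) * x = (b : Γ)⁻¹ * (a : Γ) := by
      have e1 : x⁻¹ * ((b : Γ)⁻¹ * (a : Γ)) * x = (x⁻¹ * (b : Γ) * x)⁻¹ * (x⁻¹ * (a : Γ) * x) := by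
        group
      have e2 : x⁻¹ * (a : Γ) * x = x⁻¹ * (b : Γ) * x * (b : Γ)⁻¹ * (a : Γ) := by
        calc x⁻¹ * (a : Γ) * x = (x⁻¹ * (a : Γ) * x * (a : Γ)⁻¹) * (a : Γ) := by group
          _ = _ := by rw [h1]
      rw [e1, e2]; group
    have h3 : x * ((b : Γ)⁻¹ * (a : Γ)) * x⁻¹ = (b : Γ)⁻¹ * (a : Γ) := by
      calc x * ((b : Γ)⁻¹ * (a : Γ)) * x⁻¹
          = x * (x⁻¹ * ((b : Γ)⁻¹ * (a : Γ)) * x) * x⁻¹ := by rw [h2]
        _ = _ := by group
    have h4 := hfpf _ hmem h3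
    apply Subtype.ext
    calc (a : Γ) = (b : Γ) * ((b : Γ)⁻¹ * (a : Γ)) := by group
      _ = (b : Γ) := by rw [h4, mul_one]
  have hsurj : Function.Surjective φ := Finite.injective_iff_surjective.1 hinj
  obtain ⟨e, rfl⟩ := hsurj z
  have h5 : φ e = ⟨x⁻¹ * (e : Γ) * x, conj_mem_of_mem_normalizer hxE e⟩ * e⁻¹ := by
    apply Subtype.ext
    rw [hφ]; rfl
  rw [h5, map_mul, map_inv]
  have h6 := congrArg (fun χ : E →* kˣ => χ e) hν
  simp only [conjChar_apply] at h6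
  rw [h6, mul_inv_cancel]

/-- the product of the characters in an orbit of a fixed-point-free automorphism is trivial. -/
theorem prod_orbit_eq_one (E : Subgroup Γ) [Finite E] (x : Γ)
    (hxE : x ∈ Subgroup.normalizer (E : Set Γ))
    (hfpf : ∀ e ∈ E, x * e * x⁻¹ = e → e = 1) (χ : E →* kˣ) (P : ℕ)
    (hP : conjChar E (x ^ P) (Subgroup.pow_mem _ hxE P) χ = χ) (z : E) :
    ∏ i ∈ Finset.range P, conjChar E (x ^ i) (Subgroup.pow_mem _ hxE i) χ z = 1 := by
  obtain ⟨f, hf⟩ : ∃ f : ℕ → (E →* kˣ),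
      ∀ i, f i = conjChar E (x ^ i) (Subgroup.pow_mem _ hxE i) χ := ⟨_, fun _ => rfl⟩
  obtain ⟨ν, hν⟩ : ∃ ν : E →* kˣ, ν = ∏ i ∈ Finset.range P, f i := ⟨_, rfl⟩
  have hstep : ∀ i, conjChar E x hxE (f i) = f (i + 1) := by
    intro i
    rw [hf, hf, ← conjChar_mul E x (x ^ i) hxE (Subgroup.pow_mem _ hxE i) χ]
    exact conjChar_congr E (pow_succ' x i).symm _ χ
  have hinv : conjChar E x hxE ν = ν := by
    have h1 : conjChar E x hxE ν = conjAut (k := k) E ⟨x, hxE⟩ ν := rfl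
    rw [h1, hν, map_prod]
    have h2 : ∀ i ∈ Finset.range P, conjAut (k := k) E ⟨x, hxE⟩ (f i) = f (i + 1) := by
      intro i _
      exact hstep i
    rw [Finset.prod_congr rfl h2]
    have h3 := Finset.prod_range_succ f P
    have h4 := Finset.prod_range_succ' f P
    rw [h3] at h4
    have h5 : f P = f 0 := by
      rw [hf, hf, hP]
      have e0 : x ^ 0 = 1 := pow_zero x
      rw [conjChar_congr E e0, conjChar_one]
    rw [h5] at h4
    exact (mul_right_cancel h4).symm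
  have h6 := char_eq_one_of_invariant E x hxE hfpf ν hinv z
  rw [hν, MonoidHom.finsetProd_apply] at h6
  rw [← h6]
  apply Finset.prod_congr rfl
  intro i _
  rw [hf]

end prod

end Cfsg.Agent.Lead.SG
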