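import Mathlib

/-!
Shult–Gross (S3793), linear core: the subgroup of the elements of `Q` commuting with `Q` on an
invariant subspace.
-/

set_option autoImplicit false

namespace Cfsg.Agent.Lead.SG

variable {k : Type*} [Field k] {Γ : Type*} [Group Γ]
  {W : Type*} [AddCommGroup W] [Module k W] (ρ : Representation k Γ W)

theorem rho_inv_apply (g : Γ) (w : W) : ρ g⁻¹ (ρ g w) = w := by
  rw [← Module.End.mul_apply, ← map_mul, inv_mul_cancel, map_one, Module.End.one_apply]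

theorem rho_apply_inv (g : Γ) (w : W) : ρ g (ρ g⁻¹ w) = w := by
  rw [← Module.End.mul_apply, ← map_mul, mul_inv_cancel, map_one, Module.End.one_apply]

/-- the elements of `Q` whose action on the `Q`-invariant subspace `M` commutes with that of
`Q`. -/
def commSub (Q : Subgroup Γ) (M : Submodule k W) (hMQ : ∀ g ∈ Q, ∀ w ∈ M, ρ g w ∈ M) :
    Subgroup Γ where
  carrier := {g | g ∈ Q ∧ ∀ h ∈ Q, ∀ w ∈ M, ρ g (ρ h w) = ρ h (ρ g w)}
  one_mem' := ⟨Q.one_mem, fun h _ w _ => by rw [map_one, Module.End.one_apply,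
    Module.End.one_apply]⟩
  mul_mem' := by
    rintro a b ⟨ha, ha'⟩ ⟨hb, hb'⟩
    refine ⟨Q.mul_mem ha hb, ?_⟩
    intro h hh w hw
    rw [map_mul, Module.End.mul_apply, Module.End.mul_apply, hb' h hh w hw,
      ha' h hh _ (hMQ b hb w hw)]
  inv_mem' := by
    rintro a ⟨ha, ha'⟩
    refine ⟨Q.inv_mem ha, ?_⟩
    intro h hh w hw
    have h1 := ha' h hh (ρ a⁻¹ w) (hMQ a⁻¹ (Q.inv_mem ha) w hw)
    rw [rho_apply_inv] at h1
    rw [← h1, rho_inv_apply]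

theorem mem_commSub {Q : Subgroup Γ} {M : Submodule k W} {hMQ : ∀ g ∈ Q, ∀ w ∈ M, ρ g w ∈ M}
    {g : Γ} : g ∈ commSub ρ Q M hMQ ↔
      g ∈ Q ∧ ∀ h ∈ Q, ∀ w ∈ M, ρ g (ρ h w) = ρ h (ρ g w) := Iff.rfl

theorem commSub_le (Q : Subgroup Γ) (M : Submodule k W) (hMQ : ∀ g ∈ Q, ∀ w ∈ M, ρ g w ∈ M) :
    commSub ρ Q M hMQ ≤ Q := fun _ hg => hg.1

/-- membership in terms of commutators. -/
theorem mem_commSub_iff (Q : Subgroup Γ) (M : Submodule k W)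
    (hMQ : ∀ g ∈ Q, ∀ w ∈ M, ρ g w ∈ M) (g : Γ) :
    g ∈ commSub ρ Q M hMQ ↔
      g ∈ Q ∧ ∀ h ∈ Q, ∀ w ∈ M, ρ (g * h * g⁻¹ * h⁻¹) w = w := by
  rw [mem_commSub]
  constructor
  · rintro ⟨hg, hc⟩
    refine ⟨hg, ?_⟩
    intro h hh w hw
    have hw' : ρ g⁻¹ (ρ h⁻¹ w) ∈ M :=
      hMQ _ (Q.inv_mem hg) _ (hMQ _ (Q.inv_mem hh) w hw)
    have h1 := hc h hh _ hw'
    rw [rho_apply_inv, rho_apply_inv] at h1
    rw [map_mul, map_mul, map_mul, Module.End.mul_apply, Module.End.mul_apply,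
      Module.End.mul_apply]
    exact h1
  · rintro ⟨hg, hc⟩
    refine ⟨hg, ?_⟩
    intro h hh w hw
    have hw' : ρ h (ρ g w) ∈ M := hMQ _ hh _ (hMQ _ hg w hw)
    have h1 := hc h hh _ hw'
    rw [← Module.End.mul_apply, ← map_mul, ← Module.End.mul_apply, ← map_mul] at h1
    have e : g * h * g⁻¹ * h⁻¹ * h * g = g * h := by group
    rw [e, map_mul, Module.End.mul_apply] at h1
    exact h1

/-- the commuting subgroup is stable under conjugation by an element normalizing `Q` and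
stabilizing `M`. -/
theorem conj_mem_commSub (Q : Subgroup Γ) (M : Submodule k W)
    (hMQ : ∀ g ∈ Q, ∀ w ∈ M, ρ g w ∈ M) (t : Γ) (htQ : ∀ g ∈ Q, t * g * t⁻¹ ∈ Q)
    (htQ' : ∀ g ∈ Q, t⁻¹ * g * t ∈ Q)
    (htM' : ∀ w ∈ M, ρ t⁻¹ w ∈ M) (g : Γ) (hg : g ∈ commSub ρ Q M hMQ) :
    t * g * t⁻¹ ∈ commSub ρ Q M hMQ := by
  obtain ⟨hgQ, hc⟩ := hg
  refine ⟨htQ g hgQ, ?_⟩
  intro h hh w hw
  have h1 := hc (t⁻¹ * h * t) (htQ' h hh) (ρ t⁻¹ w) (htM' w hw)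
  -- apply ρ t to both sides
  have h2 := congrArg (ρ t) h1
  have e1 : ρ (t * g * t⁻¹) (ρ h w) = ρ t (ρ g (ρ (t⁻¹ * h * t) (ρ t⁻¹ w))) := by
    simp only [← Module.End.mul_apply, ← map_mul]
    congr 2
    group
  have e2 : ρ h (ρ (t * g * t⁻¹) w) = ρ t (ρ (t⁻¹ * h * t) (ρ g (ρ t⁻¹ w))) := by
    simp only [← Module.End.mul_apply, ← map_mul]
    congr 2
    group
  rw [e1, e2, h2]

end Cfsg.Agent.Lead.SG
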