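import Mathlib
import Cfsg.Prelude.Def_Sporadic_a

set_option autoImplicit false

namespace Cfsg.Agent.Lead.Steiner

open Finset

variable {α : Type*} [Fintype α] [DecidableEq α]

/-- The number of `T` with `s ⊆ T ⊆ b` and `|T| = t`. -/
theorem card_between (s b : Finset α) (hsb : s ⊆ b) (t : ℕ) (hst : s.card ≤ t) :
    ((b.powerset).filter (fun T => s ⊆ T ∧ T.card = t)).card
      = Nat.choose (b.card - s.card) (t - s.card) := by
  rw [← Finset.card_sdiff_of_subset hsb, ← Finset.card_powersetCard]
  apply Finset.card_nbij' (fun T => T \ s) (fun U => U ∪ s)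
  · intro T hT
    rw [Finset.mem_coe, Finset.mem_filter, Finset.mem_powerset] at hT
    rw [Finset.mem_coe, Finset.mem_powersetCard]
    refine ⟨Finset.sdiff_subset_sdiff hT.1 (subset_refl _), ?_⟩
    rw [Finset.card_sdiff_of_subset hT.2.1, hT.2.2]
  · intro U hU
    rw [Finset.mem_coe, Finset.mem_powersetCard] at hU
    rw [Finset.mem_coe, Finset.mem_filter, Finset.mem_powerset]
    refine ⟨Finset.union_subset (hU.1.trans Finset.sdiff_subset) hsb, Finset.subset_union_right, ?_⟩
    rw [Finset.card_union_of_disjoint, hU.2]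
    · omega
    · exact Finset.disjoint_of_subset_left hU.1 Finset.sdiff_disjoint
  · intro T hT
    rw [Finset.mem_coe, Finset.mem_filter, Finset.mem_powerset] at hT
    exact Finset.sdiff_union_of_subset hT.2.1
  · intro U hU
    rw [Finset.mem_coe, Finset.mem_powersetCard] at hU
    have : Disjoint U s := Finset.disjoint_of_subset_left hU.1 Finset.sdiff_disjoint
    exact Finset.union_sdiff_cancel_right this

/-- The finset of blocks. -/
noncomputable def blocks (B : Set (Finset α)) : Finset (Finset α) := by
  classical exact Finset.univ.filter (· ∈ B)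

@[simp] theorem mem_blocks {B : Set (Finset α)} {b : Finset α} : b ∈ blocks B ↔ b ∈ B := by
  classical
  simp [blocks]

theorem ncard_eq (B : Set (Finset α)) : B.ncard = (blocks B).card := by
  rw [← Set.ncard_coe_finset]
  congr 1
  ext b; simp

theorem ncard_filter_eq (B : Set (Finset α)) (P : Finset α → Prop) [DecidablePred P] :
    {c : Finset α | c ∈ B ∧ P c}.ncard = ((blocks B).filter P).card := by
  rw [← Set.ncard_coe_finset]
  congr 1
  ext b; simp

variable {t k : ℕ} {B : Set (Finset α)}

/-- the number of blocks through an `i`-set. -/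
theorem blocks_through (hB : Cfsg.IsSteinerSystem t k B) (s : Finset α) (hst : s.card ≤ t) :
    ((blocks B).filter (fun b => s ⊆ b)).card * Nat.choose (k - s.card) (t - s.card)
      = Nat.choose (Fintype.card α - s.card) (t - s.card) := by
  classical
  set 𝒯 : Finset (Finset α) := (Finset.univ : Finset α).powerset.filter (fun T => s ⊆ T ∧ T.card = t)
    with h𝒯
  set ℬ : Finset (Finset α) := (blocks B).filter (fun b => s ⊆ b) with hℬ
  have h1 := Finset.sum_card_bipartiteAbove_eq_sum_card_bipartiteBelow (s := ℬ) (t := 𝒯)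
    (fun b T => T ⊆ b)
  have h2 : ∀ b ∈ ℬ, (𝒯.bipartiteAbove (fun b T => T ⊆ b) b).card
      = Nat.choose (k - s.card) (t - s.card) := by
    intro b hb
    rw [hℬ, mem_filter, mem_blocks] at hb
    rw [← hB.1 b hb.1, ← card_between s b hb.2 t hst]
    congr 1
    ext T
    simp only [bipartiteAbove, h𝒯, mem_filter, mem_powerset, subset_univ, true_and]
    tauto
  have h3 : ∀ T ∈ 𝒯, (ℬ.bipartiteBelow (fun b T => T ⊆ b) T).card = 1 := by
    intro T hT
    rw [h𝒯, mem_filter] at hT
    obtain ⟨b, ⟨hbB, hTb⟩, huniq⟩ := hB.2 T hT.2.2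
    rw [Finset.card_eq_one]
    refine ⟨b, ?_⟩
    ext c
    simp only [bipartiteBelow, hℬ, mem_filter, mem_blocks, mem_singleton]
    constructor
    · rintro ⟨⟨hc, -⟩, hTc⟩
      exact huniq c ⟨hc, hTc⟩
    · rintro rfl
      exact ⟨⟨hbB, hT.2.1.trans hTb⟩, hTb⟩
  rw [Finset.sum_congr rfl h2, Finset.sum_congr rfl h3] at h1
  simp only [sum_const, smul_eq_mul, mul_one] at h1
  rw [h1, h𝒯, card_between s _ (subset_univ _) t hst, Finset.card_univ]


/-- Two blocks sharing `t` points coincide. -/
theorem eq_of_le_card_inter (hB : Cfsg.IsSteinerSystem t k B) {b c : Finset α} (hb : b ∈ B)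
    (hc : c ∈ B) (h : t ≤ (b ∩ c).card) : b = c := by
  obtain ⟨s, hs, hst⟩ := Finset.exists_subset_card_eq h
  obtain ⟨d, -, huniq⟩ := hB.2 s hst
  rw [huniq b ⟨hb, hs.trans Finset.inter_subset_left⟩,
    huniq c ⟨hc, hs.trans Finset.inter_subset_right⟩]

/-- Fiberwise rewriting of a sum. -/
theorem sum_fiberwise_card {ι : Type*} (S : Finset ι) (g : ι → ℕ) (f : ℕ → ℕ) (m : ℕ)
    (hg : ∀ c ∈ S, g c ≤ m) :
    ∑ c ∈ S, f (g c) = ∑ j ∈ Finset.range (m + 1), (S.filter (fun c => g c = j)).card * f j := by
  rw [← Finset.sum_fiberwise_of_maps_to (s := S) (t := Finset.range (m + 1)) (g := g)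
    (fun c hc => Finset.mem_range.mpr (Nat.lt_succ_of_le (hg c hc)))]
  refine Finset.sum_congr rfl fun j _ => ?_
  rw [Finset.sum_congr rfl (g := fun _ => f j), Finset.sum_const, smul_eq_mul]
  intro c hc
  rw [(Finset.mem_filter.mp hc).2]

/-- The basic double count with an arbitrary finite set `Y`. -/
theorem sum_choose_inter (Y : Finset α) (i lam : ℕ)
    (hlam : ∀ s : Finset α, s.card = i → ((blocks B).filter (fun b => s ⊆ b)).card = lam) :
    ∑ c ∈ blocks B, Nat.choose (c ∩ Y).card i = Nat.choose Y.card i * lam := by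
  classical
  have h1 := Finset.sum_card_bipartiteAbove_eq_sum_card_bipartiteBelow (s := blocks B)
    (t := Finset.powersetCard i Y) (fun c s => s ⊆ c)
  have h2 : ∀ c ∈ blocks B, ((Finset.powersetCard i Y).bipartiteAbove (fun c s => s ⊆ c) c).card
      = Nat.choose (c ∩ Y).card i := by
    intro c _
    rw [← Finset.card_powersetCard]
    congr 1
    ext s
    simp only [bipartiteAbove, mem_filter, mem_powersetCard, Finset.subset_inter_iff]
    tauto
  have h3 : ∀ s ∈ Finset.powersetCard i Y,
      ((blocks B).bipartiteBelow (fun c s => s ⊆ c) s).card = lam := by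
    intro s hs
    rw [Finset.mem_powersetCard] at hs
    rw [← hlam s hs.2]
    rfl
  rw [Finset.sum_congr rfl h2, Finset.sum_congr rfl h3] at h1
  rw [h1, Finset.sum_const, smul_eq_mul, Finset.card_powersetCard]

/-- The intersection equations. -/
theorem inter_eqn (Y : Finset α) (i lam : ℕ)
    (hlam : ∀ s : Finset α, s.card = i → ((blocks B).filter (fun b => s ⊆ b)).card = lam) :
    ∑ j ∈ Finset.range (Y.card + 1),
        ((blocks B).filter (fun c => (c ∩ Y).card = j)).card * Nat.choose j i
      = Nat.choose Y.card i * lam := by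
  rw [← sum_choose_inter Y i lam hlam]
  exact (sum_fiberwise_card (blocks B) (fun c => (c ∩ Y).card) (fun j => Nat.choose j i) Y.card
    (fun c _ => Finset.card_le_card Finset.inter_subset_right)).symm

/-- No block other than `b` meets `b` in at least `t` points. -/
theorem filter_inter_card_eq_zero (hB : Cfsg.IsSteinerSystem t k B) {b : Finset α} (hb : b ∈ B)
    (j : ℕ) (htj : t ≤ j) (hjk : j ≠ k) :
    ((blocks B).filter (fun c => (c ∩ b).card = j)).card = 0 := by
  rw [Finset.card_eq_zero, Finset.filter_eq_empty_iff]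
  intro c hc hcj
  rw [mem_blocks] at hc
  have := eq_of_le_card_inter hB hc hb (by omega)
  subst this
  rw [Finset.inter_self, hB.1 c hc] at hcj
  exact hjk hcj.symm

theorem filter_inter_card_eq_one (hB : Cfsg.IsSteinerSystem t k B) {b : Finset α} (hb : b ∈ B)
    (htk : t ≤ k) :
    ((blocks B).filter (fun c => (c ∩ b).card = k)).card = 1 := by
  rw [Finset.card_eq_one]
  refine ⟨b, ?_⟩
  ext c
  rw [Finset.mem_filter, mem_blocks, Finset.mem_singleton]
  constructor
  · rintro ⟨hc, hck⟩
    exact eq_of_le_card_inter hB hc hb (by omega)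
  · rintro rfl
    exact ⟨hb, by rw [Finset.inter_self, hB.1 c hb]⟩


/-- Determination of the number of blocks through an `i`-set from the parameters. -/
theorem lam_eq (hB : Cfsg.IsSteinerSystem t k B) (i lam : ℕ) (hi : i ≤ t)
    (h : lam * Nat.choose (k - i) (t - i) = Nat.choose (Fintype.card α - i) (t - i))
    (hpos : 0 < Nat.choose (k - i) (t - i)) :
    ∀ s : Finset α, s.card = i → ((blocks B).filter (fun b => s ⊆ b)).card = lam := by
  intro s hs
  have h1 := blocks_through hB s (by omega)
  rw [hs, ← h] at h1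
  exact Nat.eq_of_mul_eq_mul_right hpos h1

/-- The total count of blocks. -/
theorem ncard_mul_choose (hB : Cfsg.IsSteinerSystem t k B) :
    B.ncard * Nat.choose k t = Nat.choose (Fintype.card α) t := by
  have h1 := blocks_through hB ∅ (by simp)
  simp only [Finset.card_empty, Nat.sub_zero, Finset.empty_subset, Finset.filter_true] at h1
  rw [ncard_eq]
  convert h1 using 3

end Cfsg.Agent.Lead.Steiner
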