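import Mathlib
import Cfsg.Agent.Lead.Steiner

set_option autoImplicit false

namespace Cfsg.Agent.Lead.Steiner

open Finset

variable {α : Type*} [Fintype α] [DecidableEq α] {B : Set (Finset α)}

/-- `y B b j` : the number of blocks meeting `b` in exactly `j` points. -/
noncomputable def y (B : Set (Finset α)) (b : Finset α) (j : ℕ) : ℕ :=
  ((blocks B).filter (fun c => (c ∩ b).card = j)).card

theorem y_pos {b c : Finset α} (hc : c ∈ B) : 0 < y B b (c ∩ b).card := by
  unfold y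
  rw [Finset.card_pos]
  exact ⟨c, by simp [hc]⟩

theorem y_eqn (Y : Finset α) (i lam : ℕ)
    (hlam : ∀ s : Finset α, s.card = i → ((blocks B).filter (fun b => s ⊆ b)).card = lam) :
    ∑ j ∈ Finset.range (Y.card + 1), y B Y j * Nat.choose j i = Nat.choose Y.card i * lam :=
  inter_eqn Y i lam hlam

theorem numbers_5_8_24 (hα : Fintype.card α = 24) (hB : Cfsg.IsSteinerSystem 5 8 B)
    {b : Finset α} (hb : b ∈ B) :
    y B b 0 = 30 ∧ y B b 1 = 0 ∧ y B b 2 = 448 ∧ y B b 3 = 0 ∧ y B b 4 = 280 := by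
  have hbc : b.card = 8 := hB.1 b hb
  have h5 : y B b 5 = 0 := filter_inter_card_eq_zero hB hb 5 (by omega) (by omega)
  have h6 : y B b 6 = 0 := filter_inter_card_eq_zero hB hb 6 (by omega) (by omega)
  have h7 : y B b 7 = 0 := filter_inter_card_eq_zero hB hb 7 (by omega) (by omega)
  have h8 : y B b 8 = 1 := filter_inter_card_eq_one hB hb (by omega)
  have e0 := y_eqn (B := B) b 0 759 (lam_eq hB 0 759 (by omega) (by rw [hα]; decide) (by decide))
  have e1 := y_eqn (B := B) b 1 253 (lam_eq hB 1 253 (by omega) (by rw [hα]; decide) (by decide))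
  have e2 := y_eqn (B := B) b 2 77 (lam_eq hB 2 77 (by omega) (by rw [hα]; decide) (by decide))
  have e3 := y_eqn (B := B) b 3 21 (lam_eq hB 3 21 (by omega) (by rw [hα]; decide) (by decide))
  have e4 := y_eqn (B := B) b 4 5 (lam_eq hB 4 5 (by omega) (by rw [hα]; decide) (by decide))
  rw [hbc] at e0 e1 e2 e3 e4
  simp only [Finset.sum_range_succ, Finset.sum_range_zero] at e0 e1 e2 e3 e4
  norm_num [Nat.choose] at e0 e1 e2 e3 e4
  omega


theorem numbers_4_7_23 (hα : Fintype.card α = 23) (hB : Cfsg.IsSteinerSystem 4 7 B)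
    {b : Finset α} (hb : b ∈ B) :
    y B b 0 = 0 ∧ y B b 1 = 112 ∧ y B b 2 = 0 ∧ y B b 3 = 140 := by
  have hbc : b.card = 7 := hB.1 b hb
  have h4 : y B b 4 = 0 := filter_inter_card_eq_zero hB hb 4 (by omega) (by omega)
  have h5 : y B b 5 = 0 := filter_inter_card_eq_zero hB hb 5 (by omega) (by omega)
  have h6 : y B b 6 = 0 := filter_inter_card_eq_zero hB hb 6 (by omega) (by omega)
  have h7 : y B b 7 = 1 := filter_inter_card_eq_one hB hb (by omega)
  have e0 := y_eqn (B := B) b 0 253 (lam_eq hB 0 253 (by omega) (by rw [hα]; decide) (by decide))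
  have e1 := y_eqn (B := B) b 1 77 (lam_eq hB 1 77 (by omega) (by rw [hα]; decide) (by decide))
  have e2 := y_eqn (B := B) b 2 21 (lam_eq hB 2 21 (by omega) (by rw [hα]; decide) (by decide))
  have e3 := y_eqn (B := B) b 3 5 (lam_eq hB 3 5 (by omega) (by rw [hα]; decide) (by decide))
  rw [hbc] at e0 e1 e2 e3
  simp only [Finset.sum_range_succ, Finset.sum_range_zero] at e0 e1 e2 e3
  norm_num [Nat.choose] at e0 e1 e2 e3
  omega

theorem numbers_3_6_22 (hα : Fintype.card α = 22) (hB : Cfsg.IsSteinerSystem 3 6 B)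
    {b : Finset α} (hb : b ∈ B) :
    y B b 0 = 16 ∧ y B b 1 = 0 ∧ y B b 2 = 60 := by
  have hbc : b.card = 6 := hB.1 b hb
  have h3 : y B b 3 = 0 := filter_inter_card_eq_zero hB hb 3 (by omega) (by omega)
  have h4 : y B b 4 = 0 := filter_inter_card_eq_zero hB hb 4 (by omega) (by omega)
  have h5 : y B b 5 = 0 := filter_inter_card_eq_zero hB hb 5 (by omega) (by omega)
  have h6 : y B b 6 = 1 := filter_inter_card_eq_one hB hb (by omega)
  have e0 := y_eqn (B := B) b 0 77 (lam_eq hB 0 77 (by omega) (by rw [hα]; decide) (by decide))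
  have e1 := y_eqn (B := B) b 1 21 (lam_eq hB 1 21 (by omega) (by rw [hα]; decide) (by decide))
  have e2 := y_eqn (B := B) b 2 5 (lam_eq hB 2 5 (by omega) (by rw [hα]; decide) (by decide))
  rw [hbc] at e0 e1 e2
  simp only [Finset.sum_range_succ, Finset.sum_range_zero] at e0 e1 e2
  norm_num [Nat.choose] at e0 e1 e2
  omega

theorem numbers_5_6_12 (hα : Fintype.card α = 12) (hB : Cfsg.IsSteinerSystem 5 6 B)
    {b : Finset α} (hb : b ∈ B) :
    y B b 0 = 1 ∧ y B b 1 = 0 ∧ y B b 2 = 45 ∧ y B b 3 = 40 ∧ y B b 4 = 45 := by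
  have hbc : b.card = 6 := hB.1 b hb
  have h5 : y B b 5 = 0 := filter_inter_card_eq_zero hB hb 5 (by omega) (by omega)
  have h6 : y B b 6 = 1 := filter_inter_card_eq_one hB hb (by omega)
  have e0 := y_eqn (B := B) b 0 132 (lam_eq hB 0 132 (by omega) (by rw [hα]; decide) (by decide))
  have e1 := y_eqn (B := B) b 1 66 (lam_eq hB 1 66 (by omega) (by rw [hα]; decide) (by decide))
  have e2 := y_eqn (B := B) b 2 30 (lam_eq hB 2 30 (by omega) (by rw [hα]; decide) (by decide))
  have e3 := y_eqn (B := B) b 3 12 (lam_eq hB 3 12 (by omega) (by rw [hα]; decide) (by decide))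
  have e4 := y_eqn (B := B) b 4 4 (lam_eq hB 4 4 (by omega) (by rw [hα]; decide) (by decide))
  rw [hbc] at e0 e1 e2 e3 e4
  simp only [Finset.sum_range_succ, Finset.sum_range_zero] at e0 e1 e2 e3 e4
  norm_num [Nat.choose] at e0 e1 e2 e3 e4
  omega

/-- intersection sizes in S(5,8,24) -/
theorem inter_5_8_24 (hα : Fintype.card α = 24) (hB : Cfsg.IsSteinerSystem 5 8 B)
    {b c : Finset α} (hb : b ∈ B) (hc : c ∈ B) (hbc : b ≠ c) :
    (b ∩ c).card = 0 ∨ (b ∩ c).card = 2 ∨ (b ∩ c).card = 4 := by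
  obtain ⟨h0, h1, h2, h3, h4⟩ := numbers_5_8_24 hα hB hb
  have hpos := y_pos (B := B) (b := b) hc
  have hlt : (c ∩ b).card < 5 := by
    by_contra hcon
    exact hbc (eq_of_le_card_inter hB hc hb (by omega)).symm
  rw [Finset.inter_comm b c]
  obtain ⟨j, hj⟩ : ∃ j, j = (c ∩ b).card := ⟨_, rfl⟩
  rw [← hj] at hpos hlt ⊢
  interval_cases j <;> simp_all

theorem inter_4_7_23 (hα : Fintype.card α = 23) (hB : Cfsg.IsSteinerSystem 4 7 B)
    {b c : Finset α} (hb : b ∈ B) (hc : c ∈ B) (hbc : b ≠ c) :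
    (b ∩ c).card = 1 ∨ (b ∩ c).card = 3 := by
  obtain ⟨h0, h1, h2, h3⟩ := numbers_4_7_23 hα hB hb
  have hpos := y_pos (B := B) (b := b) hc
  have hlt : (c ∩ b).card < 4 := by
    by_contra hcon
    exact hbc (eq_of_le_card_inter hB hc hb (by omega)).symm
  rw [Finset.inter_comm b c]
  obtain ⟨j, hj⟩ : ∃ j, j = (c ∩ b).card := ⟨_, rfl⟩
  rw [← hj] at hpos hlt ⊢
  interval_cases j <;> simp_all

theorem inter_3_6_22 (hα : Fintype.card α = 22) (hB : Cfsg.IsSteinerSystem 3 6 B)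
    {b c : Finset α} (hb : b ∈ B) (hc : c ∈ B) (hbc : b ≠ c) :
    (b ∩ c).card = 0 ∨ (b ∩ c).card = 2 := by
  obtain ⟨h0, h1, h2⟩ := numbers_3_6_22 hα hB hb
  have hpos := y_pos (B := B) (b := b) hc
  have hlt : (c ∩ b).card < 3 := by
    by_contra hcon
    exact hbc (eq_of_le_card_inter hB hc hb (by omega)).symm
  rw [Finset.inter_comm b c]
  obtain ⟨j, hj⟩ : ∃ j, j = (c ∩ b).card := ⟨_, rfl⟩
  rw [← hj] at hpos hlt ⊢
  interval_cases j <;> simp_all

/-- number of blocks disjoint from a block in S(5,8,24) -/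
theorem disjoint_5_8_24 (hα : Fintype.card α = 24) (hB : Cfsg.IsSteinerSystem 5 8 B)
    {b : Finset α} (hb : b ∈ B) :
    {c : Finset α | c ∈ B ∧ Disjoint b c}.ncard = 30 := by
  classical
  rw [ncard_filter_eq, ← (numbers_5_8_24 hα hB hb).1]
  unfold y
  congr 1
  ext c
  simp only [Finset.mem_filter, Finset.card_eq_zero, Finset.disjoint_iff_inter_eq_empty,
    Finset.inter_comm b c]

/-- complement of a block in S(5,6,12) -/
theorem compl_mem_5_6_12 (hα : Fintype.card α = 12) (hB : Cfsg.IsSteinerSystem 5 6 B)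
    {b : Finset α} (hb : b ∈ B) : bᶜ ∈ B := by
  have h0 := (numbers_5_6_12 hα hB hb).1
  unfold y at h0
  rw [Finset.card_eq_one] at h0
  obtain ⟨c, hc⟩ := h0
  have hcm : c ∈ (blocks B).filter (fun c => (c ∩ b).card = 0) := by rw [hc]; simp
  rw [Finset.mem_filter, mem_blocks, Finset.card_eq_zero, ← Finset.disjoint_iff_inter_eq_empty]
    at hcm
  have hsub : c ⊆ bᶜ := by
    intro x hx
    rw [Finset.mem_compl]
    exact fun hxb => (Finset.disjoint_left.mp hcm.2 hx hxb)
  have hcard : bᶜ.card = c.card := by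
    rw [Finset.card_compl, hα, hB.1 b hb, hB.1 c hcm.1]
  rw [← Finset.eq_of_subset_of_card_le hsub hcard.le]
  exact hcm.1


theorem ncard_eq_y (B : Set (Finset α)) (Y : Finset α) (j : ℕ) :
    {b : Finset α | b ∈ B ∧ (b ∩ Y).card = j}.ncard = y B Y j := by
  classical
  rw [ncard_filter_eq]
  rfl

theorem three_set_5_8_24 (hα : Fintype.card α = 24) (hB : Cfsg.IsSteinerSystem 5 8 B)
    (Y : Finset α) (hY : Y.card = 3) :
    y B Y 3 = 21 ∧ y B Y 2 = 168 ∧ y B Y 1 = 360 ∧ y B Y 0 = 210 := by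
  have e0 := y_eqn (B := B) Y 0 759 (lam_eq hB 0 759 (by omega) (by rw [hα]; decide) (by decide))
  have e1 := y_eqn (B := B) Y 1 253 (lam_eq hB 1 253 (by omega) (by rw [hα]; decide) (by decide))
  have e2 := y_eqn (B := B) Y 2 77 (lam_eq hB 2 77 (by omega) (by rw [hα]; decide) (by decide))
  have e3 := y_eqn (B := B) Y 3 21 (lam_eq hB 3 21 (by omega) (by rw [hα]; decide) (by decide))
  rw [hY] at e0 e1 e2 e3
  simp only [Finset.sum_range_succ, Finset.sum_range_zero] at e0 e1 e2 e3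
  norm_num [Nat.choose] at e0 e1 e2 e3
  omega

end Cfsg.Agent.Lead.Steiner
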