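import Mathlib
import Cfsg.Agent.Lead.SteinerNumbers

set_option autoImplicit false

namespace Cfsg.Agent.Lead.Steiner

open Finset

variable {α : Type*} [Fintype α] [DecidableEq α] {B : Set (Finset α)}

omit [Fintype α] in
theorem card_inter_split (e b c : Finset α) :
    (e ∩ b).card = (e ∩ (b \ c)).card + (e ∩ (b ∩ c)).card := by
  rw [← Finset.card_union_of_disjoint]
  · congr 1
    ext z
    simp only [mem_inter, mem_union, mem_sdiff]
    tauto
  · rw [Finset.disjoint_left]
    intro z hz1 hz2
    simp only [mem_inter, mem_sdiff] at hz1 hz2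
    exact hz1.2.2 hz2.2.2

theorem symmDiff_mem_5_8_24 (hα : Fintype.card α = 24) (hB : Cfsg.IsSteinerSystem 5 8 B)
    {b c : Finset α} (hb : b ∈ B) (hc : c ∈ B) (h4 : (b ∩ c).card = 4) : symmDiff b c ∈ B := by
  classical
  by_contra hcon
  have hbc8 : b.card = 8 := hB.1 b hb
  have hcc8 : c.card = 8 := hB.1 c hc
  have ht4 : (b \ c).card = 4 := by
    have := Finset.card_sdiff_add_card_inter b c; omega
  have hu4 : (c \ b).card = 4 := by
    have := Finset.card_sdiff_add_card_inter c b; rw [Finset.inter_comm] at this; omega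
  have step2 : ∀ d ∈ B, b \ c ⊆ d → ∀ x ∈ c \ b, x ∈ d →
      d ∩ b = b \ c ∧ (d ∩ (c \ b)).card = 2 := by
    intro d hd htd x hxu hxd
    have hdb : d ≠ b := by rintro rfl; exact (mem_sdiff.mp hxu).2 hxd
    have h1 : (d ∩ b).card = 4 := by
      have h := inter_5_8_24 hα hB hd hb hdb
      have h' : 4 ≤ (d ∩ b).card := ht4 ▸ card_le_card (subset_inter htd sdiff_subset)
      have h'' : (d ∩ b).card < 5 := by
        by_contra hge
        exact hdb (eq_of_le_card_inter hB hd hb (by omega))
      omega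
    have h2 : d ∩ b = b \ c :=
      (eq_of_subset_of_card_le (subset_inter htd sdiff_subset) (by omega)).symm
    refine ⟨h2, ?_⟩
    have hdc : d ≠ c := by
      rintro rfl
      obtain ⟨z, hz⟩ := card_pos.mp (by omega : 0 < (b \ d).card)
      exact (mem_sdiff.mp hz).2 (htd hz)
    have h3 : d ∩ c = d ∩ (c \ b) := by
      ext z; simp only [mem_inter, mem_sdiff]
      constructor
      · rintro ⟨hzd, hzc⟩
        refine ⟨hzd, hzc, fun hzb => ?_⟩
        have : z ∈ b \ c := h2 ▸ mem_inter.mpr ⟨hzd, hzb⟩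
        exact (mem_sdiff.mp this).2 hzc
      · rintro ⟨hzd, hzc, -⟩; exact ⟨hzd, hzc⟩
    have h := inter_5_8_24 hα hB hd hc hdc
    rw [h3] at h
    have hpos : 0 < (d ∩ (c \ b)).card := card_pos.mpr ⟨x, mem_inter.mpr ⟨hxd, hxu⟩⟩
    rcases h with h | h | h
    · omega
    · exact h
    · exfalso
      have hud : c \ b ⊆ d := by
        have : d ∩ (c \ b) = c \ b := eq_of_subset_of_card_le inter_subset_right (by omega)
        exact this ▸ inter_subset_left
      apply hcon
      have : symmDiff b c = d := by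
        rw [symmDiff_def, sup_eq_union]
        apply eq_of_subset_of_card_le (union_subset htd hud)
        rw [hB.1 d hd, card_union_of_disjoint disjoint_sdiff_sdiff, ht4, hu4]
      rw [this]; exact hd
  -- pick x
  obtain ⟨x, hxu⟩ := card_pos.mp (by omega : 0 < (c \ b).card)
  have hxb : x ∉ b := (mem_sdiff.mp hxu).2
  have hxt : x ∉ b \ c := fun h => hxb (mem_sdiff.mp h).1
  obtain ⟨dx, ⟨hdxB, hdxS⟩, hdxU⟩ := hB.2 (insert x (b \ c))
    (by rw [card_insert_of_notMem hxt, ht4])
  have hxdx : x ∈ dx := hdxS (mem_insert_self _ _)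
  have htdx : b \ c ⊆ dx := (subset_insert _ _).trans hdxS
  obtain ⟨hdxb, hdxu⟩ := step2 dx hdxB htdx x hxu hxdx
  -- pick w
  have hw : 0 < ((c \ b) \ dx).card := by
    have := Finset.card_sdiff_add_card_inter (c \ b) dx
    rw [Finset.inter_comm] at this
    omega
  obtain ⟨w, hw⟩ := card_pos.mp hw
  have hwu : w ∈ c \ b := (mem_sdiff.mp hw).1
  have hwdx : w ∉ dx := (mem_sdiff.mp hw).2
  have hwb : w ∉ b := (mem_sdiff.mp hwu).2
  have hwt : w ∉ b \ c := fun h => hwb (mem_sdiff.mp h).1
  obtain ⟨dw, ⟨hdwB, hdwS⟩, hdwU⟩ := hB.2 (insert w (b \ c))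
    (by rw [card_insert_of_notMem hwt, ht4])
  have hwdw : w ∈ dw := hdwS (mem_insert_self _ _)
  have htdw : b \ c ⊆ dw := (subset_insert _ _).trans hdwS
  obtain ⟨hdwb, hdwu⟩ := step2 dw hdwB htdw w hwu hwdw
  have hdxw : dx ≠ dw := by rintro rfl; exact hwdx hwdw
  have hdd : dx ∩ dw = b \ c := by
    have h := inter_5_8_24 hα hB hdxB hdwB hdxw
    have h' : 4 ≤ (dx ∩ dw).card := ht4 ▸ card_le_card (subset_inter htdx htdw)
    exact (eq_of_subset_of_card_le (subset_inter htdx htdw) (by omega)).symm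
  have hxw : x ≠ w := by rintro rfl; exact hwdx hxdx
  have hxdw : x ∉ dw := by
    intro h
    have : x ∈ b \ c := hdd ▸ mem_inter.mpr ⟨hxdx, h⟩
    exact hxt this
  -- u = (dx ∩ u) ∪ (dw ∩ u)
  have hdisj : Disjoint (dx ∩ (c \ b)) (dw ∩ (c \ b)) := by
    rw [Finset.disjoint_left]
    intro z hz1 hz2
    have : z ∈ b \ c := hdd ▸ mem_inter.mpr ⟨(mem_inter.mp hz1).1, (mem_inter.mp hz2).1⟩
    exact (mem_sdiff.mp (mem_inter.mp hz1).2).2 (mem_sdiff.mp this).1
  have hucov : (dx ∩ (c \ b)) ∪ (dw ∩ (c \ b)) = c \ b := by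
    apply eq_of_subset_of_card_le (union_subset inter_subset_right inter_subset_right)
    rw [card_union_of_disjoint hdisj, hdxu, hdwu, hu4]
  -- pick T
  obtain ⟨T, hTt, hT3⟩ := Finset.exists_subset_card_eq (by omega : 3 ≤ (b \ c).card)
  have hTb : T ⊆ b := hTt.trans sdiff_subset
  have hxT : x ∉ T := fun h => hxb (hTb h)
  have hwT : w ∉ T := fun h => hwb (hTb h)
  have hcard5 : (insert x (insert w T)).card = 5 := by
    rw [card_insert_of_notMem, card_insert_of_notMem hwT, hT3]
    rw [mem_insert]; rintro (h | h)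
    · exact hxw h
    · exact hxT h
  obtain ⟨e, ⟨heB, heS⟩, -⟩ := hB.2 _ hcard5
  have hxe : x ∈ e := heS (mem_insert_self _ _)
  have hwe : w ∈ e := heS (mem_insert_of_mem (mem_insert_self _ _))
  have hTe : T ⊆ e := (subset_insert _ _).trans ((subset_insert _ _).trans heS)
  have heb : e ≠ b := by rintro rfl; exact hxb hxe
  have hedx : e ≠ dx := by rintro rfl; exact hwdx hwe
  have hedw : e ≠ dw := by rintro rfl; exact hxdw hxe
  have hTne : T.Nonempty := card_pos.mp (by omega)
  have hec : e ≠ c := by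
    rintro rfl
    obtain ⟨z, hz⟩ := hTne
    exact (mem_sdiff.mp (hTt hz)).2 (hTe hz)
  have h1 : (e ∩ b).card = 4 := by
    have h := inter_5_8_24 hα hB heB hb heb
    have h' : 3 ≤ (e ∩ b).card := hT3 ▸ card_le_card (subset_inter hTe hTb)
    omega
  have h2 : (e ∩ (b \ c)).card = 3 := by
    have h' : 3 ≤ (e ∩ (b \ c)).card := hT3 ▸ card_le_card (subset_inter hTe hTt)
    have h'' : (e ∩ (b \ c)).card ≤ 4 := ht4 ▸ card_le_card inter_subset_right
    have h''' : (e ∩ (b \ c)).card ≠ 4 := by
      intro h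
      have hte : b \ c ⊆ e := by
        have : e ∩ (b \ c) = b \ c := eq_of_subset_of_card_le inter_subset_right (by omega)
        exact this ▸ inter_subset_left
      apply hedx
      apply hdxU
      refine ⟨heB, ?_⟩
      intro z hz
      rw [mem_insert] at hz
      rcases hz with rfl | hz
      · exact hxe
      · exact hte hz
    omega
  have h3 : (e ∩ (b ∩ c)).card = 1 := by
    have := card_inter_split e b c; omega
  have h4' : (e ∩ c).card = 4 := by
    have h := inter_5_8_24 hα hB heB hc hec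
    have hs := card_inter_split e c b
    rw [Finset.inter_comm c b] at hs
    have h' : 2 ≤ (e ∩ (c \ b)).card := by
      have : ({x, w} : Finset α) ⊆ e ∩ (c \ b) := by
        intro z hz
        rw [mem_insert, mem_singleton] at hz
        rcases hz with rfl | rfl
        · exact mem_inter.mpr ⟨hxe, hxu⟩
        · exact mem_inter.mpr ⟨hwe, hwu⟩
      have h2' := card_le_card this
      rwa [card_pair hxw] at h2'
    omega
  have h5 : (e ∩ (c \ b)).card = 3 := by
    have hs := card_inter_split e c b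
    rw [Finset.inter_comm c b] at hs
    omega
  have h6 : (e ∩ (c \ b)).card = (e ∩ (dx ∩ (c \ b))).card + (e ∩ (dw ∩ (c \ b))).card := by
    rw [← card_union_of_disjoint, ← Finset.inter_union_distrib_left, hucov]
    exact Finset.disjoint_of_subset_left inter_subset_right
      (Finset.disjoint_of_subset_right inter_subset_right hdisj)
  have h7 : (e ∩ (dx ∩ (c \ b))).card ≤ 2 := hdxu ▸ card_le_card inter_subset_right
  have h8 : (e ∩ (dw ∩ (c \ b))).card ≤ 2 := hdwu ▸ card_le_card inter_subset_right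
  have hTu : ∀ d : Finset α, Disjoint T (d ∩ (c \ b)) := by
    intro d
    rw [Finset.disjoint_left]
    intro z hz1 hz2
    exact (mem_sdiff.mp (mem_inter.mp hz2).2).2 (hTb hz1)
  have hcase : (e ∩ (dx ∩ (c \ b))).card = 2 ∨ (e ∩ (dw ∩ (c \ b))).card = 2 := by omega
  rcases hcase with h | h
  · have hsub : dx ∩ (c \ b) ⊆ e := by
      have : e ∩ (dx ∩ (c \ b)) = dx ∩ (c \ b) :=
        eq_of_subset_of_card_le inter_subset_right (by omega)
      exact this ▸ inter_subset_left
    apply hedx
    apply eq_of_le_card_inter hB heB hdxB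
    calc 5 = (T ∪ (dx ∩ (c \ b))).card := by rw [card_union_of_disjoint (hTu dx), hT3, hdxu]
      _ ≤ (e ∩ dx).card := card_le_card (union_subset (subset_inter hTe (hTt.trans htdx))
          (subset_inter hsub inter_subset_left))
  · have hsub : dw ∩ (c \ b) ⊆ e := by
      have : e ∩ (dw ∩ (c \ b)) = dw ∩ (c \ b) :=
        eq_of_subset_of_card_le inter_subset_right (by omega)
      exact this ▸ inter_subset_left
    apply hedw
    apply eq_of_le_card_inter hB heB hdwB
    calc 5 = (T ∪ (dw ∩ (c \ b))).card := by rw [card_union_of_disjoint (hTu dw), hT3, hdwu]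
      _ ≤ (e ∩ dw).card := card_le_card (union_subset (subset_inter hTe (hTt.trans htdw))
          (subset_inter hsub inter_subset_left))

end Cfsg.Agent.Lead.Steiner
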