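import Mathlib
import Cfsg.Agent.Lead.SteinerSymmDiff
import Cfsg.Agent.Helper9.Golay.Steiner
import Cfsg.Prelude.Def_SporadicCombinatorics

set_option autoImplicit false

namespace Cfsg.Agent.Lead.Steiner

open Finset

variable {α : Type*} [Fintype α] [DecidableEq α] {B : Set (Finset α)}

/-- the sextet predicate for a general block system. -/
def IsSextet (B : Set (Finset α)) (S : Finset (Finset α)) : Prop :=
  S.card = 6 ∧ (∀ t ∈ S, t.card = 4) ∧ ∀ t ∈ S, ∀ u ∈ S, t ≠ u → t ∪ u ∈ B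

theorem sextet_existsUnique (hα : Fintype.card α = 24) (hB : Cfsg.IsSteinerSystem 5 8 B)
    (t : Finset α) (ht : t.card = 4) : ∃! S : Finset (Finset α), IsSextet B S ∧ t ∈ S := by
  classical
  obtain ⟨𝒪, h𝒪⟩ : ∃ 𝒪 : Finset (Finset α), 𝒪 = (blocks B).filter (fun o => t ⊆ o) := ⟨_, rfl⟩
  have hmem𝒪 : ∀ o, o ∈ 𝒪 ↔ o ∈ B ∧ t ⊆ o := by
    intro o; rw [h𝒪, Finset.mem_filter, mem_blocks]
  have h𝒪card : 𝒪.card = 5 := by
    rw [h𝒪]
    exact lam_eq hB 4 5 (by omega) (by rw [hα]; decide) (by decide) t ht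
  -- two distinct octads through t meet exactly in t
  have hinter : ∀ o ∈ 𝒪, ∀ o' ∈ 𝒪, o ≠ o' → o ∩ o' = t := by
    intro o ho o' ho' hne
    rw [hmem𝒪] at ho ho'
    have hsub : t ⊆ o ∩ o' := Finset.subset_inter ho.2 ho'.2
    have hle : (o ∩ o').card ≤ 4 := by
      by_contra hcon
      exact hne (eq_of_le_card_inter hB ho.1 ho'.1 (by omega))
    exact (Finset.eq_of_subset_of_card_le hsub (by rw [ht]; exact hle)).symm
  have hsd_card : ∀ o ∈ 𝒪, (o \ t).card = 4 := by
    intro o ho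
    rw [hmem𝒪] at ho
    rw [Finset.card_sdiff_of_subset ho.2, hB.1 o ho.1, ht]
  have hunion : ∀ o ∈ 𝒪, t ∪ (o \ t) = o := by
    intro o ho
    rw [hmem𝒪] at ho
    exact Finset.union_sdiff_of_subset ho.2
  have hinj : Set.InjOn (fun o => o \ t) (𝒪 : Set (Finset α)) := by
    intro o ho o' ho' h
    rw [← hunion o ho, ← hunion o' ho']
    simp only at h
    rw [h]
  have htnot : t ∉ 𝒪.image (fun o => o \ t) := by
    rw [Finset.mem_image]
    rintro ⟨o, ho, h⟩
    have h1 := hsd_card o ho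
    have h2 : Disjoint (o \ t) t := Finset.sdiff_disjoint
    rw [h, Finset.disjoint_self_iff_empty] at h2
    rw [h2] at ht
    simp at ht
  obtain ⟨S₀, hS₀⟩ : ∃ S₀ : Finset (Finset α), S₀ = insert t (𝒪.image (fun o => o \ t)) :=
    ⟨_, rfl⟩
  have hS₀card : S₀.card = 6 := by
    rw [hS₀, Finset.card_insert_of_notMem htnot, Finset.card_image_of_injOn hinj, h𝒪card]
  have hS₀sext : IsSextet B S₀ := by
    refine ⟨hS₀card, ?_, ?_⟩
    · intro u hu
      rw [hS₀, Finset.mem_insert, Finset.mem_image] at hu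
      rcases hu with rfl | ⟨o, ho, rfl⟩
      · exact ht
      · exact hsd_card o ho
    · intro u hu v hv huv
      rw [hS₀, Finset.mem_insert, Finset.mem_image] at hu hv
      rcases hu with rfl | ⟨o, ho, rfl⟩ <;> rcases hv with rfl | ⟨o', ho', rfl⟩
      · exact absurd rfl huv
      · rw [hunion o' ho']; exact ((hmem𝒪 o').1 ho').1
      · rw [Finset.union_comm, hunion o ho]; exact ((hmem𝒪 o).1 ho).1
      · have hne : o ≠ o' := fun h => huv (by rw [h])
        have hi := hinter o ho o' ho' hne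
        have h4 : (o ∩ o').card = 4 := by rw [hi, ht]
        have := symmDiff_mem_5_8_24 hα hB ((hmem𝒪 o).1 ho).1 ((hmem𝒪 o').1 ho').1 h4
        have heq : symmDiff o o' = (o \ t) ∪ (o' \ t) := by
          ext x
          simp only [Finset.mem_symmDiff, Finset.mem_union, Finset.mem_sdiff]
          have hx : x ∈ t ↔ x ∈ o ∧ x ∈ o' := by rw [← hi, Finset.mem_inter]
          constructor
          · rintro (⟨h1, h2⟩ | ⟨h1, h2⟩)
            · exact Or.inl ⟨h1, fun h => h2 (hx.1 h).2⟩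
            · exact Or.inr ⟨h1, fun h => h2 (hx.1 h).1⟩
          · rintro (⟨h1, h2⟩ | ⟨h1, h2⟩)
            · exact Or.inl ⟨h1, fun h => h2 (hx.2 ⟨h1, h⟩)⟩
            · exact Or.inr ⟨h1, fun h => h2 (hx.2 ⟨h, h1⟩)⟩
        rw [← heq]
        exact this
  refine ⟨S₀, ⟨hS₀sext, by rw [hS₀]; exact Finset.mem_insert_self _ _⟩, ?_⟩
  rintro S ⟨⟨hS6, hS4, hSB⟩, htS⟩
  apply Finset.eq_of_subset_of_card_le
  · intro u hu
    rw [hS₀, Finset.mem_insert, Finset.mem_image]
    by_cases hut : u = t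
    · exact Or.inl hut
    · right
      have hB' := hSB t htS u hu (fun h => hut h.symm)
      have hdis : Disjoint t u := by
        have h1 := Finset.card_union_add_card_inter t u
        rw [hB.1 _ hB', ht, hS4 u hu] at h1
        rw [Finset.disjoint_iff_inter_eq_empty, ← Finset.card_eq_zero]
        omega
      refine ⟨t ∪ u, (hmem𝒪 _).2 ⟨hB', Finset.subset_union_left⟩, ?_⟩
      exact Finset.union_sdiff_cancel_left hdis
  · rw [hS₀card, hS6]

theorem ncard_sextets (hα : Fintype.card α = 24) (hB : Cfsg.IsSteinerSystem 5 8 B) :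
    {S : Finset (Finset α) | IsSextet B S}.ncard = 1771 := by
  classical
  obtain ⟨𝒮, h𝒮⟩ : ∃ 𝒮 : Finset (Finset (Finset α)), 𝒮 = Finset.univ.filter (IsSextet B) :=
    ⟨_, rfl⟩
  have hmem𝒮 : ∀ S, S ∈ 𝒮 ↔ IsSextet B S := by
    intro S; rw [h𝒮, Finset.mem_filter]; simp
  have hset : {S : Finset (Finset α) | IsSextet B S} = (𝒮 : Set (Finset (Finset α))) := by
    ext S
    rw [Finset.mem_coe, hmem𝒮]
    rfl
  rw [hset, Set.ncard_coe_finset]
  have h1 := Finset.sum_card_bipartiteAbove_eq_sum_card_bipartiteBelow (s := 𝒮)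
    (t := Finset.powersetCard 4 (Finset.univ : Finset α)) (fun S t => t ∈ S)
  have h2 : ∀ S ∈ 𝒮, ((Finset.powersetCard 4 (Finset.univ : Finset α)).bipartiteAbove
      (fun S t => t ∈ S) S).card = 6 := by
    intro S hS
    rw [hmem𝒮] at hS
    rw [← hS.1]
    congr 1
    ext t
    rw [Finset.bipartiteAbove, Finset.mem_filter, Finset.mem_powersetCard]
    constructor
    · exact fun h => h.2
    · exact fun h => ⟨⟨Finset.subset_univ _, hS.2.1 t h⟩, h⟩
  have h3 : ∀ t ∈ Finset.powersetCard 4 (Finset.univ : Finset α),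
      (𝒮.bipartiteBelow (fun S t => t ∈ S) t).card = 1 := by
    intro t ht
    rw [Finset.mem_powersetCard] at ht
    obtain ⟨S₀, ⟨hS₀, htS₀⟩, huniq⟩ := sextet_existsUnique hα hB t ht.2
    rw [Finset.card_eq_one]
    refine ⟨S₀, ?_⟩
    ext S
    rw [Finset.bipartiteBelow, Finset.mem_filter, Finset.mem_singleton, hmem𝒮]
    constructor
    · intro h; exact huniq S h
    · rintro rfl; exact ⟨hS₀, htS₀⟩
  rw [Finset.sum_congr rfl h2, Finset.sum_congr rfl h3, Finset.sum_const, Finset.sum_const,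
    smul_eq_mul, smul_eq_mul, Finset.card_powersetCard, Finset.card_univ, hα] at h1
  have : Nat.choose 24 4 = 10626 := by decide
  omega

theorem sextets_main :
    (∀ t : Finset Cfsg.GolayPt, t.card = 4 →
      ∃! S : Finset (Finset Cfsg.GolayPt), S ∈ Cfsg.sextets ∧ t ∈ S) ∧
    Cfsg.sextets.ncard = 1771 :=
  ⟨fun t ht => sextet_existsUnique (B := Cfsg.octads) Cfsg.Agent.Helper9.Golay.card_golayPt
      Cfsg.Agent.Helper9.Golay.octads_isSteinerSystem t ht,
    ncard_sextets (B := Cfsg.octads) Cfsg.Agent.Helper9.Golay.card_golayPt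
      Cfsg.Agent.Helper9.Golay.octads_isSteinerSystem⟩

end Cfsg.Agent.Lead.Steiner
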