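import Mathlib
import Cfsg.Agent.Lead.SteinerNumbers
import Cfsg.Agent.Helper9.Golay.Steiner
import Cfsg.Prelude.Def_SporadicCombinatorics

set_option autoImplicit false

namespace Cfsg.Agent.Lead.Steiner

open Finset

theorem zmod2_cases' (a : ZMod 2) : a = 0 ∨ a = 1 := by
  revert a; decide

theorem compl_union_mem_octads {o o' : Finset Cfsg.GolayPt} (ho : o ∈ Cfsg.octads)
    (ho' : o' ∈ Cfsg.octads) (hd : Disjoint o o') : (o ∪ o')ᶜ ∈ Cfsg.octads := by
  obtain ⟨⟨v, hv, rfl⟩, hvc⟩ := ho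
  obtain ⟨⟨w, hw, rfl⟩, hwc⟩ := ho'
  refine ⟨⟨v + w + 1, ?_, ?_⟩, ?_⟩
  · exact Cfsg.golayCode.add_mem (Cfsg.golayCode.add_mem hv hw)
      (Submodule.subset_span (Set.mem_union_right _ rfl))
  · ext p
    have hdis : ¬ (v p ≠ 0 ∧ w p ≠ 0) := by
      rintro ⟨h1, h2⟩
      have h1' : p ∈ Cfsg.support₂ v := by simp [Cfsg.support₂, h1]
      have h2' : p ∈ Cfsg.support₂ w := by simp [Cfsg.support₂, h2]
      exact Finset.disjoint_left.1 hd h1' h2'
    simp only [Cfsg.support₂, Finset.mem_filter, Finset.mem_univ, true_and, Finset.mem_compl,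
      Finset.mem_union, Pi.add_apply, Pi.one_apply]
    rcases zmod2_cases' (v p) with h1 | h1 <;> rcases zmod2_cases' (w p) with h2 | h2
    · simp [h1, h2]
    · simp [h1, h2]; decide
    · simp [h1, h2]; decide
    · exfalso; apply hdis; rw [h1, h2]; exact ⟨by decide, by decide⟩
  · rw [Finset.card_compl, Finset.card_union_of_disjoint hd, hvc, hwc]
    rfl

variable {α : Type*} [Fintype α] [DecidableEq α] {B : Set (Finset α)}

/-- The number of trios of an S(5,8,24) in which complements of unions of disjoint blocks are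
blocks. -/
theorem ncard_trios (hα : Fintype.card α = 24) (hB : Cfsg.IsSteinerSystem 5 8 B)
    (hcompl : ∀ o ∈ B, ∀ o' ∈ B, Disjoint o o' → (o ∪ o')ᶜ ∈ B) :
    {T : Finset (Finset α) | T.card = 3 ∧ (∀ o ∈ T, o ∈ B) ∧
      ∀ o ∈ T, ∀ o' ∈ T, o ≠ o' → Disjoint o o'}.ncard = 3795 := by
  classical
  obtain ⟨𝒯, h𝒯⟩ : ∃ 𝒯 : Finset (Finset (Finset α)), 𝒯 = Finset.univ.filter
      (fun T => T.card = 3 ∧ (∀ o ∈ T, o ∈ B) ∧ ∀ o ∈ T, ∀ o' ∈ T, o ≠ o' → Disjoint o o') :=
    ⟨_, rfl⟩
  have hmem𝒯 : ∀ T, T ∈ 𝒯 ↔ (T.card = 3 ∧ (∀ o ∈ T, o ∈ B) ∧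
      ∀ o ∈ T, ∀ o' ∈ T, o ≠ o' → Disjoint o o') := by
    intro T; rw [h𝒯, Finset.mem_filter]; simp
  have hset : {T : Finset (Finset α) | T.card = 3 ∧ (∀ o ∈ T, o ∈ B) ∧
      ∀ o ∈ T, ∀ o' ∈ T, o ≠ o' → Disjoint o o'} = (𝒯 : Set (Finset (Finset α))) := by
    ext T
    rw [Finset.mem_coe, hmem𝒯]
    rfl
  rw [hset, Set.ncard_coe_finset]
  obtain ⟨P, hP⟩ : ∃ P : Finset (Σ _ : Finset α, Finset α),
      P = (blocks B).sigma (fun o => (blocks B).filter (fun o' => Disjoint o o')) := ⟨_, rfl⟩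
  have hmemP : ∀ p, p ∈ P ↔ p.1 ∈ B ∧ p.2 ∈ B ∧ Disjoint p.1 p.2 := by
    intro p
    rw [hP, Finset.mem_sigma, Finset.mem_filter, mem_blocks, mem_blocks]
  have hne : ∀ o ∈ B, ∀ o', Disjoint o o' → o ≠ o' := by
    rintro o ho o' hd rfl
    rw [Finset.disjoint_self_iff_empty] at hd
    have := hB.1 o ho
    rw [hd] at this
    simp at this
  have hPcard : P.card = 759 * 30 := by
    rw [hP, Finset.card_sigma]
    have h30 : ∀ o ∈ blocks B, ((blocks B).filter (fun o' => Disjoint o o')).card = 30 := by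
      intro o ho
      rw [mem_blocks] at ho
      have := (numbers_5_8_24 hα hB ho).1
      rw [← this]
      unfold y
      congr 1
      apply Finset.filter_congr
      intro d _
      rw [Finset.card_eq_zero, ← Finset.disjoint_iff_inter_eq_empty, disjoint_comm]
    rw [Finset.sum_congr rfl h30, Finset.sum_const, smul_eq_mul]
    have h759 : (blocks B).card = 759 := by
      have h := ncard_mul_choose hB
      rw [hα, ncard_eq] at h
      have h2 : Nat.choose 24 5 = 759 * Nat.choose 8 5 := by decide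
      rw [h2] at h
      exact Nat.eq_of_mul_eq_mul_right (by decide) h
    rw [h759]
  have h1 := Finset.sum_card_bipartiteAbove_eq_sum_card_bipartiteBelow (s := 𝒯) (t := P)
    (fun T p => p.1 ∈ T ∧ p.2 ∈ T)
  have h2 : ∀ T ∈ 𝒯, (P.bipartiteAbove (fun T p => p.1 ∈ T ∧ p.2 ∈ T) T).card = 6 := by
    intro T hT
    rw [hmem𝒯] at hT
    have h6 : T.offDiag.card = 6 := by rw [Finset.offDiag_card, hT.1]
    rw [← h6]
    apply Finset.card_nbij' (fun p => (p.1, p.2)) (fun q => ⟨q.1, q.2⟩)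
    · intro p hp
      rw [Finset.mem_coe, Finset.bipartiteAbove, Finset.mem_filter, hmemP] at hp
      rw [Finset.mem_coe, Finset.mem_offDiag]
      exact ⟨hp.2.1, hp.2.2, hne _ hp.1.1 _ hp.1.2.2⟩
    · intro q hq
      rw [Finset.mem_coe, Finset.mem_offDiag] at hq
      rw [Finset.mem_coe, Finset.bipartiteAbove, Finset.mem_filter, hmemP]
      exact ⟨⟨hT.2.1 _ hq.1, hT.2.1 _ hq.2.1, hT.2.2 _ hq.1 _ hq.2.1 hq.2.2⟩, hq.1, hq.2.1⟩
    · intro p _; rfl
    · intro q _; rfl
  have h3 : ∀ p ∈ P, (𝒯.bipartiteBelow (fun T p => p.1 ∈ T ∧ p.2 ∈ T) p).card = 1 := by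
    rintro ⟨o, o'⟩ hp
    rw [hmemP] at hp
    obtain ⟨ho, ho', hd⟩ := hp
    simp only at ho ho' hd
    have hoo' : o ≠ o' := hne o ho o' hd
    have hc : (o ∪ o')ᶜ ∈ B := hcompl o ho o' ho' hd
    have hdc1 : Disjoint o (o ∪ o')ᶜ := by
      rw [Finset.disjoint_left]; intro x hx hx'
      exact (Finset.mem_compl.1 hx') (Finset.mem_union_left _ hx)
    have hdc2 : Disjoint o' (o ∪ o')ᶜ := by
      rw [Finset.disjoint_left]; intro x hx hx'
      exact (Finset.mem_compl.1 hx') (Finset.mem_union_right _ hx)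
    have hoc : o ≠ (o ∪ o')ᶜ := hne o ho _ hdc1
    have ho'c : o' ≠ (o ∪ o')ᶜ := hne o' ho' _ hdc2
    have hcard3 : ({o, o', (o ∪ o')ᶜ} : Finset (Finset α)).card = 3 := by
      rw [Finset.card_insert_of_notMem, Finset.card_pair ho'c]
      simp only [Finset.mem_insert, Finset.mem_singleton, not_or]
      exact ⟨hoo', hoc⟩
    rw [Finset.card_eq_one]
    refine ⟨{o, o', (o ∪ o')ᶜ}, ?_⟩
    ext T
    rw [Finset.bipartiteBelow, Finset.mem_filter, Finset.mem_singleton, hmem𝒯]
    constructor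
    · rintro ⟨⟨hT3, hTB, hTd⟩, hoT, ho'T⟩
      simp only at hoT ho'T
      -- a third element
      have hlt : ({o, o'} : Finset (Finset α)).card < T.card := by
        rw [Finset.card_pair hoo', hT3]; omega
      obtain ⟨c, hcT, hcn⟩ := Finset.exists_mem_notMem_of_card_lt_card hlt
      simp only [Finset.mem_insert, Finset.mem_singleton, not_or] at hcn
      have hco : Disjoint c o := hTd c hcT o hoT hcn.1
      have hco' : Disjoint c o' := hTd c hcT o' ho'T hcn.2
      have hsub : c ⊆ (o ∪ o')ᶜ := by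
        intro x hx
        rw [Finset.mem_compl, Finset.mem_union, not_or]
        exact ⟨fun h => Finset.disjoint_left.1 hco hx h, fun h => Finset.disjoint_left.1 hco' hx h⟩
      have hceq : c = (o ∪ o')ᶜ :=
        Finset.eq_of_subset_of_card_le hsub (by rw [hB.1 _ hc, hB.1 _ (hTB c hcT)])
      symm
      apply Finset.eq_of_subset_of_card_le
      · intro x hx
        simp only [Finset.mem_insert, Finset.mem_singleton] at hx
        rcases hx with rfl | rfl | rfl
        · exact hoT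
        · exact ho'T
        · rw [← hceq]; exact hcT
      · rw [hT3, hcard3]
    · rintro rfl
      refine ⟨⟨hcard3, ?_, ?_⟩, by simp, by simp⟩
      · intro x hx
        simp only [Finset.mem_insert, Finset.mem_singleton] at hx
        rcases hx with rfl | rfl | rfl
        · exact ho
        · exact ho'
        · exact hc
      · intro x hx z hz hxz
        simp only [Finset.mem_insert, Finset.mem_singleton] at hx hz
        rcases hx with rfl | rfl | rfl <;> rcases hz with rfl | rfl | rfl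
        · exact absurd rfl hxz
        · exact hd
        · exact hdc1
        · exact hd.symm
        · exact absurd rfl hxz
        · exact hdc2
        · exact hdc1.symm
        · exact hdc2.symm
        · exact absurd rfl hxz
  rw [Finset.sum_congr rfl h2, Finset.sum_congr rfl h3, Finset.sum_const, Finset.sum_const,
    smul_eq_mul, smul_eq_mul, hPcard] at h1
  omega

theorem trios_ncard : Cfsg.trios.ncard = 3795 := by
  have := ncard_trios (B := Cfsg.octads) Cfsg.Agent.Helper9.Golay.card_golayPt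
    Cfsg.Agent.Helper9.Golay.octads_isSteinerSystem
    (fun o ho o' ho' hd => compl_union_mem_octads ho ho' hd)
  exact this

end Cfsg.Agent.Lead.Steiner
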