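import Mathlib
import Cfsg.Prelude.Def_Classical
import Cfsg.Agent.S0246
import Cfsg.Agent.Helper8.RegUExist
import Cfsg.Agent.Helper8.SpGElts
import Cfsg.Agent.Helper8.SpGPSp

/-!
Element orders of `PSp_{2n}(q)`, `q` odd: basic facts (orders modulo the centre, twisting by an
involution coming from a self-adjoint idempotent).
-/

namespace Cfsg.Agent.Lead.SpecSp
open Matrix Polynomial
open Cfsg.Agent.Helper8.RegU
open Cfsg.Agent.S0246 (negOne negOne_mem_center central_eq)

set_option linter.style.haveILetI false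
set_option linter.unusedSectionVars false

variable {F : Type*} [Field F] {n : ℕ}

local notation "Mat" => Matrix (Fin n ⊕ Fin n) (Fin n ⊕ Fin n) F

theorem orderOf_mul_invol {G : Type*} [Group G] (x t : G) (hc : Commute x t)
    (hodd : Odd (orderOf x)) (ht : orderOf t = 2) : orderOf (x * t) = 2 * orderOf x := by
  rw [hc.orderOf_mul_eq_mul_orderOf_of_coprime (by rw [ht]; exact Nat.coprime_two_right.mpr hodd),
    ht, mul_comm]

theorem aeval_reverse_eq {ι : Type*} [Fintype ι] [DecidableEq ι] (A B : Matrix ι ι F)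
    (hAB : A * B = 1) (Q : F[X]) :
    aeval A Q.reverse = A ^ Q.natDegree * aeval B Q := by
  set N := Q.natDegree with hN
  have hBA : B * A = 1 := mul_eq_one_comm.mp hAB
  have hcomm : Commute A B := by rw [Commute, SemiconjBy, hAB, hBA]
  have hpow : ∀ i, i ≤ N → A ^ N * B ^ i = A ^ (N - i) := by
    intro i hi
    have h1 : A ^ N = A ^ (N - i) * A ^ i := by rw [← pow_add]; congr 1; omega
    rw [h1, mul_assoc, ← (hcomm.mul_pow i), hAB, one_pow, mul_one]
  rw [aeval_eq_sum_range' (n := N + 1) (lt_of_le_of_lt (reverse_natDegree_le Q) (Nat.lt_succ_self _)),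
    aeval_eq_sum_range, Finset.mul_sum]
  rw [← Finset.sum_range_reflect]
  apply Finset.sum_congr rfl
  intro j hj
  rw [Finset.mem_range] at hj
  rw [coeff_reverse, mul_smul_comm]
  have hj' : N + 1 - 1 - j = N - j := by omega
  rw [hj', hpow j (by omega)]
  congr 1
  rw [revAt_le (by omega)]
  congr 1
  omega

theorem adj_aeval (z : Mat) (Q : F[X]) : adj (aeval z Q) = aeval (adj z) Q := by
  rw [aeval_eq_sum_range, aeval_eq_sum_range, adj_sum]
  apply Finset.sum_congr rfl
  intro i _
  rw [adj_smul, adj_pow]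

/-- the image of `-1` -/
theorem coe_negOne : ((negOne n F : Matrix.symplecticGroup (Fin n) F) : Mat) = -1 := rfl

theorem psp_pow_eq_one_iff (hn : 1 ≤ n) (g : Matrix.symplecticGroup (Fin n) F) (k : ℕ) :
    (QuotientGroup.mk g : Cfsg.PSp n F) ^ k = 1 ↔ g ^ k = 1 ∨ g ^ k = negOne n F := by
  rw [← QuotientGroup.mk_pow, QuotientGroup.eq_one_iff]
  constructor
  · intro h
    exact central_eq hn _ h
  · rintro (h | h)
    · rw [h]; exact one_mem _
    · rw [h]; exact negOne_mem_center n F

theorem negOne_sq : (negOne n F) * (negOne n F) = 1 := by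
  apply Subtype.ext
  change (-1 : Mat) * (-1) = 1
  rw [neg_mul_neg, one_mul]

/-- twisting an element of odd order by a commuting non-central involution -/
theorem exists_twist (hn : 1 ≤ n) (g t : Matrix.symplecticGroup (Fin n) F)
    (hodd : Odd (orderOf (QuotientGroup.mk g : Cfsg.PSp n F)))
    (hc : Commute g t) (ht2 : t * t = 1) (ht1 : t ≠ 1) (htn : t ≠ negOne n F) :
    ∃ y : Cfsg.PSp n F, orderOf y = 2 * orderOf (QuotientGroup.mk g : Cfsg.PSp n F) := by
  refine ⟨(QuotientGroup.mk g : Cfsg.PSp n F) * (QuotientGroup.mk t : Cfsg.PSp n F), ?_⟩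
  apply orderOf_mul_invol _ _ _ hodd
  · have hp : (QuotientGroup.mk t : Cfsg.PSp n F) ^ 2 = 1 := by
      rw [← QuotientGroup.mk_pow, pow_two, ht2]; rfl
    have hne : (QuotientGroup.mk t : Cfsg.PSp n F) ≠ 1 := by
      intro h
      have h1 := (psp_pow_eq_one_iff hn t 1).mp (by rw [pow_one]; exact h)
      rw [pow_one] at h1
      rcases h1 with h1 | h1
      · exact ht1 h1
      · exact htn h1
    exact orderOf_eq_prime hp hne
  · have : (QuotientGroup.mk g : Cfsg.PSp n F) * QuotientGroup.mk t =
        QuotientGroup.mk t * QuotientGroup.mk g := by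
      rw [← QuotientGroup.mk_mul, ← QuotientGroup.mk_mul, hc.eq]
    exact this

/-- a nontrivial self-adjoint idempotent commuting with `g` gives a twist -/
theorem exists_twist_of_idem (hn : 1 ≤ n) (h2 : (2 : F) ≠ 0)
    (g : Matrix.symplecticGroup (Fin n) F)
    (hodd : Odd (orderOf (QuotientGroup.mk g : Cfsg.PSp n F)))
    (E : Mat) (hE : E * E = E) (hadj : adj E = E) (hE0 : E ≠ 0) (hE1 : E ≠ 1)
    (hc : Commute E (g : Mat)) :
    ∃ y : Cfsg.PSp n F, orderOf y = 2 * orderOf (QuotientGroup.mk g : Cfsg.PSp n F) := by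
  set T : Mat := 1 - (2 : F) • E with hT
  have hTT : T * T = 1 := by
    have h5 : ((2 : F) • E) * ((2 : F) • E) = ((2 : F) * 2) • E := by
      rw [Matrix.smul_mul, Matrix.mul_smul, hE, smul_smul]
    rw [hT]
    simp only [sub_mul, mul_sub, Matrix.mul_one, Matrix.one_mul, h5]
    have : (1 : Mat) - (2 : F) • E - ((2 : F) • E - ((2 : F) * 2) • E) =
        1 + ((2 : F) * 2 - 2 - 2) • E := by
      rw [sub_smul, sub_smul]; abel
    rw [this]
    have h4 : (2 : F) * 2 - 2 - 2 = 0 := by ring
    rw [h4, zero_smul, add_zero]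
  have hTadj : adj T = T := by
    rw [hT, adj_sub, adj_one, adj_smul, hadj]
  have hTmem : T ∈ Matrix.symplecticGroup (Fin n) F := by
    rw [mem_symplectic_iff, hTadj, hTT]
  set t : Matrix.symplecticGroup (Fin n) F := ⟨T, hTmem⟩ with ht
  apply exists_twist hn g t hodd
  · apply Subtype.ext
    change (g : Mat) * T = T * (g : Mat)
    rw [hT, mul_sub, sub_mul, Matrix.mul_one, Matrix.one_mul, Matrix.mul_smul, Matrix.smul_mul,
      hc.eq]
  · apply Subtype.ext
    exact hTT
  · intro h
    have h1 : T = 1 := congrArg Subtype.val h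
    rw [hT, sub_eq_self] at h1
    have h3 : E = 0 := by
      have := congrArg (fun X => (2 : F)⁻¹ • X) h1
      simp only [smul_smul, inv_mul_cancel₀ h2, one_smul, smul_zero] at this
      exact this
    exact hE0 h3
  · intro h
    have h1 : T = -1 := congrArg Subtype.val h
    rw [hT] at h1
    have h3 : (2 : F) • E = (2 : F) • (1 : Mat) := by
      have h5 : (2 : F) • (1 : Mat) = 1 + 1 := by rw [two_smul]
      rw [h5]
      have h6 : (2 : F) • E = 1 - (1 - (2 : F) • E) := by abel
      rw [h6, h1]; abel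
    have h4 : E = 1 := by
      have := congrArg (fun X => (2 : F)⁻¹ • X) h3
      simp only [smul_smul, inv_mul_cancel₀ h2, one_smul] at this
      exact this
    exact hE1 h4

end Cfsg.Agent.Lead.SpecSp
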