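import Mathlib

set_option autoImplicit false

/-!
Constant orders of pointwise stabilisers force multiple transitivity.
-/

namespace Cfsg.Agent.Lead.StabCount

open MulAction

universe u v

/-- If all point stabilisers of a finite action have order `m`, then `|H|` divides `|X| * m`. -/
theorem card_dvd_of_stabilizer_card {H : Type*} [Group H] [Finite H] {X : Type*} [MulAction H X]
    [Finite X] (m : ℕ) (hm : ∀ x : X, Nat.card (stabilizer H x) = m) :
    Nat.card H ∣ Nat.card X * m := by
  classical
  haveI : Fintype (Quotient (orbitRel H X)) := Fintype.ofFinite _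
  rw [Nat.card_congr (MulAction.selfEquivSigmaOrbits H X), Nat.card_sigma, Finset.sum_mul]
  apply Finset.dvd_sum
  intro ω _
  rw [← hm (Quotient.out ω)]
  have h1 := MulAction.index_stabilizer H (Quotient.out ω)
  have h2 := Subgroup.card_mul_index (stabilizer H (Quotient.out ω))
  rw [Nat.card_coe_set_eq, ← h1, mul_comm]
  exact dvd_of_eq h2.symm

/-- Version for an invariant subset under a subgroup. -/
theorem card_dvd_of_invariant {G : Type*} [Group G] {α : Type*} [MulAction G α] [Finite α]
    (S : Subgroup G) [Finite S] (T : Set α) (hT : ∀ s ∈ S, ∀ x ∈ T, s • x ∈ T) (m : ℕ)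
    (hm : ∀ x ∈ T, Nat.card (stabilizer G x ⊓ S : Subgroup G) = m) :
    Nat.card S ∣ T.ncard * m := by
  let T' : SubMulAction S α := ⟨T, fun s x hx => hT s.1 s.2 x hx⟩
  have hcard : Nat.card T' = T.ncard := by
    rw [← Nat.card_coe_set_eq]
    exact Nat.card_congr (Equiv.subtypeEquivRight (fun x => Iff.rfl))
  rw [← hcard]
  apply card_dvd_of_stabilizer_card
  intro x
  rw [← hm x.1 x.2]
  have h1 : stabilizer S x = (stabilizer G (x : α)).subgroupOf S := by
    ext s
    rw [mem_stabilizer_iff, Subgroup.mem_subgroupOf, mem_stabilizer_iff, ← Subtype.coe_inj]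
    rfl
  rw [h1, ← Subgroup.inf_subgroupOf_right]
  exact Nat.card_congr (Subgroup.subgroupOfEquivOfLe inf_le_right).toEquiv

/-- Base case: constant orders of point stabilisers and two-point stabilisers force
transitivity. -/
theorem pretransitive_of_card_stabilizer {G : Type*} [Group G] [Finite G] {α : Type*}
    [MulAction G α] [Finite α] [FaithfulSMul G α] (l m : ℕ) (hl : 1 < l)
    (h1 : ∀ a : α, Nat.card (stabilizer G a) = l)
    (h2 : ∀ a b : α, a ≠ b → Nat.card (stabilizer G a ⊓ stabilizer G b : Subgroup G) = m) :
    IsPretransitive G α := by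
  by_contra hnt
  have hex : ∃ a b : α, b ∉ orbit G a := by
    by_contra h
    push Not at h
    exact hnt ⟨fun a b => h a b⟩
  obtain ⟨a, b, hab⟩ := hex
  have hba : a ∉ orbit G b := fun h => hab (by rw [orbit_eq_iff.2 h]; exact mem_orbit_self b)
  -- orbit sizes agree
  have hNa : l * (orbit G a).ncard = Nat.card G := by
    rw [← h1 a, ← MulAction.index_stabilizer]; exact Subgroup.card_mul_index _
  have hNb : l * (orbit G b).ncard = Nat.card G := by
    rw [← h1 b, ← MulAction.index_stabilizer]; exact Subgroup.card_mul_index _
  have hl0 : 0 < l := by omega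
  have hN : (orbit G a).ncard = (orbit G b).ncard :=
    Nat.eq_of_mul_eq_mul_left hl0 (hNa.trans hNb.symm)
  -- T1 = orbit of b
  have hd1 : Nat.card (stabilizer G a) ∣ (orbit G b).ncard * m := by
    apply card_dvd_of_invariant (stabilizer G a) (orbit G b)
    · intro s _ x hx
      rw [← orbit_eq_iff.2 hx]; exact mem_orbit x s
    · intro x hx
      have hxa : x ≠ a := fun h => hba (h ▸ hx)
      rw [inf_comm]
      exact h2 a x (Ne.symm hxa)
  have hd2 : Nat.card (stabilizer G a) ∣ ((orbit G a) \ {a}).ncard * m := by
    apply card_dvd_of_invariant (stabilizer G a) ((orbit G a) \ {a})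
    · intro s hs x hx
      refine ⟨?_, ?_⟩
      · rw [← orbit_eq_iff.2 hx.1]; exact mem_orbit x s
      · intro h
        apply hx.2
        have h3 : s • x = s • a := by rw [Set.mem_singleton_iff.1 h, mem_stabilizer_iff.1 hs]
        exact smul_left_cancel s h3
    · intro x hx
      have hxa : x ≠ a := fun h => hx.2 h
      rw [inf_comm]
      exact h2 a x (Ne.symm hxa)
  rw [h1 a] at hd1 hd2
  have hcard2 : ((orbit G a) \ {a}).ncard = (orbit G a).ncard - 1 :=
    Set.ncard_sdiff_singleton_of_mem (mem_orbit_self a)
  have hpos : 0 < (orbit G a).ncard := by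
    rw [Set.ncard_pos (Set.toFinite _)]; exact ⟨a, mem_orbit_self a⟩
  have hlm : l ∣ m := by
    rw [hcard2] at hd2
    rw [← hN] at hd1
    have h3 : (orbit G a).ncard * m = ((orbit G a).ncard - 1) * m + m := by
      have : (orbit G a).ncard = ((orbit G a).ncard - 1) + 1 := by omega
      conv_lhs => rw [this]
      ring
    rw [h3] at hd1
    exact (Nat.dvd_add_right hd2).1 hd1
  -- m = card of a subgroup of the stabilizer, positive, so l ≤ m ≤ l
  have hmpos : 0 < m := by
    rw [← h2 a b (fun h => hab (h ▸ mem_orbit_self a))]
    exact Nat.card_pos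
  have hle : l ≤ m := Nat.le_of_dvd hmpos hlm
  -- stabilizer of a fixes every point
  have hfix : ∀ x : α, stabilizer G a ≤ stabilizer G x := by
    intro x
    by_cases hxa : x = a
    · rw [hxa]
    · have h3 : stabilizer G a ⊓ stabilizer G x = stabilizer G a := by
        apply Subgroup.eq_of_le_of_card_ge inf_le_left
        rw [h1 a, h2 a x (Ne.symm hxa)]
        exact hle
      rw [← h3]
      exact inf_le_right
  have hbot : stabilizer G a = ⊥ := by
    rw [eq_bot_iff]
    intro g hg
    rw [Subgroup.mem_bot]
    apply FaithfulSMul.eq_of_smul_eq_smul (α := α)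
    intro x
    rw [one_smul]
    exact mem_stabilizer_iff.1 (hfix x hg)
  have := h1 a
  rw [hbot, Subgroup.card_bot] at this
  omega


theorem fixingSubgroup_singleton' {G : Type*} [Group G] {α : Type*} [MulAction G α] (a : α) :
    fixingSubgroup G ({a} : Set α) = stabilizer G a := by
  ext g
  simp [mem_fixingSubgroup_iff]

theorem faithful_ofStabilizer {G : Type*} [Group G] {α : Type*} [MulAction G α]
    [FaithfulSMul G α] (a : α) :
    FaithfulSMul (stabilizer G a) (SubMulAction.ofStabilizer G a) := by
  refine ⟨fun {h1 h2} hh => ?_⟩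
  apply Subtype.ext
  apply FaithfulSMul.eq_of_smul_eq_smul (α := α)
  intro x
  by_cases hxa : x = a
  · rw [hxa, mem_stabilizer_iff.1 h1.2, mem_stabilizer_iff.1 h2.2]
  · have h3 := hh ⟨x, (SubMulAction.mem_ofStabilizer_iff G a).2 hxa⟩
    exact congrArg Subtype.val h3

theorem main_aux : ∀ (j : ℕ) (G : Type u) [Group G] [Finite G] (α : Type v) [MulAction G α]
    [Finite α] [FaithfulSMul G α] (l m : ℕ), 1 < l → j + 2 ≤ Nat.card α →
    (∀ s : Set α, s.ncard = j + 1 → Nat.card (fixingSubgroup G s) = l) →
    (∀ s : Set α, s.ncard = j + 2 → Nat.card (fixingSubgroup G s) = m) →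
    IsMultiplyPretransitive G α (j + 1) := by
  intro j
  induction j with
  | zero =>
    intro G _ _ α _ _ _ l m hl hcard h1 h2
    rw [is_one_pretransitive_iff]
    apply pretransitive_of_card_stabilizer l m hl
    · intro a
      have := h1 {a} (Set.ncard_singleton a)
      rwa [fixingSubgroup_singleton'] at this
    · intro a b hab
      have := h2 {a, b} (Set.ncard_pair hab)
      rw [Set.insert_eq, fixingSubgroup_union, fixingSubgroup_singleton',
        fixingSubgroup_singleton'] at this
      exact this
  | succ j ih =>
    intro G _ _ α _ _ _ l m hl hcard h1 h2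
    -- each stabilizer is (j+1)-pretransitive on the complement
    have hstab : ∀ a : α, IsMultiplyPretransitive (stabilizer G a)
        (SubMulAction.ofStabilizer G a) (j + 1) := by
      intro a
      haveI := faithful_ofStabilizer (G := G) a
      apply ih (stabilizer G a) (SubMulAction.ofStabilizer G a) l m hl
      · have := SubMulAction.nat_card_ofStabilizer_add_one_eq (G := G) a
        omega
      · intro s' hs'
        have hn : (insert a (Subtype.val '' s') : Set α).ncard = j + 1 + 1 := by
          rw [Set.ncard_insert_of_notMem (SubMulAction.notMem_val_image G s'),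
            Set.ncard_image_of_injective _ Subtype.val_injective, hs']
        rw [← h1 _ hn]
        exact (Nat.card_congr (SubMulAction.fixingSubgroupInsertEquiv a s').toEquiv).symm
      · intro s' hs'
        have hn : (insert a (Subtype.val '' s') : Set α).ncard = j + 1 + 2 := by
          rw [Set.ncard_insert_of_notMem (SubMulAction.notMem_val_image G s'),
            Set.ncard_image_of_injective _ Subtype.val_injective, hs']
        rw [← h2 _ hn]
        exact (Nat.card_congr (SubMulAction.fixingSubgroupInsertEquiv a s').toEquiv).symm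
    -- G is transitive
    have htrans : IsPretransitive G α := by
      refine ⟨fun x y => ?_⟩
      by_cases hxy : x = y
      · exact ⟨1, by rw [one_smul, hxy]⟩
      · -- a third point
        have hex : ∃ c : α, c ≠ x ∧ c ≠ y := by
          by_contra h
          push Not at h
          have hsub : (Set.univ : Set α) ⊆ {x, y} := by
            intro c _
            by_cases hcx : c = x
            · exact Or.inl hcx
            · exact Or.inr (h c hcx)
          have h3 := Set.ncard_le_ncard hsub (Set.toFinite _)
          rw [Set.ncard_univ, Set.ncard_pair hxy] at h3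
          omega
        obtain ⟨c, hcx, hcy⟩ := hex
        haveI := hstab c
        haveI : IsMultiplyPretransitive (stabilizer G c) (SubMulAction.ofStabilizer G c) 1 :=
          isMultiplyPretransitive_of_le (n := j + 1) (by omega) (by
            have := SubMulAction.nat_card_ofStabilizer_add_one_eq (G := G) c
            omega)
        haveI : IsPretransitive (stabilizer G c) (SubMulAction.ofStabilizer G c) :=
          is_one_pretransitive_iff.1 inferInstance
        obtain ⟨g, hg⟩ := exists_smul_eq (stabilizer G c)
          (⟨x, (SubMulAction.mem_ofStabilizer_iff G c).2 (Ne.symm hcx)⟩ :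
            SubMulAction.ofStabilizer G c)
          ⟨y, (SubMulAction.mem_ofStabilizer_iff G c).2 (Ne.symm hcy)⟩
        exact ⟨g.1, congrArg Subtype.val hg⟩
    have hne : Nonempty α := by
      rw [← Finite.card_pos_iff]; omega
    obtain ⟨a⟩ := hne
    exact (SubMulAction.ofStabilizer.isMultiplyPretransitive (a := a)).2 (hstab a)

/-- The statement for subgroups of `Equiv.Perm α` with `Finset`s. -/
theorem main {α : Type*} [Fintype α] [DecidableEq α] (G : Subgroup (Equiv.Perm α)) {k : ℕ}
    (hk : 1 < k) (hkn : k ≤ Fintype.card α) (l m : ℕ) (hl : 1 < l)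
    (hkm1 : ∀ s : Finset α, s.card = k - 1 → Nat.card (fixingSubgroup G (s : Set α)) = l)
    (hkm : ∀ s : Finset α, s.card = k → Nat.card (fixingSubgroup G (s : Set α)) = m) :
    MulAction.IsMultiplyPretransitive G α (k - 1) := by
  obtain ⟨j, rfl⟩ : ∃ j, k = j + 2 := ⟨k - 2, by omega⟩
  have h1 : j + 2 - 1 = j + 1 := by omega
  rw [h1] at hkm1 ⊢
  apply main_aux j G α l m hl
  · rw [Nat.card_eq_fintype_card]; exact hkn
  · intro s hs
    have := hkm1 (Set.toFinite s).toFinset (by rw [← Set.ncard_eq_toFinset_card s]; exact hs)
    rwa [Set.Finite.coe_toFinset] at this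
  · intro s hs
    have := hkm (Set.toFinite s).toFinset (by rw [← Set.ncard_eq_toFinset_card s]; exact hs)
    rwa [Set.Finite.coe_toFinset] at this

end Cfsg.Agent.Lead.StabCount
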