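import Cfsg.Agent.Lead.SU6FieldF
import Cfsg.Agent.Helper7.SingerFrameB
import Cfsg.Agent.Helper7.FExA
import Cfsg.Agent.Helper7.Hermitian
import Cfsg.Agent.Helper3.SU6FldE

/-!
# S5802, the degree-three field at `q = 2` (lead), part G: the matrix form of the main statement
-/

set_option autoImplicit false
set_option linter.unusedSectionVars false
set_option linter.unusedVariables false
set_option linter.style.haveILetI false

namespace Cfsg.Agent.Lead.SU6Field

open Cfsg Cfsg.Geo Matrix Cfsg.Agent.Helper7.FEx Cfsg.Agent.Helper7.SingerFrame Cfsg.Agent.Helper7.Herm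
  Cfsg.Agent.Helper3.SU6Fld

variable {F : Type*} [Field F] [Fintype F]

/-- a primitive cube root of unity in the field with four elements -/
theorem exists_omega4 (hF : Fintype.card F = 4) : ∃ ω : F, ω ^ 2 + ω + 1 = 0 := by
  obtain ⟨ω₀, hω0, hω1⟩ : ∃ ω₀ : F, ω₀ ≠ 0 ∧ ω₀ ≠ 1 := by
    by_contra hcon
    push Not at hcon
    have : Fintype.card F ≤ 2 := by
      classical
      have hsub : (Finset.univ : Finset F) ⊆ {0, 1} := by
        intro x _
        by_cases hx : x = 0
        · rw [hx]; simp
        · rw [hcon x hx]; simp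
      calc Fintype.card F = (Finset.univ : Finset F).card := rfl
        _ ≤ ({0, 1} : Finset F).card := Finset.card_le_card hsub
        _ ≤ 2 := Finset.card_le_two
    omega
  refine ⟨ω₀, ?_⟩
  have h4 := pow_four hF ω₀
  have e : ω₀ * (ω₀ - 1) * (ω₀ ^ 2 + ω₀ + 1) = ω₀ ^ 4 - ω₀ := by ring
  rw [h4, sub_self] at e
  rcases mul_eq_zero.mp e with h | h
  · rcases mul_eq_zero.mp h with h | h
    · exact absurd h hω0
    · exact absurd (sub_eq_zero.mp h) hω1
  · exact h

/-- **the matrix form of the main statement** -/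
theorem matrix_main (hF : Fintype.card F = 4) (K : Subalgebra F (Matrix (Fin 6) (Fin 6) F))
    (hK : IsFieldSubalgebra 3 K) (hadj : IsAdjointClosedFor (hermForm 6 F 2) K) :
    ∃ S : Set (Fin 6 → F),
      (∀ g : GL (Fin 6) F, g ∈ subalgebraNormalizer K → g ∈ GU 6 F 2 → g ∈ specialLinear (Fin 6) F →
        ∀ x ∈ S, (g : Matrix (Fin 6) (Fin 6) F) *ᵥ x ∈ S) ∧
      (∃ b : Fin 6 → F, b ≠ 0 ∧ hermForm 6 F 2 b b = 0 ∧ ∀ x ∈ S, x + hermForm 6 F 2 x b • b ∈ S) ∧
      (∃ s p : Fin 6 → F, hermForm 6 F 2 s s = 0 ∧ p ∈ S ∧ p + hermForm 6 F 2 p s • s ∉ S) := by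
  classical
  have hF' : Fintype.card F = 2 ^ 2 := by rw [hF]; norm_num
  letI := fieldOfSub K hK
  letI := modOfSub K
  have key : ∀ (a : F) (k : K) (v : Fin 6 → F), (a • k) • v = a • (k • v) :=
    fun a k v => smul_assoc' K a k v
  haveI : IsScalarTower F K (Fin 6 → F) := ⟨key⟩
  haveI : Finite (Matrix (Fin 6) (Fin 6) F) := inferInstanceAs (Finite (Fin 6 → Fin 6 → F))
  haveI : Finite ↥K := Subtype.finite
  have hcardK : Nat.card ↥K = 64 := natCard_K hF hK
  have hcardF : Nat.card F = 4 := by rw [Nat.card_eq_fintype_card, hF]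
  have hd : Module.finrank K (Fin 6 → F) = 2 := by
    have := finrank_mul (by norm_num : 0 < 3) K hK
    rw [Fintype.card_fin] at this
    omega
  haveI := charTwo hF
  obtain ⟨ω, hω⟩ := exists_omega4 hF
  set σ : K → K := fun k => ⟨adj k.1, adj_mem hF K hadj k.2⟩ with hσ
  have H : Herm (F := F) (K := K) (V := Fin 6 → F) σ (hermForm 6 F 2) :=
    { two := CharTwo.two_eq_zero
      pow4 := pow_four hF
      σ_add := fun a b => Subtype.ext (adj_add hF _ _)
      σ_mul := fun a b => Subtype.ext (by
        show adj (a.1 * b.1) = adj a.1 * adj b.1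
        rw [adj_mul hF]
        exact hK.comm _ (adj_mem hF K hadj b.2) _ (adj_mem hF K hadj a.2))
      σ_σ := fun a => Subtype.ext (adj_adj hF _)
      σ_alg := fun c => Subtype.ext (by
        show adj ((algebraMap F K c : K) : Matrix (Fin 6) (Fin 6) F) = ((algebraMap F K (c ^ 2) : K) : Matrix (Fin 6) (Fin 6) F)
        rw [Subalgebra.coe_algebraMap, Subalgebra.coe_algebraMap, Algebra.algebraMap_eq_smul_one,
          Algebra.algebraMap_eq_smul_one, adj_smul, adj_one])
      add_left := fun u u' v => hermForm_add_left u u' v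
      smul_left := fun c u v => hermForm_smul_left c u v
      symm := fun u v => hermForm_swap hF' v u
      bal := fun k u v => herm_adj hF k.1 u v
      nondeg := fun u hu => by
        funext i
        have h1 := hu (Pi.single i 1)
        unfold hermForm at h1
        simp only [Pi.single_apply, ite_pow, one_pow, ne_eq, OfNat.ofNat_ne_zero, not_false_eq_true, zero_pow,
          mul_ite, mul_one, mul_zero, Finset.sum_ite_eq', Finset.mem_univ, if_true] at h1
        exact h1 }
  obtain ⟨S, h1, h2, h3⟩ :=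
    @abstract_main F K (Fin 6 → F) _ _ _ _ _ _ ⟨key⟩ _ hcardK hcardF hd σ (hermForm 6 F 2) H ω hω
  refine ⟨S, ?_, h2, h3⟩
  intro g hgN hgU hgS x hx
  -- the ring automorphism
  let α : K ≃+* K :=
    { toFun := fun k => ⟨cj g k.1, cj_mem hgN k.2⟩
      invFun := fun k => ⟨cj g⁻¹ k.1, cj_mem (inv_mem hgN) k.2⟩
      left_inv := fun k => Subtype.ext (cj_inv_cj g k.1)
      right_inv := fun k => Subtype.ext (by
        have := cj_inv_cj g⁻¹ k.1
        rwa [inv_inv] at this)
      map_mul' := fun k l => Subtype.ext (cj_mul g k.1 l.1)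
      map_add' := fun k l => Subtype.ext (cj_add g k.1 l.1) }
  have hdet : LinearMap.det (Matrix.toLin' (g : Matrix (Fin 6) (Fin 6) F)) = 1 := by
    rw [LinearMap.det_toLin']
    have : Matrix.GeneralLinearGroup.det g = 1 := hgS
    have h2 := congrArg Units.val this
    rw [Matrix.GeneralLinearGroup.val_det_apply, Units.val_one] at h2
    exact h2
  have := h1 (Matrix.toLin' (g : Matrix (Fin 6) (Fin 6) F)) hdet α
    (fun k v => by
      rw [Matrix.toLin'_apply, Matrix.toLin'_apply]
      exact mulVec_cj g k.1 v)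
    (fun u v => by
      rw [Matrix.toLin'_apply, Matrix.toLin'_apply]
      exact hgU u v)
    (fun k => Subtype.ext (adj_cj hF hgU k.1)) x hx
  rwa [Matrix.toLin'_apply] at this

end Cfsg.Agent.Lead.SU6Field
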