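import Mathlib
import Cfsg.Agent.Lead.BG144g
import Cfsg.Agent.S1414
import Cfsg.Agent.S1408
import Cfsg.Agent.S1417
import Cfsg.Agent.S1432
import Cfsg.Agent.S1378
import Cfsg.Agent.S1425
import Cfsg.Agent.Helper4.BG12d
import Cfsg.Agent.Helper1.SylowInt
import Cfsg.Agent.Helper1.FPFSub
import Cfsg.Agent.Helper1.BG16d
import Cfsg.Agent.Helper3.BlackA
import Cfsg.Agent.Helper4.BG14K
import Cfsg.Agent.Helper4.BG14P5
import Cfsg.Agent.Helper1.Fitting

set_option autoImplicit false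

/-!
Bender–Glauberman Theorem 14.4(b): if `x ∈ M_σ` is "bad" (`C_G(x) ⊄ M`) and `N` is the maximal
subgroup containing `C_G(x)`, then every prime of `σ(N)` dividing `|M|` lies in `β(N)`.
The key tool is the last clause of B&G Theorem 12.? (the frozen S1414): for `p ∉ β(M)` dividing
`|M|`, every prime dividing `|M : O_{p'}(M)|` is at most `p`.
-/

namespace Cfsg.Agent.Lead.BG144h

open Cfsg
open scoped Pointwise

universe u

variable {G : Type u} [Group G] [Finite G]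

omit [Finite G] in
/-- an elementary abelian group of order `s²` is not cyclic -/
theorem not_isCyclic_of_ea2 {s : ℕ} (hs : s.Prime) {A : Subgroup G}
    (hAe : Cfsg.IsElementaryAbelian s A) (hAc : Nat.card A = s ^ 2) : ¬ IsCyclic ↥A := by
  intro hc
  obtain ⟨g, hg⟩ := hc.exists_generator
  have h1 : orderOf g = Nat.card ↥A := orderOf_eq_card_of_forall_mem_zpowers hg
  have h2 : g ^ s = 1 := by
    apply Subtype.ext
    have := hAe.2 (g : G) g.2
    simpa using this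
  have h3 : orderOf g ∣ s := orderOf_dvd_of_pow_eq_one h2
  rw [h1, hAc] at h3
  have h4 : s ^ 2 ≤ s := Nat.le_of_dvd hs.pos h3
  have h5 : s < s ^ 2 := by
    have := hs.one_lt
    nlinarith
  omega

/-- **(A1)**: for `s ∈ τ₂(N)` and `q ∈ σ(N) ∖ β(N)`: `s ≤ q`. -/
theorem le_of_tau2_of_sigma (hG : Cfsg.IsMinSimpleOddOrder G) {N : Subgroup G} (hN : IsCoatom N)
    {s q : ℕ} (hs : s ∈ Cfsg.tau2 N) (hq : q ∈ Cfsg.sigma N) (hqβ : q ∉ Cfsg.beta N) : s ≤ q := by
  classical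
  have hsp : s.Prime := hs.1
  have hqp : q.Prime := hq.1
  have hsF : Fact s.Prime := ⟨hsp⟩
  have hqF : Fact q.Prime := ⟨hqp⟩
  obtain ⟨A, hAN, hAe, hAc⟩ := Cfsg.Agent.Helper4.BG12.exists_ea2_of_not_pRankLE_one hG hs.2.2.2
  obtain ⟨hnil, -, -, hcent, -, -⟩ := Cfsg.Agent.S1417.result hG N hN s hs A ⟨hAN, hAe, hAc⟩
  have hqN : q ∣ Nat.card N := hq.2.1
  obtain ⟨-, -, hle⟩ := (Cfsg.Agent.S1414.result hG N hN).2.2.2.2 q hqp hqN hqβ
  apply hle s hsp
  -- `s` divides the index of `O_{q'}(N)`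
  by_contra hsd
  have hcop : s.Coprime (Cfsg.pPrimeCore q ↥N).index := (Nat.Prime.coprime_iff_not_dvd hsp).2 hsd
  -- hence `A ≤ O_{q'}(N)`
  have hAY : ∀ a : G, ∀ ha : a ∈ A, (⟨a, hAN ha⟩ : ↥N) ∈ Cfsg.pPrimeCore q ↥N := by
    intro a ha
    apply Cfsg.Agent.Lead.BG12.mem_of_pow_eq_one_of_coprime_index _ hcop
    apply Subtype.ext
    have := hAe.2 a ha
    simpa using this
  -- the Sylow `q`-subgroup of `N_σ`
  set S : Subgroup ↥N := Cfsg.piCore (Cfsg.sigma N) ↥N with hS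
  have hSmap : Cfsg.sigmaCore N = S.map N.subtype := rfl
  have hSnil : Group.IsNilpotent ↥S := by
    have e : ↥S ≃* ↥(Cfsg.sigmaCore N) := S.equivMapOfInjective N.subtype N.subtype_injective
    exact (Group.isNilpotent_congr e).2 hnil
  obtain ⟨P⟩ : Nonempty (Sylow q ↥S) := inferInstance
  have hPn : (P : Subgroup ↥S).Normal :=
    Cfsg.Agent.Lead.BG12.normal_of_hall_of_isNilpotent (P : Subgroup ↥S)
      (by
        have := P.card_coprime_index
        exact this)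
  have hPc : (P : Subgroup ↥S).Characteristic := Sylow.characteristic_of_normal P hPn
  set T : Subgroup ↥N := (P : Subgroup ↥S).map S.subtype with hT
  have hSn : S.Normal := inferInstance
  have hTn : T.Normal := by
    have h1 := Cfsg.Agent.Helper1.BG16.normalizer_le_normalizer_map_of_characteristic S
      (P : Subgroup ↥S)
    have h2 : Subgroup.normalizer ((S : Subgroup ↥N) : Set ↥N) = ⊤ :=
      Subgroup.normalizer_eq_top_iff.2 hSn
    rw [h2] at h1
    exact Subgroup.normalizer_eq_top_iff.1 (top_le_iff.1 h1)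
  -- `T ≠ ⊥`
  have hqS : q ∣ Nat.card ↥S := by
    have h1 : Nat.card ↥S = Nat.card ↥(Cfsg.sigmaCore N) :=
      (Subgroup.card_map_of_injective N.subtype_injective).symm
    rw [h1]
    obtain ⟨⟨-, -, hidx⟩, -, -⟩ := Cfsg.Agent.Lead.BG12.sigmaCore_hall hG N hN
    have h2 := Cfsg.Agent.Helper1.relIndex_mul_card_of_le
      (Cfsg.Agent.Lead.BG12.sigmaCore_le (M := N))
    rw [← h2] at hqN
    rcases (Nat.Prime.dvd_mul hqp).1 hqN with h | h
    · exact absurd h (hidx q hqp hq)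
    · exact h
  have hP1 : (P : Subgroup ↥S) ≠ ⊥ := by
    intro h
    have h1 := P.card_eq_multiplicity
    rw [h, Subgroup.card_bot] at h1
    have h2 : (Nat.card ↥S).factorization q = 0 := by
      by_contra h0
      have : 1 < q ^ (Nat.card ↥S).factorization q := Nat.one_lt_pow h0 hqp.one_lt
      omega
    have h3 : 0 < (Nat.card ↥S).factorization q :=
      (hqp.factorization_pos_of_dvd Nat.card_pos.ne' hqS)
    omega
  have hT1 : T ≠ ⊥ := by
    intro h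
    apply hP1
    exact (Subgroup.map_eq_bot_iff_of_injective _ S.subtype_injective).1 h
  -- `T` and `O_{q'}(N)` commute
  have hdis : Disjoint T (Cfsg.pPrimeCore q ↥N) := by
    rw [Subgroup.disjoint_def]
    intro x hxT hxY
    have hTp : IsPGroup q ↥T := P.2.map _
    have h1 : orderOf x ∣ Nat.card ↥(Cfsg.pPrimeCore q ↥N) := Subgroup.orderOf_dvd_natCard _ hxY
    obtain ⟨k, hk⟩ := (IsPGroup.iff_orderOf.1 hTp) ⟨x, hxT⟩
    rw [Subgroup.orderOf_mk] at hk
    have h2 := Cfsg.Agent.Helper1.card_pPrimeCore_coprime (G := ↥N) q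
    have h3 : (orderOf x).Coprime q := Nat.Coprime.coprime_dvd_left h1 h2
    rw [hk] at h3
    rcases Nat.eq_zero_or_pos k with h0 | h0
    · rw [h0, pow_zero] at hk
      exact orderOf_eq_one_iff.1 hk
    · exfalso
      have h4 : q ∣ q ^ k := dvd_pow_self q h0.ne'
      have h5 : q ∣ Nat.gcd (q ^ k) q := Nat.dvd_gcd h4 dvd_rfl
      rw [h3] at h5
      exact hqp.one_lt.ne' (Nat.dvd_one.1 h5)
  -- so `T` centralizes `A`, contradiction
  obtain ⟨⟨t, htT⟩, ht1⟩ := (Subgroup.ne_bot_iff_exists_ne_one).1 hT1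
  have ht1' : t ≠ 1 := fun h => ht1 (Subtype.ext h)
  have htσ : (t : G) ∈ Cfsg.sigmaCore N := by
    rw [hSmap]
    obtain ⟨u, hu, rfl⟩ := htT
    exact ⟨(u : ↥N), u.2, rfl⟩
  have htc : (t : G) ∈ Subgroup.centralizer (A : Set G) := by
    rw [Subgroup.mem_centralizer_iff]
    intro a ha
    have hcomm := Subgroup.commute_of_normal_of_disjoint T (Cfsg.pPrimeCore q ↥N) hTn
      inferInstance hdis t (⟨a, hAN ha⟩ : ↥N) htT (hAY a ha)
    have := congrArg Subtype.val hcomm.eq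
    simpa using this.symm
  have : (t : G) ∈ Cfsg.sigmaCore N ⊓ Subgroup.centralizer (A : Set G) := ⟨htσ, htc⟩
  rw [hcent, Subgroup.mem_bot] at this
  exact ht1' (Subtype.ext this)

/-- a prime of `τ₂` of some maximal subgroup is not ideal, hence in no `β` -/
theorem not_mem_beta_of_mem_tau2 (hG : Cfsg.IsMinSimpleOddOrder G) {M N : Subgroup G}
    (hN : IsCoatom N) {s : ℕ} (hs : s ∈ Cfsg.tau2 N) : s ∉ Cfsg.beta M := by
  have hsF : Fact s.Prime := ⟨hs.1⟩
  intro h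
  exact (Cfsg.Agent.S1408.result hG N hN s hs.2.1 hs.2.2.1 hs.2.2.2).1 h.2

/-- **No mutual support**: `σ(M) ∩ τ₂(N)` and `σ(N) ∩ τ₂(M)` are not both nonempty. -/
theorem not_mutual (hG : Cfsg.IsMinSimpleOddOrder G) {M N : Subgroup G} (hM : IsCoatom M)
    (hN : IsCoatom N) {s q : ℕ} (hsM : s ∈ Cfsg.sigma M) (hsN : s ∈ Cfsg.tau2 N)
    (hqN : q ∈ Cfsg.sigma N) (hqM : q ∈ Cfsg.tau2 M) : False := by
  have h1 : s ≤ q := le_of_tau2_of_sigma hG hN hsN hqN (not_mem_beta_of_mem_tau2 hG hM hqM)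
  have h2 : q ≤ s := le_of_tau2_of_sigma hG hM hqM hsM (not_mem_beta_of_mem_tau2 hG hN hsN)
  have h3 : s = q := le_antisymm h1 h2
  exact hqM.2.1 (h3 ▸ hsM)

/-- `κ` is nonempty for a conjugate of `M*` -/
theorem kappa_nonempty_of_emb_conj (hG : Cfsg.IsMinSimpleOddOrder G) {M K Ms N : Subgroup G}
    (hM : IsCoatom M) (hK : Cfsg.IsPiHallOf (Cfsg.kappa M) K M) (hK1 : K ≠ ⊥)
    (e : Cfsg.Agent.Helper1.BG147.Emb M K Ms) {g : G}
    (hg : N = Ms.map (MulAut.conj g).toMonoidHom) : (Cfsg.kappa N).Nonempty := by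
  classical
  have P := Cfsg.Agent.Helper1.BG147.p142' hG hM hK hK1
  set Ks : Subgroup G := Cfsg.sigmaCore M ⊓ Subgroup.centralizer (K : Set G) with hKs
  have hKs1 : Ks ≠ ⊥ := P.kstar_ne
  have hcard1 : Nat.card ↥Ks ≠ 1 := by
    intro h
    exact hKs1 (Subgroup.card_eq_one.1 h)
  obtain ⟨p', hp', hp'd⟩ := Nat.exists_prime_and_dvd hcard1
  have hp'F : Fact p'.Prime := ⟨hp'⟩
  have hp'κ : p' ∈ Cfsg.kappa Ms := e.hall.2.1 p' hp' hp'd
  obtain ⟨⟨w, hwKs⟩, hwo⟩ := exists_prime_orderOf_dvd_card' (G := ↥Ks) p' hp'd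
  have hwo' : orderOf w = p' := by
    have := Subgroup.orderOf_coe (⟨w, hwKs⟩ : ↥Ks)
    rw [← this] at hwo
    exact hwo
  obtain ⟨⟨y, hyK⟩, hy1⟩ := (Subgroup.ne_bot_iff_exists_ne_one).1 hK1
  have hy1' : y ≠ 1 := fun h => hy1 (Subtype.ext h)
  have hwy : w * y = y * w := by
    have h0 : w ∈ Subgroup.centralizer (K : Set G) := hwKs.2
    rw [Subgroup.mem_centralizer_iff] at h0
    exact (h0 y hyK).symm
  have hyσ : y ∈ Cfsg.sigmaCore Ms := by
    have := hyK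
    rw [e.K_eq] at this
    exact this.1
  have hwMs : w ∈ Ms := e.hall.1 hwKs
  -- transport to `N`
  have hMs := e.coatom
  have hσ : Cfsg.sigma N = Cfsg.sigma Ms := by
    rw [hg]; exact Cfsg.Agent.Helper2.BG144.sigma_map_conj hG hMs g
  have hσc : Cfsg.sigmaCore N = (Cfsg.sigmaCore Ms).map (MulAut.conj g).toMonoidHom := by
    rw [hg]; exact Cfsg.Agent.Helper2.BG144.sigmaCore_map_conj hG hMs g
  have hr1 : Cfsg.PRankLE p' 1 ↥N := by
    have h1 := Cfsg.Agent.Helper4.BG14.pRankLE_one_of_mem_kappa hp'κ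
    have eq : ↥Ms ≃* ↥(Ms.map (MulAut.conj g).toMonoidHom) :=
      Ms.equivMapOfInjective _ (MulAut.conj g).injective
    have h2 := Cfsg.Agent.Helper3.Black.pRankLE_of_equiv eq h1
    rw [hg]; exact h2
  refine ⟨p', Cfsg.Agent.Helper4.BG14.mem_kappa_of_commute hG (d := g * w * g⁻¹)
    (y := g * y * g⁻¹) (by rw [hσ]; exact hp'κ.2.2.1) hr1 ?_ ?_ ?_ ?_ ?_⟩
  · rw [hg]; exact ⟨w, hwMs, rfl⟩
  · rw [← hwo']
    exact orderOf_injective (MulAut.conj g).toMonoidHom (MulAut.conj g).injective w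
  · rw [hσc]; exact ⟨y, hyσ, rfl⟩
  · intro h
    apply hy1'
    have : y = g⁻¹ * (g * y * g⁻¹) * g := by group
    rw [this, h]; group
  · calc g * w * g⁻¹ * (g * y * g⁻¹) = g * (w * y) * g⁻¹ := by group
      _ = g * (y * w) * g⁻¹ := by rw [hwy]
      _ = _ := by group

omit [Finite G] in
/-- conjugates of elementary abelian subgroups -/
theorem isElementaryAbelian_map_conj {s : ℕ} {A : Subgroup G} (hA : Cfsg.IsElementaryAbelian s A)
    (g : G) : Cfsg.IsElementaryAbelian s (A.map (MulAut.conj g).toMonoidHom) := by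
  refine ⟨⟨⟨?_⟩⟩, ?_⟩
  · rintro ⟨_, a, ha, rfl⟩ ⟨_, b, hb, rfl⟩
    apply Subtype.ext
    have h1 := hA.1.is_comm.comm ⟨a, ha⟩ ⟨b, hb⟩
    have h2 : a * b = b * a := congrArg Subtype.val h1
    show (MulAut.conj g).toMonoidHom a * (MulAut.conj g).toMonoidHom b =
      (MulAut.conj g).toMonoidHom b * (MulAut.conj g).toMonoidHom a
    rw [← map_mul, ← map_mul, h2]
  · rintro _ ⟨a, ha, rfl⟩
    rw [← map_pow, hA.2 a ha, map_one]

/-- **B&G Theorem 14.4(b)**: for a bad `x ∈ M_σ` and `N ⊇ C_G(x)` maximal,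
`π(M) ∩ σ(N) ⊆ β(N)`. -/
theorem mem_beta_of_bad (hG : Cfsg.IsMinSimpleOddOrder G) {M : Subgroup G} (hM : IsCoatom M)
    {x : G} (hx : x ∈ Cfsg.sigmaCore M) (hx1 : x ≠ 1)
    (hbad : ¬ Subgroup.centralizer ({x} : Set G) ≤ M) {N : Subgroup G} (hN : IsCoatom N)
    (hxN : Subgroup.centralizer ({x} : Set G) ≤ N) {q : ℕ} (hq : q ∈ Cfsg.sigma N)
    (hqM : q ∣ Nat.card M) : q ∈ Cfsg.beta N := by
  classical
  by_contra hqβ
  obtain ⟨N0, d0⟩ := Cfsg.Agent.Helper2.BG144.exists_badData hG hM hx hx1 hbad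
  have hNN0 : N = N0 := Cfsg.Agent.Helper2.BG144.unique_of_badData hG hM hx hx1 hbad d0 N hN hxN
  subst hNN0
  have d := d0
  have hqp : q.Prime := hq.1
  have hqF : Fact q.Prime := ⟨hqp⟩
  -- `q ∉ σ(M)`
  have hqσM : q ∉ Cfsg.sigma M := by
    intro h
    obtain ⟨g, hg⟩ := (Cfsg.Agent.S1378.result hG).2 M N hM hN ⟨q, h, hq⟩
    exact d.not_conj g hg
  -- a prime divisor `s` of the order of `x`
  have hord : orderOf x ≠ 1 := by rwa [Ne, orderOf_eq_one_iff]
  obtain ⟨s, hsp, hsx⟩ := Nat.exists_prime_and_dvd hord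
  have hsF : Fact s.Prime := ⟨hsp⟩
  have hsτ : s ∈ Cfsg.tau2 N :=
    Cfsg.Agent.Helper2.BG144.mem_tau2_of_dvd_orderOf hG hM hx hbad d hsp hsx
  have hsσ : s ∈ Cfsg.sigma M := by
    apply Cfsg.Agent.Lead.BG12.mem_sigma_of_dvd_card_sigmaCore hsp
    exact dvd_trans hsx (Subgroup.orderOf_dvd_natCard _ hx)
  have hsq : s ≤ q := le_of_tau2_of_sigma hG hN hsτ hq hqβ
  have hsq' : s < q := lt_of_le_of_ne hsq (fun h => hqσM (h ▸ hsσ))
  have hsβ : s ∉ Cfsg.beta M := not_mem_beta_of_mem_tau2 hG hN hsτ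
  obtain ⟨-, -, hle⟩ := (Cfsg.Agent.S1414.result hG M hM).2.2.2.2 s hsp hsσ.2.1 hsβ
  have hqidx : ¬ q ∣ (Cfsg.pPrimeCore s ↥M).index :=
    fun h => absurd (hle q hqp h) (not_le.2 hsq')
  -- `Y = O_{s'}(M)`
  set Y' : Subgroup ↥M := Cfsg.pPrimeCore s ↥M with hY'
  set Y : Subgroup G := Y'.map M.subtype with hY
  have hYcard : Nat.card ↥Y = Nat.card ↥Y' := Subgroup.card_map_of_injective M.subtype_injective
  have hqY : q ∣ Nat.card ↥Y := by
    rw [hYcard]
    have h1 := Y'.index_mul_card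
    rw [← h1] at hqM
    rcases (Nat.Prime.dvd_mul hqp).1 hqM with h | h
    · exact absurd h hqidx
    · exact h
  have hYM : Y ≤ M := Subgroup.map_subtype_le _
  have hMY : M ≤ Subgroup.normalizer ((Y : Subgroup G) : Set G) :=
    Cfsg.Agent.Helper1.BGV.le_normalizer_map_subtype Y'
  have hYcop : (Nat.card ↥Y).Coprime s := by
    rw [hYcard]; exact Cfsg.Agent.Helper1.card_pPrimeCore_coprime (G := ↥M) s
  -- an elementary abelian subgroup `A ≤ M_σ` of order `s²`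
  obtain ⟨A0, hA0N, hA0e, hA0c⟩ :=
    Cfsg.Agent.Helper4.BG12.exists_ea2_of_not_pRankLE_one hG hsτ.2.2.2
  have hA01 : A0 ≠ ⊥ := by
    intro h
    rw [h, Subgroup.card_bot] at hA0c
    have := hsp.one_lt
    nlinarith
  obtain ⟨g, hgA⟩ := Cfsg.Agent.S1425.result hG M hM A0 hA01 (by
    intro p hp hpd
    rw [hA0c] at hpd
    have := (Nat.prime_dvd_prime_iff_eq hp hsp).1 (hp.dvd_of_dvd_pow hpd)
    rw [this]; exact hsσ)
  set A : Subgroup G := A0.map (MulAut.conj g).toMonoidHom with hA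
  have hAe : Cfsg.IsElementaryAbelian s A := isElementaryAbelian_map_conj hA0e g
  have hAc : Nat.card ↥A = s ^ 2 := by
    rw [← hA0c]; exact Subgroup.card_map_of_injective (MulAut.conj g).injective
  have hAσ : A ≤ Cfsg.sigmaCore M := hgA
  have hAM : A ≤ M := hAσ.trans Cfsg.Agent.Lead.BG12.sigmaCore_le
  have hAcomm : IsMulCommutative ↥A := hAe.1
  -- coprime action of `A` on `Y`
  have hAY : A ≤ Subgroup.normalizer ((Y : Subgroup G) : Set G) := hAM.trans hMY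
  have hcopAY : (Nat.card ↥A).Coprime (Nat.card ↥Y) := by
    rw [hAc]; exact (Nat.Coprime.pow_left 2 hYcop.symm)
  have hsolvA : Group.IsSolvable ↥A :=
    Cfsg.Agent.Helper1.isSolvable_of_le hAM (hG.2.2.2 M hM.1)
  obtain ⟨P, hP⟩ := Cfsg.Agent.Helper1.exists_invariant_sylow (p := q) A Y hAY hcopAY
    (Or.inl hsolvA)
  set TY : Subgroup G := (P : Subgroup ↥Y).map Y.subtype with hTY
  have hTYp : IsPGroup q ↥TY := P.2.map _
  have hTYY : TY ≤ Y := Subgroup.map_subtype_le _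
  have hTY1 : TY ≠ ⊥ := by
    intro h
    have hP1 : (P : Subgroup ↥Y) = ⊥ :=
      (Subgroup.map_eq_bot_iff_of_injective _ Y.subtype_injective).1 h
    have h1 := P.card_eq_multiplicity
    rw [hP1, Subgroup.card_bot] at h1
    have h3 : 0 < (Nat.card ↥Y).factorization q :=
      (hqp.factorization_pos_of_dvd Nat.card_pos.ne' hqY)
    have : 1 < q ^ (Nat.card ↥Y).factorization q := Nat.one_lt_pow h3.ne' hqp.one_lt
    omega
  -- `V = Z(T_Y)`
  set V : Subgroup G := (Subgroup.center ↥TY).map TY.subtype with hV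
  have hVTY : V ≤ TY := Subgroup.map_subtype_le _
  have hVcomm : IsMulCommutative ↥V := by
    refine ⟨⟨?_⟩⟩
    rintro ⟨_, a, ha, rfl⟩ ⟨_, b, hb, rfl⟩
    apply Subtype.ext
    show (a : G) * (b : G) = (b : G) * (a : G)
    have := Subgroup.mem_center_iff.1 ha b
    have h2 := congrArg Subtype.val this
    simpa using h2.symm
  have hntTY : Nontrivial ↥TY := (Subgroup.nontrivial_iff_ne_bot TY).2 hTY1
  have hV1 : V ≠ ⊥ := by
    intro h
    have h1 : Subgroup.center ↥TY = ⊥ :=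
      (Subgroup.map_eq_bot_iff_of_injective _ TY.subtype_injective).1 h
    have h2 : Nontrivial ↥(Subgroup.center ↥TY) := hTYp.center_nontrivial
    rw [h1] at h2
    exact not_nontrivial _ h2
  have hAV : A ≤ Subgroup.normalizer ((V : Subgroup G) : Set G) :=
    hP.trans (Cfsg.Agent.Helper1.BG16.normalizer_le_normalizer_map_of_characteristic TY
      (Subgroup.center ↥TY))
  -- some `b₀ ∈ A^#` has a nontrivial fixed point on `V`
  have hex : ∃ b₀ ∈ A, b₀ ≠ 1 ∧ V ⊓ Subgroup.centralizer ({b₀} : Set G) ≠ ⊥ := by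
    by_contra hcon
    have hfpf : ∀ a ∈ A, a ≠ 1 → V ⊓ Subgroup.centralizer ({a} : Set G) = ⊥ := by
      intro a ha ha1
      by_contra h
      exact hcon ⟨a, ha, ha1, h⟩
    have := hVcomm
    exact not_isCyclic_of_ea2 hsp hAe hAc
      (Cfsg.Agent.Helper1.isCyclic_of_fpf_of_comm A V hV1 hAV hfpf hAcomm)
  obtain ⟨b₀, hb₀A, hb₀1, hb₀V⟩ := hex
  obtain ⟨⟨v, hvV, hvc⟩, hv1⟩ := (Subgroup.ne_bot_iff_exists_ne_one).1 hb₀V
  have hv1' : v ≠ 1 := fun h => hv1 (Subtype.ext h)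
  have hvM : v ∈ M := hYM (hTYY (hVTY hvV))
  have hvq : ∀ p : ℕ, p.Prime → p ∣ orderOf v → p = q := by
    intro p hp hpd
    obtain ⟨k, hk⟩ := (IsPGroup.iff_orderOf.1 hTYp) ⟨v, hVTY hvV⟩
    rw [Subgroup.orderOf_mk] at hk
    rw [hk] at hpd
    exact (Nat.prime_dvd_prime_iff_eq hp hqp).1 (hp.dvd_of_dvd_pow hpd)
  have hqv : q ∣ orderOf v := by
    have hord' : orderOf v ≠ 1 := by rwa [Ne, orderOf_eq_one_iff]
    obtain ⟨p, hp, hpd⟩ := Nat.exists_prime_and_dvd hord'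
    rw [← hvq p hp hpd]; exact hpd
  rcases Cfsg.Agent.S1432.result hG M hM b₀ (hAσ hb₀A) hb₀1 v ⟨hvM, hvc⟩ hv1'
    (fun p hp hpd => (hvq p hp hpd) ▸ hqσM) with ⟨hκ, -⟩ | ⟨hτ, -, -⟩
  · -- `q ∈ κ(M)`
    have hqκ : q ∈ Cfsg.kappa M := hκ q hqp hqv
    obtain ⟨KH, hKH, hKH1⟩ := Cfsg.Agent.Helper1.BG147.exists_kappaHall_ne_bot hG hM ⟨q, hqκ⟩
    obtain ⟨Ms, e⟩ := Cfsg.Agent.Helper1.BG147.exists_emb' hG hM hKH hKH1
    have hqK : q ∣ Nat.card ↥KH := by
      have h1 := Cfsg.Agent.Helper1.relIndex_mul_card_of_le hKH.1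
      rw [← h1] at hqM
      rcases (Nat.Prime.dvd_mul hqp).1 hqM with h | h
      · exact absurd h (hKH.2.2 q hqp hqκ)
      · exact h
    have hKMs : KH ≤ Cfsg.sigmaCore Ms := by
      intro k hk
      have := hk
      rw [e.K_eq] at this
      exact this.1
    have hqMs : q ∈ Cfsg.sigma Ms :=
      Cfsg.Agent.Lead.BG12.mem_sigma_of_dvd_card_sigmaCore hqp
        (dvd_trans hqK (Subgroup.card_dvd_of_le hKMs))
    obtain ⟨g', hg'⟩ := (Cfsg.Agent.S1378.result hG).2 Ms N e.coatom hN ⟨q, hqMs, hq⟩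
    have hκN := kappa_nonempty_of_emb_conj hG hM hKH hKH1 e hg'
    have hκM := Cfsg.Agent.Lead.BG144g.kappa_eq_empty_of_bad hG hM hx hx1 hbad hN hxN hκN
    rw [hκM] at hqκ
    exact hqκ
  · -- `q ∈ τ₂(M)`
    exact not_mutual hG hM hN hsσ hsτ hq (hτ q hqp hqv)

end Cfsg.Agent.Lead.BG144h
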