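import Mathlib
import Cfsg.Agent.Lead.BG144h

set_option autoImplicit false

/-! Consequences of B&G 14.4(b) for a bad element `x ∈ M_σ` with `C_G(x) ≤ N`:
no prime of `σ(N)` lies in `κ(M)` or in `τ₂(M)`. -/

namespace Cfsg.Agent.Lead.BG144h

open Cfsg

universe u

variable {G : Type u} [Group G] [Finite G]

/-- **(C2)** no prime of `τ₂(M)` lies in `σ(N)`. -/
theorem not_mem_tau2_of_bad (hG : Cfsg.IsMinSimpleOddOrder G) {M : Subgroup G} (hM : IsCoatom M)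
    {x : G} (hx : x ∈ Cfsg.sigmaCore M) (hx1 : x ≠ 1)
    (hbad : ¬ Subgroup.centralizer ({x} : Set G) ≤ M) {N : Subgroup G} (hN : IsCoatom N)
    (hxN : Subgroup.centralizer ({x} : Set G) ≤ N) {q : ℕ} (hq : q ∈ Cfsg.sigma N) :
    q ∉ Cfsg.tau2 M := by
  intro hqτ
  have hqF : Fact q.Prime := ⟨hq.1⟩
  have hqM : q ∣ Nat.card M := by
    obtain ⟨A, hAM, hAe, hAc⟩ := Cfsg.Agent.Helper4.BG12.exists_ea2_of_not_pRankLE_one hG hqτ.2.2.2
    have h1 : Nat.card ↥A ∣ Nat.card ↥M := Subgroup.card_dvd_of_le hAM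
    rw [hAc] at h1
    exact dvd_trans (dvd_pow_self q (by norm_num)) h1
  exact not_mem_beta_of_mem_tau2 hG hM hqτ (mem_beta_of_bad hG hM hx hx1 hbad hN hxN hq hqM)

/-- **(C1)** no prime of `κ(M)` lies in `σ(N)`. -/
theorem not_mem_kappa_of_bad (hG : Cfsg.IsMinSimpleOddOrder G) {M : Subgroup G} (hM : IsCoatom M)
    {x : G} (hx : x ∈ Cfsg.sigmaCore M) (hx1 : x ≠ 1)
    (hbad : ¬ Subgroup.centralizer ({x} : Set G) ≤ M) {N : Subgroup G} (hN : IsCoatom N)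
    (hxN : Subgroup.centralizer ({x} : Set G) ≤ N) {q : ℕ} (hq : q ∈ Cfsg.sigma N) :
    q ∉ Cfsg.kappa M := by
  intro hqκ
  have hqp : q.Prime := hq.1
  have hqM : q ∣ Nat.card M := hqκ.2.1
  obtain ⟨KH, hKH, hKH1⟩ := Cfsg.Agent.Helper1.BG147.exists_kappaHall_ne_bot hG hM ⟨q, hqκ⟩
  obtain ⟨Ms, e⟩ := Cfsg.Agent.Helper1.BG147.exists_emb' hG hM hKH hKH1
  have hqK : q ∣ Nat.card ↥KH := by
    have h1 := Cfsg.Agent.Helper1.relIndex_mul_card_of_le hKH.1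
    rw [← h1] at hqM
    rcases (Nat.Prime.dvd_mul hqp).1 hqM with h | h
    · exact absurd h (hKH.2.2 q hqp hqκ)
    · exact h
  have hKMs : KH ≤ Cfsg.sigmaCore Ms := by
    intro k hk
    have := hk
    rw [e.K_eq] at this
    exact this.1
  have hqMs : q ∈ Cfsg.sigma Ms :=
    Cfsg.Agent.Lead.BG12.mem_sigma_of_dvd_card_sigmaCore hqp
      (dvd_trans hqK (Subgroup.card_dvd_of_le hKMs))
  obtain ⟨g', hg'⟩ := (Cfsg.Agent.S1378.result hG).2 Ms N e.coatom hN ⟨q, hqMs, hq⟩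
  have hκN := kappa_nonempty_of_emb_conj hG hM hKH hKH1 e hg'
  have hκM := Cfsg.Agent.Lead.BG144g.kappa_eq_empty_of_bad hG hM hx hx1 hbad hN hxN hκN
  rw [hκM] at hqκ
  exact hqκ

end Cfsg.Agent.Lead.BG144h
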