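import Mathlib
import Cfsg.Agent.Lead.BswDefs
import Cfsg.Agent.Lead.BswDefs2
import Cfsg.Agent.Lead.Bsw_A1_12
import Cfsg.Agent.Helper5.Bsw_A13_20
import Cfsg.Agent.Helper5.Bsw_A21_27
import Cfsg.Agent.Helper7.Bsw_A31_35
import Cfsg.Agent.Helper7.Bsw_A33
import Cfsg.Agent.Helper7.Bsw_B1_9

/-! S3282 group side, pieces F4a, F4b, F5, F6, F7 (general facts on non-real elements). (lead) -/

set_option autoImplicit false
set_option linter.unusedSectionVars false
set_option linter.style.haveILetI false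
namespace Cfsg.Agent.Lead.Bsw
variable {G : Type*} [Group G] [Finite G] {t s : G} {K : Subgroup G}

theorem lead_comm_of_mem_cent {x y : G} (hy : y ∈ Subgroup.centralizer ({x} : Set G)) : y * x = x * y :=
  Subgroup.mem_centralizer_singleton_iff.mp hy

theorem lead_mem_cent_of_comm {x y : G} (hy : y * x = x * y) : y ∈ Subgroup.centralizer ({x} : Set G) :=
  Subgroup.mem_centralizer_singleton_iff.mpr hy

theorem lead_sq_ne_one {y : G} (hy1 : y ≠ 1) (hy2 : orderOf y ≠ 2) : y * y ≠ 1 := by
  intro h; exact hy2 (lead_order_two_of h hy1)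

-- F4a
theorem NR_cent_odd (h : Hyp t K s) {x : G} (hx : IsNR x) :
    Odd (Nat.card (Subgroup.centralizer ({x} : Set G))) := by
  by_contra hodd
  rw [Nat.not_odd_iff_even, even_iff_two_dvd] at hodd
  haveI : Fact (Nat.Prime 2) := ⟨Nat.prime_two⟩
  obtain ⟨w, hw⟩ := exists_prime_orderOf_dvd_card' (G := Subgroup.centralizer ({x} : Set G)) 2 hodd
  have hw2 : orderOf (w : G) = 2 := by rw [Subgroup.orderOf_coe]; exact hw
  have hwx : (w : G) * x = x * (w : G) := lead_comm_of_mem_cent w.2
  have hxw : x ∈ Subgroup.centralizer ({(w : G)} : Set G) := lead_mem_cent_of_comm hwx.symm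
  have hxK : x ∈ Kz (w : G) := mem_Kz_of_cent h hw2 hxw hx.2.1
  exact hx.2.2 (isReal_of_mem_Kz h hw2 hxK)

-- F4b
theorem NR_cent (h : Hyp t K s) {x y : G} (hx : IsNR x) (hy : y ∈ Subgroup.centralizer ({x} : Set G))
    (hy1 : y ≠ 1) : IsNR y := by
  have hodd := NR_cent_odd h hx
  have hyx : y * x = x * y := lead_comm_of_mem_cent hy
  have hy2 : orderOf y ≠ 2 := by
    intro h2
    have hdvd := Subgroup.orderOf_dvd_natCard _ hy
    rw [h2] at hdvd
    exact (Nat.not_even_iff_odd.mpr hodd) (even_iff_two_dvd.mpr hdvd)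
  refine ⟨hy1, hy2, ?_⟩
  intro hr
  have hxy : x ∈ Subgroup.centralizer ({y} : Set G) := lead_mem_cent_of_comm hyx.symm
  rcases real_dichotomy h hy1 hy2 hr with ⟨w, hw, hyw⟩ | hyt
  · have hc := cent_of_mem_Kz h hw hyw (lead_sq_ne_one hy1 hy2)
    rw [hc] at hxy
    exact hx.2.2 (isReal_of_mem_Kz h hw hxy)
  · have := (torus_cent h hyt hxy hx.1).2
    exact hx.2.2 this.2.1

-- F5
theorem NR_subgroup_no_inv (h : Hyp t K s) {S : Subgroup G} (hS : ∀ x ∈ S, x ≠ 1 → IsNR x) (hS1 : S ≠ ⊥)
    {v : G} (hv : orderOf v = 2) : v ∉ Subgroup.normalizer (S : Set G) := by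
  intro hvN
  rw [Subgroup.mem_normalizer_iff] at hvN
  have hvi : v⁻¹ = v := lead_inv_of_order_two hv
  have hvv : v * v = 1 := by have := mul_inv_cancel v; rwa [hvi] at this
  by_cases hmove : ∃ a ∈ S, v * a * v⁻¹ ≠ a
  · obtain ⟨a, haS, hne⟩ := hmove
    have hbS : v * a * v⁻¹ ∈ S := (hvN a).mp haS
    set y := a⁻¹ * (v * a * v⁻¹) with hy
    have hyS : y ∈ S := S.mul_mem (S.inv_mem haS) hbS
    have hy1 : y ≠ 1 := by
      intro h1
      apply hne
      have : v * a * v⁻¹ = a * y := by rw [hy]; group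
      rw [this, h1, mul_one]
    have hinv : v * y * v⁻¹ = y⁻¹ := by
      rw [hy, hvi]
      calc v * (a⁻¹ * (v * a * v)) * v = (v * a⁻¹ * v) * a * (v * v) := by group
        _ = (v * a⁻¹ * v) * a := by rw [hvv, mul_one]
        _ = (a⁻¹ * (v * a * v))⁻¹ := by
            rw [mul_inv_rev, mul_inv_rev, mul_inv_rev, inv_inv, hvi]; group
    exact (hS y hyS hy1).2.2 ⟨v, hv, hinv⟩
  · have hfix : ∀ a ∈ S, v * a * v⁻¹ = a := by
      intro a ha
      by_contra hne
      exact hmove ⟨a, ha, hne⟩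
    obtain ⟨a0, ha0⟩ := (Subgroup.ne_bot_iff_exists_ne_one (H := S)).mp hS1
    have haS : (a0 : G) ∈ S := a0.2
    have ha1 : (a0 : G) ≠ 1 := fun h1 => ha0 (Subtype.ext h1)
    have hnr := hS _ haS ha1
    have hcomm : (a0 : G) * v = v * (a0 : G) := by
      have := hfix _ haS
      calc (a0 : G) * v = (v * (a0 : G) * v⁻¹) * v := by rw [this]
        _ = v * (a0 : G) := by group
    have hK : (a0 : G) ∈ Kz v := mem_Kz_of_cent h hv (lead_mem_cent_of_comm hcomm) hnr.2.1
    exact hnr.2.2 (isReal_of_mem_Kz h hv hK)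

-- F6
theorem NR_subgroup_card (_h : Hyp t K s) {S : Subgroup G} (hS : ∀ x ∈ S, x ≠ 1 → IsNR x) :
    Nat.card S * (nInv G + 1) ≤ Nat.card G := by
  classical
  let f : Option {z : G // orderOf z = 2} → G ⧸ S := fun o =>
    match o with
    | none => ((1 : G) : G ⧸ S)
    | some z => ((z : G) : G ⧸ S)
  have hnotin : ∀ z : G, orderOf z = 2 → z ∉ S := by
    intro z hz hzS
    exact (hS z hzS (lead_ne_one_of_order_two hz)).2.1 hz
  have hf : Function.Injective f := by
    rintro (_ | ⟨z, hz⟩) (_ | ⟨z', hz'⟩) hff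
    · rfl
    · exfalso
      have : ((1 : G) : G ⧸ S) = ((z' : G) : G ⧸ S) := hff
      rw [QuotientGroup.eq] at this
      simp only [inv_one, one_mul] at this
      exact hnotin z' hz' this
    · exfalso
      have : ((z : G) : G ⧸ S) = ((1 : G) : G ⧸ S) := hff
      rw [QuotientGroup.eq] at this
      simp only [mul_one] at this
      have := S.inv_mem this
      rw [inv_inv] at this
      exact hnotin z hz this
    · have h1 : ((z : G) : G ⧸ S) = ((z' : G) : G ⧸ S) := hff
      rw [QuotientGroup.eq] at h1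
      have hzi : z⁻¹ = z := lead_inv_of_order_two hz
      have hz'i : z'⁻¹ = z' := lead_inv_of_order_two hz'
      rw [hzi] at h1
      by_cases h2 : z * z' = 1
      · have : z' = z := by
          calc z' = z⁻¹ * (z * z') := by group
            _ = z := by rw [h2, mul_one, hzi]
        subst this; rfl
      · exfalso
        have hnr := hS _ h1 h2
        apply hnr.2.2
        refine ⟨z, hz, ?_⟩
        rw [hzi, mul_inv_rev, hzi, hz'i]
        have hzz : z * z = 1 := by have := mul_inv_cancel z; rwa [hzi] at this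
        calc z * (z * z') * z = (z * z) * z' * z := by group
          _ = z' * z := by rw [hzz, one_mul]
  have hcard := Nat.card_le_card_of_injective f hf
  rw [Finite.card_option] at hcard
  have hidx : Nat.card (G ⧸ S) = S.index := (Subgroup.index_eq_card S).symm
  rw [hidx] at hcard
  calc Nat.card S * (nInv G + 1) ≤ Nat.card S * S.index := Nat.mul_le_mul_left _ hcard
    _ = Nat.card G := Subgroup.card_mul_index S

theorem lead_conj_pow_inv {g x : G} (hgx : g * x * g⁻¹ = x⁻¹) (j : ℕ) :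
    g ^ j * x * (g ^ j)⁻¹ = if Even j then x else x⁻¹ := by
  induction j with
  | zero => simp
  | succ j ih =>
    have e : g ^ (j + 1) * x * (g ^ (j + 1))⁻¹ = g * (g ^ j * x * (g ^ j)⁻¹) * g⁻¹ := by
      rw [pow_succ']; group
    rw [e, ih]
    by_cases hj : Even j
    · have : ¬ Even (j + 1) := by
        rw [Nat.even_add_one]; exact not_not.mpr hj
      rw [if_pos hj, if_neg this, hgx]
    · have : Even (j + 1) := by rw [Nat.even_add_one]; exact hj
      rw [if_neg hj, if_pos this]
      have : g * x⁻¹ * g⁻¹ = (g * x * g⁻¹)⁻¹ := by group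
      rw [this, hgx, inv_inv]

-- F7
theorem NR_not_conj_inv (h : Hyp t K s) {x : G} (hx : IsNR x) (g : G) : g * x * g⁻¹ ≠ x⁻¹ := by
  intro hgx
  have hodd := NR_cent_odd h hx
  set m := Nat.card (Subgroup.centralizer ({x} : Set G)) with hm
  have hg2 : g ^ 2 ∈ Subgroup.centralizer ({x} : Set G) := by
    apply lead_mem_cent_of_comm
    have := lead_conj_pow_inv hgx 2
    rw [if_pos (by decide)] at this
    calc g ^ 2 * x = (g ^ 2 * x * (g ^ 2)⁻¹) * g ^ 2 := by group
      _ = x * g ^ 2 := by rw [this]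
  have hpow : (g ^ 2) ^ m = 1 := by
    have hd := Subgroup.orderOf_dvd_natCard _ hg2
    exact orderOf_dvd_iff_pow_eq_one.mp hd
  set w := g ^ m with hw
  have hw2 : w * w = 1 := by
    rw [hw, ← pow_add, ← two_mul, pow_mul]; exact hpow
  have hwx : w * x * w⁻¹ = x⁻¹ := by
    have := lead_conj_pow_inv hgx m
    rw [if_neg (Nat.not_even_iff_odd.mpr hodd)] at this
    exact this
  have hw1 : w ≠ 1 := by
    intro h1
    rw [h1] at hwx
    simp only [one_mul, inv_one, mul_one] at hwx
    have : x * x = 1 := by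
      calc x * x = x * x⁻¹ := by rw [← hwx]
        _ = 1 := mul_inv_cancel x
    exact lead_sq_ne_one hx.1 hx.2.1 this
  exact hx.2.2 ⟨w, lead_order_two_of hw2 hw1, hwx⟩

end Cfsg.Agent.Lead.Bsw
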