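import Mathlib
import Cfsg.Agent.Lead.BswDefs
import Cfsg.Agent.Lead.BswDefs2
import Cfsg.Agent.Lead.Bsw_A1_12
import Cfsg.Agent.Helper6.Bsw_A29_30
import Cfsg.Agent.Helper6.Bsw_C4
import Cfsg.Agent.Helper9.Bsw_B10_17
import Cfsg.Agent.Helper5.Bsw_B18_23
import Cfsg.Agent.Helper3.Bsw_C2_C6
import Cfsg.Agent.Helper3.Bsw_C7_C8
import Cfsg.Agent.Helper5.Bsw_A13_20
import Cfsg.Agent.Helper5.Bsw_A21_27
import Cfsg.Agent.Helper7.Bsw_A31_35
import Cfsg.Agent.Helper7.Bsw_A33
import Cfsg.Agent.Helper7.Bsw_B1_9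
import Cfsg.Agent.Lead.Bsw_F4_9

/-! S3282 group side, pieces F1–F3, F8a–d, F9a–c (e = -1 endgame, first part). (lead) -/

set_option autoImplicit false
set_option linter.unusedSectionVars false
set_option linter.style.haveILetI false
namespace Cfsg.Agent.Lead.Bsw
variable {G : Type*} [Group G] [Finite G] {t s : G} {K : Subgroup G}

-- F1
theorem minus_torus_card (hm : HypMinus t K s) {y : G} (hy : IsTorusElt y) :
    Nat.card (Subgroup.centralizer ({y} : Set G)) = Nat.card K - 1 := by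
  have h := hm.h
  obtain ⟨c, hc⟩ := hm.hF y hy.1 (fun g => not_conj_into_K h (Or.inl hy) g)
  rw [F_torus h hy] at hc
  have h3 := torus_card_ge h hy
  have hb := coset_bound h hy
  rw [hm.hn] at hb
  have hk := hm.hk
  set a := Nat.card (Subgroup.centralizer ({y} : Set G)) with ha
  set k := Nat.card K with hk'
  obtain ⟨j, hj⟩ := Nat.exists_eq_add_of_le hk
  have hb' : (a : ℤ) * ((k : ℤ) + 1) ≤ (2 * (k : ℤ) - 1) * ((k : ℤ) - 1) := by
    have e1 : 2 * k - 1 = 2 * j + 7 := by omega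
    have e2 : k - 1 = j + 3 := by omega
    rw [e1, e2] at hb
    have : (k : ℤ) = j + 4 := by rw [hj]; push_cast; ring
    rw [this]
    have hb2 : ((a * (k + 1) : ℕ) : ℤ) ≤ (((2 * j + 7) * (j + 3) : ℕ) : ℤ) := by exact_mod_cast hb
    push_cast at hb2
    rw [this] at hb2
    linarith
  have hkz : (4 : ℤ) ≤ k := by exact_mod_cast hk
  have ha3 : (3 : ℤ) ≤ a := by exact_mod_cast h3
  have hc1 : 1 ≤ c := by
    by_contra hlt
    push Not at hlt
    have : c ≤ 0 := by omega
    have : ((k : ℤ) - 1) * c ≤ 0 := mul_nonpos_of_nonneg_of_nonpos (by linarith) this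
    linarith
  have hc2 : c ≤ 1 := by
    by_contra hlt
    push Not at hlt
    have h2 : 2 ≤ c := by omega
    have : ((k : ℤ) - 1) * 2 ≤ ((k : ℤ) - 1) * c := mul_le_mul_of_nonneg_left h2 (by linarith)
    nlinarith
  have hce : c = 1 := le_antisymm hc2 hc1
  rw [hce, mul_one] at hc
  omega

theorem lead_minus_card_Rt (hm : HypMinus t K s) :
    Nat.card {y : G // IsTorusElt y ∧ t * y * t⁻¹ = y⁻¹} = Nat.card K * (Nat.card K - 2) := by
  have h := hm.h
  have h2 := count_per_inv h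
  rw [hm.hn] at h2
  have hk := hm.hk
  set k := Nat.card K with hk'
  set r := Nat.card {y : G // IsTorusElt y ∧ t * y * t⁻¹ = y⁻¹} with hr
  obtain ⟨j, hj⟩ := Nat.exists_eq_add_of_le hk
  have e1 : 2 * k - 1 = 2 * j + 7 := by omega
  have e2 : k - 1 = j + 3 := by omega
  have e3 : k - 2 = j + 2 := by omega
  rw [e1, e2] at h2
  rw [e3, hj]
  rw [hj] at h2
  nlinarith

-- F2
theorem minus_card_torusElt (hm : HypMinus t K s) :
    Nat.card {y : G // IsTorusElt y} = (2 * Nat.card K - 1) * Nat.card K * (Nat.card K - 2) := by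
  have h := hm.h
  have h4 := torus_count (G := G) h (Nat.card K - 1)
  have e1 : Nat.card {y : G // IsTorusElt y ∧ Nat.card (Subgroup.centralizer ({y} : Set G)) = Nat.card K - 1} =
      Nat.card {y : G // IsTorusElt y} := by
    apply Nat.card_congr
    apply Equiv.subtypeEquivRight
    intro y
    exact ⟨fun hh => hh.1, fun hh => ⟨hh, minus_torus_card hm hh⟩⟩
  have e2 : Nat.card {y : G // (IsTorusElt y ∧ Nat.card (Subgroup.centralizer ({y} : Set G)) = Nat.card K - 1) ∧
      t * y * t⁻¹ = y⁻¹} = Nat.card {y : G // IsTorusElt y ∧ t * y * t⁻¹ = y⁻¹} := by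
    apply Nat.card_congr
    apply Equiv.subtypeEquivRight
    intro y
    exact ⟨fun hh => ⟨hh.1.1, hh.2⟩, fun hh => ⟨⟨hh.1, minus_torus_card hm hh.1⟩, hh.2⟩⟩
  rw [e1, e2, lead_minus_card_Rt hm, hm.hn] at h4
  have hk := hm.hk
  set k := Nat.card K with hk'
  set R := Nat.card {y : G // IsTorusElt y} with hR
  obtain ⟨j, hj⟩ := Nat.exists_eq_add_of_le hk
  have e1 : 2 * k - 1 = 2 * j + 7 := by omega
  have e2 : k - 1 = j + 3 := by omega
  have e3 : k - 2 = j + 2 := by omega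
  rw [e1, e2, e3] at h4
  rw [e1, e3]
  have hpos : 0 < j + 3 := by omega
  apply Nat.eq_of_mul_eq_mul_left hpos
  rw [h4]; ring

-- F3
theorem minus_card_NR (hm : HypMinus t K s) :
    Nat.card {y : G // IsNR y} = 4 * Nat.card K * (Nat.card K - 1) := by
  have h := hm.h
  have hc := census (G := G) h
  rw [card_G h, minus_card_torusElt hm, hm.hn] at hc
  have hk := hm.hk
  set k := Nat.card K with hk'
  set N := Nat.card {y : G // IsNR y} with hN
  obtain ⟨j, hj⟩ := Nat.exists_eq_add_of_le hk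
  have e1 : 2 * k - 1 = 2 * j + 7 := by omega
  have e2 : k - 1 = j + 3 := by omega
  have e3 : k - 2 = j + 2 := by omega
  rw [e1, e2, e3, hj] at hc
  rw [e2, hj]
  nlinarith

-- F8a
theorem minus_NR_cent_le (hm : HypMinus t K s) {S : Subgroup G} (hS : ∀ x ∈ S, x ≠ 1 → IsNR x) :
    Nat.card S ≤ 2 * Nat.card K - 1 := by
  have h := hm.h
  have h6 := NR_subgroup_card h hS
  rw [card_G h] at h6
  have hk := hm.hk
  set k := Nat.card K with hk'
  set n := nInv G with hn
  set a := Nat.card S with ha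
  by_contra hlt
  push Not at hlt
  have h2 : 2 * k ≤ a := by omega
  have : 2 * k * (n + 1) ≤ a * (n + 1) := Nat.mul_le_mul_right _ h2
  nlinarith

/-- class equation for one class: `|class(x)| * |C(x)| = |G|`. -/
theorem lead_card_class (x : G) :
    Nat.card {y : G // ∃ g : G, y = g * x * g⁻¹} * Nat.card (Subgroup.centralizer ({x} : Set G)) =
      Nat.card G := by
  classical
  set C := Subgroup.centralizer ({x} : Set G) with hC
  have hwd : ∀ a b : G, (QuotientGroup.leftRel C) a b → a * x * a⁻¹ = b * x * b⁻¹ := by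
    intro a b hab
    rw [QuotientGroup.leftRel_apply] at hab
    have := lead_comm_of_mem_cent hab
    calc a * x * a⁻¹ = a * (a⁻¹ * b * x) * b⁻¹ * (b * a⁻¹ * b * b⁻¹ * a * b⁻¹)⁻¹ * 1 := by
          rw [this]; group
      _ = b * x * b⁻¹ := by group
  let f : G ⧸ C → {y : G // ∃ g : G, y = g * x * g⁻¹} := fun q =>
    Quotient.liftOn' q (fun g => (⟨g * x * g⁻¹, g, rfl⟩ : {y : G // ∃ g : G, y = g * x * g⁻¹}))
      (fun a b hab => Subtype.ext (hwd a b hab))
  have hbij : Function.Bijective f := by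
    constructor
    · intro q1 q2
      induction q1 using Quotient.inductionOn' with | h a => ?_
      induction q2 using Quotient.inductionOn' with | h b => ?_
      intro hff
      have hv : a * x * a⁻¹ = b * x * b⁻¹ := congrArg Subtype.val hff
      apply Quotient.sound'
      rw [QuotientGroup.leftRel_apply]
      apply lead_mem_cent_of_comm
      calc a⁻¹ * b * x = a⁻¹ * (b * x * b⁻¹) * b := by group
        _ = a⁻¹ * (a * x * a⁻¹) * b := by rw [hv]
        _ = x * (a⁻¹ * b) := by group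
    · rintro ⟨y, g, rfl⟩
      exact ⟨(g : G ⧸ C), rfl⟩
  have h1 : Nat.card (G ⧸ C) = Nat.card {y : G // ∃ g : G, y = g * x * g⁻¹} :=
    Nat.card_congr (Equiv.ofBijective f hbij)
  rw [← h1, ← Subgroup.index_eq_card, mul_comm]
  exact Subgroup.card_mul_index C

theorem lead_cent_inv (x : G) :
    Subgroup.centralizer ({x⁻¹} : Set G) = Subgroup.centralizer ({x} : Set G) := by
  ext g
  rw [Subgroup.mem_centralizer_singleton_iff, Subgroup.mem_centralizer_singleton_iff]
  constructor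
  · intro hg
    calc g * x = x * (x⁻¹ * g) * x := by group
      _ = x * (g * x⁻¹) * x := by rw [hg]
      _ = x * g := by group
  · intro hg
    calc g * x⁻¹ = x⁻¹ * (x * g) * x⁻¹ := by group
      _ = x⁻¹ * (g * x) * x⁻¹ := by rw [hg]
      _ = x⁻¹ * g := by group

theorem lead_classes_le (hm : HypMinus t K s) {x : G} (hx : IsNR x) :
    Nat.card {y : G // ∃ g : G, y = g * x * g⁻¹} + Nat.card {y : G // ∃ g : G, y = g * x⁻¹ * g⁻¹} ≤
      Nat.card {y : G // IsNR y} ∧
    (Nat.card {y : G // ∃ g : G, y = g * x * g⁻¹} + Nat.card {y : G // ∃ g : G, y = g * x⁻¹ * g⁻¹} =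
      Nat.card {y : G // IsNR y} → ∀ y : G, IsNR y → (∃ g : G, y = g * x * g⁻¹) ∨ (∃ g : G, y = g * x⁻¹ * g⁻¹)) := by
  classical
  have h := hm.h
  set A : Set G := {y | ∃ g : G, y = g * x * g⁻¹} with hA
  set B : Set G := {y | ∃ g : G, y = g * x⁻¹ * g⁻¹} with hB
  set N : Set G := {y | IsNR y} with hN
  have hdisj : Disjoint A B := by
    rw [Set.disjoint_left]
    rintro y ⟨g, rfl⟩ ⟨g', hg'⟩
    apply NR_not_conj_inv h hx (g'⁻¹ * g)
    calc g'⁻¹ * g * x * (g'⁻¹ * g)⁻¹ = g'⁻¹ * (g * x * g⁻¹) * g' := by group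
      _ = g'⁻¹ * (g' * x⁻¹ * g'⁻¹) * g' := by rw [hg']
      _ = x⁻¹ := by group
  have hAN : A ⊆ N := by
    rintro y ⟨g, rfl⟩; exact (isNR_conj g x).mpr hx
  have hBN : B ⊆ N := by
    rintro y ⟨g, rfl⟩; exact (isNR_conj g x⁻¹).mpr ((isNR_inv x).mpr hx)
  have hcardU : (A ∪ B).ncard = A.ncard + B.ncard :=
    Set.ncard_union_eq hdisj (Set.toFinite _) (Set.toFinite _)
  have hsub : A ∪ B ⊆ N := Set.union_subset hAN hBN
  have hle : (A ∪ B).ncard ≤ N.ncard := Set.ncard_le_ncard hsub (Set.toFinite _)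
  have eA : Nat.card {y : G // ∃ g : G, y = g * x * g⁻¹} = A.ncard := Nat.card_coe_set_eq A
  have eB : Nat.card {y : G // ∃ g : G, y = g * x⁻¹ * g⁻¹} = B.ncard := Nat.card_coe_set_eq B
  have eN : Nat.card {y : G // IsNR y} = N.ncard := Nat.card_coe_set_eq N
  rw [eA, eB, eN]
  refine ⟨by rw [← hcardU]; exact hle, ?_⟩
  intro heq y hy
  have hEq : A ∪ B = N := by
    apply Set.eq_of_subset_of_ncard_le hsub _ (Set.toFinite _)
    rw [hcardU, heq]
  have : y ∈ A ∪ B := by rw [hEq]; exact hy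
  exact this

-- F8b
theorem minus_NR_cent_card (hm : HypMinus t K s) {x : G} (hx : IsNR x) :
    Nat.card (Subgroup.centralizer ({x} : Set G)) = 2 * Nat.card K - 1 := by
  have h := hm.h
  have hup : Nat.card (Subgroup.centralizer ({x} : Set G)) ≤ 2 * Nat.card K - 1 :=
    minus_NR_cent_le hm (fun y hy hy1 => NR_cent h hx hy hy1)
  have h1 := lead_card_class x
  have h2 := lead_card_class x⁻¹
  rw [lead_cent_inv] at h2
  have h3 := (lead_classes_le hm hx).1
  rw [minus_card_NR hm] at h3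
  rw [card_G h, hm.hn] at h1 h2
  have hk := hm.hk
  set k := Nat.card K with hk'
  set a := Nat.card (Subgroup.centralizer ({x} : Set G)) with ha
  set c1 := Nat.card {y : G // ∃ g : G, y = g * x * g⁻¹} with hc1
  set c2 := Nat.card {y : G // ∃ g : G, y = g * x⁻¹ * g⁻¹} with hc2
  obtain ⟨j, hj⟩ := Nat.exists_eq_add_of_le hk
  have e1 : 2 * k - 1 = 2 * j + 7 := by omega
  have e2 : k - 1 = j + 3 := by omega
  rw [e1, e2] at h1 h2
  rw [e2] at h3
  rw [e1] at hup ⊢
  by_contra hne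
  have hlt : a + 1 ≤ 2 * j + 7 := by omega
  have hapos : 0 < a := by
    rcases Nat.eq_zero_or_pos a with h0 | h0
    · rw [h0, mul_zero] at h1
      have : 0 < 2 * k * ((2 * j + 7) * (j + 3)) := by positivity
      omega
    · exact h0
  -- (c1 + c2) * a = 2 * 2k(2j+7)(j+3) ; c1 + c2 ≤ 4k(j+3) ; so a ≥ 2j+7
  have hsum : (c1 + c2) * a = 2 * (2 * k * ((2 * j + 7) * (j + 3))) := by
    rw [add_mul, h1, h2]; ring
  have hle : (c1 + c2) * a ≤ 4 * k * (j + 3) * a := Nat.mul_le_mul_right _ h3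
  have hle2 : 4 * k * (j + 3) * a < 4 * k * (j + 3) * (2 * j + 7) := by
    apply Nat.mul_lt_mul_of_pos_left (by omega)
    have : 0 < k := by omega
    positivity
  nlinarith

-- F8c
theorem minus_NR_two_classes (hm : HypMinus t K s) {x y : G} (hx : IsNR x) (hy : IsNR y) :
    (∃ g : G, y = g * x * g⁻¹) ∨ (∃ g : G, y = g * x⁻¹ * g⁻¹) := by
  have h := hm.h
  refine (lead_classes_le hm hx).2 ?_ y hy
  have h1 := lead_card_class x
  have h2 := lead_card_class x⁻¹
  rw [lead_cent_inv] at h2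
  rw [minus_NR_cent_card hm hx, card_G h, hm.hn] at h1 h2
  rw [minus_card_NR hm]
  have hk := hm.hk
  set k := Nat.card K with hk'
  set c1 := Nat.card {y : G // ∃ g : G, y = g * x * g⁻¹} with hc1
  set c2 := Nat.card {y : G // ∃ g : G, y = g * x⁻¹ * g⁻¹} with hc2
  obtain ⟨j, hj⟩ := Nat.exists_eq_add_of_le hk
  have e1 : 2 * k - 1 = 2 * j + 7 := by omega
  have e2 : k - 1 = j + 3 := by omega
  rw [e1, e2] at h1 h2
  rw [e2]
  have hpos : 0 < 2 * j + 7 := by omega
  have e3 : c1 = 2 * k * (j + 3) := by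
    apply Nat.eq_of_mul_eq_mul_right hpos
    rw [h1]; ring
  have e4 : c2 = 2 * k * (j + 3) := by
    apply Nat.eq_of_mul_eq_mul_right hpos
    rw [h2]; ring
  rw [e3, e4]; ring

-- F8d
theorem minus_NR_cent_conj (hm : HypMinus t K s) {x y : G} (hx : IsNR x) (hy : IsNR y) :
    ∃ g : G, Subgroup.centralizer ({y} : Set G) =
      (Subgroup.centralizer ({x} : Set G)).map (MulAut.conj g).toMonoidHom := by
  have key : ∀ (x0 g : G), Subgroup.centralizer ({g * x0 * g⁻¹} : Set G) =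
      (Subgroup.centralizer ({x0} : Set G)).map (MulAut.conj g).toMonoidHom := by
    intro x0 g
    ext a
    rw [Subgroup.mem_map, Subgroup.mem_centralizer_singleton_iff]
    constructor
    · intro ha
      refine ⟨g⁻¹ * a * g, ?_, by simp [MulAut.conj_apply]; group⟩
      rw [Subgroup.mem_centralizer_singleton_iff]
      calc g⁻¹ * a * g * x0 = g⁻¹ * (a * (g * x0 * g⁻¹)) * g := by group
        _ = g⁻¹ * (g * x0 * g⁻¹ * a) * g := by rw [ha]
        _ = x0 * (g⁻¹ * a * g) := by group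
    · rintro ⟨b, hb, rfl⟩
      rw [Subgroup.mem_centralizer_singleton_iff] at hb
      simp only [MulEquiv.coe_toMonoidHom, MulAut.conj_apply]
      calc g * b * g⁻¹ * (g * x0 * g⁻¹) = g * (b * x0) * g⁻¹ := by group
        _ = g * (x0 * b) * g⁻¹ := by rw [hb]
        _ = g * x0 * g⁻¹ * (g * b * g⁻¹) := by group
  rcases minus_NR_two_classes hm hx hy with ⟨g, rfl⟩ | ⟨g, rfl⟩
  · exact ⟨g, key x g⟩
  · refine ⟨g, ?_⟩
    rw [key x⁻¹ g, lead_cent_inv]

-- F9c
theorem minus_coprime_q (k : ℕ) (hk : 4 ≤ k) : Nat.Coprime (2 * k - 1) (2 * k * (k - 1)) := by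
  obtain ⟨j, rfl⟩ := Nat.exists_eq_add_of_le hk
  have e1 : 2 * (4 + j) - 1 = 2 * j + 7 := by omega
  have e2 : 4 + j - 1 = j + 3 := by omega
  rw [e1, e2]
  apply Nat.Coprime.mul_right
  · -- gcd(2j+7, 2(4+j)) = gcd(2j+7, 2j+8) = 1
    have : 2 * (4 + j) = (2 * j + 7) + 1 := by ring
    rw [this]
    simp
  · -- gcd(2j+7, j+3) : 2j+7 = 2(j+3)+1
    have : 2 * j + 7 = 2 * (j + 3) + 1 := by ring
    rw [this]
    rw [Nat.coprime_comm]
    simp

-- F9a
theorem minus_NR_of_coprime (hm : HypMinus t K s) {y : G} (hy1 : y ≠ 1)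
    (hy : Nat.Coprime (orderOf y) (2 * Nat.card K * (Nat.card K - 1))) : IsNR y := by
  have h := hm.h
  have hord1 : orderOf y ≠ 1 := by rw [Ne, orderOf_eq_one_iff]; exact hy1
  have hy2 : orderOf y ≠ 2 := by
    intro h2
    rw [h2] at hy
    have : (2 : ℕ) ∣ 2 * Nat.card K * (Nat.card K - 1) := ⟨Nat.card K * (Nat.card K - 1), by ring⟩
    have := Nat.Coprime.eq_one_of_dvd hy this
    omega
  refine ⟨hy1, hy2, ?_⟩
  intro hr
  rcases real_dichotomy h hy1 hy2 hr with ⟨w, hw, hyw⟩ | hyt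
  · have hd : orderOf y ∣ Nat.card K := by
      have := Subgroup.orderOf_dvd_natCard _ hyw
      rwa [card_Kz h hw] at this
    have hd2 : orderOf y ∣ 2 * Nat.card K * (Nat.card K - 1) :=
      Dvd.dvd.mul_right (Dvd.dvd.mul_left hd 2) _
    exact hord1 (Nat.Coprime.eq_one_of_dvd hy hd2)
  · have hd : orderOf y ∣ Nat.card K - 1 := by
      have := Subgroup.orderOf_dvd_natCard (Subgroup.centralizer ({y} : Set G))
        (x := y) (Subgroup.mem_centralizer_singleton_iff.mpr rfl)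
      rwa [minus_torus_card hm hyt] at this
    have hd2 : orderOf y ∣ 2 * Nat.card K * (Nat.card K - 1) := Dvd.dvd.mul_left hd _
    exact hord1 (Nat.Coprime.eq_one_of_dvd hy hd2)

-- F9b
theorem minus_orderOf_NR (hm : HypMinus t K s) {x : G} (hx : IsNR x) :
    orderOf x ∣ 2 * Nat.card K - 1 := by
  have := Subgroup.orderOf_dvd_natCard (Subgroup.centralizer ({x} : Set G))
    (x := x) (Subgroup.mem_centralizer_singleton_iff.mpr rfl)
  rwa [minus_NR_cent_card hm hx] at this

end Cfsg.Agent.Lead.Bsw
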