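import Mathlib
import Cfsg.Agent.Lead.GlThA
import Cfsg.Agent.Lead.FusionSat3
import Cfsg.Agent.Helper1.GlaubermanNPC
import Cfsg.Agent.Helper1.FrobPCompl2

set_option autoImplicit false

/-!
Glauberman-Thompson for fusion systems, part C: a system realized by a finite group with Sylow
`p`-subgroup `S` and satisfying `NP` for `W(S)` is inner, given the group-theoretic statement for `W`.
-/

namespace Cfsg.Agent.Lead.GlTh

open Cfsg Cfsg.FusionSystem Cfsg.Agent.Lead Cfsg.Agent.Helper1 Cfsg.Agent.Helper1.ThompsonRed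

universe u

theorem of_range (W : CharFunctor.{u}) {R G : Type u} [Group R] [Group G] (ι : R →* G)
    (hι : Function.Injective ι) : W.of ι.range = (W.W R).map ι := by
  have h1 := W.of_map_of_injective ι hι ⊤
  rw [← MonoidHom.range_eq_map] at h1
  rw [h1]
  congr 1
  unfold CharFunctor.of
  have h2 := W.map_equiv (Subgroup.topEquiv : (⊤ : Subgroup R) ≃* R)
  rw [← h2]
  rfl

variable {Ω : Type u} [Group Ω] {S : Subgroup Ω}

theorem of_eq_map (W : CharFunctor.{u}) (S : Subgroup Ω) : W.of S = (W.W S).map S.subtype := rfl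

theorem le_normalizer_of (W : CharFunctor.{u}) (S : Subgroup Ω) :
    S ≤ Subgroup.normalizer (W.of S : Set Ω) :=
  Subgroup.le_normalizer.trans (W.normalizer_le S)

/-- An element conjugating the image of `P` into itself induces an automorphism of the system. -/
theorem exists_aut_of_conj [Finite S] (F : FusionSystem S) {G : Type*} [Group G] (ι : S →* G)
    (hι : F.IsRealizedBy ι) {P : Subgroup Ω} (hP : P ≤ S) (g : G)
    (hg : ∀ x : P, ∃ y : P, g * ι ⟨x, hP x.2⟩ * g⁻¹ = ι ⟨y, hP y.2⟩) :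
    ∃ α ∈ F.autGroup P, ∀ x : P, ι ⟨(α x : P), hP (α x).2⟩ = g * ι ⟨x, hP x.2⟩ * g⁻¹ := by
  haveI : Finite P := Fusion.finite_of_le hP
  have hg' : ∀ x : P, g * ι ⟨x, hP x.2⟩ * g⁻¹ ∈ ι.range := by
    intro x
    obtain ⟨y, hy⟩ := hg x
    exact ⟨_, hy.symm⟩
  obtain ⟨φ, hφ, hφS, hφx⟩ := Fusion.exists_hom_of_conj_mem_range F ι hι hP g hg'
  have hle : φ.range ≤ P := by
    rintro _ ⟨x, rfl⟩
    obtain ⟨y, hy⟩ := hg x
    have h1 : ι ⟨φ x, hφS x⟩ = ι ⟨y, hP y.2⟩ := (hφx x).trans hy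
    have h2 := hι.1 h1
    have h3 : φ x = y := congrArg Subtype.val h2
    rw [h3]
    exact y.2
  have hr : φ.range = P := by
    apply Subgroup.eq_of_le_of_card_ge hle
    rw [Nat.card_congr (MonoidHom.ofInjective (F.injective_of_mem hφ)).toEquiv]
  obtain ⟨α, hα, hαx⟩ := Fusion.exists_aut_of_range_eq F hφ hr
  refine ⟨α, hα, fun x => ?_⟩
  rw [← hφx x]
  congr 1
  exact Subtype.ext (hαx x)

/-- Powers of an automorphism induced by conjugation. -/
theorem pow_of_conj {G : Type*} [Group G] (ι : S →* G) {P : Subgroup Ω} (hP : P ≤ S) (g : G)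
    (α : MulAut P) (h : ∀ x : P, ι ⟨(α x : P), hP (α x).2⟩ = g * ι ⟨x, hP x.2⟩ * g⁻¹) (n : ℕ)
    (x : P) : ι ⟨((α ^ n) x : P), hP ((α ^ n) x).2⟩ = g ^ n * ι ⟨x, hP x.2⟩ * (g ^ n)⁻¹ := by
  induction n generalizing x with
  | zero => simp
  | succ n ih =>
    rw [pow_succ', MulAut.mul_apply, h, ih, pow_succ']
    group

theorem pow_eq_one_of_conj {G : Type*} [Group G] (ι : S →* G) (hinj : Function.Injective ι)
    {P : Subgroup Ω} (hP : P ≤ S) (g : G)
    (α : MulAut P) (h : ∀ x : P, ι ⟨(α x : P), hP (α x).2⟩ = g * ι ⟨x, hP x.2⟩ * g⁻¹) (n : ℕ)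
    (hn : ∀ x : P, g ^ n * ι ⟨x, hP x.2⟩ * (g ^ n)⁻¹ = ι ⟨x, hP x.2⟩) : α ^ n = 1 := by
  ext x
  have h1 := pow_of_conj ι hP g α h n x
  rw [hn] at h1
  have h2 := hinj h1
  have h3 : (((α ^ n) x : P) : Ω) = (x : Ω) := congrArg (fun z : S => (z : Ω)) h2
  exact h3

theorem inner_of_plocalCentral [Finite S] (p : ℕ) [Fact p.Prime] (hS : IsPGroup p S)
    (F : FusionSystem S) (G : Type*) [Group G] [Finite G] (ι : S →* G) (hι : F.IsRealizedBy ι)
    (hG : PLocalCentral p G) : Inner p F := by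
  intro P hP α hα
  haveI : Finite P := Fusion.finite_of_le hP
  have hα' := (Fusion.mem_autGroup_iff F hP α).mp hα
  have hφS : ∀ x : P, (P.subtype.comp α.toMonoidHom) x ∈ S := fun x => hP (α x).2
  obtain ⟨g, hg⟩ := (hι.2 P hP _ hφS).mp hα'
  have hg' : ∀ x : P, ι ⟨(α x : P), hP (α x).2⟩ = g * ι ⟨x, hP x.2⟩ * g⁻¹ := hg
  have hn0 : orderOf g ≠ 0 := (orderOf_pos g).ne'
  obtain ⟨a, m, hm, hnm⟩ := Nat.exists_eq_pow_mul_and_not_dvd hn0 p (Fact.out : p.Prime).ne_one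
  refine ⟨a, ?_⟩
  apply pow_eq_one_of_conj ι hι.1 hP g α hg'
  set Q₂ : Subgroup G := (P.subgroupOf S).map ι with hQ₂
  have hQ₂p : IsPGroup p Q₂ := (hS.to_subgroup (P.subgroupOf S)).map ι
  have hgN : g ∈ Subgroup.normalizer (Q₂ : Set G) := by
    apply mem_normalizer_of_conj_mem_of_finite
    rintro _ ⟨s, hs, rfl⟩
    rw [SetLike.mem_coe, Subgroup.mem_subgroupOf] at hs
    have h1 := hg' ⟨s.1, hs⟩
    have h2 : (⟨((⟨s.1, hs⟩ : P) : Ω), hP hs⟩ : S) = s := rfl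
    rw [h2] at h1
    rw [← h1]
    refine ⟨_, ?_, rfl⟩
    rw [SetLike.mem_coe, Subgroup.mem_subgroupOf]
    exact (α ⟨s.1, hs⟩).2
  have hg'N : g ^ (p ^ a) ∈ Subgroup.normalizer (Q₂ : Set G) := Subgroup.pow_mem _ hgN _
  have hcop : Nat.Coprime (orderOf (g ^ (p ^ a))) p := by
    have hdvd : orderOf (g ^ (p ^ a)) ∣ m := by
      apply orderOf_dvd_of_pow_eq_one
      rw [← pow_mul, ← hnm, pow_orderOf_eq_one]
    have hpm : Nat.Coprime m p :=
      ((Nat.Prime.coprime_iff_not_dvd (Fact.out : p.Prime)).mpr hm).symm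
    exact Nat.Coprime.coprime_dvd_left hdvd hpm
  have hcent := hG Q₂ hQ₂p _ hg'N hcop
  rw [Subgroup.mem_centralizer_iff] at hcent
  intro x
  have hx : ι ⟨x, hP x.2⟩ ∈ (Q₂ : Set G) := by
    refine ⟨_, ?_, rfl⟩
    rw [SetLike.mem_coe, Subgroup.mem_subgroupOf]
    exact x.2
  have := hcent _ hx
  rw [← this]
  group

/-- The normalizer of `W(T)` in a group realizing a system satisfying `NP` for `W(S)` has a normal
`p`-complement. -/
theorem hasNormalPComplement_normalizer [Finite S] (p : ℕ) [Fact p.Prime]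
    (W : CharFunctor.{u}) (F : FusionSystem S) (G : Type u) [Group G] [Finite G] (ι : S →* G)
    (hι : F.IsRealizedBy ι) (T : Sylow p G) (hT : (T : Subgroup G) = ι.range)
    (hnp : NP p F (W.of S)) :
    HasNormalPComplement p ↥(Subgroup.normalizer (W.of (T : Subgroup G) : Set G)) := by
  set Z := W.of (T : Subgroup G) with hZ
  set H := Subgroup.normalizer (Z : Set G) with hH
  have hTH : (T : Subgroup G) ≤ H := le_normalizer_of W (T : Subgroup G)
  have hZmap : Z = (W.W S).map ι := by rw [hZ, hT]; exact of_range W ι hι.1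
  rw [hasNormalPComplement_iff (T.subtype hTH), frobenius_normal_pcomplement_iff (T.subtype hTH)]
  intro Q₁ hQ₁ g hg hcop
  rw [Sylow.coe_subtype] at hQ₁
  set Q₃ : Subgroup G := Q₁.map H.subtype ⊔ Z with hQ₃
  have hQ₃T : Q₃ ≤ ι.range := by
    rw [← hT]
    apply sup_le
    · rintro _ ⟨q, hq, rfl⟩
      exact Subgroup.mem_subgroupOf.mp (hQ₁ hq)
    · exact W.of_le (T : Subgroup G)
  set P : Subgroup Ω := (Q₃.comap ι).map S.subtype with hPdef
  have hP : P ≤ S := by rintro _ ⟨s, -, rfl⟩; exact s.2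
  have hmemP : ∀ (x : Ω) (hx : x ∈ S), x ∈ P ↔ ι ⟨x, hx⟩ ∈ Q₃ := by
    intro x hx
    constructor
    · rintro ⟨s, hs, hsx⟩
      have : s = ⟨x, hx⟩ := Subtype.ext hsx
      rw [← this]; exact hs
    · intro h; exact ⟨⟨x, hx⟩, h, rfl⟩
  have hgQ₃ : ∀ y ∈ Q₃, g.1 * y * g.1⁻¹ ∈ Q₃ := by
    have hle : Q₃ ≤ Q₃.comap (MulAut.conj g.1).toMonoidHom := by
      apply sup_le
      · rintro _ ⟨q, hq, rfl⟩
        rw [Subgroup.mem_comap]
        apply (le_sup_left : Q₁.map H.subtype ≤ Q₃)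
        have h1 := (Subgroup.mem_normalizer_iff.mp hg q).mp hq
        exact ⟨g * q * g⁻¹, h1, rfl⟩
      · intro z hz
        rw [Subgroup.mem_comap]
        apply (le_sup_right : Z ≤ Q₃)
        exact (Subgroup.mem_normalizer_iff.mp g.2 z).mp hz
    intro y hy
    exact hle hy
  have hgP : ∀ x : P, ∃ y : P, g.1 * ι ⟨x, hP x.2⟩ * g.1⁻¹ = ι ⟨y, hP y.2⟩ := by
    intro x
    have h1 := hgQ₃ _ ((hmemP x.1 (hP x.2)).mp x.2)
    obtain ⟨s, hs⟩ := hQ₃T h1
    have hsP : s.1 ∈ P := (hmemP s.1 s.2).mpr (by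
      have : (⟨s.1, s.2⟩ : S) = s := rfl
      rw [this, hs]; exact h1)
    exact ⟨⟨s.1, hsP⟩, hs.symm⟩
  obtain ⟨α, hα, hαx⟩ := exists_aut_of_conj F ι hι hP g.1 hgP
  haveI : Finite P := Fusion.finite_of_le hP
  -- `W(S) ≤ P`
  have hWP : W.of S ≤ P := by
    rintro _ ⟨w, hw, rfl⟩
    show (w : Ω) ∈ P
    rw [hmemP _ w.2]
    apply (le_sup_right : Z ≤ Q₃)
    rw [hZmap]
    exact ⟨w, hw, rfl⟩
  have hPN : P ≤ normalizerIn S (W.of S) := le_inf hP (hP.trans (le_normalizer_of W S))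
  have hαW : ((W.of S).subgroupOf P).map α.toMonoidHom = (W.of S).subgroupOf P := by
    apply Fusion.map_aut_eq_of_le
    rintro _ ⟨x, hx, rfl⟩
    rw [SetLike.mem_coe, Subgroup.mem_subgroupOf] at hx
    rw [Subgroup.mem_subgroupOf]
    obtain ⟨w, hw, hwx⟩ := hx
    have h1 : ι ⟨x, hP x.2⟩ ∈ Z := by
      rw [hZmap]
      refine ⟨w, hw, ?_⟩
      congr 1
      exact Subtype.ext hwx
    have h2 : g.1 * ι ⟨x, hP x.2⟩ * g.1⁻¹ ∈ Z := (Subgroup.mem_normalizer_iff.mp g.2 _).mp h1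
    rw [← hαx x, hZmap] at h2
    obtain ⟨w', hw', hw'x⟩ := h2
    have h3 := hι.1 hw'x
    refine ⟨w', hw', ?_⟩
    have h4 : (w' : Ω) = ((α x : P) : Ω) := congrArg (fun z : S => (z : Ω)) h3
    exact h4
  obtain ⟨k, hk⟩ := hnp P hWP hPN α hα hαW
  have hord : α ^ orderOf g = 1 := by
    apply pow_eq_one_of_conj ι hι.1 hP g.1 α hαx
    intro x
    rw [← Subgroup.orderOf_coe g, pow_orderOf_eq_one]
    group
  have h1 : orderOf α ∣ p ^ k := orderOf_dvd_of_pow_eq_one hk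
  have h2 : orderOf α ∣ orderOf g := orderOf_dvd_of_pow_eq_one hord
  have h3 : orderOf α = 1 :=
    Nat.eq_one_of_dvd_coprimes (Nat.Coprime.pow_right k hcop) h2 h1
  have hα1 : α = 1 := orderOf_eq_one_iff.mp h3
  rw [Subgroup.mem_centralizer_iff]
  intro q hq
  have hq3 : (q : G) ∈ Q₃ := (le_sup_left : Q₁.map H.subtype ≤ Q₃) ⟨q, hq, rfl⟩
  obtain ⟨s, hs⟩ := hQ₃T hq3
  have hsP : s.1 ∈ P := (hmemP s.1 s.2).mpr (by
    have : (⟨s.1, s.2⟩ : S) = s := rfl
    rw [this, hs]; exact hq3)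
  have h4 := hαx ⟨s.1, hsP⟩
  rw [hα1] at h4
  have h5 : (⟨((⟨s.1, hsP⟩ : P) : Ω), hP hsP⟩ : S) = s := rfl
  have h6 : ι s = g.1 * ι s * g.1⁻¹ := by
    rw [← h5]
    exact h4
  rw [hs] at h6
  apply Subtype.ext
  show (q : G) * g.1 = g.1 * q
  calc (q : G) * g.1 = g.1 * q * g.1⁻¹ * g.1 := by rw [← h6]
    _ = g.1 * q := by group

/-- A system realized by a finite group with Sylow `p`-subgroup `S` and satisfying `NP` for `W(S)` is
inner, if `W` detects normal `p`-complements in groups. -/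
theorem inner_of_realized [Finite S] (p : ℕ) [Fact p.Prime] (hS : IsPGroup p S)
    (W : CharFunctor.{u})
    (hgrp : ∀ (G : Type u) [Group G] [Finite G] (P : Sylow p G),
      HasNormalPComplement p ↥(Subgroup.normalizer (W.of (P : Subgroup G) : Set G)) →
        HasNormalPComplement p G)
    (F : FusionSystem S) (G : Type u) [Group G] [Finite G] (ι : S →* G)
    (hι : F.IsRealizedBy ι) (T : Sylow p G) (hT : (T : Subgroup G) = ι.range)
    (hnp : NP p F (W.of S)) : Inner p F :=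
  inner_of_plocalCentral p hS F G ι hι
    (plocalCentral_of_hasNormalPComplement
      (hgrp G T (hasNormalPComplement_normalizer p W F G ι hι T hT hnp)))

end Cfsg.Agent.Lead.GlTh
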