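import Mathlib
import Cfsg.Agent.Lead.GlThC
import Cfsg.Agent.Lead.FusionMorph3
import Cfsg.Agent.Lead.FusionFactor
import Cfsg.Agent.Lead.FusionFactorSys
import Cfsg.Agent.Lead.FusionNormalCrit

set_option autoImplicit false

/-!
Glauberman-Thompson for fusion systems, part D: the factor system step.
-/

namespace Cfsg.Agent.Lead.GlTh

open Cfsg Cfsg.FusionSystem Cfsg.Agent.Lead Cfsg.Agent.Helper1 Cfsg.Agent.Helper1.ThompsonRed

universe u

variable {Ω : Type u} [Group Ω] {S : Subgroup Ω} {Ω' : Type u} [Group Ω'] {S' : Subgroup Ω'}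

/-- `NP` for the preimage of `W(S')` gives `NP` for `W(S')` in the image system. -/
theorem np_image [Finite S] (p : ℕ) (W : CharFunctor.{u}) (F : FusionSystem S)
    (F' : FusionSystem S') (θ : S →* Ω') (hθ : F.IsSurjectiveMorphism F' θ)
    (hT : NP p F (preimageAlong θ (W.of S'))) : NP p F' (W.of S') := by
  intro P' hWP' hP'N α' hα' hα'W
  have hr := hθ.2.1
  have hθS' : ∀ s : S, θ s ∈ S' := hθ.1.1
  have hP'S' : P' ≤ S' := hP'N.trans inf_le_left
  have hWS' : W.of S' ≤ S' := W.of_le S'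
  set T := preimageAlong θ (W.of S') with hTdef
  set P := preimageAlong θ P' with hPdef
  obtain ⟨γ, hγ, hlift⟩ := Fusion.exists_liftsAut F F' θ hθ hP'S' α' hα'
  have hPS : P ≤ S := Fusion.preimageAlong_le θ P'
  haveI : Finite P := Fusion.finite_of_le hPS
  have hTP : T ≤ P := Fusion.preimageAlong_mono θ hWP'
  have hPN : P ≤ normalizerIn S T := by
    rw [hTdef, Fusion.normalizerIn_preimageAlong θ hθS' hr hWS']
    exact Fusion.preimageAlong_mono θ hP'N
  have hγT : (T.subgroupOf P).map γ.toMonoidHom = T.subgroupOf P := by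
    apply Fusion.map_aut_eq_of_le
    rintro _ ⟨x, hx, rfl⟩
    rw [SetLike.mem_coe, Subgroup.mem_subgroupOf] at hx
    rw [Subgroup.mem_subgroupOf]
    obtain ⟨hxS, hxW⟩ := (Fusion.mem_preimageAlong θ (W.of S') x.1).mp hx
    have h1 : Fusion.toImage θ P' x ∈ (W.of S').subgroupOf P' := by
      rw [Subgroup.mem_subgroupOf, Fusion.toImage_coe]
      exact hxW
    have h2 : α' (Fusion.toImage θ P' x) ∈ ((W.of S').subgroupOf P').map α'.toMonoidHom :=
      ⟨_, h1, rfl⟩
    rw [hα'W, ← hlift x, Subgroup.mem_subgroupOf, Fusion.toImage_coe] at h2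
    exact (Fusion.mem_preimageAlong θ (W.of S') _).mpr ⟨hPS (γ x).2, h2⟩
  obtain ⟨k, hk⟩ := hT P hTP hPN γ hγ hγT
  refine ⟨k, ?_⟩
  have h3 := Fusion.liftsAut_pow θ P' hlift (p ^ k)
  rw [hk] at h3
  ext y
  obtain ⟨x, rfl⟩ := Fusion.toImage_surjective θ hr hP'S' y
  have h4 := h3 x
  rw [← h4]
  rfl

/-- An automorphism fixing a normal subgroup pointwise and acting trivially modulo it has order
dividing the order of the subgroup. -/
theorem stab_pow_card {E : Type*} [Group E] (N : Subgroup E) [Finite N] (β : MulAut E)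
    (h1 : ∀ x ∈ N, β x = x) (h2 : ∀ x, x⁻¹ * β x ∈ N) : β ^ (Nat.card N) = 1 := by
  have hpow : ∀ (k : ℕ) (x : E), (β ^ k) x = x * (x⁻¹ * β x) ^ k := by
    intro k
    induction k with
    | zero => intro x; simp
    | succ k ih =>
      intro x
      rw [pow_succ', MulAut.mul_apply, ih, map_mul, map_pow, h1 _ (h2 x), pow_succ' (x⁻¹ * β x),
        ← mul_assoc]
      congr 1
      group
  ext x
  rw [hpow]
  have h3 : (⟨x⁻¹ * β x, h2 x⟩ : N) ^ Nat.card N = 1 := pow_card_eq_one'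
  have h4 : (x⁻¹ * β x) ^ Nat.card N = 1 := by
    have := congrArg Subtype.val h3
    rwa [Subgroup.coe_pow] at this
  rw [h4, mul_one]
  rfl

/-- Pushing an automorphism of a subgroup forward along a morphism: some `p`-power of it acts
trivially modulo the kernel when the image system is inner. -/
theorem exists_pow_trivial_mod [Finite S] (p : ℕ) (F : FusionSystem S)
    (F' : FusionSystem S') (θ : S →* Ω') (hθ : F.IsSurjectiveMorphism F' θ) (hin : Inner p F')
    {E : Subgroup Ω} (hES : E ≤ S) (α : MulAut E) (hα : α ∈ F.autGroup E) :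
    ∃ k : ℕ, ∀ x : E, θ ⟨((α ^ (p ^ k)) x : E), hES ((α ^ (p ^ k)) x).2⟩ = θ ⟨x, hES x.2⟩ := by
  haveI : Finite S' := Fusion.finite_of_range θ hθ.2.1
  have hα' := (Fusion.mem_autGroup_iff F hES α).mp hα
  set E' := imageAlong θ E with hE'
  obtain ⟨φ', hφ', hES', hφS, hEE', hind⟩ := hθ.1.2 E _ hα'
  have hE'S' : E' ≤ S' := Fusion.src_le F' hφ'
  haveI : Finite E' := Fusion.finite_of_le hE'S'
  have hle : φ'.range ≤ E' := by
    rintro _ ⟨y, rfl⟩
    obtain ⟨x, hx, hxS, hxy⟩ := (Fusion.mem_imageAlong θ E y.1).mp y.2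
    have h1 : y = ⟨θ ⟨((⟨x, hx⟩ : E) : Ω), hES' hx⟩, hEE' ⟨x, hx⟩⟩ := Subtype.ext hxy.symm
    rw [h1, hind ⟨x, hx⟩]
    exact hEE' (α ⟨x, hx⟩)
  have hr : φ'.range = E' := by
    apply Subgroup.eq_of_le_of_card_ge hle
    rw [Nat.card_congr (MonoidHom.ofInjective (F'.injective_of_mem hφ')).toEquiv]
  obtain ⟨α', hα'm, hα'x⟩ := Fusion.exists_aut_of_range_eq F' hφ' hr
  obtain ⟨k, hk⟩ := hin E' hE'S' α' hα'm
  refine ⟨k, ?_⟩
  have hpow : ∀ (n : ℕ) (x : E), (((α' ^ n) ⟨θ ⟨x, hES' x.2⟩, hEE' x⟩ : E') : Ω') =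
      θ ⟨((α ^ n) x : E), hES ((α ^ n) x).2⟩ := by
    intro n
    induction n with
    | zero => intro x; rfl
    | succ n ih =>
      intro x
      rw [pow_succ', pow_succ', MulAut.mul_apply, MulAut.mul_apply]
      have h1 : (α' ^ n) ⟨θ ⟨x, hES' x.2⟩, hEE' x⟩ =
          ⟨θ ⟨((α ^ n) x : E), hES' ((α ^ n) x).2⟩, hEE' ((α ^ n) x)⟩ := Subtype.ext (ih x)
      rw [h1, hα'x, hind]
      rfl
  intro x
  rw [← hpow, hk]
  rfl

theorem pow_apply_of_fix {E : Type*} [Group E] (a : MulAut E) (x : E) (h : a x = x) (n : ℕ) :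
    (a ^ n) x = x := by
  induction n with
  | zero => rfl
  | succ n ih => rw [pow_succ', MulAut.mul_apply, ih, h]

/-- `C_S(Q)` is normalized by `S` when `Q` is. -/
theorem le_normalizer_centralizerIn [Finite S] {Q : Subgroup Ω}
    (hQ : S ≤ Subgroup.normalizer (Q : Set Ω)) :
    S ≤ Subgroup.normalizer (centralizerIn S Q : Set Ω) := by
  intro s hs
  haveI : Finite ↥(centralizerIn S Q) := Fusion.finite_of_le (inf_le_left : centralizerIn S Q ≤ S)
  apply mem_normalizer_of_conj_mem_of_finite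
  intro d hd
  obtain ⟨hdS, hdC⟩ := Subgroup.mem_inf.mp hd
  refine Subgroup.mem_inf.mpr ⟨S.mul_mem (S.mul_mem hs hdS) (S.inv_mem hs), ?_⟩
  rw [Subgroup.mem_centralizer_iff] at hdC ⊢
  intro q hq
  have hq' : s⁻¹ * q * s ∈ Q := by
    have := (Subgroup.mem_normalizer_iff.mp (hQ (S.inv_mem hs)) q).mp hq
    rwa [inv_inv] at this
  have h1 := hdC _ hq'
  calc q * (s * d * s⁻¹) = s * ((s⁻¹ * q * s) * d) * s⁻¹ := by group
    _ = s * (d * (s⁻¹ * q * s)) * s⁻¹ := by rw [h1]
    _ = s * d * s⁻¹ * q := by group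

/-- If the factor system modulo the normal subgroup `Q` is inner, then `C_S(Q)` lies in every
essential subgroup. -/
theorem centralizerIn_le_essential [Finite S] (p : ℕ) [Fact p.Prime] (hS : IsPGroup p S)
    (F : FusionSystem S) (F' : FusionSystem S') (θ : S →* Ω') (hθ : F.IsSurjectiveMorphism F' θ)
    (hin : Inner p F') {Q : Subgroup Ω} (hQ : F.IsNormal Q) (hker : Fusion.kerAlong θ = Q)
    {E : Subgroup Ω} (hess : F.IsEssential p E) : centralizerIn S Q ≤ E := by
  have hc := hess.1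
  have hrad := Fusion.isRadical_of_isEssential p hS F hess
  have hES : E ≤ S := hc.1
  have hQE : Q ≤ E := Fusion.le_of_isNormal_of_centric_radical p hS F hQ hc hrad
  haveI : Finite E := Fusion.finite_of_le hES
  have hQS : S ≤ Subgroup.normalizer (Q : Set Ω) := Model.le_normalizer_of_isNormal F hQ
  -- automorphisms fixing `Q` pointwise have `p`-power order
  have hfix : ∀ a ∈ F.autGroup E, (∀ x : E, (x : Ω) ∈ Q → a x = x) → ∃ k : ℕ, a ^ (p ^ k) = 1 := by
    intro a ha hax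
    obtain ⟨k, hk⟩ := exists_pow_trivial_mod p F F' θ hθ hin hES a ha
    have hβ1 : ∀ x ∈ Q.subgroupOf E, (a ^ (p ^ k)) x = x := by
      intro x hx
      exact pow_apply_of_fix a x (hax x (Subgroup.mem_subgroupOf.mp hx)) _
    have hβ2 : ∀ x : E, x⁻¹ * (a ^ (p ^ k)) x ∈ Q.subgroupOf E := by
      intro x
      rw [Subgroup.mem_subgroupOf, ← hker]
      exact Fusion.inv_mul_mem_kerAlong θ (hES x.2) (hES ((a ^ (p ^ k)) x).2) (hk x).symm
    have h1 := stab_pow_card (Q.subgroupOf E) (a ^ (p ^ k)) hβ1 hβ2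
    have hQp : IsPGroup p ↥(Q.subgroupOf E) := (hS.to_le hES).to_subgroup _
    obtain ⟨m, hm⟩ := IsPGroup.iff_card.mp hQp
    refine ⟨k + m, ?_⟩
    rw [pow_add, pow_mul, ← hm]
    exact h1
  have hinvQ : ∀ b ∈ F.autGroup E, ∀ x : E, (x : Ω) ∈ Q → ((b x : E) : Ω) ∈ Q := by
    intro b hb x hx
    have h1 := Fusion.map_aut_eq_of_isNormal F hQ hQE hES b hb
    have h2 : b x ∈ (Q.subgroupOf E).map b.toMonoidHom :=
      ⟨x, by rw [SetLike.mem_coe, Subgroup.mem_subgroupOf]; exact hx, rfl⟩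
    rw [h1, Subgroup.mem_subgroupOf] at h2
    exact h2
  -- the subgroup `K₂`
  let K₂ : Subgroup ↥(F.autGroup E) :=
    { carrier := {a | ∀ x : E, (x : Ω) ∈ Q → (a : MulAut E) x = x}
      one_mem' := fun x _ => rfl
      mul_mem' := by
        intro a b ha hb x hx
        show (a : MulAut E) ((b : MulAut E) x) = x
        rw [hb x hx, ha x hx]
      inv_mem' := by
        intro a ha x hx
        show (a : MulAut E)⁻¹ x = x
        have := ha x hx
        rw [MulAut.inv_apply, MulEquiv.symm_apply_eq]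
        exact this.symm }
  have hK₂n : K₂.Normal := by
    constructor
    intro a ha b x hx
    show (b : MulAut E) ((a : MulAut E) ((b : MulAut E)⁻¹ x)) = x
    have h1 : (((b : MulAut E)⁻¹ x : E) : Ω) ∈ Q :=
      hinvQ _ ((F.autGroup E).inv_mem b.2) x hx
    rw [ha _ h1, MulAut.apply_inv_self]
  have hK₂p : IsPGroup p K₂ := by
    rintro ⟨a, ha⟩
    obtain ⟨k, hk⟩ := hfix a.1 a.2 ha
    refine ⟨k, ?_⟩
    apply Subtype.ext
    apply Subtype.ext
    rw [Subgroup.coe_pow, Subgroup.coe_pow]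
    exact hk
  have hK₂le : K₂ ≤ pCore p (F.autGroup E) := le_sSup ⟨hK₂n, hK₂p⟩
  -- elements of `C_S(Q)` normalizing `E` lie in `E`
  have key : ∀ c ∈ centralizerIn S Q, c ∈ Subgroup.normalizer (E : Set Ω) → c ∈ E := by
    intro c hcD hcN
    obtain ⟨hcS, hcC⟩ := Subgroup.mem_inf.mp hcD
    have hcA : conjAutHom E ⟨c, hcN⟩ ∈ F.autGroup E :=
      Fusion.autInducedBy_le_autGroup F hES (Fusion.conjAutHom_mem_autInducedBy E ⟨c, hcN⟩ hcS)
    have hcK : (⟨_, hcA⟩ : F.autGroup E) ∈ K₂ := by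
      intro x hx
      apply Subtype.ext
      show c * (x : Ω) * c⁻¹ = x
      rw [Subgroup.mem_centralizer_iff] at hcC
      rw [← hcC _ hx]
      group
    have hInn : conjAutHom E ⟨c, hcN⟩ ∈ Inn E := by
      rw [← hrad.2]
      exact ⟨⟨_, hcA⟩, hK₂le hcK, rfl⟩
    exact Fusion.mem_of_conjAutHom_mem_inn F hc c hcS hcN hInn
  -- normalizer growth
  by_contra hDE
  set D := centralizerIn S Q with hD
  have hDS : D ≤ S := inf_le_left
  have hEDS : E ⊔ D ≤ S := sup_le hES hDS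
  have hne : E ≠ E ⊔ D := by
    intro h
    apply hDE
    rw [h]
    exact le_sup_right
  haveI : Finite ↥(E ⊔ D) := Fusion.finite_of_le hEDS
  obtain ⟨g, hgT, hgE⟩ := Fusion.exists_mem_normalizerIn_not_mem (S := E ⊔ D) (hS.to_le hEDS)
    le_sup_left hne
  obtain ⟨hgED, hgN⟩ := Subgroup.mem_inf.mp hgT
  have hEnD : E ≤ Subgroup.normalizer (D : Set Ω) := hES.trans (le_normalizer_centralizerIn hQS)
  have hmul := Subgroup.coe_mul_of_left_le_normalizer_right E D hEnD
  have hg' : g ∈ ((E ⊔ D : Subgroup Ω) : Set Ω) := hgED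
  rw [hmul] at hg'
  obtain ⟨e, he, d, hd, hed⟩ := Set.mem_mul.mp hg'
  have hdN : d ∈ Subgroup.normalizer (E : Set Ω) := by
    have h1 : d = e⁻¹ * g := by rw [← hed]; group
    rw [h1]
    exact Subgroup.mul_mem _ (Subgroup.inv_mem _ (Subgroup.le_normalizer he)) hgN
  have hdE := key d hd hdN
  apply hgE
  rw [← hed]
  exact E.mul_mem he hdE

end Cfsg.Agent.Lead.GlTh
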