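import Mathlib
import Cfsg.Agent.Lead.GlThD
import Cfsg.Agent.Lead.GlThB
import Cfsg.Agent.Lead.ModelK
import Cfsg.Agent.Lead.Basic

set_option autoImplicit false

/-!
Glauberman-Thompson for fusion systems, part E: the case of a normal subgroup.
-/

namespace Cfsg.Agent.Lead.GlTh

open Cfsg Cfsg.FusionSystem Cfsg.Agent.Lead Cfsg.Agent.Helper1 Cfsg.Agent.Helper1.ThompsonRed

universe u

variable {Ω : Type u} [Group Ω] {S : Subgroup Ω}

/-- If the factor system modulo the normal subgroup `Q` is inner then `Q C_S(Q)` is normal. -/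
theorem sup_centralizerIn_isNormal [Finite S] (p : ℕ) [Fact p.Prime] (hS : IsPGroup p S)
    (F : FusionSystem S) (hF : F.IsSaturated p) {Ω' : Type u} [Group Ω'] {S' : Subgroup Ω'}
    (F' : FusionSystem S') (θ : S →* Ω') (hθ : F.IsSurjectiveMorphism F' θ)
    (hin : Inner p F') {Q : Subgroup Ω} (hQ : F.IsNormal Q) (hker : Fusion.kerAlong θ = Q) :
    F.IsNormal (Q ⊔ centralizerIn S Q) := by
  apply Fusion.isNormal_of_forall_essential p hS F hF
  intro P hP
  have hPS : P ≤ S := by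
    rcases hP with rfl | hess
    · exact le_rfl
    · exact hess.1.1
  have hQP : Q ≤ P := by
    rcases hP with rfl | hess
    · exact hQ.1
    · exact Fusion.le_of_isNormal_of_centric_radical p hS F hQ hess.1
        (Fusion.isRadical_of_isEssential p hS F hess)
  have hDP : centralizerIn S Q ≤ P := by
    rcases hP with rfl | hess
    · exact inf_le_left
    · exact centralizerIn_le_essential p hS F F' θ hθ hin hQ hker hess
  haveI : Finite P := Fusion.finite_of_le hPS
  refine ⟨sup_le hQP hDP, fun α hα => ?_⟩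
  have hαQ := Fusion.map_aut_eq_of_isNormal F hQ hQP hPS α hα
  apply Fusion.map_aut_eq_of_le
  rw [Subgroup.subgroupOf_sup hQP hDP, Subgroup.map_sup]
  apply sup_le
  · rw [hαQ]
    exact le_sup_left
  · refine le_trans ?_ le_sup_right
    rintro _ ⟨d, hd, rfl⟩
    rw [SetLike.mem_coe, Subgroup.mem_subgroupOf] at hd
    rw [Subgroup.mem_subgroupOf]
    obtain ⟨-, hdC⟩ := Subgroup.mem_inf.mp hd
    refine Subgroup.mem_inf.mpr ⟨hPS (α d).2, ?_⟩
    rw [Subgroup.mem_centralizer_iff] at hdC ⊢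
    intro q hq
    have hq' : (⟨q, hQP hq⟩ : P) ∈ (Q.subgroupOf P).map α.toMonoidHom := by
      rw [hαQ, Subgroup.mem_subgroupOf]; exact hq
    obtain ⟨q₀, hq₀, hq₀q⟩ := hq'
    rw [SetLike.mem_coe, Subgroup.mem_subgroupOf] at hq₀
    have h1 : q₀ * d = d * q₀ := Subtype.ext (hdC _ hq₀)
    have h2 : α q₀ * α d = α d * α q₀ := by rw [← map_mul, ← map_mul, h1]
    have h3 : α q₀ = ⟨q, hQP hq⟩ := hq₀q
    rw [h3] at h2
    exact congrArg Subtype.val h2

theorem isCentric_of_isNormal [Finite S] (F : FusionSystem S) {Q : Subgroup Ω} (hQ : F.IsNormal Q)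
    (h : centralizerIn S Q ≤ Q) : F.IsCentric Q := by
  refine ⟨hQ.1, ?_⟩
  rintro Q'' ⟨φ, hφ, hr⟩
  have hsc := Fusion.stronglyClosed_of_isNormal F hQ
  haveI : Finite Q := Fusion.finite_of_le hQ.1
  have hQ'' : Q'' = Q := by
    rw [← hr]
    apply Subgroup.eq_of_le_of_card_ge
    · rintro _ ⟨x, rfl⟩
      exact hsc.2 Q le_rfl φ hφ x
    · rw [Nat.card_congr (MonoidHom.ofInjective (F.injective_of_mem hφ)).toEquiv]
  rw [hQ'']
  exact h

/-- The factor system modulo a normal subgroup. -/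
theorem exists_factor [Finite S] (p : ℕ) [Fact p.Prime] (hS : IsPGroup p S)
    (F : FusionSystem S) (hF : F.IsSaturated p) {Q : Subgroup Ω} (hQ : F.IsNormal Q) :
    ∃ (Ω' : Type u) (_ : Group Ω') (S' : Subgroup Ω') (_ : Finite S') (F' : FusionSystem S')
      (θ : S →* Ω'), IsPGroup p S' ∧ F.IsSurjectiveMorphism F' θ ∧ Fusion.kerAlong θ = Q ∧
        F'.IsSaturated p ∧ Nat.card S' * Nat.card Q = Nat.card S := by
  haveI := Model.Qs_normal F hQ
  have hQS := hQ.1
  set θ : S →* (↥S ⧸ Model.Qs S Q) := QuotientGroup.mk' (Model.Qs S Q) with hθdef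
  have hker : ∀ s : S, θ s = 1 ↔ (s : Ω) ∈ Q := by
    intro s
    rw [hθdef, QuotientGroup.mk'_apply, QuotientGroup.eq_one_iff, Subgroup.mem_subgroupOf]
  have hr : θ.range = (⊤ : Subgroup (↥S ⧸ Model.Qs S Q)) :=
    MonoidHom.range_eq_top.mpr (QuotientGroup.mk'_surjective _)
  have hsc := Fusion.stronglyClosed_of_isNormal F hQ
  have hfac := Fusion.factorSystem_isFactorSystem F θ hsc hker hr
  have hθ := Fusion.isSurjectiveMorphism_of_isFactorSystem p hS F hF Q hsc θ _ hfac
  have hsat := Fusion.isSaturated_image p hS F hF _ θ hθ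
  haveI hfin : Finite ↥(⊤ : Subgroup (↥S ⧸ Model.Qs S Q)) := Fusion.finite_of_range θ hr
  refine ⟨↥S ⧸ Model.Qs S Q, inferInstance, ⊤, hfin, Fusion.factorSystem F θ hsc hker hr, θ,
    ?_, hθ, ?_, hsat, ?_⟩
  · have h1 : IsPGroup p (↥S ⧸ Model.Qs S Q) := hS.to_quotient _
    exact h1.to_subgroup _
  · ext s
    rw [Fusion.mem_kerAlong]
    constructor
    · rintro ⟨hs, h⟩
      exact (hker _).mp h
    · intro hs
      exact ⟨hQS hs, (hker _).mpr hs⟩
  · rw [Subgroup.card_top, Nat.card_congr (Model.eQ hQS).toEquiv]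
    exact (Subgroup.card_eq_card_quotient_mul_card_subgroup (Model.Qs S Q)).symm

theorem of_subgroupOf_map_aut (W : CharFunctor.{u}) (S : Subgroup Ω) (α : MulAut ↥S) :
    ((W.of S).subgroupOf S).map α.toMonoidHom = (W.of S).subgroupOf S := by
  have h1 : (W.of S).subgroupOf S = W.W ↥S := by
    unfold CharFunctor.of Subgroup.subgroupOf
    exact Subgroup.comap_map_eq_self_of_injective S.subtype_injective _
  rw [h1]
  exact W.map_equiv α

theorem of_ne_bot' (W : CharFunctor.{u}) (p : ℕ)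
    (hne : ∀ (R : Type u) [Group R] [Finite R], IsPGroup p R → Nontrivial R → W.W R ≠ ⊥)
    (S : Subgroup Ω) [Finite S] (hS : IsPGroup p S) (hnt : 1 < Nat.card S) : W.of S ≠ ⊥ := by
  have h1 : Nontrivial ↥S := Finite.one_lt_card_iff_nontrivial.mp hnt
  have h2 := hne ↥S hS h1
  intro h
  apply h2
  unfold CharFunctor.of at h
  exact (Subgroup.map_eq_bot_iff_of_injective _ S.subtype_injective).mp h

end Cfsg.Agent.Lead.GlTh
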