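import Mathlib
import Cfsg.Agent.Lead.GlThE

set_option autoImplicit false

/-!
Glauberman-Thompson for fusion systems, part F: the case where a nontrivial subgroup is normal in
the system.
-/

namespace Cfsg.Agent.Lead.GlTh

open Cfsg Cfsg.FusionSystem Cfsg.Agent.Lead Cfsg.Agent.Helper1 Cfsg.Agent.Helper1.ThompsonRed

universe u

variable {Ω : Type u} [Group Ω] {S : Subgroup Ω}

theorem step3 [Finite S] (p : ℕ) [Fact p.Prime] (hS : IsPGroup p S) (W : CharFunctor.{u})
    (hne : ∀ (R : Type u) [Group R] [Finite R], IsPGroup p R → Nontrivial R → W.W R ≠ ⊥)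
    (hgrp : ∀ (G : Type u) [Group G] [Finite G] (P : Sylow p G),
      HasNormalPComplement p ↥(Subgroup.normalizer (W.of (P : Subgroup G) : Set G)) →
        HasNormalPComplement p G)
    (IH : ∀ (Ω' : Type u) [Group Ω'] (S' : Subgroup Ω') [Finite S'],
      Nat.card S' < Nat.card S → IsPGroup p S' →
      ∀ F' : FusionSystem S', F'.IsSaturated p → NP p F' (W.of S') → Inner p F')
    (F : FusionSystem S) (hF : F.IsSaturated p) {Q : Subgroup Ω} (hQ : F.IsNormal Q)
    (hQne : Q ≠ ⊥) (hW : NP p F (W.of S))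
    (hM : ∀ U : Subgroup Ω, U ≤ S → S ≤ Subgroup.normalizer (U : Set Ω) →
      Nat.card Q < Nat.card U → NP p F U) : Inner p F := by
  by_contra hni
  have hQS := hQ.1
  haveI : Finite Q := Fusion.finite_of_le hQS
  have h0 : ∀ U : Subgroup Ω, F.IsNormal U → Nat.card U ≤ Nat.card Q := by
    intro U hU
    by_contra h
    rw [not_le] at h
    exact hni (inner_of_np_normal F hU (hM U hU.1 (Model.le_normalizer_of_isNormal F hU) h))
  by_cases hQeq : Q = S
  · apply hni
    apply inner_of_np_normal' F hQ (U' := W.of S) (by rw [hQeq]; exact W.of_le S)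
      (le_normalizer_of W S) ?_ hW
    intro P hQP hPS α _ _
    have hPeq : P = S := le_antisymm hPS (hQeq ▸ hQP)
    subst hPeq
    exact of_subgroupOf_map_aut W P α
  · obtain ⟨Ω', _, S', _, F', θ, hS'p, hθ, hker, hsat', hcard⟩ := exists_factor p hS F hF hQ
    have hQcard : 1 < Nat.card Q := Q.one_lt_card_iff_ne_bot.mpr hQne
    have hQlt : Nat.card Q < Nat.card S := card_lt_of_lt (lt_of_le_of_ne hQS hQeq)
    have hS'pos : 0 < Nat.card S' := Nat.card_pos
    have hlt : Nat.card S' < Nat.card S := by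
      rw [← hcard]
      nlinarith
    have hS'nt : 1 < Nat.card S' := by
      by_contra h
      rw [not_lt] at h
      have : Nat.card S' = 1 := le_antisymm h hS'pos
      rw [this, one_mul] at hcard
      omega
    set T := preimageAlong θ (W.of S') with hTdef
    have hWS' : W.of S' ≤ S' := W.of_le S'
    have hTcard : Nat.card T = Nat.card Q * Nat.card (W.of S') := by
      rw [hTdef, Fusion.card_preimageAlong θ hθ.2.1 hWS', hker]
    have hWne : W.of S' ≠ ⊥ := of_ne_bot' W p hne S' hS'p hS'nt
    haveI : Finite ↥(W.of S') := Fusion.finite_of_le hWS'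
    have hWcard : 1 < Nat.card (W.of S') := (W.of S').one_lt_card_iff_ne_bot.mpr hWne
    have hTgt : Nat.card Q < Nat.card T := by
      rw [hTcard]
      nlinarith
    have hTS : T ≤ S := Fusion.preimageAlong_le θ _
    have hTn : S ≤ Subgroup.normalizer (T : Set Ω) := by
      have h1 := Fusion.normalizerIn_preimageAlong θ hθ.1.1 hθ.2.1 hWS'
      have h2 : normalizerIn S' (W.of S') = S' :=
        le_antisymm inf_le_left (le_inf le_rfl (le_normalizer_of W S'))
      rw [h2, Fusion.preimageAlong_top θ hθ.1.1] at h1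
      intro s hs
      have : s ∈ normalizerIn S T := by rw [hTdef, h1]; exact hs
      exact (Subgroup.mem_inf.mp this).2
    have hNPT : NP p F T := hM T hTS hTn hTgt
    have hNP' : NP p F' (W.of S') := np_image p W F F' θ hθ hNPT
    have hin' : Inner p F' := IH Ω' S' hlt hS'p F' hsat' hNP'
    have hQD := sup_centralizerIn_isNormal p hS F hF F' θ hθ hin' hQ hker
    have hDQ : centralizerIn S Q ≤ Q := by
      have h1 := h0 _ hQD
      haveI : Finite ↥(Q ⊔ centralizerIn S Q) := Fusion.finite_of_le hQD.1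
      have h2 : Q = Q ⊔ centralizerIn S Q := Subgroup.eq_of_le_of_card_ge le_sup_left h1
      exact le_sup_right.trans h2.ge
    have hcen := isCentric_of_isNormal F hQ hDQ
    obtain ⟨G, _, ι, hfin, hreal, ⟨T₁, hT₁⟩, -⟩ := Model.exists_isModel p hS F ⟨hF, Q, hQ, hcen⟩
    haveI := hfin
    exact hni (inner_of_realized p hS W hgrp F G ι hreal T₁ hT₁ hW)

end Cfsg.Agent.Lead.GlTh
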