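import Mathlib
import Cfsg.Agent.Lead.GlThG
import Cfsg.Agent.Helper6.FaithfulIrr

set_option autoImplicit false

/-!
Glauberman-Thompson for fusion systems relative to a strongly closed subgroup, part I: general lemmas.
-/

namespace Cfsg.Agent.Lead.GlTh

open Cfsg Cfsg.FusionSystem Cfsg.Agent.Lead Cfsg.Agent.Helper1 Cfsg.Agent.Helper1.ThompsonRed

universe u

variable {Ω : Type u} [Group Ω] {S : Subgroup Ω}

theorem inner_of_np_bot {p : ℕ} (F : FusionSystem S) (h : NP p F ⊥) : Inner p F := by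
  intro P hP α hα
  refine h P bot_le (le_inf hP ?_) α hα ?_
  · intro x _
    rw [Subgroup.mem_normalizer_iff]
    intro y
    simp only [Subgroup.mem_bot]
    constructor
    · rintro rfl; group
    · intro hy
      have : y = x⁻¹ * (x * y * x⁻¹) * x := by group
      rw [this, hy]; group
  · rw [Subgroup.bot_subgroupOf, Subgroup.map_bot]

/-- A characteristic functor value of `D` is invariant under automorphisms normalizing `D`. -/
theorem of_subgroupOf_map_aut' (W : CharFunctor.{u}) {D P : Subgroup Ω} (hDP : D ≤ P) (α : MulAut P)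
    (h : (D.subgroupOf P).map α.toMonoidHom = D.subgroupOf P) :
    ((W.of D).subgroupOf P).map α.toMonoidHom = (W.of D).subgroupOf P := by
  have h1 : (W.of D).subgroupOf P = W.of (D.subgroupOf P) := by
    have h2 := W.of_subgroupOf hDP
    rw [← h2]
    unfold Subgroup.subgroupOf
    exact Subgroup.comap_map_eq_self_of_injective P.subtype_injective _
  rw [h1, ← W.of_map_of_injective α.toMonoidHom α.injective, h]

/-- An element normalizing `D` normalizes `W(D)`. -/
theorem normalizer_le_of (W : CharFunctor.{u}) (D : Subgroup Ω) :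
    Subgroup.normalizer (D : Set Ω) ≤ Subgroup.normalizer (W.of D : Set Ω) := W.normalizer_le D

theorem le_normalizer_of_stronglyClosed (F : FusionSystem S) {D : Subgroup Ω}
    (hD : F.StronglyClosed D) : S ≤ Subgroup.normalizer (D : Set Ω) := by
  intro s hs
  rw [Subgroup.mem_normalizer_iff]
  intro x
  constructor
  · intro hx
    exact Fusion.conj_mem_of_stronglyClosed F hD hs hx
  · intro hx
    have := Fusion.conj_mem_of_stronglyClosed F hD (S.inv_mem hs) hx
    convert this using 1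
    group

/-- The image of a strongly closed subgroup under a surjective morphism is strongly closed. -/
theorem stronglyClosed_image [Finite S] {Ω' : Type*} [Group Ω'] {S' : Subgroup Ω'}
    (F : FusionSystem S) (F' : FusionSystem S') (θ : S →* Ω') (hθ : F.IsSurjectiveMorphism F' θ)
    {D : Subgroup Ω} (hD : F.StronglyClosed D) : F'.StronglyClosed (imageAlong θ D) := by
  have hr := hθ.2.1
  have hK := Fusion.kerAlong_stronglyClosed F F' θ hθ.1
  refine ⟨?_, ?_⟩
  · intro y hy
    obtain ⟨x, -, hxS, rfl⟩ := (Fusion.mem_imageAlong θ D y).mp hy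
    exact hθ.1.1 _
  · intro R' hR' φ' hφ' x'
    have hR'S' : R' ≤ S' := Fusion.src_le F' hφ'
    obtain ⟨φ, hφ, hPS, hφS, hPP', hind⟩ := hθ.2.2 R' hR'S' φ' hφ'
    obtain ⟨d, hdD, hdS, hdx⟩ := (Fusion.mem_imageAlong θ D x'.1).mp (hR' x'.2)
    have hdP : d ∈ preimageAlong θ R' :=
      (Fusion.mem_preimageAlong θ R' d).mpr ⟨hdS, hdx ▸ x'.2⟩
    have h1 : x' = ⟨θ ⟨((⟨d, hdP⟩ : ↥(preimageAlong θ R')) : Ω), hPS hdP⟩, hPP' ⟨d, hdP⟩⟩ :=
      Subtype.ext hdx.symm
    rw [h1, hind ⟨d, hdP⟩]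
    rw [Fusion.mem_imageAlong]
    have hle : preimageAlong θ R' ⊓ D ≤ preimageAlong θ R' := inf_le_left
    have h2 := hD.2 (preimageAlong θ R' ⊓ D) inf_le_right _ (Fusion.restrict_mem F hφ hle)
      ⟨d, Subgroup.mem_inf.mpr ⟨hdP, hdD⟩⟩
    exact ⟨φ ⟨d, hdP⟩, h2, hφS _, rfl⟩

/-- `NP` for a preimage gives `NP` in the image system. -/
theorem np_image' [Finite S] (p : ℕ) {Ω' : Type u} [Group Ω'] {S' : Subgroup Ω'}
    (F : FusionSystem S) (F' : FusionSystem S') (θ : S →* Ω') (hθ : F.IsSurjectiveMorphism F' θ)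
    {X' : Subgroup Ω'} (hX' : X' ≤ S')
    (hT : NP p F (preimageAlong θ X')) : NP p F' X' := by
  intro P' hWP' hP'N α' hα' hα'W
  have hr := hθ.2.1
  have hθS' : ∀ s : S, θ s ∈ S' := hθ.1.1
  have hP'S' : P' ≤ S' := hP'N.trans inf_le_left
  set T := preimageAlong θ X' with hTdef
  set P := preimageAlong θ P' with hPdef
  obtain ⟨γ, hγ, hlift⟩ := Fusion.exists_liftsAut F F' θ hθ hP'S' α' hα'
  have hPS : P ≤ S := Fusion.preimageAlong_le θ P'
  haveI : Finite P := Fusion.finite_of_le hPS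
  have hTP : T ≤ P := Fusion.preimageAlong_mono θ hWP'
  have hPN : P ≤ normalizerIn S T := by
    rw [hTdef, Fusion.normalizerIn_preimageAlong θ hθS' hr hX']
    exact Fusion.preimageAlong_mono θ hP'N
  have hγT : (T.subgroupOf P).map γ.toMonoidHom = T.subgroupOf P := by
    apply Fusion.map_aut_eq_of_le
    rintro _ ⟨x, hx, rfl⟩
    rw [SetLike.mem_coe, Subgroup.mem_subgroupOf] at hx
    rw [Subgroup.mem_subgroupOf]
    obtain ⟨hxS, hxW⟩ := (Fusion.mem_preimageAlong θ X' x.1).mp hx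
    have h1 : Fusion.toImage θ P' x ∈ X'.subgroupOf P' := by
      rw [Subgroup.mem_subgroupOf, Fusion.toImage_coe]
      exact hxW
    have h2 : α' (Fusion.toImage θ P' x) ∈ (X'.subgroupOf P').map α'.toMonoidHom :=
      ⟨_, h1, rfl⟩
    rw [hα'W, ← hlift x, Subgroup.mem_subgroupOf, Fusion.toImage_coe] at h2
    exact (Fusion.mem_preimageAlong θ X' _).mpr ⟨hPS (γ x).2, h2⟩
  obtain ⟨k, hk⟩ := hT P hTP hPN γ hγ hγT
  refine ⟨k, ?_⟩
  have h3 := Fusion.liftsAut_pow θ P' hlift (p ^ k)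
  rw [hk] at h3
  ext y
  obtain ⟨x, rfl⟩ := Fusion.toImage_surjective θ hr hP'S' y
  have h4 := h3 x
  rw [← h4]
  rfl

end Cfsg.Agent.Lead.GlTh
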