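import Mathlib
import Cfsg.Prelude.Def_FusionSystem
import Cfsg.Agent.Lead.FusionAlperinGe
import Cfsg.Agent.Lead.FusionNormalCrit
import Cfsg.Agent.Lead.ModelH

set_option autoImplicit false

/-!
Kessar–Linckelmann reductions, part a: normalizer maps and normal subgroups.
-/

namespace Cfsg.Agent.Lead.KL

open Cfsg Cfsg.FusionSystem Cfsg.Agent.Lead

variable {Ω : Type*} [Group Ω] {S : Subgroup Ω}

/-- A map of the system stabilizing a subgroup `U` of its source `P ≤ N_S(U)` is a normalizer map. -/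
theorem mem_normalizerHom_of_le (F : FusionSystem S) {U P : Subgroup Ω} (hUP : U ≤ P)
    (hPN : P ≤ normalizerIn S U) (φ : P →* Ω) (hφ : φ ∈ F.Hom P)
    (hφU : (U.subgroupOf P).map φ = U) : φ ∈ F.normalizerHom U P := by
  have key : ∀ x : P, ∀ u ∈ U, φ x * u * (φ x)⁻¹ ∈ U := by
    intro x u hu
    obtain ⟨u₀, hu₀, rfl⟩ := hφU.ge hu
    rw [SetLike.mem_coe, Subgroup.mem_subgroupOf] at hu₀
    rw [← map_inv, ← map_mul, ← map_mul]
    apply hφU.le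
    refine ⟨_, ?_, rfl⟩
    rw [SetLike.mem_coe, Subgroup.mem_subgroupOf]
    have hxN := (Subgroup.mem_inf.mp (hPN x.2)).2
    exact (Subgroup.mem_normalizer_iff.mp hxN _).mp hu₀
  refine ⟨hφ, hPN, fun x => Subgroup.mem_inf.mpr ⟨Fusion.map_mem F hφ x, ?_⟩, ?_⟩
  · rw [Subgroup.mem_normalizer_iff]
    intro h
    constructor
    · exact key x h
    · intro hh
      have h1 := key x⁻¹ _ hh
      rw [map_inv, inv_inv] at h1
      have h2 : (φ x)⁻¹ * (φ x * h * (φ x)⁻¹) * φ x = h := by group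
      rwa [h2] at h1
  · have hle : P ⊔ U ≤ P := sup_le le_rfl hUP
    refine ⟨φ.comp (Subgroup.inclusion hle), Fusion.restrict_mem F hφ hle, fun x => ?_, ?_⟩
    · show φ _ = φ x
      congr 1
    · ext y
      constructor
      · rintro ⟨z, hz, rfl⟩
        rw [SetLike.mem_coe, Subgroup.mem_subgroupOf] at hz
        apply hφU.le
        refine ⟨Subgroup.inclusion hle z, ?_, rfl⟩
        rw [SetLike.mem_coe, Subgroup.mem_subgroupOf]
        exact hz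
      · intro hy
        obtain ⟨z, hz, rfl⟩ := hφU.ge hy
        rw [SetLike.mem_coe, Subgroup.mem_subgroupOf] at hz
        refine ⟨Subgroup.inclusion (le_sup_left : P ≤ P ⊔ U) z, ?_, ?_⟩
        · rw [SetLike.mem_coe, Subgroup.mem_subgroupOf]
          exact hz
        · show φ _ = φ z
          congr 1

/-- If `U` is normal in the system, every map is a normalizer map of `U`. -/
theorem mem_normalizerHom_of_isNormal (F : FusionSystem S) {U : Subgroup Ω} (hU : F.IsNormal U)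
    {P : Subgroup Ω} (φ : P →* Ω) (hφ : φ ∈ F.Hom P) : φ ∈ F.normalizerHom U P := by
  have hSN : S ≤ normalizerIn S U := le_inf le_rfl (Model.le_normalizer_of_isNormal F hU)
  obtain ⟨ψ, hψ, hψP, hψU⟩ := hU.2 P φ hφ
  exact ⟨hφ, (Fusion.src_le F hφ).trans hSN, fun x => hSN (Fusion.map_mem F hφ x), ψ, hψ, hψP, hψU⟩

theorem isNormal_of_forall_mem_normalizerHom (F : FusionSystem S) {U : Subgroup Ω} (hUS : U ≤ S)
    (h : ∀ (P : Subgroup Ω) (φ : P →* Ω), φ ∈ F.Hom P → φ ∈ F.normalizerHom U P) :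
    F.IsNormal U := by
  refine ⟨hUS, fun P φ hφ => ?_⟩
  obtain ⟨-, -, -, ψ, hψ, hψP, hψU⟩ := h P φ hφ
  exact ⟨ψ, hψ, hψP, hψU⟩

/-- The normalizer system of a normal subgroup has all the maps. -/
theorem normalizerSystem_hom_eq (F : FusionSystem S) {U : Subgroup Ω} (hU : F.IsNormal U)
    (N : FusionSystem (normalizerIn S U)) (hN : F.IsNormalizerSystem U N) (P : Subgroup Ω) :
    N.Hom P = F.Hom P := by
  rw [hN P]
  ext φ
  exact ⟨fun h => h.1, fun h => mem_normalizerHom_of_isNormal F hU φ h⟩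

/-- A subgroup normal in the normalizer system of a normal subgroup is normal. -/
theorem isNormal_of_normalizerSystem (F : FusionSystem S) {U : Subgroup Ω} (hU : F.IsNormal U)
    (N : FusionSystem (normalizerIn S U)) (hN : F.IsNormalizerSystem U N) {X : Subgroup Ω}
    (hX : N.IsNormal X) : F.IsNormal X := by
  refine ⟨hX.1.trans inf_le_left, fun P φ hφ => ?_⟩
  have h1 : φ ∈ N.Hom P := by
    rw [normalizerSystem_hom_eq F hU N hN]; exact hφ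
  obtain ⟨ψ, hψ, hψP, hψX⟩ := hX.2 P φ h1
  rw [normalizerSystem_hom_eq F hU N hN] at hψ
  exact ⟨ψ, hψ, hψP, hψX⟩

/-- If `U` is not normal, some map of the system is not a normalizer map. -/
theorem exists_not_mem_normalizerHom (F : FusionSystem S) {U : Subgroup Ω} (hUS : U ≤ S)
    (hU : ¬ F.IsNormal U) :
    ∃ (P : Subgroup Ω) (φ : P →* Ω), φ ∈ F.Hom P ∧ φ ∉ F.normalizerHom U P := by
  by_contra h
  push Not at h
  exact hU (isNormal_of_forall_mem_normalizerHom F hUS h)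

/-- Transport of a map along another: if `χ ∈ E` is defined on `M ⊇ P`, `ψ : P → M` is a map of `F`,
and the transported map `ψ'` on `χ(P)` lies in `E`, then `ψ ∈ E`. -/
theorem mem_of_transport (F E : FusionSystem S) {M P : Subgroup Ω} (hPM : P ≤ M)
    (χ : M →* Ω) (hχ : χ ∈ E.Hom M) (ψ : P →* Ω) (hψM : ∀ x : P, ψ x ∈ M)
    (ψ' : ↥((P.subgroupOf M).map χ) →* Ω) (hψ' : ψ' ∈ E.Hom ((P.subgroupOf M).map χ))
    (hcomm : ∀ (x : P) (hx : χ ⟨x, hPM x.2⟩ ∈ (P.subgroupOf M).map χ),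
      ψ' ⟨χ ⟨x, hPM x.2⟩, hx⟩ = χ ⟨ψ x, hψM x⟩) : ψ ∈ E.Hom P := by
  have hχ₁ := Fusion.restrict_mem E hχ hPM
  have hmem : ∀ x : P, (χ.comp (Subgroup.inclusion hPM)) x ∈ (P.subgroupOf M).map χ := by
    intro x
    refine ⟨⟨x, hPM x.2⟩, ?_, rfl⟩
    rw [SetLike.mem_coe, Subgroup.mem_subgroupOf]
    exact x.2
  have h1 := E.comp_mem hχ₁ hψ' hmem
  -- `h1 : x ↦ χ (ψ x)`
  have hψrM : ψ.range ≤ M := by
    rintro _ ⟨x, rfl⟩
    exact hψM x
  have hχ₂ := Fusion.restrict_mem E hχ hψrM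
  obtain ⟨σ, hσ, hσinv, -⟩ := Fusion.exists_inv E hχ₂ rfl
  have h2mem : ∀ x : P, (ψ'.comp ((χ.comp (Subgroup.inclusion hPM)).codRestrict _ hmem)) x ∈
      (χ.comp (Subgroup.inclusion hψrM)).range := by
    intro x
    refine ⟨⟨ψ x, ⟨x, rfl⟩⟩, ?_⟩
    show χ ⟨ψ x, _⟩ = ψ' ⟨χ ⟨x, _⟩, _⟩
    rw [hcomm x (hmem x)]
  have h2 := E.comp_mem h1 hσ h2mem
  convert h2 using 1
  ext x
  show ψ x = σ ⟨ψ' ⟨χ ⟨x, hPM x.2⟩, hmem x⟩, h2mem x⟩
  have hval : (⟨ψ' ⟨χ ⟨x, hPM x.2⟩, hmem x⟩, h2mem x⟩ : ↥(χ.comp (Subgroup.inclusion hψrM)).range) =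
      ⟨(χ.comp (Subgroup.inclusion hψrM)) ⟨ψ x, ⟨x, rfl⟩⟩, ⟨_, rfl⟩⟩ :=
    Subtype.ext (hcomm x (hmem x))
  rw [hval]
  exact (hσinv ⟨ψ x, ⟨x, rfl⟩⟩ ⟨_, rfl⟩).symm

/-- Existence of the transported map. -/
theorem exists_transport (F : FusionSystem S) {M P : Subgroup Ω} (hPM : P ≤ M)
    (χ : M →* Ω) (hχ : χ ∈ F.Hom M) (ψ : P →* Ω) (hψ : ψ ∈ F.Hom P) (hψM : ∀ x : P, ψ x ∈ M) :
    ∃ ψ' ∈ F.Hom ((P.subgroupOf M).map χ),
      ∀ (x : P) (hx : χ ⟨x, hPM x.2⟩ ∈ (P.subgroupOf M).map χ),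
        ψ' ⟨χ ⟨x, hPM x.2⟩, hx⟩ = χ ⟨ψ x, hψM x⟩ := by
  have hχ₁ := Fusion.restrict_mem F hχ hPM
  have hr : (χ.comp (Subgroup.inclusion hPM)).range = (P.subgroupOf M).map χ := by
    ext y
    constructor
    · rintro ⟨x, rfl⟩
      refine ⟨⟨x, hPM x.2⟩, ?_, rfl⟩
      rw [SetLike.mem_coe, Subgroup.mem_subgroupOf]
      exact x.2
    · rintro ⟨m, hm, rfl⟩
      rw [SetLike.mem_coe, Subgroup.mem_subgroupOf] at hm
      exact ⟨⟨m, hm⟩, rfl⟩
  obtain ⟨σ, hσ, hσinv, hσr⟩ := Fusion.exists_inv F hχ₁ hr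
  have hσP : ∀ y, σ y ∈ P := fun y => hσr.le ⟨y, rfl⟩
  have h1 := F.comp_mem hσ hψ hσP
  have h1M : ∀ y, (ψ.comp (σ.codRestrict P hσP)) y ∈ M := fun y => hψM _
  have h2 := F.comp_mem h1 hχ h1M
  refine ⟨_, h2, fun x hx => ?_⟩
  have h5 : (⟨σ ⟨χ ⟨x, hPM x.2⟩, hx⟩, hσP _⟩ : P) = x := Subtype.ext (hσinv x hx)
  show χ ⟨ψ ⟨σ ⟨χ ⟨x, hPM x.2⟩, hx⟩, hσP _⟩, _⟩ = χ ⟨ψ x, _⟩
  congr 1
  apply Subtype.ext
  show ψ _ = ψ x
  rw [h5]

end Cfsg.Agent.Lead.KL
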