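import Mathlib
import Cfsg.Agent.Lead.KLa
import Cfsg.Agent.Lead.GlThI
import Cfsg.Agent.S5096

set_option autoImplicit false

/-!
Kessar–Linckelmann reductions, part b: the climbing argument. If `W(N_S(U))` is normal in `N_F(U)`
for every nontrivial fully normalized `U`, then `W(S)` is normal in `F`.
-/

namespace Cfsg.Agent.Lead.KL

open Cfsg Cfsg.FusionSystem Cfsg.Agent.Lead Cfsg.Agent.Helper1 Cfsg.Agent.Helper1.ThompsonRed
  Cfsg.Agent.Lead.GlTh

universe u

variable {Ω : Type u} [Group Ω] {S : Subgroup Ω}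

/-- The local hypothesis of the climbing argument. -/
def LocalNormal (W : CharFunctor.{u}) (F : FusionSystem S) : Prop :=
  ∀ U : Subgroup Ω, U ≠ ⊥ → F.IsFullyNormalized U →
    ∀ N : FusionSystem (normalizerIn S U), F.IsNormalizerSystem U N →
      N.IsNormal (W.of (normalizerIn S U))

theorem normalizerIn_of_eq (W : CharFunctor.{u}) (S : Subgroup Ω) :
    normalizerIn S (W.of S) = S :=
  le_antisymm inf_le_left (le_inf le_rfl (le_normalizer_of W S))

theorem map_eq_of_le_of_injective {P : Subgroup Ω} [Finite P] (φ : P →* Ω)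
    (hinj : Function.Injective φ) {U : Subgroup Ω} (h : (U.subgroupOf P).map φ ≤ U) (hUP : U ≤ P) :
    (U.subgroupOf P).map φ = U := by
  haveI : Finite U := Finite.of_injective (Subgroup.inclusion hUP) (Subgroup.inclusion_injective hUP)
  apply Subgroup.eq_of_le_of_card_ge h
  rw [Subgroup.card_map_of_injective hinj, card_subgroupOf_of_le hUP]

theorem climb [Finite S] (p : ℕ) [Fact p.Prime] (hS : IsPGroup p S) (W : CharFunctor.{u})
    (hne : ∀ (R : Type u) [Group R] [Finite R], IsPGroup p R → Nontrivial R → W.W R ≠ ⊥)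
    (F : FusionSystem S) (hF : F.IsSaturated p) (hloc : LocalNormal W F) (E : FusionSystem S)
    (hE : ∀ P, E.Hom P = F.normalizerHom (W.of S) P) (n : ℕ)
    (hn : ∀ (P : Subgroup Ω) (φ : P →* Ω), φ ∈ F.Hom P → n < Nat.card P → φ ∈ E.Hom P) :
    ∀ (d : ℕ) (U : Subgroup Ω), U ≠ ⊥ → Nat.card S - Nat.card (normalizerIn S U) = d →
      n < Nat.card (normalizerIn S U) → ∀ (P₁ : Subgroup Ω) (ψ : P₁ →* Ω), ψ ∈ F.Hom P₁ →
        U ≤ P₁ → P₁ ≤ normalizerIn S U → (U.subgroupOf P₁).map ψ = U → ψ ∈ E.Hom P₁ := by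
  intro d
  induction d using Nat.strong_induction_on with
  | _ d ih =>
  intro U hUne hd hnU P₁ ψ hψ hUP hPN hψU
  have hP₁S : P₁ ≤ S := Fusion.src_le F hψ
  have hUS : U ≤ S := hUP.trans hP₁S
  haveI : Finite U := Fusion.finite_of_le hUS
  haveI : Finite P₁ := Fusion.finite_of_le hP₁S
  obtain ⟨U', hUU', hU'n⟩ := Fusion.exists_isConj_fullyNormalized F hUS
  obtain ⟨hfc, hfa⟩ := Fusion.fullyCentralized_fullyAutomized_of_fullyNormalized p hS F hF hU'n
  have hrec := Fusion.receptive_of_fullyCentralized p hS F hF hfc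
  obtain ⟨χ, hχ, hχN, hχU⟩ := Fusion.exists_hom_normalizerIn p hS F hfa hrec hUU'
  have hχE : χ ∈ E.Hom _ := hn _ χ hχ hnU
  have hψN := mem_normalizerHom_of_le F hUP hPN ψ hψ hψU
  have hψM : ∀ x : P₁, ψ x ∈ normalizerIn S U := hψN.2.2.1
  obtain ⟨ψ', hψ', hcomm⟩ := exists_transport F hPN χ hχ ψ hψ hψM
  refine mem_of_transport F E hPN χ hχE ψ hψM ψ' ?_ hcomm
  -- the transported situation
  have hU'S : U' ≤ S := hU'n.1
  haveI : Finite U' := Fusion.finite_of_le hU'S
  have hUN : U ≤ normalizerIn S U := Fusion.le_normalizerIn hUS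
  have hU'P : U' ≤ (P₁.subgroupOf (normalizerIn S U)).map χ := by
    rw [← hχU]
    apply Subgroup.map_mono
    intro x hx
    rw [Subgroup.mem_subgroupOf] at hx ⊢
    exact hUP hx
  have hP'N : (P₁.subgroupOf (normalizerIn S U)).map χ ≤ normalizerIn S U' := by
    rintro _ ⟨m, -, rfl⟩
    exact hχN m
  have hP'S : (P₁.subgroupOf (normalizerIn S U)).map χ ≤ S := hP'N.trans inf_le_left
  haveI : Finite ↥((P₁.subgroupOf (normalizerIn S U)).map χ) := Fusion.finite_of_le hP'S
  have hψ'U : (U'.subgroupOf ((P₁.subgroupOf (normalizerIn S U)).map χ)).map ψ' = U' := by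
    apply map_eq_of_le_of_injective ψ' (F.injective_of_mem hψ') _ hU'P
    rintro _ ⟨⟨y, hyP⟩, hy, rfl⟩
    rw [SetLike.mem_coe, Subgroup.mem_subgroupOf] at hy
    have hy' : y ∈ (U.subgroupOf (normalizerIn S U)).map χ := hχU.ge hy
    obtain ⟨m, hm, rfl⟩ := hy'
    rw [SetLike.mem_coe, Subgroup.mem_subgroupOf] at hm
    have h1 := hcomm ⟨m.1, hUP hm⟩ hyP
    have h2 : (⟨χ m, hyP⟩ : ↥((P₁.subgroupOf (normalizerIn S U)).map χ)) =
        ⟨χ ⟨m.1, hPN (hUP hm)⟩, hyP⟩ := rfl
    rw [h2, h1]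
    apply hχU.le
    refine ⟨_, ?_, rfl⟩
    rw [SetLike.mem_coe, Subgroup.mem_subgroupOf]
    apply hψU.le
    refine ⟨⟨m.1, hUP hm⟩, ?_, rfl⟩
    rw [SetLike.mem_coe, Subgroup.mem_subgroupOf]
    exact hm
  have hψ'N := mem_normalizerHom_of_le F hU'P hP'N ψ' hψ' hψ'U
  obtain ⟨N', hN'⟩ := Cfsg.Agent.S5096.result F U' hU'S
  have hcardU : Nat.card U = Nat.card U' := Fusion.card_eq_of_isConj F hUU'
  have hU'ne : U' ≠ ⊥ := by
    intro h
    apply hUne
    have h1 : Nat.card U = 1 := by rw [hcardU, h, Subgroup.card_bot]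
    exact (Subgroup.card_eq_one).mp h1
  have hnormal := hloc U' hU'ne hU'n N' hN'
  have hR'S : normalizerIn S U' ≤ S := inf_le_left
  haveI : Finite ↥(normalizerIn S U') := Fusion.finite_of_le hR'S
  haveI : Finite ↥(normalizerIn S U) := Fusion.finite_of_le inf_le_left
  have hNle : Nat.card ↥(normalizerIn S U) ≤ Nat.card ↥(normalizerIn S U') :=
    hU'n.2 U (Fusion.isConj_symm F hUU')
  by_cases hS' : normalizerIn S U' = S
  · -- top case
    have hW₂ : W.of (normalizerIn S U') = W.of S := by rw [hS']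
    rw [hW₂] at hnormal
    have hψ'N' : ψ' ∈ N'.Hom _ := by rw [hN']; exact hψ'N
    obtain ⟨ψ'', hψ'', hψ''P, hψ''W⟩ := hnormal.2 _ ψ' hψ'N'
    rw [hN'] at hψ''
    rw [hE]
    have hSN : S ≤ normalizerIn S (W.of S) := (normalizerIn_of_eq W S).ge
    exact ⟨hψ', hP'S.trans hSN, fun x => hSN (Fusion.map_mem F hψ' x), ψ'', hψ''.1, hψ''P, hψ''W⟩
  · -- climbing case
    have hψ'N' : ψ' ∈ N'.Hom _ := by rw [hN']; exact hψ'N
    obtain ⟨ψ'', hψ'', hψ''P, hψ''W⟩ := hnormal.2 _ ψ' hψ'N'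
    rw [hN'] at hψ''
    have hψ''F := hψ''.1
    have hR'p : IsPGroup p ↥(normalizerIn S U') := hS.to_le hR'S
    have hU'R' : U' ≤ normalizerIn S U' := Fusion.le_normalizerIn hU'S
    have hR'nt : 1 < Nat.card ↥(normalizerIn S U') :=
      lt_of_lt_of_le (U'.one_lt_card_iff_ne_bot.mpr hU'ne) (Subgroup.card_le_of_le hU'R')
    have hW₂ne := of_ne_bot' W p hne (normalizerIn S U') hR'p hR'nt
    have h2 : Nat.card ↥(normalizerIn S U') < Nat.card ↥(normalizerIn S (normalizerIn S U')) :=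
      Fusion.card_lt_card_normalizerIn hS hR'S hS'
    have h3 : normalizerIn S (normalizerIn S U') ≤ normalizerIn S (W.of (normalizerIn S U')) :=
      inf_le_inf_left S (W.normalizer_le _)
    haveI : Finite ↥(normalizerIn S (W.of (normalizerIn S U'))) :=
      Fusion.finite_of_le inf_le_left
    have h4 : Nat.card ↥(normalizerIn S (normalizerIn S U')) ≤
        Nat.card ↥(normalizerIn S (W.of (normalizerIn S U'))) := Subgroup.card_le_of_le h3
    have h5 : Nat.card ↥(normalizerIn S (W.of (normalizerIn S U'))) ≤ Nat.card S :=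
      Subgroup.card_le_of_le inf_le_left
    have hlt : Nat.card S - Nat.card ↥(normalizerIn S (W.of (normalizerIn S U'))) < d := by omega
    have hR'W : normalizerIn S U' ≤ normalizerIn S (W.of (normalizerIn S U')) :=
      le_inf hR'S (le_normalizer_of W _)
    have h6 := ih _ hlt (W.of (normalizerIn S U')) hW₂ne rfl (by omega)
      ((P₁.subgroupOf (normalizerIn S U)).map χ ⊔ W.of (normalizerIn S U')) ψ'' hψ''F le_sup_right
      (sup_le (hP'N.trans hR'W) ((W.of_le _).trans hR'W)) hψ''W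
    have h7 := Fusion.restrict_mem E h6
      (le_sup_left : (P₁.subgroupOf (normalizerIn S U)).map χ ≤ _)
    convert h7 using 1
    ext x
    exact (hψ''P x).symm

end Cfsg.Agent.Lead.KL
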