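import Mathlib
import Cfsg.Agent.Lead.KLb

set_option autoImplicit false

/-!
Kessar–Linckelmann reductions, part c: the local-to-global theorem.
-/

namespace Cfsg.Agent.Lead.KL

open Cfsg Cfsg.FusionSystem Cfsg.Agent.Lead Cfsg.Agent.Helper1 Cfsg.Agent.Helper1.ThompsonRed
  Cfsg.Agent.Lead.GlTh

universe u

variable {Ω : Type u} [Group Ω] {S : Subgroup Ω}

theorem exists_normalizer_system_top (W : CharFunctor.{u}) (F : FusionSystem S) :
    ∃ E : FusionSystem S, ∀ P, E.Hom P = F.normalizerHom (W.of S) P := by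
  obtain ⟨N₀, hN₀⟩ := Cfsg.Agent.S5096.result F (W.of S) (W.of_le S)
  obtain ⟨E, hE⟩ := Fusion.exists_system_of_eq (normalizerIn_of_eq W S) N₀
  exact ⟨E, fun P => (hE P).trans (hN₀ P)⟩

/-- An automorphism of `P`, as a map, stabilizes `P`. -/
theorem map_aut_top {P : Subgroup Ω} (α : MulAut P) :
    (P.subgroupOf P).map (P.subtype.comp α.toMonoidHom) = P := by
  ext y
  constructor
  · rintro ⟨x, -, rfl⟩
    exact (α x).2
  · intro hy
    refine ⟨α.symm ⟨y, hy⟩, ?_, ?_⟩
    · rw [SetLike.mem_coe, Subgroup.mem_subgroupOf]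
      exact (α.symm ⟨y, hy⟩).2
    · show ((α (α.symm ⟨y, hy⟩) : P) : Ω) = y
      rw [MulEquiv.apply_symm_apply]

theorem isNormal_of_localNormal [Finite S] (p : ℕ) [Fact p.Prime] (hS : IsPGroup p S)
    (W : CharFunctor.{u})
    (hne : ∀ (R : Type u) [Group R] [Finite R], IsPGroup p R → Nontrivial R → W.W R ≠ ⊥)
    (F : FusionSystem S) (hF : F.IsSaturated p) (hloc : LocalNormal W F) :
    F.IsNormal (W.of S) := by
  obtain ⟨E, hE⟩ := exists_normalizer_system_top W F
  have hSN : S ≤ normalizerIn S (W.of S) := (normalizerIn_of_eq W S).ge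
  have key : ∀ (k : ℕ) (P : Subgroup Ω), (P = S ∨ F.IsEssential p P) →
      Nat.card S - Nat.card P = k → F.autGroup P ≤ E.autGroup P := by
    intro k
    induction k using Nat.strong_induction_on with
    | _ k ih =>
    intro P hP hk α hα
    have hPS : P ≤ S := by
      rcases hP with rfl | hess
      · exact le_rfl
      · exact hess.1.1
    haveI : Finite P := Fusion.finite_of_le hPS
    have hcardle : Nat.card P ≤ Nat.card S := Subgroup.card_le_of_le hPS
    -- maps from larger subgroups are in `E`
    have hn : ∀ (P' : Subgroup Ω) (φ : P' →* Ω), φ ∈ F.Hom P' → Nat.card P < Nat.card P' →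
        φ ∈ E.Hom P' := by
      intro P' φ hφ hlt
      apply Fusion.alperin_ge p hS F hF E (Nat.card P + 1) ?_ P' φ hφ hlt
      intro P'' hP'' hm
      have hP''S : P'' ≤ S := by
        rcases hP'' with rfl | hess
        · exact le_rfl
        · exact hess.1.1
      haveI : Finite P'' := Fusion.finite_of_le hP''S
      have h1 : Nat.card P'' ≤ Nat.card S := Subgroup.card_le_of_le hP''S
      exact ih (Nat.card S - Nat.card P'') (by omega) P'' hP'' rfl
    rw [Fusion.mem_autGroup_iff E hPS]
    have hφ := (Fusion.mem_autGroup_iff F hPS α).mp hα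
    by_cases hPeq : P = S
    · subst hPeq
      rw [hE]
      apply mem_normalizerHom_of_le F (W.of_le P) hSN _ hφ
      have h1 := of_subgroupOf_map_aut W P α
      rw [← Subgroup.map_map, h1]
      exact Subgroup.subgroupOf_map_subtype _ _ |>.trans (inf_of_le_left (W.of_le P))
    have hess : F.IsEssential p P := by
      rcases hP with h | h
      · exact absurd h hPeq
      · exact h
    have hPn : F.IsFullyNormalized P := hess.2.1
    have hPc : F.IsCentric P := hess.1
    have hPne : P ≠ ⊥ := by
      intro hbot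
      apply hPeq
      have h1 := hPc.2 P (Fusion.isConj_refl F hPS)
      apply le_antisymm hPS
      intro s hs
      apply h1
      refine Subgroup.mem_inf.mpr ⟨hs, ?_⟩
      rw [Subgroup.mem_centralizer_iff]
      intro x hx
      have hx' : x ∈ (⊥ : Subgroup Ω) := hbot ▸ hx
      rw [Subgroup.mem_bot] at hx'
      rw [hx', one_mul, mul_one]
    obtain ⟨N, hN⟩ := Cfsg.Agent.S5096.result F P hPS
    have hnormal := hloc P hPne hPn N hN
    have hPR : P ≤ normalizerIn S P := Fusion.le_normalizerIn hPS
    have hφN : (P.subtype.comp α.toMonoidHom) ∈ N.Hom P := by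
      rw [hN]
      exact mem_normalizerHom_of_le F le_rfl hPR _ hφ (map_aut_top α)
    have hRS : normalizerIn S P ≤ S := inf_le_left
    haveI : Finite ↥(normalizerIn S P) := Fusion.finite_of_le hRS
    by_cases hReq : normalizerIn S P = S
    · have hW₁ : W.of (normalizerIn S P) = W.of S := by rw [hReq]
      rw [hW₁] at hnormal
      obtain ⟨ψ, hψ, hψP, hψW⟩ := hnormal.2 P _ hφN
      rw [hN] at hψ
      rw [hE]
      exact ⟨hφ, hPS.trans hSN, fun x => hSN (Fusion.map_mem F hφ x), ψ, hψ.1, hψP, hψW⟩
    · obtain ⟨ψ, hψ, hψP, hψW⟩ := hnormal.2 P _ hφN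
      rw [hN] at hψ
      have hRp : IsPGroup p ↥(normalizerIn S P) := hS.to_le hRS
      have hRnt : 1 < Nat.card ↥(normalizerIn S P) :=
        lt_of_lt_of_le (P.one_lt_card_iff_ne_bot.mpr hPne) (Subgroup.card_le_of_le hPR)
      have hW₁ne := of_ne_bot' W p hne (normalizerIn S P) hRp hRnt
      have h2 : Nat.card ↥(normalizerIn S P) < Nat.card ↥(normalizerIn S (normalizerIn S P)) :=
        Fusion.card_lt_card_normalizerIn hS hRS hReq
      have h3 : normalizerIn S (normalizerIn S P) ≤ normalizerIn S (W.of (normalizerIn S P)) :=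
        inf_le_inf_left S (W.normalizer_le _)
      haveI : Finite ↥(normalizerIn S (W.of (normalizerIn S P))) := Fusion.finite_of_le inf_le_left
      have h4 : Nat.card ↥(normalizerIn S (normalizerIn S P)) ≤
          Nat.card ↥(normalizerIn S (W.of (normalizerIn S P))) := Subgroup.card_le_of_le h3
      have h5 : Nat.card P ≤ Nat.card ↥(normalizerIn S P) := Subgroup.card_le_of_le hPR
      have hRW : normalizerIn S P ≤ normalizerIn S (W.of (normalizerIn S P)) :=
        le_inf hRS (le_normalizer_of W _)
      have h6 := climb p hS W hne F hF hloc E hE (Nat.card P) hn _ (W.of (normalizerIn S P)) hW₁ne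
        rfl (by omega) (P ⊔ W.of (normalizerIn S P)) ψ hψ.1 le_sup_right
        (sup_le (hPR.trans hRW) ((W.of_le _).trans hRW)) hψW
      have h7 := Fusion.restrict_mem E h6 (le_sup_left : P ≤ P ⊔ W.of (normalizerIn S P))
      convert h7 using 1
      ext x
      exact (hψP x).symm
  -- conclusion
  apply isNormal_of_forall_mem_normalizerHom F (W.of_le S)
  intro P φ hφ
  rw [← hE]
  apply Fusion.alperin_ge p hS F hF E 0 ?_ P φ hφ (Nat.zero_le _)
  intro P' hP' _
  exact key _ P' hP' rfl

end Cfsg.Agent.Lead.KL
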