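import Mathlib
import Cfsg.Prelude.Def_FusionReduction
import Cfsg.Agent.Lead.LocModM
import Cfsg.Agent.Lead.FusionNormalCrit

set_option autoImplicit false

/-!
Section-freeness passes to normalizer systems of fully normalized subgroups.
-/

namespace Cfsg.Agent.Lead
namespace LocMod

open Cfsg Cfsg.FusionSystem

universe u

variable {Ω : Type u} [Group Ω] {S : Subgroup Ω}

/-- a subgroup containing the fully normalized `U` and centric in `N_F(U)` is centric in `F` -/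
theorem isCentric_of_normalizerSystem_centric [Finite S] (p : ℕ) [Fact p.Prime] (hS : IsPGroup p S)
    (F : FusionSystem S) (hF : F.IsSaturated p) (U : Subgroup Ω) (hU : F.IsFullyNormalized U)
    (N : FusionSystem (normalizerIn S U)) (hN : F.IsNormalizerSystem U N) (R : Subgroup Ω)
    (hUR : U ≤ R) (hRc : N.IsCentric R) : F.IsCentric R := by
  have hUS := hU.1
  have hRN : R ≤ normalizerIn S U := hRc.1
  have hRS : R ≤ S := hRN.trans inf_le_left
  obtain ⟨hfc, hfa⟩ := Fusion.fullyCentralized_fullyAutomized_of_fullyNormalized p hS F hF hU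
  have hrec := Fusion.receptive_of_fullyCentralized p hS F hF hfc
  refine ⟨hRS, ?_⟩
  rintro R' ⟨φ, hφ, hr⟩ c hc
  have hφinj := F.injective_of_mem hφ
  have hφU := Fusion.restrict_mem F hφ hUR
  set φU : U →* Ω := φ.comp (Subgroup.inclusion hUR) with hφUdef
  set U' := φU.range with hU'
  have hUU' : F.IsConj U U' := ⟨φU, hφU, rfl⟩
  have hU'S : U' ≤ S := Fusion.isConj_tgt_le F hUU'
  haveI : Finite U' := Fusion.finite_of_le hU'S
  obtain ⟨χ, hχ, hχN, hχU⟩ := Fusion.exists_hom_normalizerIn p hS F hfa hrec (Fusion.isConj_symm F hUU')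
  have hχinj := F.injective_of_mem hχ
  -- `R'` normalizes `U'`
  have hR'N : ∀ x : R, φ x ∈ normalizerIn S U' := by
    intro x
    refine ⟨Fusion.map_mem F hφ x, ?_⟩
    apply mem_normalizer_of_conj_mem_of_finite
    rintro _ ⟨u, rfl⟩
    have hmem : (x : Ω) * u * (x : Ω)⁻¹ ∈ U :=
      (Subgroup.mem_normalizer_iff.mp (hRN x.2).2 u).mp u.2
    refine ⟨⟨(x : Ω) * u * (x : Ω)⁻¹, hmem⟩, ?_⟩
    show φ ⟨(x : Ω) * u * (x : Ω)⁻¹, hUR hmem⟩ = φ x * φ ⟨u, hUR u.2⟩ * (φ x)⁻¹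
    rw [← map_inv, ← map_mul, ← map_mul]
    rfl
  -- `c` normalizes `U'`
  have hcN : c ∈ normalizerIn S U' := by
    refine ⟨hc.1, ?_⟩
    apply mem_normalizer_of_conj_mem_of_finite
    rintro _ ⟨u, rfl⟩
    have hcomm : φ ⟨u, hUR u.2⟩ * c = c * φ ⟨u, hUR u.2⟩ :=
      Subgroup.mem_centralizer_iff.mp hc.2 _ (hr ▸ ⟨⟨u, hUR u.2⟩, rfl⟩)
    have : c * φU u * c⁻¹ = φU u := by
      show c * φ ⟨u, hUR u.2⟩ * c⁻¹ = φ ⟨u, hUR u.2⟩
      rw [← hcomm]
      group
    rw [this]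
    exact ⟨u, rfl⟩
  obtain ⟨ξ, hξ, hξx⟩ := Fusion.comp_mem' F hφ hχ hR'N
  have hξN : ∀ x : R, ξ x ∈ normalizerIn S U := fun x => by rw [hξx]; exact hχN _
  have hξU : ∀ (u : Ω) (hu : u ∈ U), ξ ⟨u, hUR hu⟩ ∈ U := by
    intro u hu
    rw [hξx]
    apply hχU.le
    refine ⟨⟨φ ⟨u, hUR hu⟩, hR'N _⟩, ?_, rfl⟩
    rw [SetLike.mem_coe, Subgroup.mem_subgroupOf]
    exact ⟨⟨u, hu⟩, rfl⟩
  -- `ξ` is a map of `N`
  have hξmem : ξ ∈ N.Hom R := by
    rw [hN R]
    have heq : R = R ⊔ U := (sup_eq_left.mpr hUR).symm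
    obtain ⟨ψ, hψ, hψx⟩ := Fusion.exists_hom_of_eq F heq hξ
    refine ⟨hξ, hRN, hξN, ψ, hψ, fun x => hψx x x.2 _, ?_⟩
    haveI : Finite U := Fusion.finite_of_le hUS
    have hsub : (U.subgroupOf (R ⊔ U)).map ψ ≤ U := by
      rintro _ ⟨x, hx, rfl⟩
      rw [SetLike.mem_coe, Subgroup.mem_subgroupOf] at hx
      rw [hψx x (hUR hx) x.2]
      exact hξU x hx
    have hinjψ := F.injective_of_mem hψ
    have hcard : Nat.card ↥((U.subgroupOf (R ⊔ U)).map ψ) = Nat.card U := by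
      rw [Nat.card_congr ((U.subgroupOf (R ⊔ U)).equivMapOfInjective ψ hinjψ).symm.toEquiv]
      exact Nat.card_congr (Subgroup.subgroupOfEquivOfLe (le_sup_right : U ≤ R ⊔ U)).toEquiv
    exact Subgroup.eq_of_le_of_card_ge hsub (le_of_eq hcard.symm)
  have hcent := hRc.2 ξ.range ⟨ξ, hξmem, rfl⟩
  have hχc : χ ⟨c, hcN⟩ ∈ centralizerIn (normalizerIn S U) ξ.range := by
    refine ⟨hχN _, ?_⟩
    show (χ ⟨c, hcN⟩ : Ω) ∈ Subgroup.centralizer (ξ.range : Set Ω)
    rw [Subgroup.mem_centralizer_iff]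
    rintro _ ⟨x, rfl⟩
    rw [hξx, ← map_mul, ← map_mul]
    congr 1
    apply Subtype.ext
    show φ x * c = c * φ x
    exact Subgroup.mem_centralizer_iff.mp hc.2 _ (hr ▸ ⟨x, rfl⟩)
  obtain ⟨x, hx⟩ := hcent hχc
  rw [hξx] at hx
  have h1 := hχinj hx
  have h2 : φ x = c := congrArg (fun z : ↥(normalizerIn S U') => (z : Ω)) h1
  rw [← h2, ← hr]
  exact ⟨x, rfl⟩

theorem normalizer_sectionFree [Finite S] (p : ℕ) [Fact p.Prime] (hS : IsPGroup p S)
    (F : FusionSystem S) (hF : F.IsSaturated p) {X : Type*} [Group X]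
    (hfree : F.IsSectionFree p X) (U : Subgroup Ω) (hU : F.IsFullyNormalized U)
    (N : FusionSystem (normalizerIn S U)) (hN : F.IsNormalizerSystem U N) :
    N.IsSectionFree p X := by
  haveI : Finite ↥(normalizerIn S U) := Fusion.finite_of_le inf_le_left
  have hNp : IsPGroup p ↥(normalizerIn S U) := hS.to_le inf_le_left
  have hNsat := Fusion.normalizerSystem_isSaturated p hS F hF U hU N hN
  have hUn : N.IsNormal U := Fusion.normalizerSystem_isNormal F hU.1 N hN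
  apply sectionFree_of_radical p hNp N hNsat
  intro Q hQn hQc hQr M hM L _ ι hL hXL
  have hUQ : U ≤ Q := Fusion.le_of_isNormal_of_centric_radical p hNp N hUn hQc hQr
  have hQFc : F.IsCentric Q := isCentric_of_normalizerSystem_centric p hS F hF U hU N hN Q hUQ hQc
  have hMn : M.IsNormal Q := Fusion.normalizerSystem_isNormal N hQn.1 M hM
  have h𝒟F : ∀ P : Subgroup Ω, M.Hom P ⊆ F.Hom P := by
    intro P φ hφ
    rw [hM P] at hφ
    have h1 := hφ.1
    rw [hN P] at h1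
    exact h1.1
  obtain ⟨Y', -, hY'n, hY'c, hY'⟩ :=
    involves_of_subsystem.{u, u} p hS F hF M h𝒟F Q hMn hQFc ι hL hXL
  obtain ⟨N', hN'⟩ := Cfsg.Agent.S5096.result F Y' hY'n.1
  obtain ⟨L', _, ι', hL'⟩ := exists_normalizer_model p hS F hF Y' hY'n hY'c N' hN'
  exact hfree Y' hY'n hY'c N' hN' L' ι' hL' (hY' N' hN' L' ι' hL')

end LocMod
end Cfsg.Agent.Lead
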