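import Mathlib
import Cfsg.Prelude.Def_FusionReduction
import Cfsg.Agent.Lead.KLc
import Cfsg.Agent.Lead.LocModM
import Cfsg.Agent.Lead.GlThE

set_option autoImplicit false

/-!
Kessar–Linckelmann reductions, part d: the constrained case.
-/

namespace Cfsg.Agent.Lead.KL

open Cfsg Cfsg.FusionSystem Cfsg.Agent.Lead Cfsg.Agent.Helper1 Cfsg.Agent.Helper1.ThompsonRed
  Cfsg.Agent.Lead.GlTh

universe u

/-- In a realized system, a subgroup whose image is normal in the realizing group is normal. -/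
theorem isNormal_of_map_normal {Ω : Type*} [Group Ω] {S : Subgroup Ω} (F : FusionSystem S)
    {G : Type*} [Group G] (ι : S →* G) (hι : F.IsRealizedBy ι) {X : Subgroup Ω} (hX : X ≤ S)
    (hXn : ((X.subgroupOf S).map ι).Normal) : F.IsNormal X := by
  refine ⟨hX, fun P φ hφ => ?_⟩
  have hP : P ≤ S := Fusion.src_le F hφ
  have hφS : ∀ x, φ x ∈ S := Fusion.map_mem F hφ
  obtain ⟨g, hg⟩ := (hι.2 P hP φ hφS).mp hφ
  have hXg : ∀ (k : G) (x : Ω) (hx : x ∈ X), ∃ x' : Ω, ∃ hx' : x' ∈ X,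
      k * ι ⟨x, hX hx⟩ * k⁻¹ = ι ⟨x', hX hx'⟩ := by
    intro k x hx
    have h1 : ι ⟨x, hX hx⟩ ∈ (X.subgroupOf S).map ι :=
      ⟨⟨x, hX hx⟩, by rw [SetLike.mem_coe, Subgroup.mem_subgroupOf]; exact hx, rfl⟩
    obtain ⟨s, hs, hsk⟩ := hXn.conj_mem _ h1 k
    rw [SetLike.mem_coe, Subgroup.mem_subgroupOf] at hs
    exact ⟨s.1, hs, hsk.symm⟩
  have hPXS : P ⊔ X ≤ S := sup_le hP hX
  have hrange : ∀ y : ↥(P ⊔ X), g * ι ⟨y, hPXS y.2⟩ * g⁻¹ ∈ ι.range := by
    have hle : P ⊔ X ≤ ((ι.range.comap ((MulAut.conj g).toMonoidHom.comp ι))).map S.subtype := by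
      apply sup_le
      · intro x hx
        refine ⟨⟨x, hP hx⟩, ?_, rfl⟩
        rw [SetLike.mem_coe, Subgroup.mem_comap]
        exact ⟨⟨φ ⟨x, hx⟩, hφS _⟩, hg ⟨x, hx⟩⟩
      · intro x hx
        refine ⟨⟨x, hX hx⟩, ?_, rfl⟩
        rw [SetLike.mem_coe, Subgroup.mem_comap]
        obtain ⟨x', hx', h⟩ := hXg g x hx
        exact ⟨⟨x', hX hx'⟩, h.symm⟩
    intro y
    obtain ⟨s, hs, hsy⟩ := hle y.2
    rw [SetLike.mem_coe, Subgroup.mem_comap] at hs
    have : (⟨y, hPXS y.2⟩ : S) = s := Subtype.ext hsy.symm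
    rw [this]
    exact hs
  obtain ⟨ψ, hψ, hψS, hψι⟩ := Fusion.exists_hom_of_conj_mem_range F ι hι hPXS g hrange
  refine ⟨ψ, hψ, fun x => ?_, ?_⟩
  · have h1 := hψι (Subgroup.inclusion le_sup_left x)
    have h2 : ι ⟨ψ (Subgroup.inclusion le_sup_left x), hψS _⟩ = ι ⟨φ x, hφS x⟩ := by
      rw [h1, hg x]
      rfl
    exact congrArg Subtype.val (hι.1 h2)
  · ext y
    constructor
    · rintro ⟨z, hz, rfl⟩
      rw [SetLike.mem_coe, Subgroup.mem_subgroupOf] at hz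
      obtain ⟨x', hx', h⟩ := hXg g z hz
      have h1 := hψι z
      have h2 : ι ⟨ψ z, hψS z⟩ = ι ⟨x', hX hx'⟩ := by
        rw [h1, ← h]
      have h3 : ψ z = x' := congrArg Subtype.val (hι.1 h2)
      show ψ z ∈ X
      rw [h3]
      exact hx'
    · intro hy
      obtain ⟨x₀, hx₀, h⟩ := hXg g⁻¹ y hy
      refine ⟨⟨x₀, le_sup_right (a := P) hx₀⟩, ?_, ?_⟩
      · rw [SetLike.mem_coe, Subgroup.mem_subgroupOf]
        exact hx₀
      · have h1 := hψι ⟨x₀, le_sup_right (a := P) hx₀⟩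
        have h2 : ι ⟨ψ ⟨x₀, le_sup_right (a := P) hx₀⟩, hψS _⟩ = ι ⟨y, hX hy⟩ := by
          rw [h1]
          have h4 : ι ⟨x₀, hX hx₀⟩ = g⁻¹ * ι ⟨y, hX hy⟩ * g⁻¹⁻¹ := h.symm
          show g * ι ⟨x₀, _⟩ * g⁻¹ = _
          rw [h4]
          group
        exact congrArg Subtype.val (hι.1 h2)

variable {Ω : Type u} [Group Ω] {S : Subgroup Ω}

/-- The Glauberman condition on a functor. -/
def GlaubermanNormal (p : ℕ) [Fact p.Prime] (W : CharFunctor.{u}) : Prop :=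
  ∀ (L : Type u) [Group L] [Finite L] (P : Sylow p L),
    Subgroup.centralizer ((Cfsg.pCore p L : Subgroup L) : Set L) ≤ Cfsg.pCore p L →
    ¬ Cfsg.Involves ↥(Cfsg.qd p) L → (W.of (P : Subgroup L)).Normal

theorem isNormal_of_constrained [Finite S] (p : ℕ) [Fact p.Prime] (hS : IsPGroup p S)
    (W : CharFunctor.{u}) (hW3 : GlaubermanNormal p W)
    (F : FusionSystem S) (hF : F.IsSaturated p) (hfree : F.IsSectionFree p ↥(Cfsg.qd p))
    {Q : Subgroup Ω} (hQ : F.IsNormal Q) (hQc : centralizerIn S Q ≤ Q) :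
    F.IsNormal (W.of S) := by
  have hQcen : F.IsCentric Q := isCentric_of_isNormal F hQ hQc
  have hQS := hQ.1
  have hSN : S ≤ normalizerIn S Q := le_inf le_rfl (Model.le_normalizer_of_isNormal F hQ)
  have hNeq : normalizerIn S Q = S := le_antisymm inf_le_left hSN
  have hQfn : F.IsFullyNormalized Q := by
    refine ⟨hQS, fun Q' _ => ?_⟩
    rw [hNeq]
    exact Subgroup.card_le_of_le inf_le_left
  obtain ⟨N, hN⟩ := Cfsg.Agent.S5096.result F Q hQS
  obtain ⟨L, _, ι, hL⟩ := LocMod.exists_normalizer_model p hS F hF Q hQfn hQcen N hN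
  have hnotinv := hfree Q hQfn hQcen N hN L ι hL
  obtain ⟨hfin, hreal, ⟨T, hT⟩, hcent⟩ := hL
  haveI := hfin
  have hWn := hW3 L T hcent hnotinv
  have hXn : (((W.of (normalizerIn S Q)).subgroupOf (normalizerIn S Q)).map ι).Normal := by
    have h1 : (W.of (normalizerIn S Q)).subgroupOf (normalizerIn S Q) =
        W.W ↥(normalizerIn S Q) := by
      unfold CharFunctor.of Subgroup.subgroupOf
      exact Subgroup.comap_map_eq_self_of_injective (Subgroup.subtype_injective _) _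
    rw [h1, ← of_range W ι hreal.1, ← hT]
    exact hWn
  have h2 := isNormal_of_map_normal N ι hreal (W.of_le _) hXn
  have h3 := isNormal_of_normalizerSystem F hQ N hN h2
  rwa [hNeq] at h3

end Cfsg.Agent.Lead.KL
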