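import Mathlib
import Cfsg.Prelude.Def_FusionSystem
import Cfsg.Agent.Lead.Fusion

set_option autoImplicit false

/-!
Kessar–Linckelmann reductions, part e: the system `S C_F(Q)` for a normal subgroup `Q` of `S`.
-/

namespace Cfsg.Agent.Lead.KL

open Cfsg Cfsg.FusionSystem Cfsg.Agent.Lead

variable {Ω : Type*} [Group Ω] {S : Subgroup Ω}

/-- The maps of `S C_F(Q)` with source `P`. -/
def scHom (F : FusionSystem S) (Q P : Subgroup Ω) : Set (P →* Ω) :=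
  {φ | φ ∈ F.Hom P ∧ ∃ ψ ∈ F.Hom (P ⊔ Q), (∀ x : P, ψ (Subgroup.inclusion le_sup_left x) = φ x) ∧
    ∃ s ∈ S, ∀ x : Q, ψ (Subgroup.inclusion le_sup_right x) = s * (x : Ω) * s⁻¹}

/-- The system `S C_F(Q)`. -/
def scSys (F : FusionSystem S) (Q : Subgroup Ω) (hQS : Q ≤ S)
    (hSQ : S ≤ Subgroup.normalizer (Q : Set Ω)) : FusionSystem S where
  Hom P := scHom F Q P
  le_of_mem := by
    rintro P φ ⟨h1, _⟩
    exact F.le_of_mem h1
  injective_of_mem := by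
    rintro P φ ⟨h1, _⟩
    exact F.injective_of_mem h1
  conj_mem := by
    intro P g hP hg
    exact ⟨F.conj_mem hP hg, conjHom (P ⊔ Q) g, F.conj_mem (sup_le hP hQS) hg, fun x => rfl, g, hg,
      fun x => rfl⟩
  comp_mem := by
    rintro P P' φ ψ ⟨hφ, φ', hφ', hφext, s₁, hs₁, hφQ⟩ ⟨hψ, ψ', hψ', hψext, s₂, hs₂, hψQ⟩ h
    have hconj : ∀ (s : Ω), s ∈ S → ∀ x : Q, s * (x : Ω) * s⁻¹ ∈ Q := fun s hs x =>
      (Subgroup.mem_normalizer_iff.mp (hSQ hs) _).mp x.2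
    have hmaps : ∀ x : ↥(P ⊔ Q), φ' x ∈ P' ⊔ Q := by
      apply Fusion.sup_map_mem
      · intro x
        rw [hφext]
        exact (le_sup_left : P' ≤ P' ⊔ Q) (h x)
      · intro x
        rw [hφQ]
        exact (le_sup_right : Q ≤ P' ⊔ Q) (hconj s₁ hs₁ x)
    refine ⟨F.comp_mem hφ hψ h, ψ'.comp (φ'.codRestrict (P' ⊔ Q) hmaps),
      F.comp_mem hφ' hψ' hmaps, ?_, s₂ * s₁, S.mul_mem hs₂ hs₁, ?_⟩
    · intro x
      show ψ' ⟨φ' (Subgroup.inclusion le_sup_left x), _⟩ = ψ ⟨φ x, _⟩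
      rw [← hψext ⟨φ x, h x⟩]
      congr 1
      apply Subtype.ext
      exact hφext x
    · intro x
      show ψ' ⟨φ' (Subgroup.inclusion le_sup_right x), _⟩ = _
      have h1 : (⟨φ' (Subgroup.inclusion le_sup_right x), hmaps _⟩ : ↥(P' ⊔ Q)) =
          Subgroup.inclusion le_sup_right ⟨s₁ * (x : Ω) * s₁⁻¹, hconj s₁ hs₁ x⟩ :=
        Subtype.ext (hφQ x)
      rw [h1, hψQ]
      show s₂ * (s₁ * (x : Ω) * s₁⁻¹) * s₂⁻¹ = s₂ * s₁ * (x : Ω) * (s₂ * s₁)⁻¹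
      group
  inv_mem := by
    rintro P φ ⟨hφ, φ', hφ', hφext, s₁, hs₁, hφQ⟩
    obtain ⟨χ, hχ, hχinv⟩ := F.inv_mem hφ'
    have hconj : ∀ (s : Ω), s ∈ S → ∀ x : Q, s * (x : Ω) * s⁻¹ ∈ Q := fun s hs x =>
      (Subgroup.mem_normalizer_iff.mp (hSQ hs) _).mp x.2
    have hle : φ.range ⊔ Q ≤ φ'.range := by
      apply sup_le
      · rintro _ ⟨x, rfl⟩
        exact ⟨Subgroup.inclusion le_sup_left x, hφext x⟩
      · intro y hy
        have h1 := hconj s₁⁻¹ (S.inv_mem hs₁) ⟨y, hy⟩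
        refine ⟨Subgroup.inclusion le_sup_right ⟨s₁⁻¹ * y * s₁⁻¹⁻¹, h1⟩, ?_⟩
        rw [hφQ]
        show s₁ * (s₁⁻¹ * y * s₁⁻¹⁻¹) * s₁⁻¹ = y
        group
    have hle1 : φ.range ≤ φ'.range := le_sup_left.trans hle
    have hχ1 : χ.comp (Subgroup.inclusion hle1) ∈ F.Hom φ.range := Fusion.restrict_mem F hχ hle1
    have hχ2 : χ.comp (Subgroup.inclusion hle) ∈ F.Hom (φ.range ⊔ Q) := Fusion.restrict_mem F hχ hle
    have hmemr : ∀ x : P, φ x ∈ φ'.range := fun x => hle1 (MonoidHom.mem_range.mpr ⟨x, rfl⟩)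
    have hval : ∀ x : P, χ ⟨φ x, hmemr x⟩ = x := by
      intro x
      have := hχinv (Subgroup.inclusion le_sup_left x)
      have e : (⟨φ x, hmemr x⟩ : φ'.range) =
          ⟨φ' (Subgroup.inclusion le_sup_left x), MonoidHom.mem_range.mpr ⟨_, rfl⟩⟩ :=
        Subtype.ext (hφext x).symm
      rw [e, this]; rfl
    refine ⟨χ.comp (Subgroup.inclusion hle1), ⟨hχ1, χ.comp (Subgroup.inclusion hle), hχ2, ?_,
      s₁⁻¹, S.inv_mem hs₁, ?_⟩, ?_⟩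
    · intro x
      rfl
    · intro x
      have h1 := hconj s₁⁻¹ (S.inv_mem hs₁) x
      have h2 := hχinv (Subgroup.inclusion le_sup_right ⟨s₁⁻¹ * (x : Ω) * s₁⁻¹⁻¹, h1⟩)
      have h3 : φ' (Subgroup.inclusion le_sup_right ⟨s₁⁻¹ * (x : Ω) * s₁⁻¹⁻¹, h1⟩) = x := by
        rw [hφQ]
        show s₁ * (s₁⁻¹ * (x : Ω) * s₁⁻¹⁻¹) * s₁⁻¹ = x
        group
      show χ ⟨(x : Ω), _⟩ = _
      have e : (⟨(x : Ω), hle ((le_sup_right : Q ≤ φ.range ⊔ Q) x.2)⟩ : φ'.range) =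
          ⟨φ' (Subgroup.inclusion le_sup_right ⟨s₁⁻¹ * (x : Ω) * s₁⁻¹⁻¹, h1⟩),
            MonoidHom.mem_range.mpr ⟨_, rfl⟩⟩ := Subtype.ext h3.symm
      rw [e, h2]
      rfl
    · intro x
      exact hval x

theorem scSys_hom (F : FusionSystem S) (Q : Subgroup Ω) (hQS : Q ≤ S)
    (hSQ : S ≤ Subgroup.normalizer (Q : Set Ω)) (P : Subgroup Ω) :
    (scSys F Q hQS hSQ).Hom P = scHom F Q P := rfl

theorem scSys_le (F : FusionSystem S) (Q : Subgroup Ω) (hQS : Q ≤ S)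
    (hSQ : S ≤ Subgroup.normalizer (Q : Set Ω)) (P : Subgroup Ω) :
    (scSys F Q hQS hSQ).Hom P ⊆ F.Hom P := fun _ h => h.1

end Cfsg.Agent.Lead.KL
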