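import Mathlib
import Cfsg.Agent.Lead.KLe
import Cfsg.Agent.Lead.FusionKNorm6
import Cfsg.Agent.Lead.ModelH
import Cfsg.Agent.Lead.FusionNormalCrit

set_option autoImplicit false

/-!
Kessar–Linckelmann reductions, part f: `S C_F(Q)` is saturated for `Q` normal in `F`.
-/

namespace Cfsg.Agent.Lead.KL

open Cfsg Cfsg.FusionSystem Cfsg.Agent.Lead

variable {Ω : Type*} [Group Ω] {S : Subgroup Ω}

/-- A subgroup normal in the system is fully normalized. -/
theorem isFullyNormalized_of_isNormal [Finite S] (F : FusionSystem S) {Q : Subgroup Ω}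
    (hQ : F.IsNormal Q) : F.IsFullyNormalized Q := by
  have hSN : S ≤ normalizerIn S Q := le_inf le_rfl (Model.le_normalizer_of_isNormal F hQ)
  have hNeq : normalizerIn S Q = S := le_antisymm inf_le_left hSN
  refine ⟨hQ.1, fun Q' _ => ?_⟩
  rw [hNeq]
  exact Subgroup.card_le_of_le inf_le_left

/-- Maps out of a normal subgroup have image that subgroup. -/
theorem range_eq_of_isNormal [Finite S] (F : FusionSystem S) {Q : Subgroup Ω} (hQ : F.IsNormal Q)
    {σ : Q →* Ω} (hσ : σ ∈ F.Hom Q) : σ.range = Q := by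
  have hsc := Fusion.stronglyClosed_of_isNormal F hQ
  haveI : Finite Q := Fusion.finite_of_le hQ.1
  apply Subgroup.eq_of_le_of_card_ge
  · rintro _ ⟨x, rfl⟩
    exact hsc.2 Q le_rfl σ hσ x
  · rw [Nat.card_congr (MonoidHom.ofInjective (F.injective_of_mem hσ)).toEquiv]

theorem scSys_kNormData [Finite S] (p : ℕ) [Fact p.Prime] (hS : IsPGroup p S)
    (F : FusionSystem S) (hF : F.IsSaturated p) {Q : Subgroup Ω} (hQ : F.IsNormal Q) :
    Fusion.KNormData F Q (autInducedBy S Q) S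
      (scSys F Q hQ.1 (Model.le_normalizer_of_isNormal F hQ)) := by
  have hQS := hQ.1
  have hSQ := Model.le_normalizer_of_isNormal F hQ
  have hQfn := isFullyNormalized_of_isNormal F hQ
  obtain ⟨hQc, hQa⟩ := Fusion.fullyCentralized_fullyAutomized_of_fullyNormalized p hS F hF hQfn
  have hQr := Fusion.receptive_of_fullyCentralized p hS F hF hQc
  refine ⟨hQS, fun s => ?_, fun P φ => ?_, fun σ hσ M hMS hM => ?_⟩
  · constructor
    · intro hs
      exact ⟨hs, conjAut Q s (hSQ hs), Fusion.conjAutHom_mem_autInducedBy Q ⟨s, hSQ hs⟩ hs,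
        fun x => rfl⟩
    · exact fun h => h.1
  · constructor
    · rintro ⟨hφ, ψ, hψ, hψext, s, hs, hψQ⟩
      exact ⟨hφ, Fusion.src_le F hφ, Fusion.map_mem F hφ, ψ, hψ, hψext, conjAut Q s (hSQ hs),
        Fusion.conjAutHom_mem_autInducedBy Q ⟨s, hSQ hs⟩ hs, fun x => hψQ x⟩
    · rintro ⟨hφ, -, -, ψ, hψ, hψext, κ, hκ, hψQ⟩
      obtain ⟨s, hs, hsκ⟩ := (mem_autInducedBy_iff S Q κ).mp hκ
      exact ⟨hφ, ψ, hψ, hψext, s, hs, fun x => (hψQ x).trans (hsκ x)⟩
  · -- the extension property, from receptivity of `Q`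
    have hr : σ.range = Q := range_eq_of_isNormal F hQ hσ
    obtain ⟨τ, hτ, hτinv, hτr⟩ := Fusion.exists_inv F hσ rfl
    obtain ⟨ρ, hρ, hρext⟩ := hQr.2 σ.range τ hτ (hτr.trans rfl)
    have hrS : σ.range ≤ S := Fusion.range_le F hσ
    have hle : σ.range ⊔ M ≤ extender S σ.range τ := by
      apply sup_le
      · apply Fusion.le_extender σ.range hrS τ
        intro y
        exact Fusion.map_mem F hτ y
      · intro g hg
        obtain ⟨κ, hκ, hgκ⟩ := hM g hg
        obtain ⟨h, hh, hhκ⟩ := (mem_autInducedBy_iff S Q κ).mp hκ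
        apply Subgroup.subset_closure
        have hgN : g ∈ Subgroup.normalizer (σ.range : Set Ω) := by
          haveI : Finite σ.range := Fusion.finite_of_le hrS
          apply mem_normalizer_of_conj_mem_of_finite
          rintro _ ⟨x, rfl⟩
          rw [hgκ x]
          exact ⟨κ x, rfl⟩
        refine ⟨hMS hg, hgN, h, hh, ?_⟩
        rintro ⟨_, x, rfl⟩ hx
        have h1 : (⟨g * σ x * g⁻¹, hx⟩ : σ.range) = ⟨σ (κ x), ⟨κ x, rfl⟩⟩ :=
          Subtype.ext (hgκ x)
        rw [h1, hτinv (κ x) ⟨κ x, rfl⟩, hτinv x ⟨x, rfl⟩, hhκ x]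
    refine ⟨ρ.comp (Subgroup.inclusion hle), Fusion.restrict_mem F hρ hle, 1, Subgroup.one_mem _,
      fun x => ?_⟩
    show ρ ⟨σ x, _⟩ = ((1 : MulAut Q) x : Q)
    rw [hρext (σ x) ⟨x, rfl⟩ (hle (le_sup_left (a := σ.range) ⟨x, rfl⟩)), hτinv x ⟨x, rfl⟩]
    rfl

theorem scSys_isSaturated [Finite S] (p : ℕ) [Fact p.Prime] (hS : IsPGroup p S)
    (F : FusionSystem S) (hF : F.IsSaturated p) {Q : Subgroup Ω} (hQ : F.IsNormal Q) :
    (scSys F Q hQ.1 (Model.le_normalizer_of_isNormal F hQ)).IsSaturated p :=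
  (scSys_kNormData p hS F hF hQ).isSaturated p hS hF

end Cfsg.Agent.Lead.KL
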