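import Mathlib
import Cfsg.Prelude.Def_FusionReduction
import Cfsg.Agent.Lead.KLf
import Cfsg.Agent.Lead.LocModN
import Cfsg.Agent.Lead.FusionInvariant

set_option autoImplicit false

/-!
Kessar–Linckelmann reductions, part g: section-freeness passes to `S C_F(Q)`.
-/

namespace Cfsg.Agent.Lead.KL

open Cfsg Cfsg.FusionSystem Cfsg.Agent.Lead

universe u

variable {Ω : Type u} [Group Ω] {S : Subgroup Ω}

/-- Section-freeness passes to saturated subsystems whose centric radical fully normalized subgroups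
are centric in the big system. -/
theorem subsystem_sectionFree [Finite S] (p : ℕ) [Fact p.Prime] (hS : IsPGroup p S)
    (F : FusionSystem S) (hF : F.IsSaturated p) {X : Type*} [Group X]
    (hfree : F.IsSectionFree p X) {T : Subgroup Ω} (hTS : T ≤ S) (D : FusionSystem T)
    (hD : D.IsSaturated p) (hDF : ∀ P : Subgroup Ω, D.Hom P ⊆ F.Hom P)
    (hcen : ∀ Y : Subgroup Ω, D.IsFullyNormalized Y → D.IsCentric Y → D.IsRadical p Y →
      F.IsCentric Y) : D.IsSectionFree p X := by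
  haveI : Finite T := Fusion.finite_of_le hTS
  have hTp : IsPGroup p T := hS.to_le hTS
  apply LocMod.sectionFree_of_radical p hTp D hD
  intro Y hYn hYc hYr M hM L _ ι hL hXL
  have hYFc := hcen Y hYn hYc hYr
  have hMn : M.IsNormal Y := Fusion.normalizerSystem_isNormal D hYn.1 M hM
  have h𝒟F : ∀ P : Subgroup Ω, M.Hom P ⊆ F.Hom P := by
    intro P φ hφ
    rw [hM P] at hφ
    exact hDF P hφ.1
  obtain ⟨Y', -, hY'n, hY'c, hY'⟩ :=
    LocMod.involves_of_subsystem.{u, u} p hS F hF M h𝒟F Y hMn hYFc ι hL hXL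
  obtain ⟨N', hN'⟩ := Cfsg.Agent.S5096.result F Y' hY'n.1
  obtain ⟨L', _, ι', hL'⟩ := LocMod.exists_normalizer_model p hS F hF Y' hY'n hY'c N' hN'
  exact hfree Y' hY'n hY'c N' hN' L' ι' hL' (hY' N' hN' L' ι' hL')

/-- `Q` is normal in `S C_F(Q)`. -/
theorem scSys_isNormal (F : FusionSystem S) (Q : Subgroup Ω) (hQS : Q ≤ S)
    (hSQ : S ≤ Subgroup.normalizer (Q : Set Ω)) : (scSys F Q hQS hSQ).IsNormal Q := by
  refine ⟨hQS, fun P φ hφ => ?_⟩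
  obtain ⟨hφF, ψ, hψ, hψext, s, hs, hψQ⟩ := hφ
  have hle : (P ⊔ Q) ⊔ Q ≤ P ⊔ Q := sup_le le_rfl le_sup_right
  have hconj : ∀ x : Q, s * (x : Ω) * s⁻¹ ∈ Q := fun x =>
    (Subgroup.mem_normalizer_iff.mp (hSQ hs) _).mp x.2
  refine ⟨ψ, ⟨hψ, ψ.comp (Subgroup.inclusion hle), Fusion.restrict_mem F hψ hle, fun x => ?_,
    s, hs, fun x => ?_⟩, hψext, ?_⟩
  · show ψ _ = ψ x
    congr 1
  · show ψ _ = _
    rw [← hψQ x]
    congr 1
  · ext y
    constructor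
    · rintro ⟨z, hz, rfl⟩
      rw [SetLike.mem_coe, Subgroup.mem_subgroupOf] at hz
      have h1 : z = Subgroup.inclusion le_sup_right ⟨z.1, hz⟩ := rfl
      show ψ z ∈ Q
      rw [h1, hψQ]
      exact hconj _
    · intro hy
      have h1 : s⁻¹ * y * s⁻¹⁻¹ ∈ Q :=
        (Subgroup.mem_normalizer_iff.mp (hSQ (S.inv_mem hs)) _).mp hy
      refine ⟨Subgroup.inclusion le_sup_right ⟨s⁻¹ * y * s⁻¹⁻¹, h1⟩, ?_, ?_⟩
      · rw [SetLike.mem_coe, Subgroup.mem_subgroupOf]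
        exact h1
      · rw [hψQ]
        show s * (s⁻¹ * y * s⁻¹⁻¹) * s⁻¹ = y
        group

/-- A subgroup containing the normal subgroup `Q` and centric in `S C_F(Q)` is centric in `F`. -/
theorem isCentric_of_scSys_centric [Finite S] (p : ℕ) [Fact p.Prime] (hS : IsPGroup p S)
    (F : FusionSystem S) (hF : F.IsSaturated p) {Q : Subgroup Ω} (hQ : F.IsNormal Q)
    (Y : Subgroup Ω) (hQY : Q ≤ Y)
    (hYc : (scSys F Q hQ.1 (Model.le_normalizer_of_isNormal F hQ)).IsCentric Y) :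
    F.IsCentric Y := by
  have hQS := hQ.1
  have hSQ := Model.le_normalizer_of_isNormal F hQ
  have hQfn := isFullyNormalized_of_isNormal F hQ
  obtain ⟨hQc, hQa⟩ := Fusion.fullyCentralized_fullyAutomized_of_fullyNormalized p hS F hF hQfn
  have hQr := Fusion.receptive_of_fullyCentralized p hS F hF hQc
  have hYS : Y ≤ S := hYc.1
  refine ⟨hYS, ?_⟩
  rintro Y' ⟨ξ, hξ, hr⟩ c hc
  have hσ := Fusion.restrict_mem F hξ hQY
  set σ : Q →* Ω := ξ.comp (Subgroup.inclusion hQY) with hσdef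
  have hσr : σ.range = Q := range_eq_of_isNormal F hQ hσ
  obtain ⟨τ, hτ, hτinv, hτr⟩ := Fusion.exists_inv F hσ hσr
  obtain ⟨ρ, hρ, hρext⟩ := hQr.2 Q τ hτ hτr
  have hρinj := F.injective_of_mem hρ
  have hσQ : ∀ x : Q, σ x ∈ Q := fun x => hσr.le ⟨x, rfl⟩
  have hsurj : ∀ x : Q, ∃ x₀ : Q, σ x₀ = x := fun x => hσr.ge x.2
  -- `ξ(Y)` lies in the extender
  have hξext : ∀ y : Y, ξ y ∈ extender S Q τ := by
    intro y
    apply Subgroup.subset_closure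
    refine ⟨Fusion.map_mem F hξ y, hSQ (Fusion.map_mem F hξ y), y, hYS y.2, ?_⟩
    intro x hx
    obtain ⟨x₀, hx₀⟩ := hsurj x
    have hyx : (y : Ω) * x₀ * (y : Ω)⁻¹ ∈ Q :=
      (Subgroup.mem_normalizer_iff.mp (hSQ (hYS y.2)) _).mp x₀.2
    have h1 : ξ y * (x : Ω) * (ξ y)⁻¹ = σ ⟨(y : Ω) * x₀ * (y : Ω)⁻¹, hyx⟩ := by
      rw [← hx₀]
      show ξ y * ξ ⟨x₀, hQY x₀.2⟩ * (ξ y)⁻¹ = ξ ⟨(y : Ω) * x₀ * (y : Ω)⁻¹, hQY hyx⟩
      rw [← map_inv, ← map_mul, ← map_mul]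
      rfl
    have h2 : (⟨ξ y * (x : Ω) * (ξ y)⁻¹, hx⟩ : Q) =
        ⟨σ ⟨(y : Ω) * x₀ * (y : Ω)⁻¹, hyx⟩, hσQ _⟩ := Subtype.ext h1
    have h3 : x = ⟨σ x₀, hσQ x₀⟩ := Subtype.ext hx₀.symm
    rw [h2, hτinv _ (hσQ _), h3, hτinv x₀ (hσQ x₀)]
  have hYQ' : ∀ x : Q, (x : Ω) ∈ Y' := by
    intro x
    obtain ⟨x₀, hx₀⟩ := hsurj x
    rw [← hr, ← hx₀]
    exact ⟨⟨x₀, hQY x₀.2⟩, rfl⟩
  have hcext : c ∈ extender S Q τ := by
    apply Subgroup.subset_closure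
    refine ⟨hc.1, hSQ hc.1, 1, S.one_mem, ?_⟩
    intro x hx
    have hcomm : (x : Ω) * c = c * (x : Ω) := Subgroup.mem_centralizer_iff.mp hc.2 _ (hYQ' x)
    have h1 : (⟨c * (x : Ω) * c⁻¹, hx⟩ : Q) = x := by
      apply Subtype.ext
      show c * (x : Ω) * c⁻¹ = x
      rw [← hcomm]
      group
    rw [h1, one_mul, inv_one, mul_one]
  obtain ⟨ζ, hζ, hζx⟩ := Fusion.comp_mem' F hξ hρ hξext
  -- `ζ` fixes `Q` elementwise
  have hζQ : ∀ x : Q, ζ ⟨x, hQY x.2⟩ = x := by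
    intro x
    rw [hζx]
    have h1 : (⟨ξ ⟨x, hQY x.2⟩, hξext _⟩ : ↥(extender S Q τ)) = ⟨σ x, hξext _⟩ := rfl
    rw [h1, hρext (σ x) (hσQ x) _, hτinv x (hσQ x)]
  -- `ζ` is a map of `S C_F(Q)`
  have hζD : ζ ∈ (scSys F Q hQS hSQ).Hom Y := by
    have heq : Y = Y ⊔ Q := (sup_eq_left.mpr hQY).symm
    obtain ⟨ψ, hψ, hψx⟩ := Fusion.exists_hom_of_eq F heq hζ
    refine ⟨hζ, ψ, hψ, fun x => hψx x x.2 _, 1, S.one_mem, fun x => ?_⟩
    rw [one_mul, inv_one, mul_one]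
    exact (hψx x (hQY x.2) _).trans (hζQ x)
  have hcent := hYc.2 ζ.range ⟨ζ, hζD, rfl⟩
  have hρc : ρ ⟨c, hcext⟩ ∈ centralizerIn S ζ.range := by
    refine ⟨Fusion.map_mem F hρ _, ?_⟩
    show (ρ ⟨c, hcext⟩ : Ω) ∈ Subgroup.centralizer (ζ.range : Set Ω)
    rw [Subgroup.mem_centralizer_iff]
    rintro _ ⟨y, rfl⟩
    rw [hζx, ← map_mul, ← map_mul]
    congr 1
    apply Subtype.ext
    show ξ y * c = c * ξ y
    exact Subgroup.mem_centralizer_iff.mp hc.2 _ (hr ▸ ⟨y, rfl⟩)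
  obtain ⟨y, hy⟩ := hcent hρc
  rw [hζx] at hy
  have h1 := hρinj hy
  have h2 : ξ y = c := congrArg (fun z : ↥(extender S Q τ) => (z : Ω)) h1
  rw [← h2, ← hr]
  exact ⟨y, rfl⟩

theorem scSys_sectionFree [Finite S] (p : ℕ) [Fact p.Prime] (hS : IsPGroup p S)
    (F : FusionSystem S) (hF : F.IsSaturated p) {X : Type*} [Group X]
    (hfree : F.IsSectionFree p X) {Q : Subgroup Ω} (hQ : F.IsNormal Q) :
    (scSys F Q hQ.1 (Model.le_normalizer_of_isNormal F hQ)).IsSectionFree p X := by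
  have hD := scSys_isSaturated p hS F hF hQ
  apply subsystem_sectionFree p hS F hF hfree le_rfl _ hD (scSys_le F Q _ _)
  intro Y hYn hYc hYr
  have hQY : Q ≤ Y := Fusion.le_of_isNormal_of_centric_radical p hS _
    (scSys_isNormal F Q hQ.1 (Model.le_normalizer_of_isNormal F hQ)) hYc hYr
  exact isCentric_of_scSys_centric p hS F hF hQ Y hQY hYc

end Cfsg.Agent.Lead.KL
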