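import Mathlib
import Cfsg.Prelude.Def_FusionComponents
import Cfsg.Agent.Lead.FusionNormalCrit
import Cfsg.Agent.Lead.FusionMorph
import Cfsg.Agent.Lead.FusionFactor
import Cfsg.Agent.Lead.ModelH

set_option autoImplicit false

/-!
Kessar–Linckelmann reductions, part i: lifting normal subgroups from a factor system `F/Q` when
`F = S C_F(Q)`.
-/

namespace Cfsg.Agent.Lead.KL

open Cfsg Cfsg.FusionSystem Cfsg.Agent.Lead

/-- Automorphisms of `P` inducing, through `θP`, conjugation by an element of `T'`. -/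
def conjSub {P : Type*} [Group P] {Ω' : Type*} [Group Ω'] (θP : P →* Ω') (T' : Subgroup Ω') :
    Subgroup (MulAut P) where
  carrier := {β | ∃ r ∈ T', ∀ x : P, θP (β x) = r * θP x * r⁻¹}
  one_mem' := ⟨1, T'.one_mem, fun x => by rw [MulAut.one_apply, one_mul, inv_one, mul_one]⟩
  mul_mem' := by
    rintro a b ⟨r₁, hr₁, h₁⟩ ⟨r₂, hr₂, h₂⟩
    refine ⟨r₁ * r₂, T'.mul_mem hr₁ hr₂, fun x => ?_⟩
    rw [MulAut.mul_apply, h₁, h₂]
    group
  inv_mem' := by
    rintro a ⟨r, hr, h⟩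
    refine ⟨r⁻¹, T'.inv_mem hr, fun x => ?_⟩
    have h1 := h (a⁻¹ x)
    rw [MulAut.apply_inv_self] at h1
    rw [h1]
    group

theorem conj_pow_apply {P : Type*} [Group P] {Ω' : Type*} [Group Ω'] (θP : P →* Ω')
    (β : MulAut P) (r : Ω') (h : ∀ x : P, θP (β x) = r * θP x * r⁻¹) (n : ℕ) (x : P) :
    θP ((β ^ n) x) = r ^ n * θP x * (r ^ n)⁻¹ := by
  induction n generalizing x with
  | zero => rw [pow_zero, pow_zero, MulAut.one_apply, one_mul, inv_one, mul_one]
  | succ n ih =>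
    rw [pow_succ, MulAut.mul_apply, ih, h, pow_succ]
    group

/-- An automorphism fixing `K` elementwise and trivial modulo `K` has order dividing `|K|`. -/
theorem pow_card_eq_one_of_stable {P : Type*} [Group P] (K : Subgroup P) [Finite K]
    (γ : MulAut P) (h1 : ∀ x : P, x⁻¹ * γ x ∈ K) (h2 : ∀ x ∈ K, γ x = x) :
    γ ^ Nat.card K = 1 := by
  have key : ∀ (m : ℕ) (x : P), (γ ^ m) x = x * (x⁻¹ * γ x) ^ m := by
    intro m
    induction m with
    | zero => intro x; rw [pow_zero, pow_zero, MulAut.one_apply, mul_one]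
    | succ m ih =>
      intro x
      rw [pow_succ', MulAut.mul_apply, ih, map_mul, map_pow, h2 _ (h1 x), pow_succ', ← mul_assoc,
        mul_inv_cancel_left]
  ext x
  rw [key, MulAut.one_apply]
  have h3 : (⟨x⁻¹ * γ x, h1 x⟩ : K) ^ Nat.card K = 1 := pow_card_eq_one'
  have h4 : (x⁻¹ * γ x) ^ Nat.card K = 1 := congrArg Subtype.val h3
  rw [h4, mul_one]

variable {Ω : Type*} [Group Ω] {S : Subgroup Ω} {Ω' : Type*} [Group Ω'] {S' : Subgroup Ω'}

theorem conjBy_pow_apply {P Q : Subgroup Ω} (β : MulAut P) (s : Ω)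
    (hs : ∀ x ∈ Q, s * x * s⁻¹ ∈ Q)
    (h : ∀ x : P, (x : Ω) ∈ Q → ((β x : P) : Ω) = s * x * s⁻¹) (n : ℕ) (x : P)
    (hx : (x : Ω) ∈ Q) : (((β ^ n) x : P) : Ω) = s ^ n * x * (s ^ n)⁻¹ := by
  induction n generalizing x with
  | zero => rw [pow_zero, pow_zero, MulAut.one_apply, one_mul, inv_one, mul_one]
  | succ n ih =>
    have h1 : ((β x : P) : Ω) ∈ Q := by
      rw [h x hx]
      exact hs _ hx
    rw [pow_succ, MulAut.mul_apply, ih (β x) h1, h x hx, pow_succ]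
    group

/-- Lifting a normal subgroup of a factor system `F/Q`, when every map of `F` acts on `Q` as an
element of `S`. -/
theorem lift_isNormal [Finite S] [Finite S'] (p : ℕ) [Fact p.Prime] (hS : IsPGroup p S)
    (hS' : IsPGroup p S') (F : FusionSystem S) (hF : F.IsSaturated p) {Q : Subgroup Ω}
    (hQ : F.IsNormal Q)
    (hSC : ∀ (P : Subgroup Ω) (φ : P →* Ω), φ ∈ F.Hom P → ∀ hQP : Q ≤ P,
      ∃ s ∈ S, ∀ x : Q, φ ⟨x, hQP x.2⟩ = s * x * s⁻¹)
    (F' : FusionSystem S') (θ : S →* Ω') (hθ : F.IsMorphism F' θ)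
    (hker : ∀ s : S, θ s = 1 ↔ (s : Ω) ∈ Q) {R' : Subgroup Ω'} (hR' : F'.IsNormal R') :
    F.IsNormal (preimageAlong θ R') := by
  have hQS := hQ.1
  have hSQ := Model.le_normalizer_of_isNormal F hQ
  rw [Fusion.isNormal_iff_stronglyClosed p hS F hF]
  refine ⟨⟨Fusion.preimageAlong_le θ R', ?_⟩, ?_⟩
  · -- strongly closed
    intro P hP φ hφ x
    obtain ⟨φ', hφ', hP1, hφ1, hP'1, hind⟩ := hθ.2 P φ hφ
    have hsc := Fusion.stronglyClosed_of_isNormal F' hR'
    have hle : imageAlong θ P ≤ R' := by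
      intro y hy
      obtain ⟨z, hz, hzS, rfl⟩ := (Fusion.mem_imageAlong θ P y).mp hy
      obtain ⟨_, h⟩ := (Fusion.mem_preimageAlong θ R' z).mp (hP hz)
      exact h
    have h1 := hsc.2 (imageAlong θ P) hle φ' hφ' ⟨θ ⟨x, hP1 x.2⟩, hP'1 x⟩
    rw [hind x] at h1
    exact (Fusion.mem_preimageAlong θ R' _).mpr ⟨hφ1 x, h1⟩
  · intro P hPc hPr
    have hPS := hPc.1
    haveI : Finite P := Fusion.finite_of_le hPS
    have hQP : Q ≤ P := Fusion.le_of_isNormal_of_centric_radical p hS F hQ hPc hPr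
    have hRS : preimageAlong θ R' ≤ S := Fusion.preimageAlong_le θ R'
    have hPRS : P ⊔ preimageAlong θ R' ≤ S := sup_le hPS hRS
    by_contra hRP
    have hne : P ≠ P ⊔ preimageAlong θ R' := fun h => hRP (le_sup_right.trans h.ge)
    haveI : Finite ↥(P ⊔ preimageAlong θ R') := Fusion.finite_of_le hPRS
    obtain ⟨g, hgT, hgP⟩ := Fusion.exists_mem_normalizerIn_not_mem
      (S := P ⊔ preimageAlong θ R') (hS.to_le hPRS) le_sup_left hne
    have hgPR : g ∈ P ⊔ preimageAlong θ R' := (Subgroup.mem_inf.mp hgT).1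
    have hgN : g ∈ Subgroup.normalizer (P : Set Ω) := (Subgroup.mem_inf.mp hgT).2
    have hgS : g ∈ S := hPRS hgPR
    have hθS' : ∀ s : S, θ s ∈ S' := hθ.1
    have himS' : imageAlong θ P ≤ S' := by
      intro y hy
      obtain ⟨z, hz, hzS, rfl⟩ := (Fusion.mem_imageAlong θ P y).mp hy
      exact hθS' _
    have hT'S' : imageAlong θ P ⊔ R' ≤ S' := sup_le himS' hR'.1
    have hθg : θ ⟨g, hgS⟩ ∈ imageAlong θ P ⊔ R' := by
      have hle : P ⊔ preimageAlong θ R' ≤ preimageAlong θ (imageAlong θ P ⊔ R') := by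
        apply sup_le
        · intro x hx
          rw [Fusion.mem_preimageAlong]
          exact ⟨hPS hx, le_sup_left (b := R')
            ((Fusion.mem_imageAlong θ P _).mpr ⟨x, hx, hPS hx, rfl⟩)⟩
        · exact Fusion.preimageAlong_mono θ le_sup_right
      obtain ⟨_, h⟩ := (Fusion.mem_preimageAlong θ _ g).mp (hle hgPR)
      exact h
    -- the subgroup `V`
    have hVnorm : ∀ α ∈ F.autGroup P, ∀ v ∈ conjSub (θ.comp (Subgroup.inclusion hPS))
        (imageAlong θ P ⊔ R'), α * v * α⁻¹ ∈ conjSub (θ.comp (Subgroup.inclusion hPS))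
        (imageAlong θ P ⊔ R') := by
      rintro α hα v ⟨r, hr, hv⟩
      have hφα := (Fusion.mem_autGroup_iff F hPS α).mp hα
      obtain ⟨φ', hφ', hP1, hφ1, hP'1, hind⟩ := hθ.2 P _ hφα
      obtain ⟨χ, hχ, hχP, hχR⟩ := hR'.2 (imageAlong θ P) φ' hφ'
      have hχT : ∀ z : ↥(imageAlong θ P ⊔ R'), χ z ∈ imageAlong θ P ⊔ R' := by
        apply Fusion.sup_map_mem
        · intro y
          rw [hχP]
          obtain ⟨x, hx, hxS, hxy⟩ := (Fusion.mem_imageAlong θ P y).mp y.2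
          have h1 : y = ⟨θ ⟨x, hP1 hx⟩, hP'1 ⟨x, hx⟩⟩ := Subtype.ext hxy.symm
          rw [h1, hind ⟨x, hx⟩]
          apply le_sup_left (b := R')
          exact (Fusion.mem_imageAlong θ P _).mpr ⟨_, (α ⟨x, hx⟩).2, _, rfl⟩
        · intro y
          apply le_sup_right (a := imageAlong θ P)
          refine hχR.le ⟨_, ?_, rfl⟩
          rw [SetLike.mem_coe, Subgroup.mem_subgroupOf]
          exact y.2
      refine ⟨χ ⟨r, hr⟩, hχT _, fun x => ?_⟩
      have hx' : (α * v * α⁻¹) x = α (v (α⁻¹ x)) := rfl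
      rw [hx']
      have hα1 : ∀ z : P, (θ.comp (Subgroup.inclusion hPS)) (α z) =
          φ' ⟨(θ.comp (Subgroup.inclusion hPS)) z, hP'1 z⟩ := fun z => (hind z).symm
      rw [hα1 (v (α⁻¹ x)), ← hχP]
      have h4 : Subgroup.inclusion (le_sup_left : imageAlong θ P ≤ imageAlong θ P ⊔ R')
          ⟨(θ.comp (Subgroup.inclusion hPS)) (v (α⁻¹ x)), hP'1 _⟩ =
          ⟨r, hr⟩ * Subgroup.inclusion le_sup_left
            ⟨(θ.comp (Subgroup.inclusion hPS)) (α⁻¹ x), hP'1 _⟩ * ⟨r, hr⟩⁻¹ :=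
        Subtype.ext (hv (α⁻¹ x))
      rw [h4, map_mul, map_mul, map_inv, hχP, ← hα1 (α⁻¹ x), MulAut.apply_inv_self]
    -- `V ∩ Aut_F(P)` is a `p`-group
    obtain ⟨a, ha⟩ := hS.exists_card_eq
    obtain ⟨b, hb⟩ := hS'.exists_card_eq
    haveI : Finite Q := Fusion.finite_of_le hQS
    obtain ⟨c, hc⟩ := (hS.to_le hQS).exists_card_eq
    have hVp : IsPGroup p ↥(conjSub (θ.comp (Subgroup.inclusion hPS)) (imageAlong θ P ⊔ R') ⊓
        F.autGroup P) := by
      rintro ⟨β, hβ⟩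
      obtain ⟨⟨r, hr, hβr⟩, hβA⟩ := Subgroup.mem_inf.mp hβ
      have hφβ := (Fusion.mem_autGroup_iff F hPS β).mp hβA
      obtain ⟨s, hs, hβs⟩ := hSC P _ hφβ hQP
      refine ⟨a + b + c, Subtype.ext ?_⟩
      show β ^ p ^ (a + b + c) = 1
      have hpow : p ^ (a + b + c) = (Nat.card S * Nat.card S') * Nat.card Q := by
        rw [ha, hb, hc, pow_add, pow_add]
      rw [hpow, pow_mul]
      have hrN : r ^ (Nat.card S * Nat.card S') = 1 := by
        have h3 : (⟨r, hT'S' hr⟩ : S') ^ Nat.card S' = 1 := pow_card_eq_one'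
        have h4 : r ^ Nat.card S' = 1 := congrArg Subtype.val h3
        rw [mul_comm, pow_mul, h4, one_pow]
      have hsN : s ^ (Nat.card S * Nat.card S') = 1 := by
        have h3 : (⟨s, hs⟩ : S) ^ Nat.card S = 1 := pow_card_eq_one'
        have h4 : s ^ Nat.card S = 1 := congrArg Subtype.val h3
        rw [pow_mul, h4, one_pow]
      have hsQ : ∀ x ∈ Q, s * x * s⁻¹ ∈ Q := fun x hx =>
        (Subgroup.mem_normalizer_iff.mp (hSQ hs) x).mp hx
      have hβs' : ∀ x : P, (x : Ω) ∈ Q → ((β x : P) : Ω) = s * x * s⁻¹ := fun x hx =>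
        hβs ⟨x, hx⟩
      have hcardK : Nat.card ↥(Q.subgroupOf P) = Nat.card Q := card_subgroupOf_of_le hQP
      rw [← hcardK]
      apply pow_card_eq_one_of_stable
      · intro x
        rw [Subgroup.mem_subgroupOf]
        have h5 := conj_pow_apply (θ.comp (Subgroup.inclusion hPS)) β r hβr
          (Nat.card S * Nat.card S') x
        rw [hrN, one_mul, inv_one, mul_one] at h5
        have h6 : θ (⟨x, hPS x.2⟩⁻¹ * ⟨((β ^ (Nat.card S * Nat.card S')) x : P),
            hPS ((β ^ (Nat.card S * Nat.card S')) x).2⟩) = 1 := by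
          rw [map_mul, map_inv]
          have h7 : θ ⟨((β ^ (Nat.card S * Nat.card S')) x : P),
              hPS ((β ^ (Nat.card S * Nat.card S')) x).2⟩ = θ ⟨x, hPS x.2⟩ := h5
          rw [h7, inv_mul_cancel]
        exact (hker _).mp h6
      · intro x hx
        rw [Subgroup.mem_subgroupOf] at hx
        apply Subtype.ext
        rw [conjBy_pow_apply β s hsQ hβs' _ x hx, hsN, one_mul, inv_one, mul_one]
    have hVA : conjSub (θ.comp (Subgroup.inclusion hPS)) (imageAlong θ P ⊔ R') ⊓ F.autGroup P ≤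
        F.autGroup P := inf_le_right
    have hVnormal : ((conjSub (θ.comp (Subgroup.inclusion hPS)) (imageAlong θ P ⊔ R') ⊓
        F.autGroup P).subgroupOf (F.autGroup P)).Normal := by
      constructor
      intro n hn a'
      rw [Subgroup.mem_subgroupOf] at hn ⊢
      exact Subgroup.mem_inf.mpr ⟨hVnorm a'.1 a'.2 n.1 (Subgroup.mem_inf.mp hn).1,
        (a' * n * a'⁻¹).2⟩
    have hVle : (conjSub (θ.comp (Subgroup.inclusion hPS)) (imageAlong θ P ⊔ R') ⊓
        F.autGroup P).subgroupOf (F.autGroup P) ≤ pCore p (F.autGroup P) :=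
      le_sSup ⟨hVnormal, hVp.comap_subtype⟩
    have hcgA : conjAutHom P ⟨g, hgN⟩ ∈ F.autGroup P :=
      Fusion.autInducedBy_le_autGroup F hPS (Fusion.conjAutHom_mem_autInducedBy P ⟨g, hgN⟩ hgS)
    have hcgV : conjAutHom P ⟨g, hgN⟩ ∈
        conjSub (θ.comp (Subgroup.inclusion hPS)) (imageAlong θ P ⊔ R') ⊓ F.autGroup P := by
      refine Subgroup.mem_inf.mpr ⟨⟨θ ⟨g, hgS⟩, hθg, fun x => ?_⟩, hcgA⟩
      show θ (⟨g, hgS⟩ * ⟨x, hPS x.2⟩ * ⟨g, hgS⟩⁻¹) = _
      rw [map_mul, map_mul, map_inv]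
      rfl
    have hcgInn : conjAutHom P ⟨g, hgN⟩ ∈ Inn P := by
      rw [← hPr.2]
      exact ⟨⟨_, hcgA⟩, hVle (Subgroup.mem_subgroupOf.mpr hcgV), rfl⟩
    exact hgP (Fusion.mem_of_conjAutHom_mem_inn F hPc g hgS hgN hcgInn)

end Cfsg.Agent.Lead.KL
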