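import Mathlib
import Cfsg.Prelude.Def_FusionReduction
import Cfsg.Agent.Lead.KLd
import Cfsg.Agent.Lead.KLh
import Cfsg.Agent.Lead.KLi
import Cfsg.Agent.Helper6.FactSecC

set_option autoImplicit false

/-!
Kessar–Linckelmann reductions, part j: the main induction. For a section-free saturated system and
a Glauberman functor `W`, the subgroup `W(S)` is normal in the system.
-/

namespace Cfsg.Agent.Lead.KL

open Cfsg Cfsg.FusionSystem Cfsg.Agent.Lead Cfsg.Agent.Helper1 Cfsg.Agent.Helper1.ThompsonRed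
  Cfsg.Agent.Lead.GlTh

universe u

section Size

variable {Ω : Type*} [Group Ω] {S : Subgroup Ω}

/-- The graph of a map. -/
def graphOf {P : Subgroup Ω} (φ : P →* Ω) : Set (Ω × Ω) := {z | ∃ x : P, z = ((x : Ω), φ x)}

/-- The set of graphs of the maps of a system. -/
def graphs {T : Subgroup Ω} (F : FusionSystem T) : Set (Set (Ω × Ω)) :=
  {g | ∃ (P : Subgroup Ω) (φ : P →* Ω), φ ∈ F.Hom P ∧ g = graphOf φ}

theorem graphs_finite [Finite S] (F : FusionSystem S) : (graphs F).Finite := by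
  have hSfin : (S : Set Ω).Finite := Set.toFinite _
  apply Set.Finite.subset (Set.Finite.finite_subsets (hSfin.prod hSfin))
  rintro g ⟨P, φ, hφ, rfl⟩
  rintro z ⟨x, rfl⟩
  exact ⟨Fusion.src_le F hφ x.2, Fusion.map_mem F hφ x⟩

/-- The number of maps of a system. -/
noncomputable def size {T : Subgroup Ω} (F : FusionSystem T) : ℕ := (graphs F).ncard

theorem mem_of_graphOf_mem {T : Subgroup Ω} (E : FusionSystem T) {P : Subgroup Ω} (φ : P →* Ω)
    (h : graphOf φ ∈ graphs E) : φ ∈ E.Hom P := by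
  obtain ⟨P', φ', hφ', heq⟩ := h
  have hPP' : P = P' := by
    ext x
    constructor
    · intro hx
      have h1 : ((x, φ ⟨x, hx⟩) : Ω × Ω) ∈ graphOf φ := ⟨⟨x, hx⟩, rfl⟩
      rw [heq] at h1
      obtain ⟨x', hx'⟩ := h1
      have h2 : x = x' := (Prod.ext_iff.mp hx').1
      rw [h2]
      exact x'.2
    · intro hx
      have h1 : ((x, φ' ⟨x, hx⟩) : Ω × Ω) ∈ graphOf φ' := ⟨⟨x, hx⟩, rfl⟩
      rw [← heq] at h1
      obtain ⟨x', hx'⟩ := h1
      have h2 : x = x' := (Prod.ext_iff.mp hx').1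
      rw [h2]
      exact x'.2
  subst hPP'
  have hφφ' : φ = φ' := by
    ext x
    have h1 : (((x : Ω), φ x) : Ω × Ω) ∈ graphOf φ := ⟨x, rfl⟩
    rw [heq] at h1
    obtain ⟨x', hx'⟩ := h1
    have h2 : (x : Ω) = x' := (Prod.ext_iff.mp hx').1
    have h3 : φ x = φ' x' := (Prod.ext_iff.mp hx').2
    have h4 : x = x' := Subtype.ext h2
    rw [h3, h4]
  rw [hφφ']
  exact hφ'

theorem size_lt [Finite S] (F E : FusionSystem S) (hle : ∀ P, E.Hom P ⊆ F.Hom P)
    (hne : ∃ (P : Subgroup Ω) (φ : P →* Ω), φ ∈ F.Hom P ∧ φ ∉ E.Hom P) : size E < size F := by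
  apply Set.ncard_lt_ncard ?_ (graphs_finite F)
  refine ⟨?_, ?_⟩
  · rintro g ⟨P, φ, hφ, rfl⟩
    exact ⟨P, φ, hle P hφ, rfl⟩
  · intro hsub
    obtain ⟨P, φ, hφ, hφE⟩ := hne
    exact hφE (mem_of_graphOf_mem E φ (hsub ⟨P, φ, hφ, rfl⟩))

end Size

variable {Ω : Type u} [Group Ω] {S : Subgroup Ω}

theorem le_normalizer_sup_centralizerIn [Finite S] {Q : Subgroup Ω} (hQS : Q ≤ S)
    (hSQ : S ≤ Subgroup.normalizer (Q : Set Ω)) :
    S ≤ Subgroup.normalizer ((Q ⊔ centralizerIn S Q : Subgroup Ω) : Set Ω) := by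
  have hSC : S ≤ Subgroup.normalizer (centralizerIn S Q : Set Ω) := le_normalizer_centralizerIn hSQ
  intro s hs
  haveI : Finite ↥(Q ⊔ centralizerIn S Q) := Fusion.finite_of_le (sup_le hQS inf_le_left)
  apply mem_normalizer_of_conj_mem_of_finite
  have hle : Q ⊔ centralizerIn S Q ≤
      (Q ⊔ centralizerIn S Q).comap (MulAut.conj s).toMonoidHom := by
    apply sup_le
    · intro y hy
      rw [Subgroup.mem_comap]
      exact le_sup_left (a := Q) ((Subgroup.mem_normalizer_iff.mp (hSQ hs) y).mp hy)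
    · intro y hy
      rw [Subgroup.mem_comap]
      exact le_sup_right (a := Q) ((Subgroup.mem_normalizer_iff.mp (hSC hs) y).mp hy)
  intro y hy
  exact hle hy

/-- The factor system modulo a normal subgroup, with all its properties. -/
theorem exists_factor' [Finite S] (p : ℕ) [Fact p.Prime] (hS : IsPGroup p S)
    (F : FusionSystem S) (hF : F.IsSaturated p) {Q : Subgroup Ω} (hQ : F.IsNormal Q) :
    ∃ (Ω' : Type u) (_ : Group Ω') (S' : Subgroup Ω') (_ : Finite S') (F' : FusionSystem S')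
      (θ : S →* Ω'), IsPGroup p S' ∧ F.IsFactorSystem Q θ F' ∧ F.IsSurjectiveMorphism F' θ ∧
        F'.IsSaturated p ∧ Nat.card S' * Nat.card Q = Nat.card S := by
  haveI := Model.Qs_normal F hQ
  have hQS := hQ.1
  set θ : S →* (↥S ⧸ Model.Qs S Q) := QuotientGroup.mk' (Model.Qs S Q) with hθdef
  have hker : ∀ s : S, θ s = 1 ↔ (s : Ω) ∈ Q := by
    intro s
    rw [hθdef, QuotientGroup.mk'_apply, QuotientGroup.eq_one_iff, Subgroup.mem_subgroupOf]
  have hr : θ.range = (⊤ : Subgroup (↥S ⧸ Model.Qs S Q)) :=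
    MonoidHom.range_eq_top.mpr (QuotientGroup.mk'_surjective _)
  have hsc := Fusion.stronglyClosed_of_isNormal F hQ
  have hfac := Fusion.factorSystem_isFactorSystem F θ hsc hker hr
  have hθ := Fusion.isSurjectiveMorphism_of_isFactorSystem p hS F hF Q hsc θ _ hfac
  have hsat := Fusion.isSaturated_image p hS F hF _ θ hθ
  haveI hfin : Finite ↥(⊤ : Subgroup (↥S ⧸ Model.Qs S Q)) := Fusion.finite_of_range θ hr
  refine ⟨↥S ⧸ Model.Qs S Q, inferInstance, ⊤, hfin, Fusion.factorSystem F θ hsc hker hr, θ,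
    ?_, hfac, hθ, hsat, ?_⟩
  · have h1 : IsPGroup p (↥S ⧸ Model.Qs S Q) := hS.to_quotient _
    exact h1.to_subgroup _
  · rw [Subgroup.card_top, Nat.card_congr (Model.eQ hQS).toEquiv]
    exact (Subgroup.card_eq_card_quotient_mul_card_subgroup (Model.Qs S Q)).symm

theorem main_aux (p : ℕ) [Fact p.Prime] (W : CharFunctor.{u})
    (hne : ∀ (R : Type u) [Group R] [Finite R], IsPGroup p R → Nontrivial R → W.W R ≠ ⊥)
    (hW3 : GlaubermanNormal p W) :
    ∀ (n m : ℕ) (Ω : Type u) [Group Ω] (S : Subgroup Ω) [Finite S], Nat.card S = n →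
      IsPGroup p S → ∀ F : FusionSystem S, size F = m → F.IsSaturated p →
        F.IsSectionFree p ↥(Cfsg.qd p) → F.IsNormal (W.of S) := by
  intro n
  induction n using Nat.strong_induction_on with
  | _ n ih₁ =>
  intro m
  induction m using Nat.strong_induction_on with
  | _ m ih₂ =>
  intro Ω _ S _ hn hS F hm hF hfree
  have IH₁ : ∀ (Ω' : Type u) [Group Ω'] (S' : Subgroup Ω') [Finite S'],
      Nat.card S' < Nat.card S → IsPGroup p S' → ∀ F' : FusionSystem S', F'.IsSaturated p →
        F'.IsSectionFree p ↥(Cfsg.qd p) → F'.IsNormal (W.of S') :=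
    fun Ω' _ S' _ hlt hS' F' hF' hfree' =>
      ih₁ (Nat.card S') (hn ▸ hlt) (size F') Ω' S' rfl hS' F' rfl hF' hfree'
  have IH₂ : ∀ F₂ : FusionSystem S, size F₂ < size F → F₂.IsSaturated p →
      F₂.IsSectionFree p ↥(Cfsg.qd p) → F₂.IsNormal (W.of S) :=
    fun F₂ hlt hF₂ hfree₂ => ih₂ (size F₂) (hm ▸ hlt) Ω S hn hS F₂ rfl hF₂ hfree₂
  have IHsub : ∀ (T : Subgroup Ω), T ≤ S → ∀ E : FusionSystem T, (∀ P, E.Hom P ⊆ F.Hom P) →
      (∃ (P : Subgroup Ω) (φ : P →* Ω), φ ∈ F.Hom P ∧ φ ∉ E.Hom P) → E.IsSaturated p →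
      E.IsSectionFree p ↥(Cfsg.qd p) → E.IsNormal (W.of T) := by
    intro T hTS E hle hne' hE hEfree
    by_cases hT : T = S
    · subst hT
      exact IH₂ E (size_lt F E hle hne') hE hEfree
    · haveI : Finite T := Fusion.finite_of_le hTS
      exact IH₁ Ω T (card_lt_of_lt (lt_of_le_of_ne hTS hT)) (hS.to_le hTS) E hE hEfree
  have hQ : F.IsNormal F.core := Fusion.core_isNormal F
  have hcore_max : ∀ X : Subgroup Ω, F.IsNormal X → X ≤ F.core := fun X hX => le_sSup hX
  by_cases hQbot : F.core = ⊥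
  · -- no nontrivial normal subgroup
    apply isNormal_of_localNormal p hS W hne F hF
    intro U hUne hUfn N hN
    have hUS := hUfn.1
    have hNsat := Fusion.normalizerSystem_isSaturated p hS F hF U hUfn N hN
    have hNfree := LocMod.normalizer_sectionFree p hS F hF hfree U hUfn N hN
    have hUnn : ¬ F.IsNormal U := by
      intro h
      apply hUne
      have h1 := hcore_max U h
      rw [hQbot] at h1
      exact le_bot_iff.mp h1
    obtain ⟨P, φ, hφ, hφN⟩ := exists_not_mem_normalizerHom F hUS hUnn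
    exact IHsub (normalizerIn S U) inf_le_left N (fun P φ h => by rw [hN P] at h; exact h.1)
      ⟨P, φ, hφ, by rw [hN P]; exact hφN⟩ hNsat hNfree
  · by_cases hQc : centralizerIn S F.core ≤ F.core
    · exact isNormal_of_constrained p hS W hW3 F hF hfree hQ hQc
    · have hQS := hQ.1
      have hSQ := Model.le_normalizer_of_isNormal F hQ
      have hDsat := scSys_isSaturated p hS F hF hQ
      have hDfree := scSys_sectionFree p hS F hF hfree hQ
      by_cases hDF : ∀ P, F.Hom P ⊆ (scSys F F.core hQS hSQ).Hom P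
      · -- `F = S C_F(Q)`: pass to the factor system
        exfalso
        obtain ⟨Ω', _, S', _, F', θ, hS'p, hfac, hθ, hF'sat, hcard⟩ :=
          exists_factor' p hS F hF hQ
        have hF'free := Cfsg.Agent.Helper6.FactSec.factor_sectionFree p hS F hF F.core hQ hfree
          θ F' hfac
        haveI : Finite F.core := Fusion.finite_of_le hQS
        have hQcard : 1 < Nat.card F.core := F.core.one_lt_card_iff_ne_bot.mpr hQbot
        have hpos : 0 < Nat.card S' := Nat.card_pos
        have hS'lt : Nat.card S' < Nat.card S := by nlinarith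
        have hnormal' := IH₁ Ω' S' hS'lt hS'p F' hF'sat hF'free
        have hS'nt : 1 < Nat.card S' := by
          by_contra hle
          have h1 : Nat.card S' = 1 := by omega
          apply hQc
          have hQeq : F.core = S :=
            Subgroup.eq_of_le_of_card_ge hQS (by rw [← hcard, h1, one_mul])
          rw [hQeq]
          exact inf_le_left
        have hWne := of_ne_bot' W p hne S' hS'p hS'nt
        have hSC : ∀ (P : Subgroup Ω) (φ : P →* Ω), φ ∈ F.Hom P → ∀ hQP : F.core ≤ P,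
            ∃ s ∈ S, ∀ x : F.core, φ ⟨x, hQP x.2⟩ = s * x * s⁻¹ := by
          intro P φ hφ hQP
          obtain ⟨-, ψ, hψ, hψP, s, hs, hψQ⟩ := hDF P hφ
          refine ⟨s, hs, fun x => ?_⟩
          rw [← hψQ x, ← hψP ⟨x, hQP x.2⟩]
          rfl
        have hker : ∀ s : S, θ s = 1 ↔ (s : Ω) ∈ F.core := hfac.2.1
        have hlift := lift_isNormal p hS hS'p F hF hQ hSC F' θ hθ.1 hker hnormal'
        have hle := hcore_max _ hlift
        obtain ⟨y, hy, hy1⟩ : ∃ y ∈ W.of S', y ≠ 1 := by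
          by_contra h
          push Not at h
          exact hWne ((Subgroup.eq_bot_iff_forall _).mpr h)
        have hyS' : y ∈ S' := W.of_le S' hy
        have hyr : y ∈ θ.range := by rw [hθ.2.1]; exact hyS'
        obtain ⟨s, rfl⟩ := hyr
        have hs : (s : Ω) ∈ preimageAlong θ (W.of S') :=
          (Fusion.mem_preimageAlong θ _ _).mpr ⟨s.2, hy⟩
        exact hy1 ((hker s).mpr (hle hs))
      · -- both `S C_F(Q)` and `N_F(Q C_S(Q))` are proper
        push Not at hDF
        obtain ⟨P₀, hP₀⟩ := hDF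
        rw [Set.not_subset] at hP₀
        obtain ⟨φ₀, hφ₀, hφ₀D⟩ := hP₀
        have hXD := IHsub S le_rfl (scSys F F.core hQS hSQ) (scSys_le F F.core hQS hSQ)
          ⟨P₀, φ₀, hφ₀, hφ₀D⟩ hDsat hDfree
        have hRS : F.core ⊔ centralizerIn S F.core ≤ S := sup_le hQS inf_le_left
        have hRnn : ¬ F.IsNormal (F.core ⊔ centralizerIn S F.core) := fun h =>
          hQc (le_sup_right.trans (hcore_max _ h))
        have hSR := le_normalizer_sup_centralizerIn hQS hSQ
        have hNReq : normalizerIn S (F.core ⊔ centralizerIn S F.core) = S :=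
          le_antisymm inf_le_left (le_inf le_rfl hSR)
        have hRfn : F.IsFullyNormalized (F.core ⊔ centralizerIn S F.core) := by
          refine ⟨hRS, fun R' _ => ?_⟩
          rw [hNReq]
          exact Subgroup.card_le_of_le inf_le_left
        obtain ⟨NR, hNR⟩ := Cfsg.Agent.S5096.result F _ hRS
        have hNRsat := Fusion.normalizerSystem_isSaturated p hS F hF _ hRfn NR hNR
        have hNRfree := LocMod.normalizer_sectionFree p hS F hF hfree _ hRfn NR hNR
        obtain ⟨P₁, φ₁, hφ₁, hφ₁N⟩ := exists_not_mem_normalizerHom F hRS hRnn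
        have hXN := IHsub (normalizerIn S (F.core ⊔ centralizerIn S F.core)) inf_le_left NR (fun P φ h => by rw [hNR P] at h; exact h.1)
          ⟨P₁, φ₁, hφ₁, by rw [hNR P₁]; exact hφ₁N⟩ hNRsat hNRfree
        have hWeq : W.of (normalizerIn S (F.core ⊔ centralizerIn S F.core)) = W.of S := by
          rw [hNReq]
        rw [hWeq] at hXN
        exact isNormal_of_generation p hS F hF hQ NR hNR hXD hXN

theorem main [Finite S] (p : ℕ) [Fact p.Prime] (hS : IsPGroup p S) (W : CharFunctor.{u})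
    (hne : ∀ (R : Type u) [Group R] [Finite R], IsPGroup p R → Nontrivial R → W.W R ≠ ⊥)
    (hW3 : GlaubermanNormal p W) (F : FusionSystem S) (hF : F.IsSaturated p)
    (hfree : F.IsSectionFree p ↥(Cfsg.qd p)) : F.IsNormal (W.of S) :=
  main_aux p W hne hW3 _ _ Ω S rfl hS F rfl hF hfree

end Cfsg.Agent.Lead.KL
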