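import Mathlib
import Cfsg.Agent.Lead.KLj

set_option autoImplicit false

/-!
Kessar–Linckelmann reductions, part k: from an abstract Glauberman functor on finite `p`-groups to
the normality of `W(S)`.
-/

namespace Cfsg.Agent.Lead.KL

open Cfsg Cfsg.FusionSystem Cfsg.Agent.Lead Cfsg.Agent.Helper1 Cfsg.Agent.Helper1.ThompsonRed

universe u

open Classical in
/-- The characteristic functor obtained from data given on finite `p`-groups only. -/
noncomputable def mkFunctor (p : ℕ) (W : ∀ (Q : Type u) [Group Q], Subgroup Q)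
    (hW2 : ∀ (Q R : Type u) [Group Q] [Group R] [Finite Q], IsPGroup p Q → ∀ φ : Q ≃* R,
      (W Q).map φ.toMonoidHom = W R) : CharFunctor.{u} where
  W R _ := if Finite R ∧ IsPGroup p R then W R else ⊥
  map_equiv := by
    intro R R' _ _ e
    by_cases h : Finite R ∧ IsPGroup p R
    · haveI := h.1
      have h' : Finite R' ∧ IsPGroup p R' := ⟨Finite.of_equiv R e.toEquiv, h.2.of_equiv e⟩
      rw [if_pos h, if_pos h']
      exact hW2 R R' h.2 e
    · have h' : ¬ (Finite R' ∧ IsPGroup p R') := fun h' => by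
        haveI := h'.1
        exact h ⟨Finite.of_equiv R' e.symm.toEquiv, h'.2.of_equiv e.symm⟩
      rw [if_neg h, if_neg h']
      exact Subgroup.map_bot _

theorem mkFunctor_W (p : ℕ) (W : ∀ (Q : Type u) [Group Q], Subgroup Q)
    (hW2 : ∀ (Q R : Type u) [Group Q] [Group R] [Finite Q], IsPGroup p Q → ∀ φ : Q ≃* R,
      (W Q).map φ.toMonoidHom = W R) (R : Type u) [Group R] [Finite R] (hR : IsPGroup p R) :
    (mkFunctor p W hW2).W R = W R := by
  unfold mkFunctor
  dsimp only
  rw [if_pos ⟨inferInstance, hR⟩]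

theorem mkFunctor_of (p : ℕ) (W : ∀ (Q : Type u) [Group Q], Subgroup Q)
    (hW2 : ∀ (Q R : Type u) [Group Q] [Group R] [Finite Q], IsPGroup p Q → ∀ φ : Q ≃* R,
      (W Q).map φ.toMonoidHom = W R) {X : Type u} [Group X] (T : Subgroup X) [Finite T]
    (hT : IsPGroup p T) : (mkFunctor p W hW2).of T = (W ↥T).map T.subtype := by
  unfold CharFunctor.of
  rw [mkFunctor_W p W hW2 ↥T hT]

theorem of_statement {p : ℕ} [Fact p.Prime] (W : ∀ (Q : Type u) [Group Q], Subgroup Q)
    (hW1 : ∀ (Q : Type u) [Group Q] [Finite Q], IsPGroup p Q → Nontrivial Q → W Q ≠ ⊥)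
    (hW2 : ∀ (Q R : Type u) [Group Q] [Group R] [Finite Q], IsPGroup p Q → ∀ φ : Q ≃* R,
      (W Q).map φ.toMonoidHom = W R)
    (hW3 : ∀ (L : Type u) [Group L] [Finite L] (P : Sylow p L),
      Subgroup.centralizer ((Cfsg.pCore p L : Subgroup L) : Set L) =
        Cfsg.pCore p L ⊓ Subgroup.centralizer ((Cfsg.pCore p L : Subgroup L) : Set L) →
      ¬ Cfsg.Involves ↥(Cfsg.qd p) L →
      (((W ↥(P : Subgroup L)).map (P : Subgroup L).subtype : Subgroup L)).Normal)
    {Ω : Type u} [Group Ω] {S : Subgroup Ω} [Finite S] (hS : IsPGroup p S)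
    (F : Cfsg.FusionSystem S) (hF : F.IsSaturated p)
    (hfree : F.IsSectionFree p ↥(Cfsg.qd p)) : F.IsNormal ((W ↥S).map S.subtype) := by
  have hne : ∀ (R : Type u) [Group R] [Finite R], IsPGroup p R → Nontrivial R →
      (mkFunctor p W hW2).W R ≠ ⊥ := by
    intro R _ _ hR hnt
    rw [mkFunctor_W p W hW2 R hR]
    exact hW1 R hR hnt
  have hG : GlaubermanNormal p (mkFunctor p W hW2) := by
    intro L _ _ P hcen hinv
    have h1 := hW3 L P (inf_eq_right.mpr hcen).symm hinv
    rw [mkFunctor_of p W hW2 (P : Subgroup L) P.isPGroup']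
    exact h1
  have h := main p hS (mkFunctor p W hW2) hne hG F hF hfree
  rwa [mkFunctor_of p W hW2 S hS] at h

end Cfsg.Agent.Lead.KL
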