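import Mathlib
import Cfsg.Agent.Lead.GlThG

set_option autoImplicit false

/-!
Glauberman-Thompson for fusion systems, part H: the statement for `Z(J(S))`.
-/

namespace Cfsg.Agent.Lead.GlTh

open Cfsg Cfsg.FusionSystem Cfsg.Agent.Lead Cfsg.Agent.Helper1 Cfsg.Agent.Helper1.ThompsonRed

universe u

variable {Ω : Type u} [Group Ω] {S : Subgroup Ω}

/-- Glauberman-Thompson for fusion systems, `p` odd. -/
theorem inner_of_np_zj [Finite S] (p : ℕ) [Fact p.Prime] (hp : p ≠ 2) (hS : IsPGroup p S)
    (F : FusionSystem S) (hF : F.IsSaturated p) (h : NP p F (centerThompsonAOf S)) : Inner p F := by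
  apply main_aux p zjFunctor (fun R _ _ hR hnt => zjFunctor_ne_bot R hR hnt) ?_ (Nat.card S) Ω S rfl
    hS F hF
  · rw [zjFunctor_of]
    exact h
  · intro G _ _ P hP
    rw [zjFunctor_of] at hP
    exact glauberman_npc hp G P hP

theorem main [Finite S] (p : ℕ) [Fact p.Prime] (hS : IsPGroup p S) (F : FusionSystem S)
    (hF : F.IsSaturated p) (hp : p ≠ 2) :
    (∀ P : Subgroup Ω, F.Hom P = (innerFusionSystem S).Hom P) ↔
      ∀ N : FusionSystem (normalizerIn S (centerThompsonAOf S)),
        F.IsNormalizerSystem (centerThompsonAOf S) N →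
        ∀ P : Subgroup Ω, N.Hom P =
          (innerFusionSystem (normalizerIn S (centerThompsonAOf S))).Hom P := by
  have hWS : centerThompsonAOf S ≤ S := by
    rw [← zjFunctor_of]
    exact zjFunctor.of_le S
  have hSn : S ≤ Subgroup.normalizer (centerThompsonAOf S : Set Ω) := by
    rw [← zjFunctor_of]
    exact le_normalizer_of zjFunctor S
  have hNW : normalizerIn S (centerThompsonAOf S) = S := le_antisymm inf_le_left (le_inf le_rfl hSn)
  have hfn : F.IsFullyNormalized (centerThompsonAOf S) := by
    refine ⟨hWS, fun U' _ => ?_⟩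
    rw [hNW]
    exact Subgroup.card_le_of_le inf_le_left
  have hRS : normalizerIn S (centerThompsonAOf S) ≤ S := inf_le_left
  haveI : Finite ↥(normalizerIn S (centerThompsonAOf S)) := Fusion.finite_of_le hRS
  have hRp : IsPGroup p ↥(normalizerIn S (centerThompsonAOf S)) := hS.to_le hRS
  constructor
  · intro h N hN
    have h1 : Inner p F := (inner_iff_hom p hS F hF).mpr h
    have h2 : NP p F (centerThompsonAOf S) := np_of_inner h1 _
    have h3 : Inner p N := (np_iff_normalizer_inner F hWS N hN).mp h2
    have hNsat := Fusion.normalizerSystem_isSaturated p hS F hF _ hfn N hN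
    exact (inner_iff_hom p hRp N hNsat).mp h3
  · intro h
    obtain ⟨N, hN⟩ := Cfsg.Agent.S5096.result F (centerThompsonAOf S) hWS
    have hNsat := Fusion.normalizerSystem_isSaturated p hS F hF _ hfn N hN
    have h3 : Inner p N := (inner_iff_hom p hRp N hNsat).mpr (h N hN)
    have h2 : NP p F (centerThompsonAOf S) := (np_iff_normalizer_inner F hWS N hN).mpr h3
    exact (inner_iff_hom p hS F hF).mp (inner_of_np_zj p hp hS F hF h2)

end Cfsg.Agent.Lead.GlTh
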