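import Mathlib
import Cfsg.Prelude.Def_ConjugacyFunctors
import Cfsg.Prelude.Def_PLocal
import Cfsg.Prelude.Def_LocalEven
import Cfsg.Agent.Lead.KInfD
import Cfsg.Agent.Helper1.CritChiefD
import Cfsg.Agent.Helper1.CriticalSubgroup
import Cfsg.Agent.Helper1.Uniserial

/-!
The local Engel element for the K-infinity functors: if `K_∞(T)` (or `K^∞(T)`) is not normal in
`X`, some element of `T` outside `O_p(X)` satisfies `[U, g; 4] ≤ V` for all chief factors `U/V`
of `X` inside `O_p(X)`, and `[Z(O_p(X)), g, g] = 1`.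
-/

set_option autoImplicit false

universe u

namespace Cfsg.Agent.Lead.KInf

open Cfsg Subgroup Cfsg.Agent.Helper1 Cfsg.Agent.Helper1.CritChief

variable {p : ℕ} [Fact p.Prime]

/-- The bound `3` for chief factors inside `A`. -/
theorem chief_three {X : Type*} [Group X] (A : Subgroup X) [A.Normal] (g : X)
    (h1 : ⁅⁅A ⊓ centralizer (A : Set X), zpowers g⁆, zpowers g⁆ = ⊥)
    (h2 : ⁅⁅⁅A, zpowers g⁆, zpowers g⁆, zpowers g⁆ = ⊥ ∨
      ⁅⁅A, zpowers g⁆, zpowers g⁆ ≤ A ⊓ centralizer (A : Set X))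
    (U V : Subgroup X) (hch : Cfsg.IsChiefFactor U V) (hUA : U ≤ A) :
    Cfsg.iterCommutator U (zpowers g) 3 ≤ V := by
  rcases h2 with h2 | h2
  · have h3 : Cfsg.iterCommutator A (zpowers g) 3 = ⊥ := h2
    have := iterCommutator_mono (zpowers g) hUA 3
    rw [h3] at this
    exact this.trans bot_le
  · have hUn : U.Normal := hch.2.1
    have hVn : V.Normal := hch.2.2.1
    have hNn : (A ⊓ centralizer (A : Set X)).Normal := zcent_normal A
    have h4 : Cfsg.iterCommutator U (zpowers g) 2 ≤ V := by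
      rcases chief_dichotomy (N := A ⊓ centralizer (A : Set X)) hch with hd | hd
      · have e : Cfsg.iterCommutator U (zpowers g) 2 =
            Cfsg.iterCommutator (V ⊔ (U ⊓ (A ⊓ centralizer (A : Set X)))) (zpowers g) 2 := by
          rw [hd]
        rw [e]
        refine (iterCommutator_sup_le V _ (zpowers g) 2).trans (sup_le le_rfl ?_)
        have h5 : Cfsg.iterCommutator (U ⊓ (A ⊓ centralizer (A : Set X))) (zpowers g) 2 ≤
            Cfsg.iterCommutator (A ⊓ centralizer (A : Set X)) (zpowers g) 2 :=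
          iterCommutator_mono (zpowers g) inf_le_right 2
        have h6 : Cfsg.iterCommutator (A ⊓ centralizer (A : Set X)) (zpowers g) 2 = ⊥ := h1
        rw [h6] at h5
        exact h5.trans bot_le
      · refine le_trans (le_inf ?_ ?_) hd
        · show ⁅⁅U, zpowers g⁆, zpowers g⁆ ≤ U
          exact (commutator_mono (commutator_le_left U _) le_rfl).trans (commutator_le_left U _)
        · show ⁅⁅U, zpowers g⁆, zpowers g⁆ ≤ _
          exact (commutator_mono (commutator_mono hUA le_rfl) le_rfl).trans h2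
    show ⁅Cfsg.iterCommutator U (zpowers g) 2, zpowers g⁆ ≤ V
    exact (commutator_mono h4 le_rfl).trans (commutator_le_left V _)

/-- The local Engel element. -/
theorem engel_four (W : ∀ (Q : Type u) [Group Q], Subgroup Q)
    (hW : Cfsg.IsCharPFunctor.{u} p W) (hWs : SubDetermined.{u} p W)
    {X : Type u} [Group X] [Finite X] (T : Sylow p X)
    (hnn : ¬ (Cfsg.inducedFunctor (G := X) W (T : Subgroup X)).Normal) :
    ∃ g : X, g ∈ (T : Subgroup X) ∧ g ∉ Cfsg.pCore p X ∧
      (∀ U V : Subgroup X, Cfsg.IsChiefFactor U V → U ≤ Cfsg.pCore p X →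
        Cfsg.iterCommutator U (zpowers g) 4 ≤ V) ∧
      ⁅⁅Cfsg.pCore p X ⊓ centralizer ((Cfsg.pCore p X : Subgroup X) : Set X), zpowers g⁆,
        zpowers g⁆ = ⊥ := by
  obtain ⟨Q, hQ⟩ : ∃ Q, Q = Cfsg.pCore p X := ⟨_, rfl⟩
  rw [← hQ]
  have hQn : Q.Normal := hQ ▸ (inferInstance : (Cfsg.pCore p X).Normal)
  have hQp : IsPGroup p ↥Q := hQ ▸ pCore_isPGroup p
  have hQT : Q ≤ (T : Subgroup X) := hQ ▸ pCore_le_sylow T
  obtain ⟨C, hCchar, -, hC3, hC4⟩ := exists_critical_subgroup (P := ↥Q) hQp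
  obtain ⟨A, hA⟩ : ∃ A, A = C.map Q.subtype := ⟨_, rfl⟩
  have hinj : Function.Injective Q.subtype := Q.subtype_injective
  have hAQ : A ≤ Q := hA ▸ map_subtype_le C
  have hAsub : A.subgroupOf Q = C := by
    rw [hA]
    exact comap_map_eq_self_of_injective hinj C
  have hAchar : (A.subgroupOf Q).Characteristic := by
    rw [hAsub]
    exact hCchar
  have hAn : A.Normal := by
    have h1 := ConjAct.normal_of_characteristic_of_normal (H := Q) (K := A.subgroupOf Q)
    rwa [map_subgroupOf_eq_of_le hAQ] at h1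
  have hZ : (C ⊓ centralizer (C : Set ↥Q)).map Q.subtype = A ⊓ centralizer (A : Set X) := by
    rw [Cfsg.Agent.Helper5.KS.map_Z Q.subtype hinj C, hA]
  have hQA : ⁅Q, A⁆ ≤ A ⊓ centralizer (A : Set X) := by
    have := Subgroup.map_mono (f := Q.subtype) hC3
    rw [map_commutator, hZ, ← MonoidHom.range_eq_map, Q.range_subtype, ← hA] at this
    rwa [commutator_comm]
  have hQ4 : Q ⊓ centralizer (A : Set X) = A ⊓ centralizer (A : Set X) := by
    apply le_antisymm
    · intro x hx
      obtain ⟨hxQ, hxc⟩ := mem_inf.mp hx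
      have hcen : (⟨x, hxQ⟩ : ↥Q) ∈ centralizer (C : Set ↥Q) := by
        rw [mem_centralizer_iff]
        intro c hc
        apply Subtype.ext
        have hcA : (c : X) ∈ A := by
          rw [hA]
          exact ⟨c, hc, rfl⟩
        exact (mem_centralizer_iff.mp hxc) (c : X) hcA
      refine mem_inf.mpr ⟨?_, hxc⟩
      rw [hA]
      exact ⟨⟨x, hxQ⟩, hC4 hcen, rfl⟩
    · exact inf_le_inf_right _ hAQ
  have hA2 : ⁅A, A⁆ ≤ centralizer (A : Set X) :=
    (commutator_mono hAQ le_rfl).trans (hQA.trans inf_le_right)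
  have hnn' : ¬ (⊤ : Subgroup X) ≤
      normalizer ((Cfsg.inducedFunctor W (T : Subgroup X) : Subgroup X) : Set X) := by
    intro h
    apply hnn
    exact normalizer_eq_top_iff.mp (top_le_iff.mp h)
  have hQtop : (⊤ : Subgroup X) ≤ normalizer (Q : Set X) := by
    rw [normalizer_eq_top]
  have hAnT : (T : Subgroup X) ≤ normalizer (A : Set X) := by
    rw [normalizer_eq_top]
    exact le_top
  obtain ⟨g, hgT, hgQ, h1, h2⟩ := exists_quadratic_ext W hW hWs T.isPGroup' hQT hQtop
    (hAQ.trans hQT) hAnT hA2 hQA hnn'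
  refine ⟨g, hgT, hgQ, ?_, ?_⟩
  · have hQi := chief_three A g h1 h2
    have hZj : ∀ U V : Subgroup X, Cfsg.IsChiefFactor U V →
        U ≤ A ⊓ centralizer (A : Set X) → Cfsg.iterCommutator U (zpowers g) 2 ≤ V := by
      intro U V _ hU
      have h5 := iterCommutator_mono (zpowers g) hU 2
      have h6 : Cfsg.iterCommutator (A ⊓ centralizer (A : Set X)) (zpowers g) 2 = ⊥ := h1
      rw [h6] at h5
      exact h5.trans bot_le
    exact crit_chief Q hQp A hAQ hAchar hQA hQ4 g 3 2 (by norm_num) (by norm_num) hQi hZj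
  · apply le_bot_iff.mp
    rw [← h1]
    refine commutator_mono (commutator_mono ?_ le_rfl) le_rfl
    rw [← hQ4]
    exact inf_le_inf_left _ (centralizer_le hAQ)

/-- The hypothesis of the local-to-global theorem for control of transfer. -/
theorem hloc_engel (hp : 5 ≤ p) (W : ∀ (Q : Type u) [Group Q], Subgroup Q)
    (hW : Cfsg.IsCharPFunctor.{u} p W) (hWs : SubDetermined.{u} p W)
    {X : Type u} [Group X] [Finite X] (T : Sylow p X)
    (hnn : ¬ (Cfsg.inducedFunctor (G := X) W (T : Subgroup X)).Normal) :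
    ∃ g : X, g ∈ (T : Subgroup X) ∧ g ∉ Cfsg.pCore p X ∧
      ∀ U V : Subgroup X, Cfsg.IsChiefFactor U V → U ≤ Cfsg.pCore p X →
        Cfsg.iterCommutator U (zpowers g) (p - 1) ≤ V := by
  obtain ⟨g, hgT, hgQ, h4, -⟩ := engel_four W hW hWs T hnn
  refine ⟨g, hgT, hgQ, ?_⟩
  intro U V hch hU
  have hUn : U.Normal := hch.2.1
  have hgU : zpowers g ≤ normalizer (U : Set X) := by
    rw [normalizer_eq_top]
    exact le_top
  have h5 : 4 ≤ p - 1 := by omega
  exact (iterCommutator_antitone U (zpowers g) hgU h5).trans (h4 U V hch hU)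

end Cfsg.Agent.Lead.KInf
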