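import Mathlib
import Cfsg.Prelude.Def_ConjugacyFunctors
import Cfsg.Agent.Lead.KInfF
import Cfsg.Agent.Lead.ConjFunctorTransfer
import Cfsg.Agent.S1972
import Cfsg.Agent.S1971

/-!
The K-infinity functors control transfer for `p ≥ 5`.
-/

set_option autoImplicit false

universe u

namespace Cfsg.Agent.Lead.KInf

open Cfsg Subgroup

variable {p : ℕ} [Fact p.Prime]

theorem controlsTransfer_sections (hp : 5 ≤ p) (W : ∀ (Q : Type u) [Group Q], Subgroup Q)
    (hW : Cfsg.IsCharPFunctor.{u} p W) (hWs : SubDetermined.{u} p W)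
    {G : Type u} [Group G] [Finite G] :
    ∀ (K R : Subgroup G) [hR : (R.subgroupOf K).Normal],
      Cfsg.ControlsTransferIn p (Cfsg.inducedFunctor (G := (↥K ⧸ R.subgroupOf K)) W) ⊤ :=
  Cfsg.Agent.S1972.result W hW (fun _ _ _ _ T hnn => hloc_engel hp W hW hWs T hnn)

theorem controlsTransfer_top (hp : 5 ≤ p) (W : ∀ (Q : Type u) [Group Q], Subgroup Q)
    (hW : Cfsg.IsCharPFunctor.{u} p W) (hWs : SubDetermined.{u} p W)
    {G : Type u} [Group G] [Finite G] :
    Cfsg.ControlsTransferIn p (Cfsg.inducedFunctor (G := G) W) ⊤ :=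
  (Cfsg.Agent.Helper5.TF.ctSec_of_hctl hW (controlsTransfer_sections hp W hW hWs)).self

theorem exists_normal_index_p (hp : 5 ≤ p) (W : ∀ (Q : Type u) [Group Q], Subgroup Q)
    (hW : Cfsg.IsCharPFunctor.{u} p W) (hWs : SubDetermined.{u} p W)
    {G : Type u} [Group G] [Finite G] (S : Sylow p G) (hS : (S : Subgroup G) ≠ ⊥)
    (hN : ∀ g ∈ Subgroup.normalizer (((S : Subgroup G) : Subgroup G) : Set G),
      (orderOf g).Coprime p → g ∈ Subgroup.centralizer (((S : Subgroup G) : Subgroup G) : Set G)) :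
    ∃ N : Subgroup G, N.Normal ∧ N.index = p :=
  Cfsg.Agent.S1971.result W hW (controlsTransfer_sections hp W hW hWs) S hS hN

/-- Control of transfer at a given Sylow subgroup, in the commutator-subgroup form. -/
theorem transfer_at_sylow (hp : 5 ≤ p) (W : ∀ (Q : Type u) [Group Q], Subgroup Q)
    (hW : Cfsg.IsCharPFunctor.{u} p W) (hWs : SubDetermined.{u} p W)
    {G : Type u} [Group G] [Finite G] (S : Sylow p G) :
    (S : Subgroup G) ⊓ commutator G = (S : Subgroup G) ⊓
      ⁅Subgroup.normalizer ((Cfsg.inducedFunctor W (S : Subgroup G) : Subgroup G) : Set G),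
        Subgroup.normalizer ((Cfsg.inducedFunctor W (S : Subgroup G) : Subgroup G) : Set G)⁆ := by
  have h1 := controlsTransfer_top hp W hW hWs (G := G)
  have hidx : ¬ p ∣ (S : Subgroup G).relIndex ⊤ := by
    rw [relIndex_top_right]
    exact S.not_dvd_index
  have h2 := Cfsg.Agent.Lead.controlsTransferIn_sylow
    (Cfsg.Agent.Helper1.FT.isConjugacyFunctor_induced W hW) h1 le_top S.isPGroup' hidx
  rw [top_inf_eq] at h2
  rw [commutator_def]
  exact h2

end Cfsg.Agent.Lead.KInf
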