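import Mathlib
import Cfsg.Agent.Helper6.KuDefs

set_option autoImplicit false

/-!
# S4607, piece K1: in a symmetric algebra the centre is the orthogonal of the commutator space
-/

namespace Cfsg.Agent.Helper6.Ku

variable {F : Type*} [Field F] {A : Type*} [Ring A] [Algebra F A]

/-- the bilinear form `(a, b) ↦ lam (a * b)` -/
noncomputable def ld_form (lam : A →ₗ[F] F) : LinearMap.BilinForm F A :=
  (LinearMap.mul F A).compr₂ lam

theorem ld_form_apply (lam : A →ₗ[F] F) (a b : A) : ld_form lam a b = lam (a * b) := rfl

theorem ld_form_ker (lam : A →ₗ[F] F) (hlam : IsSymForm F lam) :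
    LinearMap.ker (ld_form lam) = ⊥ := by
  rw [eq_bot_iff]
  intro a ha
  rw [LinearMap.mem_ker] at ha
  rw [Submodule.mem_bot]
  apply hlam.nondeg
  intro b
  have := congrArg (fun f : A →ₗ[F] F => f b) ha
  simpa [ld_form_apply] using this

theorem ld_orthogonal_commSpan (lam : A →ₗ[F] F) (hlam : IsSymForm F lam) :
    (ld_form lam).orthogonal (commSpan F A) = Subalgebra.toSubmodule (Subalgebra.center F A) := by
  ext z
  rw [LinearMap.BilinForm.mem_orthogonal_iff, Subalgebra.mem_toSubmodule, Subalgebra.mem_center_iff]
  constructor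
  · intro h b
    -- show b * z = z * b
    have hz : ∀ a : A, lam ((b * z - z * b) * a) = 0 := by
      intro a
      have h1 : a * b - b * a ∈ commSpan F A := Submodule.subset_span ⟨a, b, rfl⟩
      have h2 := h _ h1
      rw [ld_form_apply] at h2
      have h3 : lam ((a * b - b * a) * z) = lam (a * (b * z)) - lam (b * (a * z)) := by
        rw [sub_mul, map_sub, mul_assoc, mul_assoc]
      have h4 : lam (b * (a * z)) = lam (a * (z * b)) := by
        rw [hlam.symm b (a * z), mul_assoc]
      rw [h3, h4, ← map_sub, ← mul_sub] at h2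
      rw [hlam.symm]
      exact h2
    have := hlam.nondeg _ hz
    exact sub_eq_zero.mp this
  · intro hz n hn
    rw [ld_form_apply]
    refine Submodule.span_induction (p := fun n _ => lam (n * z) = 0) ?_ ?_ ?_ ?_ hn
    · rintro x ⟨a, b, rfl⟩
      have h3 : lam ((a * b - b * a) * z) = lam (a * (b * z)) - lam (b * (a * z)) := by
        rw [sub_mul, map_sub, mul_assoc, mul_assoc]
      have h4 : lam (b * (a * z)) = lam (a * (z * b)) := by
        rw [hlam.symm b (a * z), mul_assoc]
      rw [h3, h4, hz b, sub_self]
    · simp
    · intro x y _ _ hx hy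
      rw [add_mul, map_add, hx, hy, add_zero]
    · intro c x _ hx
      rw [smul_mul_assoc, map_smul, hx, smul_zero]

theorem finrank_center_add_commSpan [FiniteDimensional F A] (lam : A →ₗ[F] F)
    (hlam : IsSymForm F lam) :
    Module.finrank F (Subalgebra.center F A) + Module.finrank F (commSpan F A) =
      Module.finrank F A := by
  have h := LinearMap.BilinForm.finrank_add_finrank_orthogonal' (B := ld_form lam) (commSpan F A)
  have hk : (ld_form lam).ker = ⊥ := ld_form_ker lam hlam
  rw [hk, inf_bot_eq, finrank_bot, add_zero, ld_orthogonal_commSpan lam hlam] at h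
  have h2 : Module.finrank F (Subalgebra.center F A) =
      Module.finrank F (Subalgebra.toSubmodule (Subalgebra.center F A)) := rfl
  rw [h2, add_comm]
  exact h

end Cfsg.Agent.Helper6.Ku
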