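import Mathlib
import Cfsg.Agent.Lead.AlperinTame2

set_option autoImplicit false

namespace Cfsg.Agent.Lead.Alp

open Cfsg Cfsg.Agent.Lead
open scoped commutatorElement

variable {G : Type*} [Group G]

/-- Telescoping commutators along a chain. -/
theorem chain_comm_mem {R : Subgroup G → G → Prop} (W : Subgroup G)
    (hstep : ∀ T y, R T y → ∀ a ∈ T, a⁻¹ * (y⁻¹ * a * y) ∈ W)
    {A : Set G} {g : G} (h : RChain R A g) : ∀ a ∈ A, a⁻¹ * (g⁻¹ * a * g) ∈ W := by
  induction h with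
  | nil A => intro a _; simp
  | cons A T x g hR hAT _ ih =>
    intro a ha
    have h1 := hstep T x hR a (hAT ha)
    have h2 := ih (x⁻¹ * a * x) ⟨a, ha, rfl⟩
    have : a⁻¹ * ((x * g)⁻¹ * a * (x * g)) =
        (a⁻¹ * (x⁻¹ * a * x)) * ((x⁻¹ * a * x)⁻¹ * (g⁻¹ * (x⁻¹ * a * x) * g)) := by group
    rw [this]
    exact W.mul_mem h1 h2

variable [Finite G] {p : ℕ} [Fact p.Prime]

/-- `S4250`. -/
theorem focal_tame (P : Sylow p G) :
    (P : Subgroup G) ⊓ commutator G =
      ⁅(P : Subgroup G), Subgroup.normalizer ((P : Subgroup G) : Set G)⁆ ⊔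
        ⨆ (Q : Sylow p G) (_ : (¬ p ∣ ((P : Subgroup G) ⊓ Subgroup.normalizer (((P : Subgroup G) ⊓ (Q : Subgroup G) : Subgroup G) : Set G)).relIndex (Subgroup.normalizer (((P : Subgroup G) ⊓ (Q : Subgroup G) : Subgroup G) : Set G)) ∧ ¬ p ∣ ((Q : Subgroup G) ⊓ Subgroup.normalizer (((P : Subgroup G) ⊓ (Q : Subgroup G) : Subgroup G) : Set G)).relIndex (Subgroup.normalizer (((P : Subgroup G) ⊓ (Q : Subgroup G) : Subgroup G) : Set G))))
          (x : G) (_ : x ∈ Subgroup.normalizer (((P : Subgroup G) ⊓ (Q : Subgroup G) : Subgroup G) : Set G) ∧ ∃ k : ℕ, orderOf x = p ^ k),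
          ⁅(P : Subgroup G) ⊓ (Q : Subgroup G), Subgroup.zpowers x⁆ := by
  obtain ⟨W, hW⟩ : ∃ W : Subgroup G, W =
      ⁅(P : Subgroup G), Subgroup.normalizer ((P : Subgroup G) : Set G)⁆ ⊔
        ⨆ (Q : Sylow p G) (_ : (¬ p ∣ ((P : Subgroup G) ⊓ Subgroup.normalizer (((P : Subgroup G) ⊓ (Q : Subgroup G) : Subgroup G) : Set G)).relIndex (Subgroup.normalizer (((P : Subgroup G) ⊓ (Q : Subgroup G) : Subgroup G) : Set G)) ∧ ¬ p ∣ ((Q : Subgroup G) ⊓ Subgroup.normalizer (((P : Subgroup G) ⊓ (Q : Subgroup G) : Subgroup G) : Set G)).relIndex (Subgroup.normalizer (((P : Subgroup G) ⊓ (Q : Subgroup G) : Subgroup G) : Set G))))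
          (x : G) (_ : x ∈ Subgroup.normalizer (((P : Subgroup G) ⊓ (Q : Subgroup G) : Subgroup G) : Set G) ∧ ∃ k : ℕ, orderOf x = p ^ k),
          ⁅(P : Subgroup G) ⊓ (Q : Subgroup G), Subgroup.zpowers x⁆ := ⟨_, rfl⟩
  rw [← hW]
  apply le_antisymm
  · rw [inf_comm, Subgroup.commutator_inf_eq_focalSubgroup P, Subgroup.focalSubgroup_def,
      Subgroup.closure_le]
    rintro gg ⟨hggP, x, hxP, u, rfl⟩
    -- `u x⁻¹ u⁻¹ ∈ P`
    have h1 : u * x⁻¹ * u⁻¹ ∈ (P : Subgroup G) := by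
      have := (P : Subgroup G).mul_mem ((P : Subgroup G).inv_mem hxP) hggP
      have e : x⁻¹ * ⁅x, u⁆ = u * x⁻¹ * u⁻¹ := by
        rw [commutatorElement_def]; group
      rwa [e] at this
    have hA : ({x⁻¹} : Set G) ⊆ ((P : Subgroup G) : Set G) := by
      rintro _ rfl
      exact (P : Subgroup G).inv_mem hxP
    have hAg : conjR u⁻¹ ({x⁻¹} : Set G) ⊆ ((P : Subgroup G) : Set G) := by
      rintro _ ⟨_, rfl, rfl⟩
      show u⁻¹⁻¹ * x⁻¹ * u⁻¹ ∈ (P : Subgroup G)
      rw [inv_inv]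
      exact h1
    have hchain := alperin_chain P.2 P.card_eq_multiplicity ({x⁻¹} : Set G) u⁻¹ hA hAg
    have hstep : ∀ T y, StepRel p (P : Subgroup G) T y → ∀ a ∈ T, a⁻¹ * (y⁻¹ * a * y) ∈ W := by
      rintro T y ⟨Q₁, hQ₁, hQ₁c, hT, hPN, hQN, hyN, hor⟩ a ha
      have e : a⁻¹ * (y⁻¹ * a * y) = ⁅a⁻¹, y⁻¹⁆ := by
        rw [commutatorElement_def]; group
      rw [e, hW]
      rcases hor with hQP | ⟨k, hk⟩
      · apply Subgroup.mem_sup_left
        have hTP : T = (P : Subgroup G) := by rw [hT, hQP, inf_idem]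
        apply Subgroup.commutator_mem_commutator
        · exact (P : Subgroup G).inv_mem (hTP ▸ ha)
        · exact Subgroup.inv_mem _ (hTP ▸ hyN)
      · apply Subgroup.mem_sup_right
        subst hT
        have hmem : ⁅a⁻¹, y⁻¹⁆ ∈ ⁅(P : Subgroup G) ⊓ Q₁, Subgroup.zpowers y⁆ :=
          Subgroup.commutator_mem_commutator (Subgroup.inv_mem _ ha)
            (Subgroup.inv_mem _ (Subgroup.mem_zpowers y))
        have hle : ⁅(P : Subgroup G) ⊓ Q₁, Subgroup.zpowers y⁆ ≤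
            ⨆ (Q : Sylow p G) (_ : (¬ p ∣ ((P : Subgroup G) ⊓ Subgroup.normalizer (((P : Subgroup G) ⊓ (Q : Subgroup G) : Subgroup G) : Set G)).relIndex (Subgroup.normalizer (((P : Subgroup G) ⊓ (Q : Subgroup G) : Subgroup G) : Set G)) ∧ ¬ p ∣ ((Q : Subgroup G) ⊓ Subgroup.normalizer (((P : Subgroup G) ⊓ (Q : Subgroup G) : Subgroup G) : Set G)).relIndex (Subgroup.normalizer (((P : Subgroup G) ⊓ (Q : Subgroup G) : Subgroup G) : Set G))))
              (x : G) (_ : x ∈ Subgroup.normalizer (((P : Subgroup G) ⊓ (Q : Subgroup G) : Subgroup G) : Set G) ∧ ∃ k : ℕ, orderOf x = p ^ k),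
              ⁅(P : Subgroup G) ⊓ (Q : Subgroup G), Subgroup.zpowers x⁆ := by
          refine le_iSup_of_le (Sylow.ofCard Q₁ (hQ₁c.trans P.card_eq_multiplicity)) ?_
          refine le_iSup_of_le ⟨not_dvd_relIndex_of_card_eq_ppart inf_le_right hPN,
            not_dvd_relIndex_of_card_eq_ppart inf_le_right hQN⟩ ?_
          refine le_iSup_of_le y ?_
          exact le_iSup_of_le ⟨hyN, k, hk⟩ le_rfl
        exact hle hmem
    have := chain_comm_mem W hstep hchain x⁻¹ rfl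
    have e : (x⁻¹)⁻¹ * (u⁻¹⁻¹ * x⁻¹ * u⁻¹) = ⁅x, u⁆ := by
      rw [commutatorElement_def]; group
    rwa [e] at this
  · rw [hW]
    apply sup_le
    · apply le_inf
      · rw [Subgroup.commutator_le]
        intro a ha n hn
        have h1 : n * a⁻¹ * n⁻¹ ∈ (P : Subgroup G) :=
          (Subgroup.mem_normalizer_iff.1 hn a⁻¹).1 ((P : Subgroup G).inv_mem ha)
        have e : ⁅a, n⁆ = a * (n * a⁻¹ * n⁻¹) := by
          rw [commutatorElement_def]; group
        rw [e]
        exact (P : Subgroup G).mul_mem ha h1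
      · rw [commutator_def]
        exact Subgroup.commutator_mono le_top le_top
    · apply iSup_le
      intro Q
      apply iSup_le
      intro _
      apply iSup_le
      intro x
      apply iSup_le
      rintro ⟨hx, -⟩
      apply le_inf
      · rw [Subgroup.commutator_le]
        intro a ha n hn
        have hnN : n ∈ Subgroup.normalizer (((P : Subgroup G) ⊓ (Q : Subgroup G) : Subgroup G) : Set G) :=
          (Subgroup.zpowers_le.2 hx) hn
        have h1 : n * a⁻¹ * n⁻¹ ∈ (P : Subgroup G) ⊓ (Q : Subgroup G) :=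
          (Subgroup.mem_normalizer_iff.1 hnN a⁻¹).1 (Subgroup.inv_mem _ ha)
        have e : ⁅a, n⁆ = a * (n * a⁻¹ * n⁻¹) := by
          rw [commutatorElement_def]; group
        rw [e]
        exact (P : Subgroup G).mul_mem (Subgroup.mem_inf.1 ha).1 (Subgroup.mem_inf.1 h1).1
      · rw [commutator_def]
        exact Subgroup.commutator_mono le_top le_top

end Cfsg.Agent.Lead.Alp
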