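import Mathlib
import Cfsg.Agent.Lead.AlperinTame3
import Cfsg.Agent.Lead.SylowLemmas

set_option autoImplicit false

/-! Grün's first theorem, from the tame-intersection form of the focal subgroup theorem. -/

namespace Cfsg.Agent.Lead.GrunFirst

open Cfsg Cfsg.Agent.Lead
open scoped commutatorElement

variable {G : Type*} [Group G] [Finite G] {p : ℕ} [Fact p.Prime]

theorem main (P : Sylow p G) :
    (P : Subgroup G) ⊓ commutator G =
      ((P : Subgroup G) ⊓ ⁅Subgroup.normalizer ((P : Subgroup G) : Set G),
        Subgroup.normalizer ((P : Subgroup G) : Set G)⁆) ⊔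
        ⨆ z : G, (P : Subgroup G) ⊓
          (⁅(P : Subgroup G), (P : Subgroup G)⁆).map (MulAut.conj z).toMonoidHom := by
  apply le_antisymm
  · rw [Alp.focal_tame P]
    apply sup_le
    · refine le_trans ?_ le_sup_left
      apply le_inf
      · rw [Subgroup.commutator_le]
        intro a ha n hn
        rw [commutatorElement_def]
        have h1 := (Subgroup.mem_normalizer_iff.1 hn a⁻¹).1 (inv_mem ha)
        have h2 := (P : Subgroup G).mul_mem ha h1
        have e : a * n * a⁻¹ * n⁻¹ = a * (n * a⁻¹ * n⁻¹) := by group
        rw [e]; exact h2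
      · exact Subgroup.commutator_mono Subgroup.le_normalizer le_rfl
    · apply iSup_le; intro Q
      apply iSup_le; intro _
      apply iSup_le; intro x
      apply iSup_le; rintro ⟨hxN, k, hk⟩
      obtain ⟨H, hH⟩ : ∃ H : Subgroup G, H = (P : Subgroup G) ⊓ (Q : Subgroup G) := ⟨_, rfl⟩
      rw [← hH] at hxN ⊢
      have hHP : H ≤ (P : Subgroup G) := hH ▸ inf_le_left
      have hHp : IsPGroup p ↥H := P.2.to_le hHP
      have hxp : IsPGroup p ↥(Subgroup.zpowers x) := by
        apply IsPGroup.of_card (n := k)
        rw [Nat.card_zpowers, hk]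
      have hzN : Subgroup.zpowers x ≤ Subgroup.normalizer (H : Set G) := by
        rw [Subgroup.zpowers_le]; exact hxN
      have hKp : IsPGroup p ↥(H ⊔ Subgroup.zpowers x) := hHp.to_sup_of_normal_left' hxp hzN
      obtain ⟨g, hg⟩ := exists_conj_le_sylow P (H ⊔ Subgroup.zpowers x) hKp
      refine le_trans ?_ (le_trans (le_iSup _ g⁻¹) le_sup_right)
      apply le_inf
      · refine le_trans ?_ hHP
        rw [Subgroup.commutator_le]
        intro a ha n hn
        rw [commutatorElement_def]
        have h1 := (Subgroup.mem_normalizer_iff.1 (hzN hn) a⁻¹).1 (inv_mem ha)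
        have h2 := H.mul_mem ha h1
        have e : a * n * a⁻¹ * n⁻¹ = a * (n * a⁻¹ * n⁻¹) := by group
        rw [e]; exact h2
      · intro y hy
        have hy' : y ∈ ⁅H ⊔ Subgroup.zpowers x, H ⊔ Subgroup.zpowers x⁆ :=
          Subgroup.commutator_mono le_sup_left le_sup_right hy
        have h3 : (MulAut.conj g).toMonoidHom y ∈
            (⁅H ⊔ Subgroup.zpowers x, H ⊔ Subgroup.zpowers x⁆).map (MulAut.conj g).toMonoidHom :=
          Subgroup.mem_map_of_mem _ hy'
        rw [Subgroup.map_commutator] at h3
        have h4 : (MulAut.conj g).toMonoidHom y ∈ ⁅(P : Subgroup G), (P : Subgroup G)⁆ :=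
          Subgroup.commutator_mono hg hg h3
        refine ⟨_, h4, ?_⟩
        simp [MulAut.conj_apply]
        group
  · apply sup_le
    · apply inf_le_inf le_rfl
      rw [commutator_def]
      exact Subgroup.commutator_mono le_top le_top
    · apply iSup_le
      intro z
      apply inf_le_inf le_rfl
      rintro _ ⟨y, hy, rfl⟩
      have h1 : y ∈ commutator G := by
        rw [commutator_def]
        exact Subgroup.commutator_mono le_top le_top hy
      exact (inferInstance : (commutator G).Normal).conj_mem y h1 z

end Cfsg.Agent.Lead.GrunFirst
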