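import Mathlib
import Cfsg.Agent.S0659
import Cfsg.Agent.Helper1.SylowInt
import Cfsg.Agent.Helper1.MinNonPNilp
import Cfsg.Agent.Lead.AlperinTame
import Cfsg.Agent.Lead.SylowLemmas

set_option autoImplicit false

/-! A finite group with a nilpotent maximal subgroup of odd order is solvable (Thompson). -/

namespace Cfsg.Agent.Lead.NilpMax

open Cfsg Cfsg.Agent.Lead Cfsg.Agent.Helper1 Cfsg.Agent.Helper1.ThompsonRed

universe u

variable {G : Type u} [Group G] [Finite G]

/-- the image of a maximal subgroup in a quotient by a normal subgroup it contains is maximal -/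
theorem isCoatom_map_mk {M N : Subgroup G} [N.Normal] (hM : IsCoatom M) (hNM : N ≤ M) :
    IsCoatom (M.map (QuotientGroup.mk' N)) := by
  have hcm : (M.map (QuotientGroup.mk' N)).comap (QuotientGroup.mk' N) = M := by
    rw [Subgroup.comap_map_eq, QuotientGroup.ker_mk', sup_eq_left.2 hNM]
  constructor
  · intro h
    apply hM.1
    rw [← hcm, h, Subgroup.comap_top]
  · intro K' hK'
    have h1 : M ≤ K'.comap (QuotientGroup.mk' N) := by
      rw [← hcm]; exact Subgroup.comap_mono hK'.le
    rcases hM.le_iff.1 h1 with h2 | h2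
    · rw [← Subgroup.map_comap_eq_self_of_surjective (QuotientGroup.mk'_surjective N) K', h2,
        Subgroup.map_top_of_surjective _ (QuotientGroup.mk'_surjective N)]
    · exfalso
      apply hK'.ne
      rw [← Subgroup.map_comap_eq_self_of_surjective (QuotientGroup.mk'_surjective N) K', h2]

/-- elements of order prime to `p` lie in every normal subgroup of `p`-power index -/
theorem mem_of_index_pow {K : Subgroup G} [K.Normal] {p k r : ℕ} (hp : p.Prime) (hr : r.Prime)
    (hrp : r ≠ p) (hidx : K.index = p ^ k) {x : G} (hx : orderOf x = r) : x ∈ K := by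
  have h1 : x ^ (p ^ k) ∈ K := by rw [← hidx]; exact Subgroup.pow_index_mem K x
  have hcop : Nat.Coprime (p ^ k) r :=
    Nat.Coprime.pow_left _ ((Nat.coprime_primes hp hr).2 (Ne.symm hrp))
  obtain ⟨m, -, hm⟩ := Nat.exists_mul_mod_eq_one_of_coprime hcop hr.one_lt
  have h2 : x = (x ^ (p ^ k)) ^ m := by
    rw [← pow_mul, ← pow_mod_orderOf, hx, hm, pow_one]
  rw [h2]
  exact Subgroup.pow_mem _ h1 m

/-- The key step: for a core-free nilpotent maximal subgroup `M` and an odd prime `p` dividing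
`|M|`, the group has a normal `p`-complement and `p` does not divide the index of `M`. -/
theorem npc_of_prime {M : Subgroup G} (hM : IsCoatom M) (hnil : Group.IsNilpotent M)
    (hcf : ∀ N : Subgroup G, N.Normal → N ≤ M → N = ⊥) {p : ℕ} [hp : Fact p.Prime] (hp2 : p ≠ 2)
    (hpM : p ∣ Nat.card M) :
    Cfsg.HasNormalPComplement p G ∧ ¬ p ∣ M.index := by
  obtain ⟨P₀⟩ : Nonempty (Sylow p M) := inferInstance
  have hall := ((Group.isNilpotent_of_finite_tfae (G := M)).out 0 3).1 hnil
  have hP₀n : (P₀ : Subgroup M).Normal := hall p hp P₀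
  obtain ⟨P, hPdef⟩ : ∃ P : Subgroup G, P = (P₀ : Subgroup M).map M.subtype := ⟨_, rfl⟩
  have hPM : P ≤ M := by
    rw [hPdef]; rintro _ ⟨x, -, rfl⟩; exact x.2
  have hPp : IsPGroup p P := by
    rw [hPdef]; exact P₀.2.map _
  have hPcard : Nat.card P = p ^ (Nat.card M).factorization p := by
    rw [hPdef, Subgroup.card_map_of_injective M.subtype_injective]
    exact P₀.card_eq_multiplicity
  have hPne : P ≠ ⊥ := by
    intro h
    rw [h, Subgroup.card_bot] at hPcard
    have h1 : 0 < (Nat.card M).factorization p :=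
      (hp.out.factorization_pos_of_dvd Nat.card_pos.ne' hpM)
    have h2 : 1 < p ^ (Nat.card M).factorization p :=
      Nat.one_lt_pow h1.ne' hp.out.one_lt
    omega
  -- a normal subgroup of `M`, mapped to `G`, is normalized by `M`
  have hnormM : ∀ (X₀ : Subgroup M), X₀.Normal →
      M ≤ Subgroup.normalizer ((X₀.map M.subtype : Subgroup G) : Set G) := by
    intro X₀ hX₀ g hg
    rw [Subgroup.mem_normalizer_iff]
    intro y
    constructor
    · rintro ⟨y₀, hy₀, rfl⟩
      exact ⟨⟨g, hg⟩ * y₀ * ⟨g, hg⟩⁻¹, hX₀.conj_mem y₀ hy₀ _, rfl⟩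
    · rintro ⟨z₀, hz₀, hz⟩
      have h1 := hX₀.conj_mem z₀ hz₀ ⟨g, hg⟩⁻¹
      refine ⟨⟨g, hg⟩⁻¹ * z₀ * ⟨g, hg⟩⁻¹⁻¹, h1, ?_⟩
      have : M.subtype (⟨g, hg⟩⁻¹ * z₀ * ⟨g, hg⟩⁻¹⁻¹) = g⁻¹ * (z₀ : G) * g := by simp
      rw [this]
      have hz' : (z₀ : G) = g * y * g⁻¹ := hz
      rw [hz']; group
  -- subgroups `X` with `⊥ ≠ X ≤ M`, normalized by `M`, have normalizer `M`
  have hnormEq : ∀ X : Subgroup G, X ≠ ⊥ → X ≤ M → M ≤ Subgroup.normalizer (X : Set G) →
      Subgroup.normalizer (X : Set G) = M := by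
    intro X hX hXM hMX
    rcases hM.le_iff.1 hMX with h | h
    · exfalso
      apply hX
      apply hcf X _ hXM
      exact Subgroup.normalizer_eq_top_iff.1 h
    · exact h
  have hNP : Subgroup.normalizer (P : Set G) = M := by
    apply hnormEq P hPne hPM
    rw [hPdef]; exact hnormM _ hP₀n
  -- `P` is a Sylow subgroup of `G`
  obtain ⟨Q, hPQ⟩ := hPp.exists_le_sylow
  have hQeq : (Q : Subgroup G) = P := by
    by_contra hne
    have h1 := Alp.card_lt_inf_normalizer Q.2 hPQ (Ne.symm hne)
    have h2 : ((Q : Subgroup G) ⊓ Subgroup.normalizer (P : Set G) : Subgroup G) ≤ M := by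
      rw [hNP]; exact inf_le_right
    have h3 : IsPGroup p ((Q : Subgroup G) ⊓ Subgroup.normalizer (P : Set G) : Subgroup G) :=
      Q.2.to_le inf_le_left
    have h4 := card_le_ppart_of_isPGroup h3 h2
    rw [← hPcard] at h4
    omega
  -- index
  have hidx : ¬ p ∣ M.index := by
    intro hd
    have h1 : M.index ∣ (Q : Subgroup G).index := by
      rw [hQeq]; exact Subgroup.index_dvd_of_le hPM
    exact Q.not_dvd_index (hd.trans h1)
  refine ⟨?_, hidx⟩
  -- Z(J(P))
  have hQne : (Q : Subgroup G) ≠ ⊥ := by rw [hQeq]; exact hPne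
  have hZJne : Cfsg.centerThompsonAOf (Q : Subgroup G) ≠ ⊥ := by
    rw [← zjFunctor_of]
    exact of_ne_bot (p := p) zjFunctor (fun R _ _ => zjFunctor_ne_bot R) Q.2 hQne
  have hZJle : Cfsg.centerThompsonAOf (Q : Subgroup G) ≤ M := by
    rw [← zjFunctor_of]
    exact le_trans (zjFunctor.of_le _) (by rw [hQeq]; exact hPM)
  have hZJnorm : M ≤ Subgroup.normalizer (Cfsg.centerThompsonAOf (Q : Subgroup G) : Set G) := by
    rw [← zjFunctor_of]
    refine le_trans ?_ (zjFunctor.normalizer_le _)
    rw [hQeq, hNP]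
  have hNZJ := hnormEq _ hZJne hZJle hZJnorm
  apply Cfsg.Agent.S0659.result hp2 Q
  have : Group.IsNilpotent
      ↥(Subgroup.normalizer (Cfsg.centerThompsonAOf (Q : Subgroup G) : Set G)) := by
    rw [hNZJ]; exact hnil
  exact hasNormalPComplement_of_isNilpotent this p

/-- the core-free case -/
theorem solvable_of_corefree {M : Subgroup G} (hM : IsCoatom M) (hnil : Group.IsNilpotent M)
    (hodd : Odd (Nat.card M)) (hcf : ∀ N : Subgroup G, N.Normal → N ≤ M → N = ⊥) :
    Group.IsSolvable G := by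
  have hMsolv : Group.IsSolvable M := by
    haveI := hnil
    infer_instance
  by_cases hMbot : M = ⊥
  · -- `G` is cyclic of prime order
    have hcomm : ∀ x y : G, x * y = y * x := by
      intro x y
      by_cases hx : x = 1
      · rw [hx, one_mul, mul_one]
      · have h1 : M < Subgroup.zpowers x := by
          rw [hMbot, bot_lt_iff_ne_bot]
          intro h
          exact hx (Subgroup.zpowers_eq_bot.1 h)
        have h2 : Subgroup.zpowers x = ⊤ := hM.2 _ h1
        have hy : y ∈ Subgroup.zpowers x := by rw [h2]; exact Subgroup.mem_top y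
        obtain ⟨i, rfl⟩ := Subgroup.mem_zpowers_iff.1 hy
        exact ((Commute.refl x).zpow_right i).eq
    exact Group.isSolvable_of_comm hcomm
  set π := (Nat.card M).primeFactors with hπ
  have hex : ∀ p ∈ π, ∃ K : Subgroup G, K.Normal ∧ (Nat.card K).Coprime p ∧ ∃ k : ℕ, K.index = p ^ k := by
    intro p hp
    haveI : Fact p.Prime := ⟨Nat.prime_of_mem_primeFactors hp⟩
    have hpM : p ∣ Nat.card M := Nat.dvd_of_mem_primeFactors hp
    have hp2 : p ≠ 2 := by
      rintro rfl
      exact (Nat.not_even_iff_odd.2 hodd) (even_iff_two_dvd.2 hpM)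
    exact hasNormalPComplement_iff_exists.1 (npc_of_prime hM hnil hcf hp2 hpM).1
  choose! Kf hKf using hex
  obtain ⟨L, hLdef⟩ : ∃ L : Subgroup G, L = ⨅ p : π, Kf p.1 := ⟨_, rfl⟩
  have hLn : L.Normal := by
    rw [hLdef]
    exact Subgroup.normal_iInf_normal (fun p => (hKf p.1 p.2).1)
  have hLle : ∀ p ∈ π, L ≤ Kf p := by
    intro p hp
    rw [hLdef]
    exact iInf_le (fun p : π => Kf p.1) ⟨p, hp⟩
  have hcop : Nat.Coprime (Nat.card M) (Nat.card L) := by
    apply Nat.coprime_of_dvd
    intro p hp hpM hpL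
    have hpπ : p ∈ π := by
      rw [hπ, Nat.mem_primeFactors]
      exact ⟨hp, hpM, Nat.card_pos.ne'⟩
    have h1 : Nat.card L ∣ Nat.card (Kf p) := Subgroup.card_dvd_of_le (hLle p hpπ)
    have h2 := (hKf p hpπ).2.1
    have h3 : p ∣ Nat.card (Kf p) := hpL.trans h1
    exact hp.one_lt.ne' (Nat.dvd_one.1 (by rw [← h2.gcd_eq_one]; exact Nat.dvd_gcd h3 (dvd_refl p)))
  have hML : M ⊓ L = ⊥ := (Subgroup.disjoint_of_coprime_natCard hcop).eq_bot
  -- an element of prime order outside `M`, in `L`
  have hidx1 : M.index ≠ 1 := fun h => hM.1 (Subgroup.index_eq_one.1 h)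
  obtain ⟨r, hr, hrd⟩ := Nat.exists_prime_and_dvd hidx1
  haveI : Fact r.Prime := ⟨hr⟩
  have hrπ : r ∉ π := by
    intro hrπ
    have hrM : r ∣ Nat.card M := Nat.dvd_of_mem_primeFactors hrπ
    have hr2 : r ≠ 2 := by
      rintro rfl
      exact (Nat.not_even_iff_odd.2 hodd) (even_iff_two_dvd.2 hrM)
    exact (npc_of_prime hM hnil hcf hr2 hrM).2 hrd
  have hrG : r ∣ Nat.card G := hrd.trans (Subgroup.index_dvd_card M)
  obtain ⟨x, hx⟩ := exists_prime_orderOf_dvd_card' r hrG
  have hxL : x ∈ L := by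
    rw [hLdef, Subgroup.mem_iInf]
    rintro ⟨p, hp⟩
    haveI := (hKf p hp).1
    obtain ⟨k, hk⟩ := (hKf p hp).2.2
    have hrp : r ≠ p := by
      rintro rfl
      exact hrπ hp
    exact mem_of_index_pow (Nat.prime_of_mem_primeFactors hp) hr hrp hk hx
  have hx1 : x ≠ 1 := by
    intro h
    rw [h, orderOf_one] at hx
    exact hr.one_lt.ne hx
  have hLbot : L ≠ ⊥ := by
    intro h
    rw [h, Subgroup.mem_bot] at hxL
    exact hx1 hxL
  -- an `M`-invariant Sylow subgroup of `L`
  obtain ⟨q, hq, hqd⟩ := Nat.exists_prime_and_dvd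
    (fun h => hLbot (Subgroup.card_eq_one.1 h) : Nat.card L ≠ 1)
  haveI : Fact q.Prime := ⟨hq⟩
  have hMNL : M ≤ Subgroup.normalizer (L : Set G) := by
    rw [Subgroup.normalizer_eq_top_iff.2 hLn]; exact le_top
  obtain ⟨R, hR⟩ := exists_invariant_sylow (p := q) M L hMNL hcop (Or.inl hMsolv)
  obtain ⟨R', hR'def⟩ : ∃ R' : Subgroup G, R' = (R : Subgroup L).map L.subtype := ⟨_, rfl⟩
  rw [← hR'def] at hR
  have hR'L : R' ≤ L := by
    rw [hR'def]; rintro _ ⟨y, -, rfl⟩; exact y.2
  have hR'ne : R' ≠ ⊥ := by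
    intro h
    have h1 : Nat.card R' = q ^ (Nat.card L).factorization q := by
      rw [hR'def, Subgroup.card_map_of_injective L.subtype_injective]
      exact R.card_eq_multiplicity
    rw [h, Subgroup.card_bot] at h1
    have h2 : 0 < (Nat.card L).factorization q :=
      hq.factorization_pos_of_dvd Nat.card_pos.ne' hqd
    have h3 : 1 < q ^ (Nat.card L).factorization q := Nat.one_lt_pow h2.ne' hq.one_lt
    omega
  have hsup : M ⊔ R' = ⊤ := by
    apply hM.2
    rw [lt_iff_le_and_ne]
    refine ⟨le_sup_left, fun h => hR'ne ?_⟩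
    have h1 : R' ≤ M := by rw [h]; exact le_sup_right
    rw [eq_bot_iff, ← hML]
    exact le_inf h1 hR'L
  have hLR : L ≤ R' := by
    intro y hy
    have hy' : y ∈ ((M ⊔ R' : Subgroup G) : Set G) := by rw [hsup]; exact Set.mem_univ y
    rw [Subgroup.coe_mul_of_left_le_normalizer_right M R' hR] at hy'
    obtain ⟨m, hm, z, hz, rfl⟩ := Set.mem_mul.1 hy'
    have hmL : m ∈ L := by
      have : m = (m * z) * z⁻¹ := by group
      rw [this]
      exact Subgroup.mul_mem _ hy (Subgroup.inv_mem _ (hR'L hz))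
    have hm1 : m = 1 := by
      have : m ∈ M ⊓ L := ⟨hm, hmL⟩
      rw [hML, Subgroup.mem_bot] at this
      exact this
    rw [hm1, one_mul]; exact hz
  have hLp : IsPGroup q L := by
    intro y
    have hyR : (y : G) ∈ R' := hLR y.2
    rw [hR'def] at hyR
    obtain ⟨y', hy', hyy⟩ := hyR
    have : y' = y := Subtype.ext hyy
    rw [this] at hy'
    obtain ⟨k, hk⟩ := R.2 ⟨y, hy'⟩
    refine ⟨k, ?_⟩
    have := congrArg Subtype.val hk
    simpa using this
  have hLsolv : Group.IsSolvable L := by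
    haveI := hLp.isNilpotent
    infer_instance
  -- `G / L` is a quotient of `M`
  have hsupL : M ⊔ L = ⊤ := by
    apply hM.2
    rw [lt_iff_le_and_ne]
    refine ⟨le_sup_left, fun h => hLbot ?_⟩
    have h1 : L ≤ M := by rw [h]; exact le_sup_right
    exact hcf L hLn h1
  have hsurj : Function.Surjective ((QuotientGroup.mk' L).comp M.subtype) := by
    intro y
    obtain ⟨g, rfl⟩ := QuotientGroup.mk'_surjective L y
    have hg : g ∈ ((M ⊔ L : Subgroup G) : Set G) := by rw [hsupL]; exact Set.mem_univ g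
    rw [Subgroup.mul_normal M L] at hg
    obtain ⟨m, hm, l, hl, rfl⟩ := Set.mem_mul.1 hg
    refine ⟨⟨m, hm⟩, ?_⟩
    change (QuotientGroup.mk' L) m = (QuotientGroup.mk' L) (m * l)
    rw [map_mul]
    have : (QuotientGroup.mk' L) l = 1 := by
      rw [← MonoidHom.mem_ker, QuotientGroup.ker_mk']; exact hl
    rw [this, mul_one]
  have hQsolv : Group.IsSolvable (G ⧸ L) := Group.isSolvable_of_surjective hsurj
  exact Group.isSolvable_of_ker_le_range L.subtype (QuotientGroup.mk' L) (by
    rw [QuotientGroup.ker_mk', Subgroup.range_subtype])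

/-- Thompson: a finite group with a nilpotent maximal subgroup of odd order is solvable. -/
theorem main_aux : ∀ (n : ℕ) (G : Type u) [Group G] [Finite G], Nat.card G = n →
    ∀ M : Subgroup G, IsCoatom M → Group.IsNilpotent M → Odd (Nat.card M) → Group.IsSolvable G := by
  intro n
  induction n using Nat.strong_induction_on with
  | _ n ih =>
  intro G _ _ hn M hM hnil hodd
  by_cases hcore : ∃ N : Subgroup G, N.Normal ∧ N ≤ M ∧ N ≠ ⊥
  · obtain ⟨N, hNn, hNM, hNne⟩ := hcore
    have hMsolv : Group.IsSolvable M := by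
      haveI := hnil
      infer_instance
    have hNsolv : Group.IsSolvable N :=
      Group.isSolvable_of_isSolvable_injective (Subgroup.inclusion_injective hNM)
    have hlt : Nat.card (G ⧸ N) < n := by
      rw [← hn, ← Subgroup.index_eq_card, ← N.card_mul_index]
      have h1 : 1 < Nat.card N := by
        rw [Subgroup.one_lt_card_iff_ne_bot]; exact hNne
      have h2 : 0 < N.index := Nat.pos_of_ne_zero Subgroup.index_ne_zero_of_finite
      nlinarith
    have hM' := isCoatom_map_mk hM hNM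
    have hnil' : Group.IsNilpotent (M.map (QuotientGroup.mk' N)) :=
      Group.nilpotent_of_surjective ((QuotientGroup.mk' N).subgroupMap M)
        ((QuotientGroup.mk' N).subgroupMap_surjective M)
    have hodd' : Odd (Nat.card (M.map (QuotientGroup.mk' N))) :=
      Odd.of_dvd_nat hodd (Subgroup.card_map_dvd _ _)
    have hQ : Group.IsSolvable (G ⧸ N) := ih _ hlt (G ⧸ N) rfl _ hM' hnil' hodd'
    exact Group.isSolvable_of_ker_le_range N.subtype (QuotientGroup.mk' N) (by
      rw [QuotientGroup.ker_mk', Subgroup.range_subtype])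
  · push Not at hcore
    exact solvable_of_corefree hM hnil hodd (fun N hN hNM => by
      by_contra h
      exact h (hcore N hN hNM))

theorem main {G : Type u} [Group G] [Finite G] (M : Subgroup G) (hmax : IsCoatom M)
    (hnil : Group.IsNilpotent M) (hodd : Odd (Nat.card M)) : Group.IsSolvable G :=
  main_aux _ G rfl M hmax hnil hodd

end Cfsg.Agent.Lead.NilpMax
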