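import Mathlib
import Cfsg.Prelude.Def_Solvable
import Cfsg.Agent.Helper4.PCore

set_option autoImplicit false

/-!
A group of order `p³` with a characteristic chain `1 < H₁ < H₂ < H`: every group of automorphisms
has a normal Sylow `p`-subgroup; consequently quotients of order divisible by `p` have nontrivial
`p`-core.
-/

namespace Cfsg.Agent.Lead.CharChain

variable {p : ℕ} [hp : Fact p.Prime]

/-- An endomorphism of a group of prime order `p` whose `p^k`-th iterate is the identity is the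
identity. -/
theorem endo_eq_id_of_card_prime {Q : Type*} [Group Q] (hQ : Nat.card Q = p) (f : Q →* Q) (k : ℕ)
    (hf : ∀ x, f^[p ^ k] x = x) : ∀ x, f x = x := by
  haveI : Finite Q := Nat.finite_of_card_ne_zero (by rw [hQ]; exact hp.out.ne_zero)
  haveI : Nontrivial Q := by
    rw [← Finite.one_lt_card_iff_nontrivial, hQ]; exact hp.out.one_lt
  obtain ⟨g, hg⟩ := exists_ne (1 : Q)
  have htop : Subgroup.zpowers g = ⊤ := zpowers_eq_top_of_prime_card hQ hg
  have hord : orderOf g = p := by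
    have h1 : orderOf g ∣ p := by rw [← hQ]; exact orderOf_dvd_natCard g
    rcases (Nat.dvd_prime hp.out).1 h1 with h | h
    · exact absurd (orderOf_eq_one_iff.1 h) hg
    · exact h
  have hfg : f g ∈ Subgroup.zpowers g := by rw [htop]; trivial
  rw [← mem_powers_iff_mem_zpowers] at hfg
  obtain ⟨j, hj⟩ := hfg
  have hj' : f g = g ^ j := hj.symm
  have hiter : ∀ n : ℕ, f^[n] g = g ^ (j ^ n) := by
    intro n
    induction n with
    | zero => simp
    | succ n ih =>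
      rw [Function.iterate_succ_apply', ih, map_pow, hj', ← pow_mul, pow_succ, mul_comm]
  have h1 := hf g
  rw [hiter] at h1
  have h2 : g ^ (j ^ (p ^ k)) = g ^ 1 := by rw [h1, pow_one]
  rw [pow_eq_pow_iff_modEq, hord] at h2
  have h3 : ((j : ZMod p)) ^ (p ^ k) = 1 := by
    have := (ZMod.natCast_eq_natCast_iff _ _ _).2 h2
    push_cast at this
    exact this
  rw [ZMod.pow_card_pow] at h3
  have h4 : j ≡ 1 [MOD p] := by
    rw [← ZMod.natCast_eq_natCast_iff]; push_cast; exact h3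
  have hgfix : f g = g := by
    rw [hj']
    have : g ^ j = g ^ 1 := by rw [pow_eq_pow_iff_modEq, hord]; exact h4
    rw [this, pow_one]
  intro x
  have hx : x ∈ Subgroup.zpowers g := by rw [htop]; trivial
  obtain ⟨m, rfl⟩ := Subgroup.mem_zpowers_iff.1 hx
  rw [map_zpow, hgfix]

variable {H : Type*} [Group H]

/-- A `p`-power order automorphism acts trivially on an invariant section of order `p`. -/
theorem section_trivial (α : MulAut H) (k : ℕ) (hα : α ^ (p ^ k) = 1) (N M : Subgroup H)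
    (hM : ∀ x ∈ M, α x ∈ M) (hN : ∀ x ∈ N, α x ∈ N)
    [hn : (N.subgroupOf M).Normal] (hidx : Nat.card (M ⧸ N.subgroupOf M) = p) :
    ∀ x ∈ M, x⁻¹ * α x ∈ N := by
  let αM : M →* M :=
    { toFun := fun x => ⟨α x, hM x x.2⟩
      map_one' := by apply Subtype.ext; simp
      map_mul' := fun x y => by apply Subtype.ext; simp }
  have hle : N.subgroupOf M ≤ (N.subgroupOf M).comap αM := by
    intro x hx
    rw [Subgroup.mem_comap, Subgroup.mem_subgroupOf]
    exact hN _ (Subgroup.mem_subgroupOf.1 hx)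
  let f : (M ⧸ N.subgroupOf M) →* (M ⧸ N.subgroupOf M) :=
    QuotientGroup.map (N.subgroupOf M) (N.subgroupOf M) αM hle
  have hαM : ∀ (n : ℕ) (x : M), ((αM^[n] x : M) : H) = (α ^ n) x := by
    intro n
    induction n with
    | zero => intro x; simp
    | succ n ih =>
      intro x
      rw [Function.iterate_succ_apply', pow_succ', MulAut.mul_apply, ← ih]
      rfl
  have hfiter : ∀ (n : ℕ) (x : M), f^[n] (QuotientGroup.mk x) = QuotientGroup.mk (αM^[n] x) := by
    intro n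
    induction n with
    | zero => intro x; rfl
    | succ n ih =>
      intro x
      rw [Function.iterate_succ_apply', ih, Function.iterate_succ_apply']
      rfl
  have hf : ∀ y, f^[p ^ k] y = y := by
    intro y
    obtain ⟨x, rfl⟩ := QuotientGroup.mk_surjective y
    rw [hfiter]
    congr 1
    apply Subtype.ext
    rw [hαM, hα]
    rfl
  have hid := endo_eq_id_of_card_prime hidx f k hf
  intro x hx
  have h1 := hid (QuotientGroup.mk ⟨x, hx⟩)
  have h2 : f (QuotientGroup.mk ⟨x, hx⟩) = QuotientGroup.mk (αM ⟨x, hx⟩) := rfl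
  rw [h2] at h1
  have h3 := QuotientGroup.eq.1 h1.symm
  rw [Subgroup.mem_subgroupOf] at h3
  exact h3

/-- Power formula for an automorphism that moves `x` by an element it fixes. -/
theorem pow_apply_of_fixed (β : MulAut H) (x q : H) (hx : β x = x * q) (hq : β q = q) (j : ℕ) :
    (β ^ j) x = x * q ^ j := by
  induction j with
  | zero => simp
  | succ j ih =>
    rw [pow_succ', MulAut.mul_apply, ih, map_mul, map_pow, hq, hx, pow_succ', mul_assoc]

/-- The stabilizer of the chain `1 ≤ H₁ ≤ H₂ ≤ H`. -/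
def chainC (H₁ H₂ : Subgroup H) (h12 : H₁ ≤ H₂) : Subgroup (MulAut H) where
  carrier := {α | (∀ y ∈ H₁, α y = y) ∧ (∀ y ∈ H₂, y⁻¹ * α y ∈ H₁) ∧ ∀ x, x⁻¹ * α x ∈ H₂}
  one_mem' := by
    refine ⟨fun y _ => rfl, fun y _ => ?_, fun x => ?_⟩
    · simp
    · simp
  mul_mem' := by
    rintro α β ⟨hα1, hα2, hα3⟩ ⟨hβ1, hβ2, hβ3⟩
    refine ⟨fun y hy => ?_, fun y hy => ?_, fun x => ?_⟩
    · rw [MulAut.mul_apply, hβ1 y hy, hα1 y hy]
    · have hβy : β y ∈ H₂ := by
        have : β y = y * (y⁻¹ * β y) := by group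
        rw [this]
        exact H₂.mul_mem hy (h12 (hβ2 y hy))
      have : y⁻¹ * (α * β) y = (y⁻¹ * β y) * ((β y)⁻¹ * α (β y)) := by
        rw [MulAut.mul_apply]; group
      rw [this]
      exact H₁.mul_mem (hβ2 y hy) (hα2 _ hβy)
    · have : x⁻¹ * (α * β) x = (x⁻¹ * β x) * ((β x)⁻¹ * α (β x)) := by
        rw [MulAut.mul_apply]; group
      rw [this]
      exact H₂.mul_mem (hβ3 x) (hα3 _)
  inv_mem' := by
    rintro α ⟨hα1, hα2, hα3⟩
    have hinv : ∀ x, α (α⁻¹ x) = x := fun x => by simp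
    refine ⟨fun y hy => ?_, fun y hy => ?_, fun x => ?_⟩
    · have := hα1 y hy
      calc α⁻¹ y = α⁻¹ (α y) := by rw [this]
        _ = y := by simp
    · -- α⁻¹ y ∈ H₂
      have h3 := hα3 (α⁻¹ y)
      rw [hinv] at h3
      have hmem : α⁻¹ y ∈ H₂ := by
        have : α⁻¹ y = y * ((α⁻¹ y)⁻¹ * y)⁻¹ := by group
        rw [this]
        exact H₂.mul_mem hy (H₂.inv_mem h3)
      have h2 := hα2 _ hmem
      rw [hinv] at h2
      have : y⁻¹ * α⁻¹ y = ((α⁻¹ y)⁻¹ * y)⁻¹ := by group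
      rw [this]
      exact H₁.inv_mem h2
    · have h3 := hα3 (α⁻¹ x)
      rw [hinv] at h3
      have : x⁻¹ * α⁻¹ x = ((α⁻¹ x)⁻¹ * x)⁻¹ := by group
      rw [this]
      exact H₂.inv_mem h3

theorem mem_chainC (H₁ H₂ : Subgroup H) (h12 : H₁ ≤ H₂) (α : MulAut H) :
    α ∈ chainC H₁ H₂ h12 ↔
      (∀ y ∈ H₁, α y = y) ∧ (∀ y ∈ H₂, y⁻¹ * α y ∈ H₁) ∧ ∀ x, x⁻¹ * α x ∈ H₂ := Iff.rfl

theorem isPGroup_chainC [Finite H] (H₁ H₂ : Subgroup H) (h12 : H₁ ≤ H₂) (c1 : Nat.card H₁ = p)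
    (c2 : Nat.card H₂ = p ^ 2) : IsPGroup p (chainC H₁ H₂ h12) := by
  intro α
  refine ⟨3, ?_⟩
  apply Subtype.ext
  obtain ⟨h1, h2, h3⟩ := (mem_chainC H₁ H₂ h12 _).1 α.2
  -- β = α^p fixes H₂ pointwise
  have hβ2 : ∀ y ∈ H₂, ((α : MulAut H) ^ p) y = y := by
    intro y hy
    have hq : (y⁻¹ * (α : MulAut H) y) ^ p = 1 := by
      have := pow_card_eq_one' (G := H₁) (x := ⟨_, h2 y hy⟩)
      rw [c1] at this
      exact congrArg Subtype.val this
    rw [pow_apply_of_fixed (α : MulAut H) y (y⁻¹ * (α : MulAut H) y) (by group)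
      (h1 _ (h2 y hy)) p, hq, mul_one]
  have hβmem : (α : MulAut H) ^ p ∈ chainC H₁ H₂ h12 := Subgroup.pow_mem _ α.2 p
  obtain ⟨-, -, h3'⟩ := (mem_chainC H₁ H₂ h12 _).1 hβmem
  have hgoal : ((α : MulAut H) ^ p) ^ (p ^ 2) = 1 := by
    ext x
    have hq : (x⁻¹ * ((α : MulAut H) ^ p) x) ^ (p ^ 2) = 1 := by
      have := pow_card_eq_one' (G := H₂) (x := ⟨_, h3' x⟩)
      rw [c2] at this
      exact congrArg Subtype.val this
    rw [pow_apply_of_fixed ((α : MulAut H) ^ p) x (x⁻¹ * ((α : MulAut H) ^ p) x) (by group)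
      (hβ2 _ (h3' x)) (p ^ 2), hq, mul_one]
    rfl
  rw [Subgroup.coe_pow, Subgroup.coe_one]
  rw [← hgoal, ← pow_mul]
  congr 1
  ring


section Main

variable [Finite H]

theorem card_quot_mul (N M : Subgroup H) (hNM : N ≤ M) :
    Nat.card (M ⧸ N.subgroupOf M) * Nat.card N = Nat.card M := by
  have h1 := Subgroup.card_eq_card_quotient_mul_card_subgroup (N.subgroupOf M)
  have h2 : Nat.card (N.subgroupOf M) = Nat.card N :=
    Nat.card_congr (Subgroup.subgroupOfEquivOfLe hNM).toEquiv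
  rw [h2] at h1
  exact h1.symm

theorem mem_chainC_of_pow (H₁ H₂ : Subgroup H) (h12 : H₁ ≤ H₂) (c1 : Nat.card H₁ = p)
    (c2 : Nat.card H₂ = p ^ 2) (c3 : Nat.card H = p ^ 3)
    (inv1 : ∀ β : MulAut H, ∀ y ∈ H₁, β y ∈ H₁) (inv2 : ∀ β : MulAut H, ∀ y ∈ H₂, β y ∈ H₂)
    (α : MulAut H) (k : ℕ) (hα : α ^ (p ^ k) = 1) : α ∈ chainC H₁ H₂ h12 := by
  have hpos : 0 < p := hp.out.pos
  haveI hn1 : H₁.Normal := ⟨fun n hn g => by simpa using inv1 (MulAut.conj g) n hn⟩
  haveI hn2 : H₂.Normal := ⟨fun n hn g => by simpa using inv2 (MulAut.conj g) n hn⟩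
  rw [mem_chainC]
  refine ⟨?_, ?_, ?_⟩
  · haveI : ((⊥ : Subgroup H).subgroupOf H₁).Normal := inferInstance
    have hidx : Nat.card (H₁ ⧸ (⊥ : Subgroup H).subgroupOf H₁) = p := by
      have := card_quot_mul (⊥ : Subgroup H) H₁ bot_le
      rw [Subgroup.card_bot, mul_one, c1] at this
      exact this
    intro y hy
    have := section_trivial α k hα ⊥ H₁ (inv1 α) (fun x hx => by
      rw [Subgroup.mem_bot] at hx ⊢; rw [hx, map_one]) hidx y hy
    rw [Subgroup.mem_bot, inv_mul_eq_one] at this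
    exact this.symm
  · have hidx : Nat.card (H₂ ⧸ H₁.subgroupOf H₂) = p := by
      have := card_quot_mul H₁ H₂ h12
      rw [c1, c2, pow_two] at this
      exact Nat.eq_of_mul_eq_mul_right hpos this
    exact section_trivial α k hα H₁ H₂ (inv2 α) (inv1 α) hidx
  · have hidx : Nat.card ((⊤ : Subgroup H) ⧸ H₂.subgroupOf ⊤) = p := by
      have := card_quot_mul H₂ ⊤ le_top
      rw [c2, Subgroup.card_top, c3] at this
      have h3 : p ^ 3 = p * p ^ 2 := by ring
      rw [h3] at this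
      exact Nat.eq_of_mul_eq_mul_right (pow_pos hpos 2) this
    intro x
    exact section_trivial α k hα H₂ ⊤ (fun _ _ => Subgroup.mem_top _) (inv2 α) hidx x
      (Subgroup.mem_top x)

/-- A group of automorphisms of a group of order `p³` with a characteristic chain has quotients
with nontrivial `p`-core whenever `p` divides their order. -/
theorem pCore_ne_bot (H₁ H₂ : Subgroup H) (h12 : H₁ ≤ H₂) (c1 : Nat.card H₁ = p)
    (c2 : Nat.card H₂ = p ^ 2) (c3 : Nat.card H = p ^ 3)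
    (inv1 : ∀ β : MulAut H, ∀ y ∈ H₁, β y ∈ H₁) (inv2 : ∀ β : MulAut H, ∀ y ∈ H₂, β y ∈ H₂)
    (Γ : Subgroup (MulAut H)) (N₀ : Subgroup Γ) [N₀.Normal]
    (hdvd : p ∣ Nat.card (Γ ⧸ N₀)) : Cfsg.pCore p (Γ ⧸ N₀) ≠ ⊥ := by
  intro hbot
  have hCp := isPGroup_chainC (p := p) H₁ H₂ h12 c1 c2
  let P : Subgroup Γ := (chainC H₁ H₂ h12).subgroupOf Γ
  have hPp : IsPGroup p P := hCp.comap_of_injective Γ.subtype Γ.subtype_injective
  have hPn : P.Normal := by
    refine ⟨fun q hq γ => ?_⟩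
    obtain ⟨k, hk⟩ := hPp ⟨q, hq⟩
    have hk' : q ^ (p ^ k) = 1 := congrArg Subtype.val hk
    change ((γ * q * γ⁻¹ : Γ) : MulAut H) ∈ chainC H₁ H₂ h12
    apply mem_chainC_of_pow H₁ H₂ h12 c1 c2 c3 inv1 inv2 _ k
    have : (γ * q * γ⁻¹) ^ (p ^ k) = 1 := by
      rw [conj_pow, hk', mul_one, mul_inv_cancel]
    exact_mod_cast congrArg Subtype.val this
  have hmap_le : P.map (QuotientGroup.mk' N₀) ≤ Cfsg.pCore p (Γ ⧸ N₀) :=
    Cfsg.Agent.Helper4.le_pCore _ (hPn.map _ (QuotientGroup.mk'_surjective N₀))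
      (hPp.map (QuotientGroup.mk' N₀))
  rw [hbot, le_bot_iff] at hmap_le
  haveI : Finite (Γ ⧸ N₀) := inferInstance
  obtain ⟨x, hx⟩ := exists_prime_orderOf_dvd_card' p hdvd
  obtain ⟨γ, rfl⟩ := QuotientGroup.mk_surjective x
  haveI : Finite Γ := inferInstance
  have hpos : 0 < orderOf γ := orderOf_pos γ
  obtain ⟨a, m, hm', hm⟩ := Nat.exists_eq_pow_mul_and_not_dvd hpos.ne' p hp.out.ne_one
  have hδ : (γ ^ m) ^ (p ^ a) = 1 := by
    rw [← pow_mul, mul_comm, ← hm, pow_orderOf_eq_one]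
  have hδC : ((γ ^ m : Γ) : MulAut H) ∈ chainC H₁ H₂ h12 := by
    apply mem_chainC_of_pow H₁ H₂ h12 c1 c2 c3 inv1 inv2 _ a
    exact_mod_cast congrArg Subtype.val hδ
  have hδP : γ ^ m ∈ P := hδC
  have h1 : QuotientGroup.mk' N₀ (γ ^ m) ∈ P.map (QuotientGroup.mk' N₀) :=
    Subgroup.mem_map_of_mem _ hδP
  rw [hmap_le, Subgroup.mem_bot, map_pow] at h1
  have h2 : orderOf ((QuotientGroup.mk' N₀) γ) ∣ m := orderOf_dvd_of_pow_eq_one h1
  have h3 : orderOf ((QuotientGroup.mk' N₀) γ) = p := hx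
  rw [h3] at h2
  exact hm' h2

end Main

end Cfsg.Agent.Lead.CharChain
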