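import Mathlib
import Cfsg.Agent.Lead.EssPSq

set_option autoImplicit false

/-!
Automorphisms of order `p` of an elementary abelian group of order `p²`.
-/

namespace Cfsg.Agent.Lead.EssPSq

variable {H : Type*} [Group H] [Finite H] {p : ℕ} [hp : Fact p.Prime]

theorem exists_fixed (h : EA p H) (γ : MulAut H) (hγ : γ ^ p = 1) : ∃ x : H, x ≠ 1 ∧ γ x = x := by
  have hZ : IsPGroup p (Subgroup.zpowers γ) := by
    rintro ⟨g, hg⟩
    obtain ⟨n, rfl⟩ := Subgroup.mem_zpowers_iff.1 hg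
    refine ⟨1, Subtype.ext ?_⟩
    simp only [pow_one, Subgroup.coe_pow, Subgroup.coe_one]
    rw [← zpow_natCast, ← zpow_mul, mul_comm, zpow_mul, zpow_natCast, hγ, one_zpow]
  have hdvd : p ∣ Nat.card H := by rw [h.card]; exact dvd_pow_self p two_ne_zero
  have hfix : (1 : H) ∈ MulAction.fixedPoints (Subgroup.zpowers γ) H := by
    intro g
    exact smul_one g
  obtain ⟨b, hb, hb1⟩ := hZ.exists_fixed_point_of_prime_dvd_card_of_fixed_point H hdvd hfix
  refine ⟨b, Ne.symm hb1, ?_⟩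
  exact hb ⟨γ, Subgroup.mem_zpowers γ⟩

theorem card_zpowers_of_ne (h : EA p H) {x : H} (hx : x ≠ 1) :
    Nat.card (Subgroup.zpowers x) = p := by
  rw [Nat.card_zpowers]
  exact orderOf_eq_prime (h.exp x) hx

theorem not_mem_symm (h : EA p H) {x y : H} (hx : x ≠ 1) (hy1 : y ≠ 1)
    (hy : y ∉ Subgroup.zpowers x) : x ∉ Subgroup.zpowers y := by
  intro hxy
  apply hy
  have hle : Subgroup.zpowers x ≤ Subgroup.zpowers y := by
    rw [Subgroup.zpowers_le]; exact hxy
  have := Subgroup.eq_of_le_of_card_ge hle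
    (by rw [card_zpowers_of_ne h hx, card_zpowers_of_ne h hy1])
  rw [this]
  exact Subgroup.mem_zpowers y

theorem exists_not_mem (h : EA p H) (x : H) : ∃ y : H, y ∉ Subgroup.zpowers x := by
  by_contra hcon
  push Not at hcon
  have htop : Subgroup.zpowers x = ⊤ := eq_top_iff.2 fun y _ => hcon y
  have hc : Nat.card (Subgroup.zpowers x) = p ^ 2 := by rw [htop, Subgroup.card_top, h.card]
  have hle : Nat.card (Subgroup.zpowers x) ≤ p := by
    rw [Nat.card_zpowers]
    exact Nat.le_of_dvd hp.out.pos (orderOf_dvd_of_pow_eq_one (h.exp x))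
  rw [hc] at hle
  have := hp.out.one_lt
  nlinarith

theorem agree (h : EA p H) {x y : H} (hx : x ≠ 1) (hy : y ∉ Subgroup.zpowers x)
    (γ δ : MulAut H) (h1 : γ x = δ x) (h2 : γ y = δ y) : γ = δ := by
  ext g
  obtain ⟨a, b, rfl⟩ := exists_coord h hx hy g
  rw [map_mul, map_mul, map_pow, map_pow, map_pow, map_pow, h1, h2]

theorem L1 (h : EA p H) {x y : H} (hx : x ≠ 1) (hy : y ∉ Subgroup.zpowers x) (γ : MulAut H)
    (hγ : γ ^ p = 1) (hγx : γ x = x) : ∃ a : ZMod p, γ y = x ^ a.val * y := by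
  obtain ⟨a, b, hab⟩ := exists_coord h hx hy (γ y)
  have key : ∀ k : ℕ, ∃ c : ZMod p, (γ ^ k) y = x ^ c.val * y ^ (b ^ k).val := by
    intro k
    induction k with
    | zero =>
      refine ⟨0, ?_⟩
      rw [pow_zero, pow_zero, pow_val_one, ZMod.val_zero, pow_zero, one_mul]
      rfl
    | succ k ih =>
      obtain ⟨c, hc⟩ := ih
      refine ⟨c + a * b ^ k, ?_⟩
      rw [pow_succ', MulAut.mul_apply, hc, map_mul, map_pow, map_pow, hγx, hab,
        (show Commute (x ^ a.val) (y ^ b.val) from h.comm _ _).mul_pow, ← pow_val_mul (h.exp x),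
        ← pow_val_mul (h.exp y), ← mul_assoc, ← pow_val_add (h.exp x), ← pow_succ']
  obtain ⟨c, hc⟩ := key p
  rw [hγ, ZMod.pow_card] at hc
  have h1 : x ^ (0 : ZMod p).val * y ^ (1 : ZMod p).val = x ^ c.val * y ^ b.val := by
    rw [ZMod.val_zero, pow_zero, one_mul, pow_val_one]
    exact hc
  obtain ⟨-, hb⟩ := coord_inj h hx hy h1
  refine ⟨a, ?_⟩
  rw [hab, ← hb, pow_val_one]

theorem pow_formula (h : EA p H) {x y : H} (γ : MulAut H) (hγx : γ x = x) {a : ZMod p}
    (hγy : γ y = x ^ a.val * y) (k : ℕ) :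
    (γ ^ k) x = x ∧ (γ ^ k) y = x ^ ((k : ZMod p) * a).val * y := by
  induction k with
  | zero =>
    refine ⟨rfl, ?_⟩
    rw [pow_zero, Nat.cast_zero, zero_mul, ZMod.val_zero, pow_zero, one_mul]
    rfl
  | succ k ih =>
    obtain ⟨ih1, ih2⟩ := ih
    constructor
    · rw [pow_succ', MulAut.mul_apply, ih1, hγx]
    · rw [pow_succ', MulAut.mul_apply, ih2, map_mul, map_pow, hγx, hγy, ← mul_assoc,
        ← pow_val_add (h.exp x)]
      congr 2
      push_cast
      ring_nf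

end Cfsg.Agent.Lead.EssPSq
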