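import Mathlib
import Cfsg.Agent.Lead.EssPSq2

set_option autoImplicit false

/-!
Two non-commuting subgroups of order `p` of automorphisms generate `SL₂(p)`.
-/

namespace Cfsg.Agent.Lead.EssPSq

variable {H : Type*} [Group H] [Finite H] {p : ℕ} [hp : Fact p.Prime]

theorem G1 (h : EA p H) {x y : H} (hx : x ≠ 1) (hy : y ∉ Subgroup.zpowers x)
    (e : Multiplicative (Fin 2 → ZMod p) ≃* H)
    (he : ∀ v : Fin 2 → ZMod p, e (Multiplicative.ofAdd v) = x ^ (v 0).val * y ^ (v 1).val)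
    (γ : MulAut H)
    (hγx : γ x = x) {a : ZMod p} (ha : a ≠ 0) (hγy : γ y = x ^ a.val * y) (t : ZMod p) :
    phi e (E12 t) = γ ^ (t * a⁻¹).val := by
  have hex : e (Multiplicative.ofAdd ![1, 0]) = x := by
    rw [he]; simp [pow_val_one]
  have hey : e (Multiplicative.ofAdd ![0, 1]) = y := by
    rw [he]; simp [pow_val_one]
  obtain ⟨h1, h2⟩ := pow_formula h γ hγx hγy (t * a⁻¹).val
  apply agree h hx hy
  · rw [h1]
    conv_lhs => rw [← hex]
    rw [phi_apply, E12_val]
    have : (!![1, t; 0, 1] : Matrix (Fin 2) (Fin 2) (ZMod p)).mulVec ![1, 0] = ![1, 0] := by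
      ext i; fin_cases i <;> simp [Matrix.mulVec, dotProduct, Fin.sum_univ_two]
    rw [this, hex]
  · rw [h2]
    conv_lhs => rw [← hey]
    rw [phi_apply, E12_val]
    have : (!![1, t; 0, 1] : Matrix (Fin 2) (Fin 2) (ZMod p)).mulVec ![0, 1] = ![t, 1] := by
      ext i; fin_cases i <;> simp [Matrix.mulVec, dotProduct, Fin.sum_univ_two]
    rw [this, he]
    simp only [Matrix.cons_val_zero, Matrix.cons_val_one]
    rw [pow_val_one, ZMod.natCast_zmod_val, mul_assoc, inv_mul_cancel₀ ha, mul_one]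

theorem G2 (h : EA p H) {x y : H} (hx : x ≠ 1) (hy : y ∉ Subgroup.zpowers x)
    (e : Multiplicative (Fin 2 → ZMod p) ≃* H)
    (he : ∀ v : Fin 2 → ZMod p, e (Multiplicative.ofAdd v) = x ^ (v 0).val * y ^ (v 1).val)
    (γ : MulAut H)
    (hγy : γ y = y) {c : ZMod p} (hc : c ≠ 0) (hγx : γ x = y ^ c.val * x) (t : ZMod p) :
    phi e (E21 t) = γ ^ (t * c⁻¹).val := by
  have hex : e (Multiplicative.ofAdd ![1, 0]) = x := by
    rw [he]; simp [pow_val_one]
  have hey : e (Multiplicative.ofAdd ![0, 1]) = y := by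
    rw [he]; simp [pow_val_one]
  obtain ⟨h1, h2⟩ := pow_formula h γ hγy hγx (t * c⁻¹).val
  apply agree h hx hy
  · rw [h2]
    conv_lhs => rw [← hex]
    rw [phi_apply, E21_val]
    have : (!![1, 0; t, 1] : Matrix (Fin 2) (Fin 2) (ZMod p)).mulVec ![1, 0] = ![1, t] := by
      ext i; fin_cases i <;> simp [Matrix.mulVec, dotProduct, Fin.sum_univ_two]
    rw [this, he]
    simp only [Matrix.cons_val_zero, Matrix.cons_val_one]
    rw [pow_val_one, ZMod.natCast_zmod_val, mul_assoc, inv_mul_cancel₀ hc, mul_one]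
    exact h.comm _ _
  · rw [h1]
    conv_lhs => rw [← hey]
    rw [phi_apply, E21_val]
    have : (!![1, 0; t, 1] : Matrix (Fin 2) (Fin 2) (ZMod p)).mulVec ![0, 1] = ![0, 1] := by
      ext i; fin_cases i <;> simp [Matrix.mulVec, dotProduct, Fin.sum_univ_two]
    rw [this, hey]

theorem main_aux (h : EA p H) (A : Subgroup (MulAut H)) (α β : MulAut H) (hα : α ∈ A)
    (hβ : β ∈ A) (hαp : α ^ p = 1) (hβp : β ^ p = 1) (hα1 : α ≠ 1)
    (hβα : β ∉ Subgroup.zpowers α) : ∃ K : Subgroup A, Nonempty (K ≃* SL2 p) := by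
  have hβ1 : β ≠ 1 := fun h1 => hβα (h1 ▸ Subgroup.one_mem _)
  obtain ⟨x, hx, hαx⟩ := exists_fixed h α hαp
  obtain ⟨y, hy1, hβy⟩ := exists_fixed h β hβp
  -- the fixed vectors are independent
  have hy : y ∉ Subgroup.zpowers x := by
    intro hyx
    have hxy : x ∈ Subgroup.zpowers y := by
      by_contra hxy
      exact not_mem_symm h hy1 hx hxy hyx
    have hβx : β x = x := by
      obtain ⟨n, rfl⟩ := Subgroup.mem_zpowers_iff.1 hxy
      rw [map_zpow, hβy]
    obtain ⟨w, hw⟩ := exists_not_mem h x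
    obtain ⟨a, ha⟩ := L1 h hx hw α hαp hαx
    obtain ⟨c, hc⟩ := L1 h hx hw β hβp hβx
    have ha0 : a ≠ 0 := by
      rintro rfl
      apply hα1
      apply agree h hx hw
      · rw [hαx]; rfl
      · rw [ha, ZMod.val_zero, pow_zero, one_mul]; rfl
    apply hβα
    obtain ⟨h1, h2⟩ := pow_formula h α hαx ha (c * a⁻¹).val
    have : β = α ^ (c * a⁻¹).val := by
      apply agree h hx hw
      · rw [h1, hβx]
      · rw [h2, hc, ZMod.natCast_zmod_val, mul_assoc, inv_mul_cancel₀ ha0, mul_one]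
    rw [this]
    exact Subgroup.pow_mem _ (Subgroup.mem_zpowers α) _
  have hxy : x ∉ Subgroup.zpowers y := not_mem_symm h hx hy1 hy
  obtain ⟨a, ha⟩ := L1 h hx hy α hαp hαx
  obtain ⟨c, hc⟩ := L1 h hy1 hxy β hβp hβy
  have ha0 : a ≠ 0 := by
    rintro rfl
    apply hα1
    apply agree h hx hy
    · rw [hαx]; rfl
    · rw [ha, ZMod.val_zero, pow_zero, one_mul]; rfl
  have hc0 : c ≠ 0 := by
    rintro rfl
    apply hβ1
    apply agree h hx hy
    · rw [hc, ZMod.val_zero, pow_zero, one_mul]; rfl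
    · rw [hβy]; rfl
  have htop : A.comap (phi (coordEquiv h hx hy)) = ⊤ := by
    apply sl2_gen
    · intro t
      rw [Subgroup.mem_comap, G1 h hx hy _ (coordEquiv_apply h hx hy) α hαx ha0 ha t]
      exact A.pow_mem hα _
    · intro t
      rw [Subgroup.mem_comap, G2 h hx hy _ (coordEquiv_apply h hx hy) β hβy hc0 hc t]
      exact A.pow_mem hβ _
  have hle : (phi (coordEquiv h hx hy)).range ≤ A := by
    rintro _ ⟨M, rfl⟩
    have : M ∈ A.comap (phi (coordEquiv h hx hy)) := by rw [htop]; exact Subgroup.mem_top M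
    exact this
  refine ⟨(phi (coordEquiv h hx hy)).range.subgroupOf A, ⟨?_⟩⟩
  exact (Subgroup.subgroupOfEquivOfLe hle).trans
    (MonoidHom.ofInjective (phi_injective (coordEquiv h hx hy))).symm

end Cfsg.Agent.Lead.EssPSq
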