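import Mathlib
import Cfsg.Agent.Lead.EssPSq3

set_option autoImplicit false

/-!
Refinement of `main_aux`: the copy of `SL₂(p)` is the one acting in coordinates; in particular
the inversion automorphism lies in the group.
-/

namespace Cfsg.Agent.Lead.EssPSq

variable {H : Type*} [Group H] [Finite H] {p : ℕ} [hp : Fact p.Prime]

theorem main_aux2 (h : EA p H) (A : Subgroup (MulAut H)) (α β : MulAut H) (hα : α ∈ A)
    (hβ : β ∈ A) (hαp : α ^ p = 1) (hβp : β ^ p = 1) (hα1 : α ≠ 1)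
    (hβα : β ∉ Subgroup.zpowers α) : ∃ e : Multiplicative (Fin 2 → ZMod p) ≃* H, (phi e).range ≤ A := by
  have hβ1 : β ≠ 1 := fun h1 => hβα (h1 ▸ Subgroup.one_mem _)
  obtain ⟨x, hx, hαx⟩ := exists_fixed h α hαp
  obtain ⟨y, hy1, hβy⟩ := exists_fixed h β hβp
  -- the fixed vectors are independent
  have hy : y ∉ Subgroup.zpowers x := by
    intro hyx
    have hxy : x ∈ Subgroup.zpowers y := by
      by_contra hxy
      exact not_mem_symm h hy1 hx hxy hyx
    have hβx : β x = x := by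
      obtain ⟨n, rfl⟩ := Subgroup.mem_zpowers_iff.1 hxy
      rw [map_zpow, hβy]
    obtain ⟨w, hw⟩ := exists_not_mem h x
    obtain ⟨a, ha⟩ := L1 h hx hw α hαp hαx
    obtain ⟨c, hc⟩ := L1 h hx hw β hβp hβx
    have ha0 : a ≠ 0 := by
      rintro rfl
      apply hα1
      apply agree h hx hw
      · rw [hαx]; rfl
      · rw [ha, ZMod.val_zero, pow_zero, one_mul]; rfl
    apply hβα
    obtain ⟨h1, h2⟩ := pow_formula h α hαx ha (c * a⁻¹).val
    have : β = α ^ (c * a⁻¹).val := by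
      apply agree h hx hw
      · rw [h1, hβx]
      · rw [h2, hc, ZMod.natCast_zmod_val, mul_assoc, inv_mul_cancel₀ ha0, mul_one]
    rw [this]
    exact Subgroup.pow_mem _ (Subgroup.mem_zpowers α) _
  have hxy : x ∉ Subgroup.zpowers y := not_mem_symm h hx hy1 hy
  obtain ⟨a, ha⟩ := L1 h hx hy α hαp hαx
  obtain ⟨c, hc⟩ := L1 h hy1 hxy β hβp hβy
  have ha0 : a ≠ 0 := by
    rintro rfl
    apply hα1
    apply agree h hx hy
    · rw [hαx]; rfl
    · rw [ha, ZMod.val_zero, pow_zero, one_mul]; rfl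
  have hc0 : c ≠ 0 := by
    rintro rfl
    apply hβ1
    apply agree h hx hy
    · rw [hc, ZMod.val_zero, pow_zero, one_mul]; rfl
    · rw [hβy]; rfl
  have htop : A.comap (phi (coordEquiv h hx hy)) = ⊤ := by
    apply sl2_gen
    · intro t
      rw [Subgroup.mem_comap, G1 h hx hy _ (coordEquiv_apply h hx hy) α hαx ha0 ha t]
      exact A.pow_mem hα _
    · intro t
      rw [Subgroup.mem_comap, G2 h hx hy _ (coordEquiv_apply h hx hy) β hβy hc0 hc t]
      exact A.pow_mem hβ _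
  have hle : (phi (coordEquiv h hx hy)).range ≤ A := by
    rintro _ ⟨M, rfl⟩
    have : M ∈ A.comap (phi (coordEquiv h hx hy)) := by rw [htop]; exact Subgroup.mem_top M
    exact this
  exact ⟨coordEquiv h hx hy, hle⟩

/-- the scalar matrix `-1` -/
def negOne (p : ℕ) : SL2 p := ⟨!![-1, 0; 0, -1], by simp [Matrix.det_fin_two]⟩

omit [Finite H] in
theorem phi_negOne (e : Multiplicative (Fin 2 → ZMod p) ≃* H) (g : H) :
    phi e (negOne p) g = g⁻¹ := by
  obtain ⟨v, rfl⟩ := e.surjective g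
  obtain ⟨w, rfl⟩ : ∃ w : Fin 2 → ZMod p, Multiplicative.ofAdd w = v := ⟨Multiplicative.toAdd v, rfl⟩
  rw [phi_apply]
  have : (negOne p).1.mulVec w = -w := by
    ext i
    fin_cases i <;> simp [negOne, Matrix.mulVec, dotProduct, Fin.sum_univ_two]
  rw [this, ofAdd_neg, map_inv]

/-- two distinct subgroups of order `p` of automorphisms generate a group containing inversion -/
theorem exists_inversion (h : EA p H) (A : Subgroup (MulAut H)) (α β : MulAut H) (hα : α ∈ A)
    (hβ : β ∈ A) (hαp : α ^ p = 1) (hβp : β ^ p = 1) (hα1 : α ≠ 1)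
    (hβα : β ∉ Subgroup.zpowers α) : ∃ τ ∈ A, ∀ g : H, τ g = g⁻¹ := by
  obtain ⟨e, he⟩ := main_aux2 h A α β hα hβ hαp hβp hα1 hβα
  exact ⟨phi e (negOne p), he ⟨_, rfl⟩, phi_negOne e⟩

end Cfsg.Agent.Lead.EssPSq
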