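import Mathlib
import Cfsg.Prelude.Def_FusionSystem
import Cfsg.Agent.Lead.FusionNormalCrit

set_option autoImplicit false

namespace Cfsg.Agent.Lead

open Cfsg Cfsg.FusionSystem

variable {Ω : Type*} [Group Ω] {S : Subgroup Ω}

/-- If `Aut_F(P)` has a normal Sylow `p`-subgroup then `P` is not essential. -/
theorem Fusion.not_isEssential_of_normal_sylow [Finite S] (p : ℕ) [Fact p.Prime] (hS : IsPGroup p S)
    (F : FusionSystem S) {P : Subgroup Ω} (R : Sylow p (F.autGroup P))
    (hR : (R : Subgroup (F.autGroup P)).Normal) : ¬ F.IsEssential p P := by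
  rintro ⟨hc, -, hnormal, Y, hY⟩
  have hPS := hc.1
  have : Finite P := Fusion.finite_of_le hPS
  have : Finite (MulAut P) := inferInstance
  have hbot := pCore_eq_bot_of_stronglyPEmbedded p Y hY
  obtain ⟨hdvd, -, -⟩ := hY
  have hsurj := QuotientGroup.mk'_surjective ((Inn P).subgroupOf (F.autGroup P))
  set R' := R.mapSurjective hsurj with hR'
  have hR'N : (R' : Subgroup (F.autGroup P ⧸ (Inn P).subgroupOf (F.autGroup P))).Normal := by
    rw [hR', Sylow.coe_mapSurjective]
    exact Subgroup.Normal.map hR _ hsurj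
  have hle : (R' : Subgroup (F.autGroup P ⧸ (Inn P).subgroupOf (F.autGroup P))) ≤
      pCore p (F.autGroup P ⧸ (Inn P).subgroupOf (F.autGroup P)) :=
    le_sSup ⟨hR'N, R'.isPGroup'⟩
  rw [hbot, le_bot_iff] at hle
  have hcard := R'.card_eq_multiplicity
  have h1 : Nat.card (R' : Subgroup (F.autGroup P ⧸ (Inn P).subgroupOf (F.autGroup P))) = 1 := by
    rw [hle]
    simp
  have h2 : Nat.card R' = 1 := h1
  rw [h2] at hcard
  have hp : p.Prime := Fact.out
  have hpos : 0 < (Nat.card (F.autGroup P ⧸ (Inn P).subgroupOf (F.autGroup P))).factorization p :=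
    hp.factorization_pos_of_dvd Nat.card_pos.ne' hdvd
  have : 1 < p ^ (Nat.card (F.autGroup P ⧸ (Inn P).subgroupOf (F.autGroup P))).factorization p :=
    Nat.one_lt_pow hpos.ne' hp.one_lt
  omega

/-- If every fully normalized centric radical subgroup has an automizer with a normal Sylow
`p`-subgroup, then `S` is normal in the system. -/
theorem Fusion.top_isNormal_of_normal_sylow [Finite S] (p : ℕ) [Fact p.Prime] (hS : IsPGroup p S)
    (F : FusionSystem S) (hF : F.IsSaturated p)
    (hcl : ∀ P : Subgroup Ω, F.IsFullyNormalized P → F.IsCentric P → F.IsRadical p P →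
      ∃ R : Sylow p ↥(F.autGroup P), (R : Subgroup ↥(F.autGroup P)).Normal) :
    F.IsNormal S := by
  apply Fusion.isNormal_of_forall_essential p hS F hF S
  intro P hP
  have hPeq : P = S := by
    rcases hP with h | hess
    · exact h
    · exfalso
      obtain ⟨R, hR⟩ := hcl P hess.2.1 hess.1 (Fusion.isRadical_of_isEssential p hS F hess)
      exact Fusion.not_isEssential_of_normal_sylow p hS F R hR hess
  subst hPeq
  refine ⟨le_rfl, fun α _ => ?_⟩
  have : P.subgroupOf P = ⊤ := by simp
  rw [this, ← MonoidHom.range_eq_map]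
  exact MonoidHom.range_eq_top.mpr α.surjective

end Cfsg.Agent.Lead
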