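import Mathlib
import Cfsg.Agent.Lead.EssPSq2
import Cfsg.Agent.Helper1.Cores
import Cfsg.Agent.Helper1.AutPlumbing
import Cfsg.Agent.Helper1.PGroup
import Cfsg.Agent.Helper1.HallWielandtE

set_option autoImplicit false

/-!
Automorphism groups with trivial `p`-core acting on abelian `p`-groups: general lemmas.
-/

namespace Cfsg.Agent.Lead.EssAb

variable {H : Type*} [CommGroup H] [Finite H] {p : ℕ} [hp : Fact p.Prime]

omit [Finite H] in
theorem aut_eq_one_of_card_prime {Q : Type*} [Group Q] (hQ : Nat.card Q = p) (β : MulAut Q)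
    (hβ : β ^ p = 1) : β = 1 := by
  haveI : Finite Q := Nat.finite_of_card_ne_zero (by rw [hQ]; exact hp.out.ne_zero)
  haveI : IsCyclic Q := isCyclic_of_prime_card hQ
  have h1 : orderOf β ∣ p := orderOf_dvd_of_pow_eq_one hβ
  have h2 : orderOf β ∣ p - 1 := by
    have := orderOf_dvd_natCard β
    rwa [IsCyclic.card_mulAut, hQ, Nat.totient_prime hp.out] at this
  have h3 : orderOf β ∣ 1 := by
    have := Nat.dvd_sub h1 h2
    rwa [Nat.sub_sub_self hp.out.one_le] at this
  exact orderOf_eq_one_iff.1 (Nat.dvd_one.1 h3)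

omit [Finite H] in
theorem congr_pow_mk (α : MulAut H) (K : Subgroup H) (hK : K.map (α : H →* H) = K) (n : ℕ)
    (x : H) :
    ((QuotientGroup.congr K K α hK) ^ n) (x : H ⧸ K) = (((α ^ n) x : H) : H ⧸ K) := by
  induction n generalizing x with
  | zero => simp
  | succ n ih =>
    rw [pow_succ, MulAut.mul_apply, QuotientGroup.congr_mk, ih, pow_succ, MulAut.mul_apply]

omit [Finite H] in
/-- an automorphism of order dividing `p` acts trivially on a quotient of order `p` -/
theorem inv_mul_apply_mem (α : MulAut H) (K : Subgroup H) (hK : K.map (α : H →* H) = K)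
    (hidx : K.index = p) (hα : α ^ p = 1) (x : H) : x⁻¹ * α x ∈ K := by
  have hβp : (QuotientGroup.congr K K α hK) ^ p = 1 := by
    ext q
    induction q using QuotientGroup.induction_on with
    | H y => rw [congr_pow_mk, hα]; rfl
  have hcard : Nat.card (H ⧸ K) = p := by rw [← Subgroup.index_eq_card]; exact hidx
  have h1 := aut_eq_one_of_card_prime hcard _ hβp
  have h2 : (QuotientGroup.congr K K α hK) (x : H ⧸ K) = x := by rw [h1]; rfl
  rw [QuotientGroup.congr_mk] at h2
  exact QuotientGroup.eq.1 h2.symm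

omit [Finite H] in
/-- restriction of an automorphism to an invariant subgroup -/
noncomputable def restr (α : MulAut H) (K : Subgroup H) (hK : K.map (α : H →* H) = K) :
    MulAut K :=
  (α.subgroupMap K).trans (MulEquiv.subgroupCongr hK)

omit [Finite H] in
theorem restr_coe (α : MulAut H) (K : Subgroup H) (hK : K.map (α : H →* H) = K) (k : K) :
    ((restr α K hK k : K) : H) = α k := rfl

omit [Finite H] in
theorem restr_pow_coe (α : MulAut H) (K : Subgroup H) (hK : K.map (α : H →* H) = K) (n : ℕ)
    (k : K) : (((restr α K hK) ^ n) k : H) = (α ^ n) k := by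
  induction n generalizing k with
  | zero => simp
  | succ n ih =>
    rw [pow_succ, MulAut.mul_apply, ih, restr_coe, pow_succ, MulAut.mul_apply]

omit [Finite H] in
/-- relative version -/
theorem inv_mul_apply_mem_rel (α : MulAut H) (K M : Subgroup H)
    (hK : K.map (α : H →* H) = K) (hM : M.map (α : H →* H) = M)
    (hidx : M.relIndex K = p) (hα : α ^ p = 1) (k : H) (hk : k ∈ K) : k⁻¹ * α k ∈ M := by
  have hM' : (M.subgroupOf K).map ((restr α K hK : MulAut K) : K →* K) = M.subgroupOf K := by
    ext y
    constructor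
    · rintro ⟨z, hz, rfl⟩
      rw [Subgroup.mem_subgroupOf]
      show α z ∈ M
      rw [← hM]
      exact ⟨z, hz, rfl⟩
    · intro hy
      rw [Subgroup.mem_subgroupOf, ← hM] at hy
      obtain ⟨z, hz, hzy⟩ := hy
      have hzK : z ∈ K := by
        have : α z ∈ K := hzy ▸ y.2
        rw [← hK] at this
        obtain ⟨w, hw, hwz⟩ := this
        have : w = z := α.injective hwz
        rw [← this]; exact hw
      refine ⟨⟨z, hzK⟩, hz, Subtype.ext ?_⟩
      exact hzy
  have hβ : (restr α K hK) ^ p = 1 := by
    ext y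
    rw [restr_pow_coe, hα]; rfl
  have := inv_mul_apply_mem (restr α K hK) (M.subgroupOf K) hM' hidx hβ ⟨k, hk⟩
  rw [Subgroup.mem_subgroupOf] at this
  exact this

end Cfsg.Agent.Lead.EssAb
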