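import Mathlib
import Cfsg.Agent.Lead.EssAbA

set_option autoImplicit false

/-!
Automorphism groups with trivial `p`-core acting on abelian `p`-groups: faithfulness on the
Frattini quotient and absence of invariant subgroups strictly between.
-/

namespace Cfsg.Agent.Lead.EssAb

variable {H : Type*} [CommGroup H] [Finite H] {p : ℕ} [hp : Fact p.Prime]

omit [Finite H] in
/-- the elements of `A` acting trivially on `M` modulo `N` -/
def stabSub (A : Subgroup (MulAut H)) (M N : Subgroup H)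
    (hM : ∀ β ∈ A, ∀ x ∈ M, (β : MulAut H) x ∈ M) (hN : ∀ β ∈ A, ∀ x ∈ N, (β : MulAut H) x ∈ N) :
    Subgroup A where
  carrier := {β | ∀ x ∈ M, x⁻¹ * (β : MulAut H) x ∈ N}
  one_mem' := by
    intro x _
    simp
  mul_mem' := by
    intro β γ hβ hγ x hx
    have h1 := hγ x hx
    have h2 := hβ _ (hM γ.1 γ.2 x hx)
    have e : x⁻¹ * ((β * γ : A) : MulAut H) x =
        (x⁻¹ * (γ : MulAut H) x) * (((γ : MulAut H) x)⁻¹ * (β : MulAut H) ((γ : MulAut H) x)) := by
      rw [Subgroup.coe_mul, MulAut.mul_apply]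
      group
    rw [e]
    exact N.mul_mem h1 h2
  inv_mem' := by
    intro β hβ x hx
    have hy : ((β⁻¹ : A) : MulAut H) x ∈ M := hM _ (β⁻¹).2 x hx
    have h1 := hβ _ hy
    have e : x⁻¹ * ((β⁻¹ : A) : MulAut H) x =
        ((((β⁻¹ : A) : MulAut H) x)⁻¹ * (β : MulAut H) (((β⁻¹ : A) : MulAut H) x))⁻¹ := by
      rw [Subgroup.coe_inv, MulAut.apply_inv_self]
      group
    rw [e]
    exact N.inv_mem h1

omit [Finite H] in
theorem mem_stabSub (A : Subgroup (MulAut H)) (M N : Subgroup H)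
    (hM : ∀ β ∈ A, ∀ x ∈ M, (β : MulAut H) x ∈ M) (hN : ∀ β ∈ A, ∀ x ∈ N, (β : MulAut H) x ∈ N)
    (β : A) : β ∈ stabSub A M N hM hN ↔ ∀ x ∈ M, x⁻¹ * (β : MulAut H) x ∈ N := Iff.rfl

omit [Finite H] in
theorem stabSub_normal (A : Subgroup (MulAut H)) (M N : Subgroup H)
    (hM : ∀ β ∈ A, ∀ x ∈ M, (β : MulAut H) x ∈ M) (hN : ∀ β ∈ A, ∀ x ∈ N, (β : MulAut H) x ∈ N) :
    (stabSub A M N hM hN).Normal := by
  constructor
  intro β hβ g x hx
  have hy : ((g⁻¹ : A) : MulAut H) x ∈ M := hM _ (g⁻¹).2 x hx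
  have h1 := hβ _ hy
  have h2 := hN g.1 g.2 _ h1
  have e : x⁻¹ * ((g * β * g⁻¹ : A) : MulAut H) x =
      (g : MulAut H) ((((g⁻¹ : A) : MulAut H) x)⁻¹ * (β : MulAut H) (((g⁻¹ : A) : MulAut H) x)) := by
    rw [Subgroup.coe_mul, Subgroup.coe_mul, MulAut.mul_apply, MulAut.mul_apply, map_mul, map_inv,
      Subgroup.coe_inv, MulAut.apply_inv_self]
  rw [e]
  exact h2

variable (A : Subgroup (MulAut H))

omit [Finite H] in
theorem frattini_inv (β : MulAut H) (x : H) (hx : x ∈ frattini H) : β x ∈ frattini H := by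
  have h1 : (frattini H).Characteristic := inferInstance
  have h2 := (Subgroup.characteristic_iff_map_eq.1 h1) β
  rw [← h2]
  exact ⟨x, hx, rfl⟩

/-- an element of `A` acting trivially on the Frattini quotient is trivial -/
theorem eq_one_of_trivial_mod_frattini (hH : IsPGroup p H) (hcore : Cfsg.pCore p A = ⊥)
    (α : MulAut H) (hα : α ∈ A) (h : ∀ x : H, x⁻¹ * α x ∈ frattini H) : α = 1 := by
  have hM : ∀ β ∈ A, ∀ x ∈ (⊤ : Subgroup H), (β : MulAut H) x ∈ (⊤ : Subgroup H) :=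
    fun _ _ _ _ => Subgroup.mem_top _
  have hN : ∀ β ∈ A, ∀ x ∈ frattini H, (β : MulAut H) x ∈ frattini H :=
    fun β _ x hx => frattini_inv β x hx
  have hn := stabSub_normal A ⊤ (frattini H) hM hN
  have hpg : IsPGroup p (stabSub A ⊤ (frattini H) hM hN) := by
    rintro ⟨β, hβ⟩
    obtain ⟨s, m, hm, hsm⟩ := Nat.exists_eq_pow_mul_and_not_dvd
      (orderOf_pos (β : MulAut H)).ne' p hp.out.ne_one
    refine ⟨s, ?_⟩
    apply Subtype.ext
    apply Subtype.ext
    show (β : MulAut H) ^ p ^ s = 1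
    have hord : orderOf ((β : MulAut H) ^ p ^ s) = m := by
      rw [orderOf_pow' _ (pow_ne_zero _ hp.out.ne_zero), hsm,
        Nat.gcd_eq_right (dvd_mul_right _ _), Nat.mul_div_cancel_left _ (pow_pos hp.out.pos _)]
    apply Cfsg.Agent.Helper1.AutPlumbing.eq_one_of_trivial_mod_frattini hH
    · rw [hord]
      exact ((Nat.Prime.coprime_iff_not_dvd hp.out).2 hm).symm
    · intro x
      have := (stabSub A ⊤ (frattini H) hM hN).pow_mem hβ (p ^ s)
      have h3 := this x (Subgroup.mem_top _)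
      simpa using h3
  have hle := Cfsg.Agent.Helper1.le_pCore hn hpg
  rw [hcore] at hle
  have hmem : (⟨α, hα⟩ : A) ∈ stabSub A ⊤ (frattini H) hM hN := fun x _ => h x
  have := Subgroup.mem_bot.1 (hle hmem)
  exact congrArg Subtype.val this

end Cfsg.Agent.Lead.EssAb
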