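import Mathlib
import Cfsg.Agent.Lead.EssAbB

set_option autoImplicit false

/-!
Index of the Frattini subgroup and absence of invariant subgroups strictly between.
-/

namespace Cfsg.Agent.Lead.EssAb

variable {H : Type*} [CommGroup H] [Finite H] {p : ℕ} [hp : Fact p.Prime]

variable (A : Subgroup (MulAut H))

theorem exists_order_p (hpA : p ∣ Nat.card A) : ∃ α ∈ A, α ≠ 1 ∧ α ^ p = 1 := by
  obtain ⟨α₀, hα₀⟩ := exists_prime_orderOf_dvd_card' p hpA
  refine ⟨α₀.1, α₀.2, ?_, ?_⟩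
  · intro h1
    have : α₀ = 1 := Subtype.ext h1
    rw [this, orderOf_one] at hα₀
    exact hp.out.one_lt.ne hα₀
  · have := pow_orderOf_eq_one α₀
    rw [hα₀] at this
    exact_mod_cast congrArg Subtype.val this

omit [Finite H] in
theorem frattini_map (β : MulAut H) : (frattini H).map (β : H →* H) = frattini H := by
  have h1 : (frattini H).Characteristic := inferInstance
  exact (Subgroup.characteristic_iff_map_eq.1 h1) β

theorem index_frattini (hH : IsPGroup p H) (hcore : Cfsg.pCore p A = ⊥) (hpA : p ∣ Nat.card A)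
    (hrk : (frattini H).index ≤ p ^ 2) : (frattini H).index = p ^ 2 := by
  obtain ⟨α, hαA, hα1, hαp⟩ := exists_order_p A hpA
  obtain ⟨n, hn⟩ := IsPGroup.iff_card.mp hH
  have hdvd : (frattini H).index ∣ p ^ n := hn ▸ Subgroup.index_dvd_card _
  obtain ⟨j, -, hj⟩ := (Nat.dvd_prime_pow hp.out).1 hdvd
  have hj2 : j ≤ 2 := by
    rw [hj] at hrk
    exact (Nat.pow_le_pow_iff_right hp.out.one_lt).1 hrk
  interval_cases j
  · exfalso
    apply hα1
    apply eq_one_of_trivial_mod_frattini A hH hcore α hαA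
    intro x
    rw [pow_zero, Subgroup.index_eq_one] at hj
    rw [hj]
    exact Subgroup.mem_top _
  · exfalso
    apply hα1
    apply eq_one_of_trivial_mod_frattini A hH hcore α hαA
    intro x
    rw [pow_one] at hj
    exact inv_mul_apply_mem α (frattini H) (frattini_map α) hj hαp x
  · exact hj

omit [Finite H] in
theorem pow_apply_formula (β : MulAut H) (K : Subgroup H) (x : H)
    (hΦ : ∀ y ∈ frattini H, β y ∈ frattini H)
    (h2 : (x⁻¹ * β x)⁻¹ * β (x⁻¹ * β x) ∈ frattini H) (n : ℕ) :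
    ∃ f ∈ frattini H, (β ^ n) x = x * (x⁻¹ * β x) ^ n * f := by
  induction n with
  | zero => exact ⟨1, Subgroup.one_mem _, by simp⟩
  | succ n ih =>
    obtain ⟨f, hf, hfx⟩ := ih
    obtain ⟨k, hk⟩ : ∃ k, k = x⁻¹ * β x := ⟨_, rfl⟩
    obtain ⟨f₀, hf₀⟩ : ∃ f₀, f₀ = k⁻¹ * β k := ⟨_, rfl⟩
    have hβx : β x = x * k := by rw [hk]; group
    have hβk : β k = k * f₀ := by rw [hf₀]; group
    rw [← hk] at h2 hfx ⊢
    rw [← hf₀] at h2
    refine ⟨f₀ ^ n * β f, Subgroup.mul_mem _ (Subgroup.pow_mem _ h2 n) (hΦ f hf), ?_⟩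
    rw [pow_succ', MulAut.mul_apply, hfx, map_mul, map_mul, map_pow, hβx, hβk, mul_pow, pow_succ]
    ac_rfl

theorem no_between (hH : IsPGroup p H) (hcore : Cfsg.pCore p A = ⊥) (hpA : p ∣ Nat.card A)
    (hidx : (frattini H).index = p ^ 2) (K : Subgroup H)
    (hK : ∀ β ∈ A, K.map ((β : MulAut H) : H →* H) = K) (hΦK : frattini H ≤ K) :
    K = frattini H ∨ K = ⊤ := by
  by_contra hcon
  push Not at hcon
  obtain ⟨hne1, hne2⟩ := hcon
  obtain ⟨α, hαA, hα1, hαp⟩ := exists_order_p A hpA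
  have hmul := Subgroup.relIndex_mul_index hΦK
  rw [hidx] at hmul
  have hr1 : (frattini H).relIndex K ≠ 1 := by
    intro h
    rw [Subgroup.relIndex_eq_one] at h
    exact hne1 (le_antisymm h hΦK)
  have hi1 : K.index ≠ 1 := by
    intro h
    rw [Subgroup.index_eq_one] at h
    exact hne2 h
  obtain ⟨hrp, hip⟩ := (Nat.Prime.mul_eq_prime_sq_iff hp.out hr1 hi1).1 hmul
  have hKinv : ∀ β ∈ A, ∀ x ∈ K, (β : MulAut H) x ∈ K := by
    intro β hβ x hx
    rw [← hK β hβ]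
    exact ⟨x, hx, rfl⟩
  have hTinv : ∀ β ∈ A, ∀ x ∈ (⊤ : Subgroup H), (β : MulAut H) x ∈ (⊤ : Subgroup H) :=
    fun _ _ _ _ => Subgroup.mem_top _
  have hΦinv : ∀ β ∈ A, ∀ x ∈ frattini H, (β : MulAut H) x ∈ frattini H :=
    fun β _ x hx => frattini_inv β x hx
  have hn1 := stabSub_normal A ⊤ K hTinv hKinv
  have hn2 := stabSub_normal A K (frattini H) hKinv hΦinv
  have hn : (stabSub A ⊤ K hTinv hKinv ⊓ stabSub A K (frattini H) hKinv hΦinv).Normal :=
    Subgroup.normal_inf_normal _ _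
  have hpg : IsPGroup p ↥(stabSub A ⊤ K hTinv hKinv ⊓ stabSub A K (frattini H) hKinv hΦinv) := by
    rintro ⟨β, hβ⟩
    obtain ⟨hβ1, hβ2⟩ := Subgroup.mem_inf.1 hβ
    refine ⟨1, ?_⟩
    apply Subtype.ext
    apply Subtype.ext
    rw [pow_one]
    show (β : MulAut H) ^ p = 1
    apply eq_one_of_trivial_mod_frattini A hH hcore _ (A.pow_mem β.2 p)
    intro x
    have hk : x⁻¹ * (β : MulAut H) x ∈ K := hβ1 x (Subgroup.mem_top _)
    have hf : (x⁻¹ * (β : MulAut H) x)⁻¹ * (β : MulAut H) (x⁻¹ * (β : MulAut H) x) ∈ frattini H :=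
      hβ2 _ hk
    obtain ⟨f, hf', hfx⟩ := pow_apply_formula (β : MulAut H) K x (hΦinv β.1 β.2) hf p
    rw [hfx]
    have e : x⁻¹ * (x * (x⁻¹ * (β : MulAut H) x) ^ p * f) = (x⁻¹ * (β : MulAut H) x) ^ p * f := by
      group
    rw [e]
    exact Subgroup.mul_mem _ (Cfsg.Agent.Helper1.IsPGroup.pow_mem_frattini hH _) hf'
  have hle := Cfsg.Agent.Helper1.le_pCore hn hpg
  rw [hcore] at hle
  have hmem : (⟨α, hαA⟩ : A) ∈
      stabSub A ⊤ K hTinv hKinv ⊓ stabSub A K (frattini H) hKinv hΦinv := by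
    refine Subgroup.mem_inf.2 ⟨?_, ?_⟩
    · intro x _
      exact inv_mul_apply_mem α K (hK α hαA) hip hαp x
    · intro k hk
      exact inv_mul_apply_mem_rel α K (frattini H) (hK α hαA) (frattini_map α) hrp hαp k hk
  have := Subgroup.mem_bot.1 (hle hmem)
  exact hα1 (congrArg Subtype.val this)

end Cfsg.Agent.Lead.EssAb
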