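import Mathlib
import Cfsg.Agent.Lead.EssAbC

set_option autoImplicit false

/-!
The structure of the group: homocyclic of rank two.
-/

namespace Cfsg.Agent.Lead.EssAb

open Cfsg.Agent.Lead.EssPSq

variable {H : Type*} [CommGroup H] [Finite H] {p : ℕ} [hp : Fact p.Prime]

theorem ea_quot (hH : IsPGroup p H) (hidx : (frattini H).index = p ^ 2) :
    EA p (H ⧸ frattini H) where
  comm := fun a b => mul_comm a b
  exp := by
    intro a
    induction a using QuotientGroup.induction_on with
    | H h =>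
      rw [← QuotientGroup.mk_pow, QuotientGroup.eq_one_iff]
      exact Cfsg.Agent.Helper1.IsPGroup.pow_mem_frattini hH h
  card := by rw [← Subgroup.index_eq_card]; exact hidx

/-- a basis modulo the Frattini subgroup -/
theorem exists_basis (hH : IsPGroup p H) (hidx : (frattini H).index = p ^ 2) :
    ∃ x y : H, (∀ i j : ℕ, x ^ i * y ^ j ∈ frattini H → p ∣ i ∧ p ∣ j) ∧
      (∀ h : H, ∃ m n : ℤ, x ^ m * y ^ n = h) := by
  have hea := ea_quot hH hidx
  have hnt : ∃ v : H ⧸ frattini H, v ≠ 1 := by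
    by_contra hcon
    push Not at hcon
    have : Nat.card (H ⧸ frattini H) = 1 := by
      rw [Nat.card_eq_one_iff_unique]
      exact ⟨⟨fun a b => (hcon a).trans (hcon b).symm⟩, ⟨1⟩⟩
    rw [hea.card] at this
    have h2 := hp.out.one_lt
    nlinarith
  obtain ⟨x', hx'⟩ := hnt
  obtain ⟨y', hy'⟩ := exists_not_mem hea x'
  obtain ⟨x, rfl⟩ := QuotientGroup.mk_surjective x'
  obtain ⟨y, rfl⟩ := QuotientGroup.mk_surjective y'
  refine ⟨x, y, ?_, ?_⟩
  · intro i j hij
    have h1 : ((x : H ⧸ frattini H)) ^ ((i : ZMod p)).val * (y : H ⧸ frattini H) ^ ((j : ZMod p)).val =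
        (x : H ⧸ frattini H) ^ ((0 : ZMod p)).val * (y : H ⧸ frattini H) ^ ((0 : ZMod p)).val := by
      rw [pow_val_natCast (hea.exp _), pow_val_natCast (hea.exp _), ZMod.val_zero, pow_zero,
        pow_zero, one_mul, ← QuotientGroup.mk_pow, ← QuotientGroup.mk_pow, ← QuotientGroup.mk_mul,
        QuotientGroup.eq_one_iff]
      exact hij
    obtain ⟨ha, hb⟩ := coord_inj hea hx' hy' h1
    exact ⟨(ZMod.natCast_eq_zero_iff _ _).1 ha, (ZMod.natCast_eq_zero_iff _ _).1 hb⟩
  · have hcl : Subgroup.closure ({x, y} : Set H) ⊔ frattini H = ⊤ := by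
      rw [eq_top_iff]
      intro h _
      obtain ⟨a, b, hab⟩ := exists_coord hea hx' hy' (h : H ⧸ frattini H)
      rw [← QuotientGroup.mk_pow, ← QuotientGroup.mk_pow, ← QuotientGroup.mk_mul,
        QuotientGroup.eq] at hab
      have e : h = (x ^ a.val * y ^ b.val) * ((x ^ a.val * y ^ b.val)⁻¹ * h) := by group
      rw [e]
      apply Subgroup.mul_mem_sup
      · apply Subgroup.mul_mem
        · exact Subgroup.pow_mem _ (Subgroup.subset_closure (by simp)) _
        · exact Subgroup.pow_mem _ (Subgroup.subset_closure (by simp)) _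
      · have := Subgroup.inv_mem _ hab
        simpa using this
    have htop := frattini_nongenerating hcl
    intro h
    have : h ∈ Subgroup.closure ({x, y} : Set H) := htop ▸ Subgroup.mem_top h
    exact Subgroup.mem_closure_pair.1 this

omit [Finite H] in
/-- elements of order dividing `p ^ j` -/
def Om (p : ℕ) (j : ℕ) : Subgroup H := (powMonoidHom (p ^ j) : H →* H).ker

omit [Finite H] in
theorem mem_Om (j : ℕ) (x : H) : x ∈ Om p j ↔ x ^ p ^ j = 1 := by
  rw [Om, MonoidHom.mem_ker]
  rfl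

omit [Finite H] in
theorem Om_mono {i j : ℕ} (hij : i ≤ j) : (Om p i : Subgroup H) ≤ Om p j := by
  intro x hx
  rw [mem_Om] at hx ⊢
  obtain ⟨d, rfl⟩ := Nat.exists_eq_add_of_le hij
  rw [pow_add, pow_mul, hx, one_pow]

omit [Finite H] in
theorem map_eq_of_forall (K : Subgroup H) (h : ∀ β : MulAut H, ∀ x ∈ K, β x ∈ K) (β : MulAut H) :
    K.map (β : H →* H) = K := by
  apply le_antisymm
  · rintro _ ⟨x, hx, rfl⟩
    exact h β x hx
  · intro x hx
    exact ⟨β⁻¹ x, h β⁻¹ x hx, by simp⟩

variable (A : Subgroup (MulAut H))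

/-- the key structural facts -/
theorem exists_level (hH : IsPGroup p H) (hcore : Cfsg.pCore p A = ⊥) (hpA : p ∣ Nat.card A)
    (hidx : (frattini H).index = p ^ 2) :
    ∃ k : ℕ, 1 ≤ k ∧ (∀ h : H, h ^ p ^ k = 1) ∧ ∀ h : H, h ^ p ^ (k - 1) = 1 → h ∈ frattini H := by
  classical
  have hKinv : ∀ j : ℕ, ∀ β ∈ A, (Om p j ⊔ frattini H).map ((β : MulAut H) : H →* H) =
      Om p j ⊔ frattini H := by
    intro j β _
    apply map_eq_of_forall
    intro γ x hx
    rw [Subgroup.mem_sup] at hx ⊢
    obtain ⟨u, hu, v, hv, rfl⟩ := hx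
    refine ⟨γ u, ?_, γ v, frattini_inv γ v hv, by rw [map_mul]⟩
    rw [mem_Om] at hu ⊢
    rw [← map_pow, hu, map_one]
  have hex : ∃ j : ℕ, Om p j ⊔ frattini H = ⊤ := by
    obtain ⟨n, hn⟩ := IsPGroup.iff_card.mp hH
    refine ⟨n, ?_⟩
    rw [eq_top_iff]
    intro h _
    apply Subgroup.mem_sup_left
    rw [mem_Om, ← hn]
    exact pow_card_eq_one'
  have hΦtop : frattini H ≠ ⊤ := by
    intro h
    rw [← Subgroup.index_eq_one, hidx] at h
    have h2 := hp.out.one_lt
    nlinarith
  have hk1 : 1 ≤ Nat.find hex := by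
    rw [Nat.one_le_iff_ne_zero]
    intro h0
    have h1 := Nat.find_spec hex
    rw [h0] at h1
    apply hΦtop
    rw [← h1]
    apply le_antisymm le_sup_right
    apply sup_le _ le_rfl
    intro x hx
    rw [mem_Om, pow_zero, pow_one] at hx
    rw [hx]
    exact Subgroup.one_mem _
  refine ⟨Nat.find hex, hk1, ?_, ?_⟩
  · intro h
    have h1 := Nat.find_spec hex
    have h2 := frattini_nongenerating h1
    rw [← mem_Om, h2]
    exact Subgroup.mem_top _
  · intro h hh
    have hlt : Nat.find hex - 1 < Nat.find hex := by omega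
    have h1 := Nat.find_min hex hlt
    have h2 := no_between A hH hcore hpA hidx _ (hKinv (Nat.find hex - 1)) le_sup_right
    rcases h2 with h2 | h2
    · rw [← h2]
      apply Subgroup.mem_sup_left
      rw [mem_Om]
      exact hh
    · exact absurd h2 h1

end Cfsg.Agent.Lead.EssAb
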