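import Mathlib
import Cfsg.Agent.Lead.EssAbD

set_option autoImplicit false

/-!
The isomorphism with a homocyclic group, and the binomial argument.
-/

namespace Cfsg.Agent.Lead.EssAb

open Cfsg.Agent.Lead.EssPSq

variable {H : Type*} [CommGroup H] [Finite H] {p : ℕ} [hp : Fact p.Prime]

omit [Finite H] in
/-- the coordinate homomorphism -/
noncomputable def psi (q : ℕ) [NeZero q] (x y : H) (hx : x ^ q = 1) (hy : y ^ q = 1) :
    Multiplicative (ZMod q × ZMod q) →* H where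
  toFun v := x ^ (Multiplicative.toAdd v).1.val * y ^ (Multiplicative.toAdd v).2.val
  map_one' := by simp
  map_mul' v w := by
    simp only [toAdd_mul, Prod.fst_add, Prod.snd_add]
    rw [ZMod.val_add, ZMod.val_add, ← pow_eq_pow_mod _ hx, ← pow_eq_pow_mod _ hy, pow_add, pow_add]
    ac_rfl

omit [Finite H] in
theorem psi_apply (q : ℕ) [NeZero q] (x y : H) (hx : x ^ q = 1) (hy : y ^ q = 1)
    (v : Multiplicative (ZMod q × ZMod q)) :
    psi q x y hx hy v = x ^ (Multiplicative.toAdd v).1.val * y ^ (Multiplicative.toAdd v).2.val :=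
  rfl

omit [Finite H] in
theorem pow_val_intCast (q : ℕ) [NeZero q] (x : H) (hx : x ^ q = 1) (m : ℤ) :
    x ^ ((m : ZMod q)).val = x ^ m := by
  rw [zpow_eq_zpow_emod' m hx, ← ZMod.val_intCast, zpow_natCast]

variable (A : Subgroup (MulAut H))

theorem exists_iso (hH : IsPGroup p H) (hcore : Cfsg.pCore p A = ⊥) (hpA : p ∣ Nat.card A)
    (hidx : (frattini H).index = p ^ 2) :
    ∃ k : ℕ, 1 ≤ k ∧ Nonempty (H ≃* Multiplicative (ZMod (p ^ k) × ZMod (p ^ k))) ∧
      (∀ h : H, h ^ p ^ k = 1) ∧ ∀ h : H, h ^ p ^ (k - 1) = 1 → h ∈ frattini H := by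
  obtain ⟨k, hk1, hexp, hlow⟩ := exists_level A hH hcore hpA hidx
  obtain ⟨x, y, hb1, hb2⟩ := exists_basis hH hidx
  refine ⟨k, hk1, ?_, hexp, hlow⟩
  have P4 : ∀ s : ℕ, s ≤ k → ∀ i j : ℕ, x ^ i * y ^ j = 1 → p ^ s ∣ i ∧ p ^ s ∣ j := by
    intro s
    induction s with
    | zero => intro _ i j _; simp
    | succ s ih =>
      intro hs i j hij
      obtain ⟨⟨i', rfl⟩, ⟨j', rfl⟩⟩ := ih (by omega) i j hij
      have h1 : (x ^ i' * y ^ j') ^ p ^ s = 1 := by
        rw [mul_pow, ← pow_mul, ← pow_mul, mul_comm i', mul_comm j']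
        exact hij
      have h2 : (x ^ i' * y ^ j') ^ p ^ (k - 1) = 1 := by
        have := Om_mono (H := H) (p := p) (show s ≤ k - 1 by omega)
        have h3 := this ((mem_Om s _).2 h1)
        exact (mem_Om _ _).1 h3
      obtain ⟨⟨a, rfl⟩, ⟨b, rfl⟩⟩ := hb1 i' j' (hlow _ h2)
      exact ⟨⟨a, by rw [pow_succ]; ring⟩, ⟨b, by rw [pow_succ]; ring⟩⟩
  haveI : NeZero (p ^ k) := ⟨pow_ne_zero _ hp.out.ne_zero⟩
  have hbij : Function.Bijective (psi (p ^ k) x y (hexp x) (hexp y)) := by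
    constructor
    · rw [injective_iff_map_eq_one]
      intro v hv
      rw [psi_apply] at hv
      obtain ⟨h1, h2⟩ := P4 k le_rfl _ _ hv
      have e1 : (Multiplicative.toAdd v).1 = 0 := by
        rw [← ZMod.val_eq_zero]
        exact Nat.eq_zero_of_dvd_of_lt h1 (ZMod.val_lt _)
      have e2 : (Multiplicative.toAdd v).2 = 0 := by
        rw [← ZMod.val_eq_zero]
        exact Nat.eq_zero_of_dvd_of_lt h2 (ZMod.val_lt _)
      have : Multiplicative.toAdd v = 0 := Prod.ext e1 e2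
      exact this
    · intro h
      obtain ⟨m, n, hmn⟩ := hb2 h
      refine ⟨Multiplicative.ofAdd ((m : ZMod (p ^ k)), (n : ZMod (p ^ k))), ?_⟩
      rw [psi_apply]
      simp only [toAdd_ofAdd]
      rw [pow_val_intCast _ _ (hexp x), pow_val_intCast _ _ (hexp y), hmn]
  exact ⟨(MulEquiv.ofBijective _ hbij).symm⟩

/-- the binomial computation, additively -/
theorem key_add {M : Type*} [AddCommGroup M] {p : ℕ} (hp : p.Prime) (hp5 : 5 ≤ p)
    (a : AddMonoid.End M) (ha : a ^ p = 1)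
    (hN2 : ∀ h : M, ∃ z : M, (a - 1) ((a - 1) h) = p • z) :
    ∀ h : M, ∃ w : M, p • ((a - 1) h) = (p * p) • w := by
  obtain ⟨N, hN⟩ : ∃ N : AddMonoid.End M, N = a - 1 := ⟨_, rfl⟩
  rw [← hN] at hN2 ⊢
  have haN : a = N + 1 := by rw [hN]; abel
  have hNn : ∀ (n : ℕ) (f : AddMonoid.End M) (z : M), f (n • z) = n • f z :=
    fun n f z => map_nsmul f n z
  have hpow2 : ∀ (m : ℕ) (h : M), ∃ z : M, (N ^ (m + 2)) h = p • z := by
    intro m h
    obtain ⟨z, hz⟩ := hN2 h
    refine ⟨(N ^ m) z, ?_⟩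
    rw [pow_add, pow_two]
    show (N ^ m) (N (N h)) = _
    rw [hz, hNn]
  have hpow4 : ∀ (m : ℕ) (h : M), ∃ w : M, (N ^ (m + 4)) h = (p * p) • w := by
    intro m h
    obtain ⟨z, hz⟩ := hN2 h
    obtain ⟨z', hz'⟩ := hN2 z
    refine ⟨(N ^ m) z', ?_⟩
    have e : (4 : ℕ) = 2 + 2 := rfl
    rw [pow_add, e, pow_add, pow_two]
    show (N ^ m) (N (N (N (N h)))) = _
    rw [hz, hNn, hNn, hz', hNn, hNn, mul_smul]
  intro h
  have hexp : (a ^ p) h = ∑ m ∈ Finset.range (p + 1), (p.choose m) • (N ^ m) h := by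
    rw [haN, (Commute.one_right N).add_pow]
    have hsum : ∀ (s : Finset ℕ) (f : ℕ → AddMonoid.End M) (x : M),
        (∑ m ∈ s, f m) x = ∑ m ∈ s, (f m) x := by
      intro s f x
      induction s using Finset.induction_on with
      | empty => simp
      | insert i s hi ih =>
        rw [Finset.sum_insert hi, Finset.sum_insert hi, ← ih]
        rfl
    rw [hsum]
    apply Finset.sum_congr rfl
    intro m _
    rw [one_pow, mul_one]
    show (N ^ m) ((p.choose m : AddMonoid.End M) h) = _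
    rw [AddMonoid.End.natCast_apply, hNn]
  rw [ha] at hexp
  obtain ⟨r, hr⟩ : ∃ r, p = r + 5 := Nat.exists_eq_add_of_le' hp5
  have hp2 : p = (r + 3) + 2 := by omega
  have hsplit : ∑ m ∈ Finset.range (p + 1), (p.choose m) • (N ^ m) h =
      (∑ m ∈ Finset.range (r + 3), (p.choose (m + 2)) • (N ^ (m + 2)) h) +
        (p.choose 1) • (N ^ 1) h + (p.choose 0) • (N ^ 0) h + (p.choose p) • (N ^ p) h := by
    rw [Finset.sum_range_succ]
    congr 1
    nth_rewrite 1 [hp2]
    rw [Finset.sum_range_succ', Finset.sum_range_succ']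
  rw [hsplit] at hexp
  simp only [Nat.choose_one_right, Nat.choose_zero_right, Nat.choose_self, pow_one, pow_zero,
    one_smul] at hexp
  have hmid : ∃ w : M, ∑ m ∈ Finset.range (r + 3), (p.choose (m + 2)) • (N ^ (m + 2)) h =
      (p * p) • w := by
    have : ∀ m ∈ Finset.range (r + 3), ∃ w : M, (p.choose (m + 2)) • (N ^ (m + 2)) h = (p * p) • w := by
      intro m hm
      rw [Finset.mem_range] at hm
      obtain ⟨c, hc⟩ := hp.dvd_choose_self (k := m + 2) (by omega) (by omega)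
      obtain ⟨z, hz⟩ := hpow2 m h
      refine ⟨c • z, ?_⟩
      rw [hc, hz, smul_smul, smul_smul]
      congr 1
      ring
    choose! w hw using this
    refine ⟨∑ m ∈ Finset.range (r + 3), w m, ?_⟩
    rw [Finset.smul_sum]
    exact Finset.sum_congr rfl hw
  obtain ⟨w1, hw1⟩ := hmid
  obtain ⟨w2, hw2⟩ : ∃ w : M, (N ^ p) h = (p * p) • w := by
    have : p = (r + 1) + 4 := by omega
    rw [this]
    obtain ⟨w, hw⟩ := hpow4 (r + 1) h
    exact ⟨w, by rw [hw, ← this]⟩
  rw [hw1, hw2] at hexp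
  refine ⟨-(w1 + w2), ?_⟩
  have h1 : (1 : AddMonoid.End M) h = h := rfl
  rw [h1] at hexp
  rw [smul_neg, smul_add]
  obtain ⟨X, hX⟩ : ∃ X : M, X = p • N h := ⟨_, rfl⟩
  rw [← hX] at hexp ⊢
  have h2 : X = ((p * p) • w1 + X + h + (p * p) • w2) - h - (p * p) • w1 - (p * p) • w2 := by
    abel
  rw [← hexp] at h2
  rw [h2]
  abel

end Cfsg.Agent.Lead.EssAb
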