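import Mathlib
import Cfsg.Agent.Lead.EssAbE

set_option autoImplicit false

/-!
The binomial argument excluding large exponent for `p ≥ 5`, and the abstract core statement.
-/

namespace Cfsg.Agent.Lead.EssAb

open Cfsg.Agent.Lead.EssPSq

variable {H : Type*} [CommGroup H] [Finite H] {p : ℕ} [hp : Fact p.Prime]

/-- an invariant subgroup of index `p` above the Frattini subgroup -/
theorem exists_inv_max (hH : IsPGroup p H) (hidx : (frattini H).index = p ^ 2) (α : MulAut H)
    (hα : α ^ p = 1) :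
    ∃ K : Subgroup H, K.index = p ∧ (frattini H).relIndex K = p ∧
      K.map (α : H →* H) = K := by
  have hea := ea_quot hH hidx
  have hβp : (QuotientGroup.congr (frattini H) (frattini H) α (frattini_map α)) ^ p = 1 := by
    ext q
    induction q using QuotientGroup.induction_on with
    | H y => rw [congr_pow_mk, hα]; rfl
  obtain ⟨x, hx1, hx⟩ := exists_fixed hea _ hβp
  have hcardF : Nat.card (Subgroup.zpowers x) = p := card_zpowers_of_ne hea hx1
  obtain ⟨K, hK⟩ : ∃ K : Subgroup H,
      K = (Subgroup.zpowers x).comap (QuotientGroup.mk' (frattini H)) := ⟨_, rfl⟩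
  have hmemK : ∀ y : H, y ∈ K ↔ ((y : H ⧸ frattini H)) ∈ Subgroup.zpowers x := by
    intro y; rw [hK]; rfl
  have hΦK : frattini H ≤ K := by
    intro y hy
    rw [hmemK, (QuotientGroup.eq_one_iff y).2 hy]
    exact one_mem _
  have hKidx : K.index = p := by
    rw [hK, Subgroup.index_comap_of_surjective _ (QuotientGroup.mk'_surjective _)]
    have := Subgroup.card_mul_index (Subgroup.zpowers x)
    rw [hcardF, hea.card, pow_two] at this
    exact Nat.eq_of_mul_eq_mul_left hp.out.pos this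
  have hrel : (frattini H).relIndex K = p := by
    have := Subgroup.relIndex_mul_index hΦK
    rw [hKidx, hidx, pow_two] at this
    exact Nat.eq_of_mul_eq_mul_right hp.out.pos this
  refine ⟨K, hKidx, hrel, ?_⟩
  have hle : K.map (α : H →* H) ≤ K := by
    rintro _ ⟨y, hy, rfl⟩
    rw [SetLike.mem_coe, hmemK] at hy
    rw [hmemK]
    obtain ⟨n, hn⟩ := Subgroup.mem_zpowers_iff.1 hy
    have h1 : ((((α : H →* H) y : H)) : H ⧸ frattini H) =
        (QuotientGroup.congr (frattini H) (frattini H) α (frattini_map α)) (y : H ⧸ frattini H) := by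
      rw [QuotientGroup.congr_mk]; rfl
    rw [h1, ← hn, map_zpow, hx]
    exact Subgroup.zpow_mem _ (Subgroup.mem_zpowers x) n
  apply Subgroup.eq_of_le_of_card_ge hle
  rw [Subgroup.card_map_of_injective (show Function.Injective ((α : H →* H)) from α.injective)]

theorem sq_mem_frattini (hH : IsPGroup p H) (hidx : (frattini H).index = p ^ 2) (α : MulAut H)
    (hα : α ^ p = 1) (h : H) : (h⁻¹ * α h)⁻¹ * α (h⁻¹ * α h) ∈ frattini H := by
  obtain ⟨K, hKi, hri, hKm⟩ := exists_inv_max hH hidx α hα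
  have h1 := inv_mul_apply_mem α K hKm hKi hα h
  exact inv_mul_apply_mem_rel α K (frattini H) hKm (frattini_map α) hri hα _ h1

/-- Frattini elements are `p`-th powers -/
theorem frattini_le_pow (f : H) (hf : f ∈ frattini H) : ∃ z : H, f = z ^ p := by
  have hA : ∀ a : H ⧸ (powMonoidHom p : H →* H).range, a ^ p = 1 := by
    intro a
    induction a using QuotientGroup.induction_on with
    | H y =>
      rw [← QuotientGroup.mk_pow, QuotientGroup.eq_one_iff]
      exact ⟨y, rfl⟩
  have h1 := Cfsg.Agent.Helper1.frattini_le_ker_of_exponent_prime (p := p) hA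
    (QuotientGroup.mk' (powMonoidHom p : H →* H).range) hf
  rw [QuotientGroup.ker_mk'] at h1
  obtain ⟨z, hz⟩ := h1
  exact ⟨z, hz.symm⟩

omit [Finite H] in
theorem key_mul (hp5 : 5 ≤ p) (α : MulAut H) (hα : α ^ p = 1)
    (hN2 : ∀ h : H, ∃ z : H, (h⁻¹ * α h)⁻¹ * α (h⁻¹ * α h) = z ^ p) :
    ∀ h : H, ∃ w : H, (h⁻¹ * α h) ^ p = w ^ (p * p) := by
  obtain ⟨a, ha_def⟩ : ∃ a : AddMonoid.End (Additive H),
      a = MonoidHom.toAdditive (α : H →* H) := ⟨_, rfl⟩
  have ha_apply : ∀ x : H, a (Additive.ofMul x) = Additive.ofMul (α x) := by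
    intro x; rw [ha_def]; rfl
  have hapow : ∀ (n : ℕ) (x : H), (a ^ n) (Additive.ofMul x) = Additive.ofMul ((α ^ n) x) := by
    intro n
    induction n with
    | zero => intro x; rfl
    | succ n ih =>
      intro x
      rw [pow_succ, pow_succ]
      show (a ^ n) (a (Additive.ofMul x)) = Additive.ofMul ((α ^ n) (α x))
      rw [ha_apply, ih]
  have ha : a ^ p = 1 := by
    refine DFunLike.ext _ _ (fun x => ?_)
    have hx : x = Additive.ofMul (Additive.toMul x) := rfl
    rw [hx, hapow, hα]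
    rfl
  have hsub : ∀ x : H, (a - 1) (Additive.ofMul x) = Additive.ofMul (x⁻¹ * α x) := by
    intro x
    show a (Additive.ofMul x) - Additive.ofMul x = _
    rw [ha_apply, ← ofMul_div, div_eq_mul_inv, mul_comm]
  intro h
  obtain ⟨w, hw⟩ := key_add hp.out hp5 a ha (fun m => by
      have hm : m = Additive.ofMul (Additive.toMul m) := rfl
      obtain ⟨z, hz⟩ := hN2 (Additive.toMul m)
      refine ⟨Additive.ofMul z, ?_⟩
      rw [hm, hsub, hsub, hz]
      rfl) (Additive.ofMul h)
  refine ⟨Additive.toMul w, ?_⟩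
  rw [hsub] at hw
  have := congrArg Additive.toMul hw
  exact this

variable (A : Subgroup (MulAut H))

theorem no_big (hH : IsPGroup p H) (hcore : Cfsg.pCore p A = ⊥) (hpA : p ∣ Nat.card A)
    (hidx : (frattini H).index = p ^ 2) (hp5 : 5 ≤ p) (k : ℕ) (hk2 : 2 ≤ k)
    (hlow : ∀ h : H, h ^ p ^ (k - 1) = 1 → h ∈ frattini H) : False := by
  obtain ⟨α, hαA, hα1, hαp⟩ := exists_order_p A hpA
  apply hα1
  apply eq_one_of_trivial_mod_frattini A hH hcore α hαA
  intro h
  obtain ⟨w, hw⟩ := key_mul hp5 α hαp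
    (fun h => frattini_le_pow _ (sq_mem_frattini hH hidx α hαp h)) h
  have h1 : (h⁻¹ * α h * (w ^ p)⁻¹) ^ p = 1 := by
    rw [mul_pow, inv_pow, ← pow_mul, hw, mul_inv_cancel]
  have h2 : h⁻¹ * α h * (w ^ p)⁻¹ ∈ frattini H := by
    apply hlow
    obtain ⟨j, hj⟩ : ∃ j, k - 1 = j + 1 := ⟨k - 2, by omega⟩
    rw [hj, pow_succ', pow_mul, h1, one_pow]
  have h3 : w ^ p ∈ frattini H := Cfsg.Agent.Helper1.IsPGroup.pow_mem_frattini hH w
  have := Subgroup.mul_mem _ h2 h3
  simpa using this

theorem core (hH : IsPGroup p H) (hcore : Cfsg.pCore p A = ⊥) (hpA : p ∣ Nat.card A)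
    (hrk : (frattini H).index ≤ p ^ 2) :
    ((∀ h : H, h ^ p = 1) ∧ Nat.card H = p ^ 2) ∨
      (p ≤ 3 ∧ ∃ k : ℕ, Nonempty (H ≃* Multiplicative (ZMod (p ^ k) × ZMod (p ^ k)))) := by
  have hidx := index_frattini A hH hcore hpA hrk
  obtain ⟨k, hk1, ⟨e⟩, hexp, hlow⟩ := exists_iso A hH hcore hpA hidx
  by_cases hk : k = 1
  · left
    subst hk
    refine ⟨fun h => by simpa using hexp h, ?_⟩
    rw [Nat.card_congr e.toEquiv, pow_one, Nat.card_congr Multiplicative.toAdd, Nat.card_prod,
      Nat.card_zmod, pow_two]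
  · right
    refine ⟨?_, k, ⟨e⟩⟩
    by_contra hp3
    push Not at hp3
    have hp5 : 5 ≤ p := by
      have hpp := hp.out
      rcases Nat.lt_or_ge p 5 with h | h
      · exfalso
        have : p = 4 := by omega
        rw [this] at hpp
        exact absurd hpp (by norm_num)
      · exact h
    exact no_big A hH hcore hpA hidx hp5 k (by omega) hlow

end Cfsg.Agent.Lead.EssAb
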