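import Mathlib
import Cfsg.Prelude.Def_FusionSystem
import Cfsg.Prelude.Def_Transfer
import Cfsg.Agent.Lead.EssPSq3
import Cfsg.Agent.Lead.StronglyEmbedded
import Cfsg.Agent.Helper1.Cores
import Cfsg.Agent.Helper4.UpperPSeries2

set_option autoImplicit false

/-!
An essential subgroup of order `p²` is elementary abelian with `SL₂(p)` in its automizer.
-/

namespace Cfsg.Agent.Lead.EssPSq

open Cfsg

variable {H : Type*} [Group H] [Finite H] {p : ℕ} [hp : Fact p.Prime]

theorem mulAut_comm_of_isCyclic [IsCyclic H] (γ δ : MulAut H) : γ * δ = δ * γ := by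
  apply (IsCyclic.mulAutMulEquiv H).injective
  rw [map_mul, map_mul, mul_comm]

theorem main (hcard : Nat.card H = p ^ 2) (A : Subgroup (MulAut H)) (hpA : p ∣ Nat.card A)
    (hcore : Cfsg.pCore p A = ⊥) :
    ((∀ a b : H, a * b = b * a) ∧ ∀ a : H, a ^ p = 1) ∧
      ∃ K : Subgroup A, Nonempty (K ≃* SL2 p) := by
  obtain ⟨α₀, hα₀⟩ := exists_prime_orderOf_dvd_card' p hpA
  have hα₀1 : α₀ ≠ 1 := by
    intro h1
    rw [h1, orderOf_one] at hα₀
    exact hp.out.one_lt.ne hα₀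
  -- the subgroup generated by `α₀` is not normal
  have hnn : ¬ (Subgroup.zpowers α₀).Normal := by
    intro hn
    have hpg : IsPGroup p (Subgroup.zpowers α₀) := by
      apply IsPGroup.of_card (n := 1)
      rw [Nat.card_zpowers, hα₀, pow_one]
    have := Cfsg.Agent.Helper1.le_pCore hn hpg
    rw [hcore] at this
    exact hα₀1 (Subgroup.mem_bot.1 (this (Subgroup.mem_zpowers α₀)))
  have hex : ∃ g : A, g * α₀ * g⁻¹ ∉ Subgroup.zpowers α₀ := by
    by_contra hcon
    push Not at hcon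
    apply hnn
    constructor
    intro n hn g
    obtain ⟨k, rfl⟩ := Subgroup.mem_zpowers_iff.1 hn
    have : g * α₀ ^ k * g⁻¹ = (g * α₀ * g⁻¹) ^ k := by
      rw [conj_zpow]
    rw [this]
    exact Subgroup.zpow_mem _ (hcon g) k
  obtain ⟨g, hg⟩ := hex
  obtain ⟨β₀, hβ₀⟩ : ∃ β₀ : A, β₀ = g * α₀ * g⁻¹ := ⟨_, rfl⟩
  rw [← hβ₀] at hg
  have hαp : (α₀ : MulAut H) ^ p = 1 := by
    have := pow_orderOf_eq_one α₀
    rw [hα₀] at this
    exact_mod_cast congrArg Subtype.val this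
  have hβp : (β₀ : MulAut H) ^ p = 1 := by
    have h1 : β₀ ^ p = 1 := by
      rw [hβ₀, conj_pow, ← hα₀, pow_orderOf_eq_one]
      group
    exact_mod_cast congrArg Subtype.val h1
  have hβα : (β₀ : MulAut H) ∉ Subgroup.zpowers (α₀ : MulAut H) := by
    intro hmem
    apply hg
    obtain ⟨k, hk⟩ := Subgroup.mem_zpowers_iff.1 hmem
    rw [Subgroup.mem_zpowers_iff]
    refine ⟨k, Subtype.ext ?_⟩
    rw [← hk]
    simp
  have hcomm : ∀ a b : H, a * b = b * a := IsPGroup.commutative_of_card_eq_prime_sq hcard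
  have hexp : ∀ a : H, a ^ p = 1 := by
    intro a
    have hdvd : orderOf a ∣ p ^ 2 := hcard ▸ orderOf_dvd_natCard a
    obtain ⟨k, hk, hk2⟩ := (Nat.dvd_prime_pow hp.out).1 hdvd
    have hk1 : k ≠ 2 := by
      rintro rfl
      -- `H` is cyclic, so its automorphism group is abelian
      haveI : IsCyclic H := isCyclic_of_orderOf_eq_card a (by rw [hk2, hcard])
      apply hg
      have : β₀ = α₀ := by
        rw [hβ₀]
        apply Subtype.ext
        have := mulAut_comm_of_isCyclic (g : MulAut H) (α₀ : MulAut H)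
        simp only [Subgroup.coe_mul, Subgroup.coe_inv]
        rw [this, mul_assoc, mul_inv_cancel, mul_one]
      rw [this]
      exact Subgroup.mem_zpowers α₀
    have hk' : k ≤ 1 := by omega
    have : orderOf a ∣ p := by
      rw [hk2]
      calc p ^ k ∣ p ^ 1 := pow_dvd_pow p hk'
        _ = p := pow_one p
    exact orderOf_dvd_iff_pow_eq_one.1 this
  refine ⟨⟨hcomm, hexp⟩, ?_⟩
  have hEA : EA p H := ⟨hcomm, hexp, hcard⟩
  have hα1 : (α₀ : MulAut H) ≠ 1 := by
    intro h1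
    apply hα₀1
    exact Subtype.ext h1
  exact main_aux hEA A α₀ β₀ α₀.2 β₀.2 hαp hβp hα1 hβα

universe u

theorem essential_sq {Ω : Type u} [Group Ω] {S : Subgroup Ω} (p : ℕ) [Fact p.Prime]
    (F : Cfsg.FusionSystem S) (H : Subgroup Ω) (hH : F.IsEssential p H)
    (hcard : Nat.card H = p ^ 2) :
    Cfsg.IsElementaryAbelian p H ∧
      ∃ K : Subgroup ↥(F.autGroup H),
        Nonempty (↥K ≃* Matrix.SpecialLinearGroup (Fin 2) (ZMod p)) := by
  haveI : Finite ↥H := Nat.finite_of_card_ne_zero (by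
    rw [hcard]; exact pow_ne_zero _ (Fact.out : p.Prime).ne_zero)
  obtain ⟨-, -, hn, E, hE⟩ := hH
  haveI := hn
  have hcomm : ∀ a b : ↥H, a * b = b * a := IsPGroup.commutative_of_card_eq_prime_sq hcard
  have hInn : Cfsg.Inn ↥H = ⊥ := by
    rw [eq_bot_iff]
    rintro _ ⟨a, rfl⟩
    rw [Subgroup.mem_bot]
    ext x
    simp only [MulAut.conj_apply, MulAut.one_apply]
    rw [hcomm a x, mul_assoc, mul_inv_cancel, mul_one]
  have hN : (Cfsg.Inn ↥H).subgroupOf (F.autGroup H) = ⊥ := by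
    rw [hInn, Subgroup.bot_subgroupOf]
  have e : (↥(F.autGroup H) ⧸ (Cfsg.Inn ↥H).subgroupOf (F.autGroup H)) ≃* ↥(F.autGroup H) :=
    (QuotientGroup.quotientMulEquivOfEq hN).trans QuotientGroup.quotientBot
  have hpX := hE.1
  have hcoreX := Cfsg.Agent.Lead.pCore_eq_bot_of_stronglyPEmbedded p E hE
  have hpA : p ∣ Nat.card ↥(F.autGroup H) := by
    rw [← Nat.card_congr e.toEquiv]; exact hpX
  have hcoreA : Cfsg.pCore p ↥(F.autGroup H) = ⊥ := by
    rw [← Cfsg.Agent.Helper4.pCore_map_mulEquiv e, hcoreX, Subgroup.map_bot]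
  obtain ⟨⟨h1, h2⟩, K, hK⟩ := main hcard (F.autGroup H) hpA hcoreA
  refine ⟨⟨⟨⟨fun a b => h1 a b⟩⟩, ?_⟩, K, hK⟩
  intro a ha
  have h3 := congrArg Subtype.val (h2 ⟨a, ha⟩)
  simpa using h3

end Cfsg.Agent.Lead.EssPSq
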