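import Mathlib
import Cfsg.Agent.Lead.EssAbF
import Cfsg.Agent.Lead.EssPSq4

set_option autoImplicit false

/-!
Abelian essential subgroups of rank two.
-/

namespace Cfsg.Agent.Lead.EssAb

theorem core' {H : Type*} [Group H] [Finite H] {p : ℕ} [hp : Fact p.Prime]
    (hab : ∀ a b : H, a * b = b * a) (A : Subgroup (MulAut H))
    (hH : IsPGroup p H) (hcore : Cfsg.pCore p A = ⊥) (hpA : p ∣ Nat.card A)
    (hrk : (frattini H).index ≤ p ^ 2) :
    ((∀ h : H, h ^ p = 1) ∧ Nat.card H = p ^ 2) ∨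
      (p ≤ 3 ∧ ∃ k : ℕ, Nonempty (H ≃* Multiplicative (ZMod (p ^ k) × ZMod (p ^ k)))) := by
  letI : CommGroup H := { ‹Group H› with mul_comm := hab }
  exact core A hH hcore hpA hrk

universe u

theorem essential_ab {Ω : Type u} [Group Ω] {S : Subgroup Ω} [Finite S] (p : ℕ) [Fact p.Prime]
    (hS : IsPGroup p S)
    (F : Cfsg.FusionSystem S) (H : Subgroup Ω) (hH : F.IsEssential p H)
    (hab : IsMulCommutative ↥H) (hrk : (frattini ↥H).index ≤ p ^ 2) :
    (Cfsg.IsElementaryAbelian p H ∧ Nat.card H = p ^ 2) ∨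
      (p ≤ 3 ∧ ∃ k : ℕ, Nonempty (↥H ≃* Multiplicative (ZMod (p ^ k) × ZMod (p ^ k)))) := by
  have hHS : H ≤ S := hH.1.1
  haveI : Finite ↥H := Finite.of_injective (Subgroup.inclusion hHS) (Subgroup.inclusion_injective hHS)
  have hHp : IsPGroup p ↥H := hS.of_injective (Subgroup.inclusion hHS) (Subgroup.inclusion_injective hHS)
  obtain ⟨-, -, hn, E, hE⟩ := hH
  haveI := hn
  have hcomm : ∀ a b : ↥H, a * b = b * a := hab.is_comm.comm
  have hInn : Cfsg.Inn ↥H = ⊥ := by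
    rw [eq_bot_iff]
    rintro _ ⟨a, rfl⟩
    rw [Subgroup.mem_bot]
    ext x
    simp only [MulAut.conj_apply, MulAut.one_apply]
    rw [hcomm a x, mul_assoc, mul_inv_cancel, mul_one]
  have hN : (Cfsg.Inn ↥H).subgroupOf (F.autGroup H) = ⊥ := by
    rw [hInn, Subgroup.bot_subgroupOf]
  have e : (↥(F.autGroup H) ⧸ (Cfsg.Inn ↥H).subgroupOf (F.autGroup H)) ≃* ↥(F.autGroup H) :=
    (QuotientGroup.quotientMulEquivOfEq hN).trans QuotientGroup.quotientBot
  have hpX := hE.1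
  have hcoreX := Cfsg.Agent.Lead.pCore_eq_bot_of_stronglyPEmbedded p E hE
  have hpA : p ∣ Nat.card ↥(F.autGroup H) := by
    rw [← Nat.card_congr e.toEquiv]; exact hpX
  have hcoreA : Cfsg.pCore p ↥(F.autGroup H) = ⊥ := by
    rw [← Cfsg.Agent.Helper4.pCore_map_mulEquiv e, hcoreX, Subgroup.map_bot]
  rcases core' hcomm (F.autGroup H) hHp hcoreA hpA hrk with ⟨h1, h2⟩ | h
  · left
    refine ⟨⟨hab, ?_⟩, h2⟩
    intro a ha
    have h3 := congrArg Subtype.val (h1 ⟨a, ha⟩)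
    simpa using h3
  · right
    exact h

end Cfsg.Agent.Lead.EssAb
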