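import Mathlib
import Cfsg.Agent.Lead.DicksonN

set_option autoImplicit false

/-! # Dickson's theorem for `SL₂`, part O: the exceptional case for `uu 1`, `ll λ` -/

namespace Cfsg.Agent.Lead.DicksonO

open Matrix Cfsg.Agent.Lead.DicksonA Cfsg.Agent.Lead.DicksonB Cfsg.Agent.Lead.DicksonC
  Cfsg.Agent.Lead.DicksonD Cfsg.Agent.Lead.DicksonE Cfsg.Agent.Lead.DicksonF
  Cfsg.Agent.Lead.DicksonG Cfsg.Agent.Lead.DicksonH Cfsg.Agent.Lead.DicksonI
  Cfsg.Agent.Lead.DicksonJ Cfsg.Agent.Lead.DicksonK Cfsg.Agent.Lead.DicksonM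
  Cfsg.Agent.Lead.DicksonN
open scoped LinearAlgebra.Projectivization MatrixGroups

variable {E : Type*} [Field E]

/-- if `T` has three elements then the characteristic is three -/
theorem three_eq_zero (p : ℕ) [Fact p.Prime] [CharP E p] (L : Subgroup SL(2, E)) [Finite L]
    (hu : uu 1 ∈ L) (hr : Nat.card (TT L) = 3) : p = 3 ∧ (3 : E) = 0 := by
  have h1 := p_dvd_r p L hu
  rw [hr] at h1
  have hp3 : p = 3 := (Nat.prime_dvd_prime_iff_eq (Fact.out : p.Prime) Nat.prime_three).1 h1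
  refine ⟨hp3, ?_⟩
  have := CharP.cast_eq_zero E p
  rw [hp3] at this
  exact_mod_cast this

open Classical in
/-- if `T` has three elements then `T = {0, 1, -1}` -/
theorem T_eq (h2 : (2 : E) ≠ 0) (L : Subgroup SL(2, E)) [Finite L]
    (hu : uu 1 ∈ L) (hr : Nat.card (TT L) = 3) : ∀ t ∈ TT L, t = 0 ∨ t = 1 ∨ t = -1 := by
  have h1T : (1 : E) ∈ TT L := hu
  have hsub : ({0, 1, -1} : Finset E) ⊆ Tfin L := by
    intro t ht
    rw [Finset.mem_insert, Finset.mem_insert, Finset.mem_singleton] at ht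
    rw [mem_Tfin]
    rcases ht with rfl | rfl | rfl
    · exact (TT L).zero_mem
    · exact h1T
    · exact (TT L).neg_mem h1T
  have hc : ({0, 1, -1} : Finset E).card = 3 := by
    rw [Finset.card_insert_of_notMem, Finset.card_pair]
    · intro h; apply h2; linear_combination h
    · rw [Finset.mem_insert, Finset.mem_singleton]
      rintro (h | h)
      · exact zero_ne_one h
      · exact one_ne_zero (α := E) (by linear_combination h)
  have heq : ({0, 1, -1} : Finset E) = Tfin L :=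
    Finset.eq_of_subset_of_card_le hsub (by rw [hc, card_Tfin, hr])
  intro t ht
  have : t ∈ ({0, 1, -1} : Finset E) := by rw [heq, mem_Tfin]; exact ht
  rw [Finset.mem_insert, Finset.mem_insert, Finset.mem_singleton] at this
  exact this

section Main

variable [IsAlgClosed E]

open Classical in
/-- in the exceptional case `λ² = -1` or `λ⁴ = -1` -/
theorem exceptional_alg (p : ℕ) [Fact p.Prime] [CharP E p] (h2 : (2 : E) ≠ 0)
    (L : Subgroup SL(2, E)) [Finite L] (hu : uu 1 ∈ L)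
    (lam : E) (hlam : lam ≠ 0) (hl : ll lam ∈ L)
    (hr : Nat.card (TT L) = 3) (hs : (orb L (inf : PL E)).ncard = 10)
    (hμT : 1 / lam ∉ TT L) : lam ^ 2 = -1 ∨ lam ^ 4 = -1 := by
  obtain ⟨μ, hμ⟩ : ∃ μ, μ = 1 / lam := ⟨_, rfl⟩
  rw [← hμ] at hμT
  have hμlam : lam * μ = 1 := by rw [hμ]; field_simp
  have h3 : (3 : E) = 0 := (three_eq_zero p L hu hr).2
  have h1T : (1 : E) ∈ TT L := hu
  have hT := T_eq h2 L hu hr
  have hlam1 : lam ≠ 1 := by
    rintro rfl
    apply hμT; rw [hμ]; simpa using h1T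
  have hlamm1 : lam ≠ -1 := by
    rintro rfl
    apply hμT; rw [hμ]
    have : (1 : E) / -1 = -1 := by norm_num
    rw [this]; exact (TT L).neg_mem h1T
  -- `pt 0` lies in the orbit
  have hpt0 : (pt 0 : PL E) ∈ Of L := by
    obtain ⟨x, hx, hfix⟩ := exists_fixed_mem_Of p h2 L hu (ll lam) (ll_mem_Uf h2 L lam hlam hl)
    rwa [(ll_fix_iff lam hlam x).1 hfix] at hx
  -- the points `pt (b μ)`
  have hptb : ∀ b ∈ TT L, (pt (b * μ) : PL E) ∈ Of L := by
    intro b hb
    rcases hT b hb with rfl | rfl | rfl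
    · rw [zero_mul]; exact hpt0
    · rw [one_mul, hμ, ← ll_smul_inf lam hlam]
      exact smul_mem_Of L _ (inf_mem_Of L) _ hl
    · have : (-1 : E) * μ = 1 / (-lam) := by rw [hμ]; field_simp
      rw [this, ← ll_smul_inf (-lam) (neg_ne_zero.2 hlam), ← ll_inv]
      exact smul_mem_Of L _ (inf_mem_Of L) _ (L.inv_mem hl)
  -- the nine points
  have hcard : ((Of L).erase inf).card = 9 := by
    rw [Finset.card_erase_of_mem (inf_mem_Of L), card_Of, hs]
  have hsub : ((Tfin L) ×ˢ (Tfin L)).image (fun ab => (pt (ab.1 + ab.2 * μ) : PL E)) ⊆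
      (Of L).erase inf := by
    intro y hy
    obtain ⟨⟨a, b⟩, hab, rfl⟩ := Finset.mem_image.1 hy
    rw [Finset.mem_product, mem_Tfin, mem_Tfin] at hab
    rw [Finset.mem_erase]
    refine ⟨pt_ne_inf _, ?_⟩
    have : (pt (a + b * μ) : PL E) = uu a • pt (b * μ) := by rw [uu_smul_pt, add_comm]
    rw [this]
    exact smul_mem_Of L _ (hptb b hab.2) _ hab.1
  have hinj : Set.InjOn (fun ab : E × E => (pt (ab.1 + ab.2 * μ) : PL E))
      ((Tfin L) ×ˢ (Tfin L) : Finset (E × E)) := by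
    rintro ⟨a, b⟩ hab ⟨a', b'⟩ hab' heq
    rw [Finset.mem_coe, Finset.mem_product, mem_Tfin, mem_Tfin] at hab hab'
    have h5 : a + b * μ = a' + b' * μ := pt_injective heq
    have hbb : b = b' := by
      by_contra hne
      have hd : b - b' ∈ TT L := (TT L).sub_mem hab.2 hab'.2
      have hd0 : b - b' ≠ 0 := sub_ne_zero.2 hne
      have ha : a' - a ∈ TT L := (TT L).sub_mem hab'.1 hab.1
      have h6 : (b - b') * μ = a' - a := by linear_combination h5
      apply hμT
      rcases hT _ hd with h | h | h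
      · exact absurd h hd0
      · rw [h, one_mul] at h6; rw [h6]; exact ha
      · rw [h] at h6
        have : μ = -(a' - a) := by linear_combination -h6
        rw [this]; exact (TT L).neg_mem ha
    subst hbb
    have : a = a' := by linear_combination h5
    rw [this]
  have hcard2 : (((Tfin L) ×ˢ (Tfin L)).image
      (fun ab => (pt (ab.1 + ab.2 * μ) : PL E))).card = 9 := by
    rw [Finset.card_image_of_injOn hinj, Finset.card_product, card_Tfin, hr]
  have heq : ((Tfin L) ×ˢ (Tfin L)).image (fun ab => (pt (ab.1 + ab.2 * μ) : PL E)) =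
      (Of L).erase inf :=
    Finset.eq_of_subset_of_card_le hsub (by rw [hcard, hcard2])
  -- apply `ll lam` to `pt 1`
  have hl1 : lam + 1 ≠ 0 := fun h => hlamm1 (eq_neg_of_add_eq_zero_left h)
  have h7 : ll lam • (pt 1 : PL E) = pt (1 / (lam + 1)) := by
    rw [smul_pt_eq_pt_iff]
    simp only [ll_00, ll_01, ll_10, ll_11]
    field_simp
    ring
  have hpt1 : (pt 1 : PL E) ∈ Of L := by
    have : (pt 1 : PL E) = uu (1 : E) • (pt (0 : E) : PL E) := by rw [uu_smul_pt, zero_add]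
    rw [this]; exact smul_mem_Of L _ hpt0 _ hu
  have h8 : (pt (1 / (lam + 1)) : PL E) ∈ (Of L).erase inf := by
    rw [Finset.mem_erase]
    refine ⟨pt_ne_inf _, ?_⟩
    rw [← h7]
    exact smul_mem_Of L _ hpt1 _ hl
  rw [← heq] at h8
  obtain ⟨⟨a, b⟩, hab, hpt⟩ := Finset.mem_image.1 h8
  rw [Finset.mem_product, mem_Tfin, mem_Tfin] at hab
  have h9 : 1 / (lam + 1) = a + b * (1 / lam) := by
    have := pt_injective hpt
    rw [← hμ]; exact this.symm
  exact alg_exc lam a b h3 hlam hlam1 hlamm1 (hT a hab.1) (hT b hab.2) h9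

end Main

/-- the case `λ⁴ = -1` does not occur when `T = {0, 1, -1}` -/
theorem no_quartic (h2 : (2 : E) ≠ 0) (h3 : (3 : E) = 0) (L : Subgroup SL(2, E))
    (hu : uu 1 ∈ L) (lam : E) (hl : ll lam ∈ L) (h4 : lam ^ 4 = -1)
    (hT : ∀ t ∈ TT L, t = 0 ∨ t = 1 ∨ t = -1) : False := by
  obtain ⟨g, hg⟩ : ∃ g, g = ll lam * uu 1 * ll lam * uu 1 * ll lam * uu 1 * ll (-lam) * uu 1 *
      ll (-lam) * uu 1 * ll (-lam) := ⟨_, rfl⟩
  have hlm : ll (-lam) ∈ L := by rw [← ll_inv]; exact L.inv_mem hl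
  have hgL : g ∈ L := by
    rw [hg]
    repeat (first | exact hl | exact hu | exact hlm | apply L.mul_mem)
  have hg10 : g.1 1 0 = 0 := by
    rw [hg]
    simp only [mul_00, mul_01, mul_10, mul_11, ll_00, ll_01, ll_10, ll_11, uu_00, uu_01, uu_10,
      uu_11]
    linear_combination ((12) + (-1) * lam ^ 2) * h4 + ((-4) + (-6) * lam ^ 2) * h3
  have hg00 : g.1 0 0 = lam - lam ^ 2 + lam ^ 3 := by
    rw [hg]
    simp only [mul_00, mul_01, mul_10, mul_11, ll_00, ll_01, ll_10, ll_11, uu_00, uu_01, uu_10,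
      uu_11]
    linear_combination ((1) + (-1) * lam) * h4 +
      ((-3) * lam + (-2) * lam ^ 2 + (3) * lam ^ 3) * h3
  have ha4 : (g.1 0 0) ^ 4 = -1 := by
    rw [hg00]
    linear_combination ((-17) + (12) * lam + (-12) * lam ^ 3 + (18) * lam ^ 4 + (-16) * lam ^ 5 +
      (10) * lam ^ 6 + (-4) * lam ^ 7 + (1) * lam ^ 8) * h4 +
      ((6) + (-4) * lam + (4) * lam ^ 3) * h3
  have hconj : uu (g.1 0 0 ^ 2 * 1) ∈ L := by
    rw [← borel_conj_uu g hg10 1]; exact L.mul_mem (L.mul_mem hgL hu) (L.inv_mem hgL)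
  have h10 : (1 : E) ≠ 0 := one_ne_zero
  rcases hT _ hconj with h | h | h
  · apply h10
    have : (g.1 0 0) ^ 4 = 0 := by
      have : (g.1 0 0) ^ 4 = (g.1 0 0 ^ 2 * 1) ^ 2 := by ring
      rw [this, h]; ring
    rw [this] at ha4
    linear_combination ha4
  · apply h2
    have : (g.1 0 0) ^ 4 = 1 := by
      have : (g.1 0 0) ^ 4 = (g.1 0 0 ^ 2 * 1) ^ 2 := by ring
      rw [this, h]; ring
    rw [this] at ha4
    linear_combination ha4
  · apply h2
    have : (g.1 0 0) ^ 4 = 1 := by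
      have : (g.1 0 0) ^ 4 = (g.1 0 0 ^ 2 * 1) ^ 2 := by ring
      rw [this, h]; ring
    rw [this] at ha4
    linear_combination ha4

end Cfsg.Agent.Lead.DicksonO
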