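import Mathlib
import Cfsg.Agent.Lead.DicksonL
import Cfsg.Agent.Lead.DicksonO

set_option autoImplicit false

/-! # Dickson's theorem for `SL₂`, part P: `⟨uu 1, ll λ⟩ = SL₂(F)` outside the exceptional case -/

namespace Cfsg.Agent.Lead.DicksonP

open Matrix Cfsg.Agent.Lead.DicksonA Cfsg.Agent.Lead.DicksonB Cfsg.Agent.Lead.DicksonC
  Cfsg.Agent.Lead.DicksonD Cfsg.Agent.Lead.DicksonE Cfsg.Agent.Lead.DicksonF
  Cfsg.Agent.Lead.DicksonG Cfsg.Agent.Lead.DicksonH Cfsg.Agent.Lead.DicksonI
  Cfsg.Agent.Lead.DicksonJ Cfsg.Agent.Lead.DicksonK Cfsg.Agent.Lead.DicksonM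
  Cfsg.Agent.Lead.DicksonN Cfsg.Agent.Lead.DicksonO
open scoped LinearAlgebra.Projectivization MatrixGroups

/-- the prime field case -/
theorem prime_field_top {F : Type*} [Field F] [Fintype F] (lam : F) (h : lam = 1 ∨ lam = -1)
    (hgen : Subfield.closure ({lam} : Set F) = ⊤) :
    Subgroup.closure ({uu 1, ll lam} : Set SL(2, F)) = ⊤ := by
  have h1A : (1 : F) ∈ AddSubgroup.zmultiples (1 : F) := AddSubgroup.mem_zmultiples 1
  have hmulA : ∀ a b : F, a ∈ AddSubgroup.zmultiples (1 : F) → b ∈ AddSubgroup.zmultiples (1 : F) →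
      a * b ∈ AddSubgroup.zmultiples (1 : F) := by
    intro a b ha hb
    obtain ⟨n, rfl⟩ := AddSubgroup.mem_zmultiples_iff.1 ha
    obtain ⟨m, rfl⟩ := AddSubgroup.mem_zmultiples_iff.1 hb
    rw [AddSubgroup.mem_zmultiples_iff]
    refine ⟨n * m, ?_⟩
    simp [zsmul_eq_mul]
  have hlamS : lam ∈ subfieldOf (AddSubgroup.zmultiples (1 : F)) h1A hmulA := by
    rw [mem_subfieldOf]
    rcases h with rfl | rfl
    · exact h1A
    · exact (AddSubgroup.zmultiples (1 : F)).neg_mem h1A
  have htop : subfieldOf (AddSubgroup.zmultiples (1 : F)) h1A hmulA = ⊤ := by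
    rw [eq_top_iff, ← hgen, Subfield.closure_le]
    intro y hy
    rw [Set.mem_singleton_iff] at hy
    rw [hy]; exact hlamS
  have hall : ∀ x : F, x ∈ AddSubgroup.zmultiples (1 : F) := by
    intro x
    have hx : x ∈ subfieldOf (AddSubgroup.zmultiples (1 : F)) h1A hmulA := by
      rw [htop]; exact Subfield.mem_top x
    exact hx
  have hu : uu (1 : F) ∈ Subgroup.closure ({uu 1, ll lam} : Set SL(2, F)) :=
    Subgroup.subset_closure (by simp)
  have hl : ll lam ∈ Subgroup.closure ({uu 1, ll lam} : Set SL(2, F)) :=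
    Subgroup.subset_closure (by simp)
  have hl1 : ll (1 : F) ∈ Subgroup.closure ({uu 1, ll lam} : Set SL(2, F)) := by
    rcases h with rfl | rfl
    · exact hl
    · have := Subgroup.inv_mem _ hl
      rwa [ll_inv, neg_neg] at this
  apply eq_top_of_elem
  · intro t
    have h1 : AddSubgroup.zmultiples (1 : F) ≤
        TT (Subgroup.closure ({uu 1, ll lam} : Set SL(2, F))) :=
      AddSubgroup.zmultiples_le_of_mem hu
    exact h1 (hall t)
  · intro t
    have h1 : AddSubgroup.zmultiples (1 : F) ≤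
        TL (Subgroup.closure ({uu 1, ll lam} : Set SL(2, F))) :=
      AddSubgroup.zmultiples_le_of_mem hl1
    exact h1 (hall t)

/-- the additive group `ℤ + ℤ λ` -/
def gaussAdd {F : Type*} [Field F] (lam : F) : AddSubgroup F where
  carrier := {x | ∃ n m : ℤ, x = n + m * lam}
  zero_mem' := ⟨0, 0, by simp⟩
  add_mem' := by
    rintro _ _ ⟨n, m, rfl⟩ ⟨n', m', rfl⟩
    exact ⟨n + n', m + m', by push_cast; ring⟩
  neg_mem' := by
    rintro _ ⟨n, m, rfl⟩
    exact ⟨-n, -m, by push_cast; ring⟩

/-- a field of characteristic three generated by a square root of `-1` has nine elements -/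
theorem card_eq_nine {F : Type*} [Field F] [Fintype F] [CharP F 3] (lam : F)
    (hl : lam ^ 2 = -1) (hgen : Subfield.closure ({lam} : Set F) = ⊤) :
    Fintype.card F = 9 := by
  have h3 : (3 : F) = 0 := by
    have := CharP.cast_eq_zero F 3
    exact_mod_cast this
  have h1A : (1 : F) ∈ gaussAdd lam := ⟨1, 0, by simp⟩
  have hmulA : ∀ a b : F, a ∈ gaussAdd lam → b ∈ gaussAdd lam → a * b ∈ gaussAdd lam := by
    rintro _ _ ⟨n, m, rfl⟩ ⟨n', m', rfl⟩
    refine ⟨n * n' - m * m', n * m' + m * n', ?_⟩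
    push_cast
    linear_combination ((m : F) * m') * hl
  have hlamS : lam ∈ subfieldOf (gaussAdd lam) h1A hmulA := ⟨0, 1, by simp⟩
  have htop : subfieldOf (gaussAdd lam) h1A hmulA = ⊤ := by
    rw [eq_top_iff, ← hgen, Subfield.closure_le]
    intro y hy
    rw [Set.mem_singleton_iff] at hy
    rw [hy]; exact hlamS
  have hall : ∀ x : F, ∃ n m : ℤ, x = n + m * lam := by
    intro x
    have hx : x ∈ subfieldOf (gaussAdd lam) h1A hmulA := by
      rw [htop]; exact Subfield.mem_top x
    exact hx
  -- reduction of integers modulo three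
  have hred : ∀ n : ℤ, ∃ i : Fin 3, (n : F) = ((i : ℕ) : F) := by
    intro n
    have h0 : 0 ≤ n % 3 := Int.emod_nonneg n (by norm_num)
    have h1 : n % 3 < 3 := Int.emod_lt_of_pos n (by norm_num)
    obtain ⟨i, hi⟩ : ∃ i : ℕ, i = (n % 3).toNat := ⟨_, rfl⟩
    have hi3 : i < 3 := by omega
    have h4 : ((i : ℕ) : ℤ) = n % 3 := by rw [hi]; exact Int.toNat_of_nonneg h0
    have h5 : n = 3 * (n / 3) + n % 3 := (Int.mul_ediv_add_emod n 3).symm
    have h6 : (n : F) = 3 * ((n / 3 : ℤ) : F) + ((n % 3 : ℤ) : F) := by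
      conv_lhs => rw [h5]
      push_cast; ring
    refine ⟨⟨i, hi3⟩, ?_⟩
    show (n : F) = ((i : ℕ) : F)
    rw [h6, h3, zero_mul, zero_add, ← h4]
    push_cast; rfl
  have hsurj : Function.Surjective (fun ij : Fin 3 × Fin 3 =>
      ((ij.1 : ℕ) : F) + ((ij.2 : ℕ) : F) * lam) := by
    intro x
    obtain ⟨n, m, rfl⟩ := hall x
    obtain ⟨i, hi⟩ := hred n
    obtain ⟨j, hj⟩ := hred m
    exact ⟨(i, j), by simp only [hi, hj]⟩
  have hle : Fintype.card F ≤ 9 := by
    have := Fintype.card_le_of_surjective _ hsurj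
    simpa using this
  obtain ⟨k, -, hk⟩ := FiniteField.card F 3
  have hne3 : Fintype.card F ≠ 3 := by
    intro hc
    have h7 := FiniteField.pow_card lam
    rw [hc] at h7
    have h8 : lam = 0 := by
      have h9 : lam * 2 = 0 := by linear_combination lam * hl - h7
      have h2 : (2 : F) ≠ 0 := by
        intro h
        have : (1 : F) = 0 := by linear_combination h3 - h
        exact one_ne_zero this
      rcases mul_eq_zero.1 h9 with h | h
      · exact h
      · exact absurd h h2
    rw [h8] at hl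
    have : (1 : F) = 0 := by linear_combination hl
    exact one_ne_zero this
  have hk2 : (k : ℕ) = 2 := by
    have hk1 : 1 ≤ (k : ℕ) := k.2
    rcases Nat.lt_or_ge (k : ℕ) 3 with h | h
    · interval_cases hk' : (k : ℕ)
      · rw [pow_one] at hk; exact absurd hk hne3
      · rfl
    · have : 3 ^ 3 ≤ 3 ^ (k : ℕ) := Nat.pow_le_pow_right (by norm_num) h
      omega
  rw [hk, hk2]; norm_num

/-- Part A: outside the exceptional case `uu 1` and `ll λ` generate `SL₂(F)` -/
theorem partA {F : Type*} [Field F] [Fintype F] (h2 : (2 : F) ≠ 0) (lam : F) (hlam : lam ≠ 0)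
    (hgen : Subfield.closure ({lam} : Set F) = ⊤)
    (hne : ¬ (Fintype.card F = 9 ∧ lam ^ 2 = -1)) :
    Subgroup.closure ({uu 1, ll lam} : Set SL(2, F)) = ⊤ := by
  obtain ⟨p, hchar⟩ := CharP.exists F
  haveI := hchar
  haveI : Fact p.Prime := ⟨CharP.char_is_prime F p⟩
  let E := AlgebraicClosure F
  haveI hcharE : CharP E p := charP_of_injective_algebraMap (algebraMap F E).injective p
  have h2E : (2 : E) ≠ 0 := by
    intro h
    apply h2
    apply (algebraMap F E).injective
    rw [map_ofNat, h, map_zero]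
  let ι : SL(2, F) →* SL(2, E) := Matrix.SpecialLinearGroup.map (algebraMap F E)
  have hι : Function.Injective ι := map_injective (algebraMap F E)
  obtain ⟨L₀, hL₀⟩ : ∃ L₀, L₀ = Subgroup.closure ({uu 1, ll lam} : Set SL(2, F)) := ⟨_, rfl⟩
  rw [← hL₀]
  obtain ⟨L, hLdef⟩ : ∃ L, L = L₀.map ι := ⟨_, rfl⟩
  haveI hfin : Finite L := by
    rw [hLdef]
    exact Finite.of_surjective (fun g : L₀ => (⟨ι g.1, Subgroup.mem_map_of_mem ι g.2⟩ : L₀.map ι))
      (by rintro ⟨_, g, hg, rfl⟩; exact ⟨⟨g, hg⟩, rfl⟩)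
  have hL : L = Subgroup.closure ({uu 1, ll (algebraMap F E lam)} : Set SL(2, E)) := by
    rw [hLdef, hL₀, MonoidHom.map_closure, Set.image_pair]
    have e1 : ι (uu 1) = uu 1 := by
      have := map_uu (algebraMap F E) (1 : F)
      rw [map_one] at this
      exact this
    have e2 : ι (ll lam) = ll (algebraMap F E lam) := map_ll (algebraMap F E) lam
    rw [e1, e2]
  have hlamE : algebraMap F E lam ≠ 0 := fun h =>
    hlam ((algebraMap F E).injective (by rw [h, map_zero]))
  have huL : uu (1 : E) ∈ L := by rw [hL]; exact Subgroup.subset_closure (by simp)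
  have hlL : ll (algebraMap F E lam) ∈ L := by rw [hL]; exact Subgroup.subset_closure (by simp)
  have hu := le_Lpm L huL
  have hl := le_Lpm L hlL
  have hnb : ∃ g ∈ Lpm L, g.1 1 0 ≠ 0 := ⟨ll (algebraMap F E lam), hl, by simpa using hlamE⟩
  -- pulling back
  have hpull : ∀ g : SL(2, F), ι g ∈ L → g ∈ L₀ := by
    intro g hg
    rw [hLdef] at hg
    obtain ⟨g', hg', hgg⟩ := hg
    rwa [← hι hgg]
  rcases dichotomy p h2E (Lpm L) (neg_one_mem_Lpm L) hu hnb with hs | ⟨hr, hs⟩
  · -- the generic case
    apply eq_top_of_elem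
    · intro t
      apply hpull
      have := (generic_mem (algebraMap F E) p h2E lam hlam hgen L hL hs t).1
      rwa [← map_uu] at this
    · intro t
      apply hpull
      have := (generic_mem (algebraMap F E) p h2E lam hlam hgen L hL hs t).2
      rwa [← map_ll] at this
  · -- the exceptional case
    obtain ⟨hp3, h3E⟩ := three_eq_zero p (Lpm L) hu hr
    have hT := T_eq h2E (Lpm L) hu hr
    by_cases hμT : 1 / algebraMap F E lam ∈ TT (Lpm L)
    · have h5 : lam = 1 ∨ lam = -1 := by
        rcases hT _ hμT with h | h | h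
        · exact absurd h (one_div_ne_zero hlamE)
        · left
          apply (algebraMap F E).injective
          rw [map_one]
          rw [div_eq_iff hlamE] at h
          linear_combination -h
        · right
          apply (algebraMap F E).injective
          rw [map_neg, map_one]
          rw [div_eq_iff hlamE] at h
          linear_combination h
      rw [hL₀]
      exact prime_field_top lam h5 hgen
    · exfalso
      rcases exceptional_alg p h2E (Lpm L) hu (algebraMap F E lam) hlamE hl hr hs hμT with h | h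
      · apply hne
        have hl2 : lam ^ 2 = -1 := by
          apply (algebraMap F E).injective
          rw [map_pow, map_neg, map_one]; exact h
        refine ⟨?_, hl2⟩
        subst hp3
        exact card_eq_nine lam hl2 hgen
      · exact no_quartic h2E h3E (Lpm L) hu (algebraMap F E lam) hl h hT

end Cfsg.Agent.Lead.DicksonP
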