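import Mathlib
import Cfsg.Agent.Lead.GlThI

set_option autoImplicit false

/-!
Glauberman-Thompson for fusion systems relative to a strongly closed subgroup, part J: realized
systems.
-/

namespace Cfsg.Agent.Lead.GlTh

open Cfsg Cfsg.FusionSystem Cfsg.Agent.Lead Cfsg.Agent.Helper1 Cfsg.Agent.Helper1.ThompsonRed

universe u

variable {Ω : Type u} [Group Ω] {S : Subgroup Ω}

theorem of_subgroupOf_eq (W : CharFunctor.{u}) {D P : Subgroup Ω} (hDP : D ≤ P) :
    (W.of D).subgroupOf P = W.of (D.subgroupOf P) := by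
  have h2 := W.of_subgroupOf hDP
  rw [← h2]
  unfold Subgroup.subgroupOf
  exact Subgroup.comap_map_eq_self_of_injective P.subtype_injective _

/-- The normalizer of the image of a subgroup `X` normal in `S` with `NP` has a normal
`p`-complement in a group realizing the system. -/
theorem hasNormalPComplement_normalizer' [Finite S] (p : ℕ) [Fact p.Prime]
    (F : FusionSystem S) (G : Type u) [Group G] [Finite G] (ι : S →* G)
    (hι : F.IsRealizedBy ι) (T : Sylow p G) (hT : (T : Subgroup G) = ι.range)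
    {X : Subgroup Ω} (hXS : X ≤ S) (hXn : S ≤ Subgroup.normalizer (X : Set Ω))
    (hnp : NP p F X) :
    HasNormalPComplement p ↥(Subgroup.normalizer (((X.subgroupOf S).map ι : Subgroup G) : Set G)) := by
  set Z : Subgroup G := (X.subgroupOf S).map ι with hZ
  set H := Subgroup.normalizer (Z : Set G) with hH
  have hZT : Z ≤ ι.range := by
    rintro _ ⟨s, -, rfl⟩
    exact ⟨s, rfl⟩
  have hTH : (T : Subgroup G) ≤ H := by
    rw [hT]
    rintro _ ⟨s, rfl⟩
    apply mem_normalizer_of_conj_mem_of_finite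
    rintro _ ⟨x, hx, rfl⟩
    rw [SetLike.mem_coe, Subgroup.mem_subgroupOf] at hx
    refine ⟨s * x * s⁻¹, ?_, by rw [map_mul, map_mul, map_inv]⟩
    rw [SetLike.mem_coe, Subgroup.mem_subgroupOf]
    exact (Subgroup.mem_normalizer_iff.mp (hXn s.2) _).mp hx
  rw [hasNormalPComplement_iff (T.subtype hTH), frobenius_normal_pcomplement_iff (T.subtype hTH)]
  intro Q₁ hQ₁ g hg hcop
  rw [Sylow.coe_subtype] at hQ₁
  set Q₃ : Subgroup G := Q₁.map H.subtype ⊔ Z with hQ₃
  have hQ₃T : Q₃ ≤ ι.range := by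
    apply sup_le
    · rw [← hT]
      rintro _ ⟨q, hq, rfl⟩
      exact Subgroup.mem_subgroupOf.mp (hQ₁ hq)
    · exact hZT
  set P : Subgroup Ω := (Q₃.comap ι).map S.subtype with hPdef
  have hP : P ≤ S := by rintro _ ⟨s, -, rfl⟩; exact s.2
  have hmemP : ∀ (x : Ω) (hx : x ∈ S), x ∈ P ↔ ι ⟨x, hx⟩ ∈ Q₃ := by
    intro x hx
    constructor
    · rintro ⟨s, hs, hsx⟩
      have : s = ⟨x, hx⟩ := Subtype.ext hsx
      rw [← this]; exact hs
    · intro h; exact ⟨⟨x, hx⟩, h, rfl⟩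
  have hgQ₃ : ∀ y ∈ Q₃, g.1 * y * g.1⁻¹ ∈ Q₃ := by
    have hle : Q₃ ≤ Q₃.comap (MulAut.conj g.1).toMonoidHom := by
      apply sup_le
      · rintro _ ⟨q, hq, rfl⟩
        rw [Subgroup.mem_comap]
        apply (le_sup_left : Q₁.map H.subtype ≤ Q₃)
        have h1 := (Subgroup.mem_normalizer_iff.mp hg q).mp hq
        exact ⟨g * q * g⁻¹, h1, rfl⟩
      · intro z hz
        rw [Subgroup.mem_comap]
        apply (le_sup_right : Z ≤ Q₃)
        exact (Subgroup.mem_normalizer_iff.mp g.2 z).mp hz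
    intro y hy
    exact hle hy
  have hgP : ∀ x : P, ∃ y : P, g.1 * ι ⟨x, hP x.2⟩ * g.1⁻¹ = ι ⟨y, hP y.2⟩ := by
    intro x
    have h1 := hgQ₃ _ ((hmemP x.1 (hP x.2)).mp x.2)
    obtain ⟨s, hs⟩ := hQ₃T h1
    have hsP : s.1 ∈ P := (hmemP s.1 s.2).mpr (by
      have : (⟨s.1, s.2⟩ : S) = s := rfl
      rw [this, hs]; exact h1)
    exact ⟨⟨s.1, hsP⟩, hs.symm⟩
  obtain ⟨α, hα, hαx⟩ := exists_aut_of_conj F ι hι hP g.1 hgP
  haveI : Finite P := Fusion.finite_of_le hP
  have hmemZ : ∀ (x : Ω) (hx : x ∈ S), x ∈ X → ι ⟨x, hx⟩ ∈ Z := by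
    intro x hx hxX
    exact ⟨⟨x, hx⟩, by rw [SetLike.mem_coe, Subgroup.mem_subgroupOf]; exact hxX, rfl⟩
  have hWP : X ≤ P := by
    intro x hx
    rw [hmemP x (hXS hx)]
    exact (le_sup_right : Z ≤ Q₃) (hmemZ x (hXS hx) hx)
  have hPN : P ≤ normalizerIn S X := le_inf hP (hP.trans hXn)
  have hαW : (X.subgroupOf P).map α.toMonoidHom = X.subgroupOf P := by
    apply Fusion.map_aut_eq_of_le
    rintro _ ⟨x, hx, rfl⟩
    rw [SetLike.mem_coe, Subgroup.mem_subgroupOf] at hx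
    rw [Subgroup.mem_subgroupOf]
    have h1 : ι ⟨x, hP x.2⟩ ∈ Z := hmemZ x.1 (hP x.2) hx
    have h2 : g.1 * ι ⟨x, hP x.2⟩ * g.1⁻¹ ∈ Z := (Subgroup.mem_normalizer_iff.mp g.2 _).mp h1
    rw [← hαx x] at h2
    obtain ⟨w', hw', hw'x⟩ := h2
    rw [SetLike.mem_coe, Subgroup.mem_subgroupOf] at hw'
    have h3 := hι.1 hw'x
    have h4 : (w' : Ω) = ((α x : P) : Ω) := congrArg (fun z : S => (z : Ω)) h3
    show ((α x : P) : Ω) ∈ X
    rw [← h4]
    exact hw'
  obtain ⟨k, hk⟩ := hnp P hWP hPN α hα hαW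
  have hord : α ^ orderOf g = 1 := by
    apply pow_eq_one_of_conj ι hι.1 hP g.1 α hαx
    intro x
    rw [← Subgroup.orderOf_coe g, pow_orderOf_eq_one]
    group
  have h1 : orderOf α ∣ p ^ k := orderOf_dvd_of_pow_eq_one hk
  have h2 : orderOf α ∣ orderOf g := orderOf_dvd_of_pow_eq_one hord
  have h3 : orderOf α = 1 :=
    Nat.eq_one_of_dvd_coprimes (Nat.Coprime.pow_right k hcop) h2 h1
  have hα1 : α = 1 := orderOf_eq_one_iff.mp h3
  rw [Subgroup.mem_centralizer_iff]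
  intro q hq
  have hq3 : (q : G) ∈ Q₃ := (le_sup_left : Q₁.map H.subtype ≤ Q₃) ⟨q, hq, rfl⟩
  obtain ⟨s, hs⟩ := hQ₃T hq3
  have hsP : s.1 ∈ P := (hmemP s.1 s.2).mpr (by
    have : (⟨s.1, s.2⟩ : S) = s := rfl
    rw [this, hs]; exact hq3)
  have h4 := hαx ⟨s.1, hsP⟩
  rw [hα1] at h4
  have h5 : (⟨((⟨s.1, hsP⟩ : P) : Ω), hP hsP⟩ : S) = s := rfl
  have h6 : ι s = g.1 * ι s * g.1⁻¹ := by
    rw [← h5]
    exact h4
  rw [hs] at h6
  apply Subtype.ext
  show (q : G) * g.1 = g.1 * q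
  calc (q : G) * g.1 = g.1 * q * g.1⁻¹ * g.1 := by rw [← h6]
    _ = g.1 * q := by group

/-- A system realized by a finite group with Sylow `p`-subgroup `S`, with a strongly closed subgroup
`D` and `NP` for `W(D)`, is inner, if `W` detects normal `p`-complements relative to strongly closed
subgroups. -/
theorem inner_of_realizedD [Finite S] (p : ℕ) [Fact p.Prime] (hS : IsPGroup p S)
    (W : CharFunctor.{u})
    (hgrp : ∀ (G : Type u) [Group G] [Finite G] (P : Sylow p G) (D : Subgroup G),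
      IsStronglyClosed D (P : Subgroup G) →
      HasNormalPComplement p ↥(Subgroup.normalizer (W.of D : Set G)) →
        HasNormalPComplement p G)
    (F : FusionSystem S) (G : Type u) [Group G] [Finite G] (ι : S →* G)
    (hι : F.IsRealizedBy ι) (T : Sylow p G) (hT : (T : Subgroup G) = ι.range)
    {D : Subgroup Ω} (hD : F.StronglyClosed D)
    (hnp : NP p F (W.of D)) : Inner p F := by
  have hDS : D ≤ S := hD.1
  have hWD : W.of D ≤ D := W.of_le D
  have hDn := le_normalizer_of_stronglyClosed F hD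
  have hXn : S ≤ Subgroup.normalizer (W.of D : Set Ω) := hDn.trans (W.normalizer_le D)
  have h1 := hasNormalPComplement_normalizer' p F G ι hι T hT (hWD.trans hDS) hXn hnp
  have hZeq : ((W.of D).subgroupOf S).map ι = W.of ((D.subgroupOf S).map ι) := by
    rw [of_subgroupOf_eq W hDS, W.of_map_of_injective ι hι.1]
  rw [hZeq] at h1
  have hD₂ : IsStronglyClosed ((D.subgroupOf S).map ι) (T : Subgroup G) := by
    refine ⟨?_, ?_⟩
    · rw [hT]
      rintro _ ⟨s, -, rfl⟩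
      exact ⟨s, rfl⟩
    · rintro _ ⟨d, hd, rfl⟩ g hg
      rw [SetLike.mem_coe, Subgroup.mem_subgroupOf] at hd
      rw [hT] at hg
      have hPle : Subgroup.zpowers (d : Ω) ≤ S := by
        rw [Subgroup.zpowers_le]; exact d.2
      have hPD : Subgroup.zpowers (d : Ω) ≤ D := by
        rw [Subgroup.zpowers_le]; exact hd
      have hconj : ∀ x : ↥(Subgroup.zpowers (d : Ω)), g * ι ⟨x, hPle x.2⟩ * g⁻¹ ∈ ι.range := by
        rintro ⟨x, hx⟩
        obtain ⟨k, rfl⟩ := Subgroup.mem_zpowers_iff.mp hx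
        have h2 : (⟨(d : Ω) ^ k, hPle hx⟩ : S) = d ^ k := Subtype.ext (by simp)
        rw [h2, map_zpow]
        have h3 : g * ι d ^ k * g⁻¹ = (g * ι d * g⁻¹) ^ k := by
          rw [conj_zpow]
        rw [h3]
        exact Subgroup.zpow_mem _ hg k
      obtain ⟨φ, hφ, hφS, hφx⟩ := Fusion.exists_hom_of_conj_mem_range F ι hι hPle g hconj
      have h4 := hD.2 _ hPD φ hφ ⟨d, Subgroup.mem_zpowers _⟩
      have h5 := hφx ⟨d, Subgroup.mem_zpowers _⟩
      have h6 : (⟨((⟨(d : Ω), Subgroup.mem_zpowers _⟩ : Subgroup.zpowers (d : Ω)) : Ω),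
          hPle (Subgroup.mem_zpowers _)⟩ : S) = d := rfl
      rw [h6] at h5
      rw [← h5]
      refine ⟨_, ?_, rfl⟩
      rw [SetLike.mem_coe, Subgroup.mem_subgroupOf]
      exact h4
  exact inner_of_plocalCentral p hS F G ι hι
    (plocalCentral_of_hasNormalPComplement (hgrp G T _ hD₂ h1))

end Cfsg.Agent.Lead.GlTh
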