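import Mathlib
import Cfsg.Agent.Lead.BswDefs
import Cfsg.Agent.Lead.BswDefs2
import Cfsg.Agent.Lead.Bsw_A1_12
import Cfsg.Agent.Helper2.Bsw_D12_14
import Cfsg.Agent.Helper1.BswCh_Main
import Cfsg.Agent.Helper9.Bsw_E5_E7
import Cfsg.Agent.Helper7.Bsw_F18

/-! S3282 (abstract Brauer-Suzuki-Wall), piece G2: the final assembly on the group side. (lead)
`k = |K|` is even; `k = 2` is the counting case (`k2_concl`, helper2); for `k ≥ 4` the character side
(`stage1`, helper1) gives `n = (2k ± 1)(k ± 1)` together with the values of `F`, and the two endgames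
(`plus_concl`, helper9; `minus_concl`, helper7) finish. -/

set_option autoImplicit false
namespace Cfsg.Agent.Lead.Bsw
variable {G : Type*} [Group G] [Finite G] {t s : G} {K : Subgroup G}

-- G2
theorem main (h : Hyp t K s) : Concl G := by
  have hev := even_card_K h
  have hpos : 0 < Nat.card K := Nat.card_pos
  by_cases hk2 : Nat.card K = 2
  · exact k2_concl h hk2
  · have hk4 : 4 ≤ Nat.card K := by
      obtain ⟨m, hm⟩ := hev
      omega
    rcases stage1 h hk4 with hp | hm
    · exact plus_concl hp
    · exact minus_concl hm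

end Cfsg.Agent.Lead.Bsw
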