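import Mathlib
import Cfsg.Agent.Helper1.AbelianAct

set_option autoImplicit false

namespace Cfsg.Agent.Lead

open scoped Pointwise IsMulCommutative
open Cfsg.Agent.Helper1

universe u

variable {G : Type u} [Group G]

/-- The coset trace map `v ↦ ∏_{q ∈ L/S} q v q⁻¹` on an abelian subgroup `V` normalized by `L`. -/
noncomputable def cosetTrace (L S V : Subgroup G) [IsMulCommutative V]
    (hLV : L ≤ Subgroup.normalizer (V : Set G)) [Fintype (↥L ⧸ S.subgroupOf L)] : V →* V :=
  ∏ q : ↥L ⧸ S.subgroupOf L, conjOn L V hLV q.out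

theorem cosetTrace_apply (L S V : Subgroup G) [IsMulCommutative V]
    (hLV : L ≤ Subgroup.normalizer (V : Set G)) [Fintype (↥L ⧸ S.subgroupOf L)] (v : V) :
    cosetTrace L S V hLV v = ∏ q : ↥L ⧸ S.subgroupOf L, conjOn L V hLV q.out v := by
  rw [cosetTrace, MonoidHom.finsetProd_apply]

theorem conjOn_of_mem_centralizer (L S V : Subgroup G)
    (hLV : L ≤ Subgroup.normalizer (V : Set G)) (v : V)
    (hv : (v : G) ∈ Subgroup.centralizer (S : Set G)) (s : L) (hs : (s : G) ∈ S) :
    conjOn L V hLV s v = v := by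
  ext
  rw [conjOn_coe]
  have := Subgroup.mem_centralizer_iff.1 hv s hs
  rw [this, mul_inv_cancel_right]

/-- On `C_V(S)` the trace takes values in `C_V(L)`. -/
theorem conjOn_cosetTrace (L S V : Subgroup G) [IsMulCommutative V]
    (hLV : L ≤ Subgroup.normalizer (V : Set G)) [Fintype (↥L ⧸ S.subgroupOf L)] (v : V)
    (hv : (v : G) ∈ Subgroup.centralizer (S : Set G)) (l : L) :
    conjOn L V hLV l (cosetTrace L S V hLV v) = cosetTrace L S V hLV v := by
  rw [cosetTrace_apply, map_prod]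
  have h1 : ∀ q : ↥L ⧸ S.subgroupOf L,
      conjOn L V hLV l (conjOn L V hLV q.out v) = conjOn L V hLV (l • q).out v := by
    intro q
    rw [← conjOn_mul]
    have h2 : ((l • q).out)⁻¹ * (l * q.out) ∈ S.subgroupOf L := by
      rw [← QuotientGroup.eq]
      rw [QuotientGroup.out_eq']
      conv_lhs => rw [← QuotientGroup.out_eq' q]
      rfl
    have h3 : l * q.out = (l • q).out * (((l • q).out)⁻¹ * (l * q.out)) := by group
    rw [h3, conjOn_mul, conjOn_of_mem_centralizer L S V hLV v hv _ (Subgroup.mem_subgroupOf.1 h2)]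
  rw [Finset.prod_congr rfl (fun q _ => h1 q)]
  exact Fintype.prod_equiv (MulAction.toPerm l) _ _ (fun q => rfl)

theorem cosetTrace_of_fixed (L S V : Subgroup G) [IsMulCommutative V]
    (hLV : L ≤ Subgroup.normalizer (V : Set G)) [Fintype (↥L ⧸ S.subgroupOf L)] (v : V)
    (hv : (v : G) ∈ Subgroup.centralizer (L : Set G)) :
    cosetTrace L S V hLV v = v ^ S.relIndex L := by
  rw [cosetTrace_apply]
  have h : ∀ q : ↥L ⧸ S.subgroupOf L, conjOn L V hLV q.out v = v := fun q =>
    conjOn_of_mem_centralizer L L V hLV v hv _ q.out.2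
  simp only [h, Finset.prod_const, Finset.card_univ]
  rw [Subgroup.relIndex, Subgroup.index, Nat.card_eq_fintype_card]


/-- `C_V(L)` is a direct factor of `C_V(S)` when `|L : S|` is coprime to `|V|`. -/
theorem exists_complement_fixed [Finite G] (L S V : Subgroup G) [IsMulCommutative V]
    (hSL : S ≤ L) (hLV : L ≤ Subgroup.normalizer (V : Set G))
    (hcop : (S.relIndex L).Coprime (Nat.card V)) :
    ∃ K : Subgroup G, K ≤ V ⊓ Subgroup.centralizer (S : Set G) ∧
      (V ⊓ Subgroup.centralizer (L : Set G)) ⊓ K = ⊥ ∧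
      (V ⊓ Subgroup.centralizer (L : Set G)) ⊔ K = V ⊓ Subgroup.centralizer (S : Set G) := by
  classical
  have : Fintype (↥L ⧸ S.subgroupOf L) := Fintype.ofFinite _
  have hCLS : Subgroup.centralizer (L : Set G) ≤ Subgroup.centralizer (S : Set G) :=
    Subgroup.centralizer_le hSL
  refine ⟨((cosetTrace L S V hLV).ker.map V.subtype) ⊓ Subgroup.centralizer (S : Set G),
    inf_le_inf_right _ (Subgroup.map_subtype_le _), ?_, ?_⟩
  · rw [eq_bot_iff]
    rintro g ⟨⟨hgV, hgC⟩, ⟨⟨w, hw, rfl⟩, -⟩⟩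
    rw [Subgroup.mem_bot]
    rw [SetLike.mem_coe, MonoidHom.mem_ker, cosetTrace_of_fixed L S V hLV w hgC] at hw
    have h1 : orderOf w ∣ S.relIndex L := orderOf_dvd_of_pow_eq_one hw
    have h2 : orderOf w ∣ Nat.card V := orderOf_dvd_natCard w
    have h3 : orderOf w = 1 := Nat.eq_one_of_dvd_coprimes hcop h1 h2
    rw [orderOf_eq_one_iff] at h3
    rw [h3]; rfl
  · apply le_antisymm
    · exact sup_le (inf_le_inf_left _ hCLS) (inf_le_inf_right _ (Subgroup.map_subtype_le _))
    · rintro z ⟨hzV, hzS⟩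
      -- u = T z ∈ C_V(L)
      obtain ⟨u, hu⟩ : ∃ u : V, u = cosetTrace L S V hLV ⟨z, hzV⟩ := ⟨_, rfl⟩
      have huL : (u : G) ∈ Subgroup.centralizer (L : Set G) := by
        rw [Subgroup.mem_centralizer_iff]
        intro l hl
        have h1 := conjOn_cosetTrace L S V hLV ⟨z, hzV⟩ hzS ⟨l, hl⟩
        rw [← hu] at h1
        have h2 := congrArg (Subtype.val) h1
        rw [conjOn_coe] at h2
        change l * (u : G) * l⁻¹ = u at h2
        calc l * (u : G) = (l * (u : G) * l⁻¹) * l := by group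
          _ = (u : G) * l := by rw [h2]
      have hcop' : (S.relIndex L).Coprime (orderOf u) :=
        hcop.coprime_dvd_right (orderOf_dvd_natCard u)
      obtain ⟨k, hk⟩ := exists_pow_eq_self_of_coprime hcop'
      -- w = u ^ k
      have hwL : ((u ^ k : V) : G) ∈ Subgroup.centralizer (L : Set G) := by
        rw [Subgroup.coe_pow]; exact Subgroup.pow_mem _ huL k
      have hTw : cosetTrace L S V hLV (u ^ k) = u := by
        rw [cosetTrace_of_fixed L S V hLV _ hwL, ← pow_mul, mul_comm, pow_mul, hk]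
      have hz : z = ((u ^ k : V) : G) * (((u ^ k : V) : G)⁻¹ * z) := by group
      rw [hz]
      apply Subgroup.mul_mem_sup
      · exact ⟨(u ^ k : V).2, hwL⟩
      · refine ⟨⟨(u ^ k)⁻¹ * ⟨z, hzV⟩, ?_, rfl⟩, ?_⟩
        · rw [SetLike.mem_coe, MonoidHom.mem_ker, map_mul, map_inv, hTw, ← hu, inv_mul_cancel]
        · exact Subgroup.mul_mem _ (Subgroup.inv_mem _ (hCLS hwL)) hzS

end Cfsg.Agent.Lead
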