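import Mathlib
import Cfsg.Prelude.Def_Local
import Cfsg.Agent.Lead.CosetTrace
import Cfsg.Agent.Helper1.Subnormal
import Cfsg.Agent.Helper1.Fitting
import Cfsg.Agent.Helper4.PCore

set_option autoImplicit false

namespace Cfsg.Agent.Lead

open scoped Pointwise
open Cfsg.Agent.Helper1

universe u

variable {G : Type u} [Group G]

/-- Frattini-type factorisation `G = N_G(S ∩ O_{p',p}(G)) · O_{p'}(G)`. -/
theorem frattini_pPrimePCore [Finite G] {p : ℕ} [Fact p.Prime] (S : Sylow p G) :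
    ∀ g : G, ∃ l ∈ Subgroup.normalizer (((S : Subgroup G) ⊓ Cfsg.pPrimePCore p G : Subgroup G) : Set G),
      ∃ n ∈ Cfsg.pPrimeCore p G, g = l * n := by
  classical
  have hNn : (Cfsg.pPrimeCore p G).Normal := Cfsg.pPrimeCore_normal p G
  obtain ⟨H, hH⟩ : ∃ H : Subgroup G, H = Cfsg.pPrimePCore p G := ⟨_, rfl⟩
  have hHdef : H = (Cfsg.pCore p (G ⧸ Cfsg.pPrimeCore p G)).comap
      (QuotientGroup.mk' (Cfsg.pPrimeCore p G)) := by
    rw [hH]; rfl
  have hHn : H.Normal := by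
    rw [hHdef]
    have : (Cfsg.pCore p (G ⧸ Cfsg.pPrimeCore p G)).Normal := Cfsg.Agent.Helper4.pCore_normal
    exact Subgroup.Normal.comap this _
  rw [← hH]
  have hNH : Cfsg.pPrimeCore p G ≤ H := by
    rw [hHdef]
    intro n hn
    rw [Subgroup.mem_comap]
    have : QuotientGroup.mk' (Cfsg.pPrimeCore p G) n = 1 := by
      rw [QuotientGroup.mk'_apply, QuotientGroup.eq_one_iff]; exact hn
    rw [this]; exact Subgroup.one_mem _
  -- H = P₀ N
  have hHPN : ∀ h ∈ H, ∃ s ∈ (S : Subgroup G) ⊓ H, ∃ n ∈ Cfsg.pPrimeCore p G, h = s * n := by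
    intro h hh
    rw [hHdef, Subgroup.mem_comap] at hh
    have h1 := Cfsg.Agent.Helper4.pCore_le_sylow
      (S.mapSurjective (QuotientGroup.mk'_surjective (Cfsg.pPrimeCore p G))) hh
    rw [Sylow.coe_mapSurjective] at h1
    obtain ⟨s, hs, hsh⟩ := h1
    have hn : s⁻¹ * h ∈ Cfsg.pPrimeCore p G := by
      rw [← QuotientGroup.eq]
      exact hsh
    refine ⟨s, ⟨hs, ?_⟩, s⁻¹ * h, hn, by group⟩
    have : s = h * (s⁻¹ * h)⁻¹ := by group
    rw [this]
    exact H.mul_mem (by rw [hHdef, Subgroup.mem_comap]; exact hh) (H.inv_mem (hNH hn))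
  obtain ⟨Q, hQ⟩ := sylow_inf_subnormal p H hHn.isSubnormal S
  have hfr := Sylow.normalizer_sup_eq_top Q
  rw [hQ, Subgroup.subgroupOf_map_subtype] at hfr
  intro g
  have hg : g ∈ Subgroup.normalizer (((S : Subgroup G) ⊓ H : Subgroup G) : Set G) ⊔ H := by
    rw [hfr]; trivial
  rw [Subgroup.mem_sup_of_normal_right] at hg
  obtain ⟨l, hl, h, hh, rfl⟩ := hg
  obtain ⟨s, hs, n, hn, rfl⟩ := hHPN h hh
  exact ⟨l * s, Subgroup.mul_mem _ hl (Subgroup.le_normalizer hs), n, hn, by group⟩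


theorem isolated_direct_factor [Finite G] {p : ℕ} [hp : Fact p.Prime] (S : Sylow p G)
    (hZ : ((S : Subgroup G) ⊓ Subgroup.centralizer ((S : Subgroup G) : Set G))
      ≤ Cfsg.pPrimePCore p G) :
    ∃ W K : Subgroup G,
      (∀ x : G, x ∈ W ↔ (x ∈ (S : Subgroup G) ∧
        ∀ g : G, g * x * g⁻¹ ∈ (S : Subgroup G) → g * x * g⁻¹ = x)) ∧
      K ≤ ((S : Subgroup G) ⊓ Subgroup.centralizer ((S : Subgroup G) : Set G)) ∧ W ⊓ K = ⊥ ∧
      W ⊔ K = ((S : Subgroup G) ⊓ Subgroup.centralizer ((S : Subgroup G) : Set G)) := by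
  classical
  have hNn : (Cfsg.pPrimeCore p G).Normal := Cfsg.pPrimeCore_normal p G
  have hfr := frattini_pPrimePCore S
  obtain ⟨H, hH⟩ : ∃ H : Subgroup G, H = Cfsg.pPrimePCore p G := ⟨_, rfl⟩
  have hHn : H.Normal := by
    rw [hH]
    have : (Cfsg.pCore p (G ⧸ Cfsg.pPrimeCore p G)).Normal := Cfsg.Agent.Helper4.pCore_normal
    exact Subgroup.Normal.comap this _
  rw [← hH] at hfr hZ
  obtain ⟨P₀, hP₀⟩ : ∃ P₀ : Subgroup G, P₀ = (S : Subgroup G) ⊓ H := ⟨_, rfl⟩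
  rw [← hP₀] at hfr
  obtain ⟨L, hL⟩ : ∃ L : Subgroup G, L = Subgroup.normalizer (P₀ : Set G) := ⟨_, rfl⟩
  rw [← hL] at hfr
  have hP₀S : P₀ ≤ (S : Subgroup G) := hP₀ ▸ inf_le_left
  have hP₀L : P₀ ≤ L := hL ▸ Subgroup.le_normalizer
  -- S ∩ N = 1
  have hSN : ∀ n ∈ Cfsg.pPrimeCore p G, n ∈ (S : Subgroup G) → n = 1 := by
    intro n hn hnS
    obtain ⟨k, hk⟩ := (IsPGroup.iff_orderOf.mp S.2) ⟨n, hnS⟩
    rw [Subgroup.orderOf_mk] at hk
    have h1 : orderOf n ∣ Nat.card (Cfsg.pPrimeCore p G) := by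
      have := orderOf_dvd_natCard (⟨n, hn⟩ : Cfsg.pPrimeCore p G)
      rwa [Subgroup.orderOf_mk] at this
    have h2 : (orderOf n).Coprime p :=
      Nat.Coprime.coprime_dvd_left h1 (card_pPrimeCore_coprime p)
    rw [hk] at h2
    rcases Nat.eq_zero_or_pos k with rfl | hkpos
    · rw [pow_zero] at hk; exact orderOf_eq_one_iff.mp hk
    · exfalso
      have h3 : (p ^ k).Coprime p ↔ Nat.Coprime p p :=
        Nat.coprime_pow_left_iff hkpos p p
      rw [h3, Nat.coprime_self] at h2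
      exact hp.out.one_lt.ne' h2
  -- S ≤ L
  have hSL : (S : Subgroup G) ≤ L := by
    intro s hs
    rw [hL, Subgroup.mem_normalizer_iff]
    intro x
    rw [hP₀]
    constructor
    · rintro ⟨hxS, hxH⟩
      exact ⟨Subgroup.mul_mem _ (Subgroup.mul_mem _ hs hxS) (Subgroup.inv_mem _ hs),
        hHn.conj_mem x hxH s⟩
    · rintro ⟨hxS, hxH⟩
      have e : x = s⁻¹ * (s * x * s⁻¹) * s := by group
      rw [e]
      refine ⟨Subgroup.mul_mem _ (Subgroup.mul_mem _ (Subgroup.inv_mem _ hs) hxS) hs, ?_⟩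
      have := hHn.conj_mem _ hxH s⁻¹
      rwa [inv_inv] at this
  -- V
  obtain ⟨V, hV⟩ : ∃ V : Subgroup G, V = P₀ ⊓ Subgroup.centralizer (P₀ : Set G) := ⟨_, rfl⟩
  have hVP₀ : V ≤ P₀ := hV ▸ inf_le_left
  have hVcomm : IsMulCommutative V := by
    refine ⟨⟨fun a b => ?_⟩⟩
    ext
    have ha : (a : G) ∈ Subgroup.centralizer (P₀ : Set G) := (hV ▸ a.2 : (a : G) ∈ P₀ ⊓ _).2
    have hb : (b : G) ∈ P₀ := hVP₀ b.2
    exact (Subgroup.mem_centralizer_iff.mp ha b hb).symm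
  have hLV1 : ∀ l ∈ L, ∀ v ∈ V, l * v * l⁻¹ ∈ V := by
    intro l hl v hv
    rw [hV] at hv ⊢
    rw [hL, Subgroup.mem_normalizer_iff] at hl
    refine Subgroup.mem_inf.mpr ⟨(hl v).mp hv.1, ?_⟩
    rw [Subgroup.mem_centralizer_iff]
    intro x hx
    have hx' : l⁻¹ * x * l ∈ P₀ := by
      rw [hl (l⁻¹ * x * l)]
      have : l * (l⁻¹ * x * l) * l⁻¹ = x := by group
      rw [this]; exact hx
    have h1 := Subgroup.mem_centralizer_iff.mp hv.2 _ hx'
    calc x * (l * v * l⁻¹) = l * ((l⁻¹ * x * l) * v) * l⁻¹ := by group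
      _ = l * (v * (l⁻¹ * x * l)) * l⁻¹ := by rw [h1]
      _ = l * v * l⁻¹ * x := by group
  have hLV : L ≤ Subgroup.normalizer (V : Set G) := by
    intro l hl
    rw [Subgroup.mem_normalizer_iff]
    intro v
    refine ⟨hLV1 l hl v, fun h => ?_⟩
    have := hLV1 l⁻¹ (L.inv_mem hl) _ h
    have e : l⁻¹ * (l * v * l⁻¹) * l⁻¹⁻¹ = v := by group
    rwa [e] at this
  have hcop : ((S : Subgroup G).relIndex L).Coprime (Nat.card V) := by
    have h1 : (S : Subgroup G).relIndex L ∣ (S : Subgroup G).index :=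
      Subgroup.relIndex_dvd_index_of_le hSL
    have h2 : ¬ p ∣ (S : Subgroup G).relIndex L := fun h => S.not_dvd_index (h.trans h1)
    have hVp : IsPGroup p V := S.2.to_le (hVP₀.trans hP₀S)
    obtain ⟨k, hk⟩ := IsPGroup.iff_card.mp hVp
    rw [hk]
    exact Nat.Coprime.pow_right k ((Nat.Prime.coprime_iff_not_dvd hp.out).mpr h2).symm
  have hVS : V ⊓ Subgroup.centralizer ((S : Subgroup G) : Set G)
      = (S : Subgroup G) ⊓ Subgroup.centralizer ((S : Subgroup G) : Set G) := by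
    apply le_antisymm
    · exact inf_le_inf_right _ (hVP₀.trans hP₀S)
    · intro z hz
      have hzP₀ : z ∈ P₀ := hP₀ ▸ ⟨hz.1, hZ hz⟩
      exact ⟨hV ▸ ⟨hzP₀, Subgroup.centralizer_le hP₀S hz.2⟩, hz.2⟩
  obtain ⟨K, hK1, hK2, hK3⟩ := exists_complement_fixed L (S : Subgroup G) V hSL hLV hcop
  rw [hVS] at hK1 hK3
  refine ⟨V ⊓ Subgroup.centralizer (L : Set G), K, ?_, hK1, hK2, hK3⟩
  intro x
  constructor
  · rintro ⟨hxV, hxL⟩
    have hxS : x ∈ (S : Subgroup G) := hP₀S (hVP₀ hxV)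
    refine ⟨hxS, ?_⟩
    intro g hg
    obtain ⟨l, hl, n, hn, rfl⟩ := hfr g
    have hlx : l * x = x * l := Subgroup.mem_centralizer_iff.mp hxL l hl
    -- m' = l (x⁻¹ n x n⁻¹) l⁻¹ ∈ N
    have hm : l * (x⁻¹ * n * x * n⁻¹) * l⁻¹ ∈ Cfsg.pPrimeCore p G := by
      apply hNn.conj_mem
      apply Subgroup.mul_mem _ _ (Subgroup.inv_mem _ hn)
      have := hNn.conj_mem n hn x⁻¹
      rwa [inv_inv] at this
    have e : l * n * x * (l * n)⁻¹ = x * (l * (x⁻¹ * n * x * n⁻¹) * l⁻¹) := by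
      calc l * n * x * (l * n)⁻¹ = (l * x) * (x⁻¹ * n * x * n⁻¹) * l⁻¹ := by group
        _ = (x * l) * (x⁻¹ * n * x * n⁻¹) * l⁻¹ := by rw [hlx]
        _ = x * (l * (x⁻¹ * n * x * n⁻¹) * l⁻¹) := by group
    rw [e] at hg ⊢
    have hmS : l * (x⁻¹ * n * x * n⁻¹) * l⁻¹ ∈ (S : Subgroup G) := by
      have := Subgroup.mul_mem _ (Subgroup.inv_mem _ hxS) hg
      rwa [inv_mul_cancel_left] at this
    rw [hSN _ hm hmS, mul_one]
  · rintro ⟨hxS, hiso⟩
    have hxC : x ∈ Subgroup.centralizer ((S : Subgroup G) : Set G) := by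
      rw [Subgroup.mem_centralizer_iff]
      intro s hs
      have := hiso s (Subgroup.mul_mem _ (Subgroup.mul_mem _ hs hxS) (Subgroup.inv_mem _ hs))
      calc s * x = (s * x * s⁻¹) * s := by group
        _ = x * s := by rw [this]
    have hxV : x ∈ V := by
      have : x ∈ V ⊓ Subgroup.centralizer ((S : Subgroup G) : Set G) := hVS ▸ ⟨hxS, hxC⟩
      exact this.1
    refine Subgroup.mem_inf.mpr ⟨hxV, ?_⟩
    rw [Subgroup.mem_centralizer_iff]
    intro l hl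
    have h1 : l * x * l⁻¹ ∈ P₀ := by
      have hl' : l ∈ L := hl
      rw [hL, Subgroup.mem_normalizer_iff] at hl'
      exact (hl' x).mp (hVP₀ hxV)
    have := hiso l (hP₀S h1)
    calc l * x = (l * x * l⁻¹) * l := by group
      _ = x * l := by rw [this]

end Cfsg.Agent.Lead
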