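import Mathlib
import Cfsg.Agent.Helper6.KuDefs

set_option autoImplicit false

/-!
# S4607, piece K4: Peirce dimension count for a full set of lifted matrix units
-/

namespace Cfsg.Agent.Helper6.Ku

variable {F : Type*} [Field F] {A : Type*} [Ring A] [Algebra F A]
variable {n : ℕ} {J : Ideal A} {i : A} {e u v : Fin n → A}

theorem ld_uv_ne (h : MatUnits F n J i e u v) {j k : Fin n} (hjk : j ≠ k) : u j * v k = 0 := by
  rw [← h.u_right j, ← h.v_left k, mul_assoc, ← mul_assoc (e j), h.coi.ortho hjk, zero_mul,
    mul_zero]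

theorem ld_mem_corner (h : MatUnits F n J i e u v) (j k : Fin n) (x : A) :
    u j * x * v k ∈ corner F i := by
  rw [mem_corner]
  constructor
  · rw [← mul_assoc, ← mul_assoc, h.u_left]
  · rw [mul_assoc, h.v_right]

theorem ld_sum_e (h : MatUnits F n J i e u v) (x : A) :
    x = ∑ j, ∑ k, v j * (u j * x * v k) * u k := by
  have h1 : ∀ j k, v j * (u j * x * v k) * u k = e j * x * e k := by
    intro j k
    calc v j * (u j * x * v k) * u k = (v j * u j) * x * (v k * u k) := by
          simp only [mul_assoc]
      _ = e j * x * e k := by rw [h.vu, h.vu]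
  simp only [h1]
  calc x = (∑ j, e j) * x * (∑ k, e k) := by rw [h.coi.complete, one_mul, mul_one]
    _ = ∑ j, ∑ k, e j * x * e k := by
        rw [Finset.sum_mul, Finset.sum_mul]
        apply Finset.sum_congr rfl
        intro j _
        rw [Finset.mul_sum]

/-- the Peirce map `x ↦ (u j * x * v k)` -/
noncomputable def ld_toPi (h : MatUnits F n J i e u v) :
    A →ₗ[F] (Fin n × Fin n → corner F i) where
  toFun x := fun jk => ⟨u jk.1 * x * v jk.2, ld_mem_corner h jk.1 jk.2 x⟩
  map_add' x y := by
    ext jk
    simp [mul_add, add_mul]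
  map_smul' c x := by
    ext jk
    simp [mul_smul_comm, smul_mul_assoc]

theorem ld_toPi_apply (h : MatUnits F n J i e u v) (x : A) (jk : Fin n × Fin n) :
    ((ld_toPi h x jk : corner F i) : A) = u jk.1 * x * v jk.2 := rfl

theorem ld_toPi_injective (h : MatUnits F n J i e u v) : Function.Injective (ld_toPi h) := by
  rw [← LinearMap.ker_eq_bot, eq_bot_iff]
  intro x hx
  rw [LinearMap.mem_ker] at hx
  rw [Submodule.mem_bot]
  rw [ld_sum_e h x]
  apply Finset.sum_eq_zero
  intro j _
  apply Finset.sum_eq_zero
  intro k _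
  have h1 : ((ld_toPi h x (j, k) : corner F i) : A) = 0 := by rw [hx]; rfl
  rw [ld_toPi_apply] at h1
  simp only at h1
  rw [h1, mul_zero, zero_mul]

theorem ld_toPi_surjective (h : MatUnits F n J i e u v) : Function.Surjective (ld_toPi h) := by
  intro y
  refine ⟨∑ jk : Fin n × Fin n, v jk.1 * (y jk : A) * u jk.2, ?_⟩
  ext ⟨j, k⟩
  rw [ld_toPi_apply]
  simp only
  rw [Finset.mul_sum, Finset.sum_mul]
  rw [Finset.sum_eq_single (j, k)]
  · have hy := (y (j, k)).2
    rw [mem_corner] at hy
    calc u j * (v j * (y (j, k) : A) * u k) * v k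
        = (u j * v j) * (y (j, k) : A) * (u k * v k) := by simp only [mul_assoc]
      _ = (y (j, k) : A) := by rw [h.uv, h.uv, hy.1, hy.2]
  · rintro ⟨j', k'⟩ _ hne
    by_cases hj : j = j'
    · subst hj
      have hk : k' ≠ k := by
        intro hk
        apply hne
        rw [hk]
      calc u j * (v j * (y (j, k') : A) * u k') * v k
          = u j * (v j * (y (j, k') : A)) * (u k' * v k) := by simp only [mul_assoc]
        _ = 0 := by rw [ld_uv_ne h hk, mul_zero]
    · calc u j * (v j' * (y (j', k') : A) * u k') * v k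
          = (u j * v j') * ((y (j', k') : A) * u k' * v k) := by simp only [mul_assoc]
        _ = 0 := by rw [ld_uv_ne h hj, zero_mul]
  · intro hnot
    exact absurd (Finset.mem_univ _) hnot

/-- the Peirce map on the left ideal `A i`: `x ↦ (u j * x)` -/
noncomputable def ld_toPiL (h : MatUnits F n J i e u v) :
    leftIdeal F i →ₗ[F] (Fin n → corner F i) where
  toFun x := fun j => ⟨u j * (x : A), by
    obtain ⟨y, hy⟩ := (mem_leftIdeal F).1 x.2
    rw [mem_corner]
    constructor
    · rw [← mul_assoc, h.u_left]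
    · rw [← hy, mul_assoc, mul_assoc, h.idem.eq]⟩
  map_add' x y := by
    ext j
    simp [mul_add]
  map_smul' c x := by
    ext j
    simp [mul_smul_comm]

theorem ld_toPiL_apply (h : MatUnits F n J i e u v) (x : leftIdeal F i) (j : Fin n) :
    ((ld_toPiL h x j : corner F i) : A) = u j * (x : A) := rfl

theorem ld_toPiL_injective (h : MatUnits F n J i e u v) : Function.Injective (ld_toPiL h) := by
  rw [← LinearMap.ker_eq_bot, eq_bot_iff]
  intro x hx
  rw [LinearMap.mem_ker] at hx
  rw [Submodule.mem_bot]
  apply Subtype.ext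
  have h0 : ∀ j, u j * (x : A) = 0 := by
    intro j
    have h1 : ((ld_toPiL h x j : corner F i) : A) = 0 := by rw [hx]; rfl
    rwa [ld_toPiL_apply] at h1
  calc (x : A) = (∑ j, e j) * (x : A) := by rw [h.coi.complete, one_mul]
    _ = ∑ j, v j * (u j * (x : A)) := by
        rw [Finset.sum_mul]
        apply Finset.sum_congr rfl
        intro j _
        rw [← mul_assoc, h.vu]
    _ = 0 := by
        apply Finset.sum_eq_zero
        intro j _
        rw [h0, mul_zero]

theorem ld_toPiL_surjective (h : MatUnits F n J i e u v) : Function.Surjective (ld_toPiL h) := by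
  intro y
  have hmem : (∑ j, v j * (y j : A)) ∈ leftIdeal F i := by
    rw [mem_leftIdeal]
    refine ⟨∑ j, v j * (y j : A), ?_⟩
    rw [Finset.sum_mul]
    apply Finset.sum_congr rfl
    intro j _
    have hy := (y j).2
    rw [mem_corner] at hy
    rw [mul_assoc, hy.2]
  refine ⟨⟨_, hmem⟩, ?_⟩
  ext j
  rw [ld_toPiL_apply]
  simp only
  rw [Finset.mul_sum, Finset.sum_eq_single j]
  · have hy := (y j).2
    rw [mem_corner] at hy
    rw [← mul_assoc, h.uv, hy.1]
  · intro j' _ hne
    rw [← mul_assoc, ld_uv_ne h hne.symm, zero_mul]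
  · intro hnot
    exact absurd (Finset.mem_univ _) hnot

theorem MatUnits.finrank_eq [FiniteDimensional F A] {n : ℕ} {J : Ideal A} {i : A}
    {e u v : Fin n → A} (h : MatUnits F n J i e u v) :
    Module.finrank F A = n ^ 2 * Module.finrank F (corner F i) ∧
      Module.finrank F (leftIdeal F i) = n * Module.finrank F (corner F i) := by
  constructor
  · have heq := (LinearEquiv.ofBijective (ld_toPi h)
      ⟨ld_toPi_injective h, ld_toPi_surjective h⟩).finrank_eq
    rw [heq, Module.finrank_pi_fintype]
    simp [sq]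
  · have heq := (LinearEquiv.ofBijective (ld_toPiL h)
      ⟨ld_toPiL_injective h, ld_toPiL_surjective h⟩).finrank_eq
    rw [heq, Module.finrank_pi_fintype]
    simp

end Cfsg.Agent.Helper6.Ku
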