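import Mathlib

set_option autoImplicit false

/-! # An abelian group acting irreducibly on an abelian section is cyclic modulo the kernel

Piece D1 of helper6's plan for S4807. Mathlib only. -/

namespace Cfsg.Agent.Lead.RMcK

universe u

open scoped IsMulCommutative

/-- A finite group mapping multiplicatively into a commutative domain is cyclic modulo the
kernel. -/
theorem exists_cyclic_generator_of_domain {R : Type*} [CommRing R] [IsDomain R]
    {G : Type*} [Group G] [Finite G] (f : G →* R) :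
    ∃ c : G, ∀ a : G, ∃ k : ℕ, f (a * c ^ k) = 1 := by
  let f' : G →* Rˣ := f.toHomUnits
  have hf' : ∀ g, ((f' g : Rˣ) : R) = f g := fun g => rfl
  have hcyc : IsCyclic (G ⧸ f'.ker) :=
    isCyclic_of_injective_ringHom ((Units.coeHom R).comp (QuotientGroup.kerLift f'))
      (Units.val_injective.comp (QuotientGroup.kerLift_injective f'))
  obtain ⟨g, hg⟩ := hcyc.exists_generator
  obtain ⟨c, rfl⟩ := QuotientGroup.mk_surjective g
  refine ⟨c, ?_⟩
  intro a
  have h1 := hg ((a : G ⧸ f'.ker))⁻¹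
  rw [← mem_powers_iff_mem_zpowers] at h1
  obtain ⟨k, hk⟩ := h1
  refine ⟨k, ?_⟩
  have h2 : ((a * c ^ k : G) : G ⧸ f'.ker) = 1 := by
    rw [QuotientGroup.mk_mul, QuotientGroup.mk_pow]
    rw [show ((c : G ⧸ f'.ker)) ^ k = ((a : G ⧸ f'.ker))⁻¹ from hk]
    simp
  rw [QuotientGroup.eq_one_iff, MonoidHom.mem_ker] at h2
  rw [← hf', h2]
  rfl

/-- Schur: a commutative subring of `End M` acting irreducibly is a domain. -/
theorem isDomain_of_irreducible {M : Type*} [AddCommGroup M] [Nontrivial M]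
    (R : Subring (AddMonoid.End M)) [IsMulCommutative R]
    (hirr : ∀ U : AddSubgroup M, (∀ f : R, ∀ x ∈ U, (f : AddMonoid.End M) x ∈ U) →
      U = ⊥ ∨ U = ⊤) :
    IsDomain R := by
  have hmul : ∀ f g : R, ∀ x : M, ((f * g : R) : AddMonoid.End M) x =
      (f : AddMonoid.End M) ((g : AddMonoid.End M) x) := by
    intro f g x
    simp
  have hcommR : ∀ f g : R, ∀ x : M, (f : AddMonoid.End M) ((g : AddMonoid.End M) x) =
      (g : AddMonoid.End M) ((f : AddMonoid.End M) x) := by
    intro f g x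
    rw [← hmul, ← hmul, mul_comm]
  have hzero : ∀ f : R, (∀ x, (f : AddMonoid.End M) x = 0) → f = 0 := by
    intro f hf
    apply Subtype.ext
    ext x
    simpa using hf x
  have hinj : ∀ f : R, f ≠ 0 → ∀ x : M, (f : AddMonoid.End M) x = 0 → x = 0 := by
    intro f hf x hx
    let f' : M →+ M := (f : AddMonoid.End M)
    have hU := hirr (AddMonoidHom.ker f') (by
      intro g y hy
      have hy' : (f : AddMonoid.End M) y = 0 := hy
      change (f : AddMonoid.End M) ((g : AddMonoid.End M) y) = 0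
      rw [hcommR f g y, hy', map_zero])
    rcases hU with h | h
    · have : x ∈ AddMonoidHom.ker f' := hx
      rw [h] at this
      simpa using this
    · exfalso
      apply hf
      apply hzero
      intro y
      have : y ∈ AddMonoidHom.ker f' := by rw [h]; trivial
      exact this
  haveI : NoZeroDivisors R := by
    refine ⟨?_⟩
    intro f g hfg
    by_cases hf : f = 0
    · exact Or.inl hf
    · right
      apply hzero
      intro y
      have h1 : ((f * g : R) : AddMonoid.End M) y = 0 := by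
        rw [hfg]; simp
      rw [hmul] at h1
      exact hinj f hf _ h1
  haveI : Nontrivial R := by
    refine ⟨⟨0, 1, ?_⟩⟩
    intro h01
    obtain ⟨x, hx⟩ := exists_ne (0 : M)
    apply hx
    have := congrArg (fun z : R => (z : AddMonoid.End M) x) h01
    simpa using this.symm
  exact NoZeroDivisors.to_isDomain R

/-- Abstract form: commuting endomorphisms acting irreducibly on a nontrivial abelian group
generate a commutative domain (Schur), hence the acting group is cyclic modulo the kernel. -/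
theorem exists_cyclic_generator_of_irreducible {M : Type*} [AddCommGroup M] [Nontrivial M]
    {G : Type*} [Group G] [Finite G] (ρ : G →* AddMonoid.End M)
    (hcomm : ∀ a b, ρ a * ρ b = ρ b * ρ a)
    (hirr : ∀ U : AddSubgroup M, (∀ g, ∀ x ∈ U, ρ g x ∈ U) → U = ⊥ ∨ U = ⊤) :
    ∃ c : G, ∀ a : G, ∃ k : ℕ, ρ (a * c ^ k) = 1 := by
  have hSc : ∀ x ∈ Set.range ρ, ∀ y ∈ Set.range ρ, x * y = y * x := by
    rintro _ ⟨a, rfl⟩ _ ⟨b, rfl⟩
    exact hcomm a b
  haveI : IsMulCommutative (Subring.closure (Set.range ρ)) := Subring.isMulCommutative_closure hSc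
  haveI : IsDomain (Subring.closure (Set.range ρ)) := by
    apply isDomain_of_irreducible
    intro U hU
    apply hirr
    intro g x hx
    exact hU ⟨ρ g, Subring.subset_closure ⟨g, rfl⟩⟩ x hx
  let ρ' : G →* Subring.closure (Set.range ρ) :=
    { toFun := fun g => ⟨ρ g, Subring.subset_closure ⟨g, rfl⟩⟩
      map_one' := by apply Subtype.ext; simp
      map_mul' := by intro a b; apply Subtype.ext; simp }
  obtain ⟨c, hc⟩ := exists_cyclic_generator_of_domain ρ'
  refine ⟨c, fun a => ?_⟩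
  obtain ⟨k, hk⟩ := hc a
  refine ⟨k, ?_⟩
  have := congrArg (fun z : Subring.closure (Set.range ρ) => (z : AddMonoid.End M)) hk
  simpa [ρ'] using this

variable {Γ : Type u} [Group Γ] [Finite Γ]

/-- **D1** (helper6's skeleton for S4807): an abelian-mod-kernel group acting irreducibly on an
abelian section `T/T₀` is cyclic modulo the kernel of the action. -/
theorem D1_exists_cyclic_generator
    (T T₀ A : Subgroup Γ) (hT₀T : T₀ ≤ T) (hne : T₀ ≠ T)
    (hab : ∀ s ∈ T, ∀ t ∈ T, s * t * s⁻¹ * t⁻¹ ∈ T₀)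
    (hAT : A ≤ Subgroup.normalizer (T : Set Γ)) (hAT₀ : A ≤ Subgroup.normalizer (T₀ : Set Γ))
    (hirr : ∀ U : Subgroup Γ, T₀ ≤ U → U ≤ T → A ≤ Subgroup.normalizer (U : Set Γ) →
      U = T₀ ∨ U = T)
    (hAab : ∀ a ∈ A, ∀ b ∈ A, ∀ t ∈ T,
      (a * b * a⁻¹ * b⁻¹) * t * (a * b * a⁻¹ * b⁻¹)⁻¹ * t⁻¹ ∈ T₀) :
    ∃ c ∈ A, ∀ a ∈ A, ∃ k : ℕ, ∀ t ∈ T, (a * c ^ k) * t * (a * c ^ k)⁻¹ * t⁻¹ ∈ T₀ := by
  classical
  haveI hN : (T₀.subgroupOf T).Normal := by
    constructor
    intro n hn g
    rw [Subgroup.mem_subgroupOf] at hn ⊢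
    have h1 := hab g g.2 n n.2
    have h2 := T₀.mul_mem h1 hn
    have : ((g * n * g⁻¹ : T) : Γ) = (g : Γ) * n * (g : Γ)⁻¹ * (n : Γ)⁻¹ * n := by
      simp
    rw [this]; exact h2
  have hQc : ∀ x y : T ⧸ T₀.subgroupOf T, x * y = y * x := by
    intro x y
    induction x using QuotientGroup.induction_on with | H s =>
    induction y using QuotientGroup.induction_on with | H t =>
    rw [← QuotientGroup.mk_mul, ← QuotientGroup.mk_mul, QuotientGroup.eq, Subgroup.mem_subgroupOf]
    have := hab (t⁻¹ : T) (t⁻¹).2 (s⁻¹ : T) (s⁻¹).2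
    simpa [mul_assoc] using this
  letI : CommGroup (T ⧸ T₀.subgroupOf T) :=
    { (inferInstance : Group (T ⧸ T₀.subgroupOf T)) with mul_comm := hQc }
  let cjT : A → (T →* T) := fun a =>
    { toFun := fun t => ⟨(a : Γ) * t * (a : Γ)⁻¹,
        ((Subgroup.mem_normalizer_iff.mp (hAT a.2)) t).mp t.2⟩
      map_one' := by apply Subtype.ext; simp
      map_mul' := by intro s t; apply Subtype.ext; simp [mul_assoc] }
  have hcjT : ∀ (a : A) (t : T), ((cjT a t : T) : Γ) = (a : Γ) * t * (a : Γ)⁻¹ := fun a t => rfl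
  have hle : ∀ a : A, T₀.subgroupOf T ≤ (T₀.subgroupOf T).comap (cjT a) := by
    intro a t ht
    rw [Subgroup.mem_comap, Subgroup.mem_subgroupOf] at *
    rw [hcjT]
    exact ((Subgroup.mem_normalizer_iff.mp (hAT₀ a.2)) t).mp ht
  let ρ₀ : A → ((T ⧸ T₀.subgroupOf T) →* (T ⧸ T₀.subgroupOf T)) :=
    fun a => QuotientGroup.map _ _ (cjT a) (hle a)
  have hρ₀ : ∀ (a : A) (t : T), ρ₀ a (QuotientGroup.mk t) = QuotientGroup.mk (cjT a t) :=
    fun a t => rfl
  have hsurj : ∀ x : Additive (T ⧸ T₀.subgroupOf T), ∃ t : T,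
      x = Additive.ofMul (QuotientGroup.mk t : T ⧸ T₀.subgroupOf T) := by
    intro x
    obtain ⟨t, ht⟩ := QuotientGroup.mk_surjective (Additive.toMul x)
    exact ⟨t, by rw [ht]; rfl⟩
  let ρ : A →* AddMonoid.End (Additive (T ⧸ T₀.subgroupOf T)) :=
    { toFun := fun a => MonoidHom.toAdditive (ρ₀ a)
      map_one' := by
        refine AddMonoidHom.ext fun x => ?_
        obtain ⟨t, rfl⟩ := hsurj x
        change Additive.ofMul (ρ₀ 1 (QuotientGroup.mk t)) = Additive.ofMul (QuotientGroup.mk t)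
        rw [hρ₀]
        congr 2
        apply Subtype.ext
        rw [hcjT]
        simp
      map_mul' := by
        intro a b
        refine AddMonoidHom.ext fun x => ?_
        obtain ⟨t, rfl⟩ := hsurj x
        change Additive.ofMul (ρ₀ (a * b) (QuotientGroup.mk t)) =
          Additive.ofMul (ρ₀ a (ρ₀ b (QuotientGroup.mk t)))
        rw [hρ₀, hρ₀, hρ₀]
        congr 2
        apply Subtype.ext
        rw [hcjT, hcjT, hcjT]
        simp [mul_assoc] }
  have hρ : ∀ (a : A) (t : T), ρ a (Additive.ofMul (QuotientGroup.mk t : T ⧸ T₀.subgroupOf T)) =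
      Additive.ofMul (QuotientGroup.mk (cjT a t) : T ⧸ T₀.subgroupOf T) := fun a t => rfl
  -- triviality criterion
  have htriv : ∀ a : A, ρ a = 1 ↔ ∀ t ∈ T, (a : Γ) * t * (a : Γ)⁻¹ * t⁻¹ ∈ T₀ := by
    intro a
    constructor
    · intro h t ht
      have h1 := hρ a ⟨t, ht⟩
      rw [h] at h1
      have h2 : (QuotientGroup.mk (cjT a ⟨t, ht⟩) : T ⧸ T₀.subgroupOf T) =
          QuotientGroup.mk (⟨t, ht⟩ : T) := by
        have := congrArg Additive.toMul h1
        simpa using this.symm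
      have h3 : (QuotientGroup.mk (cjT a ⟨t, ht⟩ * (⟨t, ht⟩ : T)⁻¹) : T ⧸ T₀.subgroupOf T) = 1 := by
        rw [QuotientGroup.mk_mul, h2, QuotientGroup.mk_inv, mul_inv_cancel]
      rw [QuotientGroup.eq_one_iff, Subgroup.mem_subgroupOf] at h3
      simpa [hcjT] using h3
    · intro h
      refine AddMonoidHom.ext fun x => ?_
      obtain ⟨t, rfl⟩ := hsurj x
      refine (hρ a t).trans ?_
      change _ = Additive.ofMul (QuotientGroup.mk t : T ⧸ T₀.subgroupOf T)
      congr 1
      have h3 : (QuotientGroup.mk (cjT a t * t⁻¹) : T ⧸ T₀.subgroupOf T) = 1 := by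
        rw [QuotientGroup.eq_one_iff, Subgroup.mem_subgroupOf]
        have := h t t.2
        simpa [hcjT] using this
      rw [QuotientGroup.mk_mul, QuotientGroup.mk_inv, mul_inv_eq_one] at h3
      exact h3
  haveI : Nontrivial (Additive (T ⧸ T₀.subgroupOf T)) := by
    obtain ⟨t, htT, htT₀⟩ := SetLike.exists_of_lt (lt_of_le_of_ne hT₀T hne)
    refine ⟨⟨Additive.ofMul (QuotientGroup.mk (⟨t, htT⟩ : T) : T ⧸ T₀.subgroupOf T), 0, ?_⟩⟩
    intro h
    apply htT₀
    have h1 : (QuotientGroup.mk (⟨t, htT⟩ : T) : T ⧸ T₀.subgroupOf T) = 1 := by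
      have := congrArg Additive.toMul h
      simpa using this
    rw [QuotientGroup.eq_one_iff, Subgroup.mem_subgroupOf] at h1
    exact h1
  have hcomm : ∀ a b : A, ρ a * ρ b = ρ b * ρ a := by
    intro a b
    have h1 : ρ (a * b * a⁻¹ * b⁻¹) = 1 := by
      rw [htriv]
      intro t ht
      have := hAab a a.2 b b.2 t ht
      simpa using this
    have h2 : a * b = (a * b * a⁻¹ * b⁻¹) * (b * a) := by group
    rw [← map_mul, ← map_mul, h2, map_mul, h1, one_mul]
  have hirr' : ∀ U' : AddSubgroup (Additive (T ⧸ T₀.subgroupOf T)),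
      (∀ g, ∀ x ∈ U', ρ g x ∈ U') → U' = ⊥ ∨ U' = ⊤ := by
    intro U' hU'
    let U : Subgroup Γ :=
      { carrier := {g | ∃ h : g ∈ T,
          Additive.ofMul (QuotientGroup.mk (⟨g, h⟩ : T) : T ⧸ T₀.subgroupOf T) ∈ U'}
        mul_mem' := by
          rintro g g' ⟨h, hg⟩ ⟨h', hg'⟩
          refine ⟨T.mul_mem h h', ?_⟩
          have := U'.add_mem hg hg'
          exact this
        one_mem' := by
          refine ⟨T.one_mem, ?_⟩
          exact U'.zero_mem
        inv_mem' := by
          rintro g ⟨h, hg⟩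
          refine ⟨T.inv_mem h, ?_⟩
          have := U'.neg_mem hg
          exact this }
    have hUmem : ∀ g, g ∈ U ↔ ∃ h : g ∈ T,
        Additive.ofMul (QuotientGroup.mk (⟨g, h⟩ : T) : T ⧸ T₀.subgroupOf T) ∈ U' :=
      fun g => Iff.rfl
    have hconj : ∀ a ∈ A, ∀ g ∈ U, a * g * a⁻¹ ∈ U := by
      intro a ha g hg
      obtain ⟨h, hg⟩ := (hUmem g).mp hg
      have h1 := hU' ⟨a, ha⟩ _ hg
      rw [hρ] at h1
      exact (hUmem _).mpr ⟨(cjT ⟨a, ha⟩ ⟨g, h⟩).2, h1⟩
    have hUT₀ : T₀ ≤ U := by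
      intro g hg
      refine (hUmem g).mpr ⟨hT₀T hg, ?_⟩
      have : (QuotientGroup.mk (⟨g, hT₀T hg⟩ : T) : T ⧸ T₀.subgroupOf T) = 1 := by
        rw [QuotientGroup.eq_one_iff, Subgroup.mem_subgroupOf]
        exact hg
      rw [this]
      exact U'.zero_mem
    have hUT : U ≤ T := by
      intro g hg
      exact ((hUmem g).mp hg).1
    have hAU : A ≤ Subgroup.normalizer (U : Set Γ) := by
      intro a ha
      rw [Subgroup.mem_normalizer_iff]
      intro g
      constructor
      · exact hconj a ha g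
      · intro hg
        have := hconj a⁻¹ (A.inv_mem ha) _ hg
        simpa [mul_assoc] using this
    rcases hirr U hUT₀ hUT hAU with h | h
    · left
      rw [eq_bot_iff]
      intro x hx
      obtain ⟨t, rfl⟩ := hsurj x
      have h1 : (t : Γ) ∈ U := (hUmem _).mpr ⟨t.2, hx⟩
      rw [h] at h1
      have : (QuotientGroup.mk t : T ⧸ T₀.subgroupOf T) = 1 := by
        rw [QuotientGroup.eq_one_iff, Subgroup.mem_subgroupOf]
        exact h1
      rw [this]
      exact AddSubgroup.zero_mem _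
    · right
      rw [eq_top_iff]
      intro x _
      obtain ⟨t, rfl⟩ := hsurj x
      have h1 : (t : Γ) ∈ U := by rw [h]; exact t.2
      obtain ⟨_, h2⟩ := (hUmem _).mp h1
      exact h2
  obtain ⟨c, hc⟩ := exists_cyclic_generator_of_irreducible ρ hcomm hirr'
  refine ⟨c.1, c.2, ?_⟩
  intro a ha
  obtain ⟨k, hk⟩ := hc ⟨a, ha⟩
  refine ⟨k, ?_⟩
  have := (htriv _).mp hk
  simpa using this

end Cfsg.Agent.Lead.RMcK
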