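import Mathlib
import Cfsg.Agent.Helper7.FHDefs

/-!
# S1142 piece G6 : basic facts on the matrices `relM B g` (lead)
-/

set_option autoImplicit false
set_option linter.unusedVariables false
set_option linter.unusedSectionVars false

namespace Cfsg.Agent.Helper7.FH

open Matrix Finset

section relM

variable {G : Type*} [Group G]

theorem lead_dc_mul_right {B : Subgroup G} {g z b : G} (hz : z ∈ dc B g) (hb : b ∈ B) :
    z * b ∈ dc B g := by
  obtain ⟨b1, hb1, b2, hb2, rfl⟩ := mem_dc.1 hz
  exact mem_dc.2 ⟨b1, hb1, b2 * b, B.mul_mem hb2 hb, by group⟩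

theorem lead_dc_inv {B : Subgroup G} {g z : G} (hz : z ∈ dc B g) : z⁻¹ ∈ dc B g⁻¹ := by
  obtain ⟨b1, hb1, b2, hb2, rfl⟩ := mem_dc.1 hz
  exact mem_dc.2 ⟨b2⁻¹, B.inv_mem hb2, b1⁻¹, B.inv_mem hb1, by group⟩

theorem lead_dc_one {B : Subgroup G} {z : G} : z ∈ dc B (1 : G) ↔ z ∈ B := by
  constructor
  · intro hz
    obtain ⟨b1, hb1, b2, hb2, rfl⟩ := mem_dc.1 hz
    simpa using B.mul_mem hb1 hb2
  · intro hz
    exact mem_dc.2 ⟨z, hz, 1, B.one_mem, by group⟩

theorem lead_out_mk_mem_dc_iff {B : Subgroup G} {g h : G} :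
    Quotient.out (QuotientGroup.mk h : G ⧸ B) ∈ dc B g ↔ h ∈ dc B g := by
  obtain ⟨b, hb⟩ := QuotientGroup.mk_out_eq_mul B h
  rw [hb]
  constructor
  · intro hz
    have := lead_dc_mul_right hz (B.inv_mem b.2)
    simpa using this
  · intro hz
    exact lead_dc_mul_right hz b.2

theorem lead_out_inv_mul_out_mem_iff {B : Subgroup G} {x y : G ⧸ B} :
    (Quotient.out x)⁻¹ * Quotient.out y ∈ B ↔ x = y := by
  rw [← QuotientGroup.eq, QuotientGroup.out_eq', QuotientGroup.out_eq']

variable [Finite G] (B : Subgroup G) [Fintype (G ⧸ B)] [DecidableEq (G ⧸ B)]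

/-- G6 -/
theorem relM_one : relM B (1 : G) = 1 := by
  classical
  ext x y
  rw [relM_apply, Matrix.one_apply]
  by_cases hxy : x = y
  · rw [if_pos hxy, if_pos]
    exact lead_dc_one.2 (lead_out_inv_mul_out_mem_iff.2 hxy)
  · rw [if_neg hxy, if_neg]
    intro h
    exact hxy (lead_out_inv_mul_out_mem_iff.1 (lead_dc_one.1 h))

/-- G6 -/
theorem relM_transpose (g : G) : (relM B g).transpose = relM B g⁻¹ := by
  classical
  ext x y
  rw [Matrix.transpose_apply, relM_apply, relM_apply]
  have : (Quotient.out y)⁻¹ * Quotient.out x ∈ dc B g ↔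
      (Quotient.out x)⁻¹ * Quotient.out y ∈ dc B g⁻¹ := by
    constructor
    · intro h
      have := lead_dc_inv h
      simpa using this
    · intro h
      have := lead_dc_inv h
      simpa using this
  by_cases h : (Quotient.out y)⁻¹ * Quotient.out x ∈ dc B g
  · rw [if_pos h, if_pos (this.1 h)]
  · rw [if_neg h, if_neg (fun h' => h (this.2 h'))]

/-- G6 -/
theorem relM_congr {g g' : G} (h : dc B g = dc B g') :
    relM B g = relM B g' ∧ qd B g = qd B g' := by
  classical
  constructor
  · ext x y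
    rw [relM_apply, relM_apply, h]
  · unfold qd
    rw [h]

/-- each row of `relM B g` has exactly `qd B g` ones -/
theorem lead_relM_row_sum (g : G) (x : G ⧸ B) :
    ∑ y, relM B g x y = (qd B g : ℝ) := by
  classical
  -- translate by `(out x)⁻¹`
  have h1 : ∀ y : G ⧸ B, relM B g x y =
      (fun z : G ⧸ B => if Quotient.out z ∈ dc B g then (1 : ℝ) else 0)
        ((MulAction.toPerm (Quotient.out x)⁻¹ : Equiv.Perm (G ⧸ B)) y) := by
    intro y
    rw [relM_apply]
    have hy : ((MulAction.toPerm (Quotient.out x)⁻¹ : Equiv.Perm (G ⧸ B)) y) =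
        QuotientGroup.mk ((Quotient.out x)⁻¹ * Quotient.out y) := by
      rw [MulAction.toPerm_apply]
      conv_lhs => rw [← QuotientGroup.out_eq' y]
      rfl
    simp only [hy]
    by_cases h : (Quotient.out x)⁻¹ * Quotient.out y ∈ dc B g
    · rw [if_pos h, if_pos (lead_out_mk_mem_dc_iff.2 h)]
    · rw [if_neg h, if_neg (fun h' => h (lead_out_mk_mem_dc_iff.1 h'))]
  rw [Fintype.sum_equiv (MulAction.toPerm (Quotient.out x)⁻¹ : Equiv.Perm (G ⧸ B))
    (fun y => relM B g x y)
    (fun z : G ⧸ B => if Quotient.out z ∈ dc B g then (1 : ℝ) else 0) h1]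
  rw [Finset.sum_boole]
  unfold qd
  rw [Nat.card_eq_fintype_card, Fintype.card_subtype]

theorem lead_relM_mul_self (g : G) (x y : G ⧸ B) :
    relM B g x y * relM B g x y = relM B g x y := by
  classical
  rw [relM_apply]
  split_ifs <;> simp

/-- G6 -/
theorem relM_trace (g g' : G) :
    Matrix.trace ((relM B g).transpose * relM B g') =
      if dc B g = dc B g' then (Fintype.card (G ⧸ B) : ℝ) * (qd B g : ℝ) else 0 := by
  classical
  have h0 : Matrix.trace ((relM B g).transpose * relM B g') =
      ∑ x, ∑ y, relM B g x y * relM B g' x y := by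
    simp only [Matrix.trace, Matrix.diag_apply, Matrix.mul_apply, Matrix.transpose_apply]
    rw [Finset.sum_comm]
  rw [h0]
  by_cases h : dc B g = dc B g'
  · rw [if_pos h]
    have hM : relM B g' = relM B g := ((relM_congr B h).1).symm
    rw [hM]
    have : ∀ x : G ⧸ B, ∑ y, relM B g x y * relM B g x y = (qd B g : ℝ) := by
      intro x
      simp only [lead_relM_mul_self]
      exact lead_relM_row_sum B g x
    simp only [this]
    rw [Finset.sum_const, Finset.card_univ, nsmul_eq_mul]
  · rw [if_neg h]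
    apply Finset.sum_eq_zero
    intro x _
    apply Finset.sum_eq_zero
    intro y _
    rw [relM_apply, relM_apply]
    by_cases h1 : (Quotient.out x)⁻¹ * Quotient.out y ∈ dc B g
    · by_cases h2 : (Quotient.out x)⁻¹ * Quotient.out y ∈ dc B g'
      · exfalso
        apply h
        have e1 := DoubleCoset.doubleCoset_eq_of_mem h1
        have e2 := DoubleCoset.doubleCoset_eq_of_mem h2
        exact e1.symm.trans e2
      · rw [if_neg h2]; simp
    · rw [if_neg h1]; simp

end relM

end Cfsg.Agent.Helper7.FH
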