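import Mathlib
import Cfsg.Agent.Helper7.FHDefs

/-!
# S1142 piece L6 : solving the scalar equations `u_{d'} = 0`, `u_{d'+1} + q u_{d'} = 0` (lead)
-/

set_option autoImplicit false
set_option linter.unusedVariables false
set_option linter.unusedSectionVars false

namespace Cfsg.Agent.Helper7.FH

open Matrix Finset

theorem lead_useq_succ_succ (t c2 : ℝ) (k : ℕ) :
    useq t c2 (k + 2) = t * useq t c2 (k + 1) - c2 * useq t c2 k := rfl

theorem lead_useq_neg (t c2 : ℝ) : ∀ k, useq (-t) c2 k = (-1) ^ (k + 1) * useq t c2 k := by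
  intro k
  induction k using Nat.twoStepInduction with
  | zero => simp [useq]
  | one => simp [useq]
  | more k ih0 ih1 =>
    rw [lead_useq_succ_succ, lead_useq_succ_succ, ih0, ih1]
    ring

theorem lead_useq_pos (t c : ℝ) (hc : 0 < c) (ht : 2 * c ≤ t) :
    ∀ k, 0 < useq t (c * c) (k + 1) ∧ 0 < useq t (c * c) (k + 1) - c * useq t (c * c) k := by
  intro k
  induction k with
  | zero => simp [useq]
  | succ k ih =>
    obtain ⟨h1, h2⟩ := ih
    have hv : 0 < useq t (c * c) (k + 1 + 1) - c * useq t (c * c) (k + 1) := by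
      rw [lead_useq_succ_succ]
      have e : t * useq t (c * c) (k + 1) - c * c * useq t (c * c) k - c * useq t (c * c) (k + 1)
          = (t - 2 * c) * useq t (c * c) (k + 1)
            + c * (useq t (c * c) (k + 1) - c * useq t (c * c) k) := by ring
      rw [e]
      have a1 : 0 ≤ (t - 2 * c) * useq t (c * c) (k + 1) :=
        mul_nonneg (by linarith) h1.le
      have a2 : 0 < c * (useq t (c * c) (k + 1) - c * useq t (c * c) k) := mul_pos hc h2
      linarith
    refine ⟨?_, hv⟩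
    have : 0 < c * useq t (c * c) (k + 1) := mul_pos hc h1
    linarith

theorem lead_useq_trig (c θ : ℝ) :
    ∀ k : ℕ, useq (2 * c * Real.cos θ) (c * c) k * Real.sin θ * c = c ^ k * Real.sin (k * θ) := by
  intro k
  induction k using Nat.twoStepInduction with
  | zero => simp [useq]
  | one => simp [useq]; ring
  | more k ih0 ih1 =>
    rw [lead_useq_succ_succ]
    have e1 : ((k + 2 : ℕ) : ℝ) * θ = ((k + 1 : ℕ) : ℝ) * θ + θ := by push_cast; ring
    have e0 : ((k : ℕ) : ℝ) * θ = ((k + 1 : ℕ) : ℝ) * θ - θ := by push_cast; ring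
    rw [e0, Real.sin_sub] at ih0
    rw [e1, Real.sin_add]
    have : (2 * c * Real.cos θ * useq (2 * c * Real.cos θ) (c * c) (k + 1)
        - c * c * useq (2 * c * Real.cos θ) (c * c) k) * Real.sin θ * c
        = 2 * c * Real.cos θ * (useq (2 * c * Real.cos θ) (c * c) (k + 1) * Real.sin θ * c)
          - c * c * (useq (2 * c * Real.cos θ) (c * c) k * Real.sin θ * c) := by ring
    rw [this, ih0, ih1]
    ring

/-- common part: if `|t| < 2c` then `t = 2 c cos θ` with `θ ∈ (0, π)` -/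
theorem lead_exists_theta (c t : ℝ) (hc : 0 < c) (h1 : t < 2 * c) (h2 : -(2 * c) < t) :
    ∃ θ : ℝ, 0 < θ ∧ θ < Real.pi ∧ t = 2 * c * Real.cos θ := by
  have hx1 : -1 < t / (2 * c) := by
    rw [lt_div_iff₀ (by linarith)]; linarith
  have hx2 : t / (2 * c) < 1 := by
    rw [div_lt_iff₀ (by linarith)]; linarith
  refine ⟨Real.arccos (t / (2 * c)), Real.arccos_pos.2 hx2, Real.arccos_lt_pi.2 hx1, ?_⟩
  rw [Real.cos_arccos hx1.le hx2.le]
  field_simp

theorem useq_zero_even (c2 t : ℝ) (hc : 0 < c2) (d' : ℕ) (hd : 1 ≤ d')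
    (h : useq t c2 d' = 0) :
    ∃ j : ℕ, 1 ≤ j ∧ j < d' ∧ t = 2 * Real.sqrt c2 * Real.cos (Real.pi * j / d') := by
  have hcpos : 0 < Real.sqrt c2 := Real.sqrt_pos.2 hc
  have hcc : Real.sqrt c2 * Real.sqrt c2 = c2 := Real.mul_self_sqrt hc.le
  generalize Real.sqrt c2 = c at hcpos hcc ⊢
  rw [← hcc] at h
  obtain ⟨k, rfl⟩ : ∃ k, d' = k + 1 := ⟨d' - 1, by omega⟩
  rcases le_or_gt (2 * c) t with h1 | h1
  · exfalso
    have := (lead_useq_pos t c hcpos h1 k).1
    linarith
  rcases le_or_gt t (-(2 * c)) with h2 | h2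
  · exfalso
    have := (lead_useq_pos (-t) c hcpos (by linarith) k).1
    rw [lead_useq_neg, h] at this
    simp at this
  obtain ⟨θ, hθ0, hθπ, ht⟩ := lead_exists_theta c t hcpos h1 h2
  have key := lead_useq_trig c θ (k + 1)
  rw [← ht, h] at key
  have hs : Real.sin (((k + 1 : ℕ) : ℝ) * θ) = 0 := by
    have hne : c ^ (k + 1) ≠ 0 := pow_ne_zero _ hcpos.ne'
    have : c ^ (k + 1) * Real.sin (((k + 1 : ℕ) : ℝ) * θ) = 0 := by
      rw [← key]; ring
    rcases mul_eq_zero.1 this with h' | h'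
    · exact absurd h' hne
    · exact h'
  obtain ⟨n, hn⟩ := Real.sin_eq_zero_iff.1 hs
  have hpi := Real.pi_pos
  have hd0 : (0 : ℝ) < ((k + 1 : ℕ) : ℝ) := by positivity
  have hn0 : 0 < n := by
    have : (0 : ℝ) < (n : ℝ) * Real.pi := by rw [hn]; exact mul_pos hd0 hθ0
    have : (0 : ℝ) < (n : ℝ) := by
      by_contra hcon
      rw [not_lt] at hcon
      have := mul_nonpos_of_nonpos_of_nonneg hcon hpi.le
      linarith
    exact_mod_cast this
  have hnd : n < (k + 1 : ℕ) := by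
    have : (n : ℝ) * Real.pi < ((k + 1 : ℕ) : ℝ) * Real.pi := by
      rw [hn]; exact mul_lt_mul_of_pos_left hθπ hd0
    have : (n : ℝ) < ((k + 1 : ℕ) : ℝ) := lt_of_mul_lt_mul_right this hpi.le
    exact_mod_cast this
  refine ⟨n.toNat, ?_, ?_, ?_⟩
  · omega
  · omega
  · have hcast : ((n.toNat : ℕ) : ℝ) = (n : ℝ) := by
      have : ((n.toNat : ℕ) : ℤ) = n := Int.toNat_of_nonneg hn0.le
      exact_mod_cast this
    have hθ : θ = Real.pi * (n.toNat : ℝ) / ((k + 1 : ℕ) : ℝ) := by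
      rw [hcast, eq_div_iff hd0.ne']
      linarith
    rw [ht, hθ]

theorem useq_zero_odd (q t : ℝ) (hq : 0 < q) (d' : ℕ)
    (h : useq t (q * q) (d' + 1) + q * useq t (q * q) d' = 0) :
    ∃ j : ℕ, 1 ≤ j ∧ j ≤ d' ∧ t = 2 * q * Real.cos (2 * Real.pi * j / (2 * d' + 1)) := by
  have hnonneg : ∀ (s : ℝ), 2 * q ≤ s → ∀ k, 0 ≤ useq s (q * q) k := by
    intro s hs k
    cases k with
    | zero => simp [useq]
    | succ k => exact (lead_useq_pos s q hq hs k).1.le
  rcases le_or_gt (2 * q) t with h1 | h1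
  · exfalso
    have a1 := (lead_useq_pos t q hq h1 d').1
    have a2 := hnonneg t h1 d'
    have : 0 ≤ q * useq t (q * q) d' := mul_nonneg hq.le a2
    linarith
  rcases le_or_gt t (-(2 * q)) with h2 | h2
  · exfalso
    have a1 := (lead_useq_pos (-t) q hq (by linarith) d').2
    rw [lead_useq_neg, lead_useq_neg] at a1
    have e : (-1 : ℝ) ^ (d' + 1 + 1) * useq t (q * q) (d' + 1)
        - q * ((-1) ^ (d' + 1) * useq t (q * q) d')
        = (-1) ^ (d' + 1 + 1) * (useq t (q * q) (d' + 1) + q * useq t (q * q) d') := by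
      ring
    rw [e, h] at a1
    simp at a1
  obtain ⟨θ, hθ0, hθπ, ht⟩ := lead_exists_theta q t hq h1 h2
  have key1 := lead_useq_trig q θ (d' + 1)
  have key0 := lead_useq_trig q θ d'
  rw [← ht] at key1 key0
  have hsum : q ^ (d' + 1) * (Real.sin (((d' + 1 : ℕ) : ℝ) * θ) + Real.sin ((d' : ℝ) * θ)) = 0 := by
    have : (useq t (q * q) (d' + 1) + q * useq t (q * q) d') * Real.sin θ * q
        = q ^ (d' + 1) * (Real.sin (((d' + 1 : ℕ) : ℝ) * θ) + Real.sin ((d' : ℝ) * θ)) := by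
      have e : (useq t (q * q) (d' + 1) + q * useq t (q * q) d') * Real.sin θ * q
          = useq t (q * q) (d' + 1) * Real.sin θ * q + q * (useq t (q * q) d' * Real.sin θ * q) := by
        ring
      rw [e, key1, key0]; ring
    rw [← this, h]; ring
  have hne : q ^ (d' + 1) ≠ 0 := pow_ne_zero _ hq.ne'
  have hsum' : Real.sin (((d' + 1 : ℕ) : ℝ) * θ) + Real.sin ((d' : ℝ) * θ) = 0 := by
    rcases mul_eq_zero.1 hsum with h' | h'
    · exact absurd h' hne
    · exact h'
  -- sum to product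
  have hprod : Real.sin (((d' + 1 : ℕ) : ℝ) * θ) + Real.sin ((d' : ℝ) * θ)
      = 2 * Real.sin ((2 * (d' : ℝ) + 1) * θ / 2) * Real.cos (θ / 2) := by
    have e1 : ((d' + 1 : ℕ) : ℝ) * θ = (2 * (d' : ℝ) + 1) * θ / 2 + θ / 2 := by push_cast; ring
    have e0 : (d' : ℝ) * θ = (2 * (d' : ℝ) + 1) * θ / 2 - θ / 2 := by ring
    rw [e1, e0, Real.sin_add, Real.sin_sub]; ring
  rw [hprod] at hsum'
  have hcos : 0 < Real.cos (θ / 2) := by
    apply Real.cos_pos_of_mem_Ioo
    constructor <;> linarith [Real.pi_pos]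
  have hs : Real.sin ((2 * (d' : ℝ) + 1) * θ / 2) = 0 := by
    rcases mul_eq_zero.1 hsum' with h' | h'
    · rcases mul_eq_zero.1 h' with h'' | h''
      · norm_num at h''
      · exact h''
    · exact absurd h' hcos.ne'
  obtain ⟨n, hn⟩ := Real.sin_eq_zero_iff.1 hs
  have hpi := Real.pi_pos
  have hD : (0 : ℝ) < 2 * (d' : ℝ) + 1 := by positivity
  have hn0 : 0 < n := by
    have : (0 : ℝ) < (n : ℝ) * Real.pi := by
      rw [hn]; positivity
    have : (0 : ℝ) < (n : ℝ) := by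
      by_contra hcon
      rw [not_lt] at hcon
      have := mul_nonpos_of_nonpos_of_nonneg hcon hpi.le
      linarith
    exact_mod_cast this
  have hnd : 2 * n < 2 * (d' : ℤ) + 1 := by
    have : (n : ℝ) * Real.pi < (2 * (d' : ℝ) + 1) * Real.pi / 2 := by
      rw [hn]
      have := mul_lt_mul_of_pos_left hθπ hD
      linarith
    have h3 : (2 * (n : ℝ)) * Real.pi < (2 * (d' : ℝ) + 1) * Real.pi := by linarith
    have : 2 * (n : ℝ) < 2 * (d' : ℝ) + 1 := lt_of_mul_lt_mul_right h3 hpi.le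
    exact_mod_cast this
  refine ⟨n.toNat, ?_, ?_, ?_⟩
  · omega
  · omega
  · have hcast : ((n.toNat : ℕ) : ℝ) = (n : ℝ) := by
      have : ((n.toNat : ℕ) : ℤ) = n := Int.toNat_of_nonneg hn0.le
      exact_mod_cast this
    have hθ : θ = 2 * Real.pi * (n.toNat : ℝ) / (2 * (d' : ℝ) + 1) := by
      rw [hcast, eq_div_iff hD.ne']
      linarith
    rw [ht, hθ]

end Cfsg.Agent.Helper7.FH
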