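import Mathlib
import Cfsg.Agent.Helper7.OFxA

set_option autoImplicit false
set_option linter.unusedSectionVars false
set_option linter.unusedVariables false

/-!
# Piece P of S5977/S5978: a Siegel-type nilpotent map does not commute with an orthogonal structure
-/

namespace Cfsg.Agent.Lead.OFx

open Module Cfsg.Agent.Helper7.SpOrd Cfsg.Agent.Helper7.OFx

universe u

variable {F : Type u} [Field F] [Fintype F] {V : Type u} [AddCommGroup V] [Module F V]
  [FiniteDimensional F V]

theorem not_commute_siegel (h2 : (2 : F) ≠ 0) {Q : QuadraticForm F V}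
    (hV : ND (QuadraticMap.polarBilin Q) ⊤) {ζ : F} {δ : Module.End F V} (h : OS Q δ ζ) {a b : V}
    (ha : Q a = 0) (hb : Q b = 0) (hab : QuadraticMap.polar Q a b = 0)
    (hli : LinearIndependent F ![a, b]) (N : Module.End F V)
    (hN : ∀ u, N u = QuadraticMap.polar Q u a • b - QuadraticMap.polar Q u b • a)
    (hcomm : ∀ v, N (δ v) = δ (N v)) : False := by
  classical
  set B := QuadraticMap.polar Q with hB
  have hsymm : ∀ x y, B x y = B y x := fun x y => QuadraticMap.polar_comm Q x y
  have hBaddl : ∀ x y z, B (x + y) z = B x z + B y z := fun x y z => QuadraticMap.polar_add_left Q x y z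
  have hBsmull : ∀ (c : F) x z, B (c • x) z = c * B x z := fun c x z => by
    rw [hB, QuadraticMap.polar_smul_left, smul_eq_mul]
  have hBsubl : ∀ x y z, B (x - y) z = B x z - B y z := fun x y z => by
    rw [hB, QuadraticMap.polar_sub_left]
  -- independence consequences
  have hpair := LinearIndependent.pair_iff.mp hli
  have ha0 : a ≠ 0 := by
    intro h0
    have := hpair 1 0 (by rw [h0]; simp)
    exact one_ne_zero this.1
  -- skewness
  have hskew : ∀ x y, B (N x) y = - B x (N y) := by
    intro x y
    rw [hN x, hN y, hBsubl, hBsmull, hBsmull, hsymm x (_ - _), hBsubl, hBsmull, hBsmull,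
      hsymm b y, hsymm a y, hsymm b x, hsymm a x, hsymm y a, hsymm y b]
    ring
  have hNN : ∀ x, B (N x) x = 0 := by
    intro x
    rw [hN x, hBsubl, hBsmull, hBsmull, hsymm b x, hsymm a x]
    ring
  have hNd : ∀ x, B (N (δ x)) x = 0 := by
    intro x
    have h1 : B (N (δ x)) x = - B (N (δ x)) x := by
      calc B (N (δ x)) x = B (δ (N x)) x := by rw [hcomm]
        _ = B (N x) (δ x) := h.sa _ _
        _ = - B x (N (δ x)) := hskew _ _
        _ = - B (N (δ x)) x := by rw [hsymm]
    have h3 : (2 : F) * B (N (δ x)) x = 0 := by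
      have : B (N (δ x)) x + B (N (δ x)) x = 0 := by
        nth_rewrite 1 [h1]; ring
      rw [two_mul]; exact this
    exact (mul_eq_zero.mp h3).resolve_left h2
  -- a vector `u` with `B a u ≠ 0`
  obtain ⟨u, -, hu⟩ := hV a Submodule.mem_top ha0
  change B a u ≠ 0 at hu
  set w := N u with hw
  have hw0 : w ≠ 0 := by
    intro h0
    rw [hw, hN u] at h0
    have := hpair (-(B u b)) (B u a) (by
      rw [neg_smul, add_comm, ← sub_eq_add_neg]; exact h0)
    apply hu
    rw [hsymm]; exact this.2
  -- the spans
  have hmemW : ∀ x, N x ∈ Submodule.span F ({a, b} : Set V) := by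
    intro x
    rw [hN x]
    apply Submodule.sub_mem
    · exact Submodule.smul_mem _ _ (Submodule.subset_span (by simp))
    · exact Submodule.smul_mem _ _ (Submodule.subset_span (by simp))
  have hli2 : LinearIndependent F ![w, δ w] := by
    rw [LinearIndependent.pair_iff]
    intro s t hst
    exact h.indep hw0 hst
  have hle : Submodule.span F ({w, δ w} : Set V) ≤ Submodule.span F ({a, b} : Set V) := by
    rw [Submodule.span_le]
    intro x hx
    rcases hx with rfl | rfl
    · exact hmemW u
    · rw [hw, ← hcomm]; exact hmemW _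
  have hfr1 : finrank F (Submodule.span F ({a, b} : Set V)) = 2 := by
    have := finrank_span_eq_card hli
    have hr : Set.range ![a, b] = ({a, b} : Set V) := by
      ext x; simp [Set.mem_range, Fin.exists_fin_two, eq_comm, or_comm]
    rw [hr] at this
    simpa using this
  have hfr2 : finrank F (Submodule.span F ({w, δ w} : Set V)) = 2 := by
    have := finrank_span_eq_card hli2
    have hr : Set.range ![w, δ w] = ({w, δ w} : Set V) := by
      ext x; simp [Set.mem_range, Fin.exists_fin_two, eq_comm, or_comm]
    rw [hr] at this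
    simpa using this
  have heq : Submodule.span F ({w, δ w} : Set V) = Submodule.span F ({a, b} : Set V) :=
    Submodule.eq_of_le_of_finrank_eq hle (by rw [hfr1, hfr2])
  -- a vector `u'` with `B w u' ≠ 0`
  obtain ⟨u', -, hu'⟩ := hV w Submodule.mem_top hw0
  change B w u' ≠ 0 at hu'
  have hmem : N u' ∈ Submodule.span F ({w, δ w} : Set V) := by rw [heq]; exact hmemW u'
  obtain ⟨α, β, hαβ⟩ := Submodule.mem_span_pair.mp hmem
  set s := B w u' with hs
  set t := B (δ w) u' with ht
  have e1 : α * s + β * t = 0 := by
    have := hNN u'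
    rw [← hαβ, hBaddl, hBsmull, hBsmull] at this
    exact this
  have e2 : α * t + β * (ζ * s) = 0 := by
    have := hNd u'
    rw [hcomm, ← hαβ, map_add, map_smul, map_smul, h.sq, hBaddl, hBsmull, hBsmull, hBsmull] at this
    exact this
  have hdet : ζ * s ^ 2 - t ^ 2 ≠ 0 := by
    intro h0
    apply h.nsq
    refine ⟨t / s, ?_⟩
    field_simp
    linear_combination h0
  have hα : α = 0 := by
    have : α * (ζ * s ^ 2 - t ^ 2) = 0 := by linear_combination (ζ * s) * e1 - t * e2
    exact (mul_eq_zero.mp this).resolve_right hdet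
  have hβ : β = 0 := by
    have : β * (ζ * s ^ 2 - t ^ 2) = 0 := by linear_combination s * e2 - t * e1
    exact (mul_eq_zero.mp this).resolve_right hdet
  have hNu' : N u' = 0 := by rw [← hαβ, hα, hβ]; simp
  rw [hN u'] at hNu'
  have hc := hpair (-(B u' b)) (B u' a) (by
    rw [neg_smul, add_comm, ← sub_eq_add_neg]; exact hNu')
  have h1 : B u' b = 0 := by simpa using hc.1
  have h3 : B u' a = 0 := hc.2
  apply hu'
  rw [hs, hw, hN u, hBsubl, hBsmull, hBsmull, hsymm b u', hsymm a u', h1, h3]
  ring

end Cfsg.Agent.Lead.OFx
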