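import Mathlib
import Cfsg.Agent.Helper7.OFxA
import Cfsg.Agent.Helper8.WittQuad

set_option autoImplicit false
set_option linter.unusedSectionVars false
set_option linter.unusedVariables false

/-!
# Piece T of S5977/S5978: two orthogonal structures of degree two on the same quadratic space are
conjugate under the isometry group (given the two black boxes `hK2`, `hK1` on normalised vectors).
-/

namespace Cfsg.Agent.Lead.OFx

open Module Cfsg.Agent.Helper7.SpOrd Cfsg.Agent.Helper7.OFx

universe u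

variable {F : Type u} [Field F] {V : Type u} [AddCommGroup V] [Module F V]

section basic

variable {Q : QuadraticForm F V} {δ : Module.End F V} {ζ : F}

theorem polarBilin_isRefl (Q : QuadraticForm F V) : (QuadraticMap.polarBilin Q).IsRefl := by
  intro x y hxy
  rw [QuadraticMap.polarBilin_apply_apply] at hxy ⊢
  rw [QuadraticMap.polar_comm]; exact hxy

/-- the data of a vector cannot be degenerate unless it vanishes. -/
theorem os_data_eq_zero (h : OS Q δ ζ) {s t : F} (hst : ζ * s ^ 2 - t ^ 2 = 0) : s = 0 ∧ t = 0 := by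
  have hs : s = 0 := by
    by_contra hs
    apply h.nsq
    refine ⟨t / s, ?_⟩
    field_simp
    linear_combination hst
  refine ⟨hs, ?_⟩
  rw [hs] at hst
  have : t ^ 2 = 0 := by linear_combination -hst
  exact pow_eq_zero_iff (two_ne_zero) |>.mp this

/-- solving the `2 × 2` system. -/
theorem os_solve (h : OS Q δ ζ) {s t a b : F} (hst : ζ * s ^ 2 - t ^ 2 ≠ 0)
    (e1 : a * s + b * t = 0) (e2 : a * t + b * (ζ * s) = 0) : a = 0 ∧ b = 0 := by
  constructor
  · have : a * (ζ * s ^ 2 - t ^ 2) = 0 := by linear_combination (ζ * s) * e1 - t * e2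
    exact (mul_eq_zero.mp this).resolve_right hst
  · have : b * (ζ * s ^ 2 - t ^ 2) = 0 := by linear_combination s * e2 - t * e1
    exact (mul_eq_zero.mp this).resolve_right hst

/-- the plane spanned by `w`, `δ w`. -/
def plane (δ : Module.End F V) (w : V) : Submodule F V := Submodule.span F {w, δ w}

theorem mem_plane_iff {w x : V} : x ∈ plane δ w ↔ ∃ a b : F, a • w + b • δ w = x :=
  Submodule.mem_span_pair

theorem os_plane_invt (h : OS Q δ ζ) (w : V) : plane δ w ∈ Module.End.invtSubmodule δ := by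
  rw [Module.End.mem_invtSubmodule]
  intro x hx
  rw [Submodule.mem_comap]
  obtain ⟨a, b, rfl⟩ := mem_plane_iff.mp hx
  rw [map_add, map_smul, map_smul, h.sq, mem_plane_iff]
  exact ⟨b * ζ, a, by rw [smul_smul, add_comm]⟩

theorem plane_le {W : Submodule F V} (hWi : W ∈ Module.End.invtSubmodule δ) {w : V} (hw : w ∈ W) :
    plane δ w ≤ W := by
  unfold plane
  rw [Submodule.span_le]
  intro x hx
  rcases hx with rfl | rfl
  · exact hw
  · exact (Module.End.mem_invtSubmodule δ).mp hWi hw

theorem os_plane_nd (h : OS Q δ ζ) {w : V}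
    (hdet : ζ * (QuadraticMap.polar Q w w) ^ 2 - (QuadraticMap.polar Q (δ w) w) ^ 2 ≠ 0) :
    ND (QuadraticMap.polarBilin Q) (plane δ w) := by
  intro x hx hx0
  obtain ⟨a, b, rfl⟩ := mem_plane_iff.mp hx
  by_contra hcon
  push Not at hcon
  have e1 := hcon w (Submodule.subset_span (by simp))
  have e2 := hcon (δ w) (Submodule.subset_span (by simp))
  rw [QuadraticMap.polarBilin_apply_apply, QuadraticMap.polar_add_left, QuadraticMap.polar_smul_left,
    QuadraticMap.polar_smul_left, smul_eq_mul, smul_eq_mul] at e1 e2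
  rw [h.polar_delta, QuadraticMap.polar_comm Q w (δ w)] at e2
  obtain ⟨ha, hb⟩ := os_solve h hdet e1 e2
  apply hx0
  rw [ha, hb, zero_smul, zero_smul, add_zero]

theorem os_plane_finrank (h : OS Q δ ζ) {w : V} (hw : w ≠ 0) : finrank F (plane δ w) = 2 := by
  have hli : LinearIndependent F ![w, δ w] := by
    rw [LinearIndependent.pair_iff]
    intro s t hst
    exact h.indep hw hst
  have := finrank_span_eq_card hli
  have hr : Set.range ![w, δ w] = ({w, δ w} : Set V) := by
    ext x; simp [eq_comm, or_comm]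
  rw [hr] at this
  unfold plane
  simpa using this

theorem os_perp_invt (h : OS Q δ ζ) {P W : Submodule F V} (hP : P ∈ Module.End.invtSubmodule δ)
    (hW : W ∈ Module.End.invtSubmodule δ) :
    LinearMap.BilinForm.orthogonal (QuadraticMap.polarBilin Q) P ⊓ W ∈ Module.End.invtSubmodule δ := by
  rw [Module.End.mem_invtSubmodule]
  intro x hx
  rw [Submodule.mem_comap]
  refine ⟨?_, (Module.End.mem_invtSubmodule δ).mp hW hx.2⟩
  change δ x ∈ LinearMap.BilinForm.orthogonal (QuadraticMap.polarBilin Q) P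
  rw [mem_perp]
  intro p hp
  rw [QuadraticMap.polarBilin_apply_apply, ← h.sa]
  have := mem_perp.mp hx.1 (δ p) ((Module.End.mem_invtSubmodule δ).mp hP hp)
  rwa [QuadraticMap.polarBilin_apply_apply] at this

theorem os_peel [FiniteDimensional F V] (h : OS Q δ ζ) {W : Submodule F V}
    (hWi : W ∈ Module.End.invtSubmodule δ) (hW : ND (QuadraticMap.polarBilin Q) W) {w : V} (hw : w ∈ W)
    (hdet : ζ * (QuadraticMap.polar Q w w) ^ 2 - (QuadraticMap.polar Q (δ w) w) ^ 2 ≠ 0) :
    LinearMap.BilinForm.orthogonal (QuadraticMap.polarBilin Q) (plane δ w) ⊓ W ∈ Module.End.invtSubmodule δ ∧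
    ND (QuadraticMap.polarBilin Q)
      (LinearMap.BilinForm.orthogonal (QuadraticMap.polarBilin Q) (plane δ w) ⊓ W) ∧
    finrank F ↥(LinearMap.BilinForm.orthogonal (QuadraticMap.polarBilin Q) (plane δ w) ⊓ W) + 2 =
      finrank F ↥W := by
  have hw0 : w ≠ 0 := by
    intro h0
    apply hdet
    rw [h0, map_zero, QuadraticMap.polar_zero_left]
    ring
  have hB := polarBilin_isRefl Q
  refine ⟨os_perp_invt h (os_plane_invt h w) hWi,
    nd_perp_inf hB (os_plane_nd h hdet) hW (plane_le hWi hw), ?_⟩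
  have := finrank_perp_inf hB (os_plane_nd h hdet) (plane_le hWi hw)
  rw [os_plane_finrank h hw0] at this
  omega

theorem exists_aniso (h2 : (2 : F) ≠ 0) {W : Submodule F V} (hW : ND (QuadraticMap.polarBilin Q) W)
    (hW0 : W ≠ ⊥) : ∃ w ∈ W, QuadraticMap.polar Q w w ≠ 0 := by
  obtain ⟨u, hu, hu0⟩ := (Submodule.ne_bot_iff W).mp hW0
  obtain ⟨w, hw, huw⟩ := hW u hu hu0
  rw [QuadraticMap.polarBilin_apply_apply] at huw
  by_cases h1 : QuadraticMap.polar Q u u = 0
  · by_cases h3 : QuadraticMap.polar Q w w = 0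
    · refine ⟨u + w, W.add_mem hu hw, ?_⟩
      rw [QuadraticMap.polar_add_left, QuadraticMap.polar_add_right, QuadraticMap.polar_add_right, h1, h3,
        QuadraticMap.polar_comm Q w u]
      intro h0
      apply huw
      have : (2 : F) * QuadraticMap.polar Q u w = 0 := by linear_combination h0
      exact (mul_eq_zero.mp this).resolve_left h2
    · exact ⟨w, hw, h3⟩
  · exact ⟨u, hu, h1⟩

theorem os_even_finrank [FiniteDimensional F V] (h2 : (2 : F) ≠ 0) (h : OS Q δ ζ) :
    ∀ n : ℕ, ∀ W : Submodule F V, W ∈ Module.End.invtSubmodule δ → ND (QuadraticMap.polarBilin Q) W →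
      finrank F ↥W = n → Even n := by
  intro n
  induction n using Nat.strong_induction_on with
  | _ n ih =>
    intro W hWi hW hn
    by_cases hW0 : W = ⊥
    · rw [hW0, finrank_bot] at hn
      rw [← hn]; exact ⟨0, rfl⟩
    · obtain ⟨w, hw, hww⟩ := exists_aniso h2 hW hW0
      have hdet : ζ * (QuadraticMap.polar Q w w) ^ 2 - (QuadraticMap.polar Q (δ w) w) ^ 2 ≠ 0 := by
        intro h0
        exact hww (os_data_eq_zero h h0).1
      obtain ⟨h1, h3, h4⟩ := os_peel h hWi hW hw hdet
      have h5 := ih _ (by omega) _ h1 h3 rfl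
      obtain ⟨m, hm⟩ := h5
      exact ⟨m + 1, by omega⟩

/-- existence of a normalised `δ`-frame. -/
theorem exists_frame [FiniteDimensional F V] (h2 : (2 : F) ≠ 0) (e₀ e₁ : F) (h : OS Q δ ζ)
    (hK2 : ∀ W : Submodule F V, W ∈ Module.End.invtSubmodule δ → ND (QuadraticMap.polarBilin Q) W →
      4 ≤ finrank F ↥W → ∃ v ∈ W, QuadraticMap.polar Q v v = 1 ∧ QuadraticMap.polar Q (δ v) v = 0)
    (hK1 : ∀ W : Submodule F V, W ∈ Module.End.invtSubmodule δ → ND (QuadraticMap.polarBilin Q) W →
      finrank F ↥W = 2 → ∃ v ∈ W, (QuadraticMap.polar Q v v = 1 ∧ QuadraticMap.polar Q (δ v) v = 0) ∨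
        (QuadraticMap.polar Q v v = e₀ ∧ QuadraticMap.polar Q (δ v) v = e₁)) :
    ∀ n : ℕ, ∀ W : Submodule F V, W ∈ Module.End.invtSubmodule δ → ND (QuadraticMap.polarBilin Q) W →
      finrank F ↥W = n →
      ∃ (k : ℕ) (v : Fin k → V), 2 * k = n ∧ (∀ i, v i ∈ W) ∧
        (∀ i j, i ≠ j → QuadraticMap.polar Q (v i) (v j) = 0 ∧ QuadraticMap.polar Q (δ (v i)) (v j) = 0) ∧
        (∀ i : Fin k, (i : ℕ) + 1 < k →
          QuadraticMap.polar Q (v i) (v i) = 1 ∧ QuadraticMap.polar Q (δ (v i)) (v i) = 0) ∧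
        (∀ i : Fin k, (i : ℕ) + 1 = k →
          (QuadraticMap.polar Q (v i) (v i) = 1 ∧ QuadraticMap.polar Q (δ (v i)) (v i) = 0) ∨
          (QuadraticMap.polar Q (v i) (v i) = e₀ ∧ QuadraticMap.polar Q (δ (v i)) (v i) = e₁)) := by
  intro n
  induction n using Nat.strong_induction_on with
  | _ n ih =>
    intro W hWi hW hn
    obtain ⟨m, hm⟩ := os_even_finrank h2 h n W hWi hW hn
    rcases Nat.lt_or_ge n 4 with hlt | hge
    · -- n = 0 or n = 2
      have hm' : m = 0 ∨ m = 1 := by omega
      rcases hm' with rfl | rfl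
      · refine ⟨0, Fin.elim0, by omega, fun i => i.elim0, fun i => i.elim0, fun i => i.elim0,
          fun i => i.elim0⟩
      · obtain ⟨v, hv, hvd⟩ := hK1 W hWi hW (by omega)
        refine ⟨1, fun _ => v, by omega, fun _ => hv, ?_, ?_, ?_⟩
        · intro i j hij
          exact absurd (Subsingleton.elim i j) hij
        · intro i hi
          omega
        · intro i _
          exact hvd
    · obtain ⟨v₀, hv₀, hs, ht⟩ := hK2 W hWi hW (by omega)
      have hdet : ζ * (QuadraticMap.polar Q v₀ v₀) ^ 2 - (QuadraticMap.polar Q (δ v₀) v₀) ^ 2 ≠ 0 := by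
        rw [hs, ht]
        have := h.zeta_ne_zero
        intro h0
        apply this
        linear_combination h0
      obtain ⟨h1, h3, h4⟩ := os_peel h hWi hW hv₀ hdet
      obtain ⟨k₁, v₁, hk₁, hmem, horth, hdata, hlast⟩ := ih (n - 2) (by omega) _ h1 h3 (by omega)
      have hk1pos : 1 ≤ k₁ := by omega
      have hperp : ∀ i, QuadraticMap.polar Q v₀ (v₁ i) = 0 ∧ QuadraticMap.polar Q (δ v₀) (v₁ i) = 0 := by
        intro i
        have hi : v₁ i ∈ LinearMap.BilinForm.orthogonal (QuadraticMap.polarBilin Q) (plane δ v₀) :=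
          (hmem i).1
        rw [mem_perp] at hi
        have e1 := hi v₀ (Submodule.subset_span (by simp))
        have e2 := hi (δ v₀) (Submodule.subset_span (by simp))
        rw [QuadraticMap.polarBilin_apply_apply] at e1 e2
        exact ⟨e1, e2⟩
      refine ⟨k₁ + 1, Fin.cons v₀ v₁, by omega, ?_, ?_, ?_, ?_⟩
      · intro i
        refine Fin.cases ?_ (fun i => ?_) i
        · simpa using hv₀
        · simpa using (hmem i).2
      · intro i j
        refine Fin.cases ?_ (fun i => ?_) i <;> refine Fin.cases ?_ (fun j => ?_) j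
        · intro hij; exact absurd rfl hij
        · intro _
          simp only [Fin.cons_zero, Fin.cons_succ]
          exact hperp j
        · intro _
          simp only [Fin.cons_zero, Fin.cons_succ]
          refine ⟨?_, ?_⟩
          · rw [QuadraticMap.polar_comm]; exact (hperp i).1
          · rw [h.sa, QuadraticMap.polar_comm]; exact (hperp i).2
        · intro hij
          simp only [Fin.cons_succ]
          exact horth i j (fun hc => hij (by rw [hc]))
      · intro i
        refine Fin.cases ?_ (fun i => ?_) i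
        · intro _
          simp only [Fin.cons_zero]
          exact ⟨hs, ht⟩
        · intro hi
          simp only [Fin.cons_succ]
          apply hdata i
          simp only [Fin.val_succ] at hi
          omega
      · intro i
        refine Fin.cases ?_ (fun i => ?_) i
        · intro hi
          simp only [Fin.val_zero] at hi
          omega
        · intro hi
          simp only [Fin.cons_succ]
          apply hlast i
          simp only [Fin.val_succ] at hi
          omega

end basic

section gram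

variable {Q : QuadraticForm F V} {δ : Module.End F V} {ζ : F}

/-- the family `v i, δ (v i)` attached to a frame. -/
def fam (δ : Module.End F V) {d : ℕ} (v : Fin d → V) : Fin 2 × Fin d → V :=
  fun p => if p.1 = 0 then v p.2 else δ (v p.2)

theorem fam_zero {d : ℕ} (v : Fin d → V) (i : Fin d) : fam δ v (0, i) = v i := by
  simp [fam]

theorem fam_one {d : ℕ} (v : Fin d → V) (i : Fin d) : fam δ v (1, i) = δ (v i) := by
  simp [fam]

/-- the block of a pair of data. -/
def blk (ζ s t : F) : Matrix (Fin 2) (Fin 2) F := !![s, t; t, ζ * s]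

theorem det_blk (ζ s t : F) : (blk ζ s t).det = ζ * s ^ 2 - t ^ 2 := by
  unfold blk
  rw [Matrix.det_fin_two_of]
  ring

theorem blk_00 (ζ s t : F) : blk ζ s t 0 0 = s := by simp [blk]
theorem blk_01 (ζ s t : F) : blk ζ s t 0 1 = t := by simp [blk]
theorem blk_10 (ζ s t : F) : blk ζ s t 1 0 = t := by simp [blk]
theorem blk_11 (ζ s t : F) : blk ζ s t 1 1 = ζ * s := by simp [blk]

theorem fin_two_cases (a : Fin 2) : a = 0 ∨ a = 1 := by
  fin_cases a <;> simp

/-- the Gram matrix of the family of a frame. -/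
theorem gram_fam (h : OS Q δ ζ) {d : ℕ} (v : Fin d → V)
    (horth : ∀ i j, i ≠ j → QuadraticMap.polar Q (v i) (v j) = 0 ∧ QuadraticMap.polar Q (δ (v i)) (v j) = 0)
    (p q : Fin 2 × Fin d) :
    QuadraticMap.polar Q (fam δ v p) (fam δ v q) =
      Matrix.blockDiagonal (fun i => blk ζ (QuadraticMap.polar Q (v i) (v i))
        (QuadraticMap.polar Q (δ (v i)) (v i))) p q := by
  obtain ⟨a, i⟩ := p
  obtain ⟨b, j⟩ := q
  rw [Matrix.blockDiagonal_apply]
  by_cases hij : i = j
  · subst hij
    simp only [if_true]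
    rcases fin_two_cases a with rfl | rfl <;> rcases fin_two_cases b with rfl | rfl
    · rw [fam_zero, blk_00]
    · rw [fam_zero, fam_one, blk_01, QuadraticMap.polar_comm]
    · rw [fam_zero, fam_one, blk_10]
    · rw [fam_one, blk_11, h.polar_delta]
  · simp only [if_neg hij]
    have h1 := horth i j hij
    have h3 := horth j i (Ne.symm hij)
    rcases fin_two_cases a with rfl | rfl <;> rcases fin_two_cases b with rfl | rfl
    · rw [fam_zero, fam_zero]; exact h1.1
    · rw [fam_zero, fam_one, QuadraticMap.polar_comm]; exact h3.2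
    · rw [fam_zero, fam_one]; exact h1.2
    · rw [fam_one, fam_one, h.polar_delta, h1.1, mul_zero]

theorem det_gram {d : ℕ} (s t : Fin d → F) :
    (Matrix.blockDiagonal (fun i => blk ζ (s i) (t i))).det = ∏ i, (ζ * s i ^ 2 - t i ^ 2) := by
  rw [Matrix.det_blockDiagonal]
  apply Finset.prod_congr rfl
  intro i _
  exact det_blk ζ (s i) (t i)

/-- a family with nonsingular Gram matrix is linearly independent. -/
theorem linearIndependent_of_gram {ι : Type*} [Fintype ι] [DecidableEq ι] (X : ι → V)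
    (G : Matrix ι ι F) (hG : ∀ p q, QuadraticMap.polar Q (X p) (X q) = G p q) (hdet : G.det ≠ 0) :
    LinearIndependent F X := by
  rw [Fintype.linearIndependent_iff]
  intro c hc
  have h1 : Matrix.vecMul c G = 0 := by
    ext q
    rw [Matrix.vecMul, dotProduct, Pi.zero_apply]
    have : QuadraticMap.polar Q (∑ p, c p • X p) (X q) = 0 := by
      rw [hc, QuadraticMap.polar_zero_left]
    rw [← this]
    have hlin : ∀ (S : Finset ι), QuadraticMap.polar Q (∑ p ∈ S, c p • X p) (X q) =
        ∑ p ∈ S, c p * G p q := by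
      intro S
      induction S using Finset.induction_on with
      | empty => simp
      | insert a S ha ih =>
        rw [Finset.sum_insert ha, Finset.sum_insert ha, QuadraticMap.polar_add_left, ih,
          QuadraticMap.polar_smul_left, smul_eq_mul, hG]
    rw [hlin]
  have := Matrix.eq_zero_of_vecMul_eq_zero hdet h1
  intro i
  rw [this, Pi.zero_apply]

/-- Gram determinants of two bases differ by a nonzero square. -/
theorem gram_det_rel [FiniteDimensional F V] {ι : Type*} [Fintype ι] [DecidableEq ι] [Nonempty ι]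
    (X Y : ι → V) (hX : LinearIndependent F X) (hY : LinearIndependent F Y)
    (hcard : Fintype.card ι = finrank F V) (GX GY : Matrix ι ι F)
    (hGX : ∀ p q, QuadraticMap.polar Q (X p) (X q) = GX p q)
    (hGY : ∀ p q, QuadraticMap.polar Q (Y p) (Y q) = GY p q) :
    ∃ c : F, c ≠ 0 ∧ GX.det = c ^ 2 * GY.det := by
  set bX := basisOfLinearIndependentOfCardEqFinrank hX hcard with hbX
  set bY := basisOfLinearIndependentOfCardEqFinrank hY hcard with hbY
  have hX' : ⇑bX = X := coe_basisOfLinearIndependentOfCardEqFinrank hX hcard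
  have hY' : ⇑bY = Y := coe_basisOfLinearIndependentOfCardEqFinrank hY hcard
  have e1 : LinearMap.BilinForm.toMatrix bX (QuadraticMap.polarBilin Q) = GX := by
    ext p q
    rw [LinearMap.BilinForm.toMatrix_apply, hX', QuadraticMap.polarBilin_apply_apply, hGX]
  have e2 : LinearMap.BilinForm.toMatrix bY (QuadraticMap.polarBilin Q) = GY := by
    ext p q
    rw [LinearMap.BilinForm.toMatrix_apply, hY', QuadraticMap.polarBilin_apply_apply, hGY]
  have h1 := LinearMap.BilinForm.toMatrix_mul_basis_toMatrix bY bX (QuadraticMap.polarBilin Q)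
  rw [e1, e2] at h1
  have h3 : (bY.toMatrix ⇑bX) * (bX.toMatrix ⇑bY) = 1 := Basis.toMatrix_mul_toMatrix_flip bY bX
  have h4 : (bY.toMatrix ⇑bX).det * (bX.toMatrix ⇑bY).det = 1 := by
    rw [← Matrix.det_mul, h3, Matrix.det_one]
  refine ⟨(bY.toMatrix ⇑bX).det, left_ne_zero_of_mul_eq_one h4, ?_⟩
  rw [← h1, Matrix.det_mul, Matrix.det_mul, Matrix.det_transpose]
  ring

theorem last_rel (m : ℕ) (s t s' t' : Fin (m + 1) → F)
    (hpre : ∀ j : Fin m, s j.castSucc = 1 ∧ t j.castSucc = 0)
    (hpre' : ∀ j : Fin m, s' j.castSucc = 1 ∧ t' j.castSucc = 0) (c : F) (hζ : ζ ≠ 0)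
    (hprod : ∏ i, (ζ * s i ^ 2 - t i ^ 2) = c ^ 2 * ∏ i, (ζ * s' i ^ 2 - t' i ^ 2)) :
    ζ * s (Fin.last m) ^ 2 - t (Fin.last m) ^ 2 =
      c ^ 2 * (ζ * s' (Fin.last m) ^ 2 - t' (Fin.last m) ^ 2) := by
  rw [Fin.prod_univ_castSucc, Fin.prod_univ_castSucc] at hprod
  have e1 : ∏ j : Fin m, (ζ * s j.castSucc ^ 2 - t j.castSucc ^ 2) = ζ ^ m := by
    rw [← Fin.prod_const]
    apply Finset.prod_congr rfl
    intro j _
    rw [(hpre j).1, (hpre j).2]; ring
  have e2 : ∏ j : Fin m, (ζ * s' j.castSucc ^ 2 - t' j.castSucc ^ 2) = ζ ^ m := by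
    rw [← Fin.prod_const]
    apply Finset.prod_congr rfl
    intro j _
    rw [(hpre' j).1, (hpre' j).2]; ring
  rw [e1, e2] at hprod
  have hz : ζ ^ m ≠ 0 := pow_ne_zero _ hζ
  apply mul_left_cancel₀ hz
  linear_combination hprod

theorem mixed_false₁ (hnsq : ¬ IsSquare ζ) {c r : F} (h : ζ * 1 ^ 2 - 0 ^ 2 = c ^ 2 * (r * r)) : False :=
  hnsq ⟨c * r, by linear_combination h⟩

theorem mixed_false₂ (hnsq : ¬ IsSquare ζ) {c r : F} (hc : c ≠ 0)
    (h : r * r = c ^ 2 * (ζ * 1 ^ 2 - 0 ^ 2)) : False := by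
  apply hnsq
  refine ⟨r / c, ?_⟩
  field_simp
  linear_combination -h

end gram

section main

variable [Fintype F] [FiniteDimensional F V]

open Cfsg.Agent.Helper8.QuadForm Cfsg.Agent.Helper8.WittQuad in
theorem exists_isom_conj_of (h2 : (2 : F) ≠ 0) {Q : QuadraticForm F V}
    (hV : ND (QuadraticMap.polarBilin Q) ⊤) {ζ : F} (e₀ e₁ : F) (he : IsSquare (ζ * e₀ ^ 2 - e₁ ^ 2))
    (he0 : ζ * e₀ ^ 2 - e₁ ^ 2 ≠ 0)
    (hK2 : ∀ (δ : Module.End F V), OS Q δ ζ → ∀ W : Submodule F V, W ∈ Module.End.invtSubmodule δ →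
      ND (QuadraticMap.polarBilin Q) W → 4 ≤ finrank F ↥W →
      ∃ v ∈ W, QuadraticMap.polar Q v v = 1 ∧ QuadraticMap.polar Q (δ v) v = 0)
    (hK1 : ∀ (δ : Module.End F V), OS Q δ ζ → ∀ W : Submodule F V, W ∈ Module.End.invtSubmodule δ →
      ND (QuadraticMap.polarBilin Q) W → finrank F ↥W = 2 →
      ∃ v ∈ W, (QuadraticMap.polar Q v v = 1 ∧ QuadraticMap.polar Q (δ v) v = 0) ∨
        (QuadraticMap.polar Q v v = e₀ ∧ QuadraticMap.polar Q (δ v) v = e₁))
    {δ δ' : Module.End F V} (h : OS Q δ ζ) (h' : OS Q δ' ζ) :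
    ∃ g : V ≃ₗ[F] V, (∀ v, Q (g v) = Q v) ∧ ∀ v, g (δ v) = δ' (g v) := by
  classical
  have hQ : (QuadraticMap.polarBilin Q).Nondegenerate :=
    (nondeg_iff Q).mpr (Cfsg.Agent.Helper7.OpTS.nondeg_of_nd_top hV)
  have hTi : ∀ η : Module.End F V, (⊤ : Submodule F V) ∈ Module.End.invtSubmodule η := by
    intro η
    rw [Module.End.mem_invtSubmodule]
    intro x _
    exact Submodule.mem_top
  have hζ : ζ ≠ 0 := h.zeta_ne_zero
  obtain ⟨k, v, hk, -, horth, hdata, hlast⟩ :=
    exists_frame h2 e₀ e₁ h (hK2 δ h) (hK1 δ h) (finrank F V) ⊤ (hTi δ) hV (finrank_top F V)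
  obtain ⟨k', v', hk', -, horth', hdata', hlast'⟩ :=
    exists_frame h2 e₀ e₁ h' (hK2 δ' h') (hK1 δ' h') (finrank F V) ⊤ (hTi δ') hV (finrank_top F V)
  obtain rfl : k' = k := by omega
  -- nonvanishing of the blocks
  have hD : ∀ i, ζ * (QuadraticMap.polar Q (v i) (v i)) ^ 2 - (QuadraticMap.polar Q (δ (v i)) (v i)) ^ 2 ≠ 0 := by
    intro i
    rcases Nat.lt_or_ge ((i : ℕ) + 1) k' with hi | hi
    · rw [(hdata i hi).1, (hdata i hi).2]
      intro h0; apply hζ; linear_combination h0
    · have hi' : (i : ℕ) + 1 = k' := by have := i.2; omega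
      rcases hlast i hi' with ⟨a1, a2⟩ | ⟨a1, a2⟩
      · rw [a1, a2]
        intro h0; apply hζ; linear_combination h0
      · rw [a1, a2]; exact he0
  have hD' : ∀ i, ζ * (QuadraticMap.polar Q (v' i) (v' i)) ^ 2 -
      (QuadraticMap.polar Q (δ' (v' i)) (v' i)) ^ 2 ≠ 0 := by
    intro i
    rcases Nat.lt_or_ge ((i : ℕ) + 1) k' with hi | hi
    · rw [(hdata' i hi).1, (hdata' i hi).2]
      intro h0; apply hζ; linear_combination h0
    · have hi' : (i : ℕ) + 1 = k' := by have := i.2; omega
      rcases hlast' i hi' with ⟨a1, a2⟩ | ⟨a1, a2⟩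
      · rw [a1, a2]
        intro h0; apply hζ; linear_combination h0
      · rw [a1, a2]; exact he0
  have hX : LinearIndependent F (fam δ v) :=
    linearIndependent_of_gram _ _ (gram_fam h v horth) (by
      rw [det_gram]; exact Finset.prod_ne_zero_iff.mpr (fun i _ => hD i))
  have hY : LinearIndependent F (fam δ' v') :=
    linearIndependent_of_gram _ _ (gram_fam h' v' horth') (by
      rw [det_gram]; exact Finset.prod_ne_zero_iff.mpr (fun i _ => hD' i))
  have hcard : Fintype.card (Fin 2 × Fin k') = finrank F V := by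
    rw [Fintype.card_prod, Fintype.card_fin, Fintype.card_fin]; exact hk
  -- the data agree
  have hst : ∀ i, QuadraticMap.polar Q (v i) (v i) = QuadraticMap.polar Q (v' i) (v' i) ∧
      QuadraticMap.polar Q (δ (v i)) (v i) = QuadraticMap.polar Q (δ' (v' i)) (v' i) := by
    intro i
    rcases Nat.lt_or_ge ((i : ℕ) + 1) k' with hi | hi
    · exact ⟨(hdata i hi).1.trans (hdata' i hi).1.symm, (hdata i hi).2.trans (hdata' i hi).2.symm⟩
    · have hi' : (i : ℕ) + 1 = k' := by have := i.2; omega
      have : Nonempty (Fin 2 × Fin k') := ⟨(0, i)⟩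
      obtain ⟨c, hc, hrel⟩ := gram_det_rel (fam δ v) (fam δ' v') hX hY hcard _ _
        (gram_fam h v horth) (gram_fam h' v' horth')
      rw [det_gram, det_gram] at hrel
      obtain ⟨m, rfl⟩ : ∃ m, k' = m + 1 := ⟨k' - 1, by omega⟩
      obtain rfl : i = Fin.last m := Fin.ext (by simp only [Fin.val_last]; omega)
      have hl := last_rel m _ _ _ _
        (fun j => hdata j.castSucc (by simp only [Fin.val_castSucc]; have := j.2; omega))
        (fun j => hdata' j.castSucc (by simp only [Fin.val_castSucc]; have := j.2; omega)) c hζ hrel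
      obtain ⟨r, hr⟩ := he
      rcases hlast (Fin.last m) hi' with ⟨a1, a2⟩ | ⟨a1, a2⟩ <;>
        rcases hlast' (Fin.last m) hi' with ⟨b1, b2⟩ | ⟨b1, b2⟩
      · exact ⟨a1.trans b1.symm, a2.trans b2.symm⟩
      · exfalso
        rw [a1, a2, b1, b2, hr] at hl
        exact mixed_false₁ h.nsq hl
      · exfalso
        rw [a1, a2, b1, b2, hr] at hl
        exact mixed_false₂ h.nsq hc hl
      · exact ⟨a1.trans b1.symm, a2.trans b2.symm⟩
  have hgram : ∀ p q, QuadraticMap.polar Q (fam δ v p) (fam δ v q) =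
      QuadraticMap.polar Q (fam δ' v' p) (fam δ' v' q) := by
    intro p q
    rw [gram_fam h v horth, gram_fam h' v' horth']
    congr 2
    funext i
    rw [(hst i).1, (hst i).2]
  -- Witt
  obtain ⟨g, hg1, hg2⟩ := witt_family Q hQ (2 * k') (fam δ v ∘ finProdFinEquiv.symm)
    (fam δ' v' ∘ finProdFinEquiv.symm) (hX.comp _ finProdFinEquiv.symm.injective)
    (hY.comp _ finProdFinEquiv.symm.injective)
    (fun i => by
      have := hgram (finProdFinEquiv.symm i) (finProdFinEquiv.symm i)
      rw [QuadraticMap.polar_self, QuadraticMap.polar_self, nsmul_eq_mul, nsmul_eq_mul, Nat.cast_ofNat] at this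
      exact mul_left_cancel₀ h2 this)
    (fun i j => hgram _ _)
  refine ⟨g, hg1, ?_⟩
  have hgf : ∀ p, g (fam δ v p) = fam δ' v' p := by
    intro p
    have := hg2 (finProdFinEquiv p)
    simpa using this
  have hspan : Submodule.span F (Set.range (fam δ v)) = ⊤ :=
    hX.span_eq_top_of_card_eq_finrank' hcard
  have hcomp : (g : V →ₗ[F] V) ∘ₗ δ = δ' ∘ₗ (g : V →ₗ[F] V) := by
    apply LinearMap.ext_on_range hspan
    rintro ⟨a, i⟩
    simp only [LinearMap.comp_apply, LinearEquiv.coe_coe]
    rcases fin_two_cases a with rfl | rfl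
    · rw [hgf, fam_zero, fam_zero, ← fam_one (δ := δ), hgf, fam_one]
    · rw [hgf, fam_one, fam_one, h.sq, h'.sq, map_smul, ← fam_zero (δ := δ) v i, hgf, fam_zero]
  intro x
  exact LinearMap.congr_fun hcomp x

end main

end Cfsg.Agent.Lead.OFx
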