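import Mathlib
import Cfsg.Agent.Lead.OFxT
import Cfsg.Agent.Helper7.OFxG

set_option autoImplicit false
set_option linter.unusedSectionVars false
set_option linter.unusedVariables false

/-!
# S5977/S5978: two orthogonal structures of degree two (same nonsquare `ζ`) on a nondegenerate
quadratic space over a finite field of odd order are conjugate under the isometry group.
-/

namespace Cfsg.Agent.Lead.OFx

open Module Cfsg.Agent.Helper7.SpOrd Cfsg.Agent.Helper7.OFx

universe u

variable {F : Type u} [Field F] [Fintype F] {V : Type u} [AddCommGroup V] [Module F V]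
  [FiniteDimensional F V]

theorem exists_isom_conj (h2 : (2 : F) ≠ 0) (hodd : Fintype.card F % 2 = 1) {Q : QuadraticForm F V}
    (hV : ND (QuadraticMap.polarBilin Q) ⊤) {ζ : F} {δ δ' : Module.End F V}
    (h : OS Q δ ζ) (h' : OS Q δ' ζ) :
    ∃ g : V ≃ₗ[F] V, (∀ v, Q (g v) = Q v) ∧ ∀ v, g (δ v) = δ' (g v) := by
  obtain ⟨e₀, e₁, he, he0, hK1⟩ := exists_consts h2 hodd h.nsq Q
  exact exists_isom_conj_of h2 hV e₀ e₁ he he0
    (fun δ h W hW hWnd hdim => exists_unit_vec h2 δ h W hW hWnd hdim) hK1 h h'

end Cfsg.Agent.Lead.OFx
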