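import Mathlib
import Cfsg.Agent.Lead.OrthPlaneC

set_option autoImplicit false
open Cfsg

namespace Cfsg.Agent.Lead.OrthFrame

open Cfsg.Agent.Helper8.QuadForm Cfsg.Agent.Lead.OrthPlane Module

variable {F : Type*} [Field F] {V : Type*} [AddCommGroup V] [Module F V]

/-- an orthogonal triple of nonsingular vectors in a nondegenerate 3-space (odd characteristic) -/
theorem exists_ortho_triple (h2 : (2 : F) ≠ 0) (Q : QuadraticForm F V) {D₀ : Submodule F V}
    (hnd : NondegOn Q D₀) (hdim : finrank F D₀ = 3) :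
    ∃ x : Fin 3 → V, (∀ k, x k ∈ D₀) ∧ (∀ k, Q (x k) ≠ 0) ∧
      (∀ k l, k ≠ l → QuadraticMap.polar Q (x k) (x l) = 0) := by
  haveI : FiniteDimensional F D₀ := Module.finite_of_finrank_pos (by omega)
  haveI : Invertible (2 : F) := invertibleOfNonzero h2
  have hS : (QuadraticMap.polarBilin (Q.comp D₀.subtype)).IsSymm :=
    ⟨fun x y => QuadraticMap.polar_comm _ x y⟩
  obtain ⟨v₀, hv₀⟩ := LinearMap.BilinForm.exists_orthogonal_basis hS
  have hN : (QuadraticMap.polarBilin (Q.comp D₀.subtype)).Nondegenerate :=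
    (nondeg_iff _).2 ((nondeg_comp_subtype_iff Q D₀).2 hnd)
  have hO : LinearMap.BilinForm.iIsOrtho (QuadraticMap.polarBilin (Q.comp D₀.subtype)) v₀ := hv₀
  have hself := hO.not_isOrtho_basis_self_of_nondegenerate hN
  refine ⟨fun k => ((v₀ (finCongr hdim.symm k) : D₀) : V), fun k => Subtype.mem _, ?_, ?_⟩
  · intro k hk
    apply hself (finCongr hdim.symm k)
    change QuadraticMap.polar (Q.comp D₀.subtype) _ _ = 0
    rw [polar_self']
    change 2 * Q ((v₀ (finCongr hdim.symm k) : D₀) : V) = 0
    rw [hk, mul_zero]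
  · intro k l hkl
    have := hv₀ (i := finCongr hdim.symm k) (j := finCongr hdim.symm l) (by
      intro h
      exact hkl ((finCongr hdim.symm).injective h))
    exact this

theorem f3_two [Fintype F] (hq : Fintype.card F = 3) : (2 : F) = -1 := by
  have h3 : ((Fintype.card F : ℕ) : F) = 0 := FiniteField.cast_card_eq_zero F
  rw [hq] at h3
  have e : ((3 : ℕ) : F) = 2 + 1 := by norm_num
  rw [e] at h3
  exact eq_neg_of_add_eq_zero_left h3

theorem frame_of_pair [Fintype F] (hq : Fintype.card F = 3) (Q : QuadraticForm F V) {u v z : V}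
    {a : F} (hu : Q u = a) (hv : Q v = a) (hz : Q z = -a)
    (huv : QuadraticMap.polar Q u v = 0) (huz : QuadraticMap.polar Q u z = 0)
    (hvz : QuadraticMap.polar Q v z = 0) :
    (∀ k, Q (![u + v, u - v, z] k) = -a) ∧
      (∀ k l, k ≠ l → QuadraticMap.polar Q (![u + v, u - v, z] k) (![u + v, u - v, z] l) = 0) := by
  have h2 := f3_two hq
  have hvu : QuadraticMap.polar Q v u = 0 := by rw [QuadraticMap.polar_comm]; exact huv
  have hzu : QuadraticMap.polar Q z u = 0 := by rw [QuadraticMap.polar_comm]; exact huz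
  have hzv : QuadraticMap.polar Q z v = 0 := by rw [QuadraticMap.polar_comm]; exact hvz
  have huu : QuadraticMap.polar Q u u = 2 * a := by rw [polar_self', hu]
  have hvv : QuadraticMap.polar Q v v = 2 * a := by rw [polar_self', hv]
  have n1 : Q (u + v) = -a := by
    rw [QuadraticMap.map_add Q, hu, hv, huv, add_zero, ← two_mul, h2]; ring
  have n2 : Q (u - v) = -a := by
    rw [sub_eq_add_neg, QuadraticMap.map_add Q, QuadraticMap.map_neg, hu, hv,
      QuadraticMap.polar_neg_right, huv, neg_zero, add_zero, ← two_mul, h2]; ring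
  have o12 : QuadraticMap.polar Q (u + v) (u - v) = 0 := by
    rw [QuadraticMap.polar_add_left, QuadraticMap.polar_sub_right, QuadraticMap.polar_sub_right,
      huu, hvv, huv, hvu]; ring
  have o13 : QuadraticMap.polar Q (u + v) z = 0 := by
    rw [QuadraticMap.polar_add_left, huz, hvz, add_zero]
  have o23 : QuadraticMap.polar Q (u - v) z = 0 := by
    rw [QuadraticMap.polar_sub_left, huz, hvz, sub_zero]
  constructor
  · intro k
    fin_cases k
    · exact n1
    · exact n2
    · exact hz
  · intro k l hkl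
    fin_cases k <;> fin_cases l
    · exact absurd rfl hkl
    · exact o12
    · exact o13
    · change QuadraticMap.polar Q (u - v) (u + v) = 0
      rw [QuadraticMap.polar_comm]; exact o12
    · exact absurd rfl hkl
    · exact o23
    · change QuadraticMap.polar Q z (u + v) = 0
      rw [QuadraticMap.polar_comm]; exact o13
    · change QuadraticMap.polar Q z (u - v) = 0
      rw [QuadraticMap.polar_comm]; exact o23
    · exact absurd rfl hkl

theorem exists_frame [Fintype F] (hq : Fintype.card F = 3) (Q : QuadraticForm F V)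
    {D₀ : Submodule F V} (hnd : NondegOn Q D₀) (hdim : finrank F D₀ = 3) :
    ∃ (c : F) (w : Fin 3 → V), c ≠ 0 ∧ (∀ k, w k ∈ D₀) ∧ (∀ k, Q (w k) = c) ∧
      (∀ k l, k ≠ l → QuadraticMap.polar Q (w k) (w l) = 0) := by
  obtain ⟨x, hxD, hx0, hxo⟩ := exists_ortho_triple (f3_two_ne hq) Q hnd hdim
  have key : ∀ t : F, t ≠ 0 → t = 1 ∨ t = -1 := by
    intro t ht
    rcases f3_cases hq t with h | h | h
    · exact absurd h ht
    · exact Or.inl h
    · exact Or.inr h
  have hneg : ∀ s t : F, s ≠ 0 → t ≠ 0 → s ≠ t → t = -s := by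
    intro s t hs ht hst
    rcases key s hs with rfl | rfl <;> rcases key t ht with rfl | rfl
    · exact absurd rfl hst
    · rfl
    · simp
    · exact absurd rfl hst
  have p01 := hxo 0 1 (by decide)
  have p02 := hxo 0 2 (by decide)
  have p12 := hxo 1 2 (by decide)
  have p10 := hxo 1 0 (by decide)
  have p20 := hxo 2 0 (by decide)
  have p21 := hxo 2 1 (by decide)
  by_cases h01 : Q (x 0) = Q (x 1)
  · by_cases h02 : Q (x 0) = Q (x 2)
    · refine ⟨Q (x 0), x, hx0 0, hxD, ?_, hxo⟩
      intro k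
      fin_cases k
      · rfl
      · exact h01.symm
      · exact h02.symm
    · have hz := hneg _ _ (hx0 0) (hx0 2) h02
      obtain ⟨f1, f2⟩ := frame_of_pair hq Q (u := x 0) (v := x 1) (z := x 2) rfl h01.symm hz
        p01 p02 p12
      refine ⟨-Q (x 0), _, by simpa using hx0 0, ?_, f1, f2⟩
      intro k
      fin_cases k
      · exact D₀.add_mem (hxD 0) (hxD 1)
      · exact D₀.sub_mem (hxD 0) (hxD 1)
      · exact hxD 2
  · have h1 := hneg _ _ (hx0 0) (hx0 1) h01
    by_cases h02 : Q (x 0) = Q (x 2)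
    · obtain ⟨f1, f2⟩ := frame_of_pair hq Q (u := x 0) (v := x 2) (z := x 1) rfl h02.symm h1
        p02 p01 p21
      refine ⟨-Q (x 0), _, by simpa using hx0 0, ?_, f1, f2⟩
      intro k
      fin_cases k
      · exact D₀.add_mem (hxD 0) (hxD 2)
      · exact D₀.sub_mem (hxD 0) (hxD 2)
      · exact hxD 1
    · have h2' := hneg _ _ (hx0 0) (hx0 2) h02
      have h12 : Q (x 2) = Q (x 1) := by rw [h1, h2']
      have hz : Q (x 0) = -Q (x 1) := by rw [h1, neg_neg]
      obtain ⟨f1, f2⟩ := frame_of_pair hq Q (u := x 1) (v := x 2) (z := x 0) rfl h12 hz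
        p12 p10 p20
      refine ⟨-Q (x 1), _, by simpa using hx0 1, ?_, f1, f2⟩
      intro k
      fin_cases k
      · exact D₀.add_mem (hxD 1) (hxD 2)
      · exact D₀.sub_mem (hxD 1) (hxD 2)
      · exact hxD 0

end Cfsg.Agent.Lead.OrthFrame
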