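import Mathlib
import Cfsg.Agent.Lead.OrthFrameA

set_option autoImplicit false
open Cfsg

namespace Cfsg.Agent.Lead.OrthFrame

open Cfsg.Agent.Helper8.QuadForm Cfsg.Agent.Lead.OrthPlane Module

variable {F : Type*} [Field F] {V : Type*} [AddCommGroup V] [Module F V]

theorem frame_span (h2 : (2 : F) ≠ 0) (Q : QuadraticForm F V) {D₀ : Submodule F V}
    (hdim : finrank F D₀ = 3) {c : F} (hc : c ≠ 0) {w : Fin 3 → V} (hwD : ∀ k, w k ∈ D₀)
    (hw : ∀ k, Q (w k) = c)
    (horth : ∀ k l, k ≠ l → QuadraticMap.polar Q (w k) (w l) = 0) :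
    ∀ x ∈ D₀, ∃ a : Fin 3 → F, x = ∑ k, a k • w k := by
  haveI : FiniteDimensional F D₀ := Module.finite_of_finrank_pos (by omega)
  have hli : LinearIndependent F w := by
    apply LinearMap.BilinForm.linearIndependent_of_iIsOrtho (B := QuadraticMap.polarBilin Q)
    · intro i j hij
      exact horth i j hij
    · intro i
      change QuadraticMap.polar Q (w i) (w i) ≠ 0
      rw [polar_self', hw]
      exact mul_ne_zero h2 hc
  have hspan : Submodule.span F (Set.range w) = D₀ := by
    apply Submodule.eq_of_le_of_finrank_eq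
    · rw [Submodule.span_le]
      rintro _ ⟨i, rfl⟩
      exact hwD i
    · rw [finrank_span_eq_card hli, hdim, Fintype.card_fin]
  intro x hx
  rw [← hspan, Submodule.mem_span_range_iff_exists_fun] at hx
  obtain ⟨a, ha⟩ := hx
  exact ⟨a, ha.symm⟩

theorem Q_comb (Q : QuadraticForm F V) {c : F} {w : Fin 3 → V} (hw : ∀ k, Q (w k) = c)
    (horth : ∀ k l, k ≠ l → QuadraticMap.polar Q (w k) (w l) = 0) (a : Fin 3 → F) :
    Q (∑ k, a k • w k) = c * (a 0 ^ 2 + a 1 ^ 2 + a 2 ^ 2) := by
  rw [Fin.sum_univ_three, QuadraticMap.map_add Q, QuadraticMap.map_add Q,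
    QuadraticMap.map_smul, QuadraticMap.map_smul, QuadraticMap.map_smul,
    QuadraticMap.polar_add_left, QuadraticMap.polar_smul_left, QuadraticMap.polar_smul_left,
    QuadraticMap.polar_smul_left, QuadraticMap.polar_smul_right, QuadraticMap.polar_smul_right,
    QuadraticMap.polar_smul_right, hw, hw, hw, horth 0 1 (by decide), horth 0 2 (by decide),
    horth 1 2 (by decide)]
  simp only [smul_eq_mul]
  ring

theorem frame_norm [Fintype F] (hq : Fintype.card F = 3) (Q : QuadraticForm F V) {c : F}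
    (hc : c ≠ 0) {w : Fin 3 → V} (hw : ∀ k, Q (w k) = c)
    (horth : ∀ k l, k ≠ l → QuadraticMap.polar Q (w k) (w l) = 0) (a : Fin 3 → F)
    (h : Q (∑ k, a k • w k) = c) :
    ∃ k, (∑ k, a k • w k) = w k ∨ (∑ k, a k • w k) = -w k := by
  rw [Q_comb Q hw horth] at h
  have h1 : a 0 ^ 2 + a 1 ^ 2 + a 2 ^ 2 = 1 := by
    have : c * (a 0 ^ 2 + a 1 ^ 2 + a 2 ^ 2) = c * 1 := by rw [h, mul_one]
    exact mul_left_cancel₀ hc this
  have h2 := f3_two hq
  have h10 : (1 : F) ≠ 0 := one_ne_zero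
  have e2 : (1 : F) + 1 = -1 := by rw [← h2]; norm_num
  have hm1 : (-1 : F) ≠ 1 := by
    intro h
    rw [← h2] at h
    have : (1 : F) = 0 := by linear_combination h
    exact h10 this
  have hm0 : (-1 : F) ≠ 0 := by simp
  rw [Fin.sum_univ_three]
  rcases f3_cases hq (a 0) with h0 | h0 | h0 <;> rcases f3_cases hq (a 1) with h1' | h1' | h1' <;>
    rcases f3_cases hq (a 2) with h2' | h2' | h2' <;> rw [h0, h1', h2'] at h1 ⊢ <;>
    simp only [ne_eq, OfNat.ofNat_ne_zero, not_false_eq_true, zero_pow, one_pow, even_two,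
      Even.neg_pow, add_zero, zero_add, zero_smul, one_smul, neg_smul] at h1 ⊢
  · exact absurd h1 (Ne.symm h10)
  · exact ⟨2, Or.inl rfl⟩
  · exact ⟨2, Or.inr rfl⟩
  · exact ⟨1, Or.inl rfl⟩
  · rw [e2] at h1; exact absurd h1 hm1
  · rw [e2] at h1; exact absurd h1 hm1
  · exact ⟨1, Or.inr rfl⟩
  · rw [e2] at h1; exact absurd h1 hm1
  · rw [e2] at h1; exact absurd h1 hm1
  · exact ⟨0, Or.inl rfl⟩
  · rw [e2] at h1; exact absurd h1 hm1
  · rw [e2] at h1; exact absurd h1 hm1
  · rw [e2] at h1; exact absurd h1 hm1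
  · rw [e2] at h1; exfalso; apply h10; linear_combination -h1
  · rw [e2] at h1; exfalso; apply h10; linear_combination -h1
  · rw [e2] at h1; exact absurd h1 hm1
  · rw [e2] at h1; exfalso; apply h10; linear_combination -h1
  · rw [e2] at h1; exfalso; apply h10; linear_combination -h1
  · exact ⟨0, Or.inr rfl⟩
  · rw [e2] at h1; exact absurd h1 hm1
  · rw [e2] at h1; exact absurd h1 hm1
  · rw [e2] at h1; exact absurd h1 hm1
  · rw [e2] at h1; exfalso; apply h10; linear_combination -h1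
  · rw [e2] at h1; exfalso; apply h10; linear_combination -h1
  · rw [e2] at h1; exact absurd h1 hm1
  · rw [e2] at h1; exfalso; apply h10; linear_combination -h1
  · rw [e2] at h1; exfalso; apply h10; linear_combination -h1

end Cfsg.Agent.Lead.OrthFrame
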