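import Mathlib
import Cfsg.Agent.Lead.OrthFrameB

set_option autoImplicit false
open Cfsg

namespace Cfsg.Agent.Lead.OrthFrame

open Cfsg.Agent.Helper8.QuadForm Cfsg.Agent.Helper8.ReflMatrix Cfsg.Agent.Helper8.Reflections
  Cfsg.Agent.Lead.OrthPlane Module

variable {F : Type*} [Field F] {ι : Type} [Fintype ι] [DecidableEq ι]

/-- an invertible matrix mapping a finite set into itself stabilises it -/
theorem mem_stabilizing_of_maps [Finite F] (S : Set (ι → F)) (g : GL ι F)
    (h : ∀ x ∈ S, (g : Matrix ι ι F).mulVec x ∈ S) :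
    g ∈ Cfsg.stabilizing (Cfsg.glToMat ι F) S := by
  have hinj : Function.Injective (fun x : S => (⟨(g : Matrix ι ι F).mulVec x, h x x.2⟩ : S)) := by
    intro x y hxy
    have h1 : (g : Matrix ι ι F).mulVec x = (g : Matrix ι ι F).mulVec y :=
      congrArg Subtype.val hxy
    apply Subtype.ext
    have := congrArg (fun z => ((g⁻¹ : GL ι F) : Matrix ι ι F).mulVec z) h1
    simpa only [inv_mulVec_mulVec] using this
  have hsurj := Finite.injective_iff_surjective.1 hinj
  intro v
  constructor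
  · exact h v
  · intro hv
    obtain ⟨y, hy⟩ := hsurj ⟨_, hv⟩
    have h1 : (g : Matrix ι ι F).mulVec y = (g : Matrix ι ι F).mulVec v := congrArg Subtype.val hy
    have := congrArg (fun z => ((g⁻¹ : GL ι F) : Matrix ι ι F).mulVec z) h1
    simp only [inv_mulVec_mulVec] at this
    rw [← this]
    exact y.2

variable (Q : QuadraticForm F (ι → F))

/-- global frame data for an orthogonal decomposition into 3-spaces over the field of order 3 -/
structure FrameData {t : ℕ} (D : Fin t → Submodule F (ι → F)) (c : F)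
    (v : Fin t → Fin 3 → (ι → F)) : Prop where
  c_ne : c ≠ 0
  mem : ∀ i k, v i k ∈ D i
  norm : ∀ i k, Q (v i k) = c
  orth_in : ∀ i k l, k ≠ l → QuadraticMap.polar Q (v i k) (v i l) = 0
  orth_out : ∀ i j, i ≠ j → ∀ x ∈ D i, ∀ y ∈ D j, QuadraticMap.polar Q x y = 0
  char : ∀ i, ∀ x ∈ D i, Q x = c → ∃ k, x = v i k ∨ x = -v i k

theorem exists_frameData [Fintype F] (hq : Fintype.card F = 3) {t : ℕ}
    (D : Fin t → Submodule F (ι → F)) (hD : Cfsg.Geo.IsOrthogonalMDecomposition ⇑Q 3 D) :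
    ∃ (c : F) (v : Fin t → Fin 3 → (ι → F)), FrameData Q D c v := by
  have ht := hD.decomp.decomp.two_le
  have hnd : ∀ i, NondegOn Q (D i) := fun i => nondegOn_of_geo Q (hD.decomp.nondegenerate i)
  have hdim : ∀ i, finrank F (D i) = 3 := hD.decomp.decomp.finrank_eq
  obtain ⟨c, w, hc, hwD, hw, hwo⟩ := exists_frame hq Q (hnd ⟨0, by omega⟩) (hdim ⟨0, by omega⟩)
  have hiso := fun i => hD.isometric ⟨0, by omega⟩ i
  choose e he using hiso
  have hpolar : ∀ i (x y : D ⟨0, by omega⟩), QuadraticMap.polar Q ((e i x : D i) : ι → F)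
      ((e i y : D i) : ι → F) = QuadraticMap.polar Q (x : ι → F) (y : ι → F) := by
    intro i x y
    unfold QuadraticMap.polar
    have h1 : ((e i x : D i) : ι → F) + ((e i y : D i) : ι → F) = ((e i (x + y) : D i) : ι → F) := by
      rw [map_add]; rfl
    rw [h1, he, he, he]
    rfl
  have hvnorm : ∀ i k, Q ((e i ⟨w k, hwD k⟩ : D i) : ι → F) = c := by
    intro i k
    have := he i ⟨w k, hwD k⟩
    rw [this]
    exact hw k
  have hvorth : ∀ i k l, k ≠ l → QuadraticMap.polar Q ((e i ⟨w k, hwD k⟩ : D i) : ι → F)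
      ((e i ⟨w l, hwD l⟩ : D i) : ι → F) = 0 := by
    intro i k l hkl
    rw [hpolar]
    exact hwo k l hkl
  refine ⟨c, fun i k => ((e i ⟨w k, hwD k⟩ : D i) : ι → F), hc, fun i k => Subtype.mem _,
    hvnorm, hvorth, ?_, ?_⟩
  · intro i j hij x hx y hy
    exact hD.decomp.orthogonal i j hij x hx y hy
  · intro i x hx hQx
    obtain ⟨a, rfl⟩ := frame_span (f3_two_ne hq) Q (hdim i) hc
      (w := fun k => ((e i ⟨w k, hwD k⟩ : D i) : ι → F)) (fun k => Subtype.mem _)
      (hvnorm i) (hvorth i) x hx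
    exact frame_norm hq Q hc (hvnorm i) (hvorth i) a hQx

end Cfsg.Agent.Lead.OrthFrame
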