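import Mathlib
import Cfsg.Agent.Lead.OrthFrameC

set_option autoImplicit false
open Cfsg

namespace Cfsg.Agent.Lead.OrthFrame

open Cfsg.Agent.Helper8.QuadForm Cfsg.Agent.Helper8.ReflMatrix Cfsg.Agent.Helper8.Reflections
  Cfsg.Agent.Lead.OrthPlane Module

variable {F : Type*} [Field F] {ι : Type} [Fintype ι] [DecidableEq ι]
variable (Q : QuadraticForm F (ι → F))
variable {t : ℕ} {D : Fin t → Submodule F (ι → F)} {c : F} {v : Fin t → Fin 3 → (ι → F)}

theorem FrameData.pv (fd : FrameData Q D c v) (i : Fin t) (k : Fin 3) (j : Fin t) (l : Fin 3) :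
    QuadraticMap.polar Q (v i k) (v j l) = if i = j ∧ k = l then 2 * c else 0 := by
  by_cases hij : i = j
  · subst hij
    by_cases hkl : k = l
    · subst hkl
      rw [if_pos ⟨rfl, rfl⟩, polar_self', fd.norm]
    · rw [if_neg (fun h => hkl h.2)]
      exact fd.orth_in i k l hkl
  · rw [if_neg (fun h => hij h.1)]
    exact fd.orth_out i j hij _ (fd.mem i k) _ (fd.mem j l)

theorem FrameData.index_eq (fd : FrameData Q D c v) (h2 : (2 : F) ≠ 0) {i j : Fin t} {x : ι → F}
    (hi : x ∈ D i) (hj : x ∈ D j) (hx : Q x ≠ 0) : i = j := by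
  by_contra hij
  have := fd.orth_out i j hij x hi x hj
  rw [polar_self'] at this
  exact (mul_ne_zero h2 hx) this

/-- the set of frame-norm vectors lying in some member -/
def SS (Q : QuadraticForm F (ι → F)) (D : Fin t → Submodule F (ι → F)) (c : F) : Set (ι → F) :=
  {x | Q x = c ∧ ∃ i, x ∈ D i}

theorem FrameData.v_mem_SS (fd : FrameData Q D c v) (i : Fin t) (k : Fin 3) : v i k ∈ SS Q D c :=
  ⟨fd.norm i k, i, fd.mem i k⟩

theorem neg_mem_SS {x : ι → F} (hx : x ∈ SS Q D c) : -x ∈ SS Q D c := by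
  obtain ⟨h1, i, hi⟩ := hx
  exact ⟨by rw [QuadraticMap.map_neg, h1], i, (D i).neg_mem hi⟩

theorem FrameData.Q_diff (fd : FrameData Q D c v) {i j : Fin t} (hij : i ≠ j) (k l : Fin 3) :
    Q (v i k - v j l) = 2 * c := by
  rw [sub_eq_add_neg, QuadraticMap.map_add Q, QuadraticMap.map_neg, QuadraticMap.polar_neg_right,
    fd.pv, if_neg (fun h => hij h.1), fd.norm, fd.norm]
  ring

theorem FrameData.refl_v (fd : FrameData Q D c v) (h2 : (2 : F) ≠ 0) {i j : Fin t} (hij : i ≠ j)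
    (k l : Fin 3) (a : Fin t) (b : Fin 3) :
    refl Q (v i k - v j l) (v a b) =
      if a = i ∧ b = k then v j l else if a = j ∧ b = l then v i k else v a b := by
  have hc2 : 2 * c ≠ 0 := mul_ne_zero h2 fd.c_ne
  rw [refl_apply, fd.Q_diff Q hij, QuadraticMap.polar_sub_left, fd.pv, fd.pv]
  by_cases h1 : a = i ∧ b = k
  · have e1 : (if i = a ∧ k = b then 2 * c else 0) = 2 * c := if_pos ⟨h1.1.symm, h1.2.symm⟩
    have e2 : (if j = a ∧ l = b then 2 * c else 0) = 0 :=
      if_neg (fun h => hij (h1.1.symm.trans h.1.symm))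
    rw [e1, e2, if_pos h1, sub_zero, div_self hc2, one_smul, h1.1, h1.2]
    abel
  · have e1 : (if i = a ∧ k = b then 2 * c else 0) = 0 :=
      if_neg (fun h => h1 ⟨h.1.symm, h.2.symm⟩)
    rw [e1, if_neg h1]
    by_cases h3 : a = j ∧ b = l
    · have e2 : (if j = a ∧ l = b then 2 * c else 0) = 2 * c := if_pos ⟨h3.1.symm, h3.2.symm⟩
      rw [e2, if_pos h3, zero_sub, neg_div, div_self hc2, neg_smul, one_smul, h3.1, h3.2]
      abel
    · have e2 : (if j = a ∧ l = b then 2 * c else 0) = 0 :=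
        if_neg (fun h => h3 ⟨h.1.symm, h.2.symm⟩)
      rw [e2, if_neg h3, sub_zero, zero_div, zero_smul, sub_zero]

theorem FrameData.refl_maps (fd : FrameData Q D c v) (h2 : (2 : F) ≠ 0) {i j : Fin t}
    (hij : i ≠ j) (k l : Fin 3) : ∀ x ∈ SS Q D c, refl Q (v i k - v j l) x ∈ SS Q D c := by
  have hv : ∀ a b, refl Q (v i k - v j l) (v a b) ∈ SS Q D c := by
    intro a b
    rw [fd.refl_v Q h2 hij]
    split_ifs
    · exact fd.v_mem_SS Q j l
    · exact fd.v_mem_SS Q i k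
    · exact fd.v_mem_SS Q a b
  intro x hx
  obtain ⟨hQx, a, ha⟩ := hx
  obtain ⟨b, rfl | rfl⟩ := fd.char a x ha hQx
  · exact hv a b
  · rw [map_neg]
    exact neg_mem_SS Q (hv a b)

end Cfsg.Agent.Lead.OrthFrame
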