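import Mathlib
import Cfsg.Agent.Lead.OrthFrameE

set_option autoImplicit false
open Cfsg

namespace Cfsg.Agent.Lead.OrthFrame2

open Cfsg.Agent.Helper8.QuadForm Cfsg.Agent.Helper8.ReflMatrix Cfsg.Agent.Helper8.Reflections
  Cfsg.Agent.Lead.OrthPlane Cfsg.Agent.Lead.OrthFrame Module

section abstract

variable {F : Type*} [Field F] {V : Type*} [AddCommGroup V] [Module F V]

/-- an orthogonal pair of nonsingular vectors in a nondegenerate plane (odd characteristic) -/
theorem exists_ortho_pair (h2 : (2 : F) ≠ 0) (Q : QuadraticForm F V) {D₀ : Submodule F V}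
    (hnd : NondegOn Q D₀) (hdim : finrank F D₀ = 2) :
    ∃ x : Fin 2 → V, (∀ k, x k ∈ D₀) ∧ (∀ k, Q (x k) ≠ 0) ∧
      (∀ k l, k ≠ l → QuadraticMap.polar Q (x k) (x l) = 0) := by
  haveI : FiniteDimensional F D₀ := Module.finite_of_finrank_pos (by omega)
  haveI : Invertible (2 : F) := invertibleOfNonzero h2
  have hS : (QuadraticMap.polarBilin (Q.comp D₀.subtype)).IsSymm :=
    ⟨fun x y => QuadraticMap.polar_comm _ x y⟩
  obtain ⟨v₀, hv₀⟩ := LinearMap.BilinForm.exists_orthogonal_basis hS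
  have hN : (QuadraticMap.polarBilin (Q.comp D₀.subtype)).Nondegenerate :=
    (nondeg_iff _).2 ((nondeg_comp_subtype_iff Q D₀).2 hnd)
  have hO : LinearMap.BilinForm.iIsOrtho (QuadraticMap.polarBilin (Q.comp D₀.subtype)) v₀ := hv₀
  have hself := hO.not_isOrtho_basis_self_of_nondegenerate hN
  refine ⟨fun k => ((v₀ (finCongr hdim.symm k) : D₀) : V), fun k => Subtype.mem _, ?_, ?_⟩
  · intro k hk
    apply hself (finCongr hdim.symm k)
    change QuadraticMap.polar (Q.comp D₀.subtype) _ _ = 0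
    rw [polar_self']
    change 2 * Q ((v₀ (finCongr hdim.symm k) : D₀) : V) = 0
    rw [hk, mul_zero]
  · intro k l hkl
    have := hv₀ (i := finCongr hdim.symm k) (j := finCongr hdim.symm l) (by
      intro h
      exact hkl ((finCongr hdim.symm).injective h))
    exact this

/-- frames in an anisotropic plane over the field of order three -/
theorem exists_frame2 [Fintype F] (hq : Fintype.card F = 3) (Q : QuadraticForm F V)
    {D₀ : Submodule F V} (hnd : NondegOn Q D₀) (hdim : finrank F D₀ = 2)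
    (haniso : ∀ x ∈ D₀, Q x = 0 → x = 0) :
    ∃ (c : F) (w : Fin 2 → V), c ≠ 0 ∧ (∀ k, w k ∈ D₀) ∧ (∀ k, Q (w k) = c) ∧
      (∀ k l, k ≠ l → QuadraticMap.polar Q (w k) (w l) = 0) := by
  obtain ⟨x, hxD, hx0, hxo⟩ := exists_ortho_pair (f3_two_ne hq) Q hnd hdim
  have key : ∀ t : F, t ≠ 0 → t = 1 ∨ t = -1 := by
    intro t ht
    rcases f3_cases hq t with h | h | h
    · exact absurd h ht
    · exact Or.inl h
    · exact Or.inr h
  have p01 := hxo 0 1 (by decide)
  have heq : Q (x 0) = Q (x 1) := by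
    by_contra hne
    have hsum : Q (x 0) + Q (x 1) = 0 := by
      rcases key _ (hx0 0) with h | h <;> rcases key _ (hx0 1) with h' | h'
      · exact absurd (h.trans h'.symm) hne
      · rw [h, h']; ring
      · rw [h, h']; ring
      · exact absurd (h.trans h'.symm) hne
    have hs : Q (x 0 + x 1) = 0 := by
      rw [QuadraticMap.map_add Q, p01, add_zero, hsum]
    have h0 := haniso _ (D₀.add_mem (hxD 0) (hxD 1)) hs
    have : QuadraticMap.polar Q (x 0 + x 1) (x 0) = 0 := by
      rw [h0, QuadraticMap.polar_zero_left]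
    rw [QuadraticMap.polar_add_left, polar_self', hxo 1 0 (by decide), add_zero] at this
    exact (mul_ne_zero (f3_two_ne hq) (hx0 0)) this
  refine ⟨Q (x 0), x, hx0 0, hxD, ?_, hxo⟩
  intro k
  fin_cases k
  · rfl
  · exact heq.symm

theorem frame_span2 (h2 : (2 : F) ≠ 0) (Q : QuadraticForm F V) {D₀ : Submodule F V}
    (hdim : finrank F D₀ = 2) {c : F} (hc : c ≠ 0) {w : Fin 2 → V} (hwD : ∀ k, w k ∈ D₀)
    (hw : ∀ k, Q (w k) = c)
    (horth : ∀ k l, k ≠ l → QuadraticMap.polar Q (w k) (w l) = 0) :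
    ∀ x ∈ D₀, ∃ a : Fin 2 → F, x = ∑ k, a k • w k := by
  haveI : FiniteDimensional F D₀ := Module.finite_of_finrank_pos (by omega)
  have hli : LinearIndependent F w := by
    apply LinearMap.BilinForm.linearIndependent_of_iIsOrtho (B := QuadraticMap.polarBilin Q)
    · intro i j hij
      exact horth i j hij
    · intro i
      change QuadraticMap.polar Q (w i) (w i) ≠ 0
      rw [polar_self', hw]
      exact mul_ne_zero h2 hc
  have hspan : Submodule.span F (Set.range w) = D₀ := by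
    apply Submodule.eq_of_le_of_finrank_eq
    · rw [Submodule.span_le]
      rintro _ ⟨i, rfl⟩
      exact hwD i
    · rw [finrank_span_eq_card hli, hdim, Fintype.card_fin]
  intro x hx
  rw [← hspan, Submodule.mem_span_range_iff_exists_fun] at hx
  obtain ⟨a, ha⟩ := hx
  exact ⟨a, ha.symm⟩

theorem frame_norm2 [Fintype F] (hq : Fintype.card F = 3) (Q : QuadraticForm F V) {c : F}
    (hc : c ≠ 0) {w : Fin 2 → V} (hw : ∀ k, Q (w k) = c)
    (horth : ∀ k l, k ≠ l → QuadraticMap.polar Q (w k) (w l) = 0) (a : Fin 2 → F)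
    (h : Q (∑ k, a k • w k) = c) :
    ∃ k, (∑ k, a k • w k) = w k ∨ (∑ k, a k • w k) = -w k := by
  have hQ : Q (∑ k, a k • w k) = c * (a 0 ^ 2 + a 1 ^ 2) := by
    rw [Fin.sum_univ_two, QuadraticMap.map_add Q, QuadraticMap.map_smul, QuadraticMap.map_smul,
      QuadraticMap.polar_smul_left, QuadraticMap.polar_smul_right, hw, hw, horth 0 1 (by decide)]
    simp only [smul_eq_mul]
    ring
  rw [hQ] at h
  have h1 : a 0 ^ 2 + a 1 ^ 2 = 1 := by
    have : c * (a 0 ^ 2 + a 1 ^ 2) = c * 1 := by rw [h, mul_one]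
    exact mul_left_cancel₀ hc this
  have h2 := f3_two hq
  have h10 : (1 : F) ≠ 0 := one_ne_zero
  have e2 : (1 : F) + 1 = -1 := by rw [← h2]; norm_num
  have hm1 : (-1 : F) ≠ 1 := by
    intro h
    rw [← h2] at h
    have : (1 : F) = 0 := by linear_combination h
    exact h10 this
  rw [Fin.sum_univ_two]
  rcases f3_cases hq (a 0) with h0 | h0 | h0 <;> rcases f3_cases hq (a 1) with h1' | h1' | h1' <;>
    rw [h0, h1'] at h1 ⊢ <;>
    simp only [ne_eq, OfNat.ofNat_ne_zero, not_false_eq_true, zero_pow, one_pow, even_two,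
      Even.neg_pow, add_zero, zero_add, zero_smul, one_smul, neg_smul] at h1 ⊢
  · exact absurd h1 (Ne.symm h10)
  · exact ⟨1, Or.inl rfl⟩
  · exact ⟨1, Or.inr rfl⟩
  · exact ⟨0, Or.inl rfl⟩
  · rw [e2] at h1; exact absurd h1 hm1
  · rw [e2] at h1; exact absurd h1 hm1
  · exact ⟨0, Or.inr rfl⟩
  · rw [e2] at h1; exact absurd h1 hm1
  · rw [e2] at h1; exact absurd h1 hm1

end abstract

end Cfsg.Agent.Lead.OrthFrame2
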