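import Mathlib
import Cfsg.Agent.Lead.OrthFrame2A

set_option autoImplicit false
open Cfsg

namespace Cfsg.Agent.Lead.OrthFrame2

open Cfsg.Agent.Helper8.QuadForm Cfsg.Agent.Helper8.ReflMatrix Cfsg.Agent.Helper8.Reflections
  Cfsg.Agent.Lead.OrthPlane Cfsg.Agent.Lead.OrthFrame Module

variable {F : Type*} [Field F] {ι : Type} [Fintype ι] [DecidableEq ι]
variable (Q : QuadraticForm F (ι → F))

/-- global frame data, with an arbitrary index type inside each member -/
structure FrameDataK {κ : Type} {t : ℕ} (D : Fin t → Submodule F (ι → F)) (c : F)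
    (v : Fin t → κ → (ι → F)) : Prop where
  c_ne : c ≠ 0
  mem : ∀ i k, v i k ∈ D i
  norm : ∀ i k, Q (v i k) = c
  orth_in : ∀ i k l, k ≠ l → QuadraticMap.polar Q (v i k) (v i l) = 0
  orth_out : ∀ i j, i ≠ j → ∀ x ∈ D i, ∀ y ∈ D j, QuadraticMap.polar Q x y = 0
  char : ∀ i, ∀ x ∈ D i, Q x = c → ∃ k, x = v i k ∨ x = -v i k

variable {κ : Type} [DecidableEq κ]
variable {t : ℕ} {D : Fin t → Submodule F (ι → F)} {c : F} {v : Fin t → κ → (ι → F)}

theorem FrameDataK.pv (fd : FrameDataK Q D c v) (i : Fin t) (k : κ) (j : Fin t) (l : κ) :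
    QuadraticMap.polar Q (v i k) (v j l) = if i = j ∧ k = l then 2 * c else 0 := by
  by_cases hij : i = j
  · subst hij
    by_cases hkl : k = l
    · subst hkl
      rw [if_pos ⟨rfl, rfl⟩, polar_self', fd.norm]
    · rw [if_neg (fun h => hkl h.2)]
      exact fd.orth_in i k l hkl
  · rw [if_neg (fun h => hij h.1)]
    exact fd.orth_out i j hij _ (fd.mem i k) _ (fd.mem j l)

theorem FrameDataK.index_eq (fd : FrameDataK Q D c v) (h2 : (2 : F) ≠ 0) {i j : Fin t}
    {x : ι → F} (hi : x ∈ D i) (hj : x ∈ D j) (hx : Q x ≠ 0) : i = j := by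
  by_contra hij
  have := fd.orth_out i j hij x hi x hj
  rw [polar_self'] at this
  exact (mul_ne_zero h2 hx) this

theorem FrameDataK.v_mem_SS (fd : FrameDataK Q D c v) (i : Fin t) (k : κ) : v i k ∈ SS Q D c :=
  ⟨fd.norm i k, i, fd.mem i k⟩

theorem FrameDataK.Q_diff (fd : FrameDataK Q D c v) {i j : Fin t} (hij : i ≠ j) (k l : κ) :
    Q (v i k - v j l) = 2 * c := by
  rw [sub_eq_add_neg, QuadraticMap.map_add Q, QuadraticMap.map_neg, QuadraticMap.polar_neg_right,
    fd.pv, if_neg (fun h => hij h.1), fd.norm, fd.norm]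
  ring

theorem FrameDataK.refl_v (fd : FrameDataK Q D c v) (h2 : (2 : F) ≠ 0) {i j : Fin t}
    (hij : i ≠ j) (k l : κ) (a : Fin t) (b : κ) :
    refl Q (v i k - v j l) (v a b) =
      if a = i ∧ b = k then v j l else if a = j ∧ b = l then v i k else v a b := by
  have hc2 : 2 * c ≠ 0 := mul_ne_zero h2 fd.c_ne
  rw [refl_apply, fd.Q_diff Q hij, QuadraticMap.polar_sub_left, fd.pv, fd.pv]
  by_cases h1 : a = i ∧ b = k
  · have e1 : (if i = a ∧ k = b then 2 * c else 0) = 2 * c := if_pos ⟨h1.1.symm, h1.2.symm⟩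
    have e2 : (if j = a ∧ l = b then 2 * c else 0) = 0 :=
      if_neg (fun h => hij (h1.1.symm.trans h.1.symm))
    rw [e1, e2, if_pos h1, sub_zero, div_self hc2, one_smul, h1.1, h1.2]
    abel
  · have e1 : (if i = a ∧ k = b then 2 * c else 0) = 0 :=
      if_neg (fun h => h1 ⟨h.1.symm, h.2.symm⟩)
    rw [e1, if_neg h1]
    by_cases h3 : a = j ∧ b = l
    · have e2 : (if j = a ∧ l = b then 2 * c else 0) = 2 * c := if_pos ⟨h3.1.symm, h3.2.symm⟩
      rw [e2, if_pos h3, zero_sub, neg_div, div_self hc2, neg_smul, one_smul, h3.1, h3.2]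
      abel
    · have e2 : (if j = a ∧ l = b then 2 * c else 0) = 0 :=
        if_neg (fun h => h3 ⟨h.1.symm, h.2.symm⟩)
      rw [e2, if_neg h3, sub_zero, zero_div, zero_smul, sub_zero]

theorem FrameDataK.refl_maps (fd : FrameDataK Q D c v) (h2 : (2 : F) ≠ 0) {i j : Fin t}
    (hij : i ≠ j) (k l : κ) : ∀ x ∈ SS Q D c, refl Q (v i k - v j l) x ∈ SS Q D c := by
  have hv : ∀ a b, refl Q (v i k - v j l) (v a b) ∈ SS Q D c := by
    intro a b
    rw [fd.refl_v Q h2 hij]
    split_ifs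
    · exact fd.v_mem_SS Q j l
    · exact fd.v_mem_SS Q i k
    · exact fd.v_mem_SS Q a b
  intro x hx
  obtain ⟨hQx, a, ha⟩ := hx
  obtain ⟨b, rfl | rfl⟩ := fd.char a x ha hQx
  · exact hv a b
  · rw [map_neg]
    exact neg_mem_SS Q (hv a b)

theorem exists_frameData2 [Fintype F] (hq : Fintype.card F = 3) {t : ℕ}
    (D : Fin t → Submodule F (ι → F)) (hD : Cfsg.Geo.IsOrthogonalMDecomposition ⇑Q 2 D)
    (haniso : ∀ i, ∀ x ∈ D i, Q x = 0 → x = 0) :
    ∃ (c : F) (v : Fin t → Fin 2 → (ι → F)), FrameDataK Q D c v := by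
  have ht := hD.decomp.decomp.two_le
  have hnd : ∀ i, NondegOn Q (D i) := fun i => nondegOn_of_geo Q (hD.decomp.nondegenerate i)
  have hdim : ∀ i, finrank F (D i) = 2 := hD.decomp.decomp.finrank_eq
  obtain ⟨c, w, hc, hwD, hw, hwo⟩ := exists_frame2 hq Q (hnd ⟨0, by omega⟩) (hdim ⟨0, by omega⟩)
    (haniso ⟨0, by omega⟩)
  have hiso := fun i => hD.isometric ⟨0, by omega⟩ i
  choose e he using hiso
  have hpolar : ∀ i (x y : D ⟨0, by omega⟩), QuadraticMap.polar Q ((e i x : D i) : ι → F)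
      ((e i y : D i) : ι → F) = QuadraticMap.polar Q (x : ι → F) (y : ι → F) := by
    intro i x y
    unfold QuadraticMap.polar
    have h1 : ((e i x : D i) : ι → F) + ((e i y : D i) : ι → F) = ((e i (x + y) : D i) : ι → F) := by
      rw [map_add]; rfl
    rw [h1, he, he, he]
    rfl
  have hvnorm : ∀ i k, Q ((e i ⟨w k, hwD k⟩ : D i) : ι → F) = c := by
    intro i k
    have := he i ⟨w k, hwD k⟩
    rw [this]
    exact hw k
  have hvorth : ∀ i k l, k ≠ l → QuadraticMap.polar Q ((e i ⟨w k, hwD k⟩ : D i) : ι → F)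
      ((e i ⟨w l, hwD l⟩ : D i) : ι → F) = 0 := by
    intro i k l hkl
    rw [hpolar]
    exact hwo k l hkl
  refine ⟨c, fun i k => ((e i ⟨w k, hwD k⟩ : D i) : ι → F), hc, fun i k => Subtype.mem _,
    hvnorm, hvorth, ?_, ?_⟩
  · intro i j hij x hx y hy
    exact hD.decomp.orthogonal i j hij x hx y hy
  · intro i x hx hQx
    obtain ⟨a, rfl⟩ := frame_span2 (f3_two_ne hq) Q (hdim i) hc
      (w := fun k => ((e i ⟨w k, hwD k⟩ : D i) : ι → F)) (fun k => Subtype.mem _)
      (hvnorm i) (hvorth i) x hx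
    exact frame_norm2 hq Q hc (hvnorm i) (hvorth i) a hQx

end Cfsg.Agent.Lead.OrthFrame2
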