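import Mathlib
import Cfsg.Agent.Lead.OrthFrame2B

set_option autoImplicit false
open Cfsg

namespace Cfsg.Agent.Lead.OrthFrame2

open Cfsg.Agent.Helper8.QuadForm Cfsg.Agent.Helper8.ReflMatrix Cfsg.Agent.Helper8.Reflections
  Cfsg.Agent.Lead.OrthPlane Cfsg.Agent.Lead.OrthFrame Module

variable {F : Type*} [Field F] {ι : Type} [Fintype ι] [DecidableEq ι]
variable (Q : QuadraticForm F (ι → F))

theorem main_frame2 [Fintype F] (hq : Fintype.card F = 3)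
    (hQ : (QuadraticMap.polarBilin Q).Nondegenerate) (hn : 2 ≤ Fintype.card ι) {t : ℕ}
    (D : Fin t → Submodule F (ι → F)) (hD : Cfsg.Geo.IsOrthogonalMDecomposition ⇑Q 2 D)
    (haniso : ∀ i, ∀ x ∈ D i, Q x = 0 → x = 0) (ht : 3 ≤ t) :
    ∃ K : Subgroup (GL ι F), Cfsg.Geo.decompositionStabilizer D ⊓ Cfsg.Geo.omegaGL ⇑Q < K ∧
      K < Cfsg.Geo.omegaGL ⇑Q := by
  have h2 := f3_two_ne hq
  obtain ⟨c, v, fd⟩ := exists_frameData2 Q hq D hD haniso
  obtain ⟨i₀, hi₀⟩ : ∃ i : Fin t, i = ⟨0, by omega⟩ := ⟨_, rfl⟩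
  obtain ⟨i₁, hi₁⟩ : ∃ i : Fin t, i = ⟨1, by omega⟩ := ⟨_, rfl⟩
  obtain ⟨i₂, hi₂⟩ : ∃ i : Fin t, i = ⟨2, by omega⟩ := ⟨_, rfl⟩
  have h01 : i₀ ≠ i₁ := by
    rw [hi₀, hi₁]
    intro h
    have := Fin.mk.inj_iff.1 h
    omega
  have h02 : i₀ ≠ i₂ := by
    rw [hi₀, hi₂]
    intro h
    have := Fin.mk.inj_iff.1 h
    omega
  have h12 : i₁ ≠ i₂ := by
    rw [hi₁, hi₂]
    intro h
    have := Fin.mk.inj_iff.1 h
    omega
  have hc := fd.c_ne
  have hc2 : 2 * c ≠ 0 := mul_ne_zero h2 hc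
  have k01 : (0 : Fin 2) ≠ 1 := by decide
  refine ⟨Cfsg.stabilizing (Cfsg.glToMat ι F) (SS Q D c) ⊓ Cfsg.Geo.omegaGL ⇑Q, ?_, ?_⟩
  · rw [SetLike.lt_iff_le_and_exists]
    refine ⟨?_, ?_⟩
    · intro g hg
      refine ⟨mem_stabilizing_of_maps _ g ?_, hg.2⟩
      obtain ⟨σ, hσ⟩ := hg.1
      rintro x ⟨hQx, i, hi⟩
      refine ⟨by rw [isom_of_mem_omegaGL Q hg.2, hQx], σ i, ?_⟩
      rw [← hσ i]
      exact ⟨x, hi, by rw [Matrix.toLin'_apply]⟩
    · obtain ⟨p, hp⟩ : ∃ p, p = v i₀ 0 - v i₁ 0 := ⟨_, rfl⟩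
      obtain ⟨p', hp'⟩ : ∃ p', p' = v i₀ 1 - v i₂ 1 := ⟨_, rfl⟩
      have hQp : Q p = 2 * c := by rw [hp]; exact fd.Q_diff Q h01 0 0
      have hQp' : Q p' = 2 * c := by rw [hp']; exact fd.Q_diff Q h02 1 1
      have hmemΩ : ((rr Q p p' : ↥(Cfsg.isometryGroup F ⇑Q)) : GL ι F) ∈ Cfsg.Geo.omegaGL ⇑Q := by
        apply rr_mem_omegaGL Q h2 hQ hn
        · rw [hQp]; exact hc2
        · rw [hQp']; exact hc2
        · rw [hQp, hQp']; exact ⟨2 * c, rfl⟩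
      have hmaps : ∀ x ∈ SS Q D c,
          (((rr Q p p' : ↥(Cfsg.isometryGroup F ⇑Q)) : GL ι F) : Matrix ι ι F).mulVec x ∈
            SS Q D c := by
        intro x hx
        rw [rr_mulVec, hp, hp']
        exact fd.refl_maps Q h2 h01 0 0 _ (fd.refl_maps Q h2 h02 1 1 x hx)
      refine ⟨_, ⟨mem_stabilizing_of_maps _ _ hmaps, hmemΩ⟩, ?_⟩
      rintro ⟨⟨σ, hσ⟩, _⟩
      have hmap : ∀ x ∈ D i₀,
          (((rr Q p p' : ↥(Cfsg.isometryGroup F ⇑Q)) : GL ι F) : Matrix ι ι F).mulVec x ∈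
            D (σ i₀) := by
        intro x hx
        rw [← hσ i₀]
        exact ⟨x, hx, by rw [Matrix.toLin'_apply]⟩
      have e1 : (((rr Q p p' : ↥(Cfsg.isometryGroup F ⇑Q)) : GL ι F) : Matrix ι ι F).mulVec
          (v i₀ 0) = v i₁ 0 := by
        have inner : refl Q (v i₀ 1 - v i₂ 1) (v i₀ 0) = v i₀ 0 := by
          rw [fd.refl_v Q h2 h02]
          simp [k01, k01.symm, h02, h02.symm]
        rw [rr_mulVec, hp, hp', inner, fd.refl_v Q h2 h01]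
        simp [k01, k01.symm, h01, h01.symm]
      have e2 : (((rr Q p p' : ↥(Cfsg.isometryGroup F ⇑Q)) : GL ι F) : Matrix ι ι F).mulVec
          (v i₀ 1) = v i₂ 1 := by
        have inner : refl Q (v i₀ 1 - v i₂ 1) (v i₀ 1) = v i₂ 1 := by
          rw [fd.refl_v Q h2 h02]
          simp [k01, k01.symm, h02, h02.symm]
        rw [rr_mulVec, hp, hp', inner, fd.refl_v Q h2 h01]
        simp [k01, k01.symm, h01, h01.symm, h02, h02.symm, h12, h12.symm]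
      have m1 := hmap _ (fd.mem i₀ 0)
      have m2 := hmap _ (fd.mem i₀ 1)
      rw [e1] at m1
      rw [e2] at m2
      have s1 : σ i₀ = i₁ := fd.index_eq Q h2 m1 (fd.mem i₁ 0) (by rw [fd.norm]; exact hc)
      have s2 : σ i₀ = i₂ := fd.index_eq Q h2 m2 (fd.mem i₂ 1) (by rw [fd.norm]; exact hc)
      exact h12 (s1.symm.trans s2)
  · rw [SetLike.lt_iff_le_and_exists]
    refine ⟨inf_le_right, ?_⟩
    obtain ⟨a, ha⟩ : ∃ a, a = (v i₀ 0 + v i₀ 1) + (v i₁ 0 + v i₁ 1) := ⟨_, rfl⟩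
    obtain ⟨b, hb⟩ : ∃ b, b = v i₂ 0 := ⟨_, rfl⟩
    have hQb : Q b = c := by rw [hb]; exact fd.norm i₂ 0
    have pa : ∀ j l, QuadraticMap.polar Q a (v j l) =
        (if i₀ = j ∧ (0 : Fin 2) = l then 2 * c else 0) +
        (if i₀ = j ∧ (1 : Fin 2) = l then 2 * c else 0) +
        ((if i₁ = j ∧ (0 : Fin 2) = l then 2 * c else 0) +
        (if i₁ = j ∧ (1 : Fin 2) = l then 2 * c else 0)) := by
      intro j l
      rw [ha, QuadraticMap.polar_add_left, QuadraticMap.polar_add_left,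
        QuadraticMap.polar_add_left, fd.pv, fd.pv, fd.pv, fd.pv]
    have hQa : Q a = 4 * c := by
      have h1 : Q (v i₀ 0 + v i₀ 1) = 2 * c := by
        rw [QuadraticMap.map_add Q, fd.norm, fd.norm, fd.pv, if_neg (fun h => k01 h.2)]; ring
      have h3 : Q (v i₁ 0 + v i₁ 1) = 2 * c := by
        rw [QuadraticMap.map_add Q, fd.norm, fd.norm, fd.pv, if_neg (fun h => k01 h.2)]; ring
      have h4 : QuadraticMap.polar Q (v i₀ 0 + v i₀ 1) (v i₁ 0 + v i₁ 1) = 0 := by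
        rw [QuadraticMap.polar_add_left, QuadraticMap.polar_add_right,
          QuadraticMap.polar_add_right, fd.pv, fd.pv, fd.pv, fd.pv]
        simp [h01]
      rw [ha, QuadraticMap.map_add Q, h1, h3, h4]; ring
    have h4c : 4 * c ≠ 0 := by
      have : (4 : F) = 2 * 2 := by norm_num
      rw [this]
      exact mul_ne_zero (mul_ne_zero h2 h2) hc
    have hmemΩ : ((rr Q a b : ↥(Cfsg.isometryGroup F ⇑Q)) : GL ι F) ∈ Cfsg.Geo.omegaGL ⇑Q := by
      apply rr_mem_omegaGL Q h2 hQ hn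
      · rw [hQa]; exact h4c
      · rw [hQb]; exact hc
      · rw [hQa, hQb]; exact ⟨2 * c, by ring⟩
    refine ⟨_, hmemΩ, ?_⟩
    rintro ⟨hst, _⟩
    have hy := (hst (v i₀ 0)).1 (fd.v_mem_SS Q i₀ 0)
    change (((rr Q a b : ↥(Cfsg.isometryGroup F ⇑Q)) : GL ι F) : Matrix ι ι F).mulVec (v i₀ 0) ∈
      SS Q D c at hy
    have hb0 : QuadraticMap.polar Q b (v i₀ 0) = 0 := by
      rw [hb, fd.pv, if_neg (fun h => h02 h.1.symm)]
    rw [rr_mulVec, refl_of_perp Q hb0, refl_apply, pa] at hy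
    simp only [k01, k01.symm, h01, h01.symm, and_true, and_false, and_self, if_true, if_false,
      add_zero, zero_add, true_and, false_and] at hy
    rw [hQa] at hy
    obtain ⟨_, j, hj⟩ := hy
    have hr : 2 * c / (4 * c) ≠ 0 := div_ne_zero hc2 h4c
    have q1 : QuadraticMap.polar Q (v i₀ 0 - (2 * c / (4 * c)) • a) (v i₁ 0) =
        -((2 * c / (4 * c)) * (2 * c)) := by
      rw [QuadraticMap.polar_sub_left, QuadraticMap.polar_smul_left, pa, fd.pv]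
      simp [k01, k01.symm, h01, h01.symm]
    have q2 : QuadraticMap.polar Q (v i₀ 0 - (2 * c / (4 * c)) • a) (v i₀ 1) =
        -((2 * c / (4 * c)) * (2 * c)) := by
      rw [QuadraticMap.polar_sub_left, QuadraticMap.polar_smul_left, pa, fd.pv]
      simp [k01, k01.symm, h01, h01.symm]
    have hne : -((2 * c / (4 * c)) * (2 * c)) ≠ 0 := neg_ne_zero.2 (mul_ne_zero hr hc2)
    have j1 : j = i₁ := by
      by_contra hj1
      apply hne
      rw [← q1]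
      exact fd.orth_out j i₁ hj1 _ hj _ (fd.mem i₁ 0)
    have j0 : j = i₀ := by
      by_contra hj0
      apply hne
      rw [← q2]
      exact fd.orth_out j i₀ hj0 _ hj _ (fd.mem i₀ 1)
    exact h01 (j0.symm.trans j1)

end Cfsg.Agent.Lead.OrthFrame2
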