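import Mathlib
import Cfsg.Agent.Helper7.S4017Defs
import Cfsg.Agent.S0071

set_option autoImplicit false

/-!
Piece (P12) of the proof of S4017: existence of a `p`-element acting nontrivially on a `q`-subgroup.
-/

namespace Cfsg.Agent.Helper7.S4017

universe u

variable {G : Type u} [Group G] [Finite G] {p q : ℕ}

/-- if `G = N ⟨x⟩` with `N` normal then `[G : N]` divides the order of `x` -/
theorem ld_index_dvd_orderOf (N : Subgroup G) [N.Normal] (x : G)
    (h : N ⊔ Subgroup.zpowers x = ⊤) : N.index ∣ orderOf x := by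
  have h1 : N.relIndex (N ⊔ Subgroup.zpowers x) = N.relIndex (Subgroup.zpowers x) :=
    Subgroup.relIndex_sup_left (Subgroup.zpowers x) N
  rw [h, Subgroup.relIndex_top_right] at h1
  rw [h1, ← Nat.card_zpowers]
  exact Subgroup.relIndex_dvd_card _ _

/-- a subgroup `X ⟨x⟩` (with `x` normalizing `X`) which is everything forces `|G|` to divide
`|X| * o(x)` -/
theorem ld_card_dvd_of_sup_zpowers_eq_top (X : Subgroup G) (x : G)
    (hx : x ∈ Subgroup.normalizer (X : Set G))
    (h : X ⊔ Subgroup.zpowers x = ⊤) : Nat.card G ∣ Nat.card X * orderOf x := by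
  have hn : Subgroup.normalizer (X : Set G) = ⊤ := by
    rw [eq_top_iff, ← h]
    refine sup_le Subgroup.le_normalizer ?_
    rw [Subgroup.zpowers_le]
    exact hx
  have : X.Normal := Subgroup.normalizer_eq_top_iff.mp hn
  rw [← Subgroup.card_mul_index X]
  exact Nat.mul_dvd_mul_left _ (ld_index_dvd_orderOf X x h)

/-- the key contradiction: a `q`-element... precisely: a nontrivial subgroup `X` whose order is a
power of a prime `s`, normalized by an element `x` of prime order `t`, with `{s,t} = {q,r}`,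
cannot exist under `H1` when `p ∣ |G|`, `r ∉ {p,q}` -/
theorem ld_no_qr_subgroup (hp : p.Prime) (hq : q.Prime) (hpq : p ≠ q) (hpG : p ∣ Nat.card G)
    (h1 : H1 G p q) {r : ℕ} (hr : r.Prime) (hrp : r ≠ p) (hrq : r ≠ q)
    (X : Subgroup G) (x : G) (hx : x ∈ Subgroup.normalizer (X : Set G))
    (s t k : ℕ) (hst : (s = q ∧ t = r) ∨ (s = r ∧ t = q))
    (hXcard : Nat.card X = s ^ k) (hk : k ≠ 0) (hxord : orderOf x = t) : False := by
  have hs : s.Prime := by rcases hst with ⟨rfl, _⟩ | ⟨rfl, _⟩ <;> assumption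
  have ht : t.Prime := by rcases hst with ⟨_, rfl⟩ | ⟨_, rfl⟩ <;> assumption
  set K : Subgroup G := X ⊔ Subgroup.zpowers x with hK
  have hsK : s ∣ Nat.card K := by
    have : Nat.card X ∣ Nat.card K := Subgroup.card_dvd_of_le le_sup_left
    rw [hXcard] at this
    exact (dvd_pow_self s hk).trans this
  have htK : t ∣ Nat.card K := by
    have : Nat.card (Subgroup.zpowers x) ∣ Nat.card K := Subgroup.card_dvd_of_le le_sup_right
    rw [Nat.card_zpowers, hxord] at this
    exact this
  have hqK : q ∣ Nat.card K := by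
    rcases hst with ⟨rfl, _⟩ | ⟨_, rfl⟩
    · exact hsK
    · exact htK
  have hrK : r ∣ Nat.card K := by
    rcases hst with ⟨_, rfl⟩ | ⟨rfl, _⟩
    · exact htK
    · exact hsK
  by_cases htop : K = ⊤
  · have hdvd := ld_card_dvd_of_sup_zpowers_eq_top X x hx htop
    rw [hXcard, hxord] at hdvd
    have hpd : p ∣ s ^ k * t := hpG.trans hdvd
    rcases (Nat.Prime.dvd_mul hp).mp hpd with h | h
    · have := (Nat.prime_dvd_prime_iff_eq hp hs).mp (hp.dvd_of_dvd_pow h)
      rcases hst with ⟨rfl, _⟩ | ⟨rfl, _⟩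
      · exact hpq this
      · exact hrp this.symm
    · have := (Nat.prime_dvd_prime_iff_eq hp ht).mp h
      rcases hst with ⟨_, rfl⟩ | ⟨_, rfl⟩
      · exact hrp this.symm
      · exact hpq this
  · rcases h1 K htop hqK r hr hrK with h | h
    · exact hrp h
    · exact hrq h

theorem exists_pelt (hyp : Hyp G p q) (h1 : H1 G p q) (hc : ¬ Concl G p q) :
    ∃ (Q : Sylow q G) (Q0 : Subgroup G) (y : G), Q0 ≤ (Q : Subgroup G) ∧
      y ∈ Subgroup.normalizer (Q0 : Set G) ∧ y ∉ Subgroup.centralizer (Q0 : Set G) ∧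
      IsPElt p y := by
  obtain ⟨hp, hq, hpq, _hp2, hpG, hqG, _hmix, _hlarge⟩ := hyp
  have : Fact p.Prime := ⟨hp⟩
  have : Fact q.Prime := ⟨hq⟩
  -- the third prime
  have hr : ∃ r : ℕ, r.Prime ∧ r ∣ Nat.card G ∧ r ≠ p ∧ r ≠ q := by
    unfold Concl at hc
    push Not at hc
    obtain ⟨r, hr, hrG, hrp, hrq⟩ := hc
    exact ⟨r, hr, hrG, hrp, hrq⟩
  obtain ⟨r, hr, hrG, hrp, hrq⟩ := hr
  have : Fact r.Prime := ⟨hr⟩
  let Q : Sylow q G := default
  by_contra hno
  push Not at hno
  -- Frobenius' condition holds for Q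
  have hfrob : ∀ Q0 : Subgroup G, Q0 ≤ (Q : Subgroup G) →
      ∀ g ∈ Subgroup.normalizer (Q0 : Set G), Nat.Coprime (orderOf g) q →
        g ∈ Subgroup.centralizer (Q0 : Set G) := by
    intro Q0 hQ0 g hg hcop
    by_contra hgc
    refine hno Q Q0 g hQ0 hg hgc ?_
    -- Q0 is nontrivial
    have hQ0ne : Q0 ≠ ⊥ := by
      rintro rfl
      apply hgc
      rw [Subgroup.mem_centralizer_iff]
      intro h hh
      have : h = 1 := by simpa using hh
      subst this
      simp
    have hQ0p : IsPGroup q Q0 := Q.isPGroup'.to_le hQ0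
    obtain ⟨k, hk⟩ := hQ0p.exists_card_eq
    have hk0 : k ≠ 0 := by
      rintro rfl
      apply hQ0ne
      rw [pow_zero] at hk
      exact Subgroup.card_eq_one.mp hk
    -- the normalizer of Q0 is proper
    have hNtop : Subgroup.normalizer (Q0 : Set G) ≠ ⊤ := by
      intro hN
      obtain ⟨x, hx⟩ := exists_prime_orderOf_dvd_card' (G := G) r hrG
      refine ld_no_qr_subgroup hp hq hpq hpG h1 hr hrp hrq Q0 x ?_ q r k (Or.inl ⟨rfl, rfl⟩)
        hk hk0 hx
      rw [hN]; exact Subgroup.mem_top x
    have hqN : q ∣ Nat.card (Subgroup.normalizer (Q0 : Set G)) := by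
      have : Nat.card Q0 ∣ Nat.card (Subgroup.normalizer (Q0 : Set G)) :=
        Subgroup.card_dvd_of_le Subgroup.le_normalizer
      rw [hk] at this
      exact (dvd_pow_self q hk0).trans this
    have hprimes := h1 _ hNtop hqN
    have hgord : orderOf g ∣ Nat.card (Subgroup.normalizer (Q0 : Set G)) :=
      Subgroup.orderOf_dvd_natCard _ hg
    have hpos : orderOf g ≠ 0 := (orderOf_pos g).ne'
    refine ⟨_, Nat.eq_prime_pow_of_unique_prime_dvd hpos ?_⟩
    intro d hd hdg
    rcases hprimes d hd (hdg.trans hgord) with h | h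
    · exact h
    · exfalso
      subst h
      have : d ∣ Nat.gcd (orderOf g) d := Nat.dvd_gcd hdg dvd_rfl
      rw [Nat.Coprime] at hcop
      rw [hcop] at this
      exact hd.one_lt.ne' (Nat.dvd_one.mp this)
  -- normal q-complement
  obtain ⟨N, hNn, hNc⟩ := (Cfsg.Agent.S0071.result Q).mpr hfrob
  have := hNn
  -- orders
  have hcard : Nat.card N * Nat.card (Q : Subgroup G) = Nat.card G := hNc.card_mul_card
  have hQcard : Nat.card (Q : Subgroup G) = q ^ (Nat.card G).factorization q := Q.card_eq_multiplicity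
  have hqN : ¬ q ∣ Nat.card N := by
    intro hdvd
    have hGpos : Nat.card G ≠ 0 := Nat.card_pos.ne'
    have h2 : q ^ ((Nat.card G).factorization q + 1) ∣ Nat.card G := by
      have h3 : q * q ^ (Nat.card G).factorization q ∣ Nat.card N * Nat.card (Q : Subgroup G) := by
        rw [hQcard]
        exact Nat.mul_dvd_mul_right hdvd _
      rw [hcard] at h3
      rw [pow_succ, mul_comm]
      exact h3
    exact (Nat.pow_succ_factorization_not_dvd hGpos hq) h2
  have hrN : r ∣ Nat.card N := by
    have : r ∣ Nat.card N * Nat.card (Q : Subgroup G) := hcard ▸ hrG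
    rcases (Nat.Prime.dvd_mul hr).mp this with h | h
    · exact h
    · exfalso
      rw [hQcard] at h
      exact hrq ((Nat.prime_dvd_prime_iff_eq hr hq).mp (hr.dvd_of_dvd_pow h))
  -- Frattini
  let R : Sylow r N := default
  set R' : Subgroup G := (R : Subgroup N).map N.subtype with hR'
  have hfr : Subgroup.normalizer (R' : Set G) ⊔ N = ⊤ := Sylow.normalizer_sup_eq_top R
  have hR'card : Nat.card R' = r ^ (Nat.card N).factorization r := by
    rw [hR', Subgroup.card_map_of_injective N.subtype_injective]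
    exact R.card_eq_multiplicity
  have hkR : (Nat.card N).factorization r ≠ 0 := by
    have hNpos : Nat.card N ≠ 0 := Nat.card_pos.ne'
    exact (hr.factorization_pos_of_dvd hNpos hrN).ne'
  -- q divides the order of the normalizer of R'
  have hqM : q ∣ Nat.card (Subgroup.normalizer (R' : Set G)) := by
    have h2 : N.relIndex (Subgroup.normalizer (R' : Set G) ⊔ N) =
        N.relIndex (Subgroup.normalizer (R' : Set G)) := Subgroup.relIndex_sup_right _ _
    rw [hfr, Subgroup.relIndex_top_right] at h2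
    have h3 : N.index ∣ Nat.card (Subgroup.normalizer (R' : Set G)) := by
      rw [h2]; exact Subgroup.relIndex_dvd_card _ _
    have h4 : q ∣ N.index := by
      have h5 : Nat.card N * N.index = Nat.card G := Subgroup.card_mul_index N
      have : q ∣ Nat.card N * N.index := h5 ▸ hqG
      rcases (Nat.Prime.dvd_mul hq).mp this with h | h
      · exact absurd h hqN
      · exact h
    exact h4.trans h3
  obtain ⟨x, hx⟩ := exists_prime_orderOf_dvd_card' (G := Subgroup.normalizer (R' : Set G)) q hqM
  have hxo : orderOf (x : G) = q := by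
    rw [← hx]; exact Subgroup.orderOf_coe x
  exact ld_no_qr_subgroup hp hq hpq hpG h1 hr hrp hrq R' (x : G) x.2 r q _ (Or.inr ⟨rfl, rfl⟩)
    hR'card hkR hxo

end Cfsg.Agent.Helper7.S4017
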