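import Mathlib

set_option autoImplicit false

/-! # Fusion system of `PSp_{2m}(K)` in the defining characteristic, part A:
Siegel elements, the Levi embedding of `GL_m`, and the pointwise `SL_2` embedding. -/

namespace Cfsg.Agent.Lead.SpFus

open Matrix

variable {K : Type*} [Field K] {m : ℕ}

/-- the Siegel element `[1 S; 0 1]` for a symmetric matrix `S` -/
def sieg (S : Matrix (Fin m) (Fin m) K) (hS : S.IsSymm) : symplecticGroup (Fin m) K :=
  ⟨fromBlocks 1 S 0 1, by
    rw [SymplecticGroup.fromBlocks_mem_iff]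
    refine ⟨by simp, ?_, by simp⟩
    rw [Matrix.mul_one, transpose_one, Matrix.one_mul]
    exact hS.eq⟩

theorem sieg_coe (S : Matrix (Fin m) (Fin m) K) (hS : S.IsSymm) :
    ((sieg S hS : symplecticGroup (Fin m) K) : Matrix (Fin m ⊕ Fin m) (Fin m ⊕ Fin m) K) =
      fromBlocks 1 S 0 1 := rfl

theorem sieg_congr {S S' : Matrix (Fin m) (Fin m) K} (h : S = S') (hS : S.IsSymm)
    (hS' : S'.IsSymm) : sieg S hS = sieg S' hS' := by
  subst h; rfl

theorem sieg_mul (S S' : Matrix (Fin m) (Fin m) K) (hS : S.IsSymm) (hS' : S'.IsSymm) :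
    sieg S hS * sieg S' hS' = sieg (S + S') (hS.add hS') := by
  apply Subtype.ext
  show fromBlocks 1 S 0 1 * fromBlocks 1 S' 0 1 = fromBlocks 1 (S + S') 0 1
  rw [fromBlocks_multiply]
  simp [add_comm]

theorem sieg_zero : sieg (0 : Matrix (Fin m) (Fin m) K) isSymm_zero = 1 := by
  apply Subtype.ext
  show fromBlocks 1 0 0 1 = (1 : Matrix (Fin m ⊕ Fin m) (Fin m ⊕ Fin m) K)
  exact fromBlocks_one

theorem sieg_inv (S : Matrix (Fin m) (Fin m) K) (hS : S.IsSymm) :
    (sieg S hS)⁻¹ = sieg (-S) hS.neg := by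
  rw [inv_eq_iff_mul_eq_one, sieg_mul]
  rw [← sieg_zero]
  exact sieg_congr (by simp) _ _

theorem sieg_injective {S S' : Matrix (Fin m) (Fin m) K} (hS : S.IsSymm) (hS' : S'.IsSymm)
    (h : sieg S hS = sieg S' hS') : S = S' := by
  have := congrArg Subtype.val h
  rw [sieg_coe, sieg_coe] at this
  exact (fromBlocks_inj.1 this).2.1

/-- the Levi embedding `A ↦ [A 0; 0 A⁻ᵀ]` of `GL_m` -/
def levGL : GL (Fin m) K →* symplecticGroup (Fin m) K where
  toFun A := ⟨fromBlocks (A : Matrix (Fin m) (Fin m) K) 0 0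
      ((A⁻¹ : GL (Fin m) K) : Matrix (Fin m) (Fin m) K)ᵀ, by
    rw [SymplecticGroup.fromBlocks_mem_iff]
    refine ⟨by simp, by simp, ?_⟩
    rw [← transpose_mul]
    simp⟩
  map_one' := by
    apply Subtype.ext
    show fromBlocks _ 0 0 _ = (1 : Matrix (Fin m ⊕ Fin m) (Fin m ⊕ Fin m) K)
    simp [fromBlocks_one]
  map_mul' A B := by
    apply Subtype.ext
    show fromBlocks _ 0 0 _ = fromBlocks _ 0 0 _ * fromBlocks _ 0 0 _
    rw [fromBlocks_multiply]
    simp [transpose_mul]

theorem levGL_coe (A : GL (Fin m) K) :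
    ((levGL A : symplecticGroup (Fin m) K) : Matrix (Fin m ⊕ Fin m) (Fin m ⊕ Fin m) K) =
      fromBlocks (A : Matrix (Fin m) (Fin m) K) 0 0
        ((A⁻¹ : GL (Fin m) K) : Matrix (Fin m) (Fin m) K)ᵀ := rfl

theorem isSymm_conj (A : Matrix (Fin m) (Fin m) K) {S : Matrix (Fin m) (Fin m) K}
    (hS : S.IsSymm) : (A * S * Aᵀ).IsSymm := by
  show (A * S * Aᵀ)ᵀ = A * S * Aᵀ
  rw [transpose_mul, transpose_mul, transpose_transpose, hS.eq, Matrix.mul_assoc]

/-- conjugating a Siegel element by a Levi element -/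
theorem levGL_mul_sieg (A : GL (Fin m) K) (S : Matrix (Fin m) (Fin m) K) (hS : S.IsSymm) :
    levGL A * sieg S hS =
      sieg ((A : Matrix (Fin m) (Fin m) K) * S * (A : Matrix (Fin m) (Fin m) K)ᵀ)
        (isSymm_conj _ hS) * levGL A := by
  apply Subtype.ext
  show fromBlocks _ 0 0 _ * fromBlocks 1 S 0 1 = fromBlocks 1 _ 0 1 * fromBlocks _ 0 0 _
  rw [fromBlocks_multiply, fromBlocks_multiply]
  have h1 : (A : Matrix (Fin m) (Fin m) K)ᵀ * ((A⁻¹ : GL (Fin m) K) : Matrix (Fin m) (Fin m) K)ᵀ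
      = 1 := by
    rw [← transpose_mul]
    simp
  simp only [Matrix.mul_one, Matrix.mul_zero, add_zero, Matrix.zero_mul, zero_add, Matrix.one_mul]
  congr 1
  rw [Matrix.mul_assoc, Matrix.mul_assoc, h1, Matrix.mul_one]

theorem levGL_conj_sieg (A : GL (Fin m) K) (S : Matrix (Fin m) (Fin m) K) (hS : S.IsSymm) :
    levGL A * sieg S hS * (levGL A)⁻¹ =
      sieg ((A : Matrix (Fin m) (Fin m) K) * S * (A : Matrix (Fin m) (Fin m) K)ᵀ)
        (isSymm_conj _ hS) := by
  rw [levGL_mul_sieg, mul_inv_cancel_right]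

/-- the pointwise embedding of `SL_2(K)^m` -/
def pw : (Fin m → Matrix.SpecialLinearGroup (Fin 2) K) →* symplecticGroup (Fin m) K where
  toFun f := ⟨fromBlocks (diagonal fun k => (f k : Matrix (Fin 2) (Fin 2) K) 0 0)
      (diagonal fun k => (f k : Matrix (Fin 2) (Fin 2) K) 0 1)
      (diagonal fun k => (f k : Matrix (Fin 2) (Fin 2) K) 1 0)
      (diagonal fun k => (f k : Matrix (Fin 2) (Fin 2) K) 1 1), by
    rw [SymplecticGroup.fromBlocks_mem_iff]
    refine ⟨?_, ?_, ?_⟩
    · rw [diagonal_transpose, diagonal_transpose, diagonal_mul_diagonal, diagonal_mul_diagonal]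
      congr 1; funext k; ring
    · rw [diagonal_transpose, diagonal_transpose, diagonal_mul_diagonal, diagonal_mul_diagonal]
      congr 1; funext k; ring
    · rw [diagonal_transpose, diagonal_transpose, diagonal_mul_diagonal, diagonal_mul_diagonal,
        sub_eq_iff_eq_add, ← diagonal_one, diagonal_add]
      congr 1; funext k
      have := (f k).2
      rw [Matrix.det_fin_two] at this
      linear_combination this⟩
  map_one' := by
    apply Subtype.ext
    show fromBlocks _ _ _ _ = (1 : Matrix (Fin m ⊕ Fin m) (Fin m ⊕ Fin m) K)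
    rw [← fromBlocks_one]
    simp
  map_mul' f g := by
    apply Subtype.ext
    show fromBlocks _ _ _ _ = fromBlocks _ _ _ _ * fromBlocks _ _ _ _
    rw [fromBlocks_multiply]
    simp only [diagonal_mul_diagonal, diagonal_add]
    congr 1 <;>
    · congr 1; funext k
      simp [Matrix.mul_apply, Fin.sum_univ_two]

theorem pw_coe (f : Fin m → Matrix.SpecialLinearGroup (Fin 2) K) :
    ((pw f : symplecticGroup (Fin m) K) : Matrix (Fin m ⊕ Fin m) (Fin m ⊕ Fin m) K) =
      fromBlocks (diagonal fun k => (f k : Matrix (Fin 2) (Fin 2) K) 0 0)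
      (diagonal fun k => (f k : Matrix (Fin 2) (Fin 2) K) 0 1)
      (diagonal fun k => (f k : Matrix (Fin 2) (Fin 2) K) 1 0)
      (diagonal fun k => (f k : Matrix (Fin 2) (Fin 2) K) 1 1) := rfl

end Cfsg.Agent.Lead.SpFus
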