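import Mathlib
import Cfsg.Agent.Lead.SpFusA

set_option autoImplicit false

/-! # Fusion system of `PSp_{2m}(K)`, part B: the Borel and unipotent subgroups -/

namespace Cfsg.Agent.Lead.SpFus

open Matrix

variable {K : Type*} [Field K] {m : ℕ}

/-- the position of a basis vector in the order `e₁ < … < e_m < f_m < … < f₁` -/
def rho (m : ℕ) : Fin m ⊕ Fin m → ℕ :=
  Sum.elim (fun i => (i : ℕ)) (fun i => 2 * m - 1 - (i : ℕ))

theorem rho_inl (i : Fin m) : rho m (Sum.inl i) = (i : ℕ) := rfl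

theorem rho_inr (i : Fin m) : rho m (Sum.inr i) = 2 * m - 1 - (i : ℕ) := rfl

theorem rho_injective (m : ℕ) : Function.Injective (rho m) := by
  rintro (a | a) (b | b) h
  · simp only [rho_inl] at h
    rw [Fin.ext h]
  · simp only [rho_inl, rho_inr] at h
    have := a.2; have := b.2
    omega
  · simp only [rho_inl, rho_inr] at h
    have := a.2; have := b.2
    omega
  · simp only [rho_inr] at h
    have := a.2; have := b.2
    have : (a : ℕ) = b := by omega
    rw [Fin.ext this]

theorem rho_lt (a : Fin m ⊕ Fin m) : rho m a < 2 * m := by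
  rcases a with a | a
  · rw [rho_inl]; have := a.2; omega
  · rw [rho_inr]; have := a.2; omega

theorem rho_inl_lt_inr (i j : Fin m) : rho m (Sum.inl i) < rho m (Sum.inr j) := by
  rw [rho_inl, rho_inr]
  have := i.2; have := j.2
  omega

/-- diagonal of a product of `rho`-upper triangular matrices -/
theorem diag_mul_of_upper {M N : Matrix (Fin m ⊕ Fin m) (Fin m ⊕ Fin m) K}
    (hM : M.BlockTriangular (rho m)) (hN : N.BlockTriangular (rho m)) (a : Fin m ⊕ Fin m) :
    (M * N) a a = M a a * N a a := by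
  rw [Matrix.mul_apply]
  apply Finset.sum_eq_single a
  · intro c _ hca
    have hne : rho m c ≠ rho m a := fun h => hca (rho_injective m h)
    rcases lt_or_gt_of_ne hne with h | h
    · rw [hM h, zero_mul]
    · rw [hN h, mul_zero]
  · intro h
    exact absurd (Finset.mem_univ a) h

theorem upper_inv {g : symplecticGroup (Fin m) K}
    (h : (g : Matrix (Fin m ⊕ Fin m) (Fin m ⊕ Fin m) K).BlockTriangular (rho m)) :
    ((g⁻¹ : symplecticGroup (Fin m) K) :
      Matrix (Fin m ⊕ Fin m) (Fin m ⊕ Fin m) K).BlockTriangular (rho m) := by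
  have hdet : IsUnit (g : Matrix (Fin m ⊕ Fin m) (Fin m ⊕ Fin m) K).det :=
    SymplecticGroup.symplectic_det g.2
  have : Invertible (g : Matrix (Fin m ⊕ Fin m) (Fin m ⊕ Fin m) K) :=
    Matrix.invertibleOfIsUnitDet _ hdet
  rw [SymplecticGroup.coe_inv']
  exact Matrix.blockTriangular_inv_of_blockTriangular h

theorem coe_mul_inv (g : symplecticGroup (Fin m) K) :
    (g : Matrix (Fin m ⊕ Fin m) (Fin m ⊕ Fin m) K) *
      ((g⁻¹ : symplecticGroup (Fin m) K) : Matrix (Fin m ⊕ Fin m) (Fin m ⊕ Fin m) K) = 1 := by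
  have : ((g * g⁻¹ : symplecticGroup (Fin m) K) :
      Matrix (Fin m ⊕ Fin m) (Fin m ⊕ Fin m) K) = 1 := by
    rw [mul_inv_cancel]; rfl
  exact this

theorem coe_inv_mul (g : symplecticGroup (Fin m) K) :
    ((g⁻¹ : symplecticGroup (Fin m) K) : Matrix (Fin m ⊕ Fin m) (Fin m ⊕ Fin m) K) *
      (g : Matrix (Fin m ⊕ Fin m) (Fin m ⊕ Fin m) K) = 1 := by
  have : ((g⁻¹ * g : symplecticGroup (Fin m) K) :
      Matrix (Fin m ⊕ Fin m) (Fin m ⊕ Fin m) K) = 1 := by
    rw [inv_mul_cancel]; rfl
  exact this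

/-- the Borel subgroup: `rho`-upper triangular symplectic matrices -/
def Bsub (K : Type*) [Field K] (m : ℕ) : Subgroup (symplecticGroup (Fin m) K) where
  carrier := {g | (g : Matrix (Fin m ⊕ Fin m) (Fin m ⊕ Fin m) K).BlockTriangular (rho m)}
  mul_mem' := by
    intro a b ha hb
    exact BlockTriangular.mul ha hb
  one_mem' := blockTriangular_one
  inv_mem' := by
    intro a ha
    exact upper_inv ha

/-- the unipotent subgroup: `rho`-upper unitriangular symplectic matrices -/
def Usub (K : Type*) [Field K] (m : ℕ) : Subgroup (symplecticGroup (Fin m) K) where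
  carrier := {g | (g : Matrix (Fin m ⊕ Fin m) (Fin m ⊕ Fin m) K).BlockTriangular (rho m) ∧
    ∀ a, (g : Matrix (Fin m ⊕ Fin m) (Fin m ⊕ Fin m) K) a a = 1}
  mul_mem' := by
    rintro a b ⟨ha, ha'⟩ ⟨hb, hb'⟩
    refine ⟨BlockTriangular.mul ha hb, fun c => ?_⟩
    show ((a : Matrix (Fin m ⊕ Fin m) (Fin m ⊕ Fin m) K) * b) c c = 1
    rw [diag_mul_of_upper ha hb, ha', hb', one_mul]
  one_mem' := ⟨blockTriangular_one, fun a => one_apply_eq a⟩
  inv_mem' := by
    rintro a ⟨ha, ha'⟩
    have hinv := upper_inv ha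
    refine ⟨hinv, fun c => ?_⟩
    have h1 := diag_mul_of_upper ha hinv c
    rw [coe_mul_inv, one_apply_eq, ha', one_mul] at h1
    exact h1.symm

theorem mem_Usub {g : symplecticGroup (Fin m) K} : g ∈ Usub K m ↔
    (g : Matrix (Fin m ⊕ Fin m) (Fin m ⊕ Fin m) K).BlockTriangular (rho m) ∧
      ∀ a, (g : Matrix (Fin m ⊕ Fin m) (Fin m ⊕ Fin m) K) a a = 1 := Iff.rfl

theorem mem_Bsub {g : symplecticGroup (Fin m) K} : g ∈ Bsub K m ↔
    (g : Matrix (Fin m ⊕ Fin m) (Fin m ⊕ Fin m) K).BlockTriangular (rho m) := Iff.rfl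

theorem Usub_le_Bsub : Usub K m ≤ Bsub K m := fun _ h => h.1

/-- Siegel elements are unipotent -/
theorem sieg_mem_Usub (S : Matrix (Fin m) (Fin m) K) (hS : S.IsSymm) : sieg S hS ∈ Usub K m := by
  refine ⟨?_, ?_⟩
  · rintro (a | a) (b | b) hab
    · rw [sieg_coe, fromBlocks_apply₁₁]
      have : a ≠ b := by
        rintro rfl; exact lt_irrefl _ hab
      exact one_apply_ne this
    · exact absurd hab (not_lt.mpr (rho_inl_lt_inr a b).le)
    · rw [sieg_coe, fromBlocks_apply₂₁]; rfl
    · rw [sieg_coe, fromBlocks_apply₂₂]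
      have : a ≠ b := by
        rintro rfl; exact lt_irrefl _ hab
      exact one_apply_ne this
  · rintro (a | a)
    · rw [sieg_coe, fromBlocks_apply₁₁, one_apply_eq]
    · rw [sieg_coe, fromBlocks_apply₂₂, one_apply_eq]

/-- Levi elements of upper triangular matrices are in the Borel subgroup -/
theorem levGL_mem_Bsub (A : GL (Fin m) K)
    (hA : (A : Matrix (Fin m) (Fin m) K).BlockTriangular id) : levGL A ∈ Bsub K m := by
  have : Invertible (A : Matrix (Fin m) (Fin m) K) := A.invertible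
  have hinv : ((A⁻¹ : GL (Fin m) K) : Matrix (Fin m) (Fin m) K).BlockTriangular id := by
    rw [Matrix.coe_units_inv]
    exact Matrix.blockTriangular_inv_of_blockTriangular hA
  rintro (a | a) (b | b) hab
  · rw [levGL_coe, fromBlocks_apply₁₁]
    exact hA (by simpa [rho_inl] using hab)
  · exact absurd hab (not_lt.mpr (rho_inl_lt_inr a b).le)
  · rw [levGL_coe, fromBlocks_apply₂₁]; rfl
  · rw [levGL_coe, fromBlocks_apply₂₂, transpose_apply]
    apply hinv
    rw [rho_inr, rho_inr] at hab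
    have := a.2; have := b.2
    show (a : ℕ) < (b : ℕ)
    omega

/-- Levi elements of upper unitriangular matrices are unipotent -/
theorem levGL_mem_Usub (A : GL (Fin m) K)
    (hA : (A : Matrix (Fin m) (Fin m) K).BlockTriangular id)
    (hA1 : ∀ i, (A : Matrix (Fin m) (Fin m) K) i i = 1) : levGL A ∈ Usub K m := by
  refine ⟨levGL_mem_Bsub A hA, ?_⟩
  have : Invertible (A : Matrix (Fin m) (Fin m) K) := A.invertible
  have hinv : ((A⁻¹ : GL (Fin m) K) : Matrix (Fin m) (Fin m) K).BlockTriangular id := by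
    rw [Matrix.coe_units_inv]
    exact Matrix.blockTriangular_inv_of_blockTriangular hA
  rintro (a | a)
  · rw [levGL_coe, fromBlocks_apply₁₁, hA1]
  · rw [levGL_coe, fromBlocks_apply₂₂, transpose_apply]
    have h1 : ((A : Matrix (Fin m) (Fin m) K) *
        ((A⁻¹ : GL (Fin m) K) : Matrix (Fin m) (Fin m) K)) a a = 1 := by
      rw [← Matrix.GeneralLinearGroup.coe_mul, mul_inv_cancel]
      simp
    rw [Matrix.mul_apply] at h1
    rw [Finset.sum_eq_single a] at h1
    · rw [hA1, one_mul] at h1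
      exact h1
    · intro c _ hca
      rcases lt_or_gt_of_ne hca with h | h
      · rw [hA (show id c < id a from h), zero_mul]
      · rw [hinv (show id a < id c from h), mul_zero]
    · intro h
      exact absurd (Finset.mem_univ a) h

/-- the block decomposition of an element of the Borel subgroup -/
theorem exists_levGL_sieg_of_mem_Bsub {g : symplecticGroup (Fin m) K} (hg : g ∈ Bsub K m) :
    ∃ (A : GL (Fin m) K) (S : Matrix (Fin m) (Fin m) K) (hS : S.IsSymm),
      (A : Matrix (Fin m) (Fin m) K).BlockTriangular id ∧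
      (∀ i, (A : Matrix (Fin m) (Fin m) K) i i =
        (g : Matrix (Fin m ⊕ Fin m) (Fin m ⊕ Fin m) K) (Sum.inl i) (Sum.inl i)) ∧
      g = levGL A * sieg S hS := by
  obtain ⟨M, hM⟩ := g
  set A := M.toBlocks₁₁ with hA
  set B := M.toBlocks₁₂ with hB
  set C := M.toBlocks₂₁ with hC
  set D := M.toBlocks₂₂ with hD
  have hMeq : M = fromBlocks A B C D := (fromBlocks_toBlocks M).symm
  have hC0 : C = 0 := by
    ext i j
    show M (Sum.inr i) (Sum.inl j) = 0
    exact hg (rho_inl_lt_inr j i)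
  have hmem := hM
  rw [hMeq, hC0, SymplecticGroup.fromBlocks_mem_iff] at hmem
  obtain ⟨-, h2, h3⟩ := hmem
  rw [transpose_zero, Matrix.zero_mul, sub_zero] at h3
  have h3' : Dᵀ * A = 1 := by
    have := congrArg transpose h3
    rwa [transpose_mul, transpose_transpose, transpose_one] at this
  have h3'' : A * Dᵀ = 1 := mul_eq_one_comm.mp h3'
  let Ag : GL (Fin m) K := ⟨A, Dᵀ, h3'', h3'⟩
  have hAinv : ((Ag⁻¹ : GL (Fin m) K) : Matrix (Fin m) (Fin m) K) = Dᵀ := rfl
  have hS : (Dᵀ * B).IsSymm := by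
    show (Dᵀ * B)ᵀ = Dᵀ * B
    rw [transpose_mul, transpose_transpose]
    exact h2
  refine ⟨Ag, Dᵀ * B, hS, ?_, fun i => rfl, ?_⟩
  · intro i j hij
    show M (Sum.inl i) (Sum.inl j) = 0
    exact hg (by simpa [rho_inl] using hij)
  · apply Subtype.ext
    show M = fromBlocks _ 0 0 _ * fromBlocks 1 (Dᵀ * B) 0 1
    rw [fromBlocks_multiply, hAinv, transpose_transpose, hMeq, hC0]
    simp only [Matrix.mul_one, Matrix.mul_zero, add_zero, Matrix.zero_mul, zero_add]
    congr 1
    show B = A * (Dᵀ * B)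
    rw [← Matrix.mul_assoc, h3'', Matrix.one_mul]

/-- the block decomposition of a unipotent element -/
theorem exists_levGL_sieg_of_mem_Usub {g : symplecticGroup (Fin m) K} (hg : g ∈ Usub K m) :
    ∃ (A : GL (Fin m) K) (S : Matrix (Fin m) (Fin m) K) (hS : S.IsSymm),
      (A : Matrix (Fin m) (Fin m) K).BlockTriangular id ∧
      (∀ i, (A : Matrix (Fin m) (Fin m) K) i i = 1) ∧
      g = levGL A * sieg S hS := by
  obtain ⟨A, S, hS, hA, hA1, hgeq⟩ := exists_levGL_sieg_of_mem_Bsub (Usub_le_Bsub hg)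
  exact ⟨A, S, hS, hA, fun i => (hA1 i).trans (hg.2 _), hgeq⟩

end Cfsg.Agent.Lead.SpFus
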