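import Mathlib
import Cfsg.Agent.Lead.SpFusB

set_option autoImplicit false

/-! # Fusion system of `PSp_{2m}(K)`, part C: elementary elements, `U` is a `p`-group,
and the normaliser of `U` lies in the Borel subgroup -/

namespace Cfsg.Agent.Lead.SpFus

open Matrix

variable {K : Type*} [Field K] {m : ℕ}

/-- elementary matrices in `GL_m` -/
def el (i j : Fin m) (hij : i ≠ j) (c : K) : GL (Fin m) K :=
  Matrix.SpecialLinearGroup.toGL (Matrix.SpecialLinearGroup.transvection hij c)

theorem el_coe (i j : Fin m) (hij : i ≠ j) (c : K) :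
    ((el i j hij c : GL (Fin m) K) : Matrix (Fin m) (Fin m) K) = 1 + single i j c := rfl

theorem el_mul (i j : Fin m) (hij : i ≠ j) (c d : K) :
    el i j hij c * el i j hij d = el i j hij (c + d) := by
  apply Units.ext
  show (1 + single i j c) * (1 + single i j d) = (1 + single i j (c + d) : Matrix _ _ K)
  have := Matrix.transvection_mul_transvection_same (i := i) (j := j) hij c d
  simpa [Matrix.transvection] using this

theorem el_zero (i j : Fin m) (hij : i ≠ j) : el i j hij (0 : K) = 1 := by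
  apply Units.ext
  show (1 + single i j (0 : K) : Matrix _ _ K) = 1
  simp

theorem el_inv (i j : Fin m) (hij : i ≠ j) (c : K) : (el i j hij c)⁻¹ = el i j hij (-c) := by
  rw [inv_eq_iff_mul_eq_one, el_mul, add_neg_cancel, el_zero]

theorem el_upper {i j : Fin m} (hij : i < j) (c : K) :
    ((el i j hij.ne c : GL (Fin m) K) : Matrix (Fin m) (Fin m) K).BlockTriangular id := by
  intro a b hab
  rw [el_coe, Matrix.add_apply, one_apply_ne (show a ≠ b from (ne_of_gt hab)), zero_add]
  apply single_apply_of_ne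
  rintro ⟨rfl, rfl⟩
  exact absurd hab (not_lt.mpr hij.le)

theorem el_diag {i j : Fin m} (hij : i ≠ j) (c : K) (a : Fin m) :
    ((el i j hij c : GL (Fin m) K) : Matrix (Fin m) (Fin m) K) a a = 1 := by
  rw [el_coe, Matrix.add_apply, one_apply_eq, single_apply_of_ne, add_zero]
  rintro ⟨rfl, rfl⟩
  exact hij rfl

/-- short root elements `x_{e_i - e_j}(c)` -/
def xs (i j : Fin m) (hij : i ≠ j) (c : K) : symplecticGroup (Fin m) K := levGL (el i j hij c)

theorem xs_mem_Usub {i j : Fin m} (hij : i < j) (c : K) : xs i j hij.ne c ∈ Usub K m :=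
  levGL_mem_Usub _ (el_upper hij c) (el_diag hij.ne c)

theorem xs_apply_inl (i j : Fin m) (hij : i ≠ j) (c : K) :
    (xs i j hij c : Matrix (Fin m ⊕ Fin m) (Fin m ⊕ Fin m) K) (Sum.inl i) (Sum.inl j) = c := by
  show (levGL (el i j hij c) : Matrix (Fin m ⊕ Fin m) (Fin m ⊕ Fin m) K) _ _ = c
  rw [levGL_coe, fromBlocks_apply₁₁, el_coe, Matrix.add_apply, one_apply_ne hij, zero_add,
    single_apply_same]

theorem xs_apply_inr (i j : Fin m) (hij : i ≠ j) (c : K) :
    (xs i j hij c : Matrix (Fin m ⊕ Fin m) (Fin m ⊕ Fin m) K) (Sum.inr j) (Sum.inr i) = -c := by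
  show (levGL (el i j hij c) : Matrix (Fin m ⊕ Fin m) (Fin m ⊕ Fin m) K) _ _ = -c
  rw [levGL_coe, fromBlocks_apply₂₂, transpose_apply, el_inv, el_coe, Matrix.add_apply, one_apply_ne hij,
    zero_add, single_apply_same]

/-! ### `U` is a `p`-group -/

theorem strict_pow {N : Matrix (Fin m ⊕ Fin m) (Fin m ⊕ Fin m) K}
    (hN : ∀ a b, rho m b ≤ rho m a → N a b = 0) :
    ∀ (k : ℕ) (a b : Fin m ⊕ Fin m), rho m b < rho m a + k → (N ^ k) a b = 0 := by
  intro k
  induction k with
  | zero =>
    intro a b hab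
    rw [pow_zero]
    apply one_apply_ne
    rintro rfl
    omega
  | succ k ih =>
    intro a b hab
    rw [pow_succ, Matrix.mul_apply]
    apply Finset.sum_eq_zero
    intro c _
    by_cases hc : rho m c < rho m a + k
    · rw [ih a c hc, zero_mul]
    · rw [hN c b (by omega), mul_zero]

theorem isPGroup_Usub (p : ℕ) [Fact p.Prime] [CharP K p] [NeZero m] : IsPGroup p (Usub K m) := by
  have hp : p.Prime := Fact.out
  rintro ⟨u, hu⟩
  obtain ⟨k, hk⟩ : ∃ k : ℕ, 2 * m ≤ p ^ k :=
    ⟨2 * m, (Nat.lt_pow_self hp.one_lt).le⟩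
  refine ⟨k, ?_⟩
  apply Subtype.ext
  apply Subtype.ext
  show ((u ^ p ^ k : symplecticGroup (Fin m) K) :
    Matrix (Fin m ⊕ Fin m) (Fin m ⊕ Fin m) K) = 1
  rw [SubmonoidClass.coe_pow]
  set M : Matrix (Fin m ⊕ Fin m) (Fin m ⊕ Fin m) K := u.1 with hM
  have hN : ∀ a b, rho m b ≤ rho m a → (M - 1) a b = 0 := by
    intro a b hab
    rcases hab.lt_or_eq with h | h
    · have h0 : M a b = 0 := hu.1 h
      rw [Matrix.sub_apply, h0, one_apply_ne, sub_zero]
      rintro rfl
      exact lt_irrefl _ h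
    · have := rho_injective m h
      subst this
      have h0 : M b b = 1 := hu.2 b
      rw [Matrix.sub_apply, h0, one_apply_eq, sub_self]
  have h1 : (M - 1) ^ p ^ k = 0 := by
    ext a b
    rw [Matrix.zero_apply]
    apply strict_pow hN
    have := rho_lt b
    omega
  have : Nonempty (Fin m ⊕ Fin m) := ⟨Sum.inl ⟨0, Nat.pos_of_ne_zero (NeZero.ne m)⟩⟩
  rw [sub_pow_char_pow_of_commute p k (Commute.one_right M), one_pow, sub_eq_zero] at h1
  exact h1

/-! ### the normaliser of `U` -/

theorem exists_rho_eq {j : ℕ} (hj : j < 2 * m) : ∃ a : Fin m ⊕ Fin m, rho m a = j := by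
  by_cases h : j < m
  · exact ⟨Sum.inl ⟨j, h⟩, rfl⟩
  · refine ⟨Sum.inr ⟨2 * m - 1 - j, by omega⟩, ?_⟩
    rw [rho_inr]
    show 2 * m - 1 - (2 * m - 1 - j) = j
    omega

/-- Siegel long root elements -/
def xl (i : Fin m) (c : K) : symplecticGroup (Fin m) K :=
  sieg (single i i c) (by
    show (single i i c)ᵀ = single i i c
    rw [transpose_single])

theorem xl_apply (i : Fin m) (c : K) :
    (xl i c : Matrix (Fin m ⊕ Fin m) (Fin m ⊕ Fin m) K) (Sum.inl i) (Sum.inr i) = c := by
  show (fromBlocks 1 (single i i c) 0 1 : Matrix (Fin m ⊕ Fin m) (Fin m ⊕ Fin m) K)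
    (Sum.inl i) (Sum.inr i) = c
  rw [fromBlocks_apply₁₂, single_apply_same]

/-- every superdiagonal position carries a non-trivial element of `U` -/
theorem exists_superdiag (a' a : Fin m ⊕ Fin m) (h : rho m a = rho m a' + 1) :
    ∃ u ∈ Usub K m, (u : Matrix (Fin m ⊕ Fin m) (Fin m ⊕ Fin m) K) a' a ≠ 0 := by
  rcases a' with i | i <;> rcases a with j | j
  · rw [rho_inl, rho_inl] at h
    have hij : i < j := by
      show (i : ℕ) < j
      omega
    refine ⟨xs i j hij.ne 1, xs_mem_Usub hij 1, ?_⟩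
    rw [xs_apply_inl]
    exact one_ne_zero
  · rw [rho_inl, rho_inr] at h
    have hi := i.2
    have hj := j.2
    have hij : i = j := by
      apply Fin.ext
      omega
    subst hij
    refine ⟨xl i 1, sieg_mem_Usub _ _, ?_⟩
    rw [xl_apply]
    exact one_ne_zero
  · rw [rho_inl, rho_inr] at h
    have hi := i.2
    have hj := j.2
    omega
  · rw [rho_inr, rho_inr] at h
    have hi := i.2
    have hj := j.2
    have hij : j < i := by
      show (j : ℕ) < i
      omega
    refine ⟨xs j i hij.ne 1, xs_mem_Usub hij 1, ?_⟩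
    rw [xs_apply_inr]
    exact neg_ne_zero.mpr one_ne_zero

/-- the `k`-th term of the standard flag -/
def Wk (K : Type*) [Field K] (m k : ℕ) : Set (Fin m ⊕ Fin m → K) :=
  {v | ∀ a, k ≤ rho m a → v a = 0}

theorem unip_sub_mem_Wk {u : symplecticGroup (Fin m) K} (hu : u ∈ Usub K m) {k : ℕ}
    {v : Fin m ⊕ Fin m → K} (hv : v ∈ Wk K m (k + 1)) :
    (u : Matrix (Fin m ⊕ Fin m) (Fin m ⊕ Fin m) K) *ᵥ v - v ∈ Wk K m k := by
  intro c hc
  rw [Pi.sub_apply, Matrix.mulVec, dotProduct, Finset.sum_eq_single c]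
  · rw [hu.2, one_mul, sub_self]
  · intro d _ hdc
    have hne : rho m d ≠ rho m c := fun h => hdc (rho_injective m h)
    rcases lt_or_gt_of_ne hne with h | h
    · rw [hu.1 h, zero_mul]
    · rw [hv d (by omega), mul_zero]
  · intro h
    exact absurd (Finset.mem_univ c) h

theorem normalizer_stab_Wk {g : symplecticGroup (Fin m) K}
    (hg : g ∈ Subgroup.normalizer ((Usub K m : Subgroup _) : Set (symplecticGroup (Fin m) K))) :
    ∀ (k : ℕ) (v : Fin m ⊕ Fin m → K), v ∈ Wk K m k →
      (g : Matrix (Fin m ⊕ Fin m) (Fin m ⊕ Fin m) K) *ᵥ v ∈ Wk K m k := by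
  classical
  intro k
  induction k with
  | zero =>
    intro v hv
    have : v = 0 := by
      funext a
      exact hv a (Nat.zero_le _)
    rw [this, Matrix.mulVec_zero]
    intro a _
    rfl
  | succ k ih =>
    intro v hv
    set w := (g : Matrix (Fin m ⊕ Fin m) (Fin m ⊕ Fin m) K) *ᵥ v with hw
    by_contra hcon
    have hne : (Finset.univ.filter (fun a : Fin m ⊕ Fin m => k + 1 ≤ rho m a ∧ w a ≠ 0)).Nonempty := by
      by_contra hempty
      apply hcon
      intro a ha
      by_contra hwa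
      apply hempty
      exact ⟨a, Finset.mem_filter.mpr ⟨Finset.mem_univ _, ha, hwa⟩⟩
    obtain ⟨a, ha, hmax⟩ := Finset.exists_max_image _ (fun a => rho m a) hne
    simp only [Finset.mem_filter, Finset.mem_univ, true_and] at ha hmax
    obtain ⟨hak, hwa⟩ := ha
    obtain ⟨a', ha'⟩ : ∃ a' : Fin m ⊕ Fin m, rho m a' = rho m a - 1 :=
      exists_rho_eq (by have := rho_lt a; omega)
    have haa' : rho m a = rho m a' + 1 := by omega
    obtain ⟨u', hu', hu'a⟩ := exists_superdiag (K := K) a' a haa'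
    -- `u = g⁻¹ u' g` is in `U`
    have hu : g⁻¹ * u' * g ∈ Usub K m := by
      rw [Subgroup.mem_normalizer_iff] at hg
      rw [hg]
      have : g * (g⁻¹ * u' * g) * g⁻¹ = u' := by group
      rw [this]
      exact hu'
    have h1 := ih _ (unip_sub_mem_Wk hu hv) a' (by omega)
    have h2 : (g : Matrix (Fin m ⊕ Fin m) (Fin m ⊕ Fin m) K) *ᵥ
        (((g⁻¹ * u' * g : symplecticGroup (Fin m) K) :
          Matrix (Fin m ⊕ Fin m) (Fin m ⊕ Fin m) K) *ᵥ v - v) =
        (u' : Matrix (Fin m ⊕ Fin m) (Fin m ⊕ Fin m) K) *ᵥ w - w := by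
      have hcoe : ((g⁻¹ * u' * g : symplecticGroup (Fin m) K) :
          Matrix (Fin m ⊕ Fin m) (Fin m ⊕ Fin m) K) = (g⁻¹).1 * u'.1 * g.1 := rfl
      rw [Matrix.mulVec_sub, Matrix.mulVec_mulVec, hw, Matrix.mulVec_mulVec, hcoe]
      congr 2
      rw [Matrix.mul_assoc, ← Matrix.mul_assoc]
      have := coe_mul_inv g
      rw [this, Matrix.one_mul]
    rw [h2, Pi.sub_apply, Matrix.mulVec, dotProduct] at h1
    -- compute the `a'`-component
    have h3 : ∑ c, (u' : Matrix (Fin m ⊕ Fin m) (Fin m ⊕ Fin m) K) a' c * w c =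
        w a' + (u' : Matrix (Fin m ⊕ Fin m) (Fin m ⊕ Fin m) K) a' a * w a := by
      have haa : a' ≠ a := by
        rintro rfl
        omega
      rw [← Finset.add_sum_erase _ _ (Finset.mem_univ a'),
        ← Finset.add_sum_erase _ _ (Finset.mem_erase.mpr ⟨haa.symm, Finset.mem_univ a⟩),
        hu'.2, one_mul, Finset.sum_eq_zero, add_zero]
      intro c hc
      rw [Finset.mem_erase, Finset.mem_erase] at hc
      obtain ⟨hca, hca', -⟩ := hc
      have hne1 : rho m c ≠ rho m a := fun h => hca (rho_injective m h)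
      have hne2 : rho m c ≠ rho m a' := fun h => hca' (rho_injective m h)
      by_cases hlt : rho m c < rho m a'
      · rw [hu'.1 hlt, zero_mul]
      · have hgt : rho m a < rho m c := by omega
        have : w c = 0 := by
          by_contra hwc
          have := hmax c ⟨by omega, hwc⟩
          omega
        rw [this, mul_zero]
    rw [h3, add_sub_cancel_left] at h1
    rcases mul_eq_zero.mp h1 with h | h
    · exact hu'a h
    · exact hwa h

/-- the normaliser of `U` lies in the Borel subgroup -/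
theorem normalizer_Usub_le :
    Subgroup.normalizer ((Usub K m : Subgroup _) : Set (symplecticGroup (Fin m) K)) ≤ Bsub K m := by
  intro g hg a b hab
  have hmem : (Pi.single b 1 : Fin m ⊕ Fin m → K) ∈ Wk K m (rho m b + 1) := by
    intro c hc
    apply Pi.single_eq_of_ne
    rintro rfl
    omega
  have h1 := normalizer_stab_Wk hg (rho m b + 1) (Pi.single b 1) hmem a (by omega)
  rwa [Matrix.mulVec_single_one] at h1

end Cfsg.Agent.Lead.SpFus
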