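import Mathlib
import Cfsg.Agent.Lead.SpFusC
import Cfsg.Agent.Helper2.BaerSuzuki
import Cfsg.Agent.Helper8.AutSLnA

set_option autoImplicit false

/-! # Fusion system of `PSp_{2m}(K)`, part D: `U` is a Sylow `p`-subgroup; the torus; `B = UH` -/

namespace Cfsg.Agent.Lead.SpFus

open Matrix

variable {K : Type*} [Field K] {m : ℕ}

theorem pow_mem_Bsub {g : symplecticGroup (Fin m) K} (hg : g ∈ Bsub K m) (k : ℕ) :
    g ^ k ∈ Bsub K m := (Bsub K m).pow_mem hg k

theorem diag_pow_of_upper {g : symplecticGroup (Fin m) K} (hg : g ∈ Bsub K m) (k : ℕ)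
    (c : Fin m ⊕ Fin m) :
    ((g ^ k : symplecticGroup (Fin m) K) : Matrix (Fin m ⊕ Fin m) (Fin m ⊕ Fin m) K) c c =
      ((g : Matrix (Fin m ⊕ Fin m) (Fin m ⊕ Fin m) K) c c) ^ k := by
  induction k with
  | zero =>
    rw [pow_zero, pow_zero]
    exact one_apply_eq c
  | succ k ih =>
    rw [pow_succ, pow_succ]
    show ((g ^ k : symplecticGroup (Fin m) K).1 * g.1) c c = _
    rw [diag_mul_of_upper (pow_mem_Bsub hg k) hg, ih]

/-- a `p`-element of the Borel subgroup is unipotent -/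
theorem pElement_mem_Usub (p : ℕ) [Fact p.Prime] [CharP K p] {g : symplecticGroup (Fin m) K}
    (hg : g ∈ Bsub K m) {k : ℕ} (hk : g ^ p ^ k = 1) : g ∈ Usub K m := by
  refine ⟨hg, fun c => ?_⟩
  have h1 := diag_pow_of_upper hg (p ^ k) c
  rw [hk] at h1
  have h2 : ((1 : symplecticGroup (Fin m) K) : Matrix (Fin m ⊕ Fin m) (Fin m ⊕ Fin m) K) c c = 1 :=
    one_apply_eq c
  rw [h2] at h1
  have h3 : ((g : Matrix (Fin m ⊕ Fin m) (Fin m ⊕ Fin m) K) c c - 1) ^ p ^ k = 0 := by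
    rw [sub_pow_char_pow, ← h1, one_pow, sub_self]
  have h4 := pow_eq_zero_iff (pow_ne_zero k (Fact.out : p.Prime).ne_zero) |>.mp h3
  exact sub_eq_zero.mp h4

/-- `U` is a Sylow `p`-subgroup -/
noncomputable def sylowU (K : Type*) [Field K] [Fintype K] (m : ℕ) [NeZero m] (p : ℕ)
    [Fact p.Prime] [CharP K p] : Sylow p (symplecticGroup (Fin m) K) where
  toSubgroup := Usub K m
  isPGroup' := isPGroup_Usub p
  is_maximal' := by
    intro Q hQ hUQ
    by_contra hne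
    have hlt : Usub K m < Q := lt_of_le_of_ne hUQ (Ne.symm hne)
    obtain ⟨r, hrQ, hrU, hrN⟩ := Cfsg.Agent.Helper2.exists_mem_normalizer_notMem_of_lt hQ hlt
    apply hrU
    obtain ⟨k, hk⟩ := hQ ⟨r, hrQ⟩
    have hk' : r ^ p ^ k = 1 := by
      have := congrArg Subtype.val hk
      simpa using this
    exact pElement_mem_Usub p (normalizer_Usub_le hrN) hk'

theorem coe_sylowU [Fintype K] [NeZero m] (p : ℕ) [Fact p.Prime] [CharP K p] :
    ((sylowU K m p : Sylow p (symplecticGroup (Fin m) K)) :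
      Subgroup (symplecticGroup (Fin m) K)) = Usub K m := rfl

/-! ### the torus -/

/-- diagonal elements of `SL_2` -/
def dSL (t : Kˣ) : Matrix.SpecialLinearGroup (Fin 2) K :=
  ⟨!![(t : K), 0; 0, ((t⁻¹ : Kˣ) : K)], by
    rw [Matrix.det_fin_two_of]
    simp⟩

/-- the diagonal torus -/
def tor (a : Fin m → Kˣ) : symplecticGroup (Fin m) K := pw (fun k => dSL (a k))

theorem tor_coe (a : Fin m → Kˣ) :
    ((tor a : symplecticGroup (Fin m) K) : Matrix (Fin m ⊕ Fin m) (Fin m ⊕ Fin m) K) =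
      fromBlocks (diagonal fun k => (a k : K)) 0 0 (diagonal fun k => ((a k)⁻¹ : Kˣ)) := by
  show ((pw (fun k => dSL (a k)) : symplecticGroup (Fin m) K) :
    Matrix (Fin m ⊕ Fin m) (Fin m ⊕ Fin m) K) = _
  rw [pw_coe]
  congr 1
  · ext i j
    simp [dSL, diagonal]
  · ext i j
    simp [dSL, diagonal]

theorem tor_mul (a b : Fin m → Kˣ) : tor a * tor b = tor (a * b) := by
  apply Subtype.ext
  show (tor a).1 * (tor b).1 = (tor (a * b)).1
  have h1 := tor_coe a
  have h2 := tor_coe b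
  have h3 := tor_coe (a * b)
  rw [show (tor a).1 = _ from h1, show (tor b).1 = _ from h2, show (tor (a * b)).1 = _ from h3,
    fromBlocks_multiply]
  simp only [diagonal_mul_diagonal, Matrix.mul_zero, add_zero, Matrix.zero_mul, zero_add]
  congr 1
  congr 1; funext k
  simp [mul_comm]

theorem tor_one : tor (1 : Fin m → Kˣ) = 1 := by
  apply Subtype.ext
  show (tor 1).1 = (1 : Matrix (Fin m ⊕ Fin m) (Fin m ⊕ Fin m) K)
  rw [show (tor (1 : Fin m → Kˣ)).1 = _ from tor_coe 1, ← fromBlocks_one]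
  simp

theorem tor_inv (a : Fin m → Kˣ) : (tor a)⁻¹ = tor a⁻¹ := by
  rw [inv_eq_iff_mul_eq_one, tor_mul, mul_inv_cancel, tor_one]

theorem tor_mem_Bsub (a : Fin m → Kˣ) : tor a ∈ Bsub K m := by
  intro c d hcd
  have hne : c ≠ d := by
    rintro rfl
    exact lt_irrefl _ hcd
  rw [show (tor a).1 = _ from tor_coe a]
  rcases c with c | c <;> rcases d with d | d
  · rw [fromBlocks_apply₁₁]
    exact diagonal_apply_ne _ (fun h => hne (by rw [h]))
  · rw [fromBlocks_apply₁₂]; rfl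
  · rw [fromBlocks_apply₂₁]; rfl
  · rw [fromBlocks_apply₂₂]
    exact diagonal_apply_ne _ (fun h => hne (by rw [h]))

theorem tor_apply_inl (a : Fin m → Kˣ) (i : Fin m) :
    (tor a : Matrix (Fin m ⊕ Fin m) (Fin m ⊕ Fin m) K) (Sum.inl i) (Sum.inl i) = (a i : K) := by
  rw [show (tor a).1 = _ from tor_coe a, fromBlocks_apply₁₁, diagonal_apply_eq]

theorem tor_apply_inr (a : Fin m → Kˣ) (i : Fin m) :
    (tor a : Matrix (Fin m ⊕ Fin m) (Fin m ⊕ Fin m) K) (Sum.inr i) (Sum.inr i) =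
      (((a i)⁻¹ : Kˣ) : K) := by
  rw [show (tor a).1 = _ from tor_coe a, fromBlocks_apply₂₂, diagonal_apply_eq]

/-- the diagonal entries of an element of the Borel subgroup are inverse in pairs -/
theorem diag_inl_mul_inr {g : symplecticGroup (Fin m) K} (hg : g ∈ Bsub K m) (i : Fin m) :
    (g : Matrix (Fin m ⊕ Fin m) (Fin m ⊕ Fin m) K) (Sum.inl i) (Sum.inl i) *
      (g : Matrix (Fin m ⊕ Fin m) (Fin m ⊕ Fin m) K) (Sum.inr i) (Sum.inr i) = 1 := by
  obtain ⟨A, S, hS, hA, hA1, rfl⟩ := exists_levGL_sieg_of_mem_Bsub hg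
  have : Invertible (A : Matrix (Fin m) (Fin m) K) := A.invertible
  have hinv : ((A⁻¹ : GL (Fin m) K) : Matrix (Fin m) (Fin m) K).BlockTriangular id := by
    rw [Matrix.coe_units_inv]
    exact Matrix.blockTriangular_inv_of_blockTriangular hA
  have h1 : (levGL A * sieg S hS : symplecticGroup (Fin m) K).1 =
      (levGL A).1 * (sieg S hS).1 := rfl
  have hB1 := levGL_mem_Bsub A hA
  have hB2 := Usub_le_Bsub (sieg_mem_Usub S hS)
  rw [show ((levGL A * sieg S hS : symplecticGroup (Fin m) K) :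
    Matrix (Fin m ⊕ Fin m) (Fin m ⊕ Fin m) K) = (levGL A).1 * (sieg S hS).1 from rfl,
    diag_mul_of_upper hB1 hB2, diag_mul_of_upper hB1 hB2]
  rw [show (levGL A).1 = _ from levGL_coe A, show (sieg S hS).1 = _ from sieg_coe S hS]
  simp only [fromBlocks_apply₁₁, fromBlocks_apply₂₂, one_apply_eq, mul_one, transpose_apply]
  have h2 := Cfsg.Agent.Helper8.AutSLn.diag_mul_of_upper hA hinv i
  rw [← Matrix.GeneralLinearGroup.coe_mul, mul_inv_cancel] at h2
  rw [← h2]
  simp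

/-- `B = U H` -/
theorem exists_unip_tor_of_mem_Bsub {g : symplecticGroup (Fin m) K} (hg : g ∈ Bsub K m) :
    ∃ u ∈ Usub K m, ∃ a : Fin m → Kˣ, g = u * tor a := by
  have hne : ∀ i, (g : Matrix (Fin m ⊕ Fin m) (Fin m ⊕ Fin m) K) (Sum.inl i) (Sum.inl i) ≠ 0 := by
    intro i h
    have := diag_inl_mul_inr hg i
    rw [h, zero_mul] at this
    exact zero_ne_one this
  let a : Fin m → Kˣ := fun i => Units.mk0 _ (hne i)
  refine ⟨g * tor a⁻¹, ⟨(Bsub K m).mul_mem hg (tor_mem_Bsub _), ?_⟩, a, ?_⟩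
  · intro c
    show (g.1 * (tor a⁻¹).1) c c = 1
    rw [diag_mul_of_upper hg (tor_mem_Bsub _)]
    rcases c with i | i
    · rw [tor_apply_inl]
      show g.1 (Sum.inl i) (Sum.inl i) * (((a i)⁻¹ : Kˣ) : K) = 1
      rw [Units.mul_inv_eq_one]
      rfl
    · rw [tor_apply_inr]
      show g.1 (Sum.inr i) (Sum.inr i) * ((((a i)⁻¹)⁻¹ : Kˣ) : K) = 1
      rw [inv_inv, mul_comm]
      exact diag_inl_mul_inr hg i
  · rw [mul_assoc, tor_mul, inv_mul_cancel, tor_one, mul_one]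

end Cfsg.Agent.Lead.SpFus
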