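import Mathlib
import Cfsg.Agent.Lead.SpFusD
import Cfsg.Agent.Lead.FusionSat3
import Cfsg.Agent.Helper7.Transvections

set_option autoImplicit false

/-! # Fusion system of `PSp_{2m}(K)`, part E: the Siegel radical and the Levi factor -/

namespace Cfsg.Agent.Lead.SpFus

open Matrix

variable {K : Type*} [Field K] {m : ℕ}

/-- the Borel subgroup normalises `U` -/
theorem Bsub_le_normalizer_Usub [Finite K] :
    Bsub K m ≤ Subgroup.normalizer ((Usub K m : Subgroup _) : Set (symplecticGroup (Fin m) K)) := by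
  intro b hb
  apply Cfsg.Agent.Lead.mem_normalizer_of_conj_mem_of_finite
  intro u hu
  have hbi : b⁻¹ ∈ Bsub K m := (Bsub K m).inv_mem hb
  have hbu : b * u ∈ Bsub K m := (Bsub K m).mul_mem hb (Usub_le_Bsub hu)
  refine ⟨(Bsub K m).mul_mem hbu hbi, fun c => ?_⟩
  show ((b * u).1 * (b⁻¹).1) c c = 1
  rw [diag_mul_of_upper hbu hbi]
  show ((b.1 * u.1) c c) * (b⁻¹).1 c c = 1
  rw [diag_mul_of_upper hb (Usub_le_Bsub hu), hu.2, mul_one, ← diag_mul_of_upper hb hbi,
    coe_mul_inv, one_apply_eq]

/-- the Siegel radical -/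
def Rsub (K : Type*) [Field K] (m : ℕ) : Subgroup (symplecticGroup (Fin m) K) where
  carrier := {g | ∃ (S : Matrix (Fin m) (Fin m) K) (hS : S.IsSymm), g = sieg S hS}
  mul_mem' := by
    rintro _ _ ⟨S, hS, rfl⟩ ⟨S', hS', rfl⟩
    exact ⟨S + S', hS.add hS', sieg_mul S S' hS hS'⟩
  one_mem' := ⟨0, isSymm_zero, sieg_zero.symm⟩
  inv_mem' := by
    rintro _ ⟨S, hS, rfl⟩
    exact ⟨-S, hS.neg, sieg_inv S hS⟩

theorem sieg_mem_Rsub (S : Matrix (Fin m) (Fin m) K) (hS : S.IsSymm) : sieg S hS ∈ Rsub K m :=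
  ⟨S, hS, rfl⟩

theorem Rsub_le_Usub : Rsub K m ≤ Usub K m := by
  rintro _ ⟨S, hS, rfl⟩
  exact sieg_mem_Usub S hS

theorem levGL_mem_normalizer_Rsub [Finite K] (A : GL (Fin m) K) :
    levGL A ∈ Subgroup.normalizer ((Rsub K m : Subgroup _) : Set (symplecticGroup (Fin m) K)) := by
  apply Cfsg.Agent.Lead.mem_normalizer_of_conj_mem_of_finite
  rintro _ ⟨S, hS, rfl⟩
  rw [levGL_conj_sieg]
  exact sieg_mem_Rsub _ _

theorem Rsub_le_normalizer_Rsub :
    Rsub K m ≤ Subgroup.normalizer ((Rsub K m : Subgroup _) : Set (symplecticGroup (Fin m) K)) :=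
  Subgroup.le_normalizer

theorem Usub_le_normalizer_Rsub [Finite K] :
    Usub K m ≤ Subgroup.normalizer ((Rsub K m : Subgroup _) : Set (symplecticGroup (Fin m) K)) := by
  intro u hu
  obtain ⟨A, S, hS, -, -, rfl⟩ := exists_levGL_sieg_of_mem_Usub hu
  exact Subgroup.mul_mem _ (levGL_mem_normalizer_Rsub A)
    (Rsub_le_normalizer_Rsub (sieg_mem_Rsub S hS))

/-- the Siegel radical is self-centralising in `U` -/
theorem centralizer_Rsub_le :
    Usub K m ⊓ Subgroup.centralizer ((Rsub K m : Subgroup _) : Set (symplecticGroup (Fin m) K)) ≤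
      Rsub K m := by
  rintro u ⟨hu, hc⟩
  obtain ⟨A, S, hS, hA, hA1, rfl⟩ := exists_levGL_sieg_of_mem_Usub hu
  -- `A` commutes with all Siegel elements
  have hcomm : ∀ (T : Matrix (Fin m) (Fin m) K) (hT : T.IsSymm),
      (A : Matrix (Fin m) (Fin m) K) * T * (A : Matrix (Fin m) (Fin m) K)ᵀ = T := by
    intro T hT
    have h1 := Subgroup.mem_centralizer_iff.mp hc (sieg T hT) (sieg_mem_Rsub T hT)
    -- sieg T * (lev A * sieg S) = lev A * sieg S * sieg T
    have h2 : levGL A * sieg T hT = sieg T hT * levGL A := by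
      have h3 : sieg T hT * levGL A * sieg S hS = levGL A * sieg T hT * sieg S hS := by
        rw [← mul_assoc] at h1
        rw [h1, mul_assoc (levGL A), sieg_mul, mul_assoc (levGL A), sieg_mul]
        congr 1
        exact sieg_congr (add_comm _ _) _ _
      exact (mul_right_cancel h3).symm
    rw [levGL_mul_sieg] at h2
    have h4 := mul_right_cancel h2
    exact sieg_injective _ _ h4
  have hAone : (A : Matrix (Fin m) (Fin m) K) = 1 := by
    ext k i
    by_cases hki : k = i
    · subst hki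
      rw [hA1, one_apply_eq]
    · rw [one_apply_ne hki]
      have hT : (single i i (1 : K)).IsSymm := by
        show (single i i (1 : K))ᵀ = single i i 1
        rw [transpose_single]
      have h5 := congrFun (congrFun (hcomm _ hT) k) k
      have h6 : (single i i (1 : K)) k k = 0 := by
        apply single_apply_of_ne
        rintro ⟨rfl, -⟩; exact hki rfl
      rw [Matrix.mul_apply, h6] at h5
      rw [Finset.sum_eq_single i] at h5
      · rw [mul_single_apply_same, mul_one, transpose_apply] at h5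
        exact mul_self_eq_zero.mp h5
      · intro j _ hji
        rw [mul_single_apply_of_ne _ _ _ _ _ hji, zero_mul]
      · intro h
        exact absurd (Finset.mem_univ i) h
  have hA' : A = 1 := Units.ext hAone
  rw [hA', map_one, one_mul]
  exact sieg_mem_Rsub S hS

/-- the Levi embedding restricted to `SL_m` -/
def levSL : Matrix.SpecialLinearGroup (Fin m) K →* symplecticGroup (Fin m) K :=
  levGL.comp Matrix.SpecialLinearGroup.toGL

theorem levSL_transvection (i j : Fin m) (hij : i ≠ j) (c : K) :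
    levSL (Matrix.SpecialLinearGroup.transvection hij c) = xs i j hij c := rfl

theorem xs_mul (i j : Fin m) (hij : i ≠ j) (c d : K) :
    xs i j hij c * xs i j hij d = xs i j hij (c + d) := by
  unfold xs
  rw [← map_mul, el_mul]

theorem xs_zero (i j : Fin m) (hij : i ≠ j) : xs i j hij (0 : K) = 1 := by
  unfold xs
  rw [el_zero, map_one]

theorem xs_pow (i j : Fin m) (hij : i ≠ j) (c : K) (n : ℕ) :
    xs i j hij c ^ n = xs i j hij ((n : K) * c) := by
  induction n with
  | zero => rw [pow_zero, Nat.cast_zero, zero_mul, xs_zero]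
  | succ n ih =>
    rw [pow_succ, ih, xs_mul]
    congr 1
    push_cast
    ring

theorem orderOf_of_pow_prime_eq_one {G : Type*} [Group G] (p : ℕ) [Fact p.Prime] {g : G}
    (h : g ^ p = 1) : ∃ k : ℕ, orderOf g = p ^ k := by
  have h2 := orderOf_dvd_of_pow_eq_one h
  rcases (Nat.dvd_prime (Fact.out : p.Prime)).mp h2 with h3 | h3
  · exact ⟨0, by rw [h3, pow_zero]⟩
  · exact ⟨1, by rw [h3, pow_one]⟩

theorem orderOf_xs (p : ℕ) [Fact p.Prime] [CharP K p] (i j : Fin m) (hij : i ≠ j) (c : K) :
    ∃ k : ℕ, orderOf (xs i j hij c) = p ^ k := by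
  apply orderOf_of_pow_prime_eq_one p
  rw [xs_pow, CharP.cast_eq_zero, zero_mul, xs_zero]

/-- the image of `SL_m` is generated by `p`-elements normalising the Siegel radical -/
theorem levSL_mem_closure [Finite K] (p : ℕ) [Fact p.Prime] [CharP K p] (hm : 2 ≤ m)
    (M : Matrix.SpecialLinearGroup (Fin m) K) :
    levSL M ∈ Subgroup.closure {g : symplecticGroup (Fin m) K |
      g ∈ Subgroup.normalizer ((Rsub K m : Subgroup _) : Set (symplecticGroup (Fin m) K)) ∧
        ∃ k : ℕ, orderOf g = p ^ k} := by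
  have : Nontrivial (Fin m) := Fin.nontrivial_iff_two_le.mpr hm
  refine Cfsg.Agent.Helper7.Transv.transvection_induction
    (fun M => levSL M ∈ Subgroup.closure {g : symplecticGroup (Fin m) K |
      g ∈ Subgroup.normalizer ((Rsub K m : Subgroup _) : Set (symplecticGroup (Fin m) K)) ∧
        ∃ k : ℕ, orderOf g = p ^ k}) ?_ ?_ M
  · intro i j hij a
    apply Subgroup.subset_closure
    refine ⟨levGL_mem_normalizer_Rsub _, ?_⟩
    rw [levSL_transvection]
    exact orderOf_xs p i j hij a
  · intro A B hA hB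
    show levSL (A * B) ∈ _
    rw [map_mul]
    exact Subgroup.mul_mem _ hA hB

end Cfsg.Agent.Lead.SpFus
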