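import Mathlib
import Cfsg.Agent.Lead.SpFusE

set_option autoImplicit false

/-! # Fusion system of `PSp_{2m}(K)`, part F: the long root `SL_2` at the last index -/

namespace Cfsg.Agent.Lead.SpFus

open Matrix

variable {K : Type*} [Field K] {m : ℕ}

/-- the lower Siegel element `[1 0; S 1]` for a symmetric matrix `S` -/
def siegL (S : Matrix (Fin m) (Fin m) K) (hS : S.IsSymm) : symplecticGroup (Fin m) K :=
  ⟨fromBlocks 1 0 S 1, by
    rw [SymplecticGroup.fromBlocks_mem_iff]
    refine ⟨?_, by simp, by simp⟩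
    rw [transpose_one, Matrix.one_mul, Matrix.mul_one]
    exact hS.eq.symm⟩

theorem siegL_coe (S : Matrix (Fin m) (Fin m) K) (hS : S.IsSymm) :
    ((siegL S hS : symplecticGroup (Fin m) K) : Matrix (Fin m ⊕ Fin m) (Fin m ⊕ Fin m) K) =
      fromBlocks 1 0 S 1 := rfl

theorem siegL_congr {S S' : Matrix (Fin m) (Fin m) K} (h : S = S') (hS : S.IsSymm)
    (hS' : S'.IsSymm) : siegL S hS = siegL S' hS' := by
  subst h; rfl

theorem siegL_mul (S S' : Matrix (Fin m) (Fin m) K) (hS : S.IsSymm) (hS' : S'.IsSymm) :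
    siegL S hS * siegL S' hS' = siegL (S + S') (hS.add hS') := by
  apply Subtype.ext
  show fromBlocks 1 0 S 1 * fromBlocks 1 0 S' 1 = fromBlocks 1 0 (S + S') 1
  rw [fromBlocks_multiply]
  simp

theorem siegL_zero : siegL (0 : Matrix (Fin m) (Fin m) K) isSymm_zero = 1 := by
  apply Subtype.ext
  show fromBlocks 1 0 0 1 = (1 : Matrix (Fin m ⊕ Fin m) (Fin m ⊕ Fin m) K)
  exact fromBlocks_one

theorem siegL_inv (S : Matrix (Fin m) (Fin m) K) (hS : S.IsSymm) :
    (siegL S hS)⁻¹ = siegL (-S) hS.neg := by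
  rw [inv_eq_iff_mul_eq_one, siegL_mul]
  rw [← siegL_zero]
  exact siegL_congr (by simp) _ _

theorem isSymm_single (i : Fin m) (c : K) : (single i i c).IsSymm := by
  show (single i i c)ᵀ = single i i c
  rw [transpose_single]

/-- negative long root elements -/
def yl (i : Fin m) (c : K) : symplecticGroup (Fin m) K := siegL (single i i c) (isSymm_single i c)

theorem xl_mul (i : Fin m) (c d : K) : xl i c * xl i d = xl i (c + d) := by
  unfold xl
  rw [sieg_mul]
  exact sieg_congr (single_add i i c d).symm _ _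

theorem xl_zero (i : Fin m) : xl i (0 : K) = 1 := by
  unfold xl
  rw [← sieg_zero]
  exact sieg_congr (single_zero i i) _ _

theorem xl_pow (i : Fin m) (c : K) (n : ℕ) : xl i c ^ n = xl i ((n : K) * c) := by
  induction n with
  | zero => rw [pow_zero, Nat.cast_zero, zero_mul, xl_zero]
  | succ n ih =>
    rw [pow_succ, ih, xl_mul]
    congr 1
    push_cast
    ring

theorem yl_mul (i : Fin m) (c d : K) : yl i c * yl i d = yl i (c + d) := by
  unfold yl
  rw [siegL_mul]
  exact siegL_congr (single_add i i c d).symm _ _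

theorem yl_zero (i : Fin m) : yl i (0 : K) = 1 := by
  unfold yl
  rw [← siegL_zero]
  exact siegL_congr (single_zero i i) _ _

theorem yl_inv (i : Fin m) (c : K) : (yl i c)⁻¹ = yl i (-c) := by
  rw [inv_eq_iff_mul_eq_one, yl_mul, add_neg_cancel, yl_zero]

theorem yl_pow (i : Fin m) (c : K) (n : ℕ) : yl i c ^ n = yl i ((n : K) * c) := by
  induction n with
  | zero => rw [pow_zero, Nat.cast_zero, zero_mul, yl_zero]
  | succ n ih =>
    rw [pow_succ, ih, yl_mul]
    congr 1
    push_cast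
    ring

theorem orderOf_xl (p : ℕ) [Fact p.Prime] [CharP K p] (i : Fin m) (c : K) :
    ∃ k : ℕ, orderOf (xl i c) = p ^ k := by
  apply orderOf_of_pow_prime_eq_one p
  rw [xl_pow, CharP.cast_eq_zero, zero_mul, xl_zero]

theorem orderOf_yl (p : ℕ) [Fact p.Prime] [CharP K p] (i : Fin m) (c : K) :
    ∃ k : ℕ, orderOf (yl i c) = p ^ k := by
  apply orderOf_of_pow_prime_eq_one p
  rw [yl_pow, CharP.cast_eq_zero, zero_mul, yl_zero]

theorem yl_coe (i : Fin m) (c : K) :
    ((yl i c : symplecticGroup (Fin m) K) : Matrix (Fin m ⊕ Fin m) (Fin m ⊕ Fin m) K) =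
      1 + single (Sum.inr i) (Sum.inl i) c := by
  show fromBlocks 1 0 (single i i c) 1 = _
  ext (a | a) (b | b)
  · simp [Matrix.add_apply, single_apply, one_apply]
  · simp [Matrix.add_apply, single_apply]
  · simp only [fromBlocks_apply₂₁, Matrix.add_apply, single_apply]
    rw [one_apply_ne (by simp), zero_add]
    simp
  · simp [Matrix.add_apply, single_apply, one_apply]

/-! ### elements of `SL_2` -/

/-- upper unitriangular elements of `SL_2` -/
def uSL (b : K) : Matrix.SpecialLinearGroup (Fin 2) K :=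
  ⟨!![1, b; 0, 1], by rw [Matrix.det_fin_two_of]; simp⟩

/-- lower unitriangular elements of `SL_2` -/
def lSL (c : K) : Matrix.SpecialLinearGroup (Fin 2) K :=
  ⟨!![1, 0; c, 1], by rw [Matrix.det_fin_two_of]; simp⟩

theorem dSL_eq (t : Kˣ) :
    dSL t = uSL 1 * lSL ((t : K) - 1) * uSL (-((t⁻¹ : Kˣ) : K)) * lSL (-(t : K) * ((t : K) - 1)) := by
  have ht : (t : K) ≠ 0 := t.ne_zero
  apply Subtype.ext
  show !![(t : K), 0; 0, ((t⁻¹ : Kˣ) : K)] =
    !![1, 1; 0, 1] * !![1, 0; (t : K) - 1, 1] * !![1, -((t⁻¹ : Kˣ) : K); 0, 1] *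
      !![1, 0; -(t : K) * ((t : K) - 1), 1]
  rw [Matrix.mul_fin_two, Matrix.mul_fin_two, Matrix.mul_fin_two]
  ext i j
  fin_cases i <;> fin_cases j <;> simp <;> field_simp <;> ring

/-- the embedding of `SL_2` at the index `l` -/
def pwS (l : Fin m) (X : Matrix.SpecialLinearGroup (Fin 2) K) : symplecticGroup (Fin m) K :=
  pw (Pi.mulSingle l X)

theorem pwS_mul (l : Fin m) (X Y : Matrix.SpecialLinearGroup (Fin 2) K) :
    pwS l (X * Y) = pwS l X * pwS l Y := by
  unfold pwS
  rw [Pi.mulSingle_mul, map_mul]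

theorem pwS_coe (l : Fin m) (X : Matrix.SpecialLinearGroup (Fin 2) K) :
    ((pwS l X : symplecticGroup (Fin m) K) : Matrix (Fin m ⊕ Fin m) (Fin m ⊕ Fin m) K) =
      fromBlocks (diagonal (Function.update 1 l ((X : Matrix (Fin 2) (Fin 2) K) 0 0)))
        (diagonal (Function.update 0 l ((X : Matrix (Fin 2) (Fin 2) K) 0 1)))
        (diagonal (Function.update 0 l ((X : Matrix (Fin 2) (Fin 2) K) 1 0)))
        (diagonal (Function.update 1 l ((X : Matrix (Fin 2) (Fin 2) K) 1 1))) := by
  show (pw (Pi.mulSingle l X)).1 = _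
  rw [show (pw (Pi.mulSingle l X)).1 = _ from pw_coe _]
  congr 1 <;>
  · congr 1
    funext k
    by_cases hk : k = l
    · subst hk
      rw [Pi.mulSingle_eq_same, Function.update_self]
    · rw [Pi.mulSingle_eq_of_ne hk, Function.update_of_ne hk]
      simp

theorem diagonal_update_one (l : Fin m) :
    diagonal (Function.update (1 : Fin m → K) l 1) = 1 := by
  rw [← diagonal_one]
  congr 1
  funext k
  by_cases hk : k = l
  · subst hk; rw [Function.update_self]
  · rw [Function.update_of_ne hk]; rfl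

theorem diagonal_update_zero (l : Fin m) (c : K) :
    diagonal (Function.update (0 : Fin m → K) l c) = single l l c := by
  ext i j
  by_cases hij : i = j
  · subst hij
    rw [diagonal_apply_eq]
    by_cases hil : i = l
    · subst hil
      rw [Function.update_self, single_apply_same]
    · rw [Function.update_of_ne hil, single_apply_of_ne]
      · rfl
      · rintro ⟨rfl, -⟩; exact hil rfl
  · rw [diagonal_apply_ne _ hij, single_apply_of_ne]
    rintro ⟨rfl, rfl⟩; exact hij rfl

theorem pwS_uSL (l : Fin m) (b : K) : pwS l (uSL b) = xl l b := by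
  apply Subtype.ext
  rw [pwS_coe]
  show _ = fromBlocks 1 (single l l b) 0 1
  have h00 : (uSL b : Matrix (Fin 2) (Fin 2) K) 0 0 = 1 := rfl
  have h01 : (uSL b : Matrix (Fin 2) (Fin 2) K) 0 1 = b := rfl
  have h10 : (uSL b : Matrix (Fin 2) (Fin 2) K) 1 0 = 0 := rfl
  have h11 : (uSL b : Matrix (Fin 2) (Fin 2) K) 1 1 = 1 := rfl
  rw [h00, h01, h10, h11, diagonal_update_one, diagonal_update_zero, diagonal_update_zero,
    single_zero]

theorem pwS_lSL (l : Fin m) (c : K) : pwS l (lSL c) = yl l c := by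
  apply Subtype.ext
  rw [pwS_coe]
  show _ = fromBlocks 1 0 (single l l c) 1
  have h00 : (lSL c : Matrix (Fin 2) (Fin 2) K) 0 0 = 1 := rfl
  have h01 : (lSL c : Matrix (Fin 2) (Fin 2) K) 0 1 = 0 := rfl
  have h10 : (lSL c : Matrix (Fin 2) (Fin 2) K) 1 0 = c := rfl
  have h11 : (lSL c : Matrix (Fin 2) (Fin 2) K) 1 1 = 1 := rfl
  rw [h00, h01, h10, h11, diagonal_update_one, diagonal_update_zero, diagonal_update_zero,
    single_zero]

theorem pwS_dSL (l : Fin m) (t : Kˣ) : pwS l (dSL t) = tor (Pi.mulSingle l t) := by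
  unfold pwS tor
  congr 1
  funext k
  by_cases hk : k = l
  · subst hk
    rw [Pi.mulSingle_eq_same, Pi.mulSingle_eq_same]
  · rw [Pi.mulSingle_eq_of_ne hk, Pi.mulSingle_eq_of_ne hk]
    apply Subtype.ext
    ext i j
    fin_cases i <;> fin_cases j <;> simp [dSL]

/-- a torus element at one index is a product of long root elements -/
theorem tor_mulSingle_eq (l : Fin m) (t : Kˣ) :
    tor (Pi.mulSingle l t) =
      xl l 1 * yl l ((t : K) - 1) * xl l (-((t⁻¹ : Kˣ) : K)) * yl l (-(t : K) * ((t : K) - 1)) := by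
  rw [← pwS_dSL, dSL_eq, pwS_mul, pwS_mul, pwS_mul, pwS_uSL, pwS_lSL, pwS_uSL, pwS_lSL]

end Cfsg.Agent.Lead.SpFus
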