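import Mathlib
import Cfsg.Agent.Lead.SpFusF

set_option autoImplicit false

/-! # Fusion system of `PSp_{2m}(K)`, part G: the radical of the last minimal parabolic,
and the generation of the normaliser of `U` -/

namespace Cfsg.Agent.Lead.SpFus

open Matrix

variable {K : Type*} [Field K] {m : ℕ}

/-- superdiagonal entries are additive on `U` -/
theorem superdiag_mul {u v : symplecticGroup (Fin m) K} (hu : u ∈ Usub K m) (hv : v ∈ Usub K m)
    {a' a : Fin m ⊕ Fin m} (h : rho m a = rho m a' + 1) :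
    ((u * v : symplecticGroup (Fin m) K) : Matrix (Fin m ⊕ Fin m) (Fin m ⊕ Fin m) K) a' a =
      (u : Matrix (Fin m ⊕ Fin m) (Fin m ⊕ Fin m) K) a' a +
        (v : Matrix (Fin m ⊕ Fin m) (Fin m ⊕ Fin m) K) a' a := by
  show (u.1 * v.1) a' a = _
  have haa : a' ≠ a := by
    rintro rfl
    omega
  rw [Matrix.mul_apply, ← Finset.add_sum_erase _ _ (Finset.mem_univ a'),
    ← Finset.add_sum_erase _ _ (Finset.mem_erase.mpr ⟨haa.symm, Finset.mem_univ a⟩),
    Finset.sum_eq_zero, add_zero]
  · have h1 : u.1 a' a' = 1 := hu.2 a'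
    have h2 : v.1 a a = 1 := hv.2 a
    rw [h1, h2, one_mul, mul_one, add_comm]
  · intro c hc
    rw [Finset.mem_erase, Finset.mem_erase] at hc
    obtain ⟨hca, hca', -⟩ := hc
    have hne1 : rho m c ≠ rho m a := fun h => hca (rho_injective m h)
    have hne2 : rho m c ≠ rho m a' := fun h => hca' (rho_injective m h)
    by_cases hlt : rho m c < rho m a'
    · have : u.1 a' c = 0 := hu.1 hlt
      rw [this, zero_mul]
    · have hgt : rho m a < rho m c := by omega
      have : v.1 c a = 0 := hv.1 hgt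
      rw [this, mul_zero]

theorem rho_last {l : Fin m} (hl : (l : ℕ) + 1 = m) :
    rho m (Sum.inr l) = rho m (Sum.inl l) + 1 := by
  rw [rho_inl, rho_inr]
  omega

/-- the unipotent radical of the minimal parabolic subgroup of the last simple root -/
def Rlast (K : Type*) [Field K] {m : ℕ} (l : Fin m) (hl : (l : ℕ) + 1 = m) :
    Subgroup (symplecticGroup (Fin m) K) where
  carrier := {g | g ∈ Usub K m ∧
    (g : Matrix (Fin m ⊕ Fin m) (Fin m ⊕ Fin m) K) (Sum.inl l) (Sum.inr l) = 0}
  mul_mem' := by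
    rintro a b ⟨ha, ha'⟩ ⟨hb, hb'⟩
    refine ⟨(Usub K m).mul_mem ha hb, ?_⟩
    rw [superdiag_mul ha hb (rho_last hl), ha', hb', add_zero]
  one_mem' := ⟨(Usub K m).one_mem, one_apply_ne (by simp)⟩
  inv_mem' := by
    rintro a ⟨ha, ha'⟩
    refine ⟨(Usub K m).inv_mem ha, ?_⟩
    have h1 := superdiag_mul ha ((Usub K m).inv_mem ha) (rho_last hl)
    rw [mul_inv_cancel, ha', zero_add] at h1
    rw [← h1]
    exact one_apply_ne (by simp)

theorem Rlast_le_Usub (l : Fin m) (hl : (l : ℕ) + 1 = m) : Rlast K l hl ≤ Usub K m :=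
  fun _ h => h.1

theorem Usub_le_normalizer_Rlast [Finite K] (l : Fin m) (hl : (l : ℕ) + 1 = m) :
    Usub K m ≤ Subgroup.normalizer
      ((Rlast K l hl : Subgroup _) : Set (symplecticGroup (Fin m) K)) := by
  intro u hu
  apply Cfsg.Agent.Lead.mem_normalizer_of_conj_mem_of_finite
  rintro r ⟨hr, hr'⟩
  have hui := (Usub K m).inv_mem hu
  have hur := (Usub K m).mul_mem hu hr
  refine ⟨(Usub K m).mul_mem hur hui, ?_⟩
  rw [superdiag_mul hur hui (rho_last hl), superdiag_mul hu hr (rho_last hl), hr', add_zero,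
    ← superdiag_mul hu hui (rho_last hl), mul_inv_cancel]
  exact one_apply_ne (by simp)

theorem xs_coe_single (i j : Fin m) (hij : i ≠ j) (c : K) :
    ((xs i j hij c : symplecticGroup (Fin m) K) : Matrix (Fin m ⊕ Fin m) (Fin m ⊕ Fin m) K) =
      1 + single (Sum.inl i) (Sum.inl j) c + single (Sum.inr j) (Sum.inr i) (-c) := by
  show (levGL (el i j hij c)).1 = _
  rw [show (levGL (el i j hij c)).1 = _ from levGL_coe _, el_inv, el_coe, el_coe]
  ext (a | a) (b | b)
  · simp [Matrix.add_apply, single_apply, one_apply]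
  · simp [Matrix.add_apply, single_apply]
  · simp [Matrix.add_apply, single_apply]
  · simp only [fromBlocks_apply₂₂, transpose_apply, Matrix.add_apply, single_apply, one_apply]
    simp only [Sum.inr.injEq, reduceCtorEq, false_and, if_false, add_zero]
    congr 1
    · simp [eq_comm]
    · simp [and_comm]

/-- the radical of the last minimal parabolic is self-centralising in `U` -/
theorem centralizer_Rlast_le (hm : 2 ≤ m) (l : Fin m) (hl : (l : ℕ) + 1 = m) :
    Usub K m ⊓ Subgroup.centralizer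
      ((Rlast K l hl : Subgroup _) : Set (symplecticGroup (Fin m) K)) ≤ Rlast K l hl := by
  rintro u ⟨hu, hc⟩
  refine ⟨hu, ?_⟩
  let l' : Fin m := ⟨(l : ℕ) - 1, by omega⟩
  have hl'l : l' < l := by
    show (l' : ℕ) < l
    show (l : ℕ) - 1 < l
    omega
  have hne : l' ≠ l := hl'l.ne
  have hx : xs l' l hne (1 : K) ∈ Rlast K l hl := by
    refine ⟨xs_mem_Usub hl'l 1, ?_⟩
    rw [xs_coe_single]
    simp [Matrix.add_apply, single_apply]
  have h1 := Subgroup.mem_centralizer_iff.mp hc _ hx
  have h2 : ((xs l' l hne (1 : K) * u : symplecticGroup (Fin m) K) :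
      Matrix (Fin m ⊕ Fin m) (Fin m ⊕ Fin m) K) (Sum.inl l') (Sum.inr l) =
      ((u * xs l' l hne (1 : K) : symplecticGroup (Fin m) K) :
      Matrix (Fin m ⊕ Fin m) (Fin m ⊕ Fin m) K) (Sum.inl l') (Sum.inr l) := by
    rw [h1]
  have h3 : ((xs l' l hne (1 : K) * u : symplecticGroup (Fin m) K) :
      Matrix (Fin m ⊕ Fin m) (Fin m ⊕ Fin m) K) = (xs l' l hne (1 : K)).1 * u.1 := rfl
  have h4 : ((u * xs l' l hne (1 : K) : symplecticGroup (Fin m) K) :
      Matrix (Fin m ⊕ Fin m) (Fin m ⊕ Fin m) K) = u.1 * (xs l' l hne (1 : K)).1 := rfl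
  rw [h3, h4, show (xs l' l hne (1 : K)).1 = _ from xs_coe_single l' l hne 1] at h2
  rw [Matrix.add_mul, Matrix.add_mul, Matrix.mul_add, Matrix.mul_add, Matrix.one_mul,
    Matrix.mul_one, Matrix.add_apply, Matrix.add_apply, Matrix.add_apply, Matrix.add_apply,
    single_mul_apply_same, single_mul_apply_of_ne _ _ _ _ _ (by simp),
    mul_single_apply_of_ne _ _ _ _ _ (by simp),
    mul_single_apply_of_ne _ _ _ _ _ (by
      intro h
      exact hne (Sum.inr.inj h).symm)] at h2
  rw [add_zero, add_zero, add_zero, one_mul] at h2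
  exact (add_eq_left.mp h2)

/-- the negative long root elements at the last index normalise the radical -/
theorem yl_mem_normalizer_Rlast [Finite K] (l : Fin m) (hl : (l : ℕ) + 1 = m) (c : K) :
    yl l c ∈ Subgroup.normalizer
      ((Rlast K l hl : Subgroup _) : Set (symplecticGroup (Fin m) K)) := by
  apply Cfsg.Agent.Lead.mem_normalizer_of_conj_mem_of_finite
  rintro u ⟨hu, hu0⟩
  have hrl : rho m (Sum.inl l) = m - 1 := by rw [rho_inl]; omega
  have hrr : rho m (Sum.inr l) = m := by rw [rho_inr]; omega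
  -- the matrix of the conjugate
  have hcoe : ((yl l c * u * (yl l c)⁻¹ : symplecticGroup (Fin m) K) :
      Matrix (Fin m ⊕ Fin m) (Fin m ⊕ Fin m) K) =
      u.1 + single (Sum.inr l) (Sum.inl l) c * u.1 + u.1 * single (Sum.inr l) (Sum.inl l) (-c) := by
    rw [yl_inv]
    show (yl l c).1 * u.1 * (yl l (-c)).1 = _
    rw [show (yl l c).1 = _ from yl_coe l c, show (yl l (-c)).1 = _ from yl_coe l (-c)]
    have h0 : single (Sum.inr l) (Sum.inl l) c * u.1 * single (Sum.inr l) (Sum.inl l) (-c) = 0 := by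
      rw [single_mul_mul_single, hu0, mul_zero, zero_mul, single_zero]
    rw [Matrix.add_mul, Matrix.one_mul, Matrix.mul_add, Matrix.mul_one, Matrix.add_mul, h0,
      add_zero]
  have hentry : ∀ a b : Fin m ⊕ Fin m,
      ((yl l c * u * (yl l c)⁻¹ : symplecticGroup (Fin m) K) :
        Matrix (Fin m ⊕ Fin m) (Fin m ⊕ Fin m) K) a b =
      u.1 a b + (if a = Sum.inr l then c * u.1 (Sum.inl l) b else 0) +
        (if b = Sum.inl l then u.1 a (Sum.inr l) * (-c) else 0) := by
    intro a b
    rw [hcoe, Matrix.add_apply, Matrix.add_apply]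
    congr 1
    · congr 1
      by_cases ha : a = Sum.inr l
      · subst ha
        rw [if_pos rfl, single_mul_apply_same]
      · rw [if_neg ha, single_mul_apply_of_ne _ _ _ _ _ ha]
    · by_cases hb : b = Sum.inl l
      · subst hb
        rw [if_pos rfl, mul_single_apply_same]
      · rw [if_neg hb, mul_single_apply_of_ne _ _ _ _ _ hb]
  refine ⟨⟨?_, ?_⟩, ?_⟩
  · intro a b hab
    rw [hentry]
    have h1 : u.1 a b = 0 := hu.1 hab
    rw [h1, zero_add]
    by_cases ha : a = Sum.inr l
    · subst ha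
      rw [if_pos rfl]
      by_cases hb : b = Sum.inl l
      · subst hb
        rw [if_pos rfl]
        have h2 : u.1 (Sum.inl l) (Sum.inl l) = 1 := hu.2 _
        have h3 : u.1 (Sum.inr l) (Sum.inr l) = 1 := hu.2 _
        rw [h2, h3]
        ring
      · rw [if_neg hb, add_zero]
        have hne : rho m b ≠ rho m (Sum.inl l) := fun h => hb (rho_injective m h)
        have h2 : u.1 (Sum.inl l) b = 0 := hu.1 (by omega)
        rw [h2, mul_zero]
    · rw [if_neg ha, zero_add]
      by_cases hb : b = Sum.inl l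
      · subst hb
        rw [if_pos rfl]
        have hne : rho m a ≠ rho m (Sum.inr l) := fun h => ha (rho_injective m h)
        have h2 : u.1 a (Sum.inr l) = 0 := hu.1 (by omega)
        rw [h2, zero_mul]
      · rw [if_neg hb]
  · intro a
    rw [hentry]
    have h1 : u.1 a a = 1 := hu.2 a
    rw [h1]
    by_cases ha : a = Sum.inr l
    · subst ha
      rw [if_pos rfl, if_neg (by simp), hu0, mul_zero, add_zero, add_zero]
    · rw [if_neg ha]
      by_cases hb : a = Sum.inl l
      · subst hb
        rw [if_pos rfl, hu0, zero_mul, add_zero, add_zero]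
      · rw [if_neg hb, add_zero, add_zero]
  · rw [hentry, hu0, if_neg (by simp), if_neg (by simp), add_zero, add_zero]

end Cfsg.Agent.Lead.SpFus
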