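import Mathlib
import Cfsg.Agent.Lead.SpFusG

set_option autoImplicit false

/-! # Fusion system of `PSp_{2m}(K)`, part H: the normaliser of `U` is generated by
`p`-elements of parabolic subgroups -/

namespace Cfsg.Agent.Lead.SpFus

open Matrix

variable {K : Type*} [Field K] {m : ℕ}

/-- diagonal matrices in `GL_m` -/
def dGL (a : Fin m → Kˣ) : GL (Fin m) K :=
  ⟨diagonal fun k => (a k : K), diagonal fun k => (((a k)⁻¹ : Kˣ) : K), by
    rw [diagonal_mul_diagonal, ← diagonal_one]
    congr 1; funext k; simp, by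
    rw [diagonal_mul_diagonal, ← diagonal_one]
    congr 1; funext k; simp⟩

theorem levGL_dGL (a : Fin m → Kˣ) : levGL (dGL a) = tor a := by
  apply Subtype.ext
  rw [show (levGL (dGL a)).1 = _ from levGL_coe _, show (tor a).1 = _ from tor_coe a]
  congr 1
  show (diagonal fun k => (((a k)⁻¹ : Kˣ) : K))ᵀ = _
  rw [diagonal_transpose]

/-- a torus element of determinant one comes from `SL_m` -/
theorem tor_eq_levSL (a : Fin m → Kˣ) (ha : ∏ k, a k = 1) :
    ∃ M : Matrix.SpecialLinearGroup (Fin m) K, levSL M = tor a := by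
  have hdet : (diagonal fun k => (a k : K)).det = 1 := by
    rw [det_diagonal, ← Units.coe_prod, ha, Units.val_one]
  refine ⟨⟨_, hdet⟩, ?_⟩
  rw [← levGL_dGL]
  show levGL (Matrix.SpecialLinearGroup.toGL _) = _
  congr 1
  apply Units.ext
  rfl

/-- the set of generators in the simplicity criterion -/
def genSet (K : Type*) [Field K] (m p : ℕ) : Set (symplecticGroup (Fin m) K) :=
  {g | g ∈ Subgroup.normalizer ((Usub K m : Subgroup _) : Set (symplecticGroup (Fin m) K)) ∧
    ∃ R : Subgroup (symplecticGroup (Fin m) K), R ≤ Usub K m ∧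
      Usub K m ≤ Subgroup.normalizer (R : Set (symplecticGroup (Fin m) K)) ∧
      Usub K m ⊓ Subgroup.centralizer (R : Set (symplecticGroup (Fin m) K)) ≤ R ∧
      g ∈ Subgroup.closure {x : symplecticGroup (Fin m) K |
        x ∈ Subgroup.normalizer (R : Set (symplecticGroup (Fin m) K)) ∧
          ∃ k : ℕ, orderOf x = p ^ k}}

theorem unip_mem_genSet [Finite K] (p : ℕ) [Fact p.Prime] [CharP K p] [NeZero m]
    {u : symplecticGroup (Fin m) K} (hu : u ∈ Usub K m) : u ∈ genSet K m p := by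
  refine ⟨Subgroup.le_normalizer hu, Usub K m, le_rfl, Subgroup.le_normalizer, inf_le_left, ?_⟩
  apply Subgroup.subset_closure
  refine ⟨Subgroup.le_normalizer hu, ?_⟩
  obtain ⟨k, hk⟩ := isPGroup_Usub (K := K) (m := m) p ⟨u, hu⟩
  have hk' : u ^ p ^ k = 1 := by
    have := congrArg Subtype.val hk
    simpa using this
  have h2 := orderOf_dvd_of_pow_eq_one hk'
  obtain ⟨j, -, hj⟩ := (Nat.dvd_prime_pow (Fact.out : p.Prime)).mp h2
  exact ⟨j, hj⟩

theorem tor_mem_normalizer_Usub [Finite K] (a : Fin m → Kˣ) :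
    tor a ∈ Subgroup.normalizer ((Usub K m : Subgroup _) : Set (symplecticGroup (Fin m) K)) :=
  Bsub_le_normalizer_Usub (tor_mem_Bsub a)

theorem tor_det_one_mem_genSet [Finite K] (p : ℕ) [Fact p.Prime] [CharP K p] (hm : 2 ≤ m)
    (a : Fin m → Kˣ) (ha : ∏ k, a k = 1) : tor a ∈ genSet K m p := by
  refine ⟨tor_mem_normalizer_Usub a, Rsub K m, Rsub_le_Usub, Usub_le_normalizer_Rsub,
    centralizer_Rsub_le, ?_⟩
  obtain ⟨M, hM⟩ := tor_eq_levSL a ha
  rw [← hM]
  exact levSL_mem_closure p hm M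

theorem tor_last_mem_genSet [Finite K] (p : ℕ) [Fact p.Prime] [CharP K p] (hm : 2 ≤ m)
    (l : Fin m) (hl : (l : ℕ) + 1 = m) (t : Kˣ) : tor (Pi.mulSingle l t) ∈ genSet K m p := by
  refine ⟨tor_mem_normalizer_Usub _, Rlast K l hl, Rlast_le_Usub l hl,
    Usub_le_normalizer_Rlast l hl, centralizer_Rlast_le hm l hl, ?_⟩
  rw [tor_mulSingle_eq]
  have hx : ∀ b : K, xl l b ∈ Subgroup.closure {x : symplecticGroup (Fin m) K |
      x ∈ Subgroup.normalizer ((Rlast K l hl : Subgroup _) : Set (symplecticGroup (Fin m) K)) ∧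
        ∃ k : ℕ, orderOf x = p ^ k} := by
    intro b
    apply Subgroup.subset_closure
    exact ⟨Usub_le_normalizer_Rlast l hl (sieg_mem_Usub _ _), orderOf_xl p l b⟩
  have hy : ∀ c : K, yl l c ∈ Subgroup.closure {x : symplecticGroup (Fin m) K |
      x ∈ Subgroup.normalizer ((Rlast K l hl : Subgroup _) : Set (symplecticGroup (Fin m) K)) ∧
        ∃ k : ℕ, orderOf x = p ^ k} := by
    intro c
    apply Subgroup.subset_closure
    exact ⟨yl_mem_normalizer_Rlast l hl c, orderOf_yl p l c⟩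
  exact Subgroup.mul_mem _ (Subgroup.mul_mem _ (Subgroup.mul_mem _ (hx _) (hy _)) (hx _)) (hy _)

/-- criterion (b): the normaliser of `U` is generated by the distinguished elements -/
theorem normalizer_Usub_le_closure [Finite K] (p : ℕ) [Fact p.Prime] [CharP K p] (hm : 2 ≤ m) :
    Subgroup.normalizer ((Usub K m : Subgroup _) : Set (symplecticGroup (Fin m) K)) ≤
      Subgroup.closure (genSet K m p) := by
  have : NeZero m := ⟨by omega⟩
  intro n hn
  obtain ⟨u, hu, a, rfl⟩ := exists_unip_tor_of_mem_Bsub (normalizer_Usub_le hn)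
  let l : Fin m := ⟨m - 1, by omega⟩
  have hl : (l : ℕ) + 1 = m := by
    show m - 1 + 1 = m
    omega
  set δ : Kˣ := ∏ k, a k with hδ
  have hsplit : tor a = tor (a * Pi.mulSingle l δ⁻¹) * tor (Pi.mulSingle l δ) := by
    rw [tor_mul, mul_assoc, ← Pi.mulSingle_mul, inv_mul_cancel, Pi.mulSingle_one, mul_one]
  have hprod : ∏ k, (a * (Pi.mulSingle l δ⁻¹ : Fin m → Kˣ)) k = 1 := by
    simp only [Pi.mul_apply]
    rw [Finset.prod_mul_distrib, Finset.prod_pi_mulSingle', if_pos (Finset.mem_univ l), ← hδ,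
      mul_inv_cancel]
  rw [hsplit, ← mul_assoc]
  exact Subgroup.mul_mem _ (Subgroup.mul_mem _
    (Subgroup.subset_closure (unip_mem_genSet p hu))
    (Subgroup.subset_closure (tor_det_one_mem_genSet p hm _ hprod)))
    (Subgroup.subset_closure (tor_last_mem_genSet p hm l hl δ))

end Cfsg.Agent.Lead.SpFus
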