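import Mathlib
import Cfsg.Agent.Lead.SpFusH

set_option autoImplicit false

/-! # Fusion system of `PSp_{2m}(K)`, part I: invariant families of symmetric matrices -/

namespace Cfsg.Agent.Lead.SpFus

open Matrix

variable {K : Type*} [Field K] {m : ℕ}

/-- a family of symmetric matrices closed under addition and congruence -/
structure InvFam (P : Matrix (Fin m) (Fin m) K → Prop) : Prop where
  zero : P 0
  add : ∀ {S S' : Matrix (Fin m) (Fin m) K}, P S → P S' → P (S + S')
  neg : ∀ {S : Matrix (Fin m) (Fin m) K}, P S → P (-S)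
  conj : ∀ {S : Matrix (Fin m) (Fin m) K}, P S → ∀ A : GL (Fin m) K,
    P ((A : Matrix (Fin m) (Fin m) K) * S * (A : Matrix (Fin m) (Fin m) K)ᵀ)
  symm : ∀ {S : Matrix (Fin m) (Fin m) K}, P S → S.IsSymm

/-- the elementary symmetric matrix -/
def sym (a b : Fin m) (s : K) : Matrix (Fin m) (Fin m) K := single a b s + single b a s

theorem sym_comm (a b : Fin m) (s : K) : sym a b s = sym b a s := add_comm _ _

/-- the variation of `S` under the congruence by an elementary matrix -/
def nop (S : Matrix (Fin m) (Fin m) K) (a b : Fin m) (s : K) : Matrix (Fin m) (Fin m) K :=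
  single a b s * S + S * single b a s + single a a (s * S b b * s)

theorem el_conj (S : Matrix (Fin m) (Fin m) K) (a b : Fin m) (hab : a ≠ b) (s : K) :
    ((el a b hab s : GL (Fin m) K) : Matrix (Fin m) (Fin m) K) * S *
      ((el a b hab s : GL (Fin m) K) : Matrix (Fin m) (Fin m) K)ᵀ = S + nop S a b s := by
  rw [el_coe, transpose_add, transpose_one, transpose_single, nop, ← single_mul_mul_single]
  noncomm_ring

variable {P : Matrix (Fin m) (Fin m) K → Prop}

theorem InvFam.sub (h : InvFam P) {S S' : Matrix (Fin m) (Fin m) K} (hS : P S) (hS' : P S') :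
    P (S - S') := by
  rw [sub_eq_add_neg]
  exact h.add hS (h.neg hS')

theorem InvFam.nop_mem (h : InvFam P) {S : Matrix (Fin m) (Fin m) K} (hS : P S) {a b : Fin m}
    (hab : a ≠ b) (s : K) : P (nop S a b s) := by
  have h1 := h.conj hS (el a b hab s)
  rw [el_conj] at h1
  have h2 := h.sub h1 hS
  rwa [add_sub_cancel_left] at h2

/-- three index trick, diagonal version -/
theorem nop_nop_diag (S : Matrix (Fin m) (Fin m) K) {a b c : Fin m} (hab : a ≠ b) (hcb : c ≠ b)
    (hac : a ≠ c) : nop (nop S c b 1) a b 1 = sym a c (S b b) := by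
  have hY : (nop S c b 1) b b = 0 := by
    unfold nop
    rw [Matrix.add_apply, Matrix.add_apply, single_mul_apply_of_ne _ _ _ _ _ hcb.symm,
      mul_single_apply_of_ne _ _ _ _ _ hcb.symm]
    simp [single_apply, hcb]
  have h1 : single a b (1 : K) * nop S c b 1 = single a c (S b b) := by
    unfold nop
    rw [Matrix.mul_add, Matrix.mul_add, ← Matrix.mul_assoc, ← Matrix.mul_assoc,
      single_mul_single_of_ne _ _ _ _ hcb.symm, single_mul_mul_single,
      single_mul_single_of_ne _ _ _ _ hcb.symm]
    simp
  have h2 : nop S c b 1 * single b a (1 : K) = single c a (S b b) := by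
    unfold nop
    rw [Matrix.add_mul, Matrix.add_mul, Matrix.mul_assoc S, single_mul_mul_single,
      single_mul_single_of_ne _ _ _ _ hcb, single_mul_single_of_ne _ _ _ _ hcb]
    simp
  rw [nop, h1, h2, hY]
  simp [sym]

/-- three index trick, off-diagonal version -/
theorem nop_nop_offdiag (S : Matrix (Fin m) (Fin m) K) {a b c : Fin m} (hab : a ≠ b)
    (hcb : c ≠ b) (hac : a ≠ c) :
    nop (nop S c a 1) a b 1 = single a c (S b a) + single c a (S a b) := by
  have hY : (nop S c a 1) b b = 0 := by
    unfold nop
    rw [Matrix.add_apply, Matrix.add_apply, single_mul_apply_of_ne _ _ _ _ _ hcb.symm,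
      mul_single_apply_of_ne _ _ _ _ _ hcb.symm]
    simp [single_apply, hcb]
  have h1 : single a b (1 : K) * nop S c a 1 = single a c (S b a) := by
    unfold nop
    rw [Matrix.mul_add, Matrix.mul_add, ← Matrix.mul_assoc, ← Matrix.mul_assoc,
      single_mul_single_of_ne _ _ _ _ hcb.symm, single_mul_mul_single,
      single_mul_single_of_ne _ _ _ _ hcb.symm]
    simp
  have h2 : nop S c a 1 * single b a (1 : K) = single c a (S a b) := by
    unfold nop
    rw [Matrix.add_mul, Matrix.add_mul, Matrix.mul_assoc S, single_mul_mul_single,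
      single_mul_single_of_ne _ _ _ _ hcb, single_mul_single_of_ne _ _ _ _ hcb]
    simp
  rw [nop, h1, h2, hY]
  simp

/-- spreading an elementary symmetric matrix to another row -/
theorem nop_sym (k l a : Fin m) (hkl : k ≠ l) (hak : a ≠ k) (hal : a ≠ l) (c : K) :
    nop (sym k l c) a k 1 = sym a l c := by
  unfold nop sym
  rw [Matrix.mul_add, Matrix.add_mul, single_mul_single_same, single_mul_single_of_ne _ _ _ _ hkl,
    single_mul_single_of_ne _ _ _ _ hkl.symm, single_mul_single_same, Matrix.add_apply]
  simp [single_apply, hkl, hkl.symm]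

/-- the torus variation -/
theorem dGL_conj_apply (S : Matrix (Fin m) (Fin m) K) (d : Fin m → Kˣ) (x y : Fin m) :
    (((dGL d : GL (Fin m) K) : Matrix (Fin m) (Fin m) K) * S *
      ((dGL d : GL (Fin m) K) : Matrix (Fin m) (Fin m) K)ᵀ) x y = (d x : K) * S x y * (d y : K) := by
  show ((diagonal fun k => (d k : K)) * S * (diagonal fun k => (d k : K))ᵀ) x y = _
  rw [diagonal_transpose, mul_diagonal, diagonal_mul]

theorem dGL_conj_sym (a b : Fin m) (hab : a ≠ b) (c : K) (t : Kˣ) :
    ((dGL (Pi.mulSingle a t) : GL (Fin m) K) : Matrix (Fin m) (Fin m) K) * sym a b c *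
      ((dGL (Pi.mulSingle a t) : GL (Fin m) K) : Matrix (Fin m) (Fin m) K)ᵀ =
      sym a b ((t : K) * c) := by
  ext x y
  rw [dGL_conj_apply]
  unfold sym
  rw [Matrix.add_apply, Matrix.add_apply, single_apply, single_apply, single_apply, single_apply]
  by_cases hxa : x = a
  · subst hxa
    by_cases hyb : y = b
    · subst hyb
      simp [Pi.mulSingle_eq_same, Pi.mulSingle_eq_of_ne hab.symm, hab, hab.symm]
    · have hyb' : ¬ b = y := fun h => hyb h.symm
      simp [hyb', hab.symm]
  · have hxa' : ¬ a = x := fun h => hxa h.symm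
    by_cases hxb : x = b
    · subst hxb
      by_cases hya : y = a
      · subst hya
        simp [Pi.mulSingle_eq_same, Pi.mulSingle_eq_of_ne hab.symm, hab, hab.symm, mul_comm]
      · have hya' : ¬ a = y := fun h => hya h.symm
        simp [hya', hxa']
    · have hxb' : ¬ b = x := fun h => hxb h.symm
      simp [hxa', hxb']

end Cfsg.Agent.Lead.SpFus
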