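import Mathlib
import Cfsg.Agent.Lead.SpFusI

set_option autoImplicit false

/-! # Fusion system of `PSp_{2m}(K)`, part J: a non-zero invariant family contains all
elementary symmetric matrices -/

namespace Cfsg.Agent.Lead.SpFus

open Matrix

variable {K : Type*} [Field K] {m : ℕ} {P : Matrix (Fin m) (Fin m) K → Prop}

theorem exists_ne_of_two_le (hm : 2 ≤ m) (b : Fin m) : ∃ a : Fin m, a ≠ b := by
  by_cases hb : (b : ℕ) = 0
  · exact ⟨⟨1, by omega⟩, fun h => by
      have := congrArg Fin.val h
      simp at this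
      omega⟩
  · exact ⟨⟨0, by omega⟩, fun h => by
      have := congrArg Fin.val h
      simp at this
      omega⟩

theorem exists_third (hm : 3 ≤ m) (a b : Fin m) : ∃ c : Fin m, c ≠ a ∧ c ≠ b := by
  by_cases h0 : (a : ℕ) ≠ 0 ∧ (b : ℕ) ≠ 0
  · refine ⟨⟨0, by omega⟩, ?_, ?_⟩
    · intro h; exact h0.1 (congrArg Fin.val h).symm
    · intro h; exact h0.2 (congrArg Fin.val h).symm
  · by_cases h1 : (a : ℕ) ≠ 1 ∧ (b : ℕ) ≠ 1
    · refine ⟨⟨1, by omega⟩, ?_, ?_⟩
      · intro h; exact h1.1 (congrArg Fin.val h).symm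
      · intro h; exact h1.2 (congrArg Fin.val h).symm
    · refine ⟨⟨2, by omega⟩, ?_, ?_⟩
      · intro h
        have := congrArg Fin.val h
        simp at this
        omega
      · intro h
        have := congrArg Fin.val h
        simp at this
        omega

/-- step (i): an off-diagonal non-zero entry -/
theorem InvFam.exists_offdiag (h : InvFam P) (hm : 2 ≤ m) {S : Matrix (Fin m) (Fin m) K}
    (hS : P S) (hS0 : S ≠ 0) :
    ∃ S' : Matrix (Fin m) (Fin m) K, P S' ∧ ∃ a b : Fin m, a ≠ b ∧ S' a b ≠ 0 := by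
  have : ∃ x y, S x y ≠ 0 := by
    by_contra hcon
    push Not at hcon
    apply hS0
    ext x y
    exact hcon x y
  obtain ⟨x, y, hxy⟩ := this
  by_cases hne : x = y
  · subst hne
    obtain ⟨a, ha⟩ := exists_ne_of_two_le hm x
    refine ⟨nop S a x 1, h.nop_mem hS ha 1, a, x, ha, ?_⟩
    unfold nop
    rw [Matrix.add_apply, Matrix.add_apply, single_mul_apply_same,
      mul_single_apply_of_ne _ _ _ _ _ ha.symm]
    simp [single_apply, ha, hxy]
  · exact ⟨S, hS, x, y, hne, hxy⟩

/-- the torus trick -/
theorem torus_trick (h : InvFam P) {S : Matrix (Fin m) (Fin m) K} (hS : P S) {a b : Fin m}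
    (hab : a ≠ b) (t : Kˣ) :
    P (sym a b (((t : K) - 1) * ((t : K) - 1) * S a b)) := by
  have hsym := h.symm hS
  set V := ((dGL (Pi.mulSingle a t) : GL (Fin m) K) : Matrix (Fin m) (Fin m) K) * S *
      ((dGL (Pi.mulSingle a t) : GL (Fin m) K) : Matrix (Fin m) (Fin m) K)ᵀ - S with hV
  have hPV : P V := h.sub (h.conj hS _) hS
  set W := ((dGL (Pi.mulSingle b t) : GL (Fin m) K) : Matrix (Fin m) (Fin m) K) * V *
      ((dGL (Pi.mulSingle b t) : GL (Fin m) K) : Matrix (Fin m) (Fin m) K)ᵀ - V with hW
  have hPW : P W := h.sub (h.conj hPV _) hPV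
  have hVe : ∀ x y, V x y = (((Pi.mulSingle a t : Fin m → Kˣ) x : Kˣ) : K) * S x y *
      (((Pi.mulSingle a t : Fin m → Kˣ) y : Kˣ) : K) - S x y := by
    intro x y
    rw [hV, Matrix.sub_apply, dGL_conj_apply]
  have hWe : ∀ x y, W x y = (((Pi.mulSingle b t : Fin m → Kˣ) x : Kˣ) : K) * V x y *
      (((Pi.mulSingle b t : Fin m → Kˣ) y : Kˣ) : K) - V x y := by
    intro x y
    rw [hW, Matrix.sub_apply, dGL_conj_apply]
  have hSba : S b a = S a b := by
    have := congrFun (congrFun hsym.eq a) b
    rwa [transpose_apply] at this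
  have hWeq : W = sym a b (((t : K) - 1) * ((t : K) - 1) * S a b) := by
    ext x y
    rw [hWe, hVe]
    unfold sym
    rw [Matrix.add_apply, single_apply, single_apply]
    by_cases hxa : x = a
    · subst hxa
      rw [Pi.mulSingle_eq_same, Pi.mulSingle_eq_of_ne hab]
      by_cases hyb : y = b
      · subst hyb
        rw [Pi.mulSingle_eq_same, Pi.mulSingle_eq_of_ne hab.symm, if_pos ⟨rfl, rfl⟩,
          if_neg (by rintro ⟨h1, -⟩; exact hab h1.symm)]
        simp only [Units.val_one]
        ring
      · rw [Pi.mulSingle_eq_of_ne hyb, if_neg (by rintro ⟨-, h1⟩; exact hyb h1.symm),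
          if_neg (by rintro ⟨h1, -⟩; exact hab h1.symm)]
        simp only [Units.val_one]
        ring
    · rw [Pi.mulSingle_eq_of_ne hxa]
      by_cases hya : y = a
      · subst hya
        rw [Pi.mulSingle_eq_same, Pi.mulSingle_eq_of_ne hab]
        by_cases hxb : x = b
        · subst hxb
          rw [Pi.mulSingle_eq_same, if_neg (by rintro ⟨h1, -⟩; exact hxa h1.symm),
            if_pos ⟨rfl, rfl⟩, hSba]
          simp only [Units.val_one]
          ring
        · rw [Pi.mulSingle_eq_of_ne hxb, if_neg (by rintro ⟨h1, -⟩; exact hxa h1.symm),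
            if_neg (by rintro ⟨h1, -⟩; exact hxb h1.symm)]
          simp only [Units.val_one]
          ring
      · rw [Pi.mulSingle_eq_of_ne hya, if_neg (by rintro ⟨h1, -⟩; exact hxa h1.symm),
          if_neg (by rintro ⟨-, h1⟩; exact hya h1.symm)]
        simp only [Units.val_one]
        ring
  rw [← hWeq]
  exact hPW

/-- step (ii): an elementary symmetric matrix -/
theorem InvFam.exists_sym (h : InvFam P) [Fintype K] (hm : 2 ≤ m)
    (hex : 3 ≤ m ∨ 3 ≤ Fintype.card K) {S : Matrix (Fin m) (Fin m) K}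
    (hS : P S) (hS0 : S ≠ 0) :
    ∃ (k l : Fin m) (c : K), k ≠ l ∧ c ≠ 0 ∧ P (sym k l c) := by
  classical
  obtain ⟨S', hS', a, b, hab, hne⟩ := h.exists_offdiag hm hS hS0
  have hsym := h.symm hS'
  have hSba : S' b a = S' a b := by
    have := congrFun (congrFun hsym.eq a) b
    rwa [transpose_apply] at this
  rcases hex with hm3 | hK
  · obtain ⟨c, hca, hcb⟩ := exists_third hm3 a b
    refine ⟨a, c, S' a b, hca.symm, hne, ?_⟩
    have h1 := h.nop_mem (h.nop_mem hS' hca 1) hab 1
    rw [nop_nop_offdiag S' hab hcb hca.symm, hSba] at h1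
    exact h1
  · have hcard : 1 < Fintype.card Kˣ := by
      rw [Fintype.card_units]
      omega
    obtain ⟨t, ht⟩ := Fintype.exists_ne_of_one_lt_card hcard (1 : Kˣ)
    have ht' : (t : K) - 1 ≠ 0 := by
      intro h0
      apply ht
      apply Units.ext
      rw [Units.val_one]
      exact sub_eq_zero.mp h0
    exact ⟨a, b, _, hab, mul_ne_zero (mul_ne_zero ht' ht') hne, torus_trick h hS' hab t⟩

/-- step (iii): all elementary symmetric matrices -/
theorem InvFam.sym_mem_all (h : InvFam P) [Fintype K] (hm : 2 ≤ m)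
    (hex : 3 ≤ m ∨ 3 ≤ Fintype.card K) {S : Matrix (Fin m) (Fin m) K}
    (hS : P S) (hS0 : S ≠ 0) (a b : Fin m) (hab : a ≠ b) (s : K) : P (sym a b s) := by
  obtain ⟨k, l, c, hkl, hc, hP⟩ := h.exists_sym hm hex hS hS0
  -- spreading
  have hspread : P (sym a b c) := by
    by_cases hak : a = k
    · subst hak
      by_cases hbl : b = l
      · subst hbl; exact hP
      · have h1 := h.nop_mem (S := sym l a c) (by rw [sym_comm]; exact hP) hbl 1
        rw [nop_sym l a b hkl.symm hbl hab.symm] at h1
        rw [sym_comm]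
        exact h1
    · by_cases hal : a = l
      · subst hal
        by_cases hbk : b = k
        · subst hbk
          rw [sym_comm]; exact hP
        · have h1 := h.nop_mem hP hbk 1
          rw [nop_sym k a b hkl hbk hab.symm] at h1
          rw [sym_comm]
          exact h1
      · have h1 := h.nop_mem hP hak 1
        rw [nop_sym k l a hkl hak hal] at h1
        by_cases hbl : b = l
        · subst hbl; exact h1
        · have h2 := h.nop_mem (S := sym l a c) (by rw [sym_comm]; exact h1) hbl 1
          rw [nop_sym l a b (Ne.symm hal) hbl hab.symm] at h2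
          rw [sym_comm]
          exact h2
  -- scaling
  by_cases hs : s = 0
  · subst hs
    have : sym a b (0 : K) = 0 := by
      unfold sym
      rw [single_zero, single_zero, add_zero]
    rw [this]
    exact h.zero
  · have hunit : s / c ≠ 0 := div_ne_zero hs hc
    have h1 := h.conj hspread (dGL (Pi.mulSingle a (Units.mk0 _ hunit)))
    rw [dGL_conj_sym a b hab] at h1
    have : ((Units.mk0 (s / c) hunit : Kˣ) : K) * c = s := by
      rw [Units.val_mk0]
      field_simp
    rwa [this] at h1

end Cfsg.Agent.Lead.SpFus
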