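import Mathlib
import Cfsg.Agent.Lead.SpFusJ

set_option autoImplicit false

/-! # Fusion system of `PSp_{2m}(K)`, part K: induction principles for unitriangular and for
symmetric matrices; the Weyl conjugation -/

namespace Cfsg.Agent.Lead.SpFus

open Matrix

variable {K : Type*} [Field K] {m : ℕ}

/-! ### unitriangular matrices -/

open Classical in
/-- the support above the diagonal -/
noncomputable def usupp (A : GL (Fin m) K) : Finset (Fin m × Fin m) :=
  Finset.univ.filter (fun p => p.1 < p.2 ∧ (A : Matrix (Fin m) (Fin m) K) p.1 p.2 ≠ 0)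

theorem mem_usupp (A : GL (Fin m) K) (p : Fin m × Fin m) :
    p ∈ usupp A ↔ p.1 < p.2 ∧ (A : Matrix (Fin m) (Fin m) K) p.1 p.2 ≠ 0 := by
  unfold usupp
  simp

theorem el_mul_apply (i j : Fin m) (hij : i ≠ j) (c : K) (A : GL (Fin m) K) (a b : Fin m) :
    ((el i j hij c * A : GL (Fin m) K) : Matrix (Fin m) (Fin m) K) a b =
      (A : Matrix (Fin m) (Fin m) K) a b +
        (if a = i then c * (A : Matrix (Fin m) (Fin m) K) j b else 0) := by
  rw [Matrix.GeneralLinearGroup.coe_mul, el_coe, Matrix.add_mul, Matrix.one_mul, Matrix.add_apply]
  congr 1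
  by_cases ha : a = i
  · subst ha
    rw [if_pos rfl, single_mul_apply_same]
  · rw [if_neg ha, single_mul_apply_of_ne _ _ _ _ _ ha]

theorem ut_induction_aux (Q : GL (Fin m) K → Prop) (h1 : Q 1)
    (hstep : ∀ (i j : Fin m) (hij : i < j) (c : K) (A : GL (Fin m) K), Q A →
      Q (el i j hij.ne c * A)) :
    ∀ (n : ℕ) (A : GL (Fin m) K), (A : Matrix (Fin m) (Fin m) K).BlockTriangular id →
      (∀ i, (A : Matrix (Fin m) (Fin m) K) i i = 1) → (usupp A).card = n → Q A := by
  intro n
  induction n using Nat.strong_induction_on with
  | _ n ih =>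
  intro A hA hA1 hn
  by_cases hne : (usupp A).Nonempty
  · obtain ⟨p, hp, hmax⟩ := Finset.exists_max_image (usupp A) (fun p => p.1) hne
    obtain ⟨i, j⟩ := p
    obtain ⟨hij, hc0⟩ := (mem_usupp A _).mp hp
    simp only at hij hc0 hmax
    set c := (A : Matrix (Fin m) (Fin m) K) i j with hc
    have hrow : ∀ b : Fin m, (A : Matrix (Fin m) (Fin m) K) j b = if b = j then 1 else 0 := by
      intro b
      rcases lt_trichotomy b j with hb | hb | hb
      · rw [if_neg hb.ne]
        exact hA hb
      · subst hb
        rw [if_pos rfl]
        exact hA1 b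
      · rw [if_neg hb.ne']
        by_contra h0
        have hq : ((j, b) : Fin m × Fin m) ∈ usupp A := (mem_usupp A _).mpr ⟨hb, h0⟩
        have := hmax _ hq
        simp only at this
        exact absurd (lt_of_lt_of_le hij this) (lt_irrefl _)
    set A' := el i j hij.ne (-c) * A with hA'
    have hentry : ∀ a b : Fin m, (A' : Matrix (Fin m) (Fin m) K) a b =
        if a = i ∧ b = j then 0 else (A : Matrix (Fin m) (Fin m) K) a b := by
      intro a b
      rw [hA', el_mul_apply, hrow]
      by_cases ha : a = i
      · by_cases hb : b = j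
        · subst ha hb
          rw [if_pos rfl, if_pos rfl, if_pos ⟨rfl, rfl⟩, ← hc]
          ring
        · have h1 : ¬ (a = i ∧ b = j) := fun h => hb h.2
          rw [if_neg hb, if_neg h1, if_pos ha]
          ring
      · have h1 : ¬ (a = i ∧ b = j) := fun h => ha h.1
        rw [if_neg ha, if_neg h1]
        ring
    have hA'up : (A' : Matrix (Fin m) (Fin m) K).BlockTriangular id := by
      intro a b hab
      rw [hentry]
      split_ifs
      · rfl
      · exact hA hab
    have hA'1 : ∀ a, (A' : Matrix (Fin m) (Fin m) K) a a = 1 := by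
      intro a
      rw [hentry, if_neg (by rintro ⟨rfl, h⟩; exact hij.ne h)]
      exact hA1 a
    have hsupp : usupp A' = (usupp A).erase (i, j) := by
      ext q
      rw [Finset.mem_erase, mem_usupp, mem_usupp, hentry]
      by_cases hq : q = (i, j)
      · subst hq
        simp
      · have : ¬ (q.1 = i ∧ q.2 = j) := by
          rintro ⟨h1, h2⟩
          exact hq (Prod.ext h1 h2)
        rw [if_neg this]
        simp [hq]
    have hcard : (usupp A').card < n := by
      rw [hsupp, Finset.card_erase_of_mem hp, hn]
      have : 0 < (usupp A).card := Finset.card_pos.mpr hne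
      omega
    have h2 := ih _ hcard A' hA'up hA'1 rfl
    have h3 : A = el i j hij.ne c * A' := by
      rw [hA', ← mul_assoc, el_mul, add_neg_cancel, el_zero, one_mul]
    rw [h3]
    exact hstep i j hij c A' h2
  · rw [Finset.not_nonempty_iff_eq_empty] at hne
    have : A = 1 := by
      apply Units.ext
      ext a b
      rw [Units.val_one]
      rcases lt_trichotomy a b with hab | hab | hab
      · rw [Matrix.one_apply_ne hab.ne]
        by_contra h0
        have hq : ((a, b) : Fin m × Fin m) ∈ usupp A := (mem_usupp A _).mpr ⟨hab, h0⟩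
        rw [hne] at hq
        exact absurd hq (Finset.notMem_empty _)
      · subst hab
        rw [Matrix.one_apply_eq]
        exact hA1 a
      · rw [Matrix.one_apply_ne hab.ne']
        exact hA hab
    rw [this]
    exact h1

/-- induction principle for upper unitriangular matrices -/
theorem ut_induction (Q : GL (Fin m) K → Prop) (h1 : Q 1)
    (hstep : ∀ (i j : Fin m) (hij : i < j) (c : K) (A : GL (Fin m) K), Q A →
      Q (el i j hij.ne c * A))
    (A : GL (Fin m) K) (hA : (A : Matrix (Fin m) (Fin m) K).BlockTriangular id)
    (hA1 : ∀ i, (A : Matrix (Fin m) (Fin m) K) i i = 1) : Q A :=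
  ut_induction_aux Q h1 hstep _ A hA hA1 rfl

/-! ### symmetric matrices -/

open Classical in
/-- the support of a matrix -/
noncomputable def ssupp (S : Matrix (Fin m) (Fin m) K) : Finset (Fin m × Fin m) :=
  Finset.univ.filter (fun p => S p.1 p.2 ≠ 0)

theorem mem_ssupp (S : Matrix (Fin m) (Fin m) K) (p : Fin m × Fin m) :
    p ∈ ssupp S ↔ S p.1 p.2 ≠ 0 := by
  unfold ssupp
  simp

theorem isSymm_sym (a b : Fin m) (s : K) : (sym a b s).IsSymm := by
  show (sym a b s)ᵀ = sym a b s
  unfold sym
  rw [transpose_add, transpose_single, transpose_single, add_comm]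

theorem symm_induction_aux (P : Matrix (Fin m) (Fin m) K → Prop) (h0 : P 0)
    (hadd : ∀ S S', P S → P S' → P (S + S'))
    (hdiag : ∀ a t, P (single a a t)) (hsym : ∀ a b, a ≠ b → ∀ s, P (sym a b s)) :
    ∀ (n : ℕ) (S : Matrix (Fin m) (Fin m) K), S.IsSymm → (ssupp S).card = n → P S := by
  intro n
  induction n using Nat.strong_induction_on with
  | _ n ih =>
  intro S hS hn
  by_cases hne : (ssupp S).Nonempty
  · obtain ⟨⟨i, j⟩, hp⟩ := hne
    have hij0 : S i j ≠ 0 := (mem_ssupp S _).mp hp
    have hSji : S j i = S i j := by
      have := congrFun (congrFun hS.eq i) j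
      rwa [transpose_apply] at this
    by_cases hij : i = j
    · subst hij
      set S' := S - single i i (S i i) with hS'
      have hS'symm : S'.IsSymm := hS.sub (isSymm_single i _)
      have hsub : ssupp S' ⊆ (ssupp S).erase (i, i) := by
        intro q hq
        rw [mem_ssupp, hS', Matrix.sub_apply] at hq
        rw [Finset.mem_erase, mem_ssupp]
        refine ⟨?_, ?_⟩
        · rintro rfl
          apply hq
          simp
        · intro h
          apply hq
          rw [h, zero_sub, neg_eq_zero]
          by_cases hq' : q = (i, i)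
          · subst hq'
            simp only at h
            rw [single_apply_same, h]
          · apply single_apply_of_ne
            rintro ⟨h1, h2⟩
            exact hq' (Prod.ext h1.symm h2.symm)
      have hcard : (ssupp S').card < n := by
        have h1 := Finset.card_le_card hsub
        rw [Finset.card_erase_of_mem hp, hn] at h1
        have : 0 < (ssupp S).card := Finset.card_pos.mpr ⟨_, hp⟩
        omega
      have h2 := ih _ hcard S' hS'symm rfl
      have h3 : S = S' + single i i (S i i) := by rw [hS', sub_add_cancel]
      rw [h3]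
      exact hadd _ _ h2 (hdiag _ _)
    · set S' := S - sym i j (S i j) with hS'
      have hS'symm : S'.IsSymm := hS.sub (isSymm_sym i j _)
      have hsub : ssupp S' ⊆ (ssupp S).erase (i, j) := by
        intro q hq
        rw [mem_ssupp, hS', Matrix.sub_apply] at hq
        rw [Finset.mem_erase, mem_ssupp]
        refine ⟨?_, ?_⟩
        · rintro rfl
          apply hq
          unfold sym
          simp [single_apply, hij]
        · intro h
          apply hq
          rw [h, zero_sub, neg_eq_zero]
          unfold sym
          rw [Matrix.add_apply, single_apply, single_apply]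
          by_cases h1 : i = q.1 ∧ j = q.2
          · exfalso
            obtain ⟨h1a, h1b⟩ := h1
            rw [← h1a, ← h1b] at h
            exact hij0 h
          · rw [if_neg h1, zero_add]
            by_cases h2 : j = q.1 ∧ i = q.2
            · exfalso
              obtain ⟨h2a, h2b⟩ := h2
              rw [← h2a, ← h2b, hSji] at h
              exact hij0 h
            · rw [if_neg h2]
      have hcard : (ssupp S').card < n := by
        have h1 := Finset.card_le_card hsub
        rw [Finset.card_erase_of_mem hp, hn] at h1
        have : 0 < (ssupp S).card := Finset.card_pos.mpr ⟨_, hp⟩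
        omega
      have h2 := ih _ hcard S' hS'symm rfl
      have h3 : S = S' + sym i j (S i j) := by rw [hS', sub_add_cancel]
      rw [h3]
      exact hadd _ _ h2 (hsym _ _ hij _)
  · rw [Finset.not_nonempty_iff_eq_empty] at hne
    have : S = 0 := by
      ext a b
      by_contra h
      have hq : ((a, b) : Fin m × Fin m) ∈ ssupp S := (mem_ssupp S _).mpr h
      rw [hne] at hq
      exact absurd hq (Finset.notMem_empty _)
    rw [this]
    exact h0

/-- induction principle for symmetric matrices -/
theorem symm_induction (P : Matrix (Fin m) (Fin m) K → Prop) (h0 : P 0)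
    (hadd : ∀ S S', P S → P S' → P (S + S'))
    (hdiag : ∀ a t, P (single a a t)) (hsym : ∀ a b, a ≠ b → ∀ s, P (sym a b s))
    (S : Matrix (Fin m) (Fin m) K) (hS : S.IsSymm) : P S :=
  symm_induction_aux P h0 hadd hdiag hsym _ S hS rfl

end Cfsg.Agent.Lead.SpFus
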