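import Mathlib
import Cfsg.Agent.Lead.SpFusK
import Cfsg.Agent.Helper5.PGroupCenter

set_option autoImplicit false

/-! # Fusion system of `PSp_{2m}(K)`, part L: strongly closed subgroups of `U` -/

namespace Cfsg.Agent.Lead.SpFus

open Matrix

variable {K : Type*} [Field K] {m : ℕ}

/-- the Weyl element of `SL_2` -/
def wSL (K : Type*) [Field K] : Matrix.SpecialLinearGroup (Fin 2) K :=
  ⟨!![0, 1; -1, 0], by rw [Matrix.det_fin_two_of]; simp⟩

/-- the Weyl element at the index `b` -/
def wS (K : Type*) [Field K] {m : ℕ} (b : Fin m) : symplecticGroup (Fin m) K :=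
  pwS b (wSL K)

theorem diagonal_update_one_zero (b : Fin m) :
    diagonal (Function.update (1 : Fin m → K) b 0) = 1 - single b b 1 := by
  ext i j
  rw [Matrix.sub_apply]
  by_cases hij : i = j
  · subst hij
    rw [diagonal_apply_eq, one_apply_eq]
    by_cases hib : i = b
    · subst hib
      rw [Function.update_self, single_apply_same, sub_self]
    · have hib' : ¬ b = i := fun h => hib h.symm
      rw [Function.update_of_ne hib]
      simp [single_apply, hib']
  · rw [diagonal_apply_ne _ hij, one_apply_ne hij]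
    have : ¬ (b = i ∧ b = j) := by
      rintro ⟨rfl, rfl⟩; exact hij rfl
    simp [single_apply, this]

theorem wS_coe (b : Fin m) :
    ((wS K b : symplecticGroup (Fin m) K) : Matrix (Fin m ⊕ Fin m) (Fin m ⊕ Fin m) K) =
      fromBlocks (1 - single b b 1) (single b b 1) (single b b (-1)) (1 - single b b 1) := by
  show (pwS b (wSL K)).1 = _
  rw [show (pwS b (wSL K)).1 = _ from pwS_coe b _]
  show fromBlocks (diagonal (Function.update 1 b 0)) (diagonal (Function.update 0 b 1))
    (diagonal (Function.update 0 b (-1))) (diagonal (Function.update 1 b 0)) = _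
  rw [diagonal_update_one_zero, diagonal_update_zero, diagonal_update_zero]

/-- the Weyl conjugation of a short root element of the Siegel radical -/
theorem wS_mul_sieg (a b : Fin m) (hab : a ≠ b) (s : K) :
    wS K b * sieg (sym a b s) (isSymm_sym a b s) = xs a b hab s * wS K b := by
  apply Subtype.ext
  show (wS K b).1 * (sieg (sym a b s) (isSymm_sym a b s)).1 = (xs a b hab s).1 * (wS K b).1
  rw [show (wS K b).1 = _ from wS_coe b, show (sieg (sym a b s) _).1 = _ from sieg_coe _ _]
  show _ = (levGL (el a b hab s)).1 * _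
  rw [show (levGL (el a b hab s)).1 = _ from levGL_coe _, el_inv, el_coe, el_coe,
    fromBlocks_multiply, fromBlocks_multiply, transpose_add, transpose_one, transpose_single]
  have h1 : single a b s * single b b (1 : K) = single a b s := by
    rw [single_mul_single_same, mul_one]
  have h2 : single b b (1 : K) * sym a b s = single b a s := by
    unfold sym
    rw [Matrix.mul_add, single_mul_single_of_ne _ _ _ _ hab.symm, single_mul_single_same, one_mul,
      zero_add]
  have h3 : single b a (-s) * single b b (1 : K) = 0 := by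
    rw [single_mul_single_of_ne _ _ _ _ hab]
  have h4 : single b a (-s) * single b b (-1 : K) = 0 := by
    rw [single_mul_single_of_ne _ _ _ _ hab]
  have h5 : single b b (-1 : K) * sym a b s = single b a (-s) := by
    unfold sym
    rw [Matrix.mul_add, single_mul_single_of_ne _ _ _ _ hab.symm, single_mul_single_same,
      zero_add, neg_one_mul]
  congr 1
  · rw [Matrix.mul_one, Matrix.mul_zero, add_zero, Matrix.zero_mul, add_zero, Matrix.add_mul,
      Matrix.one_mul, Matrix.mul_sub, Matrix.mul_one, h1, sub_self, add_zero]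
  · rw [Matrix.mul_one, Matrix.zero_mul, add_zero, Matrix.add_mul, Matrix.one_mul, h1,
      Matrix.sub_mul, Matrix.one_mul, h2]
    unfold sym
    abel
  · rw [Matrix.mul_one, Matrix.mul_zero, add_zero, Matrix.zero_mul, zero_add, Matrix.add_mul,
      Matrix.one_mul, h4, add_zero]
  · rw [Matrix.mul_one, Matrix.zero_mul, zero_add, h5, Matrix.add_mul, Matrix.one_mul,
      Matrix.mul_sub, Matrix.mul_one, h3, sub_zero]
    abel

theorem nop_single (a b : Fin m) (hab : a ≠ b) (t : K) :
    nop (single b b t) a b 1 = sym a b t + single a a t := by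
  unfold nop sym
  rw [single_mul_single_same, single_mul_single_same, single_apply_same]
  simp

/-- criterion (a): `U` has no proper non-trivial strongly closed subgroup -/
theorem stronglyClosed_Usub [Fintype K] (p : ℕ) [Fact p.Prime] [CharP K p] (hm : 2 ≤ m)
    (hex : 3 ≤ m ∨ 3 ≤ Fintype.card K) (T : Subgroup (symplecticGroup (Fin m) K))
    (hT : T ≤ Usub K m)
    (hcl : ∀ x ∈ T, ∀ g : symplecticGroup (Fin m) K, g * x * g⁻¹ ∈ Usub K m → g * x * g⁻¹ ∈ T) :
    T = ⊥ ∨ T = Usub K m := by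
  by_cases hbot : T = ⊥
  · left; exact hbot
  right
  have : NeZero m := ⟨by omega⟩
  -- normality in `U`
  have hnorm : ∀ u ∈ Usub K m, ∀ x ∈ T, u * x * u⁻¹ ∈ T := fun u hu x hx =>
    hcl x hx u ((Usub K m).mul_mem ((Usub K m).mul_mem hu (hT hx)) ((Usub K m).inv_mem hu))
  have hQn : (T.subgroupOf (Usub K m)).Normal := by
    constructor
    intro x hx u
    rw [Subgroup.mem_subgroupOf] at hx ⊢
    exact hnorm u u.2 x hx
  have hQ1 : T.subgroupOf (Usub K m) ≠ ⊥ := by
    intro h
    apply hbot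
    rw [Subgroup.subgroupOf_eq_bot] at h
    rw [eq_bot_iff]
    intro x hx
    have : x ∈ T ⊓ Usub K m := ⟨hx, hT hx⟩
    rw [disjoint_iff.mp h] at this
    exact this
  obtain ⟨z, hzQ, hz1, hzc⟩ := Cfsg.Agent.Helper5.exists_ne_one_mem_center_of_normal
    (isPGroup_Usub (K := K) (m := m) p) (T.subgroupOf (Usub K m)) hQ1
  have hzT : (z : symplecticGroup (Fin m) K) ∈ T := Subgroup.mem_subgroupOf.mp hzQ
  have hzR : (z : symplecticGroup (Fin m) K) ∈ Rsub K m := by
    apply centralizer_Rsub_le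
    refine Subgroup.mem_inf.mpr ⟨z.2, Subgroup.mem_centralizer_iff.mpr ?_⟩
    intro r hr
    have := hzc ⟨r, Rsub_le_Usub hr⟩
    exact congrArg Subtype.val this
  obtain ⟨S₀, hS₀, hzS⟩ := hzR
  have hS₀ne : S₀ ≠ 0 := by
    intro h0
    apply hz1
    apply Subtype.ext
    rw [hzS]
    show sieg S₀ hS₀ = 1
    rw [← sieg_zero]
    exact sieg_congr h0 _ _
  -- the invariant family
  let P : Matrix (Fin m) (Fin m) K → Prop := fun S => ∃ hS : S.IsSymm, sieg S hS ∈ T
  have hfam : InvFam P := by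
    refine ⟨⟨isSymm_zero, ?_⟩, ?_, ?_, ?_, ?_⟩
    · rw [sieg_zero]; exact T.one_mem
    · rintro S S' ⟨hS, h1⟩ ⟨hS', h2⟩
      refine ⟨hS.add hS', ?_⟩
      have h3 := T.mul_mem h1 h2
      rwa [sieg_mul] at h3
    · rintro S ⟨hS, h1⟩
      refine ⟨hS.neg, ?_⟩
      have h3 := T.inv_mem h1
      rwa [sieg_inv] at h3
    · rintro S ⟨hS, h1⟩ A
      refine ⟨isSymm_conj _ hS, ?_⟩
      have h3 := hcl _ h1 (levGL A) (by
        rw [levGL_conj_sieg]
        exact sieg_mem_Usub _ _)
      rwa [levGL_conj_sieg] at h3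
    · rintro S ⟨hS, -⟩
      exact hS
  have hPS₀ : P S₀ := ⟨hS₀, by rw [← hzS]; exact hzT⟩
  have hG1 := hfam.sym_mem_all hm hex hPS₀ hS₀ne
  -- short root elements
  have hxs : ∀ (a b : Fin m) (hab : a < b) (s : K), xs a b hab.ne s ∈ T := by
    intro a b hab s
    obtain ⟨hS, h1⟩ := hG1 a b hab.ne s
    have h2 : wS K b * sieg (sym a b s) hS * (wS K b)⁻¹ = xs a b hab.ne s := by
      rw [wS_mul_sieg a b hab.ne s, mul_inv_cancel_right]
    rw [← h2]
    apply hcl _ h1
    rw [h2]
    exact xs_mem_Usub hab s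
  -- the Levi part
  have hlev : ∀ A : GL (Fin m) K, (A : Matrix (Fin m) (Fin m) K).BlockTriangular id →
      (∀ i, (A : Matrix (Fin m) (Fin m) K) i i = 1) → levGL A ∈ T := by
    intro A hA hA1
    refine ut_induction (fun A => levGL A ∈ T) ?_ ?_ A hA hA1
    · show levGL 1 ∈ T
      rw [map_one]; exact T.one_mem
    · intro i j hij c A hA
      show levGL (el i j hij.ne c * A) ∈ T
      rw [map_mul]
      exact T.mul_mem (hxs i j hij c) hA
  -- long root elements
  let a₀ : Fin m := ⟨0, by omega⟩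
  let b₀ : Fin m := ⟨1, by omega⟩
  have hab₀ : a₀ < b₀ := by
    show (0 : ℕ) < 1
    omega
  have hdiag0 : ∀ t : K, P (single a₀ a₀ t) := by
    intro t
    have hτ := hxs a₀ b₀ hab₀ 1
    have hu : sieg (single b₀ b₀ t) (isSymm_single b₀ t) ∈ Usub K m := sieg_mem_Usub _ _
    have h1 : xs a₀ b₀ hab₀.ne 1 * (sieg (single b₀ b₀ t) (isSymm_single b₀ t) *
        (xs a₀ b₀ hab₀.ne 1)⁻¹ * (sieg (single b₀ b₀ t) (isSymm_single b₀ t))⁻¹) ∈ T :=
      T.mul_mem hτ (hnorm _ hu _ (T.inv_mem hτ))
    have h2 : xs a₀ b₀ hab₀.ne 1 * (sieg (single b₀ b₀ t) (isSymm_single b₀ t) *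
        (xs a₀ b₀ hab₀.ne 1)⁻¹ * (sieg (single b₀ b₀ t) (isSymm_single b₀ t))⁻¹) =
        sieg (nop (single b₀ b₀ t) a₀ b₀ 1) (by
          rw [nop_single a₀ b₀ hab₀.ne]
          exact (isSymm_sym _ _ _).add (isSymm_single _ _)) := by
      have h3 : xs a₀ b₀ hab₀.ne (1 : K) * sieg (single b₀ b₀ t) (isSymm_single b₀ t) *
          (xs a₀ b₀ hab₀.ne (1 : K))⁻¹ = sieg (single b₀ b₀ t + nop (single b₀ b₀ t) a₀ b₀ 1) (by
            rw [nop_single a₀ b₀ hab₀.ne]
            exact (isSymm_single _ _).add ((isSymm_sym _ _ _).add (isSymm_single _ _))) := by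
        show levGL (el a₀ b₀ hab₀.ne 1) * _ * (levGL (el a₀ b₀ hab₀.ne 1))⁻¹ = _
        rw [levGL_conj_sieg]
        exact sieg_congr (el_conj _ _ _ _ _) _ _
      rw [← mul_assoc, ← mul_assoc, h3, sieg_inv, sieg_mul]
      exact sieg_congr (by abel) _ _
    rw [h2] at h1
    have h4 : P (nop (single b₀ b₀ t) a₀ b₀ 1) := ⟨_, h1⟩
    rw [nop_single a₀ b₀ hab₀.ne] at h4
    have h5 := hfam.sub h4 (hG1 a₀ b₀ hab₀.ne t)
    rwa [add_sub_cancel_left] at h5
  have hdiag : ∀ (a : Fin m) (t : K), P (single a a t) := by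
    intro a t
    by_cases ha : a = a₀
    · rw [ha]; exact hdiag0 t
    · have h1 := hfam.nop_mem (hdiag0 t) ha 1
      rw [nop_single a a₀ ha] at h1
      have h2 := hfam.sub h1 (hG1 a a₀ ha t)
      rwa [add_sub_cancel_left] at h2
  -- all symmetric matrices
  have hall : ∀ (S : Matrix (Fin m) (Fin m) K) (hS : S.IsSymm), P S := by
    intro S hS
    exact symm_induction P hfam.zero (fun _ _ h1 h2 => hfam.add h1 h2) hdiag hG1 S hS
  -- conclusion
  apply le_antisymm hT
  intro u hu
  obtain ⟨A, S, hS, hA, hA1, rfl⟩ := exists_levGL_sieg_of_mem_Usub hu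
  obtain ⟨_, h1⟩ := hall S hS
  exact T.mul_mem (hlev A hA hA1) h1

end Cfsg.Agent.Lead.SpFus
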