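import Mathlib
import Cfsg.Prelude.Def_ClassicalGeometry

set_option autoImplicit false

/-! # The normalizer of the diagonal torus of `Sp_{2m}(q)`, part A: the torus -/

namespace Cfsg.Agent.Lead.SpWeyl

open Matrix

variable {F : Type*} [Field F] {m : ℕ}

/-- the diagonal torus, as in the statement -/
def TT (m : ℕ) (F : Type*) [Field F] : Subgroup (Matrix.symplecticGroup (Fin m) F) :=
  ⨅ i : Fin m ⊕ Fin m, Cfsg.stabilizing (Cfsg.spToMat m F)
    ((Submodule.span F {(Pi.single i (1 : F) : Fin m ⊕ Fin m → F)} :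
      Submodule F (Fin m ⊕ Fin m → F)) : Set (Fin m ⊕ Fin m → F))

theorem coe_mul' (g h : Matrix.symplecticGroup (Fin m) F) : (g * h).1 = g.1 * h.1 := rfl

theorem coe_one' : (1 : Matrix.symplecticGroup (Fin m) F).1 = 1 := rfl

theorem val_mul_inv (g : Matrix.symplecticGroup (Fin m) F) : g.1 * (g⁻¹).1 = 1 := by
  rw [← coe_mul', mul_inv_cancel]; rfl

theorem val_inv_mul (g : Matrix.symplecticGroup (Fin m) F) : (g⁻¹).1 * g.1 = 1 := by
  rw [← coe_mul', inv_mul_cancel]; rfl

/-- a matrix all of whose columns are supported on the diagonal -/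
def IsDiag (g : Matrix (Fin m ⊕ Fin m) (Fin m ⊕ Fin m) F) : Prop :=
  ∀ i j, j ≠ i → g j i = 0

theorem IsDiag.mul_apply {g : Matrix (Fin m ⊕ Fin m) (Fin m ⊕ Fin m) F} (hg : IsDiag g)
    (M : Matrix (Fin m ⊕ Fin m) (Fin m ⊕ Fin m) F) (j i : Fin m ⊕ Fin m) :
    (g * M) j i = g j j * M j i := by
  rw [Matrix.mul_apply]
  exact Finset.sum_eq_single j (fun k _ hk => by rw [hg k j hk.symm, zero_mul]) (by simp)

theorem IsDiag.apply_mul {g : Matrix (Fin m ⊕ Fin m) (Fin m ⊕ Fin m) F} (hg : IsDiag g)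
    (M : Matrix (Fin m ⊕ Fin m) (Fin m ⊕ Fin m) F) (j i : Fin m ⊕ Fin m) :
    (M * g) j i = M j i * g i i := by
  rw [Matrix.mul_apply]
  exact Finset.sum_eq_single i (fun k _ hk => by rw [hg i k hk, mul_zero]) (by simp)

theorem IsDiag.ne_zero {g : Matrix.symplecticGroup (Fin m) F} (hg : IsDiag g.1)
    (j : Fin m ⊕ Fin m) : g.1 j j ≠ 0 := by
  intro h
  have h1 := congrFun (congrFun (val_mul_inv g) j) j
  rw [hg.mul_apply, h, zero_mul, Matrix.one_apply_eq] at h1
  exact zero_ne_one h1

theorem mem_TT_iff (g : Matrix.symplecticGroup (Fin m) F) : g ∈ TT m F ↔ IsDiag g.1 := by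
  rw [TT, Subgroup.mem_iInf]
  constructor
  · intro h i j hji
    have h1 := (h i (Pi.single i 1)).1 (Submodule.mem_span_singleton_self _)
    obtain ⟨c, hc⟩ := Submodule.mem_span_singleton.1 h1
    have h2 := congrFun hc j
    simp only [Pi.smul_apply, smul_eq_mul] at h2
    rw [Pi.single_eq_of_ne hji, mul_zero] at h2
    have h3 : (Cfsg.spToMat m F g *ᵥ Pi.single i 1) j = g.1 j i := by
      simp [Cfsg.spToMat]
    rw [← h3, ← h2]
  · intro hg i v
    have hmul : ∀ (w : Fin m ⊕ Fin m → F) (j : Fin m ⊕ Fin m),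
        (Cfsg.spToMat m F g *ᵥ w) j = g.1 j j * w j := by
      intro w j
      show (g.1 *ᵥ w) j = _
      rw [Matrix.mulVec, dotProduct]
      exact Finset.sum_eq_single j (fun k _ hk => by rw [hg k j hk.symm, zero_mul]) (by simp)
    constructor
    · intro hv
      obtain ⟨c, rfl⟩ := Submodule.mem_span_singleton.1 hv
      rw [SetLike.mem_coe, Submodule.mem_span_singleton]
      refine ⟨g.1 i i * c, ?_⟩
      ext j
      rw [hmul]
      by_cases hji : j = i
      · subst hji; simp
      · simp [Pi.single_eq_of_ne hji]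
    · intro hv
      obtain ⟨c, hc⟩ := Submodule.mem_span_singleton.1 hv
      rw [SetLike.mem_coe, Submodule.mem_span_singleton]
      refine ⟨v i, ?_⟩
      ext j
      by_cases hji : j = i
      · subst hji; simp
      · have h2 := congrFun hc j
        rw [hmul] at h2
        simp only [Pi.smul_apply, smul_eq_mul, Pi.single_eq_of_ne hji, mul_zero] at h2 ⊢
        rcases mul_eq_zero.1 h2.symm with h | h
        · exact absurd h (hg.ne_zero j)
        · exact h.symm

end Cfsg.Agent.Lead.SpWeyl
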