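import Mathlib
import Cfsg.Agent.Lead.SpWeylA

set_option autoImplicit false

/-! # The normalizer of the diagonal torus of `Sp_{2m}(q)`, part B: `J`, diagonal elements,
monomial matrices -/

namespace Cfsg.Agent.Lead.SpWeyl

open Matrix

variable {F : Type*} [Field F] {m : ℕ}

/-- the sign attached to an index -/
def sgn (F : Type*) [Field F] {m : ℕ} : Fin m ⊕ Fin m → F
  | Sum.inl _ => -1
  | Sum.inr _ => 1

@[simp] theorem sgn_inl (k : Fin m) : sgn F (Sum.inl k : Fin m ⊕ Fin m) = -1 := rfl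
@[simp] theorem sgn_inr (k : Fin m) : sgn F (Sum.inr k : Fin m ⊕ Fin m) = 1 := rfl

theorem sgn_ne_zero (a : Fin m ⊕ Fin m) : sgn F a ≠ 0 := by
  cases a <;> simp

theorem sgn_swap (a : Fin m ⊕ Fin m) : sgn F a.swap = -sgn F a := by
  cases a <;> simp

theorem J_swap (a : Fin m ⊕ Fin m) : J (Fin m) F a a.swap = sgn F a := by
  cases a <;> simp [J, Matrix.fromBlocks]

theorem J_ne (a b : Fin m ⊕ Fin m) (h : b ≠ a.swap) : J (Fin m) F a b = 0 := by
  rcases a with a | a <;> rcases b with b | b <;> simp [J, Matrix.fromBlocks] at h ⊢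
  · exact Matrix.one_apply_ne (fun hab => h hab.symm)
  · exact Matrix.one_apply_ne (fun hab => h hab.symm)

theorem J_mul_apply (M : Matrix (Fin m ⊕ Fin m) (Fin m ⊕ Fin m) F) (a k : Fin m ⊕ Fin m) :
    (J (Fin m) F * M) a k = sgn F a * M a.swap k := by
  rw [Matrix.mul_apply, Finset.sum_eq_single a.swap, J_swap]
  · intro b _ hb
    rw [J_ne a b hb, zero_mul]
  · simp

theorem mul_J_apply (M : Matrix (Fin m ⊕ Fin m) (Fin m ⊕ Fin m) F) (j b : Fin m ⊕ Fin m) :
    (M * J (Fin m) F) j b = M j b.swap * sgn F b.swap := by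
  rw [Matrix.mul_apply, Finset.sum_eq_single b.swap]
  · have := J_swap (F := F) b.swap
    rw [Sum.swap_swap] at this
    rw [this]
  · intro a _ ha
    have : b ≠ a.swap := by
      intro h; apply ha; rw [h, Sum.swap_swap]
    rw [J_ne a b this, mul_zero]
  · simp

/-- the diagonal of a torus element -/
def dvec (a : Fin m → Fˣ) : Fin m ⊕ Fin m → F :=
  Sum.elim (fun k => (a k : F)) (fun k => ((a k)⁻¹ : Fˣ))

theorem dvec_mul_swap (a : Fin m → Fˣ) (x : Fin m ⊕ Fin m) : dvec a x * dvec a x.swap = 1 := by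
  cases x <;> simp [dvec]

theorem diagonal_mem (a : Fin m → Fˣ) :
    Matrix.diagonal (dvec a) ∈ Matrix.symplecticGroup (Fin m) F := by
  rw [SymplecticGroup.mem_iff]
  ext j k
  rw [Matrix.diagonal_transpose, Matrix.mul_diagonal, Matrix.diagonal_mul]
  by_cases h : k = j.swap
  · subst h
    rw [mul_comm (dvec a j), mul_assoc, dvec_mul_swap, mul_one]
  · rw [J_ne j k h]; ring

/-- the torus element with diagonal `dvec a` -/
def dg (a : Fin m → Fˣ) : Matrix.symplecticGroup (Fin m) F := ⟨Matrix.diagonal (dvec a), diagonal_mem a⟩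

theorem dg_apply (a : Fin m → Fˣ) (j : Fin m ⊕ Fin m) : (dg a).1 j j = dvec a j := by
  simp [dg]

theorem dg_isDiag (a : Fin m → Fˣ) : IsDiag (dg a).1 := by
  intro i j hji
  simp [dg, Matrix.diagonal_apply_ne _ hji]

theorem dg_mem (a : Fin m → Fˣ) : dg a ∈ TT m F := (mem_TT_iff _).2 (dg_isDiag a)

/-- there is a unit whose square is not one -/
theorem exists_sq_ne_one [Fintype F] (hq : 4 ≤ Fintype.card F) : ∃ x : Fˣ, x * x ≠ 1 := by
  classical
  by_contra h
  push Not at h
  have h1 : ∀ x : Fˣ, x = 1 ∨ x = -1 := by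
    intro x
    have := h x
    have h2 : ((x : F) - 1) * ((x : F) + 1) = 0 := by
      have h3 : (x : F) * x = 1 := by
        have := congrArg Units.val this
        rwa [Units.val_mul, Units.val_one] at this
      linear_combination h3
    rcases mul_eq_zero.1 h2 with h4 | h4
    · left; apply Units.ext
      rw [Units.val_one]; linear_combination h4
    · right; apply Units.ext
      rw [Units.val_neg, Units.val_one]; linear_combination h4
  have h5 : (Finset.univ : Finset Fˣ) ⊆ {1, -1} := by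
    intro x _
    rcases h1 x with rfl | rfl <;> simp
  have h6 := Finset.card_le_card h5
  have h7 : ({1, -1} : Finset Fˣ).card ≤ 2 := Finset.card_le_two
  rw [Finset.card_univ, Fintype.card_units] at h6
  omega

/-- a monomial matrix: every column has exactly one nonzero entry -/
def Mono (n : Matrix (Fin m ⊕ Fin m) (Fin m ⊕ Fin m) F) : Prop :=
  ∀ i, ∃ j, ∀ k, n k i ≠ 0 ↔ k = j

/-- the position of the nonzero entry of a column -/
noncomputable def sig (n : Matrix (Fin m ⊕ Fin m) (Fin m ⊕ Fin m) F) (h : Mono n)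
    (i : Fin m ⊕ Fin m) : Fin m ⊕ Fin m := (h i).choose

theorem sig_spec (n : Matrix (Fin m ⊕ Fin m) (Fin m ⊕ Fin m) F) (h : Mono n)
    (i k : Fin m ⊕ Fin m) : n k i ≠ 0 ↔ k = sig n h i := (h i).choose_spec k

theorem sig_ne (n : Matrix (Fin m ⊕ Fin m) (Fin m ⊕ Fin m) F) (h : Mono n)
    (i : Fin m ⊕ Fin m) : n (sig n h i) i ≠ 0 := (sig_spec n h i _).2 rfl

theorem sig_zero (n : Matrix (Fin m ⊕ Fin m) (Fin m ⊕ Fin m) F) (h : Mono n)
    (i k : Fin m ⊕ Fin m) (hk : k ≠ sig n h i) : n k i = 0 := by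
  by_contra h0
  exact hk ((sig_spec n h i k).1 h0)

theorem sig_eq (n : Matrix (Fin m ⊕ Fin m) (Fin m ⊕ Fin m) F) (h : Mono n)
    (i k : Fin m ⊕ Fin m) (hk : n k i ≠ 0) : sig n h i = k := ((sig_spec n h i k).1 hk).symm

theorem Mono.mul_apply {n : Matrix (Fin m ⊕ Fin m) (Fin m ⊕ Fin m) F} (h : Mono n)
    (M : Matrix (Fin m ⊕ Fin m) (Fin m ⊕ Fin m) F) (j i : Fin m ⊕ Fin m) :
    (M * n) j i = M j (sig n h i) * n (sig n h i) i := by
  rw [Matrix.mul_apply]
  exact Finset.sum_eq_single (sig n h i)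
    (fun k _ hk => by rw [sig_zero n h i k hk, mul_zero]) (by simp)

theorem isDiag_mono {n : Matrix.symplecticGroup (Fin m) F} (h : IsDiag n.1) : Mono n.1 := by
  intro i
  refine ⟨i, fun k => ⟨fun hk => ?_, fun hk => ?_⟩⟩
  · by_contra hki
    exact hk (h i k hki)
  · rw [hk]; exact h.ne_zero i

end Cfsg.Agent.Lead.SpWeyl
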