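import Mathlib
import Cfsg.Agent.Lead.SpBNA
import Cfsg.Agent.Lead.SpFusL
import Cfsg.Agent.Lead.SpWeylB
import Cfsg.Agent.Lead.SLBNC

set_option autoImplicit false

/-!
The `(B, N)`-pair of `Sp_{2m}(K)`, part B: the monomial subgroup, the generators, and the easy
axioms.
-/

namespace Cfsg.Agent.Lead.SpBN

open Matrix Cfsg.Agent.Lead.SpFus

section general

variable {K : Type*} [Field K] {m : ℕ}

/-- The non-zero entries of a monomial symplectic matrix. -/
theorem sp_entry_ne_zero {g : symplecticGroup (Fin m) K} {σ : Equiv.Perm (Fin m ⊕ Fin m)}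
    (h : MonoQ σ (g : Matrix (Fin m ⊕ Fin m) (Fin m ⊕ Fin m) K)) (j : Fin m ⊕ Fin m) :
    (g : Matrix (Fin m ⊕ Fin m) (Fin m ⊕ Fin m) K) (σ j) j ≠ 0 := by
  intro h0
  have hdet : (g : Matrix (Fin m ⊕ Fin m) (Fin m ⊕ Fin m) K).det = 0 := by
    apply Matrix.det_eq_zero_of_column_eq_zero j
    intro i
    by_cases hi : i = σ j
    · rw [hi]
      exact h0
    · exact h i j hi
  have hu := SymplecticGroup.symplectic_det g.2
  rw [hdet] at hu
  exact not_isUnit_zero hu

/-- The inverse of a monomial symplectic matrix is monomial. -/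
theorem mono_inv {g : symplecticGroup (Fin m) K} {σ : Equiv.Perm (Fin m ⊕ Fin m)}
    (h : MonoQ σ (g : Matrix (Fin m ⊕ Fin m) (Fin m ⊕ Fin m) K)) :
    MonoQ σ⁻¹ ((g⁻¹ : symplecticGroup (Fin m) K) :
      Matrix (Fin m ⊕ Fin m) (Fin m ⊕ Fin m) K) := by
  intro i c hic
  have h1 := congrFun (congrFun (coe_inv_mul g) i) (σ⁻¹ c)
  rw [mul_mono_apply h, perm_apply_inv, one_apply_ne hic] at h1
  have h2 := sp_entry_ne_zero h (σ⁻¹ c)
  rw [perm_apply_inv] at h2
  exact (mul_eq_zero.mp h1).resolve_right h2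

theorem pattern_unique {g : symplecticGroup (Fin m) K} {σ τ : Equiv.Perm (Fin m ⊕ Fin m)}
    (h : MonoQ σ (g : Matrix (Fin m ⊕ Fin m) (Fin m ⊕ Fin m) K))
    (h' : MonoQ τ (g : Matrix (Fin m ⊕ Fin m) (Fin m ⊕ Fin m) K)) : σ = τ := by
  apply Equiv.ext
  intro j
  by_contra hne
  exact sp_entry_ne_zero h j (h' _ _ hne)

/-- The pattern of a monomial symplectic matrix commutes with the swap of the two sides. -/
theorem pattern_swap {g : symplecticGroup (Fin m) K} {σ : Equiv.Perm (Fin m ⊕ Fin m)}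
    (h : MonoQ σ (g : Matrix (Fin m ⊕ Fin m) (Fin m ⊕ Fin m) K)) (a : Fin m ⊕ Fin m) :
    σ a.swap = (σ a).swap := by
  have h1 := SymplecticGroup.mem_iff'.1 g.2
  rw [Matrix.mul_assoc] at h1
  have h2 := congrFun (congrFun h1 a) a.swap
  rw [Matrix.mul_apply, Cfsg.Agent.Lead.SpWeyl.J_swap, Finset.sum_eq_single (σ a)] at h2
  · rw [Matrix.transpose_apply, Cfsg.Agent.Lead.SpWeyl.J_mul_apply] at h2
    by_contra hne
    have h0 : (g : Matrix (Fin m ⊕ Fin m) (Fin m ⊕ Fin m) K) (σ a).swap a.swap = 0 :=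
      h _ _ (fun e => hne e.symm)
    rw [h0, mul_zero, mul_zero] at h2
    exact Cfsg.Agent.Lead.SpWeyl.sgn_ne_zero a h2.symm
  · intro r _ hr
    rw [Matrix.transpose_apply, h r a hr, zero_mul]
  · intro hh
    exact absurd (Finset.mem_univ _) hh

/-- The monomial subgroup. -/
def Nsub (K : Type*) [Field K] (m : ℕ) : Subgroup (symplecticGroup (Fin m) K) where
  carrier := {g | ∃ σ : Equiv.Perm (Fin m ⊕ Fin m),
    MonoQ σ (g : Matrix (Fin m ⊕ Fin m) (Fin m ⊕ Fin m) K)}
  mul_mem' := by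
    rintro a b ⟨σ, h1⟩ ⟨τ, h3⟩
    exact ⟨σ * τ, h1.mul h3⟩
  one_mem' := ⟨1, MonoQ.one⟩
  inv_mem' := by
    rintro a ⟨σ, h1⟩
    exact ⟨σ⁻¹, mono_inv h1⟩

theorem mem_Nsub {g : symplecticGroup (Fin m) K} :
    g ∈ Nsub K m ↔ ∃ σ : Equiv.Perm (Fin m ⊕ Fin m),
      MonoQ σ (g : Matrix (Fin m ⊕ Fin m) (Fin m ⊕ Fin m) K) := Iff.rfl

theorem perm_eq_one_of_mono_upper {g : symplecticGroup (Fin m) K}
    {σ : Equiv.Perm (Fin m ⊕ Fin m)}
    (h : MonoQ σ (g : Matrix (Fin m ⊕ Fin m) (Fin m ⊕ Fin m) K)) (hB : g ∈ Bsub K m) : σ = 1 := by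
  apply perm_eq_one_of_le (rho m) (rho_injective m)
  intro j
  by_contra hlt
  rw [not_le] at hlt
  exact sp_entry_ne_zero h j (hB hlt)

theorem mono_one_of_mem_inf {g : symplecticGroup (Fin m) K} (hg : g ∈ Bsub K m ⊓ Nsub K m) :
    MonoQ (1 : Equiv.Perm (Fin m ⊕ Fin m))
      (g : Matrix (Fin m ⊕ Fin m) (Fin m ⊕ Fin m) K) := by
  obtain ⟨hB, σ, h1⟩ := hg
  have hσ : σ = 1 := perm_eq_one_of_mono_upper h1 hB
  subst hσ
  exact h1

theorem mem_inf_of_mono_one {g : symplecticGroup (Fin m) K}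
    (h1 : MonoQ (1 : Equiv.Perm (Fin m ⊕ Fin m))
      (g : Matrix (Fin m ⊕ Fin m) (Fin m ⊕ Fin m) K)) : g ∈ Bsub K m ⊓ Nsub K m :=
  ⟨upper_of_mono_one (rho m) h1, 1, h1⟩

/-- `B ⊓ N` is normalised by `N`. -/
theorem conj_mem_Bsub {n t : symplecticGroup (Fin m) K} (hn : n ∈ Nsub K m)
    (ht : t ∈ Bsub K m ⊓ Nsub K m) : n * t * n⁻¹ ∈ Bsub K m := by
  obtain ⟨σ, h1⟩ := hn
  have ht1 := mono_one_of_mem_inf ht
  rw [mem_Bsub]
  apply upper_of_mono_one
  have h3 := (h1.mul ht1).mul (mono_inv h1)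
  rw [mul_one, mul_inv_cancel] at h3
  exact h3

/-- The longest element. -/
def w0 (K : Type*) [Field K] (m : ℕ) : symplecticGroup (Fin m) K :=
  ⟨J (Fin m) K, SymplecticGroup.J_mem _ _⟩

theorem w0_coe : ((w0 K m : symplecticGroup (Fin m) K) :
    Matrix (Fin m ⊕ Fin m) (Fin m ⊕ Fin m) K) = J (Fin m) K := rfl

/-- The swap of the two sides, as a permutation. -/
def swp (m : ℕ) : Equiv.Perm (Fin m ⊕ Fin m) := Equiv.sumComm (Fin m) (Fin m)

theorem swp_apply (a : Fin m ⊕ Fin m) : swp m a = a.swap := rfl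

theorem swp_inv : (swp m)⁻¹ = swp m := by
  apply Equiv.ext
  intro a
  rw [Equiv.Perm.inv_eq_iff_eq, swp_apply, swp_apply, Sum.swap_swap]

theorem w0_mono : MonoQ (swp m) ((w0 K m : symplecticGroup (Fin m) K) :
    Matrix (Fin m ⊕ Fin m) (Fin m ⊕ Fin m) K) := by
  intro i j hij
  rw [w0_coe]
  apply Cfsg.Agent.Lead.SpWeyl.J_ne
  intro e
  apply hij
  rw [swp_apply, e, Sum.swap_swap]

theorem w0_mem_Nsub : w0 K m ∈ Nsub K m := ⟨_, w0_mono⟩

/-- The order is reversed by the swap. -/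
theorem rho_swap (a : Fin m ⊕ Fin m) : rho m a.swap = 2 * m - 1 - rho m a := by
  rcases a with a | a
  · rw [Sum.swap_inl, rho_inr, rho_inl]
  · rw [Sum.swap_inr, rho_inr, rho_inl]
    have := a.2
    omega

theorem rho_swap_lt {a b : Fin m ⊕ Fin m} : rho m a.swap < rho m b.swap ↔ rho m b < rho m a := by
  rw [rho_swap, rho_swap]
  have := rho_lt a
  have := rho_lt b
  omega

end general

section gens

variable {K : Type*} [Field K] {k : ℕ}

/-- The representatives of the fundamental reflections. -/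
noncomputable def gen (K : Type*) [Field K] {k : ℕ} :
    Option (Fin k) → symplecticGroup (Fin (k + 1)) K
  | some i => levSL (Cfsg.Agent.Lead.SLBN.sgen K i)
  | none => wS K (Fin.last k)

/-- Their patterns. -/
def genPat {k : ℕ} : Option (Fin k) → Equiv.Perm (Fin (k + 1) ⊕ Fin (k + 1))
  | some i => pS i
  | none => cS (Fin.last k)

theorem levSL_coe (A : Matrix.SpecialLinearGroup (Fin (k + 1)) K) :
    ((levSL A : symplecticGroup (Fin (k + 1)) K) :
      Matrix (Fin (k + 1) ⊕ Fin (k + 1)) (Fin (k + 1) ⊕ Fin (k + 1)) K) =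
      fromBlocks (A : Matrix (Fin (k + 1)) (Fin (k + 1)) K) 0 0
        ((A⁻¹ : Matrix.SpecialLinearGroup (Fin (k + 1)) K) :
          Matrix (Fin (k + 1)) (Fin (k + 1)) K)ᵀ := by
  change ((levGL (Matrix.SpecialLinearGroup.toGL A) : symplecticGroup (Fin (k + 1)) K) :
      Matrix (Fin (k + 1) ⊕ Fin (k + 1)) (Fin (k + 1) ⊕ Fin (k + 1)) K) = _
  rw [levGL_coe, ← map_inv]
  rfl

theorem wS_mono (l : Fin (k + 1)) : MonoQ (cS l)
    ((wS K l : symplecticGroup (Fin (k + 1)) K) :
      Matrix (Fin (k + 1) ⊕ Fin (k + 1)) (Fin (k + 1) ⊕ Fin (k + 1)) K) := by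
  rw [wS_coe]
  unfold cS
  rintro (a | a) (b | b) hab
  · rw [fromBlocks_apply₁₁, Matrix.sub_apply]
    by_cases hb : b = l
    · subst hb
      by_cases ha : a = b
      · subst ha
        rw [one_apply_eq, single_apply_same, sub_self]
      · rw [one_apply_ne ha, single_apply_of_ne _ _ _ _ _ (fun h => ha h.1.symm), sub_zero]
    · have hne : a ≠ b := by
        intro e
        apply hab
        rw [e, Equiv.swap_apply_of_ne_of_ne (fun h => hb (Sum.inl.inj h)) (by simp)]
      rw [one_apply_ne hne, single_apply_of_ne _ _ _ _ _ (fun h => hb h.2.symm), sub_zero]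
  · rw [fromBlocks_apply₁₂]
    apply single_apply_of_ne
    rintro ⟨rfl, rfl⟩
    apply hab
    rw [Equiv.swap_apply_right]
  · rw [fromBlocks_apply₂₁]
    apply single_apply_of_ne
    rintro ⟨rfl, rfl⟩
    apply hab
    rw [Equiv.swap_apply_left]
  · rw [fromBlocks_apply₂₂, Matrix.sub_apply]
    by_cases hb : b = l
    · subst hb
      by_cases ha : a = b
      · subst ha
        rw [one_apply_eq, single_apply_same, sub_self]
      · rw [one_apply_ne ha, single_apply_of_ne _ _ _ _ _ (fun h => ha h.1.symm), sub_zero]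
    · have hne : a ≠ b := by
        intro e
        apply hab
        rw [e, Equiv.swap_apply_of_ne_of_ne (by simp) (fun h => hb (Sum.inr.inj h))]
      rw [one_apply_ne hne, single_apply_of_ne _ _ _ _ _ (fun h => hb h.2.symm), sub_zero]

theorem gen_mono (o : Option (Fin k)) : MonoQ (genPat o)
    ((gen K o : symplecticGroup (Fin (k + 1)) K) :
      Matrix (Fin (k + 1) ⊕ Fin (k + 1)) (Fin (k + 1) ⊕ Fin (k + 1)) K) := by
  rcases o with _ | i
  · exact wS_mono (Fin.last k)
  · change MonoQ (pS i) ((levSL (Cfsg.Agent.Lead.SLBN.sgen K i) :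
      symplecticGroup (Fin (k + 1)) K) :
      Matrix (Fin (k + 1) ⊕ Fin (k + 1)) (Fin (k + 1) ⊕ Fin (k + 1)) K)
    rw [levSL_coe]
    have hA : MonoQ (Equiv.swap i.castSucc i.succ)
        ((Cfsg.Agent.Lead.SLBN.sgen K i : Matrix.SpecialLinearGroup (Fin (k + 1)) K) :
          Matrix (Fin (k + 1)) (Fin (k + 1)) K) :=
      fun a b hab => Cfsg.Agent.Lead.SLBN.sgen_monoP i a b hab
    have hD0 : MonoQ (Equiv.swap i.castSucc i.succ)⁻¹
        (((Cfsg.Agent.Lead.SLBN.sgen K i)⁻¹ : Matrix.SpecialLinearGroup (Fin (k + 1)) K) :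
          Matrix (Fin (k + 1)) (Fin (k + 1)) K) :=
      fun a b hab => Cfsg.Agent.Lead.SLBN.sgen_inv_monoP i a b hab
    have hD := hD0.transpose
    rw [inv_inv] at hD
    exact MonoQ.fromBlocks hA hD

theorem genPat_mul_self (o : Option (Fin k)) : genPat o * genPat o = 1 := by
  rcases o with _ | i
  · exact Equiv.swap_mul_self _ _
  · change pS i * pS i = 1
    unfold pS
    rw [Equiv.Perm.sumCongr_mul, Equiv.swap_mul_self, Equiv.Perm.sumCongr_one]

theorem genPat_inv (o : Option (Fin k)) : (genPat o)⁻¹ = genPat o :=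
  inv_eq_of_mul_eq_one_left (genPat_mul_self o)

theorem gen_inv_mono (o : Option (Fin k)) : MonoQ (genPat o)
    (((gen K o)⁻¹ : symplecticGroup (Fin (k + 1)) K) :
      Matrix (Fin (k + 1) ⊕ Fin (k + 1)) (Fin (k + 1) ⊕ Fin (k + 1)) K) := by
  have h := mono_inv (gen_mono (K := K) o)
  rw [genPat_inv] at h
  exact h

theorem gen_mem_Nsub (o : Option (Fin k)) : gen K o ∈ Nsub K (k + 1) := ⟨_, gen_mono o⟩

/-- The set of the representatives. -/
def Ssub (K : Type*) [Field K] (k : ℕ) : Set (symplecticGroup (Fin (k + 1)) K) :=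
  Set.range (gen K)

theorem Ssub_subset : Ssub K k ⊆ (Nsub K (k + 1) : Set (symplecticGroup (Fin (k + 1)) K)) := by
  rintro _ ⟨o, rfl⟩
  exact gen_mem_Nsub o

theorem gen_sq_mem (o : Option (Fin k)) : gen K o * gen K o ∈ Bsub K (k + 1) := by
  rw [mem_Bsub]
  apply upper_of_mono_one
  have h := (gen_mono (K := K) o).mul (gen_mono (K := K) o)
  rw [genPat_mul_self] at h
  exact h

theorem genPat_injective {o o' : Option (Fin k)} (h : genPat o = genPat o') : o = o' := by
  rcases o with _ | i <;> rcases o' with _ | j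
  · rfl
  · exfalso
    have h1 := congrArg (fun π : Equiv.Perm (Fin (k + 1) ⊕ Fin (k + 1)) =>
      π (Sum.inl (Fin.last k))) h
    change cS (Fin.last k) (Sum.inl (Fin.last k)) = pS j (Sum.inl (Fin.last k)) at h1
    unfold cS pS at h1
    rw [Equiv.swap_apply_left, Equiv.sumCongr_apply, Sum.map_inl] at h1
    exact Sum.inr_ne_inl h1
  · exfalso
    have h1 := congrArg (fun π : Equiv.Perm (Fin (k + 1) ⊕ Fin (k + 1)) =>
      π (Sum.inl (Fin.last k))) h
    change pS i (Sum.inl (Fin.last k)) = cS (Fin.last k) (Sum.inl (Fin.last k)) at h1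
    unfold cS pS at h1
    rw [Equiv.swap_apply_left, Equiv.sumCongr_apply, Sum.map_inl] at h1
    exact Sum.inl_ne_inr h1
  · congr 1
    apply Cfsg.Agent.Lead.SLBN.adj_swap_injective
    apply Equiv.ext
    intro x
    have h1 := congrArg (fun π : Equiv.Perm (Fin (k + 1) ⊕ Fin (k + 1)) => π (Sum.inl x)) h
    change pS i (Sum.inl x) = pS j (Sum.inl x) at h1
    unfold pS at h1
    rw [Equiv.sumCongr_apply, Equiv.sumCongr_apply, Sum.map_inl, Sum.map_inl] at h1
    exact Sum.inl.inj h1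

theorem gen_inj {o o' : Option (Fin k)} (h : (gen K o)⁻¹ * gen K o' ∈ Bsub K (k + 1)) :
    o = o' := by
  have h1 := (gen_inv_mono (K := K) o).mul (gen_mono (K := K) o')
  have h2 := perm_eq_one_of_mono_upper (g := (gen K o)⁻¹ * gen K o') h1 h
  apply genPat_injective
  have h3 : genPat o * (genPat o * genPat o') = genPat o * 1 := by rw [h2]
  rw [← mul_assoc, genPat_mul_self, one_mul, mul_one] at h3
  exact h3.symm

/-- `N` is generated by the representatives and `B ⊓ N`. -/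
theorem closure_sup_eq :
    Subgroup.closure (Ssub K k) ⊔ (Bsub K (k + 1) ⊓ Nsub K (k + 1)) = Nsub K (k + 1) := by
  apply le_antisymm
  · exact sup_le ((Subgroup.closure_le _).mpr Ssub_subset) inf_le_right
  · intro g hg
    obtain ⟨σ, h1⟩ := hg
    have hσ : σ ∈ Submonoid.closure (genP k) := signed_mem_closure σ (pattern_swap h1)
    have key : ∀ σ ∈ Submonoid.closure (genP k), ∀ g : symplecticGroup (Fin (k + 1)) K,
        MonoQ σ (g : Matrix (Fin (k + 1) ⊕ Fin (k + 1)) (Fin (k + 1) ⊕ Fin (k + 1)) K) →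
        g ∈ Subgroup.closure (Ssub K k) ⊔ (Bsub K (k + 1) ⊓ Nsub K (k + 1)) := by
      intro σ hσ
      induction hσ using Submonoid.closure_induction_left with
      | one =>
        intro g h1
        exact Subgroup.mem_sup_right (mem_inf_of_mono_one h1)
      | mul_left x hx y hy ih =>
        intro g h1
        obtain ⟨o, rfl⟩ : ∃ o : Option (Fin k), genPat o = x := by
          rcases hx with ⟨i, rfl⟩ | hx
          · exact ⟨some i, rfl⟩
          · exact ⟨none, hx.symm⟩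
        have e : g = gen K o * ((gen K o)⁻¹ * g) := by group
        rw [e]
        apply Subgroup.mul_mem
        · exact Subgroup.mem_sup_left (Subgroup.subset_closure ⟨o, rfl⟩)
        · apply ih
          have h3 := (gen_inv_mono (K := K) o).mul h1
          rw [← mul_assoc, genPat_mul_self, one_mul] at h3
          exact h3
    exact key σ hσ g h1

end gens

end Cfsg.Agent.Lead.SpBN
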