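import Mathlib
import Cfsg.Agent.Lead.SpBNB

set_option autoImplicit false

/-!
The `(B, N)`-pair of `Sp_{2m}(K)`, part C: root elements, conjugation by monomial matrices, and the
ingredients of the double coset axiom.
-/

namespace Cfsg.Agent.Lead.SpBN

open Matrix Cfsg.Agent.Lead.SpFus

section abstract

variable {G : Type*} [Group G] {K : Type*} [Field K]

/-- The rank one argument behind the double coset axiom. -/
theorem union_of_rank_one (B : Subgroup G) {s n b : G} (x y : K → G)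
    (hx0 : x 0 = 1) (hxinv : ∀ c, (x c)⁻¹ = x (-c)) (hyinv : ∀ c, (y c)⁻¹ = y (-c))
    (hclear : ∃ t, s * (b * x t) * s⁻¹ ∈ B)
    (hrank : ∀ c, c ≠ 0 → s * x c * y (-c⁻¹) ∈ B)
    (hdich : (∀ c, n⁻¹ * x c * n ∈ B) ∨ (∀ c, n⁻¹ * y c * n ∈ B)) :
    s * b * n ∈ DoubleCoset.doubleCoset (s * n) (B : Set G) B ∪
      DoubleCoset.doubleCoset n (B : Set G) B := by
  obtain ⟨t, ht⟩ := hclear
  rcases hdich with hd | hd
  · left
    rw [DoubleCoset.mem_doubleCoset]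
    refine ⟨_, ht, _, hd (-t), ?_⟩
    rw [← hxinv]
    group
  · by_cases ht0 : t = 0
    · left
      rw [ht0, hx0, mul_one] at ht
      rw [DoubleCoset.mem_doubleCoset]
      refine ⟨_, ht, 1, B.one_mem, ?_⟩
      group
    · right
      have hc : -t ≠ 0 := neg_ne_zero.mpr ht0
      have hU := hrank (-t) hc
      have hy := hd ((-t)⁻¹)
      rw [DoubleCoset.mem_doubleCoset]
      refine ⟨_, B.mul_mem ht hU, _, hy, ?_⟩
      have e1 : y ((-t)⁻¹) = (y (-(-t)⁻¹))⁻¹ := by rw [hyinv, neg_neg]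
      rw [e1, ← hxinv]
      group

/-- The positive case of the rank one argument. -/
theorem mem_of_pos (B : Subgroup G) {s n b : G} (x : K → G) (hxinv : ∀ c, (x c)⁻¹ = x (-c))
    (hclear : ∃ t, s * (b * x t) * s⁻¹ ∈ B) (hd : ∀ c, n⁻¹ * x c * n ∈ B) :
    s * b * n ∈ DoubleCoset.doubleCoset (s * n) (B : Set G) B := by
  obtain ⟨t, ht⟩ := hclear
  rw [DoubleCoset.mem_doubleCoset]
  refine ⟨_, ht, _, hd (-t), ?_⟩
  rw [← hxinv]
  group

end abstract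

section conj

variable {K : Type*} [Field K] {m : ℕ}

theorem conj_inv_apply {n : symplecticGroup (Fin m) K} {σ : Equiv.Perm (Fin m ⊕ Fin m)}
    (h1 : MonoQ σ (n : Matrix (Fin m ⊕ Fin m) (Fin m ⊕ Fin m) K))
    (g : symplecticGroup (Fin m) K) (r c : Fin m ⊕ Fin m) :
    ((n⁻¹ * g * n : symplecticGroup (Fin m) K) :
      Matrix (Fin m ⊕ Fin m) (Fin m ⊕ Fin m) K) r c =
      ((n⁻¹ : symplecticGroup (Fin m) K) : Matrix (Fin m ⊕ Fin m) (Fin m ⊕ Fin m) K) r (σ r) *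
        (g : Matrix (Fin m ⊕ Fin m) (Fin m ⊕ Fin m) K) (σ r) (σ c) *
        (n : Matrix (Fin m ⊕ Fin m) (Fin m ⊕ Fin m) K) (σ c) c := by
  have h1' : MonoQ (σ⁻¹)⁻¹ (n : Matrix (Fin m ⊕ Fin m) (Fin m ⊕ Fin m) K) := by
    rw [inv_inv]
    exact h1
  have := mono_conj_apply (mono_inv h1) h1' (g : Matrix (Fin m ⊕ Fin m) (Fin m ⊕ Fin m) K) r c
  rw [inv_inv] at this
  exact this

theorem conj_apply {n : symplecticGroup (Fin m) K} {σ : Equiv.Perm (Fin m ⊕ Fin m)}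
    (h1 : MonoQ σ (n : Matrix (Fin m ⊕ Fin m) (Fin m ⊕ Fin m) K))
    (g : symplecticGroup (Fin m) K) (r c : Fin m ⊕ Fin m) :
    ((n * g * n⁻¹ : symplecticGroup (Fin m) K) :
      Matrix (Fin m ⊕ Fin m) (Fin m ⊕ Fin m) K) r c =
      (n : Matrix (Fin m ⊕ Fin m) (Fin m ⊕ Fin m) K) r (σ⁻¹ r) *
        (g : Matrix (Fin m ⊕ Fin m) (Fin m ⊕ Fin m) K) (σ⁻¹ r) (σ⁻¹ c) *
        ((n⁻¹ : symplecticGroup (Fin m) K) :
          Matrix (Fin m ⊕ Fin m) (Fin m ⊕ Fin m) K) (σ⁻¹ c) c :=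
  mono_conj_apply h1 (mono_inv h1) (g : Matrix (Fin m ⊕ Fin m) (Fin m ⊕ Fin m) K) r c

/-- An element whose off-diagonal support is made increasing by `σ⁻¹` is conjugated into `B` by
`n⁻¹`. -/
theorem conj_inv_mem {n : symplecticGroup (Fin m) K} {σ : Equiv.Perm (Fin m ⊕ Fin m)}
    (h1 : MonoQ σ (n : Matrix (Fin m ⊕ Fin m) (Fin m ⊕ Fin m) K))
    {g : symplecticGroup (Fin m) K}
    (hg : ∀ r c, r ≠ c → (g : Matrix (Fin m ⊕ Fin m) (Fin m ⊕ Fin m) K) r c ≠ 0 →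
      rho m (σ⁻¹ r) < rho m (σ⁻¹ c)) : n⁻¹ * g * n ∈ Bsub K m := by
  rw [mem_Bsub]
  intro r c hcr
  rw [conj_inv_apply h1]
  have hne : σ r ≠ σ c := by
    intro e
    rw [σ.injective e] at hcr
    exact lt_irrefl _ hcr
  by_cases h0 : (g : Matrix (Fin m ⊕ Fin m) (Fin m ⊕ Fin m) K) (σ r) (σ c) = 0
  · rw [h0, mul_zero, zero_mul]
  · exfalso
    have := hg _ _ hne h0
    rw [perm_inv_apply, perm_inv_apply] at this
    exact lt_asymm this hcr

/-- Conjugation by a monomial matrix keeps in `B` the elements of `B` whose entries at the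
inverted positions vanish. -/
theorem conj_mem_of_inverted {s : symplecticGroup (Fin m) K} {π : Equiv.Perm (Fin m ⊕ Fin m)}
    (h1 : MonoQ π (s : Matrix (Fin m ⊕ Fin m) (Fin m ⊕ Fin m) K))
    {b : symplecticGroup (Fin m) K} (hb : b ∈ Bsub K m)
    (h0 : ∀ r c, rho m c < rho m r → rho m (π⁻¹ r) < rho m (π⁻¹ c) →
      (b : Matrix (Fin m ⊕ Fin m) (Fin m ⊕ Fin m) K) (π⁻¹ r) (π⁻¹ c) = 0) :
    s * b * s⁻¹ ∈ Bsub K m := by
  rw [mem_Bsub]
  intro r c hcr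
  rw [conj_apply h1]
  have hne : π⁻¹ r ≠ π⁻¹ c := by
    intro e
    rw [(π⁻¹).injective e] at hcr
    exact lt_irrefl _ hcr
  have hz : (b : Matrix (Fin m ⊕ Fin m) (Fin m ⊕ Fin m) K) (π⁻¹ r) (π⁻¹ c) = 0 := by
    rcases lt_or_gt_of_ne (fun e => hne (rho_injective m e)) with hlt | hgt
    · exact h0 r c hcr hlt
    · exact hb hgt
  rw [hz, mul_zero, zero_mul]

theorem pattern_inv_swap {n : symplecticGroup (Fin m) K} {σ : Equiv.Perm (Fin m ⊕ Fin m)}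
    (h1 : MonoQ σ (n : Matrix (Fin m ⊕ Fin m) (Fin m ⊕ Fin m) K)) (a : Fin m ⊕ Fin m) :
    σ⁻¹ a.swap = (σ⁻¹ a).swap := pattern_swap (mono_inv h1) a

theorem xl_coe (i : Fin m) (c : K) :
    ((xl i c : symplecticGroup (Fin m) K) : Matrix (Fin m ⊕ Fin m) (Fin m ⊕ Fin m) K) =
      1 + single (Sum.inl i) (Sum.inr i) c := by
  show fromBlocks 1 (single i i c) 0 1 = _
  ext (a | a) (b | b)
  · simp [Matrix.add_apply, single_apply, one_apply]
  · simp only [fromBlocks_apply₁₂, Matrix.add_apply, single_apply]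
    rw [one_apply_ne (by simp), zero_add]
    simp
  · simp [Matrix.add_apply, single_apply]
  · simp [Matrix.add_apply, single_apply, one_apply]

theorem conj_xs_mem {n : symplecticGroup (Fin m) K} {σ : Equiv.Perm (Fin m ⊕ Fin m)}
    (h1 : MonoQ σ (n : Matrix (Fin m ⊕ Fin m) (Fin m ⊕ Fin m) K)) {i j : Fin m} (hij : i ≠ j)
    (hlt : rho m (σ⁻¹ (Sum.inl i)) < rho m (σ⁻¹ (Sum.inl j))) (c : K) :
    n⁻¹ * xs i j hij c * n ∈ Bsub K m := by
  apply conj_inv_mem h1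
  intro r s hrs hne
  rw [xs_coe_single, Matrix.add_apply, Matrix.add_apply, one_apply_ne hrs, zero_add] at hne
  by_cases h2 : Sum.inl i = r ∧ Sum.inl j = s
  · obtain ⟨rfl, rfl⟩ := h2
    exact hlt
  · rw [single_apply_of_ne _ _ _ _ _ h2, zero_add] at hne
    by_cases h3 : Sum.inr j = r ∧ Sum.inr i = s
    · obtain ⟨rfl, rfl⟩ := h3
      have e1 : (Sum.inr j : Fin m ⊕ Fin m) = (Sum.inl j : Fin m ⊕ Fin m).swap := rfl
      have e2 : (Sum.inr i : Fin m ⊕ Fin m) = (Sum.inl i : Fin m ⊕ Fin m).swap := rfl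
      rw [e1, e2, pattern_inv_swap h1, pattern_inv_swap h1, rho_swap_lt]
      exact hlt
    · rw [single_apply_of_ne _ _ _ _ _ h3] at hne
      exact absurd rfl hne

theorem conj_xl_mem {n : symplecticGroup (Fin m) K} {σ : Equiv.Perm (Fin m ⊕ Fin m)}
    (h1 : MonoQ σ (n : Matrix (Fin m ⊕ Fin m) (Fin m ⊕ Fin m) K)) (i : Fin m)
    (hlt : rho m (σ⁻¹ (Sum.inl i)) < rho m (σ⁻¹ (Sum.inr i))) (c : K) :
    n⁻¹ * xl i c * n ∈ Bsub K m := by
  apply conj_inv_mem h1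
  intro r s hrs hne
  rw [xl_coe, Matrix.add_apply, one_apply_ne hrs, zero_add] at hne
  by_cases h2 : Sum.inl i = r ∧ Sum.inr i = s
  · obtain ⟨rfl, rfl⟩ := h2
    exact hlt
  · rw [single_apply_of_ne _ _ _ _ _ h2] at hne
    exact absurd rfl hne

theorem conj_yl_mem {n : symplecticGroup (Fin m) K} {σ : Equiv.Perm (Fin m ⊕ Fin m)}
    (h1 : MonoQ σ (n : Matrix (Fin m ⊕ Fin m) (Fin m ⊕ Fin m) K)) (i : Fin m)
    (hlt : rho m (σ⁻¹ (Sum.inr i)) < rho m (σ⁻¹ (Sum.inl i))) (c : K) :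
    n⁻¹ * yl i c * n ∈ Bsub K m := by
  apply conj_inv_mem h1
  intro r s hrs hne
  rw [yl_coe, Matrix.add_apply, one_apply_ne hrs, zero_add] at hne
  by_cases h2 : Sum.inr i = r ∧ Sum.inl i = s
  · obtain ⟨rfl, rfl⟩ := h2
    exact hlt
  · rw [single_apply_of_ne _ _ _ _ _ h2] at hne
    exact absurd rfl hne

theorem xs_inv (i j : Fin m) (hij : i ≠ j) (c : K) : (xs i j hij c)⁻¹ = xs i j hij (-c) := by
  rw [inv_eq_iff_mul_eq_one, xs_mul, add_neg_cancel, xs_zero]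

theorem xl_inv (i : Fin m) (c : K) : (xl i c)⁻¹ = xl i (-c) := by
  rw [inv_eq_iff_mul_eq_one, xl_mul, add_neg_cancel, xl_zero]

theorem diag_ne_zero {b : symplecticGroup (Fin m) K} (hb : b ∈ Bsub K m) (i : Fin m) :
    (b : Matrix (Fin m ⊕ Fin m) (Fin m ⊕ Fin m) K) (Sum.inl i) (Sum.inl i) ≠ 0 := by
  intro h
  have := diag_inl_mul_inr hb i
  rw [h, zero_mul] at this
  exact zero_ne_one this

/-- Clearing an entry in the row `inl i` by a root element. -/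
theorem clear_entry {b x : symplecticGroup (Fin m) K} (i : Fin m) (a : Fin m ⊕ Fin m)
    (hia : Sum.inl i ≠ a) (t : K) (E : Matrix (Fin m ⊕ Fin m) (Fin m ⊕ Fin m) K)
    (hx : (x : Matrix (Fin m ⊕ Fin m) (Fin m ⊕ Fin m) K) = 1 + single (Sum.inl i) a t + E)
    (hE : ∀ r, E r a = 0) :
    ((b * x : symplecticGroup (Fin m) K) : Matrix (Fin m ⊕ Fin m) (Fin m ⊕ Fin m) K)
      (Sum.inl i) a =
      (b : Matrix (Fin m ⊕ Fin m) (Fin m ⊕ Fin m) K) (Sum.inl i) a +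
      (b : Matrix (Fin m ⊕ Fin m) (Fin m ⊕ Fin m) K) (Sum.inl i) (Sum.inl i) * t := by
  change ((b : Matrix (Fin m ⊕ Fin m) (Fin m ⊕ Fin m) K) *
    (x : Matrix (Fin m ⊕ Fin m) (Fin m ⊕ Fin m) K)) (Sum.inl i) a = _
  rw [hx, Matrix.mul_add, Matrix.mul_add, Matrix.mul_one, Matrix.add_apply, Matrix.add_apply,
    mul_single_apply_same]
  have : ((b : Matrix (Fin m ⊕ Fin m) (Fin m ⊕ Fin m) K) * E) (Sum.inl i) a = 0 := by
    rw [Matrix.mul_apply]
    apply Finset.sum_eq_zero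
    intro r _
    rw [hE, mul_zero]
  rw [this, add_zero]

end conj

end Cfsg.Agent.Lead.SpBN
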