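import Mathlib
import Cfsg.Agent.Lead.SpBNC
import Cfsg.Prelude.Def_LieExceptional

set_option autoImplicit false

/-!
The `(B, N)`-pair of `Sp_{2m}(K)`, part D: the double coset axiom for the two kinds of generators.
-/

namespace Cfsg.Agent.Lead.SpBN

open Matrix Cfsg.Agent.Lead.SpFus

variable {K : Type*} [Field K] {k : ℕ}

/-- The positive root elements of the generators. -/
def xo (K : Type*) [Field K] {k : ℕ} : Option (Fin k) → K → symplecticGroup (Fin (k + 1)) K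
  | some i => fun c => xs i.castSucc i.succ (Cfsg.Agent.Lead.SLBN.adj_ne i) c
  | none => fun c => xl (Fin.last k) c

/-- The negative root elements of the generators. -/
def yo (K : Type*) [Field K] {k : ℕ} : Option (Fin k) → K → symplecticGroup (Fin (k + 1)) K
  | some i => fun c => xs i.succ i.castSucc (Cfsg.Agent.Lead.SLBN.adj_ne i).symm c
  | none => fun c => yl (Fin.last k) c

/-- The position of the root of a generator. -/
def pos {k : ℕ} : Option (Fin k) → (Fin (k + 1) ⊕ Fin (k + 1)) × (Fin (k + 1) ⊕ Fin (k + 1))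
  | some i => (Sum.inl i.castSucc, Sum.inl i.succ)
  | none => (Sum.inl (Fin.last k), Sum.inr (Fin.last k))

theorem xo_zero (o : Option (Fin k)) : xo K o 0 = 1 := by
  rcases o with _ | i
  · exact xl_zero _
  · exact xs_zero _ _ _

theorem xo_inv (o : Option (Fin k)) (c : K) : (xo K o c)⁻¹ = xo K o (-c) := by
  rcases o with _ | i
  · exact xl_inv _ _
  · exact xs_inv _ _ _ _

theorem yo_inv (o : Option (Fin k)) (c : K) : (yo K o c)⁻¹ = yo K o (-c) := by
  rcases o with _ | i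
  · exact yl_inv _ _
  · exact xs_inv _ _ _ _

theorem pos_lt (o : Option (Fin k)) : rho (k + 1) (pos o).1 < rho (k + 1) (pos o).2 := by
  rcases o with _ | i
  · exact rho_inl_lt_inr _ _
  · change rho (k + 1) (Sum.inl i.castSucc) < rho (k + 1) (Sum.inl i.succ)
    rw [rho_inl, rho_inl, Fin.val_succ]
    exact Nat.lt_succ_self _

theorem genPat_pos (o : Option (Fin k)) : genPat o (pos o).1 = (pos o).2 := by
  rcases o with _ | i
  · exact Equiv.swap_apply_left _ _
  · change pS i (Sum.inl i.castSucc) = Sum.inl i.succ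
    unfold pS
    rw [Equiv.sumCongr_apply, Sum.map_inl, Equiv.swap_apply_left]

theorem genPat_pos' (o : Option (Fin k)) : genPat o (pos o).2 = (pos o).1 := by
  rw [← genPat_pos, ← Equiv.Perm.mul_apply, genPat_mul_self, Equiv.Perm.one_apply]

theorem xo_apply_pos (o : Option (Fin k)) (c : K) :
    ((xo K o c : symplecticGroup (Fin (k + 1)) K) :
      Matrix (Fin (k + 1) ⊕ Fin (k + 1)) (Fin (k + 1) ⊕ Fin (k + 1)) K) (pos o).1 (pos o).2 = c := by
  rcases o with _ | i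
  · exact xl_apply _ _
  · exact xs_apply_inl _ _ _ _

theorem xo_mem (o : Option (Fin k)) (c : K) : xo K o c ∈ Bsub K (k + 1) := by
  rcases o with _ | i
  · change xl (Fin.last k) c ∈ _
    unfold xl
    exact Usub_le_Bsub (sieg_mem_Usub _ _)
  · exact Usub_le_Bsub (xs_mem_Usub Fin.castSucc_lt_succ c)

/-- The root elements conjugated into `B`, positive case. -/
theorem conj_xo_mem (o : Option (Fin k)) {n : symplecticGroup (Fin (k + 1)) K}
    {σ : Equiv.Perm (Fin (k + 1) ⊕ Fin (k + 1))}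
    (h1 : MonoQ σ (n : Matrix (Fin (k + 1) ⊕ Fin (k + 1)) (Fin (k + 1) ⊕ Fin (k + 1)) K))
    (hlt : rho (k + 1) (σ⁻¹ (pos o).1) < rho (k + 1) (σ⁻¹ (pos o).2)) (c : K) :
    n⁻¹ * xo K o c * n ∈ Bsub K (k + 1) := by
  rcases o with _ | i
  · exact conj_xl_mem h1 _ hlt c
  · exact conj_xs_mem h1 _ hlt c

/-- The root elements conjugated into `B`, negative case. -/
theorem conj_yo_mem (o : Option (Fin k)) {n : symplecticGroup (Fin (k + 1)) K}
    {σ : Equiv.Perm (Fin (k + 1) ⊕ Fin (k + 1))}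
    (h1 : MonoQ σ (n : Matrix (Fin (k + 1) ⊕ Fin (k + 1)) (Fin (k + 1) ⊕ Fin (k + 1)) K))
    (hlt : rho (k + 1) (σ⁻¹ (pos o).2) < rho (k + 1) (σ⁻¹ (pos o).1)) (c : K) :
    n⁻¹ * yo K o c * n ∈ Bsub K (k + 1) := by
  rcases o with _ | i
  · exact conj_yl_mem h1 _ hlt c
  · exact conj_xs_mem h1 _ hlt c

/-! ### The short roots -/

theorem levGL_mul_sieg_apply_inl (A : GL (Fin (k + 1)) K) (S : Matrix (Fin (k + 1)) (Fin (k + 1)) K)
    (hS : S.IsSymm) (a b : Fin (k + 1)) :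
    ((levGL A * sieg S hS : symplecticGroup (Fin (k + 1)) K) :
      Matrix (Fin (k + 1) ⊕ Fin (k + 1)) (Fin (k + 1) ⊕ Fin (k + 1)) K) (Sum.inl a) (Sum.inl b) =
      (A : Matrix (Fin (k + 1)) (Fin (k + 1)) K) a b := by
  change (((levGL A : symplecticGroup (Fin (k + 1)) K) :
    Matrix (Fin (k + 1) ⊕ Fin (k + 1)) (Fin (k + 1) ⊕ Fin (k + 1)) K) *
    ((sieg S hS : symplecticGroup (Fin (k + 1)) K) :
      Matrix (Fin (k + 1) ⊕ Fin (k + 1)) (Fin (k + 1) ⊕ Fin (k + 1)) K)) (Sum.inl a) (Sum.inl b) = _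
  rw [levGL_coe, sieg_coe, fromBlocks_multiply, fromBlocks_apply₁₁, Matrix.mul_one,
    Matrix.zero_mul, add_zero]

/-- Matrix version of the conjugation by a fundamental reflection of `SL`. -/
theorem conj_sgen_upper (i : Fin k) {A : Matrix (Fin (k + 1)) (Fin (k + 1)) K}
    (hA : A.BlockTriangular id) (h0 : A i.castSucc i.succ = 0) :
    (((Cfsg.Agent.Lead.SLBN.sgen K i : Matrix.SpecialLinearGroup (Fin (k + 1)) K) :
        Matrix (Fin (k + 1)) (Fin (k + 1)) K) * A *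
      (((Cfsg.Agent.Lead.SLBN.sgen K i)⁻¹ : Matrix.SpecialLinearGroup (Fin (k + 1)) K) :
        Matrix (Fin (k + 1)) (Fin (k + 1)) K)).BlockTriangular id := by
  intro r c hcr
  change c < r at hcr
  rw [Cfsg.Agent.Lead.SLBN.mono_conj_apply (Cfsg.Agent.Lead.SLBN.sgen_monoP i)
    (Cfsg.Agent.Lead.SLBN.sgen_inv_monoP i), Equiv.swap_inv]
  by_cases hrc : r = i.succ ∧ c = i.castSucc
  · obtain ⟨rfl, rfl⟩ := hrc
    rw [Equiv.swap_apply_right, Equiv.swap_apply_left, h0, mul_zero, zero_mul]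
  · have hlt := Cfsg.Agent.Lead.SLBN.adj_swap_lt i hcr hrc
    have hz : A (Equiv.swap i.castSucc i.succ r) (Equiv.swap i.castSucc i.succ c) = 0 := hA hlt
    rw [hz, mul_zero, zero_mul]

theorem conj_gen_some_mem (i : Fin k) {b : symplecticGroup (Fin (k + 1)) K}
    (hb : b ∈ Bsub K (k + 1))
    (h0 : (b : Matrix (Fin (k + 1) ⊕ Fin (k + 1)) (Fin (k + 1) ⊕ Fin (k + 1)) K)
      (Sum.inl i.castSucc) (Sum.inl i.succ) = 0) :
    gen K (some i) * b * (gen K (some i))⁻¹ ∈ Bsub K (k + 1) := by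
  obtain ⟨A, S, hS, hA, -, rfl⟩ := exists_levGL_sieg_of_mem_Bsub hb
  rw [levGL_mul_sieg_apply_inl] at h0
  set w : GL (Fin (k + 1)) K := Matrix.SpecialLinearGroup.toGL (Cfsg.Agent.Lead.SLBN.sgen K i)
    with hw
  have hgen : gen K (some i) = levGL w := rfl
  have e : gen K (some i) * (levGL A * sieg S hS) * (gen K (some i))⁻¹ =
      levGL (w * A * w⁻¹) * (levGL w * sieg S hS * (levGL w)⁻¹) := by
    rw [hgen, map_mul, map_mul, map_inv]
    group
  rw [e, levGL_conj_sieg]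
  apply Subgroup.mul_mem _ _ (Usub_le_Bsub (sieg_mem_Usub _ _))
  apply levGL_mem_Bsub
  have hcoe : ((w * A * w⁻¹ : GL (Fin (k + 1)) K) : Matrix (Fin (k + 1)) (Fin (k + 1)) K) =
      ((Cfsg.Agent.Lead.SLBN.sgen K i : Matrix.SpecialLinearGroup (Fin (k + 1)) K) :
        Matrix (Fin (k + 1)) (Fin (k + 1)) K) * (A : Matrix (Fin (k + 1)) (Fin (k + 1)) K) *
      (((Cfsg.Agent.Lead.SLBN.sgen K i)⁻¹ : Matrix.SpecialLinearGroup (Fin (k + 1)) K) :
        Matrix (Fin (k + 1)) (Fin (k + 1)) K) := by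
    rw [hw, ← map_inv]
    rfl
  rw [hcoe]
  exact conj_sgen_upper i hA h0

theorem clear_some (i : Fin k) {b : symplecticGroup (Fin (k + 1)) K} (hb : b ∈ Bsub K (k + 1)) :
    ∃ t : K, gen K (some i) * (b * xo K (some i) t) * (gen K (some i))⁻¹ ∈ Bsub K (k + 1) := by
  have hd := diag_ne_zero hb i.castSucc
  refine ⟨-((b : Matrix (Fin (k + 1) ⊕ Fin (k + 1)) (Fin (k + 1) ⊕ Fin (k + 1)) K)
    (Sum.inl i.castSucc) (Sum.inl i.succ) /
    (b : Matrix (Fin (k + 1) ⊕ Fin (k + 1)) (Fin (k + 1) ⊕ Fin (k + 1)) K)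
      (Sum.inl i.castSucc) (Sum.inl i.castSucc)), ?_⟩
  apply conj_gen_some_mem i (Subgroup.mul_mem _ hb (xo_mem _ _))
  change ((b * xs i.castSucc i.succ (Cfsg.Agent.Lead.SLBN.adj_ne i) _ :
    symplecticGroup (Fin (k + 1)) K) :
    Matrix (Fin (k + 1) ⊕ Fin (k + 1)) (Fin (k + 1) ⊕ Fin (k + 1)) K) _ _ = 0
  rw [clear_entry i.castSucc (Sum.inl i.succ)
    (fun e => Cfsg.Agent.Lead.SLBN.adj_ne i (Sum.inl.inj e)) _ _ (xs_coe_single _ _ _ _)]
  · field_simp
    ring
  · intro r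
    apply single_apply_of_ne
    rintro ⟨-, h⟩
    exact Sum.inr_ne_inl h

theorem levSL_mem_Bsub {g : Matrix.SpecialLinearGroup (Fin (k + 1)) K}
    (hg : g ∈ Cfsg.Agent.Lead.SLBN.Bs K k) : levSL g ∈ Bsub K (k + 1) :=
  levGL_mem_Bsub _ hg

theorem rank_some (i : Fin k) {c : K} (hc : c ≠ 0) :
    gen K (some i) * xo K (some i) c * yo K (some i) (-c⁻¹) ∈ Bsub K (k + 1) := by
  have h := levSL_mem_Bsub (Cfsg.Agent.Lead.SLBN.sl2_mem (F := K) i hc)
  rw [map_mul, map_mul] at h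
  exact h

/-! ### The long root -/

theorem rho_last_inl : rho (k + 1) (Sum.inl (Fin.last k)) = k := by
  rw [rho_inl, Fin.val_last]

theorem rho_last_inr : rho (k + 1) (Sum.inr (Fin.last k)) = k + 1 := by
  rw [rho_inr, Fin.val_last]
  omega

theorem rho_cS (a : Fin (k + 1) ⊕ Fin (k + 1)) :
    rho (k + 1) (cS (Fin.last k) a) =
      if rho (k + 1) a = k then k + 1 else if rho (k + 1) a = k + 1 then k else rho (k + 1) a := by
  unfold cS
  by_cases h1 : a = Sum.inl (Fin.last k)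
  · subst h1
    rw [Equiv.swap_apply_left, if_pos rho_last_inl, rho_last_inr]
  · by_cases h2 : a = Sum.inr (Fin.last k)
    · subst h2
      rw [Equiv.swap_apply_right, rho_last_inr, rho_last_inl, if_neg (by omega), if_pos rfl]
    · rw [Equiv.swap_apply_of_ne_of_ne h1 h2, if_neg, if_neg]
      · intro e
        exact h2 (rho_injective _ (e.trans rho_last_inr.symm))
      · intro e
        exact h1 (rho_injective _ (e.trans rho_last_inl.symm))

theorem conj_gen_none_mem {b : symplecticGroup (Fin (k + 1)) K} (hb : b ∈ Bsub K (k + 1))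
    (h0 : (b : Matrix (Fin (k + 1) ⊕ Fin (k + 1)) (Fin (k + 1) ⊕ Fin (k + 1)) K)
      (Sum.inl (Fin.last k)) (Sum.inr (Fin.last k)) = 0) :
    gen K none * b * (gen K none)⁻¹ ∈ Bsub K (k + 1) := by
  apply conj_mem_of_inverted (gen_mono (K := K) none) hb
  intro r c hcr hlt
  have hinv : (genPat (none : Option (Fin k)))⁻¹ = cS (Fin.last k) := genPat_inv none
  rw [hinv] at hlt ⊢
  rw [rho_cS, rho_cS] at hlt
  have hr : rho (k + 1) r = k + 1 := by
    split_ifs at hlt <;> omega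
  have hc : rho (k + 1) c = k := by
    split_ifs at hlt <;> omega
  rw [rho_injective _ (hr.trans rho_last_inr.symm), rho_injective _ (hc.trans rho_last_inl.symm)]
  unfold cS
  rw [Equiv.swap_apply_right, Equiv.swap_apply_left]
  exact h0

theorem clear_none {b : symplecticGroup (Fin (k + 1)) K} (hb : b ∈ Bsub K (k + 1)) :
    ∃ t : K, gen K (none : Option (Fin k)) * (b * xo K none t) * (gen K none)⁻¹ ∈
      Bsub K (k + 1) := by
  have hd := diag_ne_zero hb (Fin.last k)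
  refine ⟨-((b : Matrix (Fin (k + 1) ⊕ Fin (k + 1)) (Fin (k + 1) ⊕ Fin (k + 1)) K)
    (Sum.inl (Fin.last k)) (Sum.inr (Fin.last k)) /
    (b : Matrix (Fin (k + 1) ⊕ Fin (k + 1)) (Fin (k + 1) ⊕ Fin (k + 1)) K)
      (Sum.inl (Fin.last k)) (Sum.inl (Fin.last k))), ?_⟩
  apply conj_gen_none_mem (Subgroup.mul_mem _ hb (xo_mem _ _))
  change ((b * xl (Fin.last k) _ : symplecticGroup (Fin (k + 1)) K) :
    Matrix (Fin (k + 1) ⊕ Fin (k + 1)) (Fin (k + 1) ⊕ Fin (k + 1)) K) _ _ = 0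
  rw [clear_entry (Fin.last k) (Sum.inr (Fin.last k)) Sum.inl_ne_inr _ 0
    (by rw [add_zero]; exact xl_coe _ _)]
  · field_simp
    ring
  · intro r
    rfl

theorem pwS_mem_Bsub (l : Fin (k + 1)) (X : Matrix.SpecialLinearGroup (Fin 2) K)
    (hX : (X : Matrix (Fin 2) (Fin 2) K) 1 0 = 0) : pwS l X ∈ Bsub K (k + 1) := by
  rw [mem_Bsub, pwS_coe, hX]
  rintro (a | a) (b | b) hab
  · rw [fromBlocks_apply₁₁]
    apply diagonal_apply_ne
    rintro rfl
    exact lt_irrefl _ hab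
  · exact absurd hab (not_lt.mpr (rho_inl_lt_inr a b).le)
  · rw [fromBlocks_apply₂₁]
    by_cases hab' : a = b
    · subst hab'
      rw [diagonal_apply_eq]
      by_cases hal : a = l
      · subst hal
        rw [Function.update_self]
      · rw [Function.update_of_ne hal]
        rfl
    · exact diagonal_apply_ne _ hab'
  · rw [fromBlocks_apply₂₂]
    apply diagonal_apply_ne
    rintro rfl
    exact lt_irrefl _ hab

theorem rank_none {c : K} (hc : c ≠ 0) :
    gen K (none : Option (Fin k)) * xo K none c * yo K none (-c⁻¹) ∈ Bsub K (k + 1) := by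
  change wS K (Fin.last k) * xl (Fin.last k) c * yl (Fin.last k) (-c⁻¹) ∈ Bsub K (k + 1)
  unfold wS
  rw [← pwS_uSL, ← pwS_lSL, ← pwS_mul, ← pwS_mul]
  apply pwS_mem_Bsub
  change (!![0, 1; -1, 0] * !![1, c; 0, 1] * !![1, 0; -c⁻¹, 1] : Matrix (Fin 2) (Fin 2) K) 1 0 = 0
  rw [Matrix.mul_fin_two, Matrix.mul_fin_two]
  simp [hc]

/-! ### The double coset axiom -/

theorem clear_gen (o : Option (Fin k)) {b : symplecticGroup (Fin (k + 1)) K}
    (hb : b ∈ Bsub K (k + 1)) :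
    ∃ t : K, gen K o * (b * xo K o t) * (gen K o)⁻¹ ∈ Bsub K (k + 1) := by
  rcases o with _ | i
  · exact clear_none hb
  · exact clear_some i hb

theorem rank_gen (o : Option (Fin k)) {c : K} (hc : c ≠ 0) :
    gen K o * xo K o c * yo K o (-c⁻¹) ∈ Bsub K (k + 1) := by
  rcases o with _ | i
  · exact rank_none hc
  · exact rank_some i hc

/-- The product `s b n` lies in `B s n B` when `n⁻¹` keeps the root positive. -/
theorem mul_mem_of_lt (o : Option (Fin k)) {n b : symplecticGroup (Fin (k + 1)) K}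
    {σ : Equiv.Perm (Fin (k + 1) ⊕ Fin (k + 1))}
    (h1 : MonoQ σ (n : Matrix (Fin (k + 1) ⊕ Fin (k + 1)) (Fin (k + 1) ⊕ Fin (k + 1)) K))
    (hlt : rho (k + 1) (σ⁻¹ (pos o).1) < rho (k + 1) (σ⁻¹ (pos o).2))
    (hb : b ∈ Bsub K (k + 1)) :
    gen K o * b * n ∈ DoubleCoset.doubleCoset (gen K o * n)
      (Bsub K (k + 1) : Set (symplecticGroup (Fin (k + 1)) K)) (Bsub K (k + 1)) :=
  mem_of_pos (Bsub K (k + 1)) (xo K o) (xo_inv o) (clear_gen o hb) (conj_xo_mem o h1 hlt)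

/-- The double coset axiom. -/
theorem mul_mem_union' (o : Option (Fin k)) {n b : symplecticGroup (Fin (k + 1)) K}
    (hn : n ∈ Nsub K (k + 1)) (hb : b ∈ Bsub K (k + 1)) :
    gen K o * b * n ∈ DoubleCoset.doubleCoset (gen K o * n)
      (Bsub K (k + 1) : Set (symplecticGroup (Fin (k + 1)) K)) (Bsub K (k + 1)) ∪
      DoubleCoset.doubleCoset n
        (Bsub K (k + 1) : Set (symplecticGroup (Fin (k + 1)) K)) (Bsub K (k + 1)) := by
  obtain ⟨σ, h1⟩ := hn
  apply union_of_rank_one (Bsub K (k + 1)) (xo K o) (yo K o) (xo_zero o) (xo_inv o) (yo_inv o)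
    (clear_gen o hb) (fun c hc => rank_gen o hc)
  rcases lt_trichotomy (rho (k + 1) (σ⁻¹ (pos o).1)) (rho (k + 1) (σ⁻¹ (pos o).2)) with h | h | h
  · exact Or.inl (conj_xo_mem o h1 h)
  · exfalso
    have := (σ⁻¹).injective (rho_injective _ h)
    have hlt := pos_lt o
    rw [this] at hlt
    exact lt_irrefl _ hlt
  · exact Or.inr (conj_yo_mem o h1 h)

/-- `s B s ≠ B`. -/
theorem conj_ne' (o : Option (Fin k)) :
    (fun b : symplecticGroup (Fin (k + 1)) K => gen K o * b * gen K o) ''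
      (Bsub K (k + 1) : Set (symplecticGroup (Fin (k + 1)) K)) ≠
      (Bsub K (k + 1) : Set (symplecticGroup (Fin (k + 1)) K)) := by
  intro heq
  have hx : xo K o 1 ∈ Bsub K (k + 1) := xo_mem o 1
  have h1 : gen K o * xo K o 1 * gen K o ∈
      (Bsub K (k + 1) : Set (symplecticGroup (Fin (k + 1)) K)) := by
    rw [← heq]
    exact ⟨_, hx, rfl⟩
  have h2 : gen K o * xo K o 1 * (gen K o)⁻¹ ∈ Bsub K (k + 1) := by
    have e : gen K o * xo K o 1 * (gen K o)⁻¹ =
        (gen K o * xo K o 1 * gen K o) * (gen K o * gen K o)⁻¹ := by group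
    rw [e]
    exact Subgroup.mul_mem _ h1 (Subgroup.inv_mem _ (gen_sq_mem o))
  rw [mem_Bsub] at h2
  have h3 := h2 (pos_lt o)
  rw [conj_apply (gen_mono o), genPat_inv, genPat_pos, genPat_pos', xo_apply_pos, mul_one] at h3
  have h4 := sp_entry_ne_zero (gen_mono (K := K) o) (pos o).1
  rw [genPat_pos] at h4
  have h5 := sp_entry_ne_zero (gen_inv_mono (K := K) o) (pos o).1
  rw [genPat_pos] at h5
  exact mul_ne_zero h4 h5 h3

end Cfsg.Agent.Lead.SpBN
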