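import Mathlib
import Cfsg.Prelude.Def_GeometricClasses
import Cfsg.Agent.Lead.AschBase
import Cfsg.Agent.Lead.AschOBase
import Cfsg.Agent.Lead.AschOmA
import Cfsg.Agent.Helper8.AschOmM2a

/-!
# ASCH-OM round 2 (lead), piece E2: an absolutely irreducible group of isometries of a quadratic form with scalar
commutators (the symplectic-type case) forces plus type, in dimension `n` with `4 ∣ n`, `4 < n`
-/

set_option autoImplicit false

namespace Cfsg.Agent.Lead.AschOm

open Cfsg Cfsg.Geo Cfsg.Agent.Lead.Asch Cfsg.Agent.Lead.AschO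
open scoped MatrixGroups Matrix commutatorElement

variable {n : ℕ} {F : Type*} [Field F]

/-- a scalar isometry has square one -/
theorem scalar_sq_of_isometry (hn1 : 1 ≤ n) (Q : (Fin n → F) → F) (hQ : IsNondegenerateQuadraticForm Q)
    {g : GL (Fin n) F} (hg : g ∈ isometryGroup F Q) {c : F}
    (hc : (g : Matrix (Fin n) (Fin n) F) = c • (1 : Matrix (Fin n) (Fin n) F)) : c ^ 2 = 1 := by
  obtain ⟨v, hv⟩ := exists_ne_zero_of_nondegenerate hn1 Q hQ
  have h1 := mem_isometryGroup_iff.1 hg v
  rw [hc, Matrix.smul_mulVec, Matrix.one_mulVec, hQ.smul] at h1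
  have h2 : (c ^ 2 - 1) * Q v = 0 := by rw [sub_mul, h1, one_mul, sub_self]
  rcases mul_eq_zero.1 h2 with h | h
  · exact sub_eq_zero.1 h
  · exact absurd h hv

/-- two elements of a group of isometries with scalar commutators commute up to sign -/
theorem comm_sign (hn1 : 1 ≤ n) (Q : (Fin n → F) → F) (hQ : IsNondegenerateQuadraticForm Q)
    {N : Subgroup (GL (Fin n) F)} (hNI : N ≤ isometryGroup F Q) (hcomm : ⁅N, N⁆ ≤ scalars (Fin n) F)
    {x y : GL (Fin n) F} (hx : x ∈ N) (hy : y ∈ N) :
    ∃ ε : F, (ε = 1 ∨ ε = -1) ∧ (x : Matrix (Fin n) (Fin n) F) * (y : Matrix (Fin n) (Fin n) F) =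
      ε • ((y : Matrix (Fin n) (Fin n) F) * (x : Matrix (Fin n) (Fin n) F)) := by
  have hmem : ⁅x, y⁆ ∈ ⁅N, N⁆ := Subgroup.commutator_mem_commutator hx hy
  obtain ⟨c, hc⟩ := (mem_scalars_iff _).1 (hcomm hmem)
  have hI := hNI (Subgroup.commutator_le_self N hmem)
  have hc2 := scalar_sq_of_isometry hn1 Q hQ hI hc
  refine ⟨c, ?_, ?_⟩
  · have h3 : ((c : F) - 1) * ((c : F) + 1) = 0 := by linear_combination hc2
    rcases mul_eq_zero.1 h3 with h | h
    · left; linear_combination h
    · right; linear_combination h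
  · have h1 : x * y = ⁅x, y⁆ * (y * x) := by rw [commutatorElement_def]; group
    have h2 := congrArg (fun g : GL (Fin n) F => (g : Matrix (Fin n) (Fin n) F)) h1
    simp only [Units.val_mul] at h2
    rw [h2, hc, Matrix.smul_mul, Matrix.one_mul]

section ring

variable {R : Type*} [Ring R] {a b y : R}

theorem tw_a (hab : a * b = -(b * a)) (hya : y * a = a * y) (hyb : y * b = -(b * y)) :
    (y * a) * a = a * (y * a) ∧ (y * a) * b = b * (y * a) := by
  constructor
  · rw [← mul_assoc a y a, hya]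
  · calc (y * a) * b = y * (a * b) := mul_assoc _ _ _
      _ = -((y * b) * a) := by rw [hab, mul_neg, ← mul_assoc]
      _ = b * (y * a) := by rw [hyb, neg_mul, neg_neg, mul_assoc]

theorem tw_b (hab : a * b = -(b * a)) (hya : y * a = -(a * y)) (hyb : y * b = b * y) :
    (y * b) * a = a * (y * b) ∧ (y * b) * b = b * (y * b) := by
  constructor
  · have hba : b * a = -(a * b) := by rw [hab, neg_neg]
    calc (y * b) * a = y * (b * a) := mul_assoc _ _ _
      _ = -((y * a) * b) := by rw [hba, mul_neg, ← mul_assoc]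
      _ = a * (y * b) := by rw [hya, neg_mul, neg_neg, mul_assoc]
  · rw [← mul_assoc b y b, hyb]

theorem tw_ab (hab : a * b = -(b * a)) (hya : y * a = -(a * y)) (hyb : y * b = -(b * y)) :
    (y * (a * b)) * a = a * (y * (a * b)) ∧ (y * (a * b)) * b = b * (y * (a * b)) := by
  have hba : b * a = -(a * b) := by rw [hab, neg_neg]
  constructor
  · calc (y * (a * b)) * a = y * (a * (b * a)) := by rw [mul_assoc, mul_assoc]
      _ = -(y * a * (a * b)) := by rw [hba, mul_neg, mul_neg, ← mul_assoc]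
      _ = a * (y * (a * b)) := by rw [hya, neg_mul, neg_neg, mul_assoc]
  · calc (y * (a * b)) * b = y * a * (b * b) := by rw [mul_assoc, mul_assoc, mul_assoc]
      _ = -(a * y) * (b * b) := by rw [hya]
      _ = -(a * (y * b) * b) := by rw [neg_mul, mul_assoc, mul_assoc, mul_assoc]
      _ = a * b * y * b := by rw [hyb, mul_neg, neg_mul, neg_neg, ← mul_assoc]
      _ = -(b * a * y * b) := by rw [hab, neg_mul, neg_mul]
      _ = b * (y * a) * b := by rw [hya, mul_neg, neg_mul, mul_assoc b a y]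
      _ = b * (y * (a * b)) := by rw [mul_assoc, mul_assoc]

theorem ab_sq (hab : a * b = -(b * a)) (haa : a * a = -1) (hbb : b * b = -1) : (a * b) * (a * b) = -1 := by
  have hba : b * a = -(a * b) := by rw [hab, neg_neg]
  calc (a * b) * (a * b) = a * (b * a) * b := by rw [mul_assoc, mul_assoc, mul_assoc]
    _ = -(a * a * (b * b)) := by rw [hba, mul_neg, neg_mul, mul_assoc, mul_assoc, mul_assoc]
    _ = -1 := by rw [haa, hbb]; simp

end ring

theorem polar_isometry {Q : (Fin n → F) → F} {g : GL (Fin n) F} (hg : g ∈ isometryGroup F Q)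
    (u v : Fin n → F) :
    QuadraticMap.polar Q ((g : Matrix (Fin n) (Fin n) F) *ᵥ u) ((g : Matrix (Fin n) (Fin n) F) *ᵥ v) =
      QuadraticMap.polar Q u v := by
  have h := mem_isometryGroup_iff.1 hg
  unfold QuadraticMap.polar
  rw [← Matrix.mulVec_add, h, h, h]

/-- a non-scalar involution in the isometry group that anticommutes with an isometry: the two eigenspaces are
isometric orthogonal halves, so the form is of plus type when `4 ∣ n` -/
theorem plus_of_involution [Fintype F] (h2 : (2 : F) ≠ 0) (hdvd : 4 ∣ n) (Q : (Fin n → F) → F)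
    (hQ : IsNondegenerateQuadraticForm Q) (x y : GL (Fin n) F) (hx : x ∈ isometryGroup F Q)
    (hy : y ∈ isometryGroup F Q)
    (hxx : (x : Matrix (Fin n) (Fin n) F) * (x : Matrix (Fin n) (Fin n) F) = 1)
    (hxy : (x : Matrix (Fin n) (Fin n) F) * (y : Matrix (Fin n) (Fin n) F) =
      -((y : Matrix (Fin n) (Fin n) F) * (x : Matrix (Fin n) (Fin n) F))) : IsPlusTypeOn Q ⊤ := by
  classical
  have hb := hQ.polar_bilinear
  set X : Matrix (Fin n) (Fin n) F := (x : Matrix (Fin n) (Fin n) F) with hX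
  set Y : Matrix (Fin n) (Fin n) F := (y : Matrix (Fin n) (Fin n) F) with hY
  have hXX : ∀ v : Fin n → F, X *ᵥ (X *ᵥ v) = v := fun v => by
    rw [Matrix.mulVec_mulVec, hxx, Matrix.one_mulVec]
  have hXY : ∀ v : Fin n → F, X *ᵥ (Y *ᵥ v) = -(Y *ᵥ (X *ᵥ v)) := fun v => by
    rw [Matrix.mulVec_mulVec, hxy, Matrix.neg_mulVec, Matrix.mulVec_mulVec]
  let Vp : Submodule F (Fin n → F) :=
    { carrier := {v | X *ᵥ v = v}
      add_mem' := fun {a b} ha hb => by
        show X *ᵥ (a + b) = a + b
        rw [Matrix.mulVec_add, show X *ᵥ a = a from ha, show X *ᵥ b = b from hb]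
      zero_mem' := by
        show X *ᵥ (0 : Fin n → F) = 0
        rw [Matrix.mulVec_zero]
      smul_mem' := fun c a ha => by
        show X *ᵥ (c • a) = c • a
        rw [Matrix.mulVec_smul, show X *ᵥ a = a from ha] }
  let Vm : Submodule F (Fin n → F) :=
    { carrier := {v | X *ᵥ v = -v}
      add_mem' := fun {a b} ha hb => by
        show X *ᵥ (a + b) = -(a + b)
        rw [Matrix.mulVec_add, show X *ᵥ a = -a from ha, show X *ᵥ b = -b from hb, neg_add]
      zero_mem' := by
        show X *ᵥ (0 : Fin n → F) = -0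
        rw [Matrix.mulVec_zero, neg_zero]
      smul_mem' := fun c a ha => by
        show X *ᵥ (c • a) = -(c • a)
        rw [Matrix.mulVec_smul, show X *ᵥ a = -a from ha, smul_neg] }
  have hmemp : ∀ v, v ∈ Vp ↔ X *ᵥ v = v := fun v => Iff.rfl
  have hmemm : ∀ v, v ∈ Vm ↔ X *ᵥ v = -v := fun v => Iff.rfl
  have hinf : Vp ⊓ Vm = ⊥ := by
    rw [eq_bot_iff]
    rintro v ⟨hvp, hvm⟩
    rw [SetLike.mem_coe, hmemp] at hvp
    rw [SetLike.mem_coe, hmemm] at hvm
    rw [Submodule.mem_bot]
    have h3 : (2 : F) • v = 0 := by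
      rw [two_smul]
      nth_rewrite 1 [← hvp]
      rw [hvm, neg_add_cancel]
    rcases smul_eq_zero.1 h3 with h | h
    · exact absurd h h2
    · exact h
  have hsup : Vp ⊔ Vm = ⊤ := by
    rw [eq_top_iff]
    intro v _
    have hp : (2 : F)⁻¹ • (v + X *ᵥ v) ∈ Vp := by
      rw [hmemp, Matrix.mulVec_smul, Matrix.mulVec_add, hXX, add_comm]
    have hm : (2 : F)⁻¹ • (v - X *ᵥ v) ∈ Vm := by
      rw [hmemm, Matrix.mulVec_smul, Matrix.mulVec_sub, hXX, ← smul_neg, neg_sub]
    have hv : v = (2 : F)⁻¹ • (v + X *ᵥ v) + (2 : F)⁻¹ • (v - X *ᵥ v) := by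
      rw [← smul_add, add_add_sub_cancel, ← two_smul F v, smul_smul, inv_mul_cancel₀ h2, one_smul]
    rw [hv]
    exact Submodule.add_mem_sup hp hm
  have horth : AreOrthogonalFor (QuadraticMap.polar Q) Vp Vm := by
    intro u hu w hw
    rw [hmemp] at hu
    rw [hmemm] at hw
    have h3 := polar_isometry hx u w
    rw [← hX, hu, hw] at h3
    have h4 : QuadraticMap.polar Q u (-w) = -QuadraticMap.polar Q u w := by
      have := hb.smul_right (-1) u w
      rw [neg_one_smul, neg_one_mul] at this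
      exact this
    rw [h4] at h3
    have h5 : (2 : F) * QuadraticMap.polar Q u w = 0 := by linear_combination -h3
    rcases mul_eq_zero.1 h5 with h | h
    · exact absurd h h2
    · exact h
  have horth' : ∀ u ∈ Vm, ∀ w ∈ Vp, QuadraticMap.polar Q u w = 0 := fun u hu w hw => by
    rw [QuadraticMap.polar_comm]
    exact horth w hw u hu
  have hdec : ∀ z : Fin n → F, ∃ zp ∈ Vp, ∃ zm ∈ Vm, z = zp + zm := by
    intro z
    have hz : z ∈ Vp ⊔ Vm := by rw [hsup]; exact Submodule.mem_top
    obtain ⟨zp, hzp, zm, hzm, rfl⟩ := Submodule.mem_sup.1 hz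
    exact ⟨zp, hzp, zm, hzm, rfl⟩
  have hW : IsNondegenerateOn (QuadraticMap.polar Q) Vp := by
    intro w hw hw0
    obtain ⟨⟨z, hz⟩, ⟨z', hz'⟩⟩ := hQ.nondegenerate w hw0
    constructor
    · obtain ⟨zp, hzp, zm, hzm, rfl⟩ := hdec z
      refine ⟨zp, hzp, ?_⟩
      rw [hb.add_left, horth' zm hzm w hw, add_zero] at hz
      exact hz
    · obtain ⟨zp, hzp, zm, hzm, rfl⟩ := hdec z'
      refine ⟨zp, hzp, ?_⟩
      rw [hb.add_right, horth w hw zm hzm, add_zero] at hz'
      exact hz'
  -- the isometry between the halves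
  have hYinv : ((y⁻¹ : GL (Fin n) F) : Matrix (Fin n) (Fin n) F) * Y = 1 := by
    rw [hY, ← Units.val_mul, inv_mul_cancel, Units.val_one]
  have hYinv' : Y * ((y⁻¹ : GL (Fin n) F) : Matrix (Fin n) (Fin n) F) = 1 := by
    rw [hY, ← Units.val_mul, mul_inv_cancel, Units.val_one]
  have hmaps : ∀ v ∈ Vp, Matrix.toLin' Y v ∈ Vm := by
    intro v hv
    rw [hmemp] at hv
    rw [Matrix.toLin'_apply, hmemm, hXY, hv]
  let φ : Vp →ₗ[F] Vm := (Matrix.toLin' Y).restrict hmaps
  have hφinj : Function.Injective φ := by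
    intro a b hab
    have h3 : Y *ᵥ (a : Fin n → F) = Y *ᵥ (b : Fin n → F) := by
      have := congrArg (fun t : Vm => (t : Fin n → F)) hab
      simpa [φ, LinearMap.restrict_apply] using this
    have h4 := congrArg (fun t => ((y⁻¹ : GL (Fin n) F) : Matrix (Fin n) (Fin n) F) *ᵥ t) h3
    simp only [Matrix.mulVec_mulVec, hYinv, Matrix.one_mulVec] at h4
    exact Subtype.ext h4
  have hφsurj : Function.Surjective φ := by
    intro w
    have hw := (hmemm _).1 w.2
    have hpre : ((y⁻¹ : GL (Fin n) F) : Matrix (Fin n) (Fin n) F) *ᵥ (w : Fin n → F) ∈ Vp := by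
      rw [hmemp]
      -- X Y⁻¹ w = -Y⁻¹ X w
      have h3 : X *ᵥ (((y⁻¹ : GL (Fin n) F) : Matrix (Fin n) (Fin n) F) *ᵥ (w : Fin n → F)) =
          ((y⁻¹ : GL (Fin n) F) : Matrix (Fin n) (Fin n) F) *ᵥ
            (Y *ᵥ (X *ᵥ (((y⁻¹ : GL (Fin n) F) : Matrix (Fin n) (Fin n) F) *ᵥ (w : Fin n → F)))) := by
        rw [Matrix.mulVec_mulVec _ ((y⁻¹ : GL (Fin n) F) : Matrix (Fin n) (Fin n) F) Y, hYinv, Matrix.one_mulVec]
      rw [h3]
      have h4 := hXY (((y⁻¹ : GL (Fin n) F) : Matrix (Fin n) (Fin n) F) *ᵥ (w : Fin n → F))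
      rw [Matrix.mulVec_mulVec _ Y, hYinv', Matrix.one_mulVec, hw] at h4
      -- h4 : -w = -(Y X Y⁻¹ w)
      have h5 : Y *ᵥ (X *ᵥ (((y⁻¹ : GL (Fin n) F) : Matrix (Fin n) (Fin n) F) *ᵥ (w : Fin n → F))) =
          (w : Fin n → F) := by
        have := congrArg (fun t => -t) h4
        simpa using this.symm
      rw [h5]
    refine ⟨⟨_, hpre⟩, Subtype.ext ?_⟩
    show Matrix.toLin' Y (((y⁻¹ : GL (Fin n) F) : Matrix (Fin n) (Fin n) F) *ᵥ (w : Fin n → F)) = w
    rw [Matrix.toLin'_apply, Matrix.mulVec_mulVec, hYinv', Matrix.one_mulVec]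
  let e : Vp ≃ₗ[F] Vm := LinearEquiv.ofBijective φ ⟨hφinj, hφsurj⟩
  have hiso : AreIsometricFor Q Vp Vm := by
    refine ⟨e, fun w => ?_⟩
    show Q (Matrix.toLin' Y (w : Fin n → F)) = Q (w : Fin n → F)
    rw [Matrix.toLin'_apply]
    exact mem_isometryGroup_iff.1 hy _
  have hev : Even (Module.finrank F Vp) := by
    have h3 := Submodule.finrank_sup_add_finrank_inf_eq Vp Vm
    rw [hinf, hsup, finrank_bot, finrank_top, Module.finrank_fin_fun, add_zero] at h3
    have h4 : Module.finrank F Vp = Module.finrank F Vm := e.finrank_eq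
    obtain ⟨k, hk⟩ := hdvd
    exact ⟨k, by omega⟩
  exact Cfsg.Agent.Helper8.AschOm.plus_of_isometric_halves Q hQ Vp Vm hW horth hinf hsup hiso hev

/-- **E2**: an absolutely irreducible group of isometries whose commutators are scalar forces plus type
(`4 ∣ n`, `4 < n`). -/
theorem plus_of_symplectic_type [Fintype F] (hn4 : 4 < n) (hdvd : 4 ∣ n) (Q : (Fin n → F) → F)
    (hQ : IsNondegenerateQuadraticForm Q) {N : Subgroup (GL (Fin n) F)} (hNI : N ≤ isometryGroup F Q)
    (hNabs : ActsAbsolutelyIrreducibly (matrixSet N)) (hcomm : ⁅N, N⁆ ≤ scalars (Fin n) F) :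
    IsPlusTypeOn Q ⊤ := by
  classical
  have hn1 : 1 ≤ n := by omega
  have hirr := hNabs.1
  have hns : ¬ N ≤ scalars (Fin n) F := not_le_scalars_of_irred (by omega) hirr
  -- central elements are scalar
  have hcent : ∀ x ∈ N, (∀ y ∈ N, (x : Matrix (Fin n) (Fin n) F) * (y : Matrix (Fin n) (Fin n) F) =
      (y : Matrix (Fin n) (Fin n) F) * (x : Matrix (Fin n) (Fin n) F)) → x ∈ scalars (Fin n) F := by
    intro x hx hc
    obtain ⟨c, hc'⟩ := hNabs.2 (x : Matrix (Fin n) (Fin n) F) (by
      intro s hs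
      obtain ⟨g, hg, rfl⟩ := mem_matrixSet_iff.1 hs
      exact hc g hg)
    rw [mem_scalars_iff]
    have hc0 : c ≠ 0 := by
      rintro rfl
      have h0 : (x : Matrix (Fin n) (Fin n) F) = 0 := by rw [hc', zero_smul]
      have h1 : (x : Matrix (Fin n) (Fin n) F) * ((x⁻¹ : GL (Fin n) F) : Matrix (Fin n) (Fin n) F) = 1 := by
        rw [← Units.val_mul, mul_inv_cancel, Units.val_one]
      rw [h0, zero_mul] at h1
      have := congrFun (congrFun h1 ⟨0, by omega⟩) ⟨0, by omega⟩
      simp at this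
    exact ⟨Units.mk0 c hc0, hc'⟩
  -- the characteristic is odd
  have h2 : (2 : F) ≠ 0 := by
    intro h2
    apply hns
    intro x hx
    apply hcent x hx
    intro y hy
    obtain ⟨ε, hε, h⟩ := comm_sign hn1 Q hQ hNI hcomm hx hy
    have hε1 : ε = 1 := by
      rcases hε with h | h
      · exact h
      · rw [h]
        linear_combination -h2
    rw [h, hε1, one_smul]
  -- an anticommuting partner
  have hanti : ∀ x ∈ N, x ∉ scalars (Fin n) F → ∃ y ∈ N,
      (x : Matrix (Fin n) (Fin n) F) * (y : Matrix (Fin n) (Fin n) F) =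
        -((y : Matrix (Fin n) (Fin n) F) * (x : Matrix (Fin n) (Fin n) F)) := by
    intro x hx hxs
    by_contra hcon
    push Not at hcon
    apply hxs
    apply hcent x hx
    intro y hy
    obtain ⟨ε, hε, h⟩ := comm_sign hn1 Q hQ hNI hcomm hx hy
    rcases hε with rfl | rfl
    · rw [h, one_smul]
    · exfalso
      apply hcon y hy
      rw [h, neg_one_smul]
  -- squares are `±1`
  have hsq : ∀ x ∈ N, (x : Matrix (Fin n) (Fin n) F) * (x : Matrix (Fin n) (Fin n) F) = 1 ∨
      (x : Matrix (Fin n) (Fin n) F) * (x : Matrix (Fin n) (Fin n) F) = -1 := by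
    intro x hx
    have hxx : x * x ∈ N := N.mul_mem hx hx
    have hc : x * x ∈ scalars (Fin n) F := by
      apply hcent _ hxx
      intro y hy
      obtain ⟨ε, hε, h⟩ := comm_sign hn1 Q hQ hNI hcomm hx hy
      have hεε : ε * ε = 1 := by rcases hε with rfl | rfl <;> ring
      rw [Units.val_mul]
      calc (x : Matrix (Fin n) (Fin n) F) * (x : Matrix (Fin n) (Fin n) F) * (y : Matrix (Fin n) (Fin n) F)
          = (x : Matrix (Fin n) (Fin n) F) * ((x : Matrix (Fin n) (Fin n) F) * (y : Matrix (Fin n) (Fin n) F)) :=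
            mul_assoc _ _ _
        _ = ε • ((x : Matrix (Fin n) (Fin n) F) * ((y : Matrix (Fin n) (Fin n) F) *
              (x : Matrix (Fin n) (Fin n) F))) := by rw [h, Matrix.mul_smul]
        _ = ε • ((x : Matrix (Fin n) (Fin n) F) * (y : Matrix (Fin n) (Fin n) F) *
              (x : Matrix (Fin n) (Fin n) F)) := by rw [mul_assoc]
        _ = (ε * ε) • ((y : Matrix (Fin n) (Fin n) F) * (x : Matrix (Fin n) (Fin n) F) *
              (x : Matrix (Fin n) (Fin n) F)) := by rw [h, Matrix.smul_mul, smul_smul]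
        _ = (y : Matrix (Fin n) (Fin n) F) * ((x : Matrix (Fin n) (Fin n) F) *
              (x : Matrix (Fin n) (Fin n) F)) := by rw [hεε, one_smul, mul_assoc]
    obtain ⟨c, hc'⟩ := (mem_scalars_iff _).1 hc
    have hc2 := scalar_sq_of_isometry hn1 Q hQ (hNI hxx) hc'
    rw [Units.val_mul] at hc'
    have h3 : ((c : F) - 1) * ((c : F) + 1) = 0 := by linear_combination hc2
    rcases mul_eq_zero.1 h3 with h | h
    · left
      rw [hc', sub_eq_zero.1 h, one_smul]
    · right
      rw [hc', eq_neg_of_add_eq_zero_left h, neg_one_smul]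
  -- a non-scalar involution
  obtain ⟨x, hxN, hxs, hxx⟩ : ∃ x ∈ N, x ∉ scalars (Fin n) F ∧
      (x : Matrix (Fin n) (Fin n) F) * (x : Matrix (Fin n) (Fin n) F) = 1 := by
    obtain ⟨a, haN, has⟩ : ∃ a ∈ N, a ∉ scalars (Fin n) F := by
      by_contra h
      push Not at h
      exact hns (fun a ha => h a ha)
    obtain ⟨b, hbN, hab⟩ := hanti a haN has
    rcases hsq a haN with ha1 | ha1
    · exact ⟨a, haN, has, ha1⟩
    set A : Matrix (Fin n) (Fin n) F := (a : Matrix (Fin n) (Fin n) F) with hA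
    set B : Matrix (Fin n) (Fin n) F := (b : Matrix (Fin n) (Fin n) F) with hB
    have hABunit : IsUnit (A * B) := by
      rw [hA, hB, ← Units.val_mul]
      exact (a * b).isUnit
    -- an invertible matrix is not minus itself
    have hne : ∀ M : Matrix (Fin n) (Fin n) F, IsUnit M → M ≠ -M := by
      intro M hM h
      have h3 : (2 : F) • M = 0 := by
        rw [two_smul]
        nth_rewrite 2 [h]
        rw [add_neg_cancel]
      have h4 : M = 0 := by
        rcases smul_eq_zero.1 h3 with h5 | h5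
        · exact absurd h5 h2
        · exact h5
      rw [h4] at hM
      have : (0 : Matrix (Fin n) (Fin n) F) ≠ 0 := by
        have : Nontrivial (Matrix (Fin n) (Fin n) F) := by
          have : Nonempty (Fin n) := ⟨⟨0, by omega⟩⟩
          infer_instance
        exact hM.ne_zero
      exact this rfl
    have hbs : b ∉ scalars (Fin n) F := by
      intro hbs
      obtain ⟨c, hc⟩ := (mem_scalars_iff _).1 hbs
      have h3 : A * B = B * A := by
        rw [hB, hc, Matrix.mul_smul, Matrix.smul_mul, Matrix.mul_one, Matrix.one_mul]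
      rw [← h3] at hab
      exact hne _ hABunit hab
    rcases hsq b hbN with hb1 | hb1
    · exact ⟨b, hbN, hbs, hb1⟩
    -- now `a² = b² = -1`
    have hex : ∃ c ∈ N, c ∉ scalars (Fin n) F ∧
        (c : Matrix (Fin n) (Fin n) F) * A = A * (c : Matrix (Fin n) (Fin n) F) ∧
        (c : Matrix (Fin n) (Fin n) F) * B = B * (c : Matrix (Fin n) (Fin n) F) := by
      by_contra hcon
      have hsc : ∀ c ∈ N, (c : Matrix (Fin n) (Fin n) F) * A = A * (c : Matrix (Fin n) (Fin n) F) →
          (c : Matrix (Fin n) (Fin n) F) * B = B * (c : Matrix (Fin n) (Fin n) F) → c ∈ scalars (Fin n) F := by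
        intro c hc h3 h4
        by_contra h5
        exact hcon ⟨c, hc, h5, h3, h4⟩
      -- the twist
      have htw : ∀ y ∈ N, ∃ g ∈ N, ((g : Matrix (Fin n) (Fin n) F) = 1 ∨ (g : Matrix (Fin n) (Fin n) F) = A ∨
          (g : Matrix (Fin n) (Fin n) F) = B ∨ (g : Matrix (Fin n) (Fin n) F) = A * B) ∧
          ((y : Matrix (Fin n) (Fin n) F) * (g : Matrix (Fin n) (Fin n) F)) * A =
            A * ((y : Matrix (Fin n) (Fin n) F) * (g : Matrix (Fin n) (Fin n) F)) ∧
          ((y : Matrix (Fin n) (Fin n) F) * (g : Matrix (Fin n) (Fin n) F)) * B =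
            B * ((y : Matrix (Fin n) (Fin n) F) * (g : Matrix (Fin n) (Fin n) F)) := by
        intro y hy
        obtain ⟨l, hl, h3⟩ := comm_sign hn1 Q hQ hNI hcomm hy haN
        obtain ⟨m, hm, h4⟩ := comm_sign hn1 Q hQ hNI hcomm hy hbN
        rw [← hA] at h3
        rw [← hB] at h4
        rcases hl with rfl | rfl <;> rcases hm with rfl | rfl
        · rw [one_smul] at h3 h4
          exact ⟨1, N.one_mem, Or.inl rfl, by rw [Units.val_one, mul_one, h3], by rw [Units.val_one, mul_one, h4]⟩
        · rw [one_smul] at h3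
          rw [neg_one_smul] at h4
          obtain ⟨h5, h6⟩ := tw_a hab h3 h4
          exact ⟨a, haN, Or.inr (Or.inl rfl), h5, h6⟩
        · rw [neg_one_smul] at h3
          rw [one_smul] at h4
          obtain ⟨h5, h6⟩ := tw_b hab h3 h4
          exact ⟨b, hbN, Or.inr (Or.inr (Or.inl rfl)), h5, h6⟩
        · rw [neg_one_smul] at h3 h4
          obtain ⟨h5, h6⟩ := tw_ab hab h3 h4
          exact ⟨a * b, N.mul_mem haN hbN, Or.inr (Or.inr (Or.inr (by rw [Units.val_mul]))),
            by rw [Units.val_mul]; exact h5, by rw [Units.val_mul]; exact h6⟩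
      -- squares of the four matrices
      have hsq4 : ∀ G : Matrix (Fin n) (Fin n) F, (G = 1 ∨ G = A ∨ G = B ∨ G = A * B) →
          ∃ ε : F, ε * ε = 1 ∧ G * G = ε • (1 : Matrix (Fin n) (Fin n) F) := by
        rintro G (rfl | rfl | rfl | rfl)
        · exact ⟨1, by ring, by rw [mul_one, one_smul]⟩
        · exact ⟨-1, by ring, by rw [ha1, neg_one_smul]⟩
        · exact ⟨-1, by ring, by rw [hb1, neg_one_smul]⟩
        · exact ⟨-1, by ring, by rw [ab_sq hab ha1 hb1, neg_one_smul]⟩
      -- every element of `N` is a scalar multiple of one of the four matrices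
      have hform : ∀ y ∈ N, ∃ (s : F) (G : Matrix (Fin n) (Fin n) F), (G = 1 ∨ G = A ∨ G = B ∨ G = A * B) ∧
          (y : Matrix (Fin n) (Fin n) F) = s • G := by
        intro y hy
        obtain ⟨g, hgN, hg4, h5, h6⟩ := htw y hy
        have hz := hsc (y * g) (N.mul_mem hy hgN) (by rw [Units.val_mul]; exact h5)
          (by rw [Units.val_mul]; exact h6)
        obtain ⟨c, hc⟩ := (mem_scalars_iff _).1 hz
        rw [Units.val_mul] at hc
        obtain ⟨ε, hεε, hG⟩ := hsq4 _ hg4
        refine ⟨ε * c, (g : Matrix (Fin n) (Fin n) F), hg4, ?_⟩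
        have h7 : (y : Matrix (Fin n) (Fin n) F) * ((g : Matrix (Fin n) (Fin n) F) *
            (g : Matrix (Fin n) (Fin n) F)) = (c : F) • (g : Matrix (Fin n) (Fin n) F) := by
          rw [← mul_assoc, hc, Matrix.smul_mul, Matrix.one_mul]
        rw [hG, Matrix.mul_smul, Matrix.mul_one] at h7
        calc (y : Matrix (Fin n) (Fin n) F) = (ε * ε) • (y : Matrix (Fin n) (Fin n) F) := by rw [hεε, one_smul]
          _ = ε • (ε • (y : Matrix (Fin n) (Fin n) F)) := by rw [smul_smul]
          _ = (ε * c) • (g : Matrix (Fin n) (Fin n) F) := by rw [h7, smul_smul]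
      -- an invariant subspace of dimension at most four
      let v : Fin n → F := Pi.single (⟨0, by omega⟩ : Fin n) 1
      have hv0 : v ≠ 0 := by
        intro h
        have := congrFun h ⟨0, by omega⟩
        simp [v] at this
      let S : Finset (Fin n → F) := {v, A *ᵥ v, B *ᵥ v, (A * B) *ᵥ v}
      let W : Submodule F (Fin n → F) := Submodule.span F (S : Set (Fin n → F))
      have hGv : ∀ G : Matrix (Fin n) (Fin n) F, (G = 1 ∨ G = A ∨ G = B ∨ G = A * B) → G *ᵥ v ∈ W := by
        rintro G (rfl | rfl | rfl | rfl)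
        · rw [Matrix.one_mulVec]
          exact Submodule.subset_span (by simp [S])
        · exact Submodule.subset_span (by simp [S])
        · exact Submodule.subset_span (by simp [S])
        · exact Submodule.subset_span (by simp [S])
      have hinv : ∀ s ∈ matrixSet N, W.map (Matrix.toLin' s) ≤ W := by
        intro s hs
        obtain ⟨y, hy, rfl⟩ := mem_matrixSet_iff.1 hs
        rw [Submodule.map_span_le]
        intro w hw
        rw [Matrix.toLin'_apply]
        -- `w = G v` for one of the four matrices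
        have hwG : ∃ G : Matrix (Fin n) (Fin n) F, (G = 1 ∨ G = A ∨ G = B ∨ G = A * B) ∧ w = G *ᵥ v := by
          simp only [S, Finset.coe_insert, Finset.coe_singleton, Set.mem_insert_iff, Set.mem_singleton_iff] at hw
          rcases hw with rfl | rfl | rfl | rfl
          · exact ⟨1, Or.inl rfl, (Matrix.one_mulVec _).symm⟩
          · exact ⟨A, Or.inr (Or.inl rfl), rfl⟩
          · exact ⟨B, Or.inr (Or.inr (Or.inl rfl)), rfl⟩
          · exact ⟨A * B, Or.inr (Or.inr (Or.inr rfl)), rfl⟩
        obtain ⟨G, hG4, rfl⟩ := hwG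
        -- `y * g` is again of this form
        have hgN : ∃ g ∈ N, (g : Matrix (Fin n) (Fin n) F) = G := by
          rcases hG4 with rfl | rfl | rfl | rfl
          · exact ⟨1, N.one_mem, Units.val_one⟩
          · exact ⟨a, haN, rfl⟩
          · exact ⟨b, hbN, rfl⟩
          · exact ⟨a * b, N.mul_mem haN hbN, Units.val_mul a b⟩
        obtain ⟨g, hgN, rfl⟩ := hgN
        obtain ⟨s, G', hG', h8⟩ := hform (y * g) (N.mul_mem hy hgN)
        rw [Matrix.mulVec_mulVec, ← Units.val_mul, h8, Matrix.smul_mulVec]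
        exact W.smul_mem s (hGv G' hG')
      rcases hirr W hinv with hbot | htop
      · have hvW : v ∈ W := Submodule.subset_span (by simp [S])
        rw [hbot] at hvW
        exact hv0 ((Submodule.mem_bot F).1 hvW)
      · have h9 : Module.finrank F W ≤ 4 :=
          (finrank_span_finset_le_card S).trans Finset.card_le_four
        rw [htop, finrank_top, Module.finrank_fin_fun] at h9
        omega
    obtain ⟨c, hcN, hcs, hcA, hcB⟩ := hex
    rcases hsq c hcN with hc1 | hc1
    · exact ⟨c, hcN, hcs, hc1⟩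
    -- `a * c` is a non-scalar involution
    refine ⟨a * c, N.mul_mem haN hcN, ?_, ?_⟩
    · intro hacs
      obtain ⟨s, hs⟩ := (mem_scalars_iff _).1 hacs
      rw [Units.val_mul, ← hA] at hs
      -- then `A * C` commutes with `B`, but it anticommutes
      have h10 : (A * (c : Matrix (Fin n) (Fin n) F)) * B = B * (A * (c : Matrix (Fin n) (Fin n) F)) := by
        rw [hs, Matrix.smul_mul, Matrix.mul_smul, Matrix.one_mul, Matrix.mul_one]
      have h11 : (A * (c : Matrix (Fin n) (Fin n) F)) * B = -(B * (A * (c : Matrix (Fin n) (Fin n) F))) := by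
        calc (A * (c : Matrix (Fin n) (Fin n) F)) * B = A * (B * (c : Matrix (Fin n) (Fin n) F)) := by
              rw [mul_assoc, hcB]
          _ = -(B * (A * (c : Matrix (Fin n) (Fin n) F))) := by rw [← mul_assoc, hab, neg_mul, mul_assoc]
      rw [h11] at h10
      have hu : IsUnit (B * (A * (c : Matrix (Fin n) (Fin n) F))) := by
        rw [hA, hB, ← Units.val_mul, ← Units.val_mul]
        exact (b * (a * c)).isUnit
      exact hne _ hu h10.symm
    · rw [Units.val_mul, ← hA]
      calc A * (c : Matrix (Fin n) (Fin n) F) * (A * (c : Matrix (Fin n) (Fin n) F))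
          = A * ((c : Matrix (Fin n) (Fin n) F) * A) * (c : Matrix (Fin n) (Fin n) F) := by
            rw [mul_assoc, mul_assoc, mul_assoc]
        _ = (A * A) * ((c : Matrix (Fin n) (Fin n) F) * (c : Matrix (Fin n) (Fin n) F)) := by
            rw [hcA, mul_assoc, mul_assoc, mul_assoc]
        _ = 1 := by rw [ha1, hc1]; simp
  obtain ⟨y, hyN, hxy⟩ := hanti x hxN hxs
  exact plus_of_involution h2 hdvd Q hQ x y (hNI hxN) (hNI hyN) hxx hxy

end Cfsg.Agent.Lead.AschOm
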