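import Mathlib
import Cfsg.Prelude.Def_GeometricClasses
import Cfsg.Agent.Lead.AschBase
import Cfsg.Agent.Lead.AschOBase
import Cfsg.Agent.Lead.AschOmA

/-!
# ASCH-OM round 2 (lead): piece P1 `ts_pair_quad`
-/

set_option autoImplicit false

namespace Cfsg.Agent.Lead.AschOm

open Cfsg Cfsg.Geo Cfsg.Agent.Lead.Asch Cfsg.Agent.Lead.AschO
open scoped MatrixGroups Matrix commutatorElement

variable {n : ℕ} {F : Type*} [Field F]

/-- P1: two complementary subspaces that are totally singular for the polar form and permuted by an irreducible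
group of isometries are totally singular for `Q`. -/
theorem ts_pair_quad [Fintype F] (Q : (Fin n → F) → F) (hQ : IsNondegenerateQuadraticForm Q)
    {H : Subgroup (GL (Fin n) F)} (hHI : H ≤ isometryGroup F Q) (hirr : ActsIrreducibly (matrixSet H))
    (m : ℕ) (hm : 2 ≤ m) (D : Fin 2 → Submodule F (Fin n → F)) (hD : IsMDecomposition m D)
    (hts : ∀ i, IsTotallySingularFor (QuadraticMap.polar Q) (D i)) (hle : H ≤ decompositionStabilizer D) :
    ∀ i, IsTotallySingularQuad Q (D i) := by
  have hSD : ∀ i, singSub Q hQ (D i) (hts i) ≤ D i := fun i x hx => hx.1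
  have hinv : ∀ s ∈ matrixSet H, (⨆ i, singSub Q hQ (D i) (hts i)).map (Matrix.toLin' s) ≤
      ⨆ i, singSub Q hQ (D i) (hts i) := by
    rintro s ⟨g, hg, rfl⟩
    obtain ⟨σ, hσ⟩ := hle hg
    have hgI := mem_isometryGroup_iff.1 (hHI hg)
    rw [Submodule.map_iSup]
    refine iSup_le fun i => ?_
    refine le_trans ?_ (le_iSup (fun i => singSub Q hQ (D i) (hts i)) (σ i))
    rintro x ⟨y, hy, rfl⟩
    refine ⟨?_, ?_⟩
    · rw [← hσ i]
      exact Submodule.mem_map_of_mem hy.1
    · rw [Matrix.toLin'_apply, hgI]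
      exact hy.2
  rcases hirr _ hinv with hbot | htop
  · exfalso
    have hS0 : singSub Q hQ (D 0) (hts 0) = ⊥ :=
      eq_bot_iff.2 (hbot ▸ le_iSup (fun i => singSub Q hQ (D i) (hts i)) 0)
    obtain ⟨v, hv, hv0, hQv⟩ := exists_singular_of_polar_ts Q hQ (D 0) (hts 0) (by rw [hD.finrank_eq 0]; exact hm)
    have : v ∈ singSub Q hQ (D 0) (hts 0) := ⟨hv, hQv⟩
    rw [hS0] at this
    exact hv0 ((Submodule.mem_bot F).1 this)
  · have hsup : (⨆ i, singSub Q hQ (D i) (hts i)) =
        singSub Q hQ (D 0) (hts 0) ⊔ singSub Q hQ (D 1) (hts 1) := by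
      apply le_antisymm
      · refine iSup_le fun i => ?_
        fin_cases i
        · exact le_sup_left
        · exact le_sup_right
      · exact sup_le (le_iSup (fun i => singSub Q hQ (D i) (hts i)) 0)
          (le_iSup (fun i => singSub Q hQ (D i) (hts i)) 1)
    have hdisj : Disjoint (D 0) (D 1) := hD.indep.pairwiseDisjoint (by decide : (0 : Fin 2) ≠ 1)
    have key : ∀ v, v ∈ D 0 ∨ v ∈ D 1 → Q v = 0 := by
      intro v hv
      have hvS : v ∈ ⨆ i, singSub Q hQ (D i) (hts i) := htop ▸ Submodule.mem_top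
      rw [hsup] at hvS
      obtain ⟨a, ha, b, hb, rfl⟩ := Submodule.mem_sup.1 hvS
      rcases hv with hv | hv
      · have hbD0 : b ∈ D 0 := by
          have := (D 0).sub_mem hv (hSD 0 ha)
          simpa using this
        have hb0 : b = 0 := by
          have : b ∈ D 0 ⊓ D 1 := ⟨hbD0, hSD 1 hb⟩
          rw [hdisj.eq_bot] at this
          exact (Submodule.mem_bot F).1 this
        rw [hb0, add_zero]
        exact ha.2
      · have haD1 : a ∈ D 1 := by
          have := (D 1).sub_mem hv (hSD 1 hb)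
          simpa using this
        have ha0 : a = 0 := by
          have : a ∈ D 0 ⊓ D 1 := ⟨hSD 0 ha, haD1⟩
          rw [hdisj.eq_bot] at this
          exact (Submodule.mem_bot F).1 this
        rw [ha0, zero_add]
        exact hb.2
    intro i w hw
    fin_cases i
    · exact key w (Or.inl hw)
    · exact key w (Or.inr hw)

end Cfsg.Agent.Lead.AschOm
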