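import Mathlib
import Cfsg.Prelude.Def_GeometricClasses
import Cfsg.Agent.Lead.AschBase
import Cfsg.Agent.Lead.AschOBase
import Cfsg.Agent.Lead.AschOC2
import Cfsg.Agent.Lead.AschOmA
import Cfsg.Agent.Helper6.AschCompCliff

/-!
# ASCH-OM round 2 (lead): piece C1 `c2_lines_nonprime_gen`: a decomposition into isometric non-degenerate lines over a
non-prime field is defined over a subfield
-/

set_option autoImplicit false

namespace Cfsg.Agent.Lead.AschOm

open Cfsg Cfsg.Geo Cfsg.Agent.Lead.Asch Cfsg.Agent.Lead.AschO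
open scoped MatrixGroups Matrix commutatorElement

variable {n : ℕ} {F : Type*} [Field F]

/-- the subfield conclusion -/
def SubfieldConcl [Fintype F] (Q : (Fin n → F) → F) (H : Subgroup (GL (Fin n) F)) : Prop :=
  ∃ (F₀ : Subfield F) (r : ℕ) (P : GL (Fin n) F) (ζ : F), r.Prime ∧ Fintype.card F = Nat.card F₀ ^ r ∧ ζ ≠ 0 ∧
    IsQuadFormRationalStructure (fun v : Fin n → F => ζ * Q v) F₀ P ∧ H ≤ subfieldSubgroup F₀ P

/-- a decomposition into isometric non-degenerate lines: any subfield carries the structure -/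
theorem c2_lines_subfield [Fintype F] (Q : (Fin n → F) → F) (hQ : IsNondegenerateQuadraticForm Q)
    (D : Fin n → Submodule F (Fin n → F)) (hD : IsOrthogonalMDecomposition Q 1 D) (hn : 0 < n)
    (F₁ : Subfield F) :
    ∃ (P : GL (Fin n) F) (ζ : F), ζ ≠ 0 ∧ IsQuadFormRationalStructure (fun v : Fin n → F => ζ * Q v) F₁ P ∧
      decompositionStabilizer D ⊓ isometryGroup F Q ≤ subfieldSubgroup F₁ P := by
  classical
  have hbil : IsBilinearForm (QuadraticMap.polar Q) := hQ.polar_bilinear
  obtain ⟨b, hb1, hb2⟩ := Cfsg.Agent.Helper7.Asch.exists_line_basis D hD.decomp.decomp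
  let i₀ : Fin n := ⟨0, hn⟩
  have hspan : ∀ i v, v ∈ D i → v = b.equivFun v i • b i := by
    intro i v hv
    conv_lhs => rw [← b.sum_equivFun v]
    rw [Finset.sum_eq_single i]
    · intro j _ hj
      rw [hb2 i v hv j hj, zero_smul]
    · intro h
      exact absurd (Finset.mem_univ i) h
  have hpol : ∀ i, QuadraticMap.polar Q (b i) (b i) ≠ 0 := by
    intro i h0
    obtain ⟨⟨x, hx, hx0⟩, -⟩ := hD.decomp.nondegenerate i (b i) (hb1 i) (b.ne_zero i)
    apply hx0
    rw [hspan i x hx, hbil.smul_left, h0, mul_zero]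
  have h2 : (2 : F) ≠ 0 := by
    intro h2
    apply hpol i₀
    rw [polar_self hQ, h2, zero_mul]
  have hqne : ∀ i, Q (b i) ≠ 0 := by
    intro i h0
    apply hpol i
    rw [polar_self hQ, h0, mul_zero]
  have hai : ∀ i, ∃ a : F, a ≠ 0 ∧ a ^ 2 * Q (b i) = Q (b i₀) := by
    intro i
    obtain ⟨e, he⟩ := hD.isometric i₀ i
    have h1 := he ⟨b i₀, hb1 i₀⟩
    have hw := hspan i ((e ⟨b i₀, hb1 i₀⟩ : D i) : Fin n → F) (e ⟨b i₀, hb1 i₀⟩).2
    refine ⟨b.equivFun ((e ⟨b i₀, hb1 i₀⟩ : D i) : Fin n → F) i, ?_, ?_⟩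
    · intro h0
      rw [h0, zero_smul] at hw
      rw [hw, Cfsg.Agent.Lead.AschO.quad_zero hQ] at h1
      exact hqne i₀ h1.symm
    · rw [← hQ.smul, ← hw]
      exact h1
  choose a ha0 ha using hai
  set q₀ := Q (b i₀) with hq₀
  have hq₀ne : q₀ ≠ 0 := hqne i₀
  -- the rescaled basis
  let w : Fin n → Fˣ := fun i => Units.mk0 (a i) (ha0 i)
  let b' : Module.Basis (Fin n) F (Fin n → F) := b.unitsSMul w
  have hb'app : ∀ i, b' i = a i • b i := by
    intro i
    rw [Module.Basis.unitsSMul_apply]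
    rfl
  have hb'1 : ∀ i, b' i ∈ D i := by
    intro i
    rw [hb'app]
    exact (D i).smul_mem _ (hb1 i)
  have hb'2 : ∀ i v, v ∈ D i → ∀ j, j ≠ i → b'.equivFun v j = 0 := by
    intro i v hv j hj
    rw [Module.Basis.equivFun_apply, Module.Basis.repr_unitsSMul]
    have := hb2 i v hv j hj
    rw [Module.Basis.equivFun_apply] at this
    rw [this, smul_zero]
  have hb'Q : ∀ i, Q (b' i) = q₀ := by
    intro i
    rw [hb'app, hQ.smul, ha i]
  have horth : ∀ i j, i ≠ j → QuadraticMap.polar Q (b i) (b j) = 0 := fun i j hij =>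
    hD.decomp.orthogonal i j hij (b i) (hb1 i) (b j) (hb1 j)
  have hb'orth : ∀ i j, i ≠ j → QuadraticMap.polar Q (b' i) (b' j) = 0 := by
    intro i j hij
    rw [hb'app, hb'app, hbil.smul_left, hbil.smul_right, horth i j hij]
    ring
  have hQform : ∀ u, Q (colMat b' *ᵥ u) = q₀ * ∑ i, u i ^ 2 := quad_of_orthonormal h2 hQ b' q₀ hb'Q hb'orth
  refine ⟨colGL b', q₀⁻¹, inv_ne_zero hq₀ne, ?_, ?_⟩
  · intro u hu
    show q₀⁻¹ * Q ((colGL b' : Matrix (Fin n) (Fin n) F) *ᵥ u) ∈ F₁
    rw [colGL_val, hQform, ← mul_assoc, inv_mul_cancel₀ hq₀ne, one_mul]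
    exact F₁.sum_mem (fun i _ => F₁.pow_mem (hu i) 2)
  · have key : ∀ g : GL (Fin n) F, g ∈ decompositionStabilizer D → g ∈ isometryGroup F Q →
        ∀ k i, ((colGL b')⁻¹ * g * colGL b' : GL (Fin n) F).1 k i ∈ F₁ := by
      intro g hgD hgI
      obtain ⟨τ, c, hc0, hc⟩ := Cfsg.Agent.Helper7.Asch.exists_monomial b' hb'1 hb'2 hgD
      have hcsq : ∀ i, c i ^ 2 = 1 := by
        intro i
        have h1 : Q ((g : Matrix (Fin n) (Fin n) F) *ᵥ b' i) = Q (b' i) :=
          mem_isometryGroup_iff.1 hgI (b' i)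
        have h3 : Q ((g : Matrix (Fin n) (Fin n) F) *ᵥ b' i) = q₀ * c i ^ 2 := by
          rw [← colMat_mulVec_equivFun b' ((g : Matrix (Fin n) (Fin n) F) *ᵥ b' i), hQform]
          congr 1
          rw [← Equiv.sum_comp τ]
          rw [Finset.sum_eq_single i]
          · rw [hc, Cfsg.Agent.Helper7.Asch.coord_self, mul_one]
          · intro j _ hj
            rw [hc, Cfsg.Agent.Helper7.Asch.coord_ne b' (Ne.symm hj), mul_zero]
            ring
          · intro h
            exact absurd (Finset.mem_univ i) h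
        rw [h3, hb'Q] at h1
        have : q₀ * (c i ^ 2 - 1) = 0 := by
          rw [mul_sub, h1, mul_one, sub_self]
        rcases mul_eq_zero.1 this with h | h
        · exact absurd h hq₀ne
        · exact sub_eq_zero.1 h
      have hcF : ∀ i, c i ∈ F₁ := by
        intro i
        have h1 : (c i - 1) * (c i + 1) = 0 := by linear_combination hcsq i
        rcases mul_eq_zero.1 h1 with h | h
        · rw [sub_eq_zero.1 h]
          exact F₁.one_mem
        · rw [eq_neg_of_add_eq_zero_left h]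
          exact F₁.neg_mem F₁.one_mem
      intro k i
      have hentry : ((colGL b')⁻¹ * g * colGL b' : GL (Fin n) F).1 k i =
          b'.equivFun ((g : Matrix (Fin n) (Fin n) F) *ᵥ b' i) k := by
        have h1 : ((colGL b')⁻¹ * g * colGL b' : GL (Fin n) F).1 *ᵥ (Pi.single i 1) =
            b'.equivFun ((g : Matrix (Fin n) (Fin n) F) *ᵥ b' i) := by
          rw [Units.val_mul, Units.val_mul, colGL_val, colGL_inv_val, ← Matrix.mulVec_mulVec,
            ← Matrix.mulVec_mulVec, colMat_mulVec_single, rowMat_mulVec]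
        have h3 := congrFun h1 k
        rw [Matrix.mulVec_single_one] at h3
        exact h3
      rw [hentry]
      obtain ⟨j, rfl⟩ := τ.surjective k
      rw [hc]
      by_cases hij : i = j
      · subst hij
        rw [Cfsg.Agent.Helper7.Asch.coord_self, mul_one]
        exact hcF i
      · rw [Cfsg.Agent.Helper7.Asch.coord_ne b' hij, mul_zero]
        exact F₁.zero_mem
    intro g hg
    have hE := Cfsg.Agent.Helper6.Asch.mem_range_map_of_entries F₁ ((colGL b')⁻¹ * g * colGL b')
      (key g hg.1 hg.2)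
    unfold subfieldSubgroup
    refine ⟨(colGL b')⁻¹ * g * colGL b', Subgroup.mem_sup_left hE, ?_⟩
    simp only [MulEquiv.coe_toMonoidHom, MulAut.conj_apply]
    group

/-- **C1**: a decomposition into isometric non-degenerate lines over a non-prime field is defined over a subfield. -/
theorem c2_lines_nonprime_gen [Fintype F] (Q : (Fin n → F) → F) (hQ : IsNondegenerateQuadraticForm Q) {t : ℕ}
    (D : Fin t → Submodule F (Fin n → F)) (hD : IsOrthogonalMDecomposition Q 1 D)
    (hq : ¬ (Fintype.card F).Prime) {H : Subgroup (GL (Fin n) F)} (hHI : H ≤ isometryGroup F Q)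
    (hle : H ≤ decompositionStabilizer D) : SubfieldConcl Q H := by
  have htn : t = n := by
    have := Cfsg.Agent.Helper6.AschComp.card_mul_of_isMDecomposition D hD.decomp.decomp
    omega
  subst htn
  have hn : 0 < t := by
    have := hD.decomp.decomp.two_le
    omega
  obtain ⟨σ, F₁, r, hr, hcard, -, -⟩ :=
    Cfsg.Agent.Helper6.Asch.exists_prime_fixed_subfield (⊥ : Subfield F) (bot_ne_top_of_not_prime hq)
  obtain ⟨P, ζ, hζ, hrat, hsub⟩ := c2_lines_subfield Q hQ D hD hn F₁
  exact ⟨F₁, r, P, ζ, hr, hcard, hζ, hrat, fun g hg => hsub ⟨hle hg, hHI hg⟩⟩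

end Cfsg.Agent.Lead.AschOm
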