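import Mathlib
import Cfsg.Prelude.Def_GeometricClasses
import Cfsg.Agent.Helper3.AschOmM3c

/-!
# ASCH-OM round 2 (lead): piece X2 `tensor_two_q2_field`: over the field with two elements a tensor decomposition with a
first factor of dimension two is normalised by a field of degree two (`GL_2(2)` normalises `F_4`)
-/

set_option autoImplicit false
set_option linter.unusedSectionVars false

namespace Cfsg.Agent.Lead.AschOm

open Matrix Cfsg Cfsg.Geo Cfsg.Agent.Helper7.TensNM Cfsg.Agent.Helper7.TnSp Cfsg.Agent.Helper9.AschComp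
  Cfsg.Agent.Helper3.AschOm
open scoped MatrixGroups Kronecker

variable {n : ℕ} {F : Type*} [Field F]

/-- the Fibonacci matrix: `Θ² = Θ + 1` -/
def Th : Matrix (Fin 2) (Fin 2) F := !![0, 1; 1, 1]

theorem Th_sq : (Th : Matrix (Fin 2) (Fin 2) F) * Th = Th + 1 := by
  ext i j
  fin_cases i <;> fin_cases j <;> simp [Th, Matrix.mul_apply, Fin.sum_univ_two] <;> norm_num

theorem lin_Th_apply (x y : F) : x • (1 : Matrix (Fin 2) (Fin 2) F) + y • Th = !![x, y; y, x + y] := by
  ext i j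
  fin_cases i <;> fin_cases j <;> simp [Th]

/-- `F + F Θ` -/
def K4 : Subalgebra F (Matrix (Fin 2) (Fin 2) F) where
  carrier := {z | ∃ x y : F, z = x • (1 : Matrix (Fin 2) (Fin 2) F) + y • Th}
  mul_mem' := by
    rintro _ _ ⟨x, y, rfl⟩ ⟨x', y', rfl⟩
    refine ⟨x * x' + y * y', x * y' + y * x' + y * y', ?_⟩
    have hJ := Th_sq (F := F)
    simp only [add_mul, mul_add, smul_mul_assoc, mul_smul_comm, one_mul, mul_one, hJ, smul_smul]
    module
  one_mem' := ⟨1, 0, by rw [one_smul, zero_smul, add_zero]⟩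
  add_mem' := by
    rintro _ _ ⟨x, y, rfl⟩ ⟨x', y', rfl⟩
    exact ⟨x + x', y + y', by module⟩
  zero_mem' := ⟨0, 0, by rw [zero_smul, zero_smul, add_zero]⟩
  algebraMap_mem' := fun c => ⟨c, 0, by rw [Algebra.algebraMap_eq_smul_one, zero_smul, add_zero]⟩

theorem mem_K4 {z : Matrix (Fin 2) (Fin 2) F} :
    z ∈ (K4 : Subalgebra F (Matrix (Fin 2) (Fin 2) F)) ↔
      ∃ x y : F, z = x • (1 : Matrix (Fin 2) (Fin 2) F) + y • Th := Iff.rfl

theorem K4_comm {z w : Matrix (Fin 2) (Fin 2) F} (hz : z ∈ (K4 : Subalgebra F (Matrix (Fin 2) (Fin 2) F)))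
    (hw : w ∈ (K4 : Subalgebra F (Matrix (Fin 2) (Fin 2) F))) : z * w = w * z := by
  obtain ⟨x, y, rfl⟩ := hz
  obtain ⟨x', y', rfl⟩ := hw
  simp only [add_mul, mul_add, smul_mul_assoc, mul_smul_comm, one_mul, mul_one]
  module

theorem K4_finrank : Module.finrank F (K4 : Subalgebra F (Matrix (Fin 2) (Fin 2) F)) = 2 := by
  let φ : (F × F) →ₗ[F] (K4 : Subalgebra F (Matrix (Fin 2) (Fin 2) F)) :=
    { toFun := fun p => ⟨p.1 • (1 : Matrix (Fin 2) (Fin 2) F) + p.2 • Th, ⟨p.1, p.2, rfl⟩⟩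
      map_add' := fun a b => by
        apply Subtype.ext
        show (a + b).1 • (1 : Matrix (Fin 2) (Fin 2) F) + (a + b).2 • Th =
          (a.1 • (1 : Matrix (Fin 2) (Fin 2) F) + a.2 • Th) + (b.1 • (1 : Matrix (Fin 2) (Fin 2) F) + b.2 • Th)
        rw [Prod.fst_add, Prod.snd_add]
        module
      map_smul' := fun c a => by
        apply Subtype.ext
        show (c • a).1 • (1 : Matrix (Fin 2) (Fin 2) F) + (c • a).2 • Th =
          c • (a.1 • (1 : Matrix (Fin 2) (Fin 2) F) + a.2 • Th)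
        rw [Prod.smul_fst, Prod.smul_snd, smul_eq_mul, smul_eq_mul]
        module }
  have hinj : Function.Injective φ := by
    rw [← LinearMap.ker_eq_bot, LinearMap.ker_eq_bot']
    rintro ⟨x, y⟩ h
    have h' : x • (1 : Matrix (Fin 2) (Fin 2) F) + y • Th = 0 := congrArg Subtype.val h
    rw [lin_Th_apply] at h'
    have h00 := congrFun (congrFun h' 0) 0
    have h01 := congrFun (congrFun h' 0) 1
    simp at h00 h01
    rw [h00, h01]
    rfl
  have hsurj : Function.Surjective φ := by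
    rintro ⟨_, x, y, rfl⟩
    exact ⟨(x, y), rfl⟩
  rw [← (LinearEquiv.ofBijective φ ⟨hinj, hsurj⟩).finrank_eq, Module.finrank_prod, Module.finrank_self]

/-- in a field with two elements every element is `0` or `1` -/
theorem eq_zero_or_one_of_card_two [Fintype F] (hq : Fintype.card F = 2) (x : F) : x = 0 ∨ x = 1 := by
  classical
  by_contra h
  push Not at h
  have h3 : ({0, 1, x} : Finset F).card = 3 := by
    rw [Finset.card_insert_of_notMem, Finset.card_insert_of_notMem, Finset.card_singleton]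
    · simpa using h.2.symm
    · simp only [Finset.mem_insert, Finset.mem_singleton, not_or]
      exact ⟨zero_ne_one, h.1.symm⟩
  have := Finset.card_le_univ ({0, 1, x} : Finset F)
  omega

theorem two_eq_zero_of_card_two [Fintype F] (hq : Fintype.card F = 2) : (2 : F) = 0 := by
  rcases eq_zero_or_one_of_card_two hq (2 : F) with h | h
  · exact h
  · exfalso
    have : (1 : F) = 0 := by linear_combination h
    exact one_ne_zero this

theorem K4_inv [Fintype F] (hq : Fintype.card F = 2) {z : Matrix (Fin 2) (Fin 2) F}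
    (hz : z ∈ (K4 : Subalgebra F (Matrix (Fin 2) (Fin 2) F))) (h0 : z ≠ 0) :
    ∃ w ∈ (K4 : Subalgebra F (Matrix (Fin 2) (Fin 2) F)), z * w = 1 := by
  have h2 := two_eq_zero_of_card_two hq
  obtain ⟨x, y, rfl⟩ := hz
  have hJ := Th_sq (F := F)
  refine ⟨(x + y) • (1 : Matrix (Fin 2) (Fin 2) F) + (-y) • Th, ⟨x + y, -y, rfl⟩, ?_⟩
  have hN : x ^ 2 + x * y - y ^ 2 = 1 := by
    rcases eq_zero_or_one_of_card_two hq x with rfl | rfl <;>
      rcases eq_zero_or_one_of_card_two hq y with rfl | rfl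
    · exact absurd (by rw [zero_smul, zero_smul, add_zero]) h0
    · linear_combination -h2
    · ring
    · ring
  simp only [add_mul, mul_add, smul_mul_assoc, mul_smul_comm, one_mul, mul_one, hJ, smul_smul]
  calc _ = (x ^ 2 + x * y - y ^ 2) • (1 : Matrix (Fin 2) (Fin 2) F) := by module
    _ = 1 := by rw [hN, one_smul]

theorem K4_isField [Fintype F] (hq : Fintype.card F = 2) :
    IsFieldSubalgebra 2 (K4 : Subalgebra F (Matrix (Fin 2) (Fin 2) F)) :=
  ⟨fun _ hx _ hy => K4_comm hx hy, fun _ hx h0 => K4_inv hq hx h0, K4_finrank⟩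

/-- over the field with two elements a matrix of trace one and determinant one lies in `F + F Θ` -/
theorem mem_K4_of_trace_det [Fintype F] (hq : Fintype.card F = 2) (M : Matrix (Fin 2) (Fin 2) F)
    (htr : M 0 0 + M 1 1 = 1) (hdet : M 0 0 * M 1 1 - M 0 1 * M 1 0 = 1) :
    M ∈ (K4 : Subalgebra F (Matrix (Fin 2) (Fin 2) F)) := by
  have h2 := two_eq_zero_of_card_two hq
  have h11 : (1 : F) + 1 = 0 := by linear_combination h2
  have hM : M = !![M 0 0, M 0 1; M 1 0, M 1 1] := by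
    ext i j
    fin_cases i <;> fin_cases j <;> rfl
  rcases eq_zero_or_one_of_card_two hq (M 0 0) with h00 | h00 <;>
    rcases eq_zero_or_one_of_card_two hq (M 1 1) with h11' | h11' <;>
    rcases eq_zero_or_one_of_card_two hq (M 0 1) with h01 | h01 <;>
    rcases eq_zero_or_one_of_card_two hq (M 1 0) with h10 | h10 <;>
    rw [h00, h11', h01, h10] at hdet <;> rw [h00, h11'] at htr
  all_goals first
    | (exfalso; simp at htr; done)
    | (exfalso; simp at hdet; done)
    | (exfalso; rw [h11] at htr; exact zero_ne_one htr)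
    | (refine ⟨0, 1, ?_⟩
       rw [lin_Th_apply, hM, h00, h11', h01, h10]
       simp; done)
    | (refine ⟨1, 1, ?_⟩
       rw [lin_Th_apply, hM, h00, h11', h01, h10, h11]; done)

/-- over the field with two elements every invertible matrix normalises `F + F Θ` -/
theorem K4_conj [Fintype F] (hq : Fintype.card F = 2) (a : GL (Fin 2) F) {z : Matrix (Fin 2) (Fin 2) F}
    (hz : z ∈ (K4 : Subalgebra F (Matrix (Fin 2) (Fin 2) F))) :
    (a : Matrix (Fin 2) (Fin 2) F) * z * ((a⁻¹ : GL (Fin 2) F) : Matrix (Fin 2) (Fin 2) F) ∈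
      (K4 : Subalgebra F (Matrix (Fin 2) (Fin 2) F)) := by
  have h2 := two_eq_zero_of_card_two hq
  obtain ⟨x, y, rfl⟩ := hz
  have hTh : (a : Matrix (Fin 2) (Fin 2) F) * Th * ((a⁻¹ : GL (Fin 2) F) : Matrix (Fin 2) (Fin 2) F) ∈
      (K4 : Subalgebra F (Matrix (Fin 2) (Fin 2) F)) := by
    have hainv : ((a⁻¹ : GL (Fin 2) F) : Matrix (Fin 2) (Fin 2) F) * (a : Matrix (Fin 2) (Fin 2) F) = 1 := by
      rw [← Units.val_mul, inv_mul_cancel, Units.val_one]
    have htr : Matrix.trace ((a : Matrix (Fin 2) (Fin 2) F) * Th *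
        ((a⁻¹ : GL (Fin 2) F) : Matrix (Fin 2) (Fin 2) F)) = 1 := by
      rw [Matrix.trace_mul_comm, ← Matrix.mul_assoc, hainv, Matrix.one_mul, Matrix.trace_fin_two]
      simp [Th]
    have hdet : Matrix.det ((a : Matrix (Fin 2) (Fin 2) F) * Th *
        ((a⁻¹ : GL (Fin 2) F) : Matrix (Fin 2) (Fin 2) F)) = 1 := by
      rw [Matrix.det_mul, Matrix.det_mul, mul_right_comm, ← Matrix.det_mul, ← Units.val_mul, mul_inv_cancel,
        Units.val_one, Matrix.det_one, one_mul, Matrix.det_fin_two]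
      simp only [Th, Matrix.of_apply, Matrix.cons_val', Matrix.cons_val_zero, Matrix.cons_val_one,
        Matrix.empty_val', Matrix.cons_val_fin_one, Matrix.head_cons, Matrix.head_fin_const]
      linear_combination -h2
    apply mem_K4_of_trace_det hq
    · rw [← Matrix.trace_fin_two]
      exact htr
    · rw [← Matrix.det_fin_two]
      exact hdet
  have hone : (a : Matrix (Fin 2) (Fin 2) F) * 1 * ((a⁻¹ : GL (Fin 2) F) : Matrix (Fin 2) (Fin 2) F) = 1 := by
    rw [Matrix.mul_one, ← Units.val_mul, mul_inv_cancel, Units.val_one]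
  have : (a : Matrix (Fin 2) (Fin 2) F) * (x • (1 : Matrix (Fin 2) (Fin 2) F) + y • Th) *
      ((a⁻¹ : GL (Fin 2) F) : Matrix (Fin 2) (Fin 2) F) =
      x • (1 : Matrix (Fin 2) (Fin 2) F) +
        y • ((a : Matrix (Fin 2) (Fin 2) F) * Th * ((a⁻¹ : GL (Fin 2) F) : Matrix (Fin 2) (Fin 2) F)) := by
    rw [Matrix.mul_add, Matrix.add_mul, Matrix.mul_smul, Matrix.smul_mul, Matrix.mul_smul, Matrix.smul_mul, hone]
  rw [this]
  exact Subalgebra.add_mem _ (Subalgebra.smul_mem _ (Subalgebra.one_mem _) x) (Subalgebra.smul_mem _ hTh y)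

/-- **X2**: over the field with two elements a subgroup of a tensor product group with a first factor of dimension two
normalises a field of degree two -/
theorem tensor_two_q2_field [Fintype F] (hq : Fintype.card F = 2) {H : Subgroup (GL (Fin n) F)} {n₂ : ℕ}
    (hn₂ : 0 < n₂) (e : Fin n ≃ Fin 2 × Fin n₂) (P : GL (Fin n) F)
    (hle : H ≤ tensorProductSubgroup 2 n₂ e P) :
    ∃ K : Subalgebra F (Matrix (Fin n) (Fin n) F), IsFieldSubalgebra 2 K ∧ H ≤ subalgebraNormalizer K := by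
  have hE : IsFieldSubalgebra 2 (K4 : Subalgebra F (Matrix (Fin 2) (Fin 2) F)) := K4_isField hq
  refine ⟨(K4 : Subalgebra F (Matrix (Fin 2) (Fin 2) F)).map (tensHom e P),
    isFieldSubalgebra_map hE _ (tensHom_injective hn₂ e P), ?_⟩
  apply le_subalgebraNormalizer_of_conj_mem
  rintro g hg _ ⟨z, hz, rfl⟩
  obtain ⟨a, b, hab⟩ := mem_tensor (hle hg)
  have hginv : ((g⁻¹ : GL (Fin n) F) : Matrix (Fin n) (Fin n) F) =
      Rm e P * (((a⁻¹ : GL (Fin 2) F) : Matrix (Fin 2) (Fin 2) F) ⊗ₖ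
        ((b⁻¹ : GL (Fin n₂) F) : Matrix (Fin n₂) (Fin n₂) F)) * Rm' e P := by
    apply Units.inv_eq_of_mul_eq_one_right
    rw [hab, Rm_conj_mul, ← Matrix.mul_kronecker_mul, ← Units.val_mul, ← Units.val_mul, mul_inv_cancel,
      mul_inv_cancel, Units.val_one, Units.val_one, Matrix.one_kronecker_one, Matrix.mul_one, Rm_mul_Rm']
  show (g : Matrix (Fin n) (Fin n) F) * tensHom e P z * ((g⁻¹ : GL (Fin n) F) : Matrix (Fin n) (Fin n) F) ∈ _
  have hconj : (g : Matrix (Fin n) (Fin n) F) * tensHom e P z *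
      ((g⁻¹ : GL (Fin n) F) : Matrix (Fin n) (Fin n) F) =
      tensHom e P ((a : Matrix (Fin 2) (Fin 2) F) * z * ((a⁻¹ : GL (Fin 2) F) : Matrix (Fin 2) (Fin 2) F)) := by
    rw [hginv, hab, tensHom_eq_Rm, tensHom_eq_Rm, Rm_conj_mul, Rm_conj_mul, ← Matrix.mul_kronecker_mul,
      ← Matrix.mul_kronecker_mul, Matrix.mul_one, ← Units.val_mul, mul_inv_cancel, Units.val_one]
  rw [hconj]
  exact ⟨_, K4_conj hq a hz, rfl⟩

end Cfsg.Agent.Lead.AschOm
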