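import Mathlib
import Cfsg.Prelude.Def_GeometricClasses
import Cfsg.Agent.Lead.AschBase
import Cfsg.Agent.Lead.AschOBase
import Cfsg.Agent.Lead.AschOStd
import Cfsg.Agent.Lead.AschOmA
import Cfsg.Agent.Helper1.AschOmM4a
import Cfsg.Agent.Helper2.AschOmM1
import Cfsg.Agent.Helper2.AschOmM2d
import Cfsg.Agent.Helper3.AschOmM3b
import Cfsg.Agent.Helper3.AschOmM3c
import Cfsg.Agent.Helper5.AschOmM3a
import Cfsg.Agent.Helper5.AschOmM3d
import Cfsg.Agent.Helper5.AschOmM3e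
import Cfsg.Agent.Helper8.AschOmM2a
import Cfsg.Agent.Helper8.AschOmM4bC
import Cfsg.Agent.Helper2.AschRefl
import Cfsg.Agent.Helper5.AschForm5
import Cfsg.Agent.Helper5.AschForm9
import Cfsg.Agent.Helper5.AschHom4
import Cfsg.Agent.Helper5.AschO9
import Cfsg.Agent.Helper4.AschFieldB
import Cfsg.Agent.Helper4.AschPPC
import Cfsg.Agent.Helper6.AschCompCliff
import Cfsg.Agent.Helper6.AschCompSym
import Cfsg.Agent.Helper9.AschCompK
import Cfsg.Agent.Helper9.AschCompTensor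
import Cfsg.Agent.Helper9.AschCompHom

/-!
# ASCH-OM (lead): Aschbacher's theorem for subgroups of the isometry group of a quadratic form of minus type in
dimension twelve (generic form, conclusions with `≤`)
-/

set_option autoImplicit false

namespace Cfsg.Agent.Lead.AschOm

open Cfsg Cfsg.Geo Cfsg.Agent.Lead.Asch Cfsg.Agent.Lead.AschO
open scoped MatrixGroups Matrix Kronecker commutatorElement

variable {n : ℕ} {F : Type*} [Field F] [Fintype F]

/-! ## assembly -/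

/-- Clifford theory inside the isometry group of a quadratic form, any dimension. -/
theorem clifford_comp_orth (hn : 0 < n) (Q : (Fin n → F) → F) (hQ : IsNondegenerateQuadraticForm Q)
    {H N : Subgroup (GL (Fin n) F)} (hHI : H ≤ isometryGroup F Q)
    (hH : ActsIrreducibly (matrixSet H)) (hNH : N ≤ H) (hnz : Nzes H N) :
    (∃ (t m : ℕ) (D : Fin t → Submodule F (Fin n → F)), IsOrthogonalMDecomposition Q m D ∧ t * m = n ∧
      H ≤ decompositionStabilizer D) ∨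
    (∃ (m : ℕ) (D : Fin 2 → Submodule F (Fin n → F)), IsMDecomposition m D ∧ 2 * m = n ∧
      (∀ i, IsTotallySingularFor (QuadraticMap.polar Q) (D i)) ∧ H ≤ decompositionStabilizer D) ∨
    (∃ (r : ℕ) (K : Subalgebra F (Matrix (Fin n) (Fin n) F)), r.Prime ∧ r ∣ n ∧ IsFieldSubalgebra r K ∧
      H ≤ subalgebraNormalizer K) ∨
    (∃ (n₁ n₂ : ℕ) (e : Fin n ≃ Fin n₁ × Fin n₂) (P : GL (Fin n) F)
      (f₁ : (Fin n₁ → F) → (Fin n₁ → F) → F) (f₂ : (Fin n₂ → F) → (Fin n₂ → F) → F), 2 ≤ n₁ ∧ 2 ≤ n₂ ∧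
      ((IsSymplecticForm f₁ ∧ IsSymplecticForm f₂) ∨
        (Odd (Fintype.card F) ∧ IsSymmetricForm f₁ ∧ IsSymmetricForm f₂)) ∧
      IsTensorFormStructure id (QuadraticMap.polar Q) f₁ f₂ e P ∧
      H ≤ tensorProductSubgroup n₁ n₂ e P) ∨
    N ≤ scalars (Fin n) F ∨ ActsAbsolutelyIrreducibly (matrixSet N) := by
  rcases Cfsg.Agent.Helper5.AschF.clifford_orthogonal hn hQ hHI hH hNH hnz with
    ⟨t, m, D, hD, hle, -, -⟩ | ⟨m, D, hD, hts, hle, -, -⟩ | hhom
  · exact Or.inl ⟨t, m, D, hD,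
      Cfsg.Agent.Helper6.AschComp.card_mul_of_isMDecomposition D hD.decomp.decomp, hle⟩
  · exact Or.inr (Or.inl ⟨m, D, hD, Cfsg.Agent.Helper6.AschComp.card_mul_of_isMDecomposition D hD, hts, hle⟩)
  rcases Cfsg.Agent.Helper4.AschP.field_of_fullyInv hn hnz hhom with hK | hct
  · exact Or.inr (Or.inr (Or.inl hK))
  obtain ⟨d, e, eqv, P, ρ, hd, he, hrel, hirr, hdvd⟩ := Cfsg.Agent.Helper5.Asch.homog_data hn hH hnz hhom
  have habs := Cfsg.Agent.Helper9.AschComp.rho_absIrred_of_centreTrivial he eqv P ρ hrel hirr hct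
  have hcard : n = e * d := by
    have := Fintype.card_congr eqv
    simpa using this
  by_cases hd1 : d = 1
  · subst hd1
    exact Or.inr (Or.inr (Or.inr (Or.inr (Or.inl
      (Cfsg.Agent.Helper9.AschComp.le_scalars_of_dim_one eqv P ρ hrel)))))
  by_cases he1 : e = 1
  · subst he1
    have hdn : d = n := by omega
    refine Or.inr (Or.inr (Or.inr (Or.inr (Or.inr
      (Cfsg.Agent.Helper9.AschComp.absIrred_of_dvd hn (fun X hX => ?_) hct)))))
    have h1 := hdvd X hX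
    rw [hdn] at h1
    exact h1
  · have hle : H ≤ tensorProductSubgroup e d eqv P := fun g hg =>
      Cfsg.Agent.Helper9.AschComp.tensor_exit hn eqv P
        (fun x => ((ρ x : GL (Fin d) F) : Matrix (Fin d) (Fin d) F)) hrel habs (fun x hx => hnz g hg x hx)
    obtain ⟨f₁, f₂, hty, hT⟩ := Cfsg.Agent.Helper5.AschOm.tensor_form_orth hn Q hQ hHI hH hNH (by omega) (by omega) eqv P ρ hrel habs hle
    exact Or.inr (Or.inr (Or.inr (Or.inl ⟨e, d, eqv, P, f₁, f₂, by omega, by omega, hty, hT, hle⟩)))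

/-- The conclusion of Aschbacher's theorem for `Ω_12^-(q)` with `≤`. -/
def OmConcl12 (Q : (Fin 12 → F) → F) (H : Subgroup (GL (Fin 12) F)) : Prop :=
  (∃ W : Submodule F (Fin 12 → F), W ≠ ⊥ ∧ IsTotallySingularQuad Q W ∧ H ≤ subspaceStabilizer W) ∨
  (Odd (Fintype.card F) ∧ ∃ W : Submodule F (Fin 12 → F), W ≠ ⊥ ∧ W ≠ ⊤ ∧ Odd (Module.finrank F W) ∧
    2 * Module.finrank F W ≠ 12 ∧ IsNondegenerateOn (QuadraticMap.polar Q) W ∧ H ≤ subspaceStabilizer W) ∨
  (∃ W : Submodule F (Fin 12 → F), Module.finrank F W = 2 ∧ IsNondegenerateOn (QuadraticMap.polar Q) W ∧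
    ¬ IsPlusTypeOn Q W ∧ H ≤ subspaceStabilizer W) ∨
  (4 ≤ Fintype.card F ∧ ∃ W : Submodule F (Fin 12 → F), Module.finrank F W = 2 ∧
    IsNondegenerateOn (QuadraticMap.polar Q) W ∧ IsPlusTypeOn Q W ∧ H ≤ subspaceStabilizer W) ∨
  (∃ W : Submodule F (Fin 12 → F), Module.finrank F W = 4 ∧ IsNondegenerateOn (QuadraticMap.polar Q) W ∧
    H ≤ subspaceStabilizer W) ∨
  (∃ W : Submodule F (Fin 12 → F), Module.finrank F W = 6 ∧ IsNondegenerateOn (QuadraticMap.polar Q) W ∧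
    H ≤ subspaceStabilizer W) ∨
  (¬ Odd (Fintype.card F) ∧ ∃ v : Fin 12 → F, Q v ≠ 0 ∧ H ≤ subspaceStabilizer (Submodule.span F {v})) ∨
  (∃ D : Fin 3 → Submodule F (Fin 12 → F), IsOrthogonalMDecomposition Q 4 D ∧
    (∀ i, ¬ IsPlusTypeOn Q (D i)) ∧ H ≤ decompositionStabilizer D) ∨
  (∃ K : Subalgebra F (Matrix (Fin 12) (Fin 12) F), IsFieldSubalgebra 2 K ∧ H ≤ subalgebraNormalizer K) ∨
  (∃ K : Subalgebra F (Matrix (Fin 12) (Fin 12) F), IsFieldSubalgebra 3 K ∧ H ≤ subalgebraNormalizer K) ∨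
  (Odd (Fintype.card F) ∧ 5 ≤ Fintype.card F ∧ ∃ (e : Fin 12 ≃ Fin 3 × Fin 4) (P : GL (Fin 12) F)
    (f₁ : (Fin 3 → F) → (Fin 3 → F) → F) (f₂ : (Fin 4 → F) → (Fin 4 → F) → F), IsSymmetricForm f₁ ∧
    IsSymmetricForm f₂ ∧ ¬ IsPlusTypeOn (fun v : Fin 4 → F => f₂ v v) ⊤ ∧
    IsTensorFormStructure id (QuadraticMap.polar Q) f₁ f₂ e P ∧ H ≤ tensorProductSubgroup 3 4 e P) ∨
  (∃ (F₀ : Subfield F) (r : ℕ) (P : GL (Fin 12) F) (ζ : F), r.Prime ∧ Odd r ∧
    Fintype.card F = Nat.card F₀ ^ r ∧ ζ ≠ 0 ∧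
    IsQuadFormRationalStructure (fun v : Fin 12 → F => ζ * Q v) F₀ P ∧ H ≤ subfieldSubgroup F₀ P) ∨
  InOrthogonalResidualClass H

theorem not_prime_pow_12 (r k : ℕ) (hr : r.Prime) (h : 12 = r ^ k) : False := by
  have h2 : 2 ∣ r ^ k := ⟨6, by omega⟩
  have h3 : 3 ∣ r ^ k := ⟨4, by omega⟩
  have e2 := (Nat.prime_dvd_prime_iff_eq Nat.prime_two hr).1 (Nat.prime_two.dvd_of_dvd_pow h2)
  have e3 := (Nat.prime_dvd_prime_iff_eq (by norm_num) hr).1 ((by norm_num : Nat.Prime 3).dvd_of_dvd_pow h3)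
  omega

theorem not_perfect_pow_12 (d k : ℕ) (hd : 2 ≤ d) (hk : 2 ≤ k) (h : 12 = d ^ k) : False := by
  have h1 : d ^ 2 ∣ d ^ k := pow_dvd_pow d hk
  rw [← h] at h1
  have h2 : d ^ 2 ≤ 12 := Nat.le_of_dvd (by norm_num) h1
  have h3 : d ≤ 3 := by nlinarith
  interval_cases d
  · have : 3 ∣ 2 ^ k := ⟨4, by omega⟩
    have := (Nat.prime_dvd_prime_iff_eq (by norm_num) Nat.prime_two).1 ((by norm_num : Nat.Prime 3).dvd_of_dvd_pow this)
    omega
  · have : 2 ∣ 3 ^ k := ⟨6, by omega⟩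
    have := (Nat.prime_dvd_prime_iff_eq Nat.prime_two (by norm_num)).1 (Nat.prime_two.dvd_of_dvd_pow this)
    omega

/-- the reducible case in dimension twelve -/
theorem reducible12 (Q : (Fin 12 → F) → F) (hQ : IsNondegenerateQuadraticForm Q)
    {H : Subgroup (GL (Fin 12) F)} (hHI : H ≤ isometryGroup F Q) (hred : ¬ ActsIrreducibly (matrixSet H)) :
    OmConcl12 Q H := by
  rcases Cfsg.Agent.Helper2.AschOm.orth_reducible_gen Q hQ hHI hred with h | h | ⟨W, W', h0, h1, hnd, hnd', -, -, -, hdim, hle, -⟩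
  · exact Or.inl h
  · exact Or.inr (Or.inr (Or.inr (Or.inr (Or.inr (Or.inr (Or.inl h))))))
  have hpos : 0 < Module.finrank F W := Module.finrank_pos_iff_exists_ne_zero.2 (by
    obtain ⟨w, hw, hw0⟩ := (Submodule.ne_bot_iff W).1 h0
    exact ⟨⟨w, hw⟩, fun h => hw0 (congrArg Subtype.val h)⟩)
  -- the case of a 1-space or an odd dimension
  have oddcase : Odd (Module.finrank F W) → OmConcl12 Q H := by
    intro hoddW
    have hq : Odd (Fintype.card F) := by
      by_contra hq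
      have := Cfsg.Agent.Helper2.AschOm.even_finrank_of_nondegenerateOn hq Q hQ W hnd
      exact (Nat.not_even_iff_odd.2 hoddW) this
    refine Or.inr (Or.inl ⟨hq, W, h0, h1, hoddW, ?_, hnd, hle⟩)
    intro h
    obtain ⟨k, hk⟩ := hoddW
    omega
  by_cases hoddW : Odd (Module.finrank F W)
  · exact oddcase hoddW
  rw [Nat.not_odd_iff_even] at hoddW
  obtain ⟨k, hk⟩ := hoddW
  have hk3 : k = 1 ∨ k = 2 ∨ k = 3 := by omega
  rcases hk3 with rfl | rfl | rfl
  · -- dimension two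
    have h2 : Module.finrank F W = 2 := by omega
    by_cases hplus : IsPlusTypeOn Q W
    · by_cases hq : 4 ≤ Fintype.card F
      · exact Or.inr (Or.inr (Or.inr (Or.inl ⟨hq, W, h2, hnd, hplus, hle⟩)))
      · rcases Cfsg.Agent.Helper2.AschOm.plus_plane_small (by omega) Q hQ W h2 hnd hplus hHI hle with h | ⟨hq', W₁, hW₁, hnd₁, hle₁⟩
        · exact Or.inr (Or.inr (Or.inr (Or.inr (Or.inr (Or.inr (Or.inl h))))))
        · refine Or.inr (Or.inl ⟨hq', W₁, ?_, ?_, ⟨0, by omega⟩, by omega, hnd₁, hle₁⟩)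
          · intro h
            rw [h, finrank_bot] at hW₁
            omega
          · intro h
            rw [h, finrank_top, Module.finrank_fin_fun] at hW₁
            omega
    · exact Or.inr (Or.inr (Or.inl ⟨W, h2, hnd, hplus, hle⟩))
  · exact Or.inr (Or.inr (Or.inr (Or.inr (Or.inl ⟨W, by omega, hnd, hle⟩))))
  · exact Or.inr (Or.inr (Or.inr (Or.inr (Or.inr (Or.inl ⟨W, by omega, hnd, hle⟩)))))

/-- an isometric decomposition of a space of minus type of dimension twelve has three blocks of dimension four, of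
minus type -/
theorem decomp12 (Q : (Fin 12 → F) → F) (hQ : IsNondegenerateQuadraticForm Q) (hminus : ¬ IsPlusTypeOn Q ⊤)
    {t m : ℕ} (D : Fin t → Submodule F (Fin 12 → F)) (hD : IsOrthogonalMDecomposition Q m D) (htm : t * m = 12) :
    t = 3 ∧ m = 4 ∧ ∀ i, ¬ IsPlusTypeOn Q (D i) := by
  have ht2 : 2 ≤ t := hD.decomp.decomp.two_le
  have hm0 : 0 < m := hD.decomp.decomp.pos
  have hcases : (t = 12 ∧ m = 1) ∨ (t = 6 ∧ m = 2) ∨ (t = 4 ∧ m = 3) ∨ (t = 3 ∧ m = 4) ∨ (t = 2 ∧ m = 6) := by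
    have ht : t ∣ 12 := ⟨m, htm.symm⟩
    have htle : t ≤ 12 := Nat.le_of_dvd (by norm_num) ht
    interval_cases t <;> omega
  have key : ∀ s : ℕ, t = 2 * s → Even (s * m) → False := by
    intro s hs hev
    obtain ⟨W, W', hW, horth, hinf, hsup, hiso, hdim⟩ := Cfsg.Agent.Helper2.AschOm.halves_of_even_blocks Q hQ hs D hD
    exact hminus (Cfsg.Agent.Helper8.AschOm.plus_of_isometric_halves Q hQ W W' hW horth hinf hsup hiso (hdim ▸ hev))
  rcases hcases with ⟨rfl, rfl⟩ | ⟨rfl, rfl⟩ | ⟨rfl, rfl⟩ | ⟨rfl, rfl⟩ | ⟨rfl, rfl⟩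
  · exact (key 6 rfl ⟨3, rfl⟩).elim
  · exact (key 3 rfl ⟨3, rfl⟩).elim
  · exact (key 2 rfl ⟨3, rfl⟩).elim
  · refine ⟨rfl, rfl, fun i hi => hminus ?_⟩
    exact plus_of_plus_blocks Q hQ D hD.decomp (fun j => plus_of_isometric Q _ _ (hD.isometric i j) hi)
  · exact (key 1 rfl ⟨3, rfl⟩).elim

/-- the tensor case in dimension twelve, minus type -/
theorem tensor12 (Q : (Fin 12 → F) → F) (hQ : IsNondegenerateQuadraticForm Q) (hminus : ¬ IsPlusTypeOn Q ⊤)
    {H : Subgroup (GL (Fin 12) F)} (hHI : H ≤ isometryGroup F Q) (hirr : ActsIrreducibly (matrixSet H))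
    {n₁ n₂ : ℕ} (e : Fin 12 ≃ Fin n₁ × Fin n₂) (P : GL (Fin 12) F)
    (f₁ : (Fin n₁ → F) → (Fin n₁ → F) → F) (f₂ : (Fin n₂ → F) → (Fin n₂ → F) → F) (h1 : 2 ≤ n₁) (h2 : 2 ≤ n₂)
    (hty : (IsSymplecticForm f₁ ∧ IsSymplecticForm f₂) ∨
      (Odd (Fintype.card F) ∧ IsSymmetricForm f₁ ∧ IsSymmetricForm f₂))
    (hT : IsTensorFormStructure id (QuadraticMap.polar Q) f₁ f₂ e P)
    (hle : H ≤ tensorProductSubgroup n₁ n₂ e P) : OmConcl12 Q H := by
  rcases hty with ⟨ha₁, ha₂⟩ | ⟨hodd, hs₁, hs₂⟩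
  · exact absurd (Cfsg.Agent.Helper3.AschOm.plus_of_tensor_alt Q hQ hHI hirr e P f₁ f₂ ha₁ ha₂ hT hle) hminus
  have hcard : 12 = n₁ * n₂ := by
    have := Fintype.card_congr e
    simpa using this
  -- the case `n₁ ≤ n₂`, to which the other one reduces by swapping the factors
  have main : ∀ {m₁ m₂ : ℕ} (e' : Fin 12 ≃ Fin m₁ × Fin m₂) (g₁ : (Fin m₁ → F) → (Fin m₁ → F) → F)
      (g₂ : (Fin m₂ → F) → (Fin m₂ → F) → F), 2 ≤ m₁ → m₁ ≤ m₂ → 12 = m₁ * m₂ → IsSymmetricForm g₁ →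
      IsSymmetricForm g₂ → IsTensorFormStructure id (QuadraticMap.polar Q) g₁ g₂ e' P →
      H ≤ tensorProductSubgroup m₁ m₂ e' P → OmConcl12 Q H := by
    intro m₁ m₂ e' g₁ g₂ hm1 hm12 hc hg₁ hg₂ hT' hle'
    have hm : (m₁ = 2 ∧ m₂ = 6) ∨ (m₁ = 3 ∧ m₂ = 4) := by
      have hd : m₁ ∣ 12 := ⟨m₂, hc⟩
      have hle12 : m₁ ≤ 12 := Nat.le_of_dvd (by norm_num) hd
      have : m₁ * m₁ ≤ 12 := by nlinarith
      have : m₁ ≤ 3 := by nlinarith
      interval_cases m₁ <;> omega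
    rcases hm with ⟨rfl, rfl⟩ | ⟨rfl, rfl⟩
    · rcases Cfsg.Agent.Helper3.AschOm.tensor_sym_two hodd Q hQ hHI e' P g₁ g₂ hg₁ hg₂ hT' hle' with hK | hp
      · exact Or.inr (Or.inr (Or.inr (Or.inr (Or.inr (Or.inr (Or.inr (Or.inr (Or.inl hK))))))))
      · exact absurd hp hminus
    · by_cases hp : IsPlusTypeOn (fun v : Fin 4 → F => g₂ v v) ⊤
      · exact absurd (Cfsg.Agent.Helper5.AschOm.plus_of_tensor_sym_plus hodd Q hQ e' P g₁ g₂ hg₁ hg₂ hT' hp) hminus
      by_cases hq : Fintype.card F = 3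
      · obtain ⟨D, hD, hDle⟩ := Cfsg.Agent.Helper5.AschOm.tensor_sym_three_small hq Q hQ hHI (by norm_num) e' P g₁ g₂ hg₁ hg₂ hT' hle'
        exact Or.inr (Or.inr (Or.inr (Or.inr (Or.inr (Or.inr (Or.inr (Or.inl
          ⟨D, hD, (decomp12 Q hQ hminus D hD (by norm_num)).2.2, hDle⟩)))))))
      · have h5 : 5 ≤ Fintype.card F := by
          obtain ⟨k, hk⟩ := hodd
          have : 2 ≤ Fintype.card F := Fintype.one_lt_card
          omega
        exact Or.inr (Or.inr (Or.inr (Or.inr (Or.inr (Or.inr (Or.inr (Or.inr (Or.inr (Or.inr (Or.inl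
          ⟨hodd, h5, e', P, g₁, g₂, hg₁, hg₂, hp, hT', hle'⟩))))))))))
  by_cases h12 : n₁ ≤ n₂
  · exact main e f₁ f₂ h1 h12 hcard hs₁ hs₂ hT hle
  · have hT' : IsTensorFormStructure id (QuadraticMap.polar Q) f₂ f₁
        (e.trans (Equiv.prodComm (Fin n₁) (Fin n₂))) P := by
      obtain ⟨c, hc0, hc⟩ := hT
      refine ⟨c, hc0, fun x y => ?_⟩
      have hx : ∀ z : Fin n₂ × Fin n₁ → F,
          z ∘ (e.trans (Equiv.prodComm (Fin n₁) (Fin n₂))) = (z ∘ Prod.swap) ∘ e := by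
        intro z
        funext i
        rfl
      rw [hx, hx, hc]
      unfold formOfGram
      rw [← Equiv.sum_comp (Equiv.prodComm (Fin n₂) (Fin n₁))]
      apply congrArg
      apply Finset.sum_congr rfl
      intro a _
      rw [← Equiv.sum_comp (Equiv.prodComm (Fin n₂) (Fin n₁))]
      apply Finset.sum_congr rfl
      intro b _
      simp only [Equiv.prodComm_apply, Function.comp_apply, Prod.swap_swap, Matrix.kroneckerMap_apply,
        Prod.fst_swap, Prod.snd_swap, id]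
      ring
    rw [Cfsg.Agent.Helper9.AschCompK.tensorProductSubgroup_swap] at hle
    exact main _ f₂ f₁ h2 (by omega) (by rw [hcard, mul_comm]) hs₂ hs₁ hT' hle

/-- Aschbacher's theorem for subgroups of the isometry group of a quadratic form of minus type in dimension twelve,
generic form. -/
theorem asch_om12 (Q : (Fin 12 → F) → F) (hQ : IsNondegenerateQuadraticForm Q) (hminus : ¬ IsPlusTypeOn Q ⊤)
    (H : Subgroup (GL (Fin 12) F)) (hHI : H ≤ isometryGroup F Q) : OmConcl12 Q H := by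
  -- Step 1: reducible
  by_cases hirr : ActsIrreducibly (matrixSet H)
  swap
  · exact reducible12 Q hQ hHI hirr
  -- Step 2: Clifford theory
  by_cases hall : ∀ M : Subgroup (GL (Fin 12) F), M ≤ H → Nzes H M →
      M ≤ scalars (Fin 12) F ∨ ActsAbsolutelyIrreducibly (matrixSet M)
  swap
  · push Not at hall
    obtain ⟨M, hMH, hMnz, hM1, hM2⟩ := hall
    rcases clifford_comp_orth (by norm_num) Q hQ hHI hirr hMH hMnz with
      ⟨t, m, D, hD, htm, hle⟩ | ⟨m, D, hD, hm, hts, hle⟩ | ⟨r, K, hr, hrn, hK, hle⟩ |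
      ⟨n₁, n₂, e, P, f₁, f₂, h1, h2, hty, hT, hle⟩ | h | h
    · obtain ⟨rfl, rfl, hmin⟩ := decomp12 Q hQ hminus D hD htm
      exact Or.inr (Or.inr (Or.inr (Or.inr (Or.inr (Or.inr (Or.inr (Or.inl ⟨D, hD, hmin, hle⟩)))))))
    · exact absurd (plus_of_ts_pair Q hQ hHI hirr m (by omega) D hD hts hle) hminus
    · have hr2 : r = 2 ∨ r = 3 := by
        have hle12 : r ≤ 12 := Nat.le_of_dvd (by norm_num) hrn
        have := hr.two_le
        interval_cases r <;> first | omega | (exfalso; revert hr; decide) | (exfalso; revert hrn; decide)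
      rcases hr2 with rfl | rfl
      · exact Or.inr (Or.inr (Or.inr (Or.inr (Or.inr (Or.inr (Or.inr (Or.inr (Or.inl ⟨K, hK, hle⟩))))))))
      · exact Or.inr (Or.inr (Or.inr (Or.inr (Or.inr (Or.inr (Or.inr (Or.inr (Or.inr (Or.inl ⟨K, hK, hle⟩)))))))))
    · exact tensor12 Q hQ hminus hHI hirr e P f₁ f₂ h1 h2 hty hT hle
    · exact absurd h hM1
    · exact absurd h hM2
  -- Step 3: all normal subgroups are scalar or absolutely irreducible
  have hHns : ¬ H ≤ scalars (Fin 12) F := not_le_scalars_of_irred (by norm_num) hirr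
  obtain ⟨N, hNH, hNnz, hNns, hmin⟩ := exists_minimal hHns
  have hNabs : ActsAbsolutelyIrreducibly (matrixSet N) := (hall N hNH hNnz).resolve_left hNns
  have hNI : N ≤ isometryGroup F Q := hNH.trans hHI
  by_cases hsub : ∃ F₀ : Subfield F, F₀ ≠ ⊤ ∧ RealisableOver F₀ (matrixSet N)
  · obtain ⟨F₀, h0, hr⟩ := hsub
    obtain ⟨F₁, r, Pm, ζ, hr, hc, hζ, hrat, hle⟩ := Cfsg.Agent.Helper1.AschOm.subfield_orth_gen (by norm_num) Q hQ hNI hNnz hNabs F₀ h0 hr
    have hro : Odd r := by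
      rcases hr.eq_two_or_odd' with rfl | h
      · exact absurd (Cfsg.Agent.Helper8.AschOm.plus_of_subfield_two ⟨6, rfl⟩ Q hQ F₁ hc Pm ζ hζ hrat) hminus
      · exact h
    exact Or.inr (Or.inr (Or.inr (Or.inr (Or.inr (Or.inr (Or.inr (Or.inr (Or.inr (Or.inr (Or.inr (Or.inl
      ⟨F₁, r, Pm, ζ, hr, hro, hc, hζ, hrat, hle⟩)))))))))))
  by_cases hperf : ⁅N, N⁆ = N
  · obtain ⟨hsimp, hnab, hcent⟩ := Cfsg.Agent.Helper4.AschP.perfect_case_pp (by norm_num)
      (by rintro ⟨d, k, hd, hk, h⟩; exact not_perfect_pow_12 d k hd hk h) hNH hNnz hNns hall hmin hperf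
    refine Or.inr (Or.inr (Or.inr (Or.inr (Or.inr (Or.inr (Or.inr (Or.inr (Or.inr (Or.inr (Or.inr (Or.inr
      ⟨N, ?_, ?_⟩)))))))))))
    · exact
        { le := hNH
          normal := hNnz
          perfect := hperf
          simple := hsimp
          nonabelian := hnab
          centralizer_scalar := hcent
          absIrred := hNabs
          no_subfield := fun F₀ h0 hr => hsub ⟨F₀, h0, hr⟩ }
    · rintro ⟨σ, f, hf, hfix⟩
      apply hsub
      refine Cfsg.Agent.Helper5.AschO.realisable_of_fixes_quad_unitary (by norm_num) hNabs σ f hf hfix Q hQ ?_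
      intro s hs v
      rw [mem_matrixSet_iff] at hs
      obtain ⟨g, hg, rfl⟩ := hs
      exact mem_isometryGroup_iff.1 (hNI hg) v
  · exfalso
    have hcomm : ⁅N, N⁆ ≤ scalars (Fin 12) F := by
      by_contra hc
      exact hperf (hmin _ (Subgroup.commutator_le_self N) (nzes_commutator hNnz) hc)
    obtain ⟨r, k, hr, h⟩ :=
      Cfsg.Agent.Helper6.AschComp.symplectic_type_prime_pow (by norm_num) hNH hNnz hNns hNabs hmin hcomm
    exact not_prime_pow_12 r k hr h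

end Cfsg.Agent.Lead.AschOm
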