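import Mathlib
import Cfsg.Prelude.Def_GeometricClasses
import Cfsg.Agent.Lead.AschOmMain
import Cfsg.Agent.Helper7.AschOmC
import Cfsg.Agent.Helper8.AschOmM5c
import Cfsg.Agent.Helper8.AschOmM5d
import Cfsg.Agent.Helper1.AschOmM5e

/-!
# ASCH-OM (lead): Aschbacher's theorem for `Ω_12^-(q)`
-/

set_option autoImplicit false

namespace Cfsg.Agent.Lead.AschOm

open Cfsg Cfsg.Geo Cfsg.Agent.Lead.Asch Cfsg.Agent.Lead.AschO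
open scoped MatrixGroups Matrix Kronecker commutatorElement

/-- S5874 -/
theorem final12m {F : Type*} [Field F] [Fintype F] (Q : (Fin 12 → F) → F) (hQ : Cfsg.Geo.IsNondegenerateQuadraticForm Q) (hminus : ¬ Cfsg.Geo.IsPlusTypeOn Q ⊤) (H : Subgroup (Matrix.GeneralLinearGroup (Fin 12) F)) (hH : Cfsg.Geo.IsMaximalIn (Cfsg.Geo.omegaGL Q) H) :
    (∃ W : Submodule F (Fin 12 → F), W ≠ ⊥ ∧ Cfsg.Geo.IsTotallySingularQuad Q W ∧ H = Cfsg.Geo.subspaceStabilizer W ⊓ Cfsg.Geo.omegaGL Q) ∨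
    (Odd (Fintype.card F) ∧ ∃ W : Submodule F (Fin 12 → F), W ≠ ⊥ ∧ W ≠ ⊤ ∧ Odd (Module.finrank F W) ∧ 2 * Module.finrank F W ≠ 12 ∧ Cfsg.Geo.IsNondegenerateOn (QuadraticMap.polar Q) W ∧ H = Cfsg.Geo.subspaceStabilizer W ⊓ Cfsg.Geo.omegaGL Q) ∨
    (∃ W : Submodule F (Fin 12 → F), Module.finrank F W = 2 ∧ Cfsg.Geo.IsNondegenerateOn (QuadraticMap.polar Q) W ∧ ¬ Cfsg.Geo.IsPlusTypeOn Q W ∧ H = Cfsg.Geo.subspaceStabilizer W ⊓ Cfsg.Geo.omegaGL Q) ∨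
    (4 ≤ Fintype.card F ∧ ∃ W : Submodule F (Fin 12 → F), Module.finrank F W = 2 ∧ Cfsg.Geo.IsNondegenerateOn (QuadraticMap.polar Q) W ∧ Cfsg.Geo.IsPlusTypeOn Q W ∧ H = Cfsg.Geo.subspaceStabilizer W ⊓ Cfsg.Geo.omegaGL Q) ∨
    (∃ W : Submodule F (Fin 12 → F), Module.finrank F W = 4 ∧ Cfsg.Geo.IsNondegenerateOn (QuadraticMap.polar Q) W ∧ H = Cfsg.Geo.subspaceStabilizer W ⊓ Cfsg.Geo.omegaGL Q) ∨
    (∃ W : Submodule F (Fin 12 → F), Module.finrank F W = 6 ∧ Cfsg.Geo.IsNondegenerateOn (QuadraticMap.polar Q) W ∧ H = Cfsg.Geo.subspaceStabilizer W ⊓ Cfsg.Geo.omegaGL Q) ∨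
    (¬ Odd (Fintype.card F) ∧ ∃ v : (Fin 12 → F), Q v ≠ 0 ∧ H = Cfsg.Geo.subspaceStabilizer (Submodule.span F {v}) ⊓ Cfsg.Geo.omegaGL Q) ∨
    (∃ D : Fin 3 → Submodule F (Fin 12 → F), Cfsg.Geo.IsOrthogonalMDecomposition Q 4 D ∧ (∀ i, ¬ Cfsg.Geo.IsPlusTypeOn Q (D i)) ∧ H = Cfsg.Geo.decompositionStabilizer D ⊓ Cfsg.Geo.omegaGL Q) ∨
    (∃ K : Subalgebra F (Matrix (Fin 12) (Fin 12) F), Cfsg.Geo.IsFieldSubalgebra 2 K ∧ H = Cfsg.Geo.subalgebraNormalizer K ⊓ Cfsg.Geo.omegaGL Q) ∨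
    (∃ K : Subalgebra F (Matrix (Fin 12) (Fin 12) F), Cfsg.Geo.IsFieldSubalgebra 3 K ∧ H = Cfsg.Geo.subalgebraNormalizer K ⊓ Cfsg.Geo.omegaGL Q) ∨
    (Odd (Fintype.card F) ∧ 5 ≤ Fintype.card F ∧ ∃ (e : Fin 12 ≃ Fin 3 × Fin 4) (P : Matrix.GeneralLinearGroup (Fin 12) F) (f₁ : (Fin 3 → F) → (Fin 3 → F) → F) (f₂ : (Fin 4 → F) → (Fin 4 → F) → F), Cfsg.Geo.IsSymmetricForm f₁ ∧ Cfsg.Geo.IsSymmetricForm f₂ ∧ ¬ Cfsg.Geo.IsPlusTypeOn (fun v : Fin 4 → F => f₂ v v) ⊤ ∧ Cfsg.Geo.IsTensorFormStructure id (QuadraticMap.polar Q) f₁ f₂ e P ∧ H = Cfsg.Geo.tensorProductSubgroup 3 4 e P ⊓ Cfsg.Geo.omegaGL Q) ∨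
    (∃ (F₀ : Subfield F) (r : ℕ) (P : Matrix.GeneralLinearGroup (Fin 12) F) (ζ : F), r.Prime ∧ Odd r ∧ Fintype.card F = Nat.card F₀ ^ r ∧ ζ ≠ 0 ∧ Cfsg.Geo.IsQuadFormRationalStructure (fun v : Fin 12 → F => ζ * Q v) F₀ P ∧ H = Cfsg.Geo.subfieldSubgroup F₀ P ⊓ Cfsg.Geo.omegaGL Q) ∨
    Cfsg.Geo.InOrthogonalResidualClass H := by
  classical
  have hHI : H ≤ isometryGroup F Q := hH.1.le.trans (Cfsg.Agent.Lead.AschO.omegaGL_le_isometryGroup Q)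
  have hsub : ∀ (W : Submodule F (Fin 12 → F)), W ≠ ⊥ → W ≠ ⊤ → H ≤ subspaceStabilizer W →
      H = subspaceStabilizer W ⊓ omegaGL Q := fun W h0 h1 hle =>
    eq_inf_of_le' hH hle (Cfsg.Agent.Helper7.AschOm.not_le_subspaceStabilizer_omega_gen (by norm_num) Q hQ W h0 h1)
  have hdim : ∀ (W : Submodule F (Fin 12 → F)) (k : ℕ), Module.finrank F W = k → 0 < k → k < 12 →
      W ≠ ⊥ ∧ W ≠ ⊤ := by
    intro W k hk h0 h12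
    constructor
    · rintro rfl
      rw [finrank_bot] at hk
      omega
    · rintro rfl
      rw [finrank_top, Module.finrank_fin_fun] at hk
      omega
  obtain ⟨v₀, hv₀⟩ := exists_ne_zero_of_nondegenerate (by norm_num) Q hQ
  rcases asch_om12 Q hQ hminus H hHI with ⟨W, h0, hts, hle⟩ | ⟨hq, W, h0, h1, ho, h2, hnd, hle⟩ |
    ⟨W, h2, hnd, hp, hle⟩ | ⟨hq, W, h2, hnd, hp, hle⟩ | ⟨W, h4, hnd, hle⟩ | ⟨W, h6, hnd, hle⟩ |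
    ⟨hq, v, hv, hle⟩ | ⟨D, hD, hmin, hle⟩ | ⟨K, hK, hle⟩ | ⟨K, hK, hle⟩ |
    ⟨hq, h5, e, P, f₁, f₂, hf₁, hf₂, hp, hT, hle⟩ | ⟨F₀, r, P, ζ, hr, hro, hc, hζ, hrat, hle⟩ | hres
  · refine Or.inl ⟨W, h0, hts, hsub W h0 ?_ hle⟩
    rintro rfl
    exact hv₀ (hts v₀ Submodule.mem_top)
  · exact Or.inr (Or.inl ⟨hq, W, h0, h1, ho, h2, hnd, hsub W h0 h1 hle⟩)
  · obtain ⟨h0, h1⟩ := hdim W 2 h2 (by norm_num) (by norm_num)
    exact Or.inr (Or.inr (Or.inl ⟨W, h2, hnd, hp, hsub W h0 h1 hle⟩))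
  · obtain ⟨h0, h1⟩ := hdim W 2 h2 (by norm_num) (by norm_num)
    exact Or.inr (Or.inr (Or.inr (Or.inl ⟨hq, W, h2, hnd, hp, hsub W h0 h1 hle⟩)))
  · obtain ⟨h0, h1⟩ := hdim W 4 h4 (by norm_num) (by norm_num)
    exact Or.inr (Or.inr (Or.inr (Or.inr (Or.inl ⟨W, h4, hnd, hsub W h0 h1 hle⟩))))
  · obtain ⟨h0, h1⟩ := hdim W 6 h6 (by norm_num) (by norm_num)
    exact Or.inr (Or.inr (Or.inr (Or.inr (Or.inr (Or.inl ⟨W, h6, hnd, hsub W h0 h1 hle⟩)))))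
  · have hv0 : v ≠ 0 := by
      rintro rfl
      apply hv
      have := hQ.smul 0 (0 : Fin 12 → F)
      simpa using this
    obtain ⟨h0, h1⟩ := hdim (Submodule.span F {v}) 1 (finrank_span_singleton hv0) (by norm_num) (by norm_num)
    exact Or.inr (Or.inr (Or.inr (Or.inr (Or.inr (Or.inr (Or.inl ⟨hq, v, hv, hsub _ h0 h1 hle⟩))))))
  · exact Or.inr (Or.inr (Or.inr (Or.inr (Or.inr (Or.inr (Or.inr (Or.inl ⟨D, hD, hmin,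
      eq_inf_of_le' hH hle
        (Cfsg.Agent.Helper7.AschOm.not_le_decompositionStabilizer_omega_gen (by norm_num) Q hQ 4 D hD.decomp.decomp)⟩)))))))
  · exact Or.inr (Or.inr (Or.inr (Or.inr (Or.inr (Or.inr (Or.inr (Or.inr (Or.inl ⟨K, hK,
      eq_inf_of_le' hH hle
        (Cfsg.Agent.Helper8.AschOm.not_le_subalgebraNormalizer_omega_gen (by norm_num) Q hQ 2 (by norm_num) K hK)⟩))))))))
  · exact Or.inr (Or.inr (Or.inr (Or.inr (Or.inr (Or.inr (Or.inr (Or.inr (Or.inr (Or.inl ⟨K, hK,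
      eq_inf_of_le' hH hle
        (Cfsg.Agent.Helper8.AschOm.not_le_subalgebraNormalizer_omega_gen (by norm_num) Q hQ 3 (by norm_num) K hK)⟩)))))))))
  · exact Or.inr (Or.inr (Or.inr (Or.inr (Or.inr (Or.inr (Or.inr (Or.inr (Or.inr (Or.inr (Or.inl
      ⟨hq, h5, e, P, f₁, f₂, hf₁, hf₂, hp, hT, eq_inf_of_le' hH hle
        (Cfsg.Agent.Helper8.AschOm.not_le_tensorProductSubgroup_omega_gen (by norm_num) Q hQ 3 4 (by norm_num) (by norm_num) e P)⟩))))))))))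
  · exact Or.inr (Or.inr (Or.inr (Or.inr (Or.inr (Or.inr (Or.inr (Or.inr (Or.inr (Or.inr (Or.inr (Or.inl
      ⟨F₀, r, P, ζ, hr, hro, hc, hζ, hrat, eq_inf_of_le' hH hle
        (Cfsg.Agent.Helper1.AschOm.not_le_subfieldSubgroup_omega_gen (by norm_num) Q hQ F₀ (subfield_ne_top_of_card F₀ r hr hc) P)⟩)))))))))))
  · exact Or.inr (Or.inr (Or.inr (Or.inr (Or.inr (Or.inr (Or.inr (Or.inr (Or.inr (Or.inr (Or.inr (Or.inr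
      hres)))))))))))

end Cfsg.Agent.Lead.AschOm
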