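import Mathlib
import Cfsg.Prelude.Def_GeometricClasses
import Cfsg.Agent.Lead.AschOmMain
import Cfsg.Agent.Lead.AschOm8A
import Cfsg.Agent.Lead.AschOmFinal
import Cfsg.Agent.Helper8.AschOmFamB
import Cfsg.Agent.Helper6.AschGenEven
import Cfsg.Agent.Lead.AschOmC
import Cfsg.Agent.Lead.AschOmD
import Cfsg.Agent.Lead.AschOmE
import Cfsg.Agent.Helper8.AschOm3Type
import Cfsg.Agent.Helper5.AschOm3C2
import Cfsg.Agent.Helper5.AschOm3C34
import Cfsg.Agent.Helper1.AschOm3C5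
import Cfsg.Agent.Helper3.AschOm3X

/-!
ASCH-OM round 2, part 2 (lead): Aschbacher's theorem for `Ω_12^+(q)` (target S5871).
The assembly `asch_om12p` and the final statement `final12p` from the pieces T1, T2 (helper8), C1, P1, X2 (lead), C2, C3, C4
(helper5), C5 (helper1), X1, X3 (helper3) and the two slots X4, X5.
-/

set_option autoImplicit false

namespace Cfsg.Agent.Lead.AschOm

open Cfsg Cfsg.Geo Cfsg.Agent.Lead.Asch Cfsg.Agent.Lead.AschO Cfsg.Agent.Lead.AschOm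
open scoped MatrixGroups Matrix Kronecker commutatorElement

variable {n : ℕ} {F : Type*} [Field F] [Fintype F]

/-- slot X4 (`GO_4^+`): symmetric ⊗ symmetric with factors of dimensions three and four, the second of plus type: inside
`Ω` the group stabilises a tensor decomposition `2 ⊗ 6` into alternating forms. -/
def X4Stmt (F : Type*) [Field F] [Fintype F] : Prop :=
  ∀ (_ : Odd (Fintype.card F)) (Q : (Fin 12 → F) → F) (_ : IsNondegenerateQuadraticForm Q)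
    {H : Subgroup (GL (Fin 12) F)} (_ : H ≤ omegaGL Q)
    (e : Fin 12 ≃ Fin 3 × Fin 4) (P : GL (Fin 12) F)
    (f₁ : (Fin 3 → F) → (Fin 3 → F) → F) (f₂ : (Fin 4 → F) → (Fin 4 → F) → F)
    (_ : IsSymmetricForm f₁) (_ : IsSymmetricForm f₂)
    (_ : IsTensorFormStructure id (QuadraticMap.polar Q) f₁ f₂ e P)
    (_ : IsPlusTypeOn (fun v : Fin 4 → F => f₂ v v) ⊤)
    (_ : H ≤ tensorProductSubgroup 3 4 e P),
    ∃ (e' : Fin 12 ≃ Fin 2 × Fin 6) (P' : GL (Fin 12) F) (g₁ : (Fin 2 → F) → (Fin 2 → F) → F)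
      (g₂ : (Fin 6 → F) → (Fin 6 → F) → F), IsSymplecticForm g₁ ∧ IsSymplecticForm g₂ ∧
      IsTensorFormStructure id (QuadraticMap.polar Q) g₁ g₂ e' P' ∧
      (∀ (x₁ : Fin 2 → F) (x₂ : Fin 6 → F),
        Q ((P' : Matrix (Fin 12) (Fin 12) F) *ᵥ ((fun a : Fin 2 × Fin 6 => x₁ a.1 * x₂ a.2) ∘ e')) = 0) ∧
      H ≤ tensorProductSubgroup 2 6 e' P'

/-- slot X5: symmetric ⊗ symmetric (`q` odd) with a first factor of dimension three and a second factor of dimension four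
that is not of plus type is not of plus type. -/
def X5Stmt (F : Type*) [Field F] [Fintype F] : Prop :=
  ∀ (_ : Odd (Fintype.card F)) (Q : (Fin 12 → F) → F) (_ : IsNondegenerateQuadraticForm Q)
    (e : Fin 12 ≃ Fin 3 × Fin 4) (P : GL (Fin 12) F)
    (f₁ : (Fin 3 → F) → (Fin 3 → F) → F) (f₂ : (Fin 4 → F) → (Fin 4 → F) → F)
    (_ : IsSymmetricForm f₁) (_ : IsSymmetricForm f₂)
    (_ : IsTensorFormStructure id (QuadraticMap.polar Q) f₁ f₂ e P)
    (_ : ¬ IsPlusTypeOn (fun v : Fin 4 → F => f₂ v v) ⊤), ¬ IsPlusTypeOn Q ⊤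

/-! ## assembly (proved) -/

theorem areIsometricFor_refl (Q : (Fin n → F) → F) (W : Submodule F (Fin n → F)) : AreIsometricFor Q W W :=
  ⟨LinearEquiv.refl F W, fun _ => rfl⟩

theorem areIsometricFor_symm {Q : (Fin n → F) → F} {W W' : Submodule F (Fin n → F)}
    (h : AreIsometricFor Q W W') : AreIsometricFor Q W' W := by
  obtain ⟨e, he⟩ := h
  refine ⟨e.symm, fun w => ?_⟩
  have := he (e.symm w)
  rw [LinearEquiv.apply_symm_apply] at this
  exact this.symm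

/-- two complementary orthogonal non-degenerate subspaces of the same dimension form a non-degenerate decomposition
stabilised by every group stabilising both -/
theorem pair_nondegDecomp (Q : (Fin n → F) → F) {m : ℕ} (hm : 0 < m) (W W' : Submodule F (Fin n → F))
    (hW : IsNondegenerateOn (QuadraticMap.polar Q) W) (hW' : IsNondegenerateOn (QuadraticMap.polar Q) W')
    (horth : AreOrthogonalFor (QuadraticMap.polar Q) W W') (hinf : W ⊓ W' = ⊥) (hsup : W ⊔ W' = ⊤)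
    (hd : Module.finrank F W = m) (hd' : Module.finrank F W' = m) :
    IsNondegenerateMDecomposition (QuadraticMap.polar Q) m (![W, W'] : Fin 2 → Submodule F (Fin n → F)) where
  decomp :=
    { two_le := le_refl 2
      pos := hm
      finrank_eq := fun i => by
        fin_cases i
        · exact hd
        · exact hd'
      indep := by
        rw [iSupIndep_pair (by decide : (0 : Fin 2) ≠ 1) (by intro k; fin_cases k <;> simp)]
        simpa using disjoint_iff.mpr hinf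
      iSup_eq_top := by
        rw [eq_top_iff, ← hsup]
        refine sup_le ?_ ?_
        · exact le_iSup (![W, W'] : Fin 2 → Submodule F (Fin n → F)) 0
        · exact le_iSup (![W, W'] : Fin 2 → Submodule F (Fin n → F)) 1 }
  nondegenerate := fun i => by
    fin_cases i
    · exact hW
    · exact hW'
  orthogonal := fun i j hij => by
    fin_cases i <;> fin_cases j
    · exact absurd rfl hij
    · exact horth
    · intro u hu v hv
      rw [QuadraticMap.polar_comm]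
      exact horth v hv u hu
    · exact absurd rfl hij

theorem pair_le_decompositionStabilizer {W W' : Submodule F (Fin n → F)} {H : Subgroup (GL (Fin n) F)}
    (hle : H ≤ subspaceStabilizer W) (hle' : H ≤ subspaceStabilizer W') :
    H ≤ decompositionStabilizer (![W, W'] : Fin 2 → Submodule F (Fin n → F)) := by
  intro g hg
  refine ⟨1, fun i => ?_⟩
  fin_cases i
  · exact Cfsg.Agent.Helper8.AschOm.map_eq_of_mem_subspaceStabilizer (hle hg)
  · exact Cfsg.Agent.Helper8.AschOm.map_eq_of_mem_subspaceStabilizer (hle' hg)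

theorem pair_orthDecomp (Q : (Fin n → F) → F) {m : ℕ} (hm : 0 < m) (W W' : Submodule F (Fin n → F))
    (hW : IsNondegenerateOn (QuadraticMap.polar Q) W) (hW' : IsNondegenerateOn (QuadraticMap.polar Q) W')
    (horth : AreOrthogonalFor (QuadraticMap.polar Q) W W') (hinf : W ⊓ W' = ⊥) (hsup : W ⊔ W' = ⊤)
    (hd : Module.finrank F W = m) (hd' : Module.finrank F W' = m) (hiso : AreIsometricFor Q W W') :
    IsOrthogonalMDecomposition Q m (![W, W'] : Fin 2 → Submodule F (Fin n → F)) where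
  decomp := pair_nondegDecomp Q hm W W' hW hW' horth hinf hsup hd hd'
  isometric := fun i j => by
    fin_cases i <;> fin_cases j
    · exact areIsometricFor_refl Q W
    · exact hiso
    · exact areIsometricFor_symm hiso
    · exact areIsometricFor_refl Q W'

/-- swapping the factors of a tensor form structure -/
theorem tensorForm_swap {f : (Fin n → F) → (Fin n → F) → F} {n₁ n₂ : ℕ} {e : Fin n ≃ Fin n₁ × Fin n₂}
    {P : GL (Fin n) F} {f₁ : (Fin n₁ → F) → (Fin n₁ → F) → F} {f₂ : (Fin n₂ → F) → (Fin n₂ → F) → F}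
    (hT : IsTensorFormStructure id f f₁ f₂ e P) :
    IsTensorFormStructure id f f₂ f₁ (e.trans (Equiv.prodComm (Fin n₁) (Fin n₂))) P := by
  obtain ⟨c, hc0, hc⟩ := hT
  refine ⟨c, hc0, fun x y => ?_⟩
  have hx : ∀ z : Fin n₂ × Fin n₁ → F,
      z ∘ (e.trans (Equiv.prodComm (Fin n₁) (Fin n₂))) = (z ∘ Prod.swap) ∘ e := by
    intro z
    funext i
    rfl
  rw [hx, hx, hc]
  unfold formOfGram
  rw [← Equiv.sum_comp (Equiv.prodComm (Fin n₂) (Fin n₁))]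
  apply congrArg
  apply Finset.sum_congr rfl
  intro a _
  rw [← Equiv.sum_comp (Equiv.prodComm (Fin n₂) (Fin n₁))]
  apply Finset.sum_congr rfl
  intro b _
  simp only [Equiv.prodComm_apply, Function.comp_apply, Prod.swap_swap, Matrix.kroneckerMap_apply,
    Prod.fst_swap, Prod.snd_swap, id]
  ring

/-- The conclusion of Aschbacher's theorem for `Ω_12^+(q)` with `≤`. -/
def OmConcl12p (Q : (Fin 12 → F) → F) (H : Subgroup (GL (Fin 12) F)) : Prop :=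
  (∃ W : Submodule F (Fin 12 → F), W ≠ ⊥ ∧ IsTotallySingularQuad Q W ∧ Module.finrank F W ≠ 5 ∧
    H ≤ subspaceStabilizer W) ∨
  (Odd (Fintype.card F) ∧ ∃ W : Submodule F (Fin 12 → F), W ≠ ⊥ ∧ W ≠ ⊤ ∧ Odd (Module.finrank F W) ∧
    2 * Module.finrank F W ≠ 12 ∧ IsNondegenerateOn (QuadraticMap.polar Q) W ∧ H ≤ subspaceStabilizer W) ∨
  (∃ W : Submodule F (Fin 12 → F), Module.finrank F W = 2 ∧ IsNondegenerateOn (QuadraticMap.polar Q) W ∧
    ¬ IsPlusTypeOn Q W ∧ H ≤ subspaceStabilizer W) ∨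
  (4 ≤ Fintype.card F ∧ ∃ W : Submodule F (Fin 12 → F), Module.finrank F W = 2 ∧
    IsNondegenerateOn (QuadraticMap.polar Q) W ∧ IsPlusTypeOn Q W ∧ H ≤ subspaceStabilizer W) ∨
  (∃ W : Submodule F (Fin 12 → F), Module.finrank F W = 4 ∧ IsNondegenerateOn (QuadraticMap.polar Q) W ∧
    H ≤ subspaceStabilizer W) ∨
  (¬ Odd (Fintype.card F) ∧ ∃ v : Fin 12 → F, Q v ≠ 0 ∧ H ≤ subspaceStabilizer (Submodule.span F {v})) ∨
  ((∃ p : ℕ, p.Prime ∧ Odd p ∧ Fintype.card F = p) ∧ ∃ D : Fin 12 → Submodule F (Fin 12 → F),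
    IsOrthogonalMDecomposition Q 1 D ∧ H ≤ decompositionStabilizer D) ∨
  (7 ≤ Fintype.card F ∧ ∃ D : Fin 6 → Submodule F (Fin 12 → F), IsOrthogonalMDecomposition Q 2 D ∧
    (∀ i, IsPlusTypeOn Q (D i)) ∧ H ≤ decompositionStabilizer D) ∨
  (Fintype.card F ≠ 3 ∧ ∃ D : Fin 6 → Submodule F (Fin 12 → F), IsOrthogonalMDecomposition Q 2 D ∧
    (∀ i, ¬ IsPlusTypeOn Q (D i)) ∧ H ≤ decompositionStabilizer D) ∨
  (Odd (Fintype.card F) ∧ 5 ≤ Fintype.card F ∧ ∃ D : Fin 4 → Submodule F (Fin 12 → F),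
    IsOrthogonalMDecomposition Q 3 D ∧ H ≤ decompositionStabilizer D) ∨
  (3 ≤ Fintype.card F ∧ ∃ D : Fin 3 → Submodule F (Fin 12 → F), IsOrthogonalMDecomposition Q 4 D ∧
    H ≤ decompositionStabilizer D) ∨
  (∃ D : Fin 2 → Submodule F (Fin 12 → F), IsOrthogonalMDecomposition Q 6 D ∧ H ≤ decompositionStabilizer D) ∨
  (∃ D : Fin 2 → Submodule F (Fin 12 → F), IsMDecomposition 6 D ∧ (∀ i, IsTotallySingularQuad Q (D i)) ∧
    H ≤ decompositionStabilizer D) ∨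
  (∃ K : Subalgebra F (Matrix (Fin 12) (Fin 12) F), IsFieldSubalgebra 2 K ∧ H ≤ subalgebraNormalizer K) ∨
  (∃ K : Subalgebra F (Matrix (Fin 12) (Fin 12) F), IsFieldSubalgebra 3 K ∧ H ≤ subalgebraNormalizer K) ∨
  (3 ≤ Fintype.card F ∧ ∃ (e : Fin 12 ≃ Fin 2 × Fin 6) (P : GL (Fin 12) F)
    (f₁ : (Fin 2 → F) → (Fin 2 → F) → F) (f₂ : (Fin 6 → F) → (Fin 6 → F) → F), IsSymplecticForm f₁ ∧
    IsSymplecticForm f₂ ∧ IsTensorFormStructure id (QuadraticMap.polar Q) f₁ f₂ e P ∧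
    (∀ (x₁ : Fin 2 → F) (x₂ : Fin 6 → F),
      Q ((P : Matrix (Fin 12) (Fin 12) F) *ᵥ ((fun a : Fin 2 × Fin 6 => x₁ a.1 * x₂ a.2) ∘ e)) = 0) ∧
    H ≤ tensorProductSubgroup 2 6 e P) ∨
  SubfieldConcl Q H ∨
  InOrthogonalResidualClass H

section idx
variable (Q : (Fin 12 → F) → F) (H : Subgroup (GL (Fin 12) F))

theorem c1 (h : ∃ W : Submodule F (Fin 12 → F), W ≠ ⊥ ∧ IsTotallySingularQuad Q W ∧ Module.finrank F W ≠ 5 ∧
    H ≤ subspaceStabilizer W) : OmConcl12p Q H := Or.inl h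
theorem c2 (h : Odd (Fintype.card F) ∧ ∃ W : Submodule F (Fin 12 → F), W ≠ ⊥ ∧ W ≠ ⊤ ∧
    Odd (Module.finrank F W) ∧ 2 * Module.finrank F W ≠ 12 ∧ IsNondegenerateOn (QuadraticMap.polar Q) W ∧
    H ≤ subspaceStabilizer W) : OmConcl12p Q H := Or.inr (Or.inl h)
theorem c3 (h : ∃ W : Submodule F (Fin 12 → F), Module.finrank F W = 2 ∧
    IsNondegenerateOn (QuadraticMap.polar Q) W ∧ ¬ IsPlusTypeOn Q W ∧ H ≤ subspaceStabilizer W) :
    OmConcl12p Q H := Or.inr (Or.inr (Or.inl h))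
theorem c4 (h : 4 ≤ Fintype.card F ∧ ∃ W : Submodule F (Fin 12 → F), Module.finrank F W = 2 ∧
    IsNondegenerateOn (QuadraticMap.polar Q) W ∧ IsPlusTypeOn Q W ∧ H ≤ subspaceStabilizer W) :
    OmConcl12p Q H := Or.inr (Or.inr (Or.inr (Or.inl h)))
theorem c5 (h : ∃ W : Submodule F (Fin 12 → F), Module.finrank F W = 4 ∧
    IsNondegenerateOn (QuadraticMap.polar Q) W ∧ H ≤ subspaceStabilizer W) : OmConcl12p Q H :=
  Or.inr (Or.inr (Or.inr (Or.inr (Or.inl h))))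
theorem c6 (h : ¬ Odd (Fintype.card F) ∧ ∃ v : Fin 12 → F, Q v ≠ 0 ∧
    H ≤ subspaceStabilizer (Submodule.span F {v})) : OmConcl12p Q H :=
  Or.inr (Or.inr (Or.inr (Or.inr (Or.inr (Or.inl h)))))
theorem c7 (h : (∃ p : ℕ, p.Prime ∧ Odd p ∧ Fintype.card F = p) ∧ ∃ D : Fin 12 → Submodule F (Fin 12 → F),
    IsOrthogonalMDecomposition Q 1 D ∧ H ≤ decompositionStabilizer D) : OmConcl12p Q H :=
  Or.inr (Or.inr (Or.inr (Or.inr (Or.inr (Or.inr (Or.inl h))))))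
theorem c8 (h : 7 ≤ Fintype.card F ∧ ∃ D : Fin 6 → Submodule F (Fin 12 → F), IsOrthogonalMDecomposition Q 2 D ∧
    (∀ i, IsPlusTypeOn Q (D i)) ∧ H ≤ decompositionStabilizer D) : OmConcl12p Q H :=
  Or.inr (Or.inr (Or.inr (Or.inr (Or.inr (Or.inr (Or.inr (Or.inl h)))))))
theorem c9 (h : Fintype.card F ≠ 3 ∧ ∃ D : Fin 6 → Submodule F (Fin 12 → F), IsOrthogonalMDecomposition Q 2 D ∧
    (∀ i, ¬ IsPlusTypeOn Q (D i)) ∧ H ≤ decompositionStabilizer D) : OmConcl12p Q H :=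
  Or.inr (Or.inr (Or.inr (Or.inr (Or.inr (Or.inr (Or.inr (Or.inr (Or.inl h))))))))
theorem c10 (h : Odd (Fintype.card F) ∧ 5 ≤ Fintype.card F ∧ ∃ D : Fin 4 → Submodule F (Fin 12 → F),
    IsOrthogonalMDecomposition Q 3 D ∧ H ≤ decompositionStabilizer D) : OmConcl12p Q H :=
  Or.inr (Or.inr (Or.inr (Or.inr (Or.inr (Or.inr (Or.inr (Or.inr (Or.inr (Or.inl h)))))))))
theorem c11 (h : 3 ≤ Fintype.card F ∧ ∃ D : Fin 3 → Submodule F (Fin 12 → F), IsOrthogonalMDecomposition Q 4 D ∧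
    H ≤ decompositionStabilizer D) : OmConcl12p Q H :=
  Or.inr (Or.inr (Or.inr (Or.inr (Or.inr (Or.inr (Or.inr (Or.inr (Or.inr (Or.inr (Or.inl h))))))))))
theorem c12 (h : ∃ D : Fin 2 → Submodule F (Fin 12 → F), IsOrthogonalMDecomposition Q 6 D ∧
    H ≤ decompositionStabilizer D) : OmConcl12p Q H :=
  Or.inr (Or.inr (Or.inr (Or.inr (Or.inr (Or.inr (Or.inr (Or.inr (Or.inr (Or.inr (Or.inr (Or.inl h)))))))))))
theorem c13 (h : ∃ D : Fin 2 → Submodule F (Fin 12 → F), IsMDecomposition 6 D ∧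
    (∀ i, IsTotallySingularQuad Q (D i)) ∧ H ≤ decompositionStabilizer D) : OmConcl12p Q H :=
  Or.inr (Or.inr (Or.inr (Or.inr (Or.inr (Or.inr (Or.inr (Or.inr (Or.inr (Or.inr (Or.inr (Or.inr
    (Or.inl h))))))))))))
theorem c14 (h : ∃ K : Subalgebra F (Matrix (Fin 12) (Fin 12) F), IsFieldSubalgebra 2 K ∧
    H ≤ subalgebraNormalizer K) : OmConcl12p Q H :=
  Or.inr (Or.inr (Or.inr (Or.inr (Or.inr (Or.inr (Or.inr (Or.inr (Or.inr (Or.inr (Or.inr (Or.inr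
    (Or.inr (Or.inl h)))))))))))))
theorem c15 (h : ∃ K : Subalgebra F (Matrix (Fin 12) (Fin 12) F), IsFieldSubalgebra 3 K ∧
    H ≤ subalgebraNormalizer K) : OmConcl12p Q H :=
  Or.inr (Or.inr (Or.inr (Or.inr (Or.inr (Or.inr (Or.inr (Or.inr (Or.inr (Or.inr (Or.inr (Or.inr
    (Or.inr (Or.inr (Or.inl h))))))))))))))
theorem c17 (h : 3 ≤ Fintype.card F ∧ ∃ (e : Fin 12 ≃ Fin 2 × Fin 6) (P : GL (Fin 12) F)
    (f₁ : (Fin 2 → F) → (Fin 2 → F) → F) (f₂ : (Fin 6 → F) → (Fin 6 → F) → F), IsSymplecticForm f₁ ∧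
    IsSymplecticForm f₂ ∧ IsTensorFormStructure id (QuadraticMap.polar Q) f₁ f₂ e P ∧
    (∀ (x₁ : Fin 2 → F) (x₂ : Fin 6 → F),
      Q ((P : Matrix (Fin 12) (Fin 12) F) *ᵥ ((fun a : Fin 2 × Fin 6 => x₁ a.1 * x₂ a.2) ∘ e)) = 0) ∧
    H ≤ tensorProductSubgroup 2 6 e P) : OmConcl12p Q H :=
  Or.inr (Or.inr (Or.inr (Or.inr (Or.inr (Or.inr (Or.inr (Or.inr (Or.inr (Or.inr (Or.inr (Or.inr
    (Or.inr (Or.inr (Or.inr (Or.inl h)))))))))))))))
theorem c18 (h : SubfieldConcl Q H) : OmConcl12p Q H :=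
  Or.inr (Or.inr (Or.inr (Or.inr (Or.inr (Or.inr (Or.inr (Or.inr (Or.inr (Or.inr (Or.inr (Or.inr
    (Or.inr (Or.inr (Or.inr (Or.inr (Or.inl h))))))))))))))))
theorem c19 (h : InOrthogonalResidualClass H) : OmConcl12p Q H :=
  Or.inr (Or.inr (Or.inr (Or.inr (Or.inr (Or.inr (Or.inr (Or.inr (Or.inr (Or.inr (Or.inr (Or.inr
    (Or.inr (Or.inr (Or.inr (Or.inr (Or.inr h))))))))))))))))

end idx

/-- two complementary non-degenerate 6-spaces in a space of plus type form an isometric decomposition -/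
theorem halves12p (Q : (Fin 12 → F) → F) (hQ : IsNondegenerateQuadraticForm Q) (hplus : IsPlusTypeOn Q ⊤)
    {H : Subgroup (GL (Fin 12) F)} (W W' : Submodule F (Fin 12 → F))
    (hnd : IsNondegenerateOn (QuadraticMap.polar Q) W) (hnd' : IsNondegenerateOn (QuadraticMap.polar Q) W')
    (horth : AreOrthogonalFor (QuadraticMap.polar Q) W W') (hinf : W ⊓ W' = ⊥) (hsup : W ⊔ W' = ⊤)
    (hd : Module.finrank F W = 6) (hd' : Module.finrank F W' = 6)
    (hle : H ≤ subspaceStabilizer W) (hle' : H ≤ subspaceStabilizer W') : OmConcl12p Q H := by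
  have hty : IsPlusTypeOn Q W ↔ IsPlusTypeOn Q W' :=
    (Cfsg.Agent.Helper8.AschOm3.plus_sup_iff Q hQ W W' hnd hnd' horth hinf ⟨3, by omega⟩ ⟨3, by omega⟩).1 (hsup ▸ hplus)
  have hiso := Cfsg.Agent.Helper8.AschOm3.isometric_of_same_type Q hQ W W' hnd hnd' (by omega) ⟨3, by omega⟩ hty
  exact c12 Q H ⟨_, pair_orthDecomp Q (by norm_num) W W' hnd hnd' horth hinf hsup hd hd' hiso,
    pair_le_decompositionStabilizer hle hle'⟩

/-- the reducible case in dimension twelve, plus type -/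
theorem reducible12p (Q : (Fin 12 → F) → F) (hQ : IsNondegenerateQuadraticForm Q) (hplus : IsPlusTypeOn Q ⊤)
    {H : Subgroup (GL (Fin 12) F)} (hHI : H ≤ isometryGroup F Q) (hHΩ : H ≤ omegaGL Q)
    (hred : ¬ ActsIrreducibly (matrixSet H)) : OmConcl12p Q H := by
  rcases Cfsg.Agent.Helper2.AschOm.orth_reducible_gen Q hQ hHI hred with
    ⟨W, h0, hts, hle⟩ | h | ⟨W, W', h0, h1, hnd, hnd', horth, hinf, hsup, hdim, hle, hle'⟩
  · by_cases h5 : Module.finrank F W = 5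
    · obtain ⟨U, -, hUts, hUd, hUle⟩ := Cfsg.Agent.Helper8.AschOm.le_stabilizer_of_ts_corank_one (m := 6) rfl Q hQ
        hplus W (by rw [h5]) hts hHΩ hle
      refine c1 Q H ⟨U, ?_, hUts, by rw [hUd]; norm_num, hUle⟩
      rintro rfl
      rw [finrank_bot] at hUd
      omega
    · exact c1 Q H ⟨W, h0, hts, h5, hle⟩
  · exact c6 Q H h
  have hpos : 0 < Module.finrank F W := Module.finrank_pos_iff_exists_ne_zero.2 (by
    obtain ⟨w, hw, hw0⟩ := (Submodule.ne_bot_iff W).1 h0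
    exact ⟨⟨w, hw⟩, fun h => hw0 (congrArg Subtype.val h)⟩)
  by_cases hoddW : Odd (Module.finrank F W)
  · have hq : Odd (Fintype.card F) := by
      by_contra hq
      have := Cfsg.Agent.Helper2.AschOm.even_finrank_of_nondegenerateOn hq Q hQ W hnd
      exact (Nat.not_even_iff_odd.2 hoddW) this
    refine c2 Q H ⟨hq, W, h0, h1, hoddW, ?_, hnd, hle⟩
    intro h
    obtain ⟨k, hk⟩ := hoddW
    omega
  rw [Nat.not_odd_iff_even] at hoddW
  obtain ⟨k, hk⟩ := hoddW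
  have hk3 : k = 1 ∨ k = 2 ∨ k = 3 := by omega
  rcases hk3 with rfl | rfl | rfl
  · have h2 : Module.finrank F W = 2 := by omega
    by_cases hp : IsPlusTypeOn Q W
    · by_cases hq : 4 ≤ Fintype.card F
      · exact c4 Q H ⟨hq, W, h2, hnd, hp, hle⟩
      · rcases Cfsg.Agent.Helper2.AschOm.plus_plane_small (by omega) Q hQ W h2 hnd hp hHI hle with
          h | ⟨hq', W₁, hW₁, hnd₁, hle₁⟩
        · exact c6 Q H h
        · refine c2 Q H ⟨hq', W₁, ?_, ?_, ⟨0, by omega⟩, by omega, hnd₁, hle₁⟩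
          · intro h
            rw [h, finrank_bot] at hW₁
            omega
          · intro h
            rw [h, finrank_top, Module.finrank_fin_fun] at hW₁
            omega
    · exact c3 Q H ⟨W, h2, hnd, hp, hle⟩
  · exact c5 Q H ⟨W, by omega, hnd, hle⟩
  · have hd : Module.finrank F W = 6 := by omega
    have hd' : Module.finrank F W' = 6 := by
      have h3 := Submodule.finrank_sup_add_finrank_inf_eq W W'
      rw [hinf, hsup, finrank_bot, finrank_top, Module.finrank_fin_fun] at h3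
      omega
    exact halves12p Q hQ hplus W W' hnd hnd' horth hinf hsup hd hd' hle hle'

/-- the decomposition case in dimension twelve, plus type -/
theorem decomp12p (Q : (Fin 12 → F) → F) (hQ : IsNondegenerateQuadraticForm Q) (hplus : IsPlusTypeOn Q ⊤)
    {H : Subgroup (GL (Fin 12) F)} (hHI : H ≤ isometryGroup F Q)
    {t m : ℕ} (D : Fin t → Submodule F (Fin 12 → F)) (hD : IsOrthogonalMDecomposition Q m D) (htm : t * m = 12)
    (hle : H ≤ decompositionStabilizer D) : OmConcl12p Q H := by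
  have ht2 : 2 ≤ t := hD.decomp.decomp.two_le
  have hm0 : 0 < m := hD.decomp.decomp.pos
  have hcases : (t = 12 ∧ m = 1) ∨ (t = 6 ∧ m = 2) ∨ (t = 4 ∧ m = 3) ∨ (t = 3 ∧ m = 4) ∨ (t = 2 ∧ m = 6) := by
    have ht : t ∣ 12 := ⟨m, htm.symm⟩
    have htle : t ≤ 12 := Nat.le_of_dvd (by norm_num) ht
    interval_cases t <;> omega
  have hoddq : Odd m → Odd (Fintype.card F) := by
    intro hmo
    by_contra hq
    have := Cfsg.Agent.Helper2.AschOm.even_finrank_of_nondegenerateOn hq Q hQ (D ⟨0, by omega⟩)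
      (hD.decomp.nondegenerate _)
    rw [hD.decomp.decomp.finrank_eq] at this
    exact (Nat.not_even_iff_odd.2 hmo) this
  have h2q : 2 ≤ Fintype.card F := Fintype.one_lt_card
  rcases hcases with ⟨rfl, rfl⟩ | ⟨rfl, rfl⟩ | ⟨rfl, rfl⟩ | ⟨rfl, rfl⟩ | ⟨rfl, rfl⟩
  · have hq := hoddq ⟨0, rfl⟩
    by_cases hp : (Fintype.card F).Prime
    · exact c7 Q H ⟨⟨_, hp, hq, rfl⟩, D, hD, hle⟩
    · exact c18 Q H (c2_lines_nonprime_gen Q hQ D hD hp hHI hle)
  · by_cases hp : IsPlusTypeOn Q (D 0)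
    · have hall : ∀ i, IsPlusTypeOn Q (D i) := fun i => plus_of_isometric Q _ _ (hD.isometric 0 i) hp
      by_cases h7 : 7 ≤ Fintype.card F
      · exact c8 Q H ⟨h7, D, hD, hall, hle⟩
      rcases Cfsg.Agent.Helper5.AschOm.c2_plus_planes_small (by omega) Q hQ D hD hall hHI hle with ⟨hq2, v, hv0, hvle⟩ |
        ⟨hq3, W, W', hnd, hnd', horth, hinf, hsup, hd, hd', hWle, hWle'⟩ | ⟨-, hs⟩ | ⟨hq5, D', hD', hle'⟩
      · by_cases hQv : Q v = 0
        · refine c1 Q H ⟨Submodule.span F {v}, ?_, ?_, ?_, hvle⟩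
          · intro h
            have : v ∈ Submodule.span F {v} := Submodule.mem_span_singleton_self v
            rw [h] at this
            exact hv0 ((Submodule.mem_bot F).1 this)
          · intro w hw
            obtain ⟨a, rfl⟩ := Submodule.mem_span_singleton.1 hw
            rw [hQ.smul, hQv, mul_zero]
          · rw [finrank_span_singleton hv0]
            norm_num
        · refine c6 Q H ⟨?_, v, hQv, hvle⟩
          rw [hq2]
          decide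
      · exact halves12p Q hQ hplus W W' hnd hnd' horth hinf hsup hd hd' hWle hWle'
      · exact c18 Q H hs
      · exact c7 Q H ⟨⟨5, by norm_num, by decide, hq5⟩, D', hD', hle'⟩
    · have hall : ∀ i, ¬ IsPlusTypeOn Q (D i) := fun i hi =>
        hp (plus_of_isometric Q _ _ (hD.isometric i 0) hi)
      by_cases h3 : Fintype.card F = 3
      · obtain ⟨D', hD', hle'⟩ := Cfsg.Agent.Helper5.AschOm.c2_minus_planes_three h3 Q hQ D hD hall hHI hle
        exact c7 Q H ⟨⟨3, by norm_num, by decide, h3⟩, D', hD', hle'⟩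
      · exact c9 Q H ⟨h3, D, hD, hall, hle⟩
  · have hq := hoddq ⟨1, rfl⟩
    by_cases h5 : 5 ≤ Fintype.card F
    · exact c10 Q H ⟨hq, h5, D, hD, hle⟩
    · have h3 : Fintype.card F = 3 := by
        obtain ⟨k, hk⟩ := hq
        omega
      obtain ⟨D', hD', hle'⟩ := Cfsg.Agent.Helper5.AschOm.c2_three_blocks_three h3 Q hQ D hD hHI hle
      exact c7 Q H ⟨⟨3, by norm_num, by decide, h3⟩, D', hD', hle'⟩
  · by_cases h3 : 3 ≤ Fintype.card F
    · exact c11 Q H ⟨h3, D, hD, hle⟩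
    · have h2 : Fintype.card F = 2 := by omega
      have hall : ∀ i, IsPlusTypeOn Q (D i) := by
        rcases (Cfsg.Agent.Helper8.AschOm3.plus_blocks_iff Q hQ D hD ⟨2, rfl⟩).1 hplus with h | h
        · exact absurd h (by decide)
        · exact h
      obtain ⟨D', hD', hmin, hle'⟩ := Cfsg.Agent.Helper1.AschOm.c2_four_blocks_two h2 Q hQ D hD hall hHI hle
      exact c9 Q H ⟨by omega, D', hD', hmin, hle'⟩
  · exact c12 Q H ⟨D, hD, hle⟩

/-- the tensor case in dimension twelve, plus type -/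
theorem tensor12p (hX4 : X4Stmt F) (hX5 : X5Stmt F) (Q : (Fin 12 → F) → F) (hQ : IsNondegenerateQuadraticForm Q) (hplus : IsPlusTypeOn Q ⊤)
    {H : Subgroup (GL (Fin 12) F)} (hHI : H ≤ isometryGroup F Q) (hHΩ : H ≤ omegaGL Q)
    (hirr : ActsIrreducibly (matrixSet H))
    {n₁ n₂ : ℕ} (e : Fin 12 ≃ Fin n₁ × Fin n₂) (P : GL (Fin 12) F)
    (f₁ : (Fin n₁ → F) → (Fin n₁ → F) → F) (f₂ : (Fin n₂ → F) → (Fin n₂ → F) → F) (h1 : 2 ≤ n₁) (h2 : 2 ≤ n₂)
    (hty : (IsSymplecticForm f₁ ∧ IsSymplecticForm f₂) ∨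
      (Odd (Fintype.card F) ∧ IsSymmetricForm f₁ ∧ IsSymmetricForm f₂))
    (hT : IsTensorFormStructure id (QuadraticMap.polar Q) f₁ f₂ e P)
    (hle : H ≤ tensorProductSubgroup n₁ n₂ e P) : OmConcl12p Q H := by
  have hcard : 12 = n₁ * n₂ := by
    have := Fintype.card_congr e
    simpa using this
  have h2q : 2 ≤ Fintype.card F := Fintype.one_lt_card
  have hdims : ∀ {m₁ m₂ : ℕ}, 2 ≤ m₁ → m₁ ≤ m₂ → 12 = m₁ * m₂ → (m₁ = 2 ∧ m₂ = 6) ∨ (m₁ = 3 ∧ m₂ = 4) := by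
    intro m₁ m₂ hm1 hm12 hc
    have hd : m₁ ∣ 12 := ⟨m₂, hc⟩
    have hle12 : m₁ ≤ 12 := Nat.le_of_dvd (by norm_num) hd
    have : m₁ * m₁ ≤ 12 := by nlinarith
    have : m₁ ≤ 3 := by nlinarith
    interval_cases m₁ <;> omega
  rcases hty with ⟨ha₁, ha₂⟩ | ⟨hodd, hs₁, hs₂⟩
  · -- alternating ⊗ alternating
    have main : ∀ {m₁ m₂ : ℕ} (e' : Fin 12 ≃ Fin m₁ × Fin m₂) (g₁ : (Fin m₁ → F) → (Fin m₁ → F) → F)
        (g₂ : (Fin m₂ → F) → (Fin m₂ → F) → F), 2 ≤ m₁ → m₁ ≤ m₂ → 12 = m₁ * m₂ → IsSymplecticForm g₁ →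
        IsSymplecticForm g₂ → IsTensorFormStructure id (QuadraticMap.polar Q) g₁ g₂ e' P →
        H ≤ tensorProductSubgroup m₁ m₂ e' P → OmConcl12p Q H := by
      intro m₁ m₂ e' g₁ g₂ hm1 hm12 hc hg₁ hg₂ hT' hle'
      rcases hdims hm1 hm12 hc with ⟨rfl, rfl⟩ | ⟨rfl, rfl⟩
      · by_cases h3 : 3 ≤ Fintype.card F
        · exact c17 Q H ⟨h3, e', P, g₁, g₂, hg₁, hg₂, hT',
            Cfsg.Agent.Helper3.AschOm3.quad_pure_tensor_zero Q hQ hHI hirr e' P g₁ g₂ hg₁ hg₂ hT' hle', hle'⟩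
        · exact c14 Q H (tensor_two_q2_field (by omega) (by norm_num) e' P hle')
      · have := Cfsg.Agent.Helper6.AschGen.even_of_isSymplecticForm hg₁
        exact absurd this (by decide)
    by_cases h12 : n₁ ≤ n₂
    · exact main e f₁ f₂ h1 h12 hcard ha₁ ha₂ hT hle
    · rw [Cfsg.Agent.Helper9.AschCompK.tensorProductSubgroup_swap] at hle
      exact main _ f₂ f₁ h2 (by omega) (by rw [hcard, mul_comm]) ha₂ ha₁ (tensorForm_swap hT) hle
  · -- symmetric ⊗ symmetric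
    have main : ∀ {m₁ m₂ : ℕ} (e' : Fin 12 ≃ Fin m₁ × Fin m₂) (g₁ : (Fin m₁ → F) → (Fin m₁ → F) → F)
        (g₂ : (Fin m₂ → F) → (Fin m₂ → F) → F), 2 ≤ m₁ → m₁ ≤ m₂ → 12 = m₁ * m₂ → IsSymmetricForm g₁ →
        IsSymmetricForm g₂ → IsTensorFormStructure id (QuadraticMap.polar Q) g₁ g₂ e' P →
        H ≤ tensorProductSubgroup m₁ m₂ e' P → OmConcl12p Q H := by
      intro m₁ m₂ e' g₁ g₂ hm1 hm12 hc hg₁ hg₂ hT' hle'
      rcases hdims hm1 hm12 hc with ⟨rfl, rfl⟩ | ⟨rfl, rfl⟩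
      · rcases Cfsg.Agent.Helper3.AschOm3.tensor_sym_two_pair hodd Q hQ hHI (by norm_num) e' P g₁ g₂ hg₁ hg₂ hT' hle' with hK | hD
        · exact c14 Q H hK
        · exact c13 Q H hD
      · by_cases hp : IsPlusTypeOn (fun v : Fin 4 → F => g₂ v v) ⊤
        · obtain ⟨e'', P', k₁, k₂, hk₁, hk₂, hT'', hpure, hle''⟩ :=
            hX4 hodd Q hQ hHΩ e' P g₁ g₂ hg₁ hg₂ hT' hp hle'
          have h3 : 3 ≤ Fintype.card F := by
            obtain ⟨k, hk⟩ := hodd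
            omega
          exact c17 Q H ⟨h3, e'', P', k₁, k₂, hk₁, hk₂, hT'', hpure, hle''⟩
        · exact absurd hplus
            (hX5 hodd Q hQ e' P g₁ g₂ hg₁ hg₂ hT' hp)
    by_cases h12 : n₁ ≤ n₂
    · exact main e f₁ f₂ h1 h12 hcard hs₁ hs₂ hT hle
    · rw [Cfsg.Agent.Helper9.AschCompK.tensorProductSubgroup_swap] at hle
      exact main _ f₂ f₁ h2 (by omega) (by rw [hcard, mul_comm]) hs₂ hs₁ (tensorForm_swap hT) hle

/-- Aschbacher's theorem for subgroups of `Ω(Q)`, `Q` of plus type in dimension twelve, generic form. -/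
theorem asch_om12p (hX4 : X4Stmt F) (hX5 : X5Stmt F) (Q : (Fin 12 → F) → F) (hQ : IsNondegenerateQuadraticForm Q) (hplus : IsPlusTypeOn Q ⊤)
    (H : Subgroup (GL (Fin 12) F)) (hHΩ : H ≤ omegaGL Q) : OmConcl12p Q H := by
  have hHI : H ≤ isometryGroup F Q := hHΩ.trans (Cfsg.Agent.Lead.AschO.omegaGL_le_isometryGroup Q)
  by_cases hirr : ActsIrreducibly (matrixSet H)
  swap
  · exact reducible12p Q hQ hplus hHI hHΩ hirr
  by_cases hall : ∀ M : Subgroup (GL (Fin 12) F), M ≤ H → Nzes H M →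
      M ≤ scalars (Fin 12) F ∨ ActsAbsolutelyIrreducibly (matrixSet M)
  swap
  · push Not at hall
    obtain ⟨M, hMH, hMnz, hM1, hM2⟩ := hall
    rcases clifford_comp_orth (by norm_num) Q hQ hHI hirr hMH hMnz with
      ⟨t, m, D, hD, htm, hle⟩ | ⟨m, D, hD, hm, hts, hle⟩ | ⟨r, K, hr, hrn, hK, hle⟩ |
      ⟨n₁, n₂, e, P, f₁, f₂, h1, h2, hty, hT, hle⟩ | h | h
    · exact decomp12p Q hQ hplus hHI D hD htm hle
    · have hm6 : m = 6 := by omega
      subst hm6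
      exact c13 Q H ⟨D, hD, ts_pair_quad Q hQ hHI hirr 6 (by norm_num) D hD hts hle, hle⟩
    · have hr2 : r = 2 ∨ r = 3 := by
        have hle12 : r ≤ 12 := Nat.le_of_dvd (by norm_num) hrn
        have := hr.two_le
        interval_cases r <;> first | omega | (exfalso; revert hr; decide) | (exfalso; revert hrn; decide)
      rcases hr2 with rfl | rfl
      · exact c14 Q H ⟨K, hK, hle⟩
      · exact c15 Q H ⟨K, hK, hle⟩
    · exact tensor12p hX4 hX5 Q hQ hplus hHI hHΩ hirr e P f₁ f₂ h1 h2 hty hT hle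
    · exact absurd h hM1
    · exact absurd h hM2
  have hHns : ¬ H ≤ scalars (Fin 12) F := not_le_scalars_of_irred (by norm_num) hirr
  obtain ⟨N, hNH, hNnz, hNns, hmin⟩ := exists_minimal hHns
  have hNabs : ActsAbsolutelyIrreducibly (matrixSet N) := (hall N hNH hNnz).resolve_left hNns
  have hNI : N ≤ isometryGroup F Q := hNH.trans hHI
  by_cases hsub : ∃ F₀ : Subfield F, F₀ ≠ ⊤ ∧ RealisableOver F₀ (matrixSet N)
  · obtain ⟨F₀, h0, hr⟩ := hsub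
    exact c18 Q H (Cfsg.Agent.Helper1.AschOm.subfield_orth_gen (by norm_num) Q hQ hNI hNnz hNabs F₀ h0 hr)
  by_cases hperf : ⁅N, N⁆ = N
  · obtain ⟨hsimp, hnab, hcent⟩ := Cfsg.Agent.Helper4.AschP.perfect_case_pp (by norm_num)
      (by rintro ⟨d, k, hd, hk, h⟩; exact not_perfect_pow_12 d k hd hk h) hNH hNnz hNns hall hmin hperf
    refine c19 Q H ⟨N, ?_, ?_⟩
    · exact
        { le := hNH
          normal := hNnz
          perfect := hperf
          simple := hsimp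
          nonabelian := hnab
          centralizer_scalar := hcent
          absIrred := hNabs
          no_subfield := fun F₀ h0 hr => hsub ⟨F₀, h0, hr⟩ }
    · rintro ⟨σ, f, hf, hfix⟩
      apply hsub
      refine Cfsg.Agent.Helper5.AschO.realisable_of_fixes_quad_unitary (by norm_num) hNabs σ f hf hfix Q hQ ?_
      intro s hs v
      rw [mem_matrixSet_iff] at hs
      obtain ⟨g, hg, rfl⟩ := hs
      exact mem_isometryGroup_iff.1 (hNI hg) v
  · exfalso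
    have hcomm : ⁅N, N⁆ ≤ scalars (Fin 12) F := by
      by_contra hc
      exact hperf (hmin _ (Subgroup.commutator_le_self N) (nzes_commutator hNnz) hc)
    obtain ⟨r, k, hr, h⟩ :=
      Cfsg.Agent.Helper6.AschComp.symplectic_type_prime_pow (by norm_num) hNH hNnz hNns hNabs hmin hcomm
    exact not_prime_pow_12 r k hr h

/-- S5871 from the two slots -/
theorem final12p {F : Type*} [Field F] [Fintype F] (hX4 : X4Stmt F) (hX5 : X5Stmt F) (Q : (Fin 12 → F) → F) (hQ : Cfsg.Geo.IsNondegenerateQuadraticForm Q) (hplus : Cfsg.Geo.IsPlusTypeOn Q ⊤) (H : Subgroup (Matrix.GeneralLinearGroup (Fin 12) F)) (hH : Cfsg.Geo.IsMaximalIn (Cfsg.Geo.omegaGL Q) H) :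
    (∃ W : Submodule F (Fin 12 → F), W ≠ ⊥ ∧ Cfsg.Geo.IsTotallySingularQuad Q W ∧ Module.finrank F W ≠ 5 ∧ H = Cfsg.Geo.subspaceStabilizer W ⊓ Cfsg.Geo.omegaGL Q) ∨
    (Odd (Fintype.card F) ∧ ∃ W : Submodule F (Fin 12 → F), W ≠ ⊥ ∧ W ≠ ⊤ ∧ Odd (Module.finrank F W) ∧ 2 * Module.finrank F W ≠ 12 ∧ Cfsg.Geo.IsNondegenerateOn (QuadraticMap.polar Q) W ∧ H = Cfsg.Geo.subspaceStabilizer W ⊓ Cfsg.Geo.omegaGL Q) ∨
    (∃ W : Submodule F (Fin 12 → F), Module.finrank F W = 2 ∧ Cfsg.Geo.IsNondegenerateOn (QuadraticMap.polar Q) W ∧ ¬ Cfsg.Geo.IsPlusTypeOn Q W ∧ H = Cfsg.Geo.subspaceStabilizer W ⊓ Cfsg.Geo.omegaGL Q) ∨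
    (4 ≤ Fintype.card F ∧ ∃ W : Submodule F (Fin 12 → F), Module.finrank F W = 2 ∧ Cfsg.Geo.IsNondegenerateOn (QuadraticMap.polar Q) W ∧ Cfsg.Geo.IsPlusTypeOn Q W ∧ H = Cfsg.Geo.subspaceStabilizer W ⊓ Cfsg.Geo.omegaGL Q) ∨
    (∃ W : Submodule F (Fin 12 → F), Module.finrank F W = 4 ∧ Cfsg.Geo.IsNondegenerateOn (QuadraticMap.polar Q) W ∧ H = Cfsg.Geo.subspaceStabilizer W ⊓ Cfsg.Geo.omegaGL Q) ∨
    (¬ Odd (Fintype.card F) ∧ ∃ v : (Fin 12 → F), Q v ≠ 0 ∧ H = Cfsg.Geo.subspaceStabilizer (Submodule.span F {v}) ⊓ Cfsg.Geo.omegaGL Q) ∨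
    ((∃ p : ℕ, p.Prime ∧ Odd p ∧ Fintype.card F = p) ∧ ∃ D : Fin 12 → Submodule F (Fin 12 → F), Cfsg.Geo.IsOrthogonalMDecomposition Q 1 D ∧ H = Cfsg.Geo.decompositionStabilizer D ⊓ Cfsg.Geo.omegaGL Q) ∨
    (7 ≤ Fintype.card F ∧ ∃ D : Fin 6 → Submodule F (Fin 12 → F), Cfsg.Geo.IsOrthogonalMDecomposition Q 2 D ∧ (∀ i, Cfsg.Geo.IsPlusTypeOn Q (D i)) ∧ H = Cfsg.Geo.decompositionStabilizer D ⊓ Cfsg.Geo.omegaGL Q) ∨
    (Fintype.card F ≠ 3 ∧ ∃ D : Fin 6 → Submodule F (Fin 12 → F), Cfsg.Geo.IsOrthogonalMDecomposition Q 2 D ∧ (∀ i, ¬ Cfsg.Geo.IsPlusTypeOn Q (D i)) ∧ H = Cfsg.Geo.decompositionStabilizer D ⊓ Cfsg.Geo.omegaGL Q) ∨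
    (Odd (Fintype.card F) ∧ 5 ≤ Fintype.card F ∧ ∃ D : Fin 4 → Submodule F (Fin 12 → F), Cfsg.Geo.IsOrthogonalMDecomposition Q 3 D ∧ H = Cfsg.Geo.decompositionStabilizer D ⊓ Cfsg.Geo.omegaGL Q) ∨
    (3 ≤ Fintype.card F ∧ ∃ D : Fin 3 → Submodule F (Fin 12 → F), Cfsg.Geo.IsOrthogonalMDecomposition Q 4 D ∧ H = Cfsg.Geo.decompositionStabilizer D ⊓ Cfsg.Geo.omegaGL Q) ∨
    (∃ D : Fin 2 → Submodule F (Fin 12 → F), Cfsg.Geo.IsOrthogonalMDecomposition Q 6 D ∧ H = Cfsg.Geo.decompositionStabilizer D ⊓ Cfsg.Geo.omegaGL Q) ∨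
    (∃ D : Fin 2 → Submodule F (Fin 12 → F), Cfsg.Geo.IsMDecomposition 6 D ∧ (∀ i, Cfsg.Geo.IsTotallySingularQuad Q (D i)) ∧ H = Cfsg.Geo.decompositionStabilizer D ⊓ Cfsg.Geo.omegaGL Q) ∨
    (∃ K : Subalgebra F (Matrix (Fin 12) (Fin 12) F), Cfsg.Geo.IsFieldSubalgebra 2 K ∧ H = Cfsg.Geo.subalgebraNormalizer K ⊓ Cfsg.Geo.omegaGL Q) ∨
    (∃ K : Subalgebra F (Matrix (Fin 12) (Fin 12) F), Cfsg.Geo.IsFieldSubalgebra 3 K ∧ H = Cfsg.Geo.subalgebraNormalizer K ⊓ Cfsg.Geo.omegaGL Q) ∨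
    (∃ K : Subalgebra F (Matrix (Fin 12) (Fin 12) F), Cfsg.Geo.IsFieldSubalgebra 2 K ∧ Cfsg.Geo.IsAdjointClosedFor (QuadraticMap.polar Q) K ∧ ¬ Cfsg.Geo.IsSelfAdjointFor (QuadraticMap.polar Q) K ∧ (∀ k ∈ K, ∃ c : F, ∀ v : (Fin 12 → F), Q (Matrix.mulVec k v) = c * Q v) ∧ H = Cfsg.Geo.subalgebraNormalizer K ⊓ Cfsg.Geo.omegaGL Q) ∨
    (3 ≤ Fintype.card F ∧ ∃ (e : Fin 12 ≃ Fin 2 × Fin 6) (P : Matrix.GeneralLinearGroup (Fin 12) F) (f₁ : (Fin 2 → F) → (Fin 2 → F) → F) (f₂ : (Fin 6 → F) → (Fin 6 → F) → F), Cfsg.Geo.IsSymplecticForm f₁ ∧ Cfsg.Geo.IsSymplecticForm f₂ ∧ Cfsg.Geo.IsTensorFormStructure id (QuadraticMap.polar Q) f₁ f₂ e P ∧ (∀ (x₁ : Fin 2 → F) (x₂ : Fin 6 → F), Q (Matrix.mulVec (P : Matrix (Fin 12) (Fin 12) F) ((fun a : Fin 2 × Fin 6 => x₁ a.1 * x₂ a.2) ∘ e)) = 0) ∧ H = Cfsg.Geo.tensorProductSubgroup 2 6 e P ⊓ Cfsg.Geo.omegaGL Q) ∨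
    (∃ (F₀ : Subfield F) (r : ℕ) (P : Matrix.GeneralLinearGroup (Fin 12) F) (ζ : F), r.Prime ∧ Fintype.card F = Nat.card F₀ ^ r ∧ ζ ≠ 0 ∧ Cfsg.Geo.IsQuadFormRationalStructure (fun v : Fin 12 → F => ζ * Q v) F₀ P ∧ H = Cfsg.Geo.subfieldSubgroup F₀ P ⊓ Cfsg.Geo.omegaGL Q) ∨
    Cfsg.Geo.InOrthogonalResidualClass H := by
  classical
  have hHΩ : H ≤ omegaGL Q := hH.1.le
  have hsub : ∀ (W : Submodule F (Fin 12 → F)), W ≠ ⊥ → W ≠ ⊤ → H ≤ subspaceStabilizer W →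
      H = subspaceStabilizer W ⊓ omegaGL Q := fun W h0 h1 hle =>
    eq_inf_of_le' hH hle
      (Cfsg.Agent.Helper7.AschOm.not_le_subspaceStabilizer_omega_gen (by norm_num) Q hQ W h0 h1)
  have hdec : ∀ {t : ℕ} (m : ℕ) (D : Fin t → Submodule F (Fin 12 → F)), IsMDecomposition m D →
      H ≤ decompositionStabilizer D → H = decompositionStabilizer D ⊓ omegaGL Q := fun m D hD hle =>
    eq_inf_of_le' hH hle
      (Cfsg.Agent.Helper7.AschOm.not_le_decompositionStabilizer_omega_gen (by norm_num) Q hQ m D hD)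
  have hdim : ∀ (W : Submodule F (Fin 12 → F)) (k : ℕ), Module.finrank F W = k → 0 < k → k < 12 →
      W ≠ ⊥ ∧ W ≠ ⊤ := by
    intro W k hk h0 h12
    constructor
    · rintro rfl
      rw [finrank_bot] at hk
      omega
    · rintro rfl
      rw [finrank_top, Module.finrank_fin_fun] at hk
      omega
  obtain ⟨v₀, hv₀⟩ := exists_ne_zero_of_nondegenerate (by norm_num) Q hQ
  rcases asch_om12p hX4 hX5 Q hQ hplus H hHΩ with ⟨W, h0, hts, h5, hle⟩ | ⟨hq, W, h0, h1, ho, h2, hnd, hle⟩ |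
    ⟨W, h2, hnd, hp, hle⟩ | ⟨hq, W, h2, hnd, hp, hle⟩ | ⟨W, h4, hnd, hle⟩ |
    ⟨hq, v, hv, hle⟩ | ⟨hq, D, hD, hle⟩ | ⟨hq, D, hD, hp, hle⟩ | ⟨hq, D, hD, hp, hle⟩ |
    ⟨hq, h5, D, hD, hle⟩ | ⟨hq, D, hD, hle⟩ | ⟨D, hD, hle⟩ | ⟨D, hD, hts, hle⟩ | ⟨K, hK, hle⟩ | ⟨K, hK, hle⟩ |
    ⟨hq, e, P, f₁, f₂, hf₁, hf₂, hT, hpure, hle⟩ | ⟨F₀, r, P, ζ, hr, hc, hζ, hrat, hle⟩ | hres
  · refine Or.inl ⟨W, h0, hts, h5, hsub W h0 ?_ hle⟩
    rintro rfl
    exact hv₀ (hts v₀ Submodule.mem_top)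
  · exact Or.inr (Or.inl ⟨hq, W, h0, h1, ho, h2, hnd, hsub W h0 h1 hle⟩)
  · obtain ⟨h0, h1⟩ := hdim W 2 h2 (by norm_num) (by norm_num)
    exact Or.inr (Or.inr (Or.inl ⟨W, h2, hnd, hp, hsub W h0 h1 hle⟩))
  · obtain ⟨h0, h1⟩ := hdim W 2 h2 (by norm_num) (by norm_num)
    exact Or.inr (Or.inr (Or.inr (Or.inl ⟨hq, W, h2, hnd, hp, hsub W h0 h1 hle⟩)))
  · obtain ⟨h0, h1⟩ := hdim W 4 h4 (by norm_num) (by norm_num)
    exact Or.inr (Or.inr (Or.inr (Or.inr (Or.inl ⟨W, h4, hnd, hsub W h0 h1 hle⟩))))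
  · have hv0 : v ≠ 0 := by
      rintro rfl
      apply hv
      have := hQ.smul 0 (0 : Fin 12 → F)
      simpa using this
    obtain ⟨h0, h1⟩ := hdim (Submodule.span F {v}) 1 (finrank_span_singleton hv0) (by norm_num) (by norm_num)
    exact Or.inr (Or.inr (Or.inr (Or.inr (Or.inr (Or.inl ⟨hq, v, hv, hsub _ h0 h1 hle⟩)))))
  · exact Or.inr (Or.inr (Or.inr (Or.inr (Or.inr (Or.inr (Or.inl
      ⟨hq, D, hD, hdec 1 D hD.decomp.decomp hle⟩))))))
  · exact Or.inr (Or.inr (Or.inr (Or.inr (Or.inr (Or.inr (Or.inr (Or.inl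
      ⟨hq, D, hD, hp, hdec 2 D hD.decomp.decomp hle⟩)))))))
  · exact Or.inr (Or.inr (Or.inr (Or.inr (Or.inr (Or.inr (Or.inr (Or.inr (Or.inl
      ⟨hq, D, hD, hp, hdec 2 D hD.decomp.decomp hle⟩))))))))
  · exact Or.inr (Or.inr (Or.inr (Or.inr (Or.inr (Or.inr (Or.inr (Or.inr (Or.inr (Or.inl
      ⟨hq, h5, D, hD, hdec 3 D hD.decomp.decomp hle⟩)))))))))
  · exact Or.inr (Or.inr (Or.inr (Or.inr (Or.inr (Or.inr (Or.inr (Or.inr (Or.inr (Or.inr (Or.inl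
      ⟨hq, D, hD, hdec 4 D hD.decomp.decomp hle⟩))))))))))
  · exact Or.inr (Or.inr (Or.inr (Or.inr (Or.inr (Or.inr (Or.inr (Or.inr (Or.inr (Or.inr (Or.inr (Or.inl
      ⟨D, hD, hdec 6 D hD.decomp.decomp hle⟩)))))))))))
  · exact Or.inr (Or.inr (Or.inr (Or.inr (Or.inr (Or.inr (Or.inr (Or.inr (Or.inr (Or.inr (Or.inr (Or.inr (Or.inl
      ⟨D, hD, hts, hdec 6 D hD hle⟩))))))))))))
  · exact Or.inr (Or.inr (Or.inr (Or.inr (Or.inr (Or.inr (Or.inr (Or.inr (Or.inr (Or.inr (Or.inr (Or.inr (Or.inr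
      (Or.inl ⟨K, hK, eq_inf_of_le' hH hle
        (Cfsg.Agent.Helper8.AschOm.not_le_subalgebraNormalizer_omega_gen (by norm_num) Q hQ 2 (by norm_num)
          K hK)⟩)))))))))))))
  · exact Or.inr (Or.inr (Or.inr (Or.inr (Or.inr (Or.inr (Or.inr (Or.inr (Or.inr (Or.inr (Or.inr (Or.inr (Or.inr
      (Or.inr (Or.inl ⟨K, hK, eq_inf_of_le' hH hle
        (Cfsg.Agent.Helper8.AschOm.not_le_subalgebraNormalizer_omega_gen (by norm_num) Q hQ 3 (by norm_num)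
          K hK)⟩))))))))))))))
  · exact Or.inr (Or.inr (Or.inr (Or.inr (Or.inr (Or.inr (Or.inr (Or.inr (Or.inr (Or.inr (Or.inr (Or.inr (Or.inr
      (Or.inr (Or.inr (Or.inr (Or.inl ⟨hq, e, P, f₁, f₂, hf₁, hf₂, hT, hpure, eq_inf_of_le' hH hle
        (Cfsg.Agent.Helper8.AschOm.not_le_tensorProductSubgroup_omega_gen (by norm_num) Q hQ 2 6 (by norm_num)
          (by norm_num) e P)⟩))))))))))))))))
  · exact Or.inr (Or.inr (Or.inr (Or.inr (Or.inr (Or.inr (Or.inr (Or.inr (Or.inr (Or.inr (Or.inr (Or.inr (Or.inr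
      (Or.inr (Or.inr (Or.inr (Or.inr (Or.inl ⟨F₀, r, P, ζ, hr, hc, hζ, hrat, eq_inf_of_le' hH hle
        (Cfsg.Agent.Helper1.AschOm.not_le_subfieldSubgroup_omega_gen (by norm_num) Q hQ F₀
          (subfield_ne_top_of_card F₀ r hr hc) P)⟩)))))))))))))))))
  · exact Or.inr (Or.inr (Or.inr (Or.inr (Or.inr (Or.inr (Or.inr (Or.inr (Or.inr (Or.inr (Or.inr (Or.inr (Or.inr
      (Or.inr (Or.inr (Or.inr (Or.inr (Or.inr hres)))))))))))))))))

end Cfsg.Agent.Lead.AschOm
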