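import Mathlib
import Cfsg.Agent.Helper4.MCBase
import Cfsg.Agent.Helper1.MaxClassBasic

/-!
# Blackburn project (helper4): existence of a uniform element in every `p`-group of maximal class
(hypothesis form: piece B3 `isUniform_of_not_mem_twoStep` and the periodicity of the two-step
centralizers are hypotheses)
-/

set_option autoImplicit false
set_option linter.style.haveILetI false

namespace Cfsg.Agent.Lead.MC

open scoped commutatorElement
open Cfsg.Agent.Helper4.MC

universe u

section quot

variable {G : Type u} [Group G]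

theorem gam_quotient (N : Subgroup G) [N.Normal] (i : ℕ) :
    gam (G ⧸ N) i = (gam G i).map (QuotientGroup.mk' N) := by
  unfold gam
  rw [Subgroup.map_lowerCentralSeries,
    Subgroup.map_top_of_surjective _ (QuotientGroup.mk'_surjective N)]

theorem mk_mem_gam_quotient_iff (N : Subgroup G) [N.Normal] {i : ℕ} (hN : N ≤ gam G i) (z : G) :
    QuotientGroup.mk' N z ∈ gam (G ⧸ N) i ↔ z ∈ gam G i := by
  rw [gam_quotient]
  constructor
  · rintro ⟨h, hh, e⟩
    have h1 : h⁻¹ * z ∈ N := by
      have e' : (h : G ⧸ N) = (z : G ⧸ N) := e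
      exact QuotientGroup.eq.1 e'
    have h2 := (gam G i).mul_mem hh (hN h1)
    simpa using h2
  · intro hz
    exact ⟨z, hz, rfl⟩

theorem mem_twoStep_quotient_iff (N : Subgroup G) [N.Normal] {j : ℕ}
    (hN : N ≤ gam G (j + 2)) (x : G) :
    QuotientGroup.mk' N x ∈ twoStep (G ⧸ N) j ↔ x ∈ twoStep G j := by
  rw [mem_twoStep, mem_twoStep]
  constructor
  · intro h y hy
    have h1 := h (QuotientGroup.mk' N y) (by rw [gam_quotient]; exact ⟨y, hy, rfl⟩)
    rw [← map_commutatorElement] at h1
    exact (mk_mem_gam_quotient_iff N hN _).1 h1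
  · intro h ybar hybar
    rw [gam_quotient] at hybar
    obtain ⟨y, hy, rfl⟩ := hybar
    rw [← map_commutatorElement]
    exact (mk_mem_gam_quotient_iff N hN _).2 (h y hy)

end quot

section count

variable {G : Type u} [Group G] [Finite G]

/-- At most `p` subgroups of index `p` do not cover a group of order `p ^ n`. -/
theorem exists_not_mem_of_card_le {p n : ℕ} (hp : p.Prime) (hcard : Nat.card G = p ^ n)
    (hn : 1 ≤ n) (𝒦 : Finset (Subgroup G)) (h𝒦 : ∀ K ∈ 𝒦, Nat.card K = p ^ (n - 1))
    (hle : 𝒦.card ≤ p) : ∃ s : G, ∀ K ∈ 𝒦, s ∉ K := by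
  classical
  by_contra hcon
  push Not at hcon
  haveI := Fintype.ofFinite G
  have hsub : (Finset.univ : Finset G).erase 1 ⊆
      𝒦.biUnion (fun K => (Finset.univ.filter (fun g => g ∈ K)).erase 1) := by
    intro g hg
    rw [Finset.mem_erase] at hg
    obtain ⟨K, hK, hgK⟩ := hcon g
    rw [Finset.mem_biUnion]
    exact ⟨K, hK, Finset.mem_erase.2 ⟨hg.1, Finset.mem_filter.2 ⟨Finset.mem_univ _, hgK⟩⟩⟩
  have h1 := Finset.card_le_card hsub
  have h2 := Finset.card_biUnion_le (s := 𝒦)
    (t := fun K => (Finset.univ.filter (fun g => g ∈ K)).erase 1)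
  have h3 : ∀ K ∈ 𝒦, ((Finset.univ.filter (fun g => g ∈ K)).erase 1).card = p ^ (n - 1) - 1 := by
    intro K hK
    rw [Finset.card_erase_of_mem (Finset.mem_filter.2 ⟨Finset.mem_univ _, K.one_mem⟩)]
    congr 1
    rw [← h𝒦 K hK, Nat.card_eq_fintype_card, Fintype.card_subtype]
  rw [Finset.sum_congr rfl h3, Finset.sum_const, smul_eq_mul] at h2
  rw [Finset.card_erase_of_mem (Finset.mem_univ _), Finset.card_univ, ← Nat.card_eq_fintype_card,
    hcard] at h1
  have h4 : 𝒦.card * (p ^ (n - 1) - 1) ≤ p * (p ^ (n - 1) - 1) := Nat.mul_le_mul_right _ hle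
  have h5 : p * p ^ (n - 1) = p ^ n := by
    rw [← pow_succ']
    congr 1
    omega
  have h6 : 1 ≤ p ^ (n - 1) := Nat.one_le_pow _ _ hp.pos
  have h7 : p * (p ^ (n - 1) - 1) = p ^ n - p := by
    rw [Nat.mul_sub, h5, mul_one]
  have hp2 := hp.two_le
  have h8 : p ≤ p ^ n := by
    calc p = p ^ 1 := (pow_one p).symm
      _ ≤ p ^ n := Nat.pow_le_pow_right hp.pos hn
  omega

end count

section main

variable {p : ℕ} [Fact p.Prime]

theorem IsMC.quotient_center {G : Type u} [Group G] [Finite G] {n : ℕ} (hG : IsMC p n G)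
    (hn : 4 ≤ n) : IsMC p (n - 1) (G ⧸ Subgroup.center G) := by
  obtain ⟨_, h2, h3⟩ := Cfsg.Agent.Helper1.maxClass_center n hG.three_le hG.card hG.cls
  exact ⟨h2, by omega, by rw [h3]; omega⟩

theorem exists_uniform_three {G : Type u} [Group G] [Finite G] (hG : IsMC p 3 G) :
    ∃ s : G, IsUniform p s := by
  have hp := (Fact.out : p.Prime)
  have hZ := hG.card_center
  have hne : Subgroup.center G ≠ ⊤ := by
    intro h
    have h1 : Nat.card (Subgroup.center G) = Nat.card G := by rw [h, Subgroup.card_top]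
    rw [hZ, hG.card] at h1
    have : p ^ 1 = p ^ 3 := by rw [pow_one]; exact h1
    have := Nat.pow_right_injective hp.two_le this
    omega
  obtain ⟨s, hs⟩ : ∃ s : G, s ∉ Subgroup.center G := by
    by_contra hcon
    push Not at hcon
    exact hne (eq_top_iff.2 fun x _ => hcon x)
  refine ⟨s, ?_⟩
  unfold IsUniform
  set C := Subgroup.centralizer ({s} : Set G) with hC
  obtain ⟨a, ha⟩ := IsPGroup.iff_card.1 (hG.isPGroup.to_subgroup C)
  have hsC : s ∈ C := Subgroup.mem_centralizer_iff.2 (by simp)
  have hZC : Subgroup.center G < C := by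
    refine lt_of_le_of_ne (Subgroup.center_le_centralizer _) ?_
    intro h
    exact hs (h ▸ hsC)
  have hCne : C ≠ ⊤ := by
    intro h
    apply hs
    rw [Subgroup.mem_center_iff]
    intro g
    have hg : g ∈ C := h ▸ Subgroup.mem_top g
    exact (Subgroup.mem_centralizer_iff.1 hg s rfl).symm
  have h1 : p < p ^ a := by
    have := Cfsg.Agent.Helper1.card_lt_card_of_lt hZC
    rwa [hZ, ha] at this
  have h2 : p ^ a < p ^ 3 := by
    rw [← ha, ← hG.card]
    exact lt_of_le_of_ne (Subgroup.card_le_card_group C)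
      (fun h => hCne ((Subgroup.card_eq_iff_eq_top C).1 h))
  have ha2 : 1 < a := by
    have : p ^ 1 < p ^ a := by rwa [pow_one]
    exact (Nat.pow_lt_pow_iff_right hp.one_lt).1 this
  have ha3 : a < 3 := (Nat.pow_lt_pow_iff_right hp.one_lt).1 h2
  have : a = 2 := by omega
  rw [ha, this]

/-- Existence of a uniform element, hypothesis form. -/
theorem exists_uniform_of
    (hB3 : ∀ (G : Type u) [Group G] [Finite G] (n : ℕ), IsMC p n G → 4 ≤ n → ∀ s : G,
      (∀ j, 2 ≤ j → j + 2 ≤ n → s ∉ twoStep G j) → IsUniform p s)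
    (hper : ∀ (G : Type u) [Group G] [Finite G] (n : ℕ), IsMC p n G → p + 2 ≤ n →
      (∃ s : G, IsUniform p s) → ∀ j, 2 ≤ j → j + p + 1 ≤ n →
        twoStep G (j + p - 1) = twoStep G j) :
    ∀ (n : ℕ) (G : Type u) [Group G] [Finite G], IsMC p n G → ∃ s : G, IsUniform p s := by
  classical
  have hp := (Fact.out : p.Prime)
  have hp2 := hp.two_le
  intro n
  induction n using Nat.strong_induction_on with
  | _ n ih =>
  intro G _ _ hG
  have h3 := hG.three_le
  by_cases hn3 : n = 3
  · subst hn3
    exact exists_uniform_three hG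
  have hn4 : 4 ≤ n := by omega
  set 𝒦 : Finset (Subgroup G) := (Finset.Icc 2 (n - 2)).image (twoStep G) with h𝒦
  have hcardK : ∀ K ∈ 𝒦, Nat.card K = p ^ (n - 1) := by
    intro K hK
    rw [h𝒦, Finset.mem_image] at hK
    obtain ⟨j, hj, rfl⟩ := hK
    rw [Finset.mem_Icc] at hj
    exact hG.card_twoStep hj.1 (by omega)
  have hle : 𝒦.card ≤ p := by
    by_cases hsmall : n ≤ p + 3
    · refine (Finset.card_image_le).trans ?_
      rw [Nat.card_Icc]
      omega
    · push Not at hsmall
      -- periodicity in `G ⧸ Z(G)` and transfer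
      have hQ := IsMC.quotient_center hG hn4
      have hu := ih (n - 1) (by omega) (G ⧸ Subgroup.center G) hQ
      have hperQ := hper (G ⧸ Subgroup.center G) (n - 1) hQ (by omega) hu
      have hcen := hG.center_eq
      have hperG : ∀ j, 2 ≤ j → j + p + 1 ≤ n - 1 → twoStep G (j + p - 1) = twoStep G j := by
        intro j hj hjn
        ext x
        have hN1 : Subgroup.center G ≤ gam G (j + p - 1 + 2) := by
          rw [hcen]
          exact gam_anti (by omega)
        have hN2 : Subgroup.center G ≤ gam G (j + 2) := by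
          rw [hcen]
          exact gam_anti (by omega)
        rw [← mem_twoStep_quotient_iff (Subgroup.center G) hN1 x,
          ← mem_twoStep_quotient_iff (Subgroup.center G) hN2 x, hperQ j hj hjn]
      have hred : ∀ j, 2 ≤ j → j + 3 ≤ n →
          twoStep G j ∈ (Finset.Icc 2 p).image (twoStep G) := by
        intro j
        induction j using Nat.strong_induction_on with
        | _ j ihj =>
        intro hj hjn
        by_cases hjp : j ≤ p
        · exact Finset.mem_image.2 ⟨j, Finset.mem_Icc.2 ⟨hj, hjp⟩, rfl⟩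
        · push Not at hjp
          have e : j = (j - (p - 1)) + p - 1 := by omega
          have h4 := hperG (j - (p - 1)) (by omega) (by omega)
          rw [← e] at h4
          rw [h4]
          exact ihj (j - (p - 1)) (by omega) (by omega) (by omega)
      have hsub : 𝒦 ⊆ insert (twoStep G (n - 2)) ((Finset.Icc 2 p).image (twoStep G)) := by
        intro K hK
        rw [h𝒦, Finset.mem_image] at hK
        obtain ⟨j, hj, rfl⟩ := hK
        rw [Finset.mem_Icc] at hj
        by_cases hjn : j = n - 2
        · rw [hjn]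
          exact Finset.mem_insert_self _ _
        · exact Finset.mem_insert_of_mem (hred j hj.1 (by omega))
      refine (Finset.card_le_card hsub).trans ?_
      refine (Finset.card_insert_le _ _).trans ?_
      have h5 : ((Finset.Icc 2 p).image (twoStep G)).card ≤ p - 1 := by
        refine (Finset.card_image_le).trans ?_
        rw [Nat.card_Icc]
        omega
      omega
  obtain ⟨s, hs⟩ := exists_not_mem_of_card_le hp hG.card (by omega) 𝒦 hcardK hle
  refine ⟨s, hB3 G n hG hn4 s ?_⟩
  intro j hj hjn
  exact hs _ (Finset.mem_image.2 ⟨j, Finset.mem_Icc.2 ⟨hj, by omega⟩, rfl⟩)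

end main

end Cfsg.Agent.Lead.MC
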