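import Mathlib
import Cfsg.Agent.Lead.MCUE
import Cfsg.Agent.Helper5.MCPer
import Cfsg.Agent.Helper4.MCPearl
import Cfsg.Agent.Helper6.MCB3
import Cfsg.Agent.Helper3.MCC1
import Cfsg.Agent.Helper1.MCB2

/-!
# Blackburn project: every `p`-group of maximal class has a uniform element
-/

set_option autoImplicit false
set_option linter.style.haveILetI false

namespace Cfsg.Agent.Lead.MC

open scoped commutatorElement
open Cfsg.Agent.Helper4.MC Cfsg.Agent.Helper8.HP

universe u

/-- Every `p`-group of maximal class (of order at least `p ^ 3`) has a uniform element. -/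
theorem exists_uniform {G : Type u} [Group G] [Finite G] {p n : ℕ} [Fact p.Prime]
    (hG : IsMC p n G) : ∃ s : G, IsUniform p s := by
  refine exists_uniform_of (p := p) ?_ ?_ n G hG
  · intro G _ _ n hG hn s hs
    exact Cfsg.Agent.Helper6.MC.isUniform_of_not_mem_twoStep hG hn hs
  · intro G _ _ n hG hn hs j hj hjn
    obtain ⟨s, hs⟩ := hs
    exact Cfsg.Agent.Helper5.MC.twoStep_periodic hG hn
      (Cfsg.Agent.Helper4.MC.powerStr_of_uniform hG hn hs)
      (Cfsg.Agent.Helper3.MC.agemo_gam_le_of_mul_pow hG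
        (fun x hx => Cfsg.Agent.Helper1.MC.IsUniform.mul_pow hG hs hx)) hj hjn

/-- The power structure of the lower central series, unconditionally. -/
theorem agemo_gam_le {G : Type u} [Group G] [Finite G] {p n : ℕ} [Fact p.Prime]
    (hG : IsMC p n G) : ∀ i, 2 ≤ i → agemo p (gam G i) ≤ gam G (i + p - 1) := by
  obtain ⟨s, hs⟩ := exists_uniform hG
  exact Cfsg.Agent.Helper3.MC.agemo_gam_le_of_mul_pow hG
    (fun x hx => Cfsg.Agent.Helper1.MC.IsUniform.mul_pow hG hs hx)

/-- Blackburn's power structure, unconditionally. -/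
theorem powerStr {G : Type u} [Group G] [Finite G] {p n : ℕ} [Fact p.Prime]
    (hG : IsMC p n G) (hn : p + 2 ≤ n) : PowerStr p n G := by
  obtain ⟨s, hs⟩ := exists_uniform hG
  exact Cfsg.Agent.Helper4.MC.powerStr_of_uniform hG hn hs

end Cfsg.Agent.Lead.MC
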