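import Cfsg.Agent.Lead.SpecSpC
import Cfsg.Agent.Helper8.SpGWt

/-!
Irreducible polynomials over a finite field dividing `X ^ a - 1`: orders of roots, in the
self-reciprocal and in the general case.
-/

namespace Cfsg.Agent.Lead.SpecSp
open Matrix Polynomial
open Cfsg.Agent.Helper8.PGraph (root_pow_eq_one_iff card_adjoinRoot)

set_option linter.style.haveILetI false
set_option linter.unusedSectionVars false

variable {F : Type*} [Field F] [Fintype F]

/-- a monic irreducible polynomial of degree `d` other than `X` divides `X^(q^d-1) - 1` -/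
theorem irred_dvd_X_pow_sub_one (f : F[X]) (hf : f.Monic) (hirr : Irreducible f)
    (h0 : f.coeff 0 ≠ 0) :
    f ∣ X ^ (Fintype.card F ^ f.natDegree - 1) - 1 := by
  haveI : Fact (Irreducible f) := ⟨hirr⟩
  haveI : Module.Finite F (AdjoinRoot f) := hf.finite_adjoinRoot
  haveI : Finite (AdjoinRoot f) := Module.finite_of_finite F
  haveI : Fintype (AdjoinRoot f) := Fintype.ofFinite _
  have hcard : Fintype.card (AdjoinRoot f) = Fintype.card F ^ f.natDegree := by
    rw [← Nat.card_eq_fintype_card, card_adjoinRoot f hf]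
  rw [← root_pow_eq_one_iff, ← hcard]
  apply FiniteField.pow_card_sub_one_eq_one
  intro h
  rw [← AdjoinRoot.mk_X, AdjoinRoot.mk_eq_zero] at h
  obtain ⟨c, hc⟩ := h
  have := congrArg (fun P => P.coeff 0) hc
  simp only [coeff_X_zero, mul_coeff_zero] at this
  have hc0 : c.coeff 0 = 0 := by
    -- degree count: f * c = X with f non-unit forces c constant and f = X up to unit
    have hdeg := congrArg natDegree hc
    have hcne : c ≠ 0 := by rintro rfl; rw [mul_zero] at hc; exact X_ne_zero hc
    rw [natDegree_X, natDegree_mul hirr.ne_zero hcne] at hdeg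
    have hfd : 0 < f.natDegree := Irreducible.natDegree_pos hirr
    have hcd : c.natDegree = 0 := by omega
    have hfd1 : f.natDegree = 1 := by omega
    -- then f = X + C (f.coeff 0), c = C u, u * f.coeff 0 = 0
    rcases mul_eq_zero.mp this.symm with h | h
    · exact absurd h h0
    · exact h
  have hcd : c.natDegree = 0 := by
    have hdeg := congrArg natDegree hc
    have hcne : c ≠ 0 := by rintro rfl; rw [mul_zero] at hc; exact X_ne_zero hc
    rw [natDegree_X, natDegree_mul hirr.ne_zero hcne] at hdeg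
    have hfd : 0 < f.natDegree := Irreducible.natDegree_pos hirr
    omega
  have hcC : c = C (c.coeff 0) := eq_C_of_natDegree_eq_zero hcd
  rw [hc0, C_0] at hcC
  rw [hcC, mul_zero] at hc
  exact X_ne_zero hc

/-- a self-reciprocal monic irreducible polynomial dividing `X^a - 1`, `a` odd, is `X - 1`
or has even degree `2e` and divides `X^(q^e+1) - 1` -/
theorem self_reciprocal_dvd (f : F[X]) (hf : f.Monic) (hirr : Irreducible f)
    (hrev : f ∣ f.reverse) (a : ℕ) (ha : Odd a) (hdvd : f ∣ X ^ a - 1) :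
    f = X - 1 ∨ ∃ e : ℕ, 1 ≤ e ∧ f.natDegree = 2 * e ∧ f ∣ X ^ (Fintype.card F ^ e + 1) - 1 := by
  haveI : Fact (Irreducible f) := ⟨hirr⟩
  haveI : Module.Finite F (AdjoinRoot f) := hf.finite_adjoinRoot
  haveI : Finite (AdjoinRoot f) := Module.finite_of_finite F
  set α := AdjoinRoot.root f with hα
  have h1 : α ^ a = 1 := (root_pow_eq_one_iff f _).mpr hdvd
  have hapos : 0 < a := by rcases ha with ⟨k, rfl⟩; omega
  have hα0 : α ≠ 0 := by
    intro h0
    rw [h0, zero_pow hapos.ne'] at h1
    exact zero_ne_one h1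
  have hfr : Module.finrank F (AdjoinRoot f) = f.natDegree := by
    rw [(AdjoinRoot.powerBasis hirr.ne_zero).finrank, AdjoinRoot.powerBasis_dim]
  have hroot0 : eval₂ (algebraMap F (AdjoinRoot f)) α f.reverse = 0 := by
    obtain ⟨c, hc⟩ := hrev
    rw [hc, eval₂_mul]
    have : eval₂ (algebraMap F (AdjoinRoot f)) α f = 0 := by
      have := AdjoinRoot.eval₂_root f
      rwa [AdjoinRoot.algebraMap_eq]
    rw [this, zero_mul]
  have hroot : eval₂ ((Algebra.ofId F (AdjoinRoot f)) : F →+* AdjoinRoot f) α⁻¹ f = 0 := by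
    let _ : Invertible (α⁻¹) := ⟨α, mul_inv_cancel₀ hα0, inv_mul_cancel₀ hα0⟩
    have := (Polynomial.eval₂_reverse_eq_zero_iff (algebraMap F (AdjoinRoot f)) α⁻¹ f).mp hroot0
    exact this
  let σ : AdjoinRoot f →ₐ[F] AdjoinRoot f :=
    AdjoinRoot.liftAlgHom f (Algebra.ofId F (AdjoinRoot f)) α⁻¹ hroot
  have hσα : σ α = α⁻¹ := AdjoinRoot.liftAlgHom_root _ _ _ _
  obtain ⟨⟨j, hjlt'⟩, hj⟩ := (FiniteField.bijective_frobeniusAlgHom_pow F (AdjoinRoot f)).2 σ
  have hj' : (FiniteField.frobeniusAlgHom F (AdjoinRoot f)) ^ j = σ := hj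
  have hfrob : ∀ (m : ℕ) (x : AdjoinRoot f),
      ((FiniteField.frobeniusAlgHom F (AdjoinRoot f)) ^ m) x = x ^ (Fintype.card F ^ m) := by
    intro m x
    rw [AlgHom.coe_pow, FiniteField.coe_frobeniusAlgHom, pow_iterate]
  have h6 : α⁻¹ = α ^ (Fintype.card F ^ j) := by
    rw [← hσα, ← hj', hfrob]
  have h7 : σ * σ = 1 := by
    apply AdjoinRoot.algHom_ext
    rw [AlgHom.mul_apply, AlgHom.one_apply, hσα, map_inv₀, hσα, inv_inv]
  have h8 : f.natDegree ∣ 2 * j := by
    rw [← hfr, ← FiniteField.orderOf_frobeniusAlgHom F (AdjoinRoot f)]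
    apply orderOf_dvd_of_pow_eq_one
    rw [two_mul, pow_add, hj', h7]
  have hjlt : j < f.natDegree := by rwa [hfr] at hjlt'
  rcases Nat.eq_zero_or_pos j with hj0 | hjpos
  · left
    rw [hj0, pow_zero, pow_one] at h6
    have h10 : α ^ 2 = 1 := by
      rw [pow_two]
      nth_rw 1 [← h6]
      exact inv_mul_cancel₀ hα0
    have h11 : α = 1 := by
      have hg : orderOf α ∣ Nat.gcd a 2 :=
        Nat.dvd_gcd (orderOf_dvd_of_pow_eq_one h1) (orderOf_dvd_of_pow_eq_one h10)
      have hg1 : Nat.gcd a 2 = 1 := Nat.coprime_two_right.mpr ha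
      rw [hg1, Nat.dvd_one, orderOf_eq_one_iff] at hg
      exact hg
    have h12 : f ∣ X - 1 := by
      rw [← AdjoinRoot.mk_eq_zero, map_sub, AdjoinRoot.mk_X, map_one, ← hα, h11, sub_self]
    have h13 : (X - 1 : F[X]) = X - C 1 := by rw [C_1]
    have hm1 : (X - 1 : F[X]).Monic := by rw [h13]; exact monic_X_sub_C 1
    have hi1 : Irreducible (X - 1 : F[X]) := by rw [h13]; exact irreducible_X_sub_C 1
    have hassoc : Associated f (X - 1) :=
      ((hi1.dvd_iff.mp h12).resolve_left hirr.not_isUnit).symm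
    exact eq_of_monic_of_associated hf hm1 hassoc
  · right
    have h10 : 2 * j = f.natDegree := by
      obtain ⟨c, hc⟩ := h8
      have hc1 : c = 1 := by
        rcases Nat.lt_or_ge c 1 with h | h
        · have : c = 0 := by omega
          subst this
          omega
        · rcases Nat.lt_or_ge 1 c with h' | h'
          · have : 2 * f.natDegree ≤ f.natDegree * c := by
              calc 2 * f.natDegree = f.natDegree * 2 := by ring
                _ ≤ f.natDegree * c := Nat.mul_le_mul_left _ h'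
            omega
          · omega
      rw [hc, hc1, mul_one]
    refine ⟨j, hjpos, h10.symm, ?_⟩
    rw [← root_pow_eq_one_iff, pow_succ, ← hα, ← h6, inv_mul_cancel₀ hα0]

end Cfsg.Agent.Lead.SpecSp
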