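import Cfsg.Agent.Lead.SpecSpD

/-!
Structure of a symplectic matrix of odd order via its minimal polynomial: either a nontrivial
self-adjoint idempotent commutes with it, or its order is bounded in one of three ways.
-/

namespace Cfsg.Agent.Lead.SpecSp
open Matrix Polynomial
open Cfsg.Agent.Helper8.RegU
open Cfsg.Agent.Helper8.SpG (coeff_zero_ne_of_dvd natDegree_reverse_of_coeff_zero reverse_pow'
  reverse_dvd_reverse irreducible_reverse)

set_option linter.style.haveILetI false
set_option linter.unusedSectionVars false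

variable {F : Type*} [Field F] {n : ℕ}

local notation "Mat" => Matrix (Fin n ⊕ Fin n) (Fin n ⊕ Fin n) F

theorem adj_zero_eq : adj (0 : Mat) = 0 := by
  have := adj_smul (0 : F) (0 : Mat)
  rw [zero_smul, zero_smul] at this
  exact this

theorem adj_adj_eq (z : Mat) : adj (adj z) = z := by
  unfold adj
  rw [Matrix.transpose_mul, Matrix.transpose_mul, Matrix.transpose_transpose, Matrix.transpose_neg,
    J_transpose, neg_neg]
  calc -J (Fin n) F * (-J (Fin n) F * (z * J (Fin n) F)) * J (Fin n) F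
      = (J (Fin n) F * J (Fin n) F) * z * (J (Fin n) F * J (Fin n) F) := by
        simp only [Matrix.mul_assoc, Matrix.neg_mul, Matrix.mul_neg, neg_neg]
    _ = z := by rw [J_squared]; simp

/-- the minimal polynomial of a symplectic matrix divides its reverse -/
theorem minpoly_dvd_reverse (g : Matrix.symplecticGroup (Fin n) F) :
    minpoly F (g : Mat) ∣ (minpoly F (g : Mat)).reverse := by
  apply minpoly.dvd
  have h1 : (g : Mat) * adj (g : Mat) = 1 := (mem_symplectic_iff _).mp g.2
  rw [aeval_reverse_eq (g : Mat) (adj (g : Mat)) h1, ← adj_aeval, minpoly.aeval, adj_zero_eq,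
    mul_zero]

/-- idempotent attached to a coprime factorisation of the minimal polynomial -/
theorem idem_of_coprime {ι : Type*} [Fintype ι] [DecidableEq ι] (M : Matrix ι ι F)
    (P₁ P₂ a b : F[X]) (hab : a * P₁ + b * P₂ = 1) (h1 : ¬ IsUnit P₁) (h2 : ¬ IsUnit P₂)
    (hmin : minpoly F M = P₁ * P₂) :
    aeval M (a * P₁) * aeval M (a * P₁) = aeval M (a * P₁) ∧ aeval M (a * P₁) ≠ 0 ∧
      aeval M (a * P₁) ≠ 1 ∧ aeval M P₂ * aeval M (a * P₁) = 0 := by
  have hint : IsIntegral F M := Algebra.IsIntegral.isIntegral M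
  have hP1 : P₁ ≠ 0 := by
    rintro rfl
    rw [zero_mul] at hmin
    exact minpoly.ne_zero hint hmin
  have hP2 : P₂ ≠ 0 := by
    rintro rfl
    rw [mul_zero] at hmin
    exact minpoly.ne_zero hint hmin
  have hmu : aeval M (P₁ * P₂) = 0 := by rw [← hmin]; exact minpoly.aeval F M
  refine ⟨?_, ?_, ?_, ?_⟩
  · have h3 : aeval M (a * P₁) * aeval M (b * P₂) = 0 := by
      rw [← map_mul]
      have : a * P₁ * (b * P₂) = a * b * (P₁ * P₂) := by ring
      rw [this, map_mul, hmu, mul_zero]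
    have h4 : aeval M (b * P₂) = 1 - aeval M (a * P₁) := by
      have := congrArg (aeval M) hab
      rw [map_add, map_one] at this
      rw [← this]; abel
    rw [h4, mul_sub, mul_one, sub_eq_zero] at h3
    exact h3.symm
  · intro h0
    have h3 : P₁ * P₂ ∣ a * P₁ := by rw [← hmin]; exact minpoly.dvd F M h0
    have h4 : P₂ ∣ a := by
      have : P₁ * P₂ ∣ P₁ * a := by rwa [mul_comm P₁ a]
      exact (mul_dvd_mul_iff_left hP1).mp this
    have h5 : P₂ ∣ 1 := by
      rw [← hab]
      exact dvd_add (Dvd.dvd.mul_right h4 P₁) (Dvd.intro_left b rfl)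
    exact h2 (isUnit_of_dvd_one h5)
  · intro h0
    have h4 : aeval M (b * P₂) = 0 := by
      have := congrArg (aeval M) hab
      rw [map_add, map_one, h0] at this
      exact add_left_cancel (a := (1 : Matrix ι ι F)) (by rw [this, add_zero])
    have h3 : P₁ * P₂ ∣ b * P₂ := by rw [← hmin]; exact minpoly.dvd F M h4
    have h5 : P₁ ∣ b := (mul_dvd_mul_iff_right hP2).mp h3
    have h6 : P₁ ∣ 1 := by
      rw [← hab]
      exact dvd_add (Dvd.intro_left a rfl) (Dvd.dvd.mul_right h5 P₂)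
    exact h1 (isUnit_of_dvd_one h6)
  · rw [← map_mul]
    have : P₂ * (a * P₁) = a * (P₁ * P₂) := by ring
    rw [this, map_mul, hmu, mul_zero]

/-- in characteristic `p`: `f ∣ X^N - 1` and `m ≤ p^t` give `f^m ∣ X^(N p^t) - 1` -/
theorem pow_dvd_X_pow_sub_one (p : ℕ) [Fact p.Prime] [CharP F p] (f : F[X]) (N m t : ℕ)
    (h : f ∣ X ^ N - 1) (hmt : m ≤ p ^ t) : f ^ m ∣ X ^ (N * p ^ t) - 1 := by
  have h2 : f ^ m ∣ (X ^ N - 1) ^ (p ^ t) :=
    dvd_trans (pow_dvd_pow f hmt) (pow_dvd_pow_of_dvd h _)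
  have h3 : ((X : F[X]) ^ N - 1) ^ (p ^ t) = X ^ (N * p ^ t) - 1 := by
    rw [sub_pow_char_pow, ← pow_mul, one_pow]
  rwa [h3] at h2

theorem aeval_X_pow_sub_one_eq {ι : Type*} [Fintype ι] [DecidableEq ι] (M : Matrix ι ι F)
    (k : ℕ) : aeval M (X ^ k - 1 : F[X]) = M ^ k - 1 := by
  rw [map_sub, map_pow, aeval_X, map_one]

end Cfsg.Agent.Lead.SpecSp
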