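import Mathlib
import Cfsg.Prelude.Def_RootSubgroups

set_option autoImplicit false
open Cfsg

namespace Cfsg.Agent.Lead.RootImage

variable {G H : Type*} [Group G] [Group H]

theorem conjBy_map (f : G →* H) (A : Subgroup G) (g : G) :
    (conjBy A g).map f = conjBy (A.map f) (f g) := by
  unfold conjBy
  rw [Subgroup.map_map, Subgroup.map_map]
  congr 1
  ext x
  simp [MulAut.conj_apply]

theorem conjBy_conjBy (A : Subgroup G) (x y : G) : conjBy (conjBy A x) y = conjBy A (y * x) := by
  unfold conjBy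
  rw [Subgroup.map_map]
  congr 1
  ext z
  simp [MulAut.conj_apply, mul_assoc]

theorem conjBy_one (A : Subgroup G) : conjBy A 1 = A := by
  unfold conjBy
  ext x; simp

theorem mem_conjBy {A : Subgroup G} {g x : G} : x ∈ conjBy A g ↔ g⁻¹ * x * g ∈ A := by
  unfold conjBy
  rw [Subgroup.mem_map]
  constructor
  · rintro ⟨y, hy, rfl⟩
    simpa [MulAut.conj_apply, mul_assoc] using hy
  · intro h
    exact ⟨_, h, by simp [MulAut.conj_apply, mul_assoc]⟩

theorem conjBy_of_mem {A : Subgroup G} {a : G} (ha : a ∈ A) : conjBy A a = A := by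
  ext x
  rw [mem_conjBy]
  constructor
  · intro h
    have := A.mul_mem (A.mul_mem ha h) (A.inv_mem ha)
    simpa [mul_assoc] using this
  · intro h
    exact A.mul_mem (A.mul_mem (A.inv_mem ha) h) ha

theorem exists_conj_of_pair {A B : Subgroup G} (h : IsRankOnePair A B) (hA : A ≠ ⊥) :
    ∃ g : G, B = conjBy A g := by
  obtain ⟨a, ha, ha1⟩ : ∃ a ∈ A, a ≠ 1 := by
    obtain ⟨a, h1⟩ := (Subgroup.ne_bot_iff_exists_ne_one (H := A)).1 hA
    exact ⟨(a : G), a.2, fun e => h1 (Subtype.ext e)⟩
  obtain ⟨b, hb, hb1, e⟩ := h.cond_left a ha ha1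
  refine ⟨a * b⁻¹, ?_⟩
  have := congrArg (fun X => conjBy X a) e
  simp only [conjBy_conjBy] at this
  rw [mul_inv_cancel, conjBy_one] at this
  exact this.symm

theorem exists_conj_of_path {S : Set (Subgroup G)} (hne : ∀ A ∈ S, A ≠ ⊥) {A B : Subgroup G}
    (h : Relation.ReflTransGen (FAdj S) A B) : ∃ g : G, B = conjBy A g := by
  induction h with
  | refl => exact ⟨1, (conjBy_one A).symm⟩
  | tail hab hbc ih =>
    obtain ⟨g, rfl⟩ := ih
    obtain ⟨g', hg'⟩ := exists_conj_of_pair hbc.2.2 (hne _ hbc.1)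
    exact ⟨g' * g, by rw [hg', conjBy_conjBy]⟩

theorem cond_map (f : G →* H) {A B : Subgroup G} (h : RankOneCondition A B)
    (hne : A.map f ≠ B.map f) : RankOneCondition (A.map f) (B.map f) := by
  intro a' ha' ha1'
  obtain ⟨a, ha, rfl⟩ := ha'
  have ha1 : a ≠ 1 := by
    rintro rfl
    exact ha1' (map_one f)
  obtain ⟨b, hb, hb1, e⟩ := h a ha ha1
  have e' := congrArg (Subgroup.map f) e
  rw [conjBy_map, conjBy_map, map_inv, map_inv] at e'
  refine ⟨f b, ⟨b, hb, rfl⟩, ?_, e'⟩
  intro hfb
  rw [hfb, inv_one, conjBy_one] at e'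
  apply hne
  have e2 := congrArg (fun X => conjBy X (f a)) e'
  simp only [conjBy_conjBy, mul_inv_cancel, conjBy_one] at e2
  rw [conjBy_of_mem (Subgroup.mem_map_of_mem f ha)] at e2
  exact e2

theorem nilpotent_of_comm {K : Type*} [Group K] (h : IsMulCommutative K) : Group.IsNilpotent K :=
  ⟨⟨1, Subgroup.upperCentralSeries_one_eq_top_iff.2 h⟩⟩

theorem pair_map (f : G →* H) {A B : Subgroup G} (hA : IsMulCommutative A) (hB : IsMulCommutative B)
    (h : IsRankOnePair A B) (hne : A.map f ≠ B.map f) : IsRankOnePair (A.map f) (B.map f) := by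
  refine ⟨hne, nilpotent_of_comm ?_, nilpotent_of_comm ?_, cond_map f h.cond_left hne,
    cond_map f h.cond_right (Ne.symm hne)⟩
  · exact Subgroup.map_isMulCommutative A f
  · exact Subgroup.map_isMulCommutative B f

theorem conjBy_bot (g : G) : conjBy (⊥ : Subgroup G) g = ⊥ := by
  unfold conjBy; exact Subgroup.map_bot _

theorem comm_case_map (f : G →* H) {S : Set (Subgroup G)} {A B : Subgroup G}
    (h : RootCommutatorCase S A B) :
    RootCommutatorCase ((fun A : Subgroup G => A.map f) '' S) (A.map f) (B.map f) := by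
  obtain ⟨h1, h2, h3, h4⟩ := h
  refine ⟨⟨⁅A, B⁆, h1, Subgroup.map_commutator A B f⟩, ?_, ?_, ?_⟩
  · intro c hc x hx
    rw [← Subgroup.map_commutator] at hc
    rw [← Subgroup.map_sup] at hx
    obtain ⟨c0, hc0, rfl⟩ := hc
    obtain ⟨x0, hx0, rfl⟩ := hx
    rw [← map_mul, ← map_mul, h2 c0 hc0 x0 hx0]
  · rintro _ ⟨a, ha, rfl⟩ ha1
    have ha1' : a ≠ 1 := by
      rintro rfl
      exact ha1 (map_one f)
    have e := congrArg (Subgroup.map f) (h3 a ha ha1')
    rw [MonoidHom.map_closure, Subgroup.map_commutator] at e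
    rw [← e]
    congr 1
    rw [Subgroup.coe_map, Set.image_image, Set.image_image]
    apply Set.image_congr
    intro b _
    simp
  · rintro _ ⟨b, hb, rfl⟩ hb1
    have hb1' : b ≠ 1 := by
      rintro rfl
      exact hb1 (map_one f)
    have e := congrArg (Subgroup.map f) (h4 b hb hb1')
    rw [MonoidHom.map_closure, Subgroup.map_commutator] at e
    rw [← e]
    congr 1
    rw [Subgroup.coe_map, Set.image_image, Set.image_image]
    apply Set.image_congr
    intro a _
    simp

theorem main {S : Set (Subgroup G)} (hS : IsRootSubgroupSet S)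
    (hc : IsConnectedFamily (FAdj S) S) (f : G →* H) (hf : Function.Surjective f) :
    (IsRootSubgroupSet ((fun A : Subgroup G => A.map f) '' S) ∧
      IsConnectedFamily (FAdj ((fun A : Subgroup G => A.map f) '' S))
        ((fun A : Subgroup G => A.map f) '' S)) ∨
    ∃ A ∈ S, A.map f = ⊤ := by
  have hgen : (⨆ A ∈ S, A.map f) = ⊤ := by
    have h1 : (⨆ A ∈ S, A).map f = ⊤ := by
      rw [hS.generates, ← MonoidHom.range_eq_map]
      exact MonoidHom.range_eq_top.2 hf
    rw [← h1]
    simp only [Subgroup.map_iSup]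
  by_cases hbot : ∃ A ∈ S, A.map f = ⊥
  · right
    obtain ⟨A, hA, hAb⟩ := hbot
    refine ⟨A, hA, ?_⟩
    have hall : ∀ B ∈ S, B.map f = ⊥ := by
      intro B hB
      obtain ⟨g, rfl⟩ := exists_conj_of_path hS.ne_bot (hc A hA B hB)
      rw [conjBy_map, hAb, conjBy_bot]
    have htop : (⊤ : Subgroup H) = ⊥ := by
      rw [← hgen]
      apply le_antisymm _ bot_le
      apply iSup₂_le
      intro B hB
      rw [hall B hB]
    rw [hAb, htop]
  · left
    push Not at hbot
    have hstep : ∀ A B, FAdj S A B →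
        Relation.ReflTransGen (FAdj ((fun A : Subgroup G => A.map f) '' S)) (A.map f) (B.map f) := by
      intro A B hAB
      by_cases hne : A.map f = B.map f
      · rw [hne]
      · exact Relation.ReflTransGen.single ⟨⟨A, hAB.1, rfl⟩, ⟨B, hAB.2.1, rfl⟩,
          pair_map f (hS.commutative A hAB.1) (hS.commutative B hAB.2.1) hAB.2.2 hne⟩
    constructor
    · refine ⟨?_, ?_, ?_, ?_, ?_⟩
      · rintro _ ⟨A, hA, rfl⟩
        haveI := hS.commutative A hA
        exact Subgroup.map_isMulCommutative A f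
      · rintro _ ⟨A, hA, rfl⟩
        exact hbot A hA
      · rw [iSup_image]
        exact hgen
      · rintro _ ⟨A, hA, rfl⟩ g
        obtain ⟨g0, rfl⟩ := hf g
        rw [← conjBy_map]
        exact ⟨_, hS.conj_mem A hA g0, rfl⟩
      · rintro _ ⟨A, hA, rfl⟩ _ ⟨B, hB, rfl⟩
        rcases hS.pair A hA B hB with h | h | h
        · left
          change ⁅A.map f, B.map f⁆ = ⊥
          rw [← Subgroup.map_commutator, h, Subgroup.map_bot]
        · by_cases hne : A.map f = B.map f
          · left
            change ⁅A.map f, B.map f⁆ = ⊥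
            rw [← hne]
            haveI := hS.commutative A hA
            exact Subgroup.commutator_self_eq_bot_iff.2 (Subgroup.map_isMulCommutative A f)
          · right; left
            exact pair_map f (hS.commutative A hA) (hS.commutative B hB) h hne
        · right; right
          exact comm_case_map f h
    · rintro _ ⟨A, hA, rfl⟩ _ ⟨B, hB, rfl⟩
      exact Relation.ReflTransGen.lift' (fun A : Subgroup G => A.map f) hstep A B (hc A hA B hB)

end Cfsg.Agent.Lead.RootImage
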