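import Cfsg.Agent.Lead.SpecSpE

/-!
Structure of a symplectic matrix of odd order: the case where the minimal polynomial is a power
of an irreducible polynomial.
-/

namespace Cfsg.Agent.Lead.SpecSp
open Matrix Polynomial
open Cfsg.Agent.Helper8.RegU
open Cfsg.Agent.Helper8.SpG (coeff_zero_ne_of_dvd natDegree_reverse_of_coeff_zero reverse_pow'
  reverse_dvd_reverse irreducible_reverse)

set_option linter.style.haveILetI false
set_option linter.unusedSectionVars false

variable {F : Type*} [Field F] [Fintype F] {n : ℕ}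

local notation "Mat" => Matrix (Fin n ⊕ Fin n) (Fin n ⊕ Fin n) F

theorem natDegree_minpoly_le_two_mul (M : Mat) : (minpoly F M).natDegree ≤ 2 * n := by
  have h := Matrix.minpoly_dvd_charpoly M
  have h2 := Polynomial.natDegree_le_of_dvd h (Matrix.charpoly_monic M).ne_zero
  rwa [Matrix.charpoly_natDegree_eq_dim, Fintype.card_sum, Fintype.card_fin, ← two_mul] at h2

/-- `μ.reverse ∣ μ` for the minimal polynomial of a symplectic matrix of finite order -/
theorem minpoly_reverse_dvd (g : Matrix.symplecticGroup (Fin n) F) (a : ℕ) (hapos : 0 < a)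
    (hMa : (g : Mat) ^ a = 1) :
    (minpoly F (g : Mat)).reverse ∣ minpoly F (g : Mat) := by
  set μ := minpoly F (g : Mat) with hμ
  have hint : IsIntegral F (g : Mat) := Algebra.IsIntegral.isIntegral _
  have hμne0 : μ ≠ 0 := minpoly.ne_zero hint
  have hμdvd : μ ∣ X ^ a - 1 :=
    minpoly.dvd F _ (by rw [aeval_X_pow_sub_one_eq, hMa, sub_self])
  have hμ0 : μ.coeff 0 ≠ 0 := coeff_zero_ne_of_dvd μ a hapos hμdvd
  have hdeg : μ.reverse.natDegree = μ.natDegree := natDegree_reverse_of_coeff_zero μ hμ0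
  obtain ⟨k, hk⟩ := minpoly_dvd_reverse g
  rw [← hμ] at hk
  have hkne : k ≠ 0 := by
    rintro rfl
    rw [mul_zero] at hk
    exact hμne0 (Polynomial.reverse_eq_zero.mp hk)
  have hk0 : k.natDegree = 0 := by
    have := congrArg natDegree hk
    rw [hdeg, natDegree_mul hμne0 hkne] at this
    omega
  have hkC : k = C (k.coeff 0) := eq_C_of_natDegree_eq_zero hk0
  have hc : k.coeff 0 ≠ 0 := by
    intro h
    rw [h, C_0] at hkC
    exact hkne hkC
  have hku : IsUnit k := by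
    rw [hkC]
    exact Polynomial.isUnit_C.mpr (isUnit_iff_ne_zero.mpr hc)
  rw [hk]
  exact (IsUnit.mul_right_dvd hku).mpr dvd_rfl

/-- the case `minpoly = f ^ m` -/
theorem struct_pure (p : ℕ) [hp : Fact p.Prime] [CharP F p]
    (g : Matrix.symplecticGroup (Fin n) F) (a : ℕ) (ha : Odd a) (hMa : (g : Mat) ^ a = 1)
    (f : F[X]) (m : ℕ) (hfirr : Irreducible f) (hfmonic : f.Monic) (hm : 1 ≤ m)
    (hμ : minpoly F (g : Mat) = f ^ m) :
    (∃ m' : ℕ, 1 ≤ m' ∧ m' ≤ 2 * n ∧ ∀ t : ℕ, m' ≤ p ^ t → (g : Mat) ^ (p ^ t) = 1) ∨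
    (∃ e m' : ℕ, 1 ≤ e ∧ 1 ≤ m' ∧ e * m' ≤ n ∧
      ∀ t : ℕ, m' ≤ p ^ t → (g : Mat) ^ ((Fintype.card F ^ e + 1) * p ^ t) = 1) := by
  have hapos : 0 < a := by rcases ha with ⟨k, rfl⟩; omega
  have hμdvd : minpoly F (g : Mat) ∣ X ^ a - 1 :=
    minpoly.dvd F _ (by rw [aeval_X_pow_sub_one_eq, hMa, sub_self])
  have hfdvd : f ∣ X ^ a - 1 := dvd_trans (dvd_pow_self f (by omega)) (hμ ▸ hμdvd)
  have hf0 : f.coeff 0 ≠ 0 := coeff_zero_ne_of_dvd f a hapos hfdvd
  have hrevdvd := minpoly_reverse_dvd g a hapos hMa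
  rw [hμ, reverse_pow'] at hrevdvd
  have hfrev : f ∣ f.reverse := by
    have hirr' := irreducible_reverse f hfirr hf0
    have h1 : f.reverse ∣ f ^ m := dvd_trans (dvd_pow_self _ (by omega)) hrevdvd
    have h2 : f.reverse ∣ f := hirr'.prime.dvd_of_dvd_pow h1
    exact ((hfirr.dvd_iff.mp h2).resolve_left hirr'.not_isUnit).dvd
  have hdeg : m * f.natDegree ≤ 2 * n := by
    have := natDegree_minpoly_le_two_mul (g : Mat)
    rwa [hμ, hfmonic.natDegree_pow] at this
  have hkill : ∀ N t : ℕ, f ∣ X ^ N - 1 → m ≤ p ^ t → (g : Mat) ^ (N * p ^ t) = 1 := by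
    intro N t hN hmt
    have h1 := pow_dvd_X_pow_sub_one p f N m t hN hmt
    rw [← hμ] at h1
    obtain ⟨c, hc⟩ := h1
    have h4 := congrArg (aeval (g : Mat)) hc
    rw [map_mul, minpoly.aeval, zero_mul, aeval_X_pow_sub_one_eq, sub_eq_zero] at h4
    exact h4
  rcases self_reciprocal_dvd f hfmonic hfirr hfrev a ha hfdvd with h | ⟨e, he, hde, hedvd⟩
  · left
    have hd1 : f.natDegree = 1 := by
      rw [h]
      have : (X - 1 : F[X]) = X - C 1 := by rw [C_1]
      rw [this, natDegree_X_sub_C]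
    refine ⟨m, hm, by rw [hd1, mul_one] at hdeg; exact hdeg, ?_⟩
    intro t hmt
    have := hkill 1 t (by rw [pow_one, h]) hmt
    rwa [one_mul] at this
  · right
    refine ⟨e, m, he, hm, ?_, ?_⟩
    · rw [hde] at hdeg
      have : m * (2 * e) = 2 * (e * m) := by ring
      omega
    · intro t hmt
      exact hkill _ t hedvd hmt

end Cfsg.Agent.Lead.SpecSp
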