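import Cfsg.Agent.Lead.SpecPSLg

namespace Cfsg.Agent.Lead.SpecPSL
open Matrix Polynomial Cfsg.Agent.Lead.SpecGL

set_option linter.style.haveILetI false
set_option linter.unusedSectionVars false

variable {F : Type*} [Field F] [Fintype F] {n : ℕ}

theorem exists_orderOf_of_dvd {G : Type*} [Group G] [Finite G] (y : G) (a : ℕ)
    (h : a ∣ orderOf y) : ∃ y' : G, orderOf y' = a := by
  obtain ⟨k, hk⟩ := h
  have hpos : 0 < orderOf y := orderOf_pos y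
  have hk0 : k ≠ 0 := by
    rintro rfl; rw [mul_zero] at hk; omega
  refine ⟨y ^ k, ?_⟩
  rw [orderOf_pow_of_dvd hk0 ⟨a, by rw [hk, mul_comm]⟩, hk]
  exact Nat.mul_div_cancel _ (Nat.pos_of_ne_zero hk0)

theorem exists_order_r (p : ℕ) [hp : Fact p.Prime] [CharP F p] {r : ℕ} (hr : r.Prime)
    (hrq : r ∣ Fintype.card F - 1) (hrn : ¬ r ∣ n) (hn : 2 ≤ n) :
    ∃ z : Matrix.ProjectiveSpecialLinearGroup (Fin n) F, orderOf z = r := by
  obtain ⟨y, hy⟩ := exists_unip_good (F := F) p hr hrq hrn hn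
  exact exists_orderOf_of_dvd y r (dvd_trans (Dvd.intro _ rfl) hy)

theorem compat_N (p : ℕ) [hp : Fact p.Prime] [CharP F p] (hn : 2 ≤ n)
    (x x' : Matrix.ProjectiveSpecialLinearGroup (Fin n) F)
    (h : orderOf x ∣ singerN (Fintype.card F) n) (h' : orderOf x' ∣ singerN (Fintype.card F) n) :
    ∃ y : Matrix.ProjectiveSpecialLinearGroup (Fin n) F,
      orderOf y = Nat.lcm (orderOf x) (orderOf x') := by
  obtain ⟨y, hy⟩ := exists_singer (F := F) (n := n) p (by omega)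
  exact exists_orderOf_of_dvd y _ (dvd_trans (Nat.lcm_dvd h h') hy)

theorem compat_U (p : ℕ) [hp : Fact p.Prime]
    (x x' : Matrix.ProjectiveSpecialLinearGroup (Fin n) F)
    (h : ∃ j : ℕ, n - 1 = p ^ j ∧ orderOf x ∣ p ^ (j + 1))
    (h' : ∃ j : ℕ, n - 1 = p ^ j ∧ orderOf x' ∣ p ^ (j + 1)) :
    ∃ y : Matrix.ProjectiveSpecialLinearGroup (Fin n) F,
      orderOf y = Nat.lcm (orderOf x) (orderOf x') := by
  obtain ⟨j, -, hj⟩ := h
  obtain ⟨j', -, hj'⟩ := h'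
  obtain ⟨s, -, hs⟩ := (Nat.dvd_prime_pow hp.out).mp hj
  obtain ⟨s', -, hs'⟩ := (Nat.dvd_prime_pow hp.out).mp hj'
  rcases le_total s s' with hss | hss
  · refine ⟨x', ?_⟩
    rw [Nat.lcm_comm]
    exact (Nat.lcm_eq_left (by rw [hs, hs']; exact pow_dvd_pow p hss)).symm
  · refine ⟨x, ?_⟩
    exact (Nat.lcm_eq_left (by rw [hs, hs']; exact pow_dvd_pow p hss)).symm


theorem lcm_r_of_dvd {a r : ℕ} (h : r ∣ a) : Nat.lcm a r = a := Nat.lcm_eq_left h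

theorem good_elt {r : ℕ} (hr : r.Prime)
    (x : Matrix.ProjectiveSpecialLinearGroup (Fin n) F) (hx : ¬ r ∣ orderOf x)
    (h : ∃ y : Matrix.ProjectiveSpecialLinearGroup (Fin n) F, r * orderOf x ∣ orderOf y) :
    ∃ y : Matrix.ProjectiveSpecialLinearGroup (Fin n) F, orderOf y = Nat.lcm (orderOf x) r := by
  obtain ⟨y, hy⟩ := h
  have hcop : Nat.Coprime (orderOf x) r :=
    ((Nat.Prime.coprime_iff_not_dvd hr).mpr hx).symm
  rw [hcop.lcm_eq_mul, mul_comm]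
  exact exists_orderOf_of_dvd y _ hy

/-- single slot absorbs `r`. -/
def Absorb (r : ℕ) (x : Matrix.ProjectiveSpecialLinearGroup (Fin n) F) : Prop :=
  ∃ y : Matrix.ProjectiveSpecialLinearGroup (Fin n) F, orderOf y = Nat.lcm (orderOf x) r

theorem absorb_or (p : ℕ) [hp : Fact p.Prime] [CharP F p] {r : ℕ} (hr : r.Prime)
    (hrq : r ∣ Fintype.card F - 1) (hrn : ¬ r ∣ n) (hn : 2 ≤ n)
    (x : Matrix.ProjectiveSpecialLinearGroup (Fin n) F) :
    Absorb r x ∨ orderOf x ∣ singerN (Fintype.card F) n ∨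
      (∃ j : ℕ, n - 1 = p ^ j ∧ orderOf x ∣ p ^ (j + 1)) := by
  by_cases hx : r ∣ orderOf x
  · left; exact ⟨x, (Nat.lcm_eq_left hx).symm⟩
  · rcases trichotomy p hr hrq hrn hn x hx with h | h | h
    · left; exact good_elt hr x hx h
    · right; left; exact h
    · right; right; exact h

theorem three (p : ℕ) [hp : Fact p.Prime] [CharP F p] {r : ℕ} (hr : r.Prime)
    (hrq : r ∣ Fintype.card F - 1) (hrn : ¬ r ∣ n) (hn : 2 ≤ n)
    (x₁ x₂ x₃ : Matrix.ProjectiveSpecialLinearGroup (Fin n) F) :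
    ∃ y₁ y₂ y₃ : Matrix.ProjectiveSpecialLinearGroup (Fin n) F,
      Nat.lcm (orderOf y₁) (Nat.lcm (orderOf y₂) (orderOf y₃)) =
        Nat.lcm (orderOf x₁) (Nat.lcm (orderOf x₂) (Nat.lcm (orderOf x₃) r)) := by
  obtain ⟨z, hz⟩ := exists_order_r (F := F) p hr hrq hrn hn
  have c12 : (∃ y : Matrix.ProjectiveSpecialLinearGroup (Fin n) F,
      orderOf y = Nat.lcm (orderOf x₁) (orderOf x₂)) → _ := fun ⟨y, hy⟩ =>
    (⟨y, z, x₃, by rw [hy, hz]; generalize orderOf x₁ = a; generalize orderOf x₂ = b; generalize orderOf x₃ = c; ac_rfl⟩ : ∃ y₁ y₂ y₃ : Matrix.ProjectiveSpecialLinearGroup (Fin n) F,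
      Nat.lcm (orderOf y₁) (Nat.lcm (orderOf y₂) (orderOf y₃)) =
        Nat.lcm (orderOf x₁) (Nat.lcm (orderOf x₂) (Nat.lcm (orderOf x₃) r)))
  have c13 : (∃ y : Matrix.ProjectiveSpecialLinearGroup (Fin n) F,
      orderOf y = Nat.lcm (orderOf x₁) (orderOf x₃)) → _ := fun ⟨y, hy⟩ =>
    (⟨y, x₂, z, by rw [hy, hz]; generalize orderOf x₁ = a; generalize orderOf x₂ = b; generalize orderOf x₃ = c; ac_rfl⟩ : ∃ y₁ y₂ y₃ : Matrix.ProjectiveSpecialLinearGroup (Fin n) F,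
      Nat.lcm (orderOf y₁) (Nat.lcm (orderOf y₂) (orderOf y₃)) =
        Nat.lcm (orderOf x₁) (Nat.lcm (orderOf x₂) (Nat.lcm (orderOf x₃) r)))
  have c23 : (∃ y : Matrix.ProjectiveSpecialLinearGroup (Fin n) F,
      orderOf y = Nat.lcm (orderOf x₂) (orderOf x₃)) → _ := fun ⟨y, hy⟩ =>
    (⟨x₁, y, z, by rw [hy, hz]; generalize orderOf x₁ = a; generalize orderOf x₂ = b; generalize orderOf x₃ = c; ac_rfl⟩ : ∃ y₁ y₂ y₃ : Matrix.ProjectiveSpecialLinearGroup (Fin n) F,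
      Nat.lcm (orderOf y₁) (Nat.lcm (orderOf y₂) (orderOf y₃)) =
        Nat.lcm (orderOf x₁) (Nat.lcm (orderOf x₂) (Nat.lcm (orderOf x₃) r)))
  rcases absorb_or p hr hrq hrn hn x₁ with ⟨y, hy⟩ | h1
  · exact ⟨y, x₂, x₃, by rw [hy]; generalize orderOf x₁ = a; generalize orderOf x₂ = b; generalize orderOf x₃ = c; ac_rfl⟩
  rcases absorb_or p hr hrq hrn hn x₂ with ⟨y, hy⟩ | h2
  · exact ⟨x₁, y, x₃, by rw [hy]; generalize orderOf x₁ = a; generalize orderOf x₂ = b; generalize orderOf x₃ = c; ac_rfl⟩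
  rcases absorb_or p hr hrq hrn hn x₃ with ⟨y, hy⟩ | h3
  · exact ⟨x₁, x₂, y, by rw [hy]⟩
  rcases h1 with h1 | h1 <;> rcases h2 with h2 | h2 <;> rcases h3 with h3 | h3
  · exact c12 (compat_N p hn _ _ h1 h2)
  · exact c12 (compat_N p hn _ _ h1 h2)
  · exact c13 (compat_N p hn _ _ h1 h3)
  · exact c23 (compat_U p _ _ h2 h3)
  · exact c23 (compat_N p hn _ _ h2 h3)
  · exact c13 (compat_U p _ _ h1 h3)
  · exact c12 (compat_U p _ _ h1 h2)
  · exact c12 (compat_U p _ _ h1 h2)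

theorem two (p : ℕ) [hp : Fact p.Prime] [CharP F p] {r : ℕ} (hr : r.Prime)
    (hrq : r ∣ Fintype.card F - 1) (hrn : ¬ r ∣ n) (hn : 2 ≤ n)
    (hj : ¬ ∃ j : ℕ, n - 1 = p ^ j)
    (x₁ x₂ : Matrix.ProjectiveSpecialLinearGroup (Fin n) F) :
    ∃ y₁ y₂ : Matrix.ProjectiveSpecialLinearGroup (Fin n) F,
      Nat.lcm (orderOf y₁) (orderOf y₂) =
        Nat.lcm (orderOf x₁) (Nat.lcm (orderOf x₂) r) := by
  obtain ⟨z, hz⟩ := exists_order_r (F := F) p hr hrq hrn hn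
  rcases absorb_or p hr hrq hrn hn x₁ with ⟨y, hy⟩ | h1
  · exact ⟨y, x₂, by rw [hy]; generalize orderOf x₁ = a; generalize orderOf x₂ = b; ac_rfl⟩
  rcases absorb_or p hr hrq hrn hn x₂ with ⟨y, hy⟩ | h2
  · exact ⟨x₁, y, by rw [hy]⟩
  rcases h1 with h1 | ⟨j, hj', -⟩
  · rcases h2 with h2 | ⟨j, hj', -⟩
    · obtain ⟨y, hy⟩ := compat_N p hn _ _ h1 h2
      exact ⟨y, z, by rw [hy, hz]; generalize orderOf x₁ = a; generalize orderOf x₂ = b; ac_rfl⟩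
    · exact absurd ⟨j, hj'⟩ hj
  · exact absurd ⟨j, hj'⟩ hj

end Cfsg.Agent.Lead.SpecPSL
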