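import Mathlib
import Cfsg.Prelude.Def_Transfer

/-! Transfer of Sylow data along an isomorphism (for helper9, S2652). -/

namespace Cfsg.Agent.Lead.SylTransfer

/-- An isomorphism can be adjusted so that it carries a given Sylow 2-subgroup onto a
given subgroup of Sylow order. -/
theorem exists_iso_sylow {G H : Type*} [Group G] [Group H] [Finite G] (e : G ≃* H)
    (S : Subgroup H)
    (hS : Nat.card S = 2 ^ (Nat.card H).factorization 2) (T : Sylow 2 G) :
    ∃ φ : G ≃* H, ∀ x : G, x ∈ (T : Subgroup G) ↔ φ x ∈ S := by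
  classical
  have : Fact (Nat.Prime 2) := ⟨Nat.prime_two⟩
  have hGH : Nat.card G = Nat.card H := Nat.card_congr e.toEquiv
  -- the image of S under the inverse
  have hcard : Nat.card (S.map e.symm.toMonoidHom) = 2 ^ (Nat.card G).factorization 2 := by
    rw [hGH, ← hS]
    exact Subgroup.card_map_of_injective e.symm.injective
  obtain ⟨g, hg⟩ := MulAction.exists_smul_eq G T (Sylow.ofCard _ hcard)
  refine ⟨(MulAut.conj g).trans e, fun x => ?_⟩
  have h1 : ∀ y : G, y ∈ ((Sylow.ofCard _ hcard : Sylow 2 G) : Subgroup G) ↔ e y ∈ S := by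
    intro y
    rw [Sylow.coe_ofCard, Subgroup.mem_map]
    constructor
    · rintro ⟨s, hs, rfl⟩
      simpa using hs
    · intro hy
      exact ⟨e y, hy, by simp⟩
  rw [MulEquiv.trans_apply, ← h1, ← hg, MulAut.conj_apply]
  have h2 : g * x * g⁻¹ ∈ ((g • T : Sylow 2 G) : Subgroup G) ↔ x ∈ (T : Subgroup G) := by
    rw [Sylow.coe_subgroup_smul,
      Subgroup.mem_pointwise_smul_iff_inv_smul_mem]
    simp [MulAut.smul_def, mul_assoc]
  exact h2.symm

/-- Transfer of the "unique largest normal elementary abelian subgroup" statement. -/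
theorem normal_elementary_transfer {G H : Type*} [Group G] [Group H] (φ : G ≃* H)
    (T : Subgroup G)
    (S E : Subgroup H) (n : ℕ) (hT : ∀ x : G, x ∈ T ↔ φ x ∈ S)
    (hE : E ≤ S) (hEn : ∀ s ∈ S, ∀ a ∈ E, s * a * s⁻¹ ∈ E)
    (hEc : ∀ a ∈ E, ∀ b ∈ E, a * b = b * a)
    (hE2 : ∀ a ∈ E, a * a = 1) (hEcard : Nat.card E = n)
    (hcore : ∀ A : Subgroup H, A ≤ S → (∀ s ∈ S, ∀ a ∈ A, s * a * s⁻¹ ∈ A) →
      (∀ a ∈ A, ∀ b ∈ A, a * b = b * a) → (∀ a ∈ A, a * a = 1) →
      Nat.card A ≤ n ∧ (Nat.card A = n → A = E)) :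
    (∀ A : Subgroup G, A ≤ T → (A.subgroupOf T).Normal → Cfsg.IsElementaryAbelian 2 A →
        Nat.card A ≤ n) ∧
    ∃! A : Subgroup G, A ≤ T ∧ (A.subgroupOf T).Normal ∧ Cfsg.IsElementaryAbelian 2 A ∧
        Nat.card A = n := by
  -- facts about the image of a normal elementary abelian subgroup of T
  have key : ∀ A : Subgroup G, A ≤ T → (A.subgroupOf T).Normal →
      Cfsg.IsElementaryAbelian 2 A →
      Nat.card A ≤ n ∧ (Nat.card A = n → A.map φ.toMonoidHom = E) := by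
    intro A hAT hAn hAe
    have hc : Nat.card (A.map φ.toMonoidHom) = Nat.card A :=
      Subgroup.card_map_of_injective φ.injective
    have h := hcore (A.map φ.toMonoidHom) ?_ ?_ ?_ ?_
    · rw [hc] at h
      exact h
    · rintro _ ⟨a, ha, rfl⟩
      exact (hT a).mp (hAT ha)
    · rintro s hs _ ⟨a, ha, rfl⟩
      obtain ⟨t, rfl⟩ := φ.surjective s
      have ht : t ∈ T := (hT t).mpr hs
      have := hAn.conj_mem ⟨a, hAT ha⟩ (Subgroup.mem_subgroupOf.mpr ha) ⟨t, ht⟩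
      have h2 : t * a * t⁻¹ ∈ A := by
        simpa [Subgroup.mem_subgroupOf] using this
      exact ⟨t * a * t⁻¹, h2, by simp⟩
    · rintro _ ⟨a, ha, rfl⟩ _ ⟨b, hb, rfl⟩
      have hab : a * b = b * a := by
        have := hAe.1.is_comm.comm ⟨a, ha⟩ ⟨b, hb⟩
        exact congrArg Subtype.val this
      show φ a * φ b = φ b * φ a
      rw [← map_mul, ← map_mul, hab]
    · rintro _ ⟨a, ha, rfl⟩
      show φ a * φ a = 1
      rw [← map_mul, ← pow_two, hAe.2 a ha, map_one]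
  refine ⟨fun A hAT hAn hAe => (key A hAT hAn hAe).1, ?_⟩
  refine ⟨E.map φ.symm.toMonoidHom, ⟨?_, ?_, ⟨?_, ?_⟩, ?_⟩, ?_⟩
  · rintro _ ⟨a, ha, rfl⟩
    exact (hT _).mpr (by simpa using hE ha)
  · constructor
    rintro ⟨x, hx⟩ hxE ⟨t, ht⟩
    rw [Subgroup.mem_subgroupOf] at hxE ⊢
    obtain ⟨a, ha, rfl⟩ := hxE
    refine ⟨φ t * a * (φ t)⁻¹, hEn _ ((hT t).mp ht) a ha, ?_⟩
    simp
  · constructor
    constructor
    rintro ⟨_, ⟨a, ha, rfl⟩⟩ ⟨_, ⟨b, hb, rfl⟩⟩
    apply Subtype.ext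
    show φ.symm a * φ.symm b = φ.symm b * φ.symm a
    rw [← map_mul, ← map_mul, hEc a ha b hb]
  · rintro _ ⟨a, ha, rfl⟩
    show φ.symm a ^ 2 = 1
    rw [← map_pow, pow_two, hE2 a ha, map_one]
  · rw [← hEcard]
    exact Subgroup.card_map_of_injective φ.symm.injective
  · rintro A ⟨hAT, hAn, hAe, hAc⟩
    have := (key A hAT hAn hAe).2 hAc
    rw [← this]
    ext x
    simp [Subgroup.mem_map]

end Cfsg.Agent.Lead.SylTransfer
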