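import Cfsg.Agent.Lead.FpqStab

/-!
S4306: the stabilizer in `𝔸 = ⟨f, h⟩` of a weight of an invariant abelian subgroup.
-/

set_option autoImplicit false
set_option linter.style.haveILetI false
set_option linter.unusedSectionVars false

namespace Cfsg.Agent.Lead.Fpq

open scoped BigOperators
open Classical
open Cfsg.Agent.Lead.S3F

section group

variable {Γ : Type*} [Group Γ]

/-- an element of prime order is a power of each of its non-trivial powers. -/
theorem exists_pow_pow_eq {q : ℕ} (hq : q.Prime) (y : Γ) (hyq : y ^ q = 1) (j : ℕ)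
    (hj : ¬ q ∣ j) : ∃ j' : ℕ, (y ^ j) ^ j' = y := by
  have hcop : Nat.Coprime j q := by
    rw [Nat.coprime_comm, Nat.Prime.coprime_iff_not_dvd hq]
    exact hj
  obtain ⟨j', -, hj'⟩ := Nat.exists_mul_mod_eq_one_of_coprime hcop hq.one_lt
  refine ⟨j', ?_⟩
  rw [← pow_mul]
  have h2 : j * j' = q * (j * j' / q) + 1 := by
    have := Nat.div_add_mod (j * j') q
    omega
  rw [h2, pow_add, pow_mul, hyq, one_pow, one_mul, pow_one]

theorem mem_of_pow_mem_of_prime {q : ℕ} (hq : q.Prime) (S : Subgroup Γ) (y : Γ) (hyq : y ^ q = 1)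
    (j : ℕ) (hj : ¬ q ∣ j) (h : y ^ j ∈ S) : y ∈ S := by
  obtain ⟨j', hj'⟩ := exists_pow_pow_eq hq y hyq j hj
  rw [← hj']
  exact S.pow_mem h _

theorem pow_eq_one_of_dvd {q : ℕ} (y : Γ) (hyq : y ^ q = 1) (j : ℕ) (hj : q ∣ j) : y ^ j = 1 := by
  obtain ⟨c, rfl⟩ := hj
  rw [pow_mul, hyq, one_pow]

end group

variable {k : Type*} [Field k] {Γ : Type*} [Group Γ] [Fintype Γ]
  {W : Type*} [AddCommGroup W] [Module k W] (ρ : Representation k Γ W)
  {p q m : ℕ} {𝔸 : Subgroup Γ} {f h : Γ}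

/-- `𝔸` has no non-zero fixed vector. -/
def NoFixA (𝔸 : Subgroup Γ) : Prop := ∀ w : W, (∀ a ∈ 𝔸, ρ a w = w) → w = 0

omit [Fintype Γ] in
theorem rho_pow_fixed (y : Γ) (w : W) (hw : ρ y w = w) (n : ℕ) : ρ (y ^ n) w = w := by
  induction n with
  | zero => simp
  | succ n ih => rw [pow_succ, map_mul, Module.End.mul_apply, hw, ih]

/-- the orders of the subgroups of `𝔸` are invertible in `k`. -/
theorem card_ne_zero_of_dvd (hpk : (p : k) ≠ 0) (hqk : (q : k) ≠ 0) {n : ℕ} (hn : n ∣ p * q) :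
    (n : k) ≠ 0 := by
  obtain ⟨c, hc⟩ := hn
  intro h0
  have : ((p * q : ℕ) : k) = 0 := by rw [hc, Nat.cast_mul, h0, zero_mul]
  rw [Nat.cast_mul] at this
  rcases mul_eq_zero.1 this with h | h
  · exact hpk h
  · exact hqk h

/-- **The orbit argument**: a weight vector fixed by the stabilizer of its weight in `𝔸`
vanishes. -/
theorem orb (g : FrobGen p q m 𝔸 f h) (hpk : (p : k) ≠ 0) (hqk : (q : k) ≠ 0)
    (hfix : NoFixA ρ 𝔸) (E : Subgroup Γ) (hE : (Fintype.card E : k) ≠ 0)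
    (hAE : 𝔸 ≤ Subgroup.normalizer (E : Set Γ)) (χ : E →* kˣ) (w : W)
    (hw : w ∈ wtSpace ρ E χ) (hfixw : ∀ a ∈ 𝔸, a ∈ charStab E χ → ρ a w = w) : w = 0 := by
  obtain ⟨v, hv⟩ : ∃ v : W, v = ∑ a : 𝔸, ρ (a : Γ) w := ⟨_, rfl⟩
  have hv0 : v = 0 := by
    apply hfix
    intro b hb
    rw [hv, map_sum]
    have h1 : ∀ a : 𝔸, ρ b (ρ (a : Γ) w) = ρ (((⟨b, hb⟩ : 𝔸) * a : 𝔸) : Γ) w := by
      intro a
      rw [← Module.End.mul_apply, ← map_mul]
      rfl
    rw [Finset.sum_congr rfl (fun a _ => h1 a)]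
    exact Equiv.sum_comp (Equiv.mulLeft (⟨b, hb⟩ : 𝔸)) (fun a : 𝔸 => ρ (a : Γ) w)
  obtain ⟨K, hK⟩ : ∃ K : Subgroup 𝔸, K = (charStab E χ).subgroupOf 𝔸 := ⟨_, rfl⟩
  have h2 : ∀ a : 𝔸, wtProj ρ E χ (ρ (a : Γ) w) = if a ∈ K then w else 0 := by
    intro a
    split_ifs with ha
    · rw [hK, Subgroup.mem_subgroupOf] at ha
      rw [hfixw a a.2 ha, wtProj_of_mem ρ E hE χ w hw]
    · rw [hK, Subgroup.mem_subgroupOf] at ha
      exact wtProj_rho_of_not_mem ρ E hE χ a (hAE a.2) ha w hw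
  have h3 : wtProj ρ E χ v = (Fintype.card K : k) • w := by
    rw [hv, map_sum, Finset.sum_congr rfl (fun a _ => h2 a), Finset.sum_ite,
      Finset.sum_const_zero, add_zero, Finset.sum_const, ← Nat.cast_smul_eq_nsmul k]
    congr 2
    rw [Fintype.card_subtype]
  rw [hv0, map_zero] at h3
  have hKk : (Fintype.card K : k) ≠ 0 := by
    apply card_ne_zero_of_dvd hpk hqk
    rw [← Nat.card_eq_fintype_card]
    exact dvd_trans (Subgroup.card_subgroup_dvd_card K) g.card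
  rcases smul_eq_zero.1 h3.symm with h4 | h4
  · exact absurd h4 hKk
  · exact h4

/-- **The three kinds of weights.** -/
theorem stab_cases (g : FrobGen p q m 𝔸 f h) (hpk : (p : k) ≠ 0) (hqk : (q : k) ≠ 0)
    (hfix : NoFixA ρ 𝔸) (E : Subgroup Γ) (hE : (Fintype.card E : k) ≠ 0)
    (hAE : 𝔸 ≤ Subgroup.normalizer (E : Set Γ)) (χ : E →* kˣ) (hχ : IsWt ρ E χ) :
    (f ∈ charStab E χ ∧ h ∈ charStab E χ) ∨
    (f ∈ charStab E χ ∧ h ∉ charStab E χ ∧ ∀ w ∈ wtSpace ρ E χ, ρ f w = w → w = 0) ∨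
    (f ∉ charStab E χ ∧ ∃ x ∈ Subgroup.zpowers f, x * h * x⁻¹ ∈ charStab E χ ∧
      ∀ w ∈ wtSpace ρ E χ, ρ (x * h * x⁻¹) w = w → w = 0) := by
  have r := g.toFrobRel
  by_cases hf : f ∈ charStab E χ
  · by_cases hh : h ∈ charStab E χ
    · exact Or.inl ⟨hf, hh⟩
    · refine Or.inr (Or.inl ⟨hf, hh, ?_⟩)
      intro w hw hfw
      apply orb ρ g hpk hqk hfix E hE hAE χ w hw
      intro a haA haS
      obtain ⟨i, j, rfl⟩ := g.exists_pow haA
      have h1 : h ^ j ∈ charStab E χ := by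
        have := (charStab E χ).mul_mem ((charStab E χ).inv_mem ((charStab E χ).pow_mem hf i)) haS
        rwa [inv_mul_cancel_left] at this
      have h2 : q ∣ j := by
        by_contra hj
        exact hh (mem_of_pow_mem_of_prime r.hq _ h r.hq1 j hj h1)
      rw [pow_eq_one_of_dvd h r.hq1 j h2, mul_one]
      exact rho_pow_fixed ρ f w hfw i
  · refine Or.inr (Or.inr ⟨hf, ?_⟩)
    by_cases hex : ∃ a ∈ 𝔸, a ∈ charStab E χ ∧ a ≠ 1
    · obtain ⟨a, haA, haS, ha1⟩ := hex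
      obtain ⟨i, j, rfl⟩ := g.exists_pow haA
      have hj : ¬ q ∣ j := by
        intro hj
        rw [pow_eq_one_of_dvd h r.hq1 j hj, mul_one] at haS ha1
        have hi : ¬ p ∣ i := fun hi => ha1 (pow_eq_one_of_dvd f r.fp i hi)
        exact hf (mem_of_pow_mem_of_prime r.hp _ f r.fp i hi haS)
      obtain ⟨x, hx, hxe⟩ := r.exists_conj i j hj
      have g' := g.conj_h hx
      have r' := g'.toFrobRel
      have h1 : (x * h * x⁻¹) ^ j ∈ charStab E χ := by
        rw [conj_pow, ← hxe]; exact haS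
      have hh' : x * h * x⁻¹ ∈ charStab E χ :=
        mem_of_pow_mem_of_prime r.hq _ _ r'.hq1 j hj h1
      refine ⟨x, hx, hh', ?_⟩
      intro w hw hfw
      apply orb ρ g hpk hqk hfix E hE hAE χ w hw
      intro a haA haS
      obtain ⟨i', j', rfl⟩ := g'.exists_pow haA
      have h2 : f ^ i' ∈ charStab E χ := by
        have := (charStab E χ).mul_mem haS
          ((charStab E χ).inv_mem ((charStab E χ).pow_mem hh' j'))
        rwa [mul_inv_cancel_right] at this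
      have h3 : p ∣ i' := by
        by_contra hi
        exact hf (mem_of_pow_mem_of_prime r.hp _ f r.fp i' hi h2)
      rw [pow_eq_one_of_dvd f r.fp i' h3, one_mul]
      exact rho_pow_fixed ρ _ w hfw j'
    · exfalso
      push Not at hex
      obtain ⟨u, hu, hu0⟩ := hχ
      apply hu0
      apply orb ρ g hpk hqk hfix E hE hAE χ u hu
      intro a haA haS
      rw [hex a haA haS, map_one, Module.End.one_apply]

end Cfsg.Agent.Lead.Fpq
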