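import Cfsg.Agent.Lead.FpqAsm

/-!
S3796 (Ward): generators of an elementary abelian group of rank at most two, the orbit argument
and the stabilizers of weights.
-/

set_option autoImplicit false
set_option linter.style.haveILetI false
set_option linter.unusedSectionVars false

namespace Cfsg.Agent.Lead.Ward

open scoped BigOperators
open Classical
open Cfsg.Agent.Lead.S3F Cfsg.Agent.Lead.Fpq

/-- `𝔸` is generated by two commuting elements `a`, `u` with `a ^ p = u ^ p = 1`. -/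
structure ElemGen {Γ : Type*} [Group Γ] (p : ℕ) (𝔸 : Subgroup Γ) (a u : Γ) : Prop where
  hp : p.Prime
  comm : a * u = u * a
  ap : a ^ p = 1
  up : u ^ p = 1
  gen : 𝔸 = Subgroup.closure {a, u}

/-- an element of `⟨y⟩`, `y ^ n = 1` with `0 < n`, is a natural power of `y`. -/
theorem mem_powers_iff_mem_zpowers_of_pow {Γ : Type*} [Group Γ] {y x : Γ} {n : ℕ} (hn : 0 < n)
    (hy : y ^ n = 1) : (∃ m : ℕ, y ^ m = x) ↔ x ∈ Subgroup.zpowers y := by
  have hfin : IsOfFinOrder y := isOfFinOrder_iff_pow_eq_one.2 ⟨n, hn, hy⟩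
  rw [← hfin.mem_powers_iff_mem_zpowers, Submonoid.mem_powers_iff]

namespace ElemGen

variable {Γ : Type*} [Group Γ] {Γ' : Type*} [Group Γ'] {p : ℕ} {𝔸 : Subgroup Γ} {a u : Γ}

theorem a_mem (g : ElemGen p 𝔸 a u) : a ∈ 𝔸 := by
  rw [g.gen]; exact Subgroup.subset_closure (by simp)

theorem u_mem (g : ElemGen p 𝔸 a u) : u ∈ 𝔸 := by
  rw [g.gen]; exact Subgroup.subset_closure (by simp)

theorem le_of_mem (g : ElemGen p 𝔸 a u) {B : Subgroup Γ} (ha : a ∈ B) (hu : u ∈ B) : 𝔸 ≤ B := by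
  rw [g.gen, Subgroup.closure_le]
  intro x hx
  rcases hx with rfl | rfl
  · exact ha
  · exact hu

theorem map (g : ElemGen p 𝔸 a u) (φ : Γ →* Γ') : ElemGen p (𝔸.map φ) (φ a) (φ u) where
  hp := g.hp
  comm := by rw [← map_mul, g.comm, map_mul]
  ap := by rw [← map_pow, g.ap, map_one]
  up := by rw [← map_pow, g.up, map_one]
  gen := by rw [g.gen, MonoidHom.map_closure, Set.image_pair]

theorem symm (g : ElemGen p 𝔸 a u) : ElemGen p 𝔸 u a where
  hp := g.hp
  comm := g.comm.symm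
  ap := g.up
  up := g.ap
  gen := by rw [g.gen, Set.pair_comm]

/-- `𝔸` is abelian. -/
theorem comm_mem (g : ElemGen p 𝔸 a u) : ∀ x ∈ 𝔸, ∀ y ∈ 𝔸, x * y = y * x := by
  have h1 : 𝔸 ≤ Subgroup.centralizer ({a, u} : Set Γ) := by
    apply g.le_of_mem
    · rw [Subgroup.mem_centralizer_iff]
      intro x hx
      rcases hx with rfl | rfl
      · rfl
      · exact g.comm.symm
    · rw [Subgroup.mem_centralizer_iff]
      intro x hx
      rcases hx with rfl | rfl
      · exact g.comm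
      · rfl
  intro x hx y hy
  have h2 : 𝔸 ≤ Subgroup.centralizer ({x} : Set Γ) := by
    apply g.le_of_mem
    · rw [Subgroup.mem_centralizer_singleton_iff]
      exact Subgroup.mem_centralizer_iff.1 (h1 hx) a (by simp)
    · rw [Subgroup.mem_centralizer_singleton_iff]
      exact Subgroup.mem_centralizer_iff.1 (h1 hx) u (by simp)
  have := Subgroup.mem_centralizer_singleton_iff.1 (h2 hy)
  exact this.symm

/-- every element of `𝔸` has order dividing `p`. -/
theorem pow_mem (g : ElemGen p 𝔸 a u) : ∀ x ∈ 𝔸, x ^ p = 1 := by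
  obtain ⟨B, hB⟩ : ∃ B : Subgroup Γ, B = 𝔸 := ⟨_, rfl⟩
  intro x hx
  have key : ∀ y ∈ Subgroup.closure ({a, u} : Set Γ), y ∈ 𝔸 ∧ y ^ p = 1 := by
    intro y hy
    induction hy using Subgroup.closure_induction with
    | mem z hz =>
      rcases hz with rfl | rfl
      · exact ⟨g.a_mem, g.ap⟩
      · exact ⟨g.u_mem, g.up⟩
    | one => exact ⟨𝔸.one_mem, one_pow p⟩
    | mul y z _ _ hy hz =>
      refine ⟨𝔸.mul_mem hy.1 hz.1, ?_⟩
      have hc : Commute y z := g.comm_mem y hy.1 z hz.1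
      rw [hc.mul_pow, hy.2, hz.2, one_mul]
    | inv y _ hy =>
      exact ⟨𝔸.inv_mem hy.1, by rw [inv_pow, hy.2, inv_one]⟩
  rw [g.gen] at hx
  exact (key x hx).2

/-- every element of `𝔸` is `a ^ i * u ^ j`. -/
theorem exists_pow (g : ElemGen p 𝔸 a u) {x : Γ} (hx : x ∈ 𝔸) :
    ∃ i j : ℕ, i < p ∧ j < p ∧ x = a ^ i * u ^ j := by
  have hpp := g.hp.pos
  have red : ∀ (y : Γ), y ^ p = 1 → ∀ n : ℕ, y ^ n = y ^ (n % p) := by
    intro y hy n
    conv_lhs => rw [← Nat.div_add_mod n p, pow_add, pow_mul, hy, one_pow, one_mul]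
  have key : ∀ y ∈ Subgroup.closure ({a, u} : Set Γ), ∃ i j : ℕ, y = a ^ i * u ^ j := by
    intro y hy
    induction hy using Subgroup.closure_induction with
    | mem z hz =>
      rcases hz with rfl | rfl
      · exact ⟨1, 0, by simp⟩
      · exact ⟨0, 1, by simp⟩
    | one => exact ⟨0, 0, by simp⟩
    | mul y z _ _ hy hz =>
      obtain ⟨i, j, rfl⟩ := hy
      obtain ⟨i', j', rfl⟩ := hz
      refine ⟨i + i', j + j', ?_⟩
      have hc : Commute (u ^ j) (a ^ i') := ((Commute.pow_pow (show Commute a u from g.comm) i' j)).symm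
      calc a ^ i * u ^ j * (a ^ i' * u ^ j') = a ^ i * (u ^ j * a ^ i') * u ^ j' := by group
        _ = a ^ i * (a ^ i' * u ^ j) * u ^ j' := by rw [hc.eq]
        _ = a ^ (i + i') * u ^ (j + j') := by rw [pow_add, pow_add]; group
    | inv y _ hy =>
      obtain ⟨i, j, rfl⟩ := hy
      refine ⟨i * (p - 1), j * (p - 1), ?_⟩
      have h1 : ∀ (z : Γ), z ^ p = 1 → ∀ n : ℕ, (z ^ n)⁻¹ = z ^ (n * (p - 1)) := by
        intro z hz n
        apply inv_eq_of_mul_eq_one_right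
        rw [← pow_add]
        have : n + n * (p - 1) = p * n := by
          have : p = (p - 1) + 1 := by omega
          conv_rhs => rw [this]
          ring
        rw [this, pow_mul, hz, one_pow]
      have hc : Commute (u ^ j)⁻¹ (a ^ i)⁻¹ :=
        ((Commute.pow_pow (show Commute a u from g.comm) i j).symm).inv_inv
      rw [mul_inv_rev, hc.eq, h1 a g.ap, h1 u g.up]
  rw [g.gen] at hx
  obtain ⟨i, j, rfl⟩ := key x hx
  exact ⟨i % p, j % p, Nat.mod_lt _ hpp, Nat.mod_lt _ hpp, by rw [red a g.ap i, red u g.up j]⟩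

/-- the order of `𝔸` divides `p²`. -/
theorem card_dvd [Finite Γ] (g : ElemGen p 𝔸 a u) : Nat.card 𝔸 ∣ p * p := by
  haveI : Fact p.Prime := ⟨g.hp⟩
  have hpg : IsPGroup p 𝔸 := by
    intro x
    refine ⟨1, ?_⟩
    apply Subtype.ext
    rw [pow_one, Subgroup.coe_pow, Subgroup.coe_one]
    exact g.pow_mem x x.2
  obtain ⟨n, hn⟩ := IsPGroup.iff_card.1 hpg
  have hle : Nat.card 𝔸 ≤ p * p := by
    have hsurj : Function.Surjective (fun ij : Fin p × Fin p =>
        (⟨a ^ (ij.1 : ℕ) * u ^ (ij.2 : ℕ),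
          𝔸.mul_mem (𝔸.pow_mem g.a_mem _) (𝔸.pow_mem g.u_mem _)⟩ : 𝔸)) := by
      intro x
      obtain ⟨i, j, hi, hj, hx⟩ := g.exists_pow x.2
      exact ⟨(⟨i, hi⟩, ⟨j, hj⟩), Subtype.ext hx.symm⟩
    have := Nat.card_le_card_of_surjective _ hsurj
    rwa [Nat.card_prod, Nat.card_fin] at this
  rw [hn] at hle ⊢
  have hn2 : n ≤ 2 := by
    by_contra hcon
    push Not at hcon
    have : p ^ 3 ≤ p ^ n := Nat.pow_le_pow_right g.hp.pos hcon
    have h2 : p * p < p ^ 3 := by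
      have := g.hp.one_lt
      calc p * p = p * p * 1 := (mul_one _).symm
        _ < p * p * p := by
          apply Nat.mul_lt_mul_of_lt_of_le' ?_ this.le (by positivity)
          · exact Nat.lt_irrefl _ |> fun _ => by nlinarith
        _ = p ^ 3 := by ring
    omega
  rw [← pow_two]
  exact pow_dvd_pow p hn2

/-- two elements of `𝔸`, the second outside the non-trivial cyclic group spanned by the first,
generate `𝔸`. -/
theorem closure_eq [Finite Γ] (g : ElemGen p 𝔸 a u) {a' u' : Γ} (ha' : a' ∈ 𝔸) (hu' : u' ∈ 𝔸)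
    (hne : a' ≠ 1) (hu'n : u' ∉ Subgroup.zpowers a') : 𝔸 = Subgroup.closure {a', u'} := by
  obtain ⟨B, hB⟩ : ∃ B : Subgroup Γ, B = Subgroup.closure {a', u'} := ⟨_, rfl⟩
  rw [← hB]
  have hBA : B ≤ 𝔸 := by
    rw [hB, Subgroup.closure_le]
    intro x hx
    rcases hx with rfl | rfl
    · exact ha'
    · exact hu'
  have ha'B : a' ∈ B := by rw [hB]; exact Subgroup.subset_closure (by simp)
  have hu'B : u' ∈ B := by rw [hB]; exact Subgroup.subset_closure (by simp)
  have hZB : Subgroup.zpowers a' ≤ B := Subgroup.zpowers_le.2 ha'B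
  have hord : orderOf a' = p := by
    have h1 : orderOf a' ∣ p := orderOf_dvd_of_pow_eq_one (g.pow_mem a' ha')
    rcases (Nat.dvd_prime g.hp).1 h1 with h2 | h2
    · exact absurd (orderOf_eq_one_iff.1 h2) hne
    · exact h2
  have hcZ : Nat.card (Subgroup.zpowers a') = p := by rw [Nat.card_zpowers, hord]
  have hlt : Nat.card (Subgroup.zpowers a') < Nat.card B := by
    by_contra hcon
    push Not at hcon
    have := Subgroup.eq_of_le_of_card_ge hZB hcon
    apply hu'n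
    rw [this]; exact hu'B
  have hBdvd : Nat.card B ∣ p ^ 2 := by
    rw [pow_two]
    exact (Subgroup.card_dvd_of_le hBA).trans g.card_dvd
  have hAdvd : Nat.card 𝔸 ∣ p ^ 2 := by
    rw [pow_two]; exact g.card_dvd
  obtain ⟨m, hm, hmB⟩ := (Nat.dvd_prime_pow g.hp).1 hBdvd
  have hm2 : m = 2 := by
    rw [hcZ, hmB] at hlt
    have h1 : 1 < m := by
      by_contra hcon
      push Not at hcon
      have : p ^ m ≤ p ^ 1 := Nat.pow_le_pow_right g.hp.pos hcon
      rw [pow_one] at this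
      omega
    omega
  have hAle : Nat.card 𝔸 ≤ Nat.card B := by
    rw [hmB, hm2]
    exact Nat.le_of_dvd (by have := g.hp.pos; positivity) hAdvd
  exact (Subgroup.eq_of_le_of_card_ge hBA hAle).symm

theorem of_mem [Finite Γ] (g : ElemGen p 𝔸 a u) {a' u' : Γ} (ha' : a' ∈ 𝔸) (hu' : u' ∈ 𝔸)
    (hne : a' ≠ 1) (hu'n : u' ∉ Subgroup.zpowers a') : ElemGen p 𝔸 a' u' where
  hp := g.hp
  comm := g.comm_mem a' ha' u' hu'
  ap := g.pow_mem a' ha'
  up := g.pow_mem u' hu'
  gen := g.closure_eq ha' hu' hne hu'n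

/-- `𝔸` normalizes each of its cyclic subgroups. -/
theorem le_normalizer_zpowers (g : ElemGen p 𝔸 a u) {y : Γ} (hy : y ∈ 𝔸) :
    𝔸 ≤ Subgroup.normalizer ((Subgroup.zpowers y : Subgroup Γ) : Set Γ) := by
  have h1 : 𝔸 ≤ Subgroup.centralizer ((Subgroup.zpowers y : Subgroup Γ) : Set Γ) := by
    intro x hx
    rw [Subgroup.mem_centralizer_iff]
    intro z hz
    exact g.comm_mem z (Subgroup.zpowers_le.2 hy hz) x hx
  exact h1.trans (Subgroup.centralizer_le_normalizer _)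

/-- a non-trivial element of `⟨a⟩` generates `⟨a⟩`. -/
theorem mem_zpowers_of_mem_zpowers (g : ElemGen p 𝔸 a u) {y : Γ} (hy : y ∈ Subgroup.zpowers a)
    (hy1 : y ≠ 1) : a ∈ Subgroup.zpowers y := by
  obtain ⟨n, rfl⟩ := (mem_powers_iff_mem_zpowers_of_pow (g.hp.pos) g.ap).2 hy
  have hn : ¬ p ∣ n := fun h => hy1 (pow_eq_one_of_dvd a g.ap n h)
  exact mem_of_pow_mem_of_prime g.hp _ a g.ap n hn (Subgroup.mem_zpowers _)

end ElemGen

section rep

variable {k : Type*} [Field k] {Γ : Type*} [Group Γ] [Fintype Γ]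
  {W : Type*} [AddCommGroup W] [Module k W] (ρ : Representation k Γ W)
  {p : ℕ} {𝔸 : Subgroup Γ} {a u : Γ}

/-- **The orbit argument**: a weight vector fixed by the stabilizer of its weight in `𝔸`
vanishes. -/
theorem orb (g : ElemGen p 𝔸 a u) (hpk : (p : k) ≠ 0)
    (hfix : NoFixA ρ 𝔸) (E : Subgroup Γ) (hE : (Fintype.card E : k) ≠ 0)
    (hAE : 𝔸 ≤ Subgroup.normalizer (E : Set Γ)) (χ : E →* kˣ) (w : W)
    (hw : w ∈ wtSpace ρ E χ) (hfixw : ∀ y ∈ 𝔸, y ∈ charStab E χ → ρ y w = w) : w = 0 := by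
  obtain ⟨v, hv⟩ : ∃ v : W, v = ∑ y : 𝔸, ρ (y : Γ) w := ⟨_, rfl⟩
  have hv0 : v = 0 := by
    apply hfix
    intro b hb
    rw [hv, map_sum]
    have h1 : ∀ y : 𝔸, ρ b (ρ (y : Γ) w) = ρ (((⟨b, hb⟩ : 𝔸) * y : 𝔸) : Γ) w := by
      intro y
      rw [← Module.End.mul_apply, ← map_mul]
      rfl
    rw [Finset.sum_congr rfl (fun y _ => h1 y)]
    exact Equiv.sum_comp (Equiv.mulLeft (⟨b, hb⟩ : 𝔸)) (fun y : 𝔸 => ρ (y : Γ) w)
  obtain ⟨K, hK⟩ : ∃ K : Subgroup 𝔸, K = (charStab E χ).subgroupOf 𝔸 := ⟨_, rfl⟩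
  have h2 : ∀ y : 𝔸, wtProj ρ E χ (ρ (y : Γ) w) = if y ∈ K then w else 0 := by
    intro y
    split_ifs with hy
    · rw [hK, Subgroup.mem_subgroupOf] at hy
      rw [hfixw y y.2 hy, wtProj_of_mem ρ E hE χ w hw]
    · rw [hK, Subgroup.mem_subgroupOf] at hy
      exact wtProj_rho_of_not_mem ρ E hE χ y (hAE y.2) hy w hw
  have h3 : wtProj ρ E χ v = (Fintype.card K : k) • w := by
    rw [hv, map_sum, Finset.sum_congr rfl (fun y _ => h2 y), Finset.sum_ite,
      Finset.sum_const_zero, add_zero, Finset.sum_const, ← Nat.cast_smul_eq_nsmul k]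
    congr 2
    rw [Fintype.card_subtype]
  rw [hv0, map_zero] at h3
  have hKk : (Fintype.card K : k) ≠ 0 := by
    apply card_ne_zero_of_dvd hpk hpk
    rw [← Nat.card_eq_fintype_card]
    exact dvd_trans (Subgroup.card_subgroup_dvd_card K) g.card_dvd
  rcases smul_eq_zero.1 h3.symm with h4 | h4
  · exact absurd h4 hKk
  · exact h4

/-- **The stabilizer of a weight**: it is `𝔸`, or cyclic generated by an element without fixed
vectors on the weight space. -/
theorem stab_cases (g : ElemGen p 𝔸 a u) (hpk : (p : k) ≠ 0)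
    (hfix : NoFixA ρ 𝔸) (E : Subgroup Γ) (hE : (Fintype.card E : k) ≠ 0)
    (hAE : 𝔸 ≤ Subgroup.normalizer (E : Set Γ)) (χ : E →* kˣ) (hχ : IsWt ρ E χ) :
    𝔸 ≤ charStab E χ ∨ ∃ y ∈ 𝔸, y ≠ 1 ∧ y ∈ charStab E χ ∧
      (∀ z ∈ 𝔸, z ∈ charStab E χ → z ∈ Subgroup.zpowers y) ∧
      ∀ w ∈ wtSpace ρ E χ, ρ y w = w → w = 0 := by
  by_cases hA : 𝔸 ≤ charStab E χ
  · exact Or.inl hA
  right
  by_cases hex : ∃ y ∈ 𝔸, y ∈ charStab E χ ∧ y ≠ 1
  · obtain ⟨y, hyA, hyS, hy1⟩ := hex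
    have hcyc : ∀ z ∈ 𝔸, z ∈ charStab E χ → z ∈ Subgroup.zpowers y := by
      intro z hzA hzS
      by_contra hz
      apply hA
      rw [g.closure_eq hyA hzA hy1 hz, Subgroup.closure_le]
      intro x hx
      rcases hx with rfl | rfl
      · exact hyS
      · exact hzS
    refine ⟨y, hyA, hy1, hyS, hcyc, ?_⟩
    intro w hw hyw
    apply orb ρ g hpk hfix E hE hAE χ w hw
    intro z hzA hzS
    obtain ⟨n, rfl⟩ := (mem_powers_iff_mem_zpowers_of_pow (g.hp.pos) (g.pow_mem y hyA)).2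
      (hcyc z hzA hzS)
    exact rho_pow_fixed ρ y w hyw n
  · exfalso
    push Not at hex
    obtain ⟨w, hw, hw0⟩ := hχ
    apply hw0
    apply orb ρ g hpk hfix E hE hAE χ w hw
    intro y hyA hyS
    rw [hex y hyA hyS, map_one, Module.End.one_apply]

end rep

end Cfsg.Agent.Lead.Ward
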