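import Mathlib
import Cfsg.Prelude.Def_MonsterType
import Cfsg.Agent.Helper3.LargeXK
import Cfsg.Agent.Helper9.J3Z.Abs

/-!
Helper library (lead): a large extraspecial 2-subgroup from element-wise data, and the same for the
image of a subgroup in a quotient `N ⧸ K`.
-/

set_option autoImplicit false

namespace Cfsg.Agent.Lead.LargeQuot

open Cfsg.Agent.Helper3.LargeX

theorem mem_center_map_iff {H : Type*} [Group H] (P : Subgroup H) (y : H) :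
    y ∈ (Subgroup.center ↥P).map P.subtype ↔ y ∈ P ∧ ∀ x ∈ P, x * y = y * x := by
  constructor
  · rintro ⟨c, hc, rfl⟩
    refine ⟨c.2, fun x hx => ?_⟩
    have := Subgroup.mem_center_iff.mp hc ⟨x, hx⟩
    exact congrArg Subtype.val this
  · rintro ⟨hy, h⟩
    refine ⟨⟨y, hy⟩, Subgroup.mem_center_iff.mpr ?_, rfl⟩
    intro x
    exact Subtype.ext (h x x.2)

/-- A large extraspecial 2-subgroup from element-wise data. -/
theorem large_of_elementwise {H : Type*} [Group H] [Finite H] (P : Subgroup H) (z : H)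
    (hzP : z ∈ P) (hz1 : z ≠ 1) (hz2 : z * z = 1)
    (comm : ∀ x ∈ P, ∀ y ∈ P, x * y * x⁻¹ * y⁻¹ = 1 ∨ x * y * x⁻¹ * y⁻¹ = z)
    (sq : ∀ x ∈ P, x * x = 1 ∨ x * x = z)
    (zc : ∀ y ∈ P, y * z = z * y)
    (selfC : ∀ c : H, (∀ y ∈ P, c * y = y * c) → c = 1 ∨ c = z)
    (norm : ∀ c : H, c * z = z * c → ∀ y ∈ P, c * y * c⁻¹ ∈ P)
    (g : H) (hg1 : g * z * g⁻¹ ∈ P) (hg2 : g * z * g⁻¹ ≠ z) :
    Cfsg.IsLargeExtraspecial P := by
  have hg3 : g * z * g⁻¹ ≠ 1 := by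
    intro h
    apply hz1
    have : z = g⁻¹ * (g * z * g⁻¹) * g := by group
    rw [this, h]; group
  have hcard : 2 < Nat.card P := by
    classical
    letI : Fintype ↥P := Fintype.ofFinite _
    have h3 : ({(⟨1, P.one_mem⟩ : ↥P), ⟨z, hzP⟩, ⟨g * z * g⁻¹, hg1⟩} : Finset ↥P).card = 3 := by
      rw [Finset.card_insert_of_notMem, Finset.card_insert_of_notMem, Finset.card_singleton]
      · simp only [Finset.mem_singleton, Subtype.mk.injEq]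
        exact fun h => hg2 h.symm
      · simp only [Finset.mem_insert, Finset.mem_singleton, Subtype.mk.injEq, not_or]
        exact ⟨fun h => hz1 h.symm, fun h => hg3 h.symm⟩
    have := Finset.card_le_univ ({(⟨1, P.one_mem⟩ : ↥P), ⟨z, hzP⟩, ⟨g * z * g⁻¹, hg1⟩} : Finset ↥P)
    rw [h3, ← Nat.card_eq_fintype_card] at this
    omega
  have hE : Cfsg.IsExtraspecial 2 ↥P :=
    Cfsg.Agent.Helper9.J3Z.extraspecial_of P z hzP hz1 hcard comm sq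
      (fun x _ h => selfC x h) zc
  have hLX : LX P z := by
    refine ⟨hz1, hz2, hzP, zc, comm, fun a _ h => selfC a h, ?_, norm, hE.1.1⟩
    intro c hc
    rw [Subgroup.mem_centralizer_iff] at hc
    rcases selfC c (fun y hy => (hc y hy).symm) with h | h
    · rw [h]; exact P.one_mem
    · rw [h]; exact hzP
  have hZ : ∀ y : H, y ∈ (Subgroup.center ↥P).map P.subtype ↔ y = 1 ∨ y = z := by
    intro y
    rw [mem_center_map_iff]
    constructor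
    · rintro ⟨_, h⟩
      exact selfC y (fun x hx => (h x hx).symm)
    · rintro (rfl | rfl)
      · exact ⟨P.one_mem, fun x _ => by simp⟩
      · exact ⟨hzP, zc⟩
  refine ⟨hE, ?_, ?_, ?_⟩
  · ext c
    rw [hZ, Subgroup.mem_centralizer_iff]
    constructor
    · intro h
      exact selfC c (fun y hy => (h y hy).symm)
    · rintro (rfl | rfl)
      · intro y _; simp
      · intro y hy; exact zc y hy
  · intro c hc
    rw [Subgroup.mem_centralizer_iff] at hc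
    have hcz : c * z = z * c := (hc z ((hZ z).mpr (Or.inr rfl))).symm
    have hcz' : c⁻¹ * z = z * c⁻¹ := by
      calc c⁻¹ * z = c⁻¹ * (z * c) * c⁻¹ := by group
        _ = c⁻¹ * (c * z) * c⁻¹ := by rw [hcz]
        _ = z * c⁻¹ := by group
    rw [Subgroup.mem_normalizer_iff]
    intro y
    constructor
    · intro hy; exact norm c hcz y hy
    · intro hy
      have := norm c⁻¹ hcz' _ hy
      have e : c⁻¹ * (c * y * c⁻¹) * c⁻¹⁻¹ = y := by group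
      rwa [e] at this
  · intro K hK hQK
    exact hLX.odd_trivial g hg1 hg2 K hK hQK

/-- The same for the image of `P` in `N ⧸ K`. -/
theorem large_quot {G : Type*} [Group G] [Finite G] (N K P : Subgroup G)
    [hn : (K.subgroupOf N).Normal] (hPN : P ≤ N) (z : G) (hzP : z ∈ P) (hzK : z ∉ K)
    (hz2 : z * z = 1)
    (comm : ∀ x ∈ P, ∀ y ∈ P, x * y * x⁻¹ * y⁻¹ = 1 ∨ x * y * x⁻¹ * y⁻¹ = z)
    (sq : ∀ x ∈ P, x * x = 1 ∨ x * x = z)
    (zc : ∀ y ∈ P, y * z = z * y)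
    (selfC : ∀ c ∈ N, (∀ y ∈ P, c * y * c⁻¹ * y⁻¹ ∈ K) → c ∈ K ∨ z⁻¹ * c ∈ K)
    (norm : ∀ c ∈ N, c * z * c⁻¹ * z⁻¹ ∈ K → ∀ y ∈ P, ∃ y' ∈ P, y'⁻¹ * (c * y * c⁻¹) ∈ K)
    (g : G) (hgN : g ∈ N) (hg1 : ∃ y' ∈ P, y'⁻¹ * (g * z * g⁻¹) ∈ K)
    (hg2 : z⁻¹ * (g * z * g⁻¹) ∉ K) :
    Cfsg.IsLargeExtraspecial ((P.subgroupOf N).map (QuotientGroup.mk' (K.subgroupOf N))) := by
  set π := QuotientGroup.mk' (K.subgroupOf N) with hπ
  have hπ1 : ∀ a : ↥N, π a = 1 ↔ (a : G) ∈ K := by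
    intro a
    rw [hπ, QuotientGroup.mk'_apply, QuotientGroup.eq_one_iff, Subgroup.mem_subgroupOf]
  have hπeq : ∀ a b : ↥N, π a = π b ↔ (a : G)⁻¹ * b ∈ K := by
    intro a b
    rw [hπ, QuotientGroup.mk'_apply, QuotientGroup.mk'_apply, QuotientGroup.eq,
      Subgroup.mem_subgroupOf]
    simp
  have hmem : ∀ y : ↥N ⧸ K.subgroupOf N, y ∈ (P.subgroupOf N).map π ↔
      ∃ x, ∃ hx : x ∈ P, π ⟨x, hPN hx⟩ = y := by
    intro y
    constructor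
    · rintro ⟨a, ha, rfl⟩
      exact ⟨a, Subgroup.mem_subgroupOf.mp ha, rfl⟩
    · rintro ⟨x, hx, rfl⟩
      exact ⟨⟨x, hPN hx⟩, Subgroup.mem_subgroupOf.mpr hx, rfl⟩
  have hcomm : ∀ a b : ↥N, π a * π b = π b * π a → (a : G) * b * (a : G)⁻¹ * (b : G)⁻¹ ∈ K := by
    intro a b h
    have h1 : π (a * b * a⁻¹ * b⁻¹) = 1 := by
      rw [map_mul, map_mul, map_mul, map_inv, map_inv, h]
      group
    exact (hπ1 _).mp h1
  have hzN : z ∈ N := hPN hzP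
  apply large_of_elementwise _ (π ⟨z, hzN⟩) ((hmem _).mpr ⟨z, hzP, rfl⟩) _ _ _ _ _ _ _
    (π ⟨g, hgN⟩)
  · -- conjugate lies in the image
    obtain ⟨y', hy', h⟩ := hg1
    refine (hmem _).mpr ⟨y', hy', ?_⟩
    have e : π ⟨g, hgN⟩ * π ⟨z, hzN⟩ * (π ⟨g, hgN⟩)⁻¹ = π (⟨g, hgN⟩ * ⟨z, hzN⟩ * ⟨g, hgN⟩⁻¹) := by
      rw [map_mul, map_mul, map_inv]
    rw [e, hπeq]
    exact h
  · -- the conjugate differs
    intro h
    apply hg2
    have e : π ⟨g, hgN⟩ * π ⟨z, hzN⟩ * (π ⟨g, hgN⟩)⁻¹ = π (⟨g, hgN⟩ * ⟨z, hzN⟩ * ⟨g, hgN⟩⁻¹) := by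
      rw [map_mul, map_mul, map_inv]
    rw [e] at h
    exact (hπeq _ _).mp h.symm
  · intro h
    exact hzK ((hπ1 _).mp h)
  · rw [← map_mul]
    have : (⟨z, hzN⟩ : ↥N) * ⟨z, hzN⟩ = 1 := Subtype.ext hz2
    rw [this, map_one]
  · intro xb hxb yb hyb
    obtain ⟨x, hx, rfl⟩ := (hmem _).mp hxb
    obtain ⟨y, hy, rfl⟩ := (hmem _).mp hyb
    have e : π ⟨x, hPN hx⟩ * π ⟨y, hPN hy⟩ * (π ⟨x, hPN hx⟩)⁻¹ * (π ⟨y, hPN hy⟩)⁻¹ =
        π (⟨x, hPN hx⟩ * ⟨y, hPN hy⟩ * ⟨x, hPN hx⟩⁻¹ * ⟨y, hPN hy⟩⁻¹) := by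
      rw [map_mul, map_mul, map_mul, map_inv, map_inv]
    rw [e]
    rcases comm x hx y hy with h | h
    · left
      have : (⟨x, hPN hx⟩ * ⟨y, hPN hy⟩ * ⟨x, hPN hx⟩⁻¹ * ⟨y, hPN hy⟩⁻¹ : ↥N) = 1 := Subtype.ext h
      rw [this, map_one]
    · right
      have : (⟨x, hPN hx⟩ * ⟨y, hPN hy⟩ * ⟨x, hPN hx⟩⁻¹ * ⟨y, hPN hy⟩⁻¹ : ↥N) = ⟨z, hzN⟩ :=
        Subtype.ext h
      rw [this]
  · intro xb hxb
    obtain ⟨x, hx, rfl⟩ := (hmem _).mp hxb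
    rw [← map_mul]
    rcases sq x hx with h | h
    · left
      have : (⟨x, hPN hx⟩ * ⟨x, hPN hx⟩ : ↥N) = 1 := Subtype.ext h
      rw [this, map_one]
    · right
      have : (⟨x, hPN hx⟩ * ⟨x, hPN hx⟩ : ↥N) = ⟨z, hzN⟩ := Subtype.ext h
      rw [this]
  · intro yb hyb
    obtain ⟨y, hy, rfl⟩ := (hmem _).mp hyb
    rw [← map_mul, ← map_mul]
    have : (⟨y, hPN hy⟩ * ⟨z, hzN⟩ : ↥N) = ⟨z, hzN⟩ * ⟨y, hPN hy⟩ := Subtype.ext (zc y hy)
    rw [this]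
  · intro cb h
    obtain ⟨c, rfl⟩ := QuotientGroup.mk'_surjective (K.subgroupOf N) cb
    have h1 : ∀ y ∈ P, (c : G) * y * (c : G)⁻¹ * y⁻¹ ∈ K := by
      intro y hy
      exact hcomm c ⟨y, hPN hy⟩ (h _ ((hmem _).mpr ⟨y, hy, rfl⟩))
    rcases selfC c c.2 h1 with h2 | h2
    · left; exact (hπ1 c).mpr h2
    · right; exact ((hπeq ⟨z, hzN⟩ c).mpr h2).symm
  · intro cb hc yb hyb
    obtain ⟨c, rfl⟩ := QuotientGroup.mk'_surjective (K.subgroupOf N) cb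
    obtain ⟨y, hy, rfl⟩ := (hmem _).mp hyb
    have h1 := hcomm c ⟨z, hzN⟩ hc
    obtain ⟨y', hy', h2⟩ := norm c c.2 h1 y hy
    refine (hmem _).mpr ⟨y', hy', ?_⟩
    have e : π c * π ⟨y, hPN hy⟩ * (π c)⁻¹ = π (c * ⟨y, hPN hy⟩ * c⁻¹) := by
      rw [map_mul, map_mul, map_inv]
    rw [e, hπeq]
    exact h2

end Cfsg.Agent.Lead.LargeQuot
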