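import Mathlib
import Cfsg.Agent.Lead.LargeQuot
import Cfsg.Agent.Helper2.Layer3
import Cfsg.Agent.Helper3.LargeXT

/-!
Helper library (lead): the extraspecial generalized Fitting subgroup of an involution centralizer,
in the element-wise language of `LX`.
-/

set_option autoImplicit false

namespace Cfsg.Agent.Lead.LargeQuot

open Cfsg.Agent.Helper3.LargeX

theorem mem_zpowers_of_sq {G : Type*} [Group G] {t x : G} (ht : t * t = 1) :
    x ∈ Subgroup.zpowers t ↔ x = 1 ∨ x = t := by
  constructor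
  · rintro ⟨k, rfl⟩
    rcases Int.even_or_odd k with ⟨m, rfl⟩ | ⟨m, rfl⟩
    · left
      show t ^ (m + m) = 1
      rw [← two_mul, zpow_mul, zpow_two, ht, one_zpow]
    · right
      show t ^ (2 * m + 1) = t
      rw [zpow_add, zpow_mul, zpow_two, ht, one_zpow, one_mul, zpow_one]
  · rintro (h | h)
    · rw [h]; exact one_mem _
    · rw [h]; exact Subgroup.mem_zpowers t

theorem sq_of_orderOf_two {G : Type*} [Group G] {z : G} (hz : orderOf z = 2) :
    z ≠ 1 ∧ z * z = 1 := by
  constructor
  · intro h1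
    rw [h1, orderOf_one] at hz
    omega
  · have := pow_orderOf_eq_one z
    rw [hz, pow_two] at this
    exact this

/-- The generalized Fitting subgroup of the centralizer of `z`, viewed in `G`, is normalized by
the centralizer. -/
theorem fstar_conj_mem {G : Type*} [Group G] [Finite G] (z : G) (Q : Subgroup G)
    (hF : (Cfsg.generalizedFittingSubgroup ↥(Subgroup.centralizer ({z} : Set G))).map
      (Subgroup.centralizer ({z} : Set G)).subtype = Q)
    (c : G) (hc : c * z = z * c) (q : G) (hq : q ∈ Q) : c * q * c⁻¹ ∈ Q := by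
  rw [← hF] at hq ⊢
  obtain ⟨q', hq', rfl⟩ := hq
  have hcC : c ∈ Subgroup.centralizer ({z} : Set G) :=
    Subgroup.mem_centralizer_singleton_iff.mpr hc
  have hn : (Cfsg.generalizedFittingSubgroup ↥(Subgroup.centralizer ({z} : Set G))).Normal :=
    inferInstance
  have := hn.conj_mem q' hq' ⟨c, hcC⟩
  exact ⟨_, this, by simp⟩

/-- The centralizer of the generalized Fitting subgroup of the centralizer of `z` lies in it. -/
theorem fstar_selfC {G : Type*} [Group G] [Finite G] (z : G) (Q : Subgroup G)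
    (hF : (Cfsg.generalizedFittingSubgroup ↥(Subgroup.centralizer ({z} : Set G))).map
      (Subgroup.centralizer ({z} : Set G)).subtype = Q)
    (c : G) (hc : c * z = z * c) (hcQ : ∀ q ∈ Q, c * q = q * c) : c ∈ Q := by
  have hcC : c ∈ Subgroup.centralizer ({z} : Set G) :=
    Subgroup.mem_centralizer_singleton_iff.mpr hc
  have h1 : (⟨c, hcC⟩ : ↥(Subgroup.centralizer ({z} : Set G))) ∈
      Subgroup.centralizer (Cfsg.generalizedFittingSubgroup
        ↥(Subgroup.centralizer ({z} : Set G)) : Set ↥(Subgroup.centralizer ({z} : Set G))) := by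
    rw [Subgroup.mem_centralizer_iff]
    intro q hq
    apply Subtype.ext
    have hqQ : (q : G) ∈ Q := by rw [← hF]; exact ⟨q, hq, rfl⟩
    exact (hcQ q hqQ).symm
  have h2 := Cfsg.Agent.Helper2.centralizer_generalizedFittingSubgroup_le h1
  rw [← hF]
  exact ⟨_, h2, rfl⟩

/-- The element-wise data of the extraspecial subgroup `Q`. -/
theorem lx_of_fstar {G : Type*} [Group G] [Finite G] (z : G) (hz : orderOf z = 2)
    (Q : Subgroup G) (hQC : Q ≤ Subgroup.centralizer ({z} : Set G))
    (hF : (Cfsg.generalizedFittingSubgroup ↥(Subgroup.centralizer ({z} : Set G))).map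
      (Subgroup.centralizer ({z} : Set G)).subtype = Q)
    (hQ : Cfsg.IsExtraspecial 2 ↥Q) (hzQ : z ∈ Q)
    (hsC : Subgroup.centralizer (Q : Set G) ≤ Q) :
    LX Q z ∧ (∀ y, y ∈ (Subgroup.center ↥Q).map Q.subtype ↔ y = 1 ∨ y = z) ∧
      ∀ a ∈ Q, a * a = 1 ∨ a * a = z := by
  obtain ⟨hz1, hz2⟩ := sq_of_orderOf_two hz
  have hzc : ∀ q ∈ Q, q * z = z * q := fun q hq =>
    Subgroup.mem_centralizer_singleton_iff.mp (hQC hq)
  have hzZ : z ∈ (Subgroup.center ↥Q).map Q.subtype :=
    (mem_center_map_iff Q z).mpr ⟨hzQ, hzc⟩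
  have hL3 : Subgroup.centralizer (((Subgroup.center ↥Q).map Q.subtype : Subgroup G) : Set G)
      ≤ Subgroup.normalizer (Q : Set G) := by
    intro c hc
    rw [Subgroup.mem_centralizer_iff] at hc
    have hcz : c * z = z * c := (hc z hzZ).symm
    have hcz' : c⁻¹ * z = z * c⁻¹ := by
      calc c⁻¹ * z = c⁻¹ * (z * c) * c⁻¹ := by group
        _ = c⁻¹ * (c * z) * c⁻¹ := by rw [hcz]
        _ = z * c⁻¹ := by group
    rw [Subgroup.mem_normalizer_iff]
    intro y
    constructor
    · intro hy; exact fstar_conj_mem z Q hF c hcz y hy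
    · intro hy
      have := fstar_conj_mem z Q hF c⁻¹ hcz' _ hy
      have e : c⁻¹ * (c * y * c⁻¹) * c⁻¹⁻¹ = y := by group
      rwa [e] at this
  obtain ⟨z', hLX, hZ⟩ := lx_of_extraspecial Q hQ hsC hL3
  have hzz' : z = z' := ((hZ z).mp hzZ).resolve_left hz1
  subst hzz'
  exact ⟨hLX, hZ, sq_of_extraspecial Q hQ z hZ⟩

end Cfsg.Agent.Lead.LargeQuot
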