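import Cfsg.Agent.Lead.AschOmG

/-!
# S5802, the degree-three field at `q = 2` (lead), abstract part A

`F` a field with four elements, `K ⊇ F` a finite field with an involution `σ` extending the Frobenius map of `F`, `V` a
`K`-space with an `F`-hermitian form `h` balanced for `(K, σ)`.  We build the `K`-hermitian form `β` with
`h (k • u) v = θ (k * β u v)` for a functional `θ` with `θ (σ k) = θ k ^ 2`.
-/

set_option autoImplicit false
set_option linter.unusedSectionVars false
set_option linter.unusedVariables false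

namespace Cfsg.Agent.Lead.SU6Field

open Cfsg.Agent.Lead.FieldQuad

variable {F K V : Type*} [Field F] [Field K] [Algebra F K] [AddCommGroup V] [Module F V] [Module K V]
  [IsScalarTower F K V]

/-- the hypotheses on `(σ, h)` -/
structure Herm (σ : K → K) (h : V → V → F) : Prop where
  two : (2 : F) = 0
  pow4 : ∀ c : F, c ^ 4 = c
  σ_add : ∀ a b, σ (a + b) = σ a + σ b
  σ_mul : ∀ a b, σ (a * b) = σ a * σ b
  σ_σ : ∀ a, σ (σ a) = a
  σ_alg : ∀ c : F, σ (algebraMap F K c) = algebraMap F K (c ^ 2)
  add_left : ∀ u u' v, h (u + u') v = h u v + h u' v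
  smul_left : ∀ (c : F) u v, h (c • u) v = c * h u v
  symm : ∀ u v, h v u = h u v ^ 2
  bal : ∀ (k : K) u v, h (k • u) v = h u (σ k • v)
  nondeg : ∀ u, (∀ v, h u v = 0) → u = 0

namespace Herm

variable {σ : K → K} {h : V → V → F} (H : Herm σ h)
include H

theorem add_sq (a b : F) : (a + b) ^ 2 = a ^ 2 + b ^ 2 := by
  have : (a + b) ^ 2 = a ^ 2 + b ^ 2 + 2 * (a * b) := by ring
  rw [this, H.two, zero_mul, add_zero]

theorem add_self (a : F) : a + a = 0 := by
  have : a + a = 2 * a := by ring
  rw [this, H.two, zero_mul]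

theorem twoK : (2 : K) = 0 := two_eq_zero_of H.two

theorem add_selfK (a : K) : a + a = 0 := by
  have : a + a = 2 * a := by ring
  rw [this, H.twoK, zero_mul]

theorem σ_zero : σ 0 = 0 := by
  have := H.σ_add 0 0
  rw [add_zero] at this
  exact left_eq_add.mp this

theorem σ_one : σ 1 = 1 := by
  have := H.σ_alg 1
  rwa [map_one, one_pow, map_one] at this

theorem σ_inj {a b : K} (hab : σ a = σ b) : a = b := by
  rw [← H.σ_σ a, ← H.σ_σ b, hab]

theorem σ_smul (c : F) (k : K) : σ (c • k) = (c ^ 2) • σ k := by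
  rw [Algebra.smul_def, H.σ_mul, H.σ_alg, Algebra.smul_def]

theorem add_right (u v v' : V) : h u (v + v') = h u v + h u v' := by
  rw [H.symm (v + v') u, H.add_left, H.add_sq, ← H.symm, ← H.symm]

theorem smul_right (c : F) (u v : V) : h u (c • v) = c ^ 2 * h u v := by
  rw [H.symm (c • v) u, H.smul_left, mul_pow, ← H.symm]

theorem zero_left (v : V) : h 0 v = 0 := by
  have := H.add_left 0 0 v
  rw [add_zero] at this
  exact left_eq_add.mp this

theorem zero_right (v : V) : h v 0 = 0 := by
  rw [H.symm 0 v, H.zero_left, zero_pow two_ne_zero]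

/-- the functional `k ↦ h (k • x) x` -/
noncomputable def T (x : V) : K →ₗ[F] F where
  toFun k := h (k • x) x
  map_add' k k' := by rw [add_smul, H.add_left]
  map_smul' c k := by rw [smul_assoc, H.smul_left]; rfl

theorem T_apply (x : V) (k : K) : H.T x k = h (k • x) x := rfl

theorem T_σ (x : V) (k : K) : H.T x (σ k) = (H.T x k) ^ 2 := by
  rw [T_apply, T_apply, H.bal, H.σ_σ, H.symm (k • x) x]

/-- some vector is not `K`-isotropic -/
theorem exists_T_ne_zero [Nontrivial V] (ω : F) (hω : ω ^ 2 + ω + 1 = 0) : ∃ x : V, H.T x ≠ 0 := by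
  by_contra hcon
  push Not at hcon
  have h0 : ∀ (k : K) (x : V), h (k • x) x = 0 := fun k x => by
    have := LinearMap.congr_fun (hcon x) k
    exact this
  -- polarise
  have h1 : ∀ (k : K) (x y : V), h (k • x) y = h (k • y) x := by
    intro k x y
    have e := h0 k (x + y)
    rw [smul_add, H.add_left, H.add_right, H.add_right, h0, h0, zero_add, add_zero] at e
    have e2 := H.add_self (h (k • y) x)
    rw [← e2] at e
    exact add_right_cancel e
  have h2 : ∀ x y : V, h x y = h x y ^ 2 := by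
    intro x y
    have := h1 1 x y
    rw [one_smul, one_smul] at this
    rw [← H.symm]
    exact this
  have h3 : ∀ x y : V, h x y = 0 := by
    intro x y
    have e1 := h2 x y
    have e2 := h2 (ω • x) y
    rw [H.smul_left, mul_pow, ← e1] at e2
    -- ω * a = ω^2 * a
    have hω1 : ω ≠ 0 := by
      intro h0'
      rw [h0'] at hω
      simp at hω
    have hne : ω ^ 2 ≠ ω := by
      intro he
      rw [he] at hω
      have : ω + ω = 0 := H.add_self ω
      rw [this, zero_add] at hω
      exact one_ne_zero hω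
    by_contra hxy
    apply hne
    have := mul_right_cancel₀ hxy e2
    exact this.symm
  obtain ⟨x, hx⟩ := exists_ne (0 : V)
  exact hx (H.nondeg x (h3 x))

/-- the `K`-valued form: data `θ`, `β` with the characterising property -/
theorem exists_beta [FiniteDimensional F K] {θ : K →ₗ[F] F} (hθ : θ ≠ 0) (u v : V) :
    ∃ c : K, ∀ k : K, h (k • u) v = θ (k * c) := by
  let φ : K →ₗ[F] F :=
    { toFun := fun k => h (k • u) v
      map_add' := fun k k' => by rw [add_smul, H.add_left]
      map_smul' := fun a k => by rw [smul_assoc, H.smul_left]; rfl }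
  exact exists_dual_elt hθ φ

end Herm

/-- a `K`-hermitian form computing `h` -/
structure KForm (σ : K → K) (h : V → V → F) (θ : K →ₗ[F] F) (β : V → V → K) : Prop where
  θ_ne : θ ≠ 0
  θ_σ : ∀ k, θ (σ k) = θ k ^ 2
  spec : ∀ (k : K) (u v : V), h (k • u) v = θ (k * β u v)

namespace KForm

variable {σ : K → K} {h : V → V → F} {θ : K →ₗ[F] F} {β : V → V → K} (H : Herm σ h) (B : KForm σ h θ β)
include H B

theorem h_eq (u v : V) : h u v = θ (β u v) := by
  have := B.spec 1 u v
  rwa [one_smul, one_mul] at this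

theorem add_left (u u' v : V) : β (u + u') v = β u v + β u' v := by
  apply eq_of_forall_theta B.θ_ne
  intro l
  rw [← B.spec, smul_add, H.add_left, B.spec, B.spec, mul_add, map_add]

theorem smul_left (k : K) (u v : V) : β (k • u) v = k * β u v := by
  apply eq_of_forall_theta B.θ_ne
  intro l
  rw [← B.spec, ← mul_smul, B.spec, mul_assoc]

theorem symm (u v : V) : β v u = σ (β u v) := by
  apply eq_of_forall_theta B.θ_ne
  intro l
  have e : h u (l • v) = h (σ l • u) v := by rw [H.bal, H.σ_σ]
  rw [← B.spec, H.symm, e, B.spec, ← B.θ_σ, H.σ_mul, H.σ_σ]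

theorem add_right (u v v' : V) : β u (v + v') = β u v + β u v' := by
  rw [B.symm H (v + v') u, B.add_left H, H.σ_add, ← B.symm H, ← B.symm H]

theorem smul_right (k : K) (u v : V) : β u (k • v) = σ k * β u v := by
  rw [B.symm H (k • v) u, B.smul_left H, H.σ_mul, ← B.symm H]

theorem zero_left (v : V) : β 0 v = 0 := by
  have := B.add_left H 0 0 v
  rw [add_zero] at this
  exact left_eq_add.mp this

theorem zero_right (v : V) : β v 0 = 0 := by
  rw [B.symm H 0 v, B.zero_left H, H.σ_zero]

theorem nondeg (u : V) (hu : ∀ v, β u v = 0) : u = 0 := by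
  apply H.nondeg
  intro v
  rw [B.h_eq H, hu, map_zero]

theorem self_fixed (u : V) : σ (β u u) = β u u := (B.symm H u u).symm

end KForm

namespace KForm

variable {σ : K → K} {h : V → V → F} {θ : K →ₗ[F] F} {β : V → V → K} (H : Herm σ h) (B : KForm σ h θ β)
include H B

theorem comb (a b c d : K) (x y : V) :
    β (a • x + b • y) (c • x + d • y) =
      a * σ c * β x x + a * σ d * β x y + b * σ c * β y x + b * σ d * β y y := by
  rw [B.add_left H, B.add_right H, B.add_right H, B.smul_left H, B.smul_left H, B.smul_left H, B.smul_left H,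
    B.smul_right H, B.smul_right H, B.smul_right H, B.smul_right H]
  ring

theorem σ_inv {e : K} (he : σ e = e) : σ e⁻¹ = e⁻¹ := by
  by_cases h0 : e = 0
  · rw [h0, inv_zero, H.σ_zero]
  · have h1 : σ e⁻¹ * σ e = 1 := by rw [← H.σ_mul, inv_mul_cancel₀ h0, H.σ_one]
    rw [he] at h1
    exact eq_inv_of_mul_eq_one_left h1

theorem sq_inj {x y : K} (hxy : x * x = y * y) : x = y := by
  have e : (x - y) * (x - y) = x * x + y * y - 2 * (x * y) := by ring
  have e2 : y * y + y * y = 2 * (y * y) := by ring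
  rw [hxy, e2, H.twoK, zero_mul, zero_mul, sub_zero] at e
  exact sub_eq_zero.mp (mul_self_eq_zero.mp e)

/-- a hyperbolic pair with the coordinate formula -/
theorem exists_hyperbolic [Finite K] (hd : Module.finrank K V = 2) (ω : F) (hω : ω ^ 2 + ω + 1 = 0)
    (x₁ : V) (hx₁ : β x₁ x₁ = 1) :
    ∃ v₁ v₂ : V, β v₁ v₁ = 0 ∧ β v₂ v₂ = 0 ∧ β v₁ v₂ = 1 ∧ ∀ v, v = β v v₂ • v₁ + β v v₁ • v₂ := by
  have hx0 : x₁ ≠ 0 := by
    intro h0
    rw [h0, B.zero_left H] at hx₁
    exact zero_ne_one hx₁
  -- a vector outside the line of x₁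
  have hne : (Submodule.span K {x₁}) ≠ ⊤ := by
    intro htop
    have h1 := finrank_span_singleton (K := K) hx0
    rw [htop, finrank_top, hd] at h1
    omega
  obtain ⟨y, hy⟩ : ∃ y, y ∉ Submodule.span K {x₁} := by
    by_contra hc
    push Not at hc
    exact hne (Submodule.eq_top_iff'.mpr hc)
  set y' : V := y - β y x₁ • x₁ with hy'
  have hy'x : β y' x₁ = 0 := by
    rw [hy', sub_eq_add_neg, B.add_left H, ← neg_smul, B.smul_left H, hx₁]
    ring
  have hxy' : β x₁ y' = 0 := by rw [B.symm H y' x₁, hy'x, H.σ_zero]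
  have hy'n : y' ∉ Submodule.span K {x₁} := by
    intro hmem
    apply hy
    have : y = y' + β y x₁ • x₁ := by rw [hy']; abel
    rw [this]
    exact Submodule.add_mem _ hmem (Submodule.smul_mem _ _ (Submodule.mem_span_singleton_self x₁))
  -- x₁, y' span
  have hli : LinearIndependent K ![x₁, y'] := by
    rw [LinearIndependent.pair_iff]
    intro a b hab
    have hb : b = 0 := by
      by_contra hb
      apply hy'n
      have : y' = (-(b⁻¹ * a)) • x₁ := by
        have h1 : b • y' = -(a • x₁) := eq_neg_of_add_eq_zero_right hab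
        have h2 : y' = b⁻¹ • (b • y') := by rw [smul_smul, inv_mul_cancel₀ hb, one_smul]
        rw [h2, h1, smul_neg, smul_smul, neg_smul]
      rw [this]
      exact Submodule.smul_mem _ _ (Submodule.mem_span_singleton_self x₁)
    rw [hb, zero_smul, add_zero] at hab
    rcases smul_eq_zero.mp hab with h | h
    · exact ⟨h, hb⟩
    · exact absurd h hx0
  haveI : FiniteDimensional K V := Module.finite_of_finrank_pos (by rw [hd]; norm_num)
  have hspan : Submodule.span K (Set.range ![x₁, y']) = ⊤ :=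
    hli.span_eq_top_of_card_eq_finrank' (by rw [Fintype.card_fin, hd])
  have hrep : ∀ v : V, ∃ a b : K, v = a • x₁ + b • y' := by
    intro v
    have hv : v ∈ Submodule.span K (Set.range ![x₁, y']) := by rw [hspan]; trivial
    rw [Matrix.range_cons, Matrix.range_cons, Matrix.range_empty, Set.union_empty, Set.union_comm,
      ← Set.insert_eq, Set.pair_comm] at hv
    obtain ⟨a, b, hab⟩ := Submodule.mem_span_pair.mp hv
    exact ⟨a, b, hab.symm⟩
  set e : K := β y' y' with he
  have heσ : σ e = e := B.self_fixed H y'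
  have he0 : e ≠ 0 := by
    intro h0
    apply hy'n
    have : y' = 0 := by
      apply B.nondeg H
      intro v
      obtain ⟨a, b, rfl⟩ := hrep v
      rw [B.add_right H, B.smul_right H, B.smul_right H, hy'x, ← he, h0]
      ring
    rw [this]
    exact Submodule.zero_mem _
  obtain ⟨s, hs⟩ := exists_sqrt_of_two_eq_zero H.twoK e⁻¹
  have hsσ : σ s = s := by
    apply B.sq_inj H
    rw [← H.σ_mul, hs, B.σ_inv H heσ]
  have hsse : s * s * e = 1 := by rw [hs, inv_mul_cancel₀ he0]
  have hs0 : s ≠ 0 := by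
    intro h0
    rw [h0, zero_mul, zero_mul] at hsse
    exact zero_ne_one hsse
  set w : K := algebraMap F K ω with hw
  have hw2 : w ^ 2 + w + 1 = 0 := by
    rw [hw, ← map_pow, ← map_add, ← map_one (algebraMap F K), ← map_add, hω, map_zero]
  have hwσ : σ w = w ^ 2 := by rw [hw, H.σ_alg, map_pow]
  have hw3 : w ^ 3 = 1 := by
    have : w ^ 3 - 1 = (w - 1) * (w ^ 2 + w + 1) := by ring
    rw [hw2, mul_zero] at this
    exact sub_eq_zero.mp this
  have hww : w ^ 2 + w = 1 := by
    have h1 : w ^ 2 + w = -1 := eq_neg_of_add_eq_zero_left hw2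
    have h2 : (-1 : K) = 1 := by
      have := H.add_selfK 1
      exact neg_eq_of_add_eq_zero_left this
    rw [h1, h2]
  have hw2σ : σ (w ^ 2) = w := by
    rw [pow_two, H.σ_mul, hwσ, ← pow_two, ← pow_mul]
    have : w ^ (2 * 2) = w ^ 3 * w := by ring
    rw [this, hw3, one_mul]
  have key : ∀ a b c d : K, β (a • x₁ + b • y') (c • x₁ + d • y') = a * σ c + b * σ d * e := by
    intro a b c d
    rw [B.comb H, hx₁, hxy', hy'x, ← he]
    ring
  have h1s : σ (1 : K) = 1 := H.σ_one
  refine ⟨x₁ + s • y', w • x₁ + (w ^ 2 * s) • y', ?_, ?_, ?_, ?_⟩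
  · have := key 1 s 1 s
    rw [one_smul] at this
    rw [this, h1s, hsσ, mul_one, hsse]
    exact H.add_selfK 1
  · rw [key, hwσ, H.σ_mul, hw2σ, hsσ]
    have : w * w ^ 2 + w ^ 2 * s * (w * s) * e = w ^ 3 + w ^ 3 * (s * s * e) := by ring
    rw [this, hw3, hsse, one_mul]
    exact H.add_selfK 1
  · have := key 1 s w (w ^ 2 * s)
    rw [one_smul] at this
    rw [this, hwσ, H.σ_mul, hw2σ, hsσ]
    have : 1 * w ^ 2 + s * (w * s) * e = w ^ 2 + w * (s * s * e) := by ring
    rw [this, hsse, mul_one, hww]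
  · intro v
    set v₁ : V := x₁ + s • y' with hv₁
    set v₂ : V := w • x₁ + (w ^ 2 * s) • y' with hv₂
    have b11 : β v₁ v₁ = 0 := by
      have := key 1 s 1 s
      rw [one_smul] at this
      rw [hv₁, this, h1s, hsσ, mul_one, hsse]
      exact H.add_selfK 1
    have b22 : β v₂ v₂ = 0 := by
      rw [hv₂, key, hwσ, H.σ_mul, hw2σ, hsσ]
      have : w * w ^ 2 + w ^ 2 * s * (w * s) * e = w ^ 3 + w ^ 3 * (s * s * e) := by ring
      rw [this, hw3, hsse, one_mul]
      exact H.add_selfK 1
    have b12 : β v₁ v₂ = 1 := by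
      have := key 1 s w (w ^ 2 * s)
      rw [one_smul] at this
      rw [hv₁, hv₂, this, hwσ, H.σ_mul, hw2σ, hsσ]
      have : 1 * w ^ 2 + s * (w * s) * e = w ^ 2 + w * (s * s * e) := by ring
      rw [this, hsse, mul_one, hww]
    have b21 : β v₂ v₁ = 1 := by rw [B.symm H v₁ v₂, b12, h1s]
    set d : V := v - (β v v₂ • v₁ + β v v₁ • v₂) with hd'
    have d1 : β d v₁ = 0 := by
      rw [hd', sub_eq_add_neg, B.add_left H, ← neg_one_smul K (β v v₂ • v₁ + β v v₁ • v₂), B.smul_left H,
        B.add_left H, B.smul_left H, B.smul_left H, b11, b21]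
      ring
    have d2 : β d v₂ = 0 := by
      rw [hd', sub_eq_add_neg, B.add_left H, ← neg_one_smul K (β v v₂ • v₁ + β v v₁ • v₂), B.smul_left H,
        B.add_left H, B.smul_left H, B.smul_left H, b12, b22]
      ring
    have ex : x₁ = w ^ 2 • v₁ + v₂ := by
      rw [hv₁, hv₂, smul_add, smul_smul]
      have : w ^ 2 • x₁ + (w ^ 2 * s) • y' + (w • x₁ + (w ^ 2 * s) • y')
          = (w ^ 2 + w) • x₁ + ((w ^ 2 * s) + (w ^ 2 * s)) • y' := by
        rw [add_smul, add_smul]; abel
      rw [this, hww, one_smul, H.add_selfK, zero_smul, add_zero]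
    have ey : s • y' = w • v₁ + v₂ := by
      rw [hv₁, hv₂, smul_add, smul_smul]
      have : w • x₁ + (w * s) • y' + (w • x₁ + (w ^ 2 * s) • y')
          = (w + w) • x₁ + ((w ^ 2 + w) * s) • y' := by
        rw [add_smul, add_mul, add_smul]; abel
      rw [this, hww, one_mul, H.add_selfK, zero_smul, zero_add]
    have dx : β d x₁ = 0 := by
      rw [ex, B.add_right H, B.smul_right H, d1, d2]
      ring
    have dy : β d y' = 0 := by
      have : y' = s⁻¹ • (w • v₁ + v₂) := by rw [← ey, smul_smul, inv_mul_cancel₀ hs0, one_smul]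
      rw [this, B.smul_right H, B.add_right H, B.smul_right H, d1, d2]
      ring
    have d0 : d = 0 := by
      apply B.nondeg H
      intro u
      obtain ⟨a, b, rfl⟩ := hrep u
      rw [B.add_right H, B.smul_right H, B.smul_right H, dx, dy]
      ring
    rw [hd'] at d0
    exact sub_eq_zero.mp d0

end KForm

namespace Herm

variable {σ : K → K} {h : V → V → F} (H : Herm σ h)
include H

theorem exists_kform [FiniteDimensional F K] [Nontrivial V] (ω : F) (hω : ω ^ 2 + ω + 1 = 0) :
    ∃ (θ : K →ₗ[F] F) (β : V → V → K) (x₁ : V), KForm σ h θ β ∧ β x₁ x₁ = 1 := by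
  obtain ⟨x₁, hx₁⟩ := H.exists_T_ne_zero ω hω
  choose β hβ using fun u v => H.exists_beta hx₁ u v
  have hB : KForm σ h (H.T x₁) β := ⟨hx₁, fun k => H.T_σ x₁ k, fun k u v => hβ u v k⟩
  refine ⟨H.T x₁, β, x₁, hB, ?_⟩
  apply eq_of_forall_theta hx₁
  intro l
  rw [← hβ, mul_one]
  rfl

end Herm

end Cfsg.Agent.Lead.SU6Field
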