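import Mathlib
import Cfsg.Agent.Lead.FusionNormalCrit
import Cfsg.Agent.S5076
import Cfsg.Prelude.Def_LocalEven

set_option autoImplicit false

namespace Cfsg.Agent.Lead

open Cfsg Cfsg.FusionSystem

/-- The automorphisms of `P` stabilizing the series `1 ≤ N ≤ P` (trivial on `N` and on `P / N`). -/
def seriesStab {P : Type*} [Group P] (N : Subgroup P) : Subgroup (MulAut P) where
  carrier := {α | (∀ y : P, α y * y⁻¹ ∈ N) ∧ ∀ y ∈ N, α y = y}
  one_mem' := ⟨fun y => by simp [N.one_mem], fun y _ => rfl⟩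
  mul_mem' := by
    rintro α β ⟨hα1, hα2⟩ ⟨hβ1, hβ2⟩
    refine ⟨fun y => ?_, fun y hy => ?_⟩
    · have h1 := hα1 (β y)
      have h2 := hβ1 y
      have : (α * β) y * y⁻¹ = (α (β y) * (β y)⁻¹) * (β y * y⁻¹) := by
        rw [MulAut.mul_apply]; group
      rw [this]
      exact N.mul_mem h1 h2
    · rw [MulAut.mul_apply, hβ2 y hy, hα2 y hy]
  inv_mem' := by
    rintro α ⟨hα1, hα2⟩
    refine ⟨fun y => ?_, fun y hy => ?_⟩
    · have h1 := hα1 (α⁻¹ y)
      rw [MulAut.apply_inv_self] at h1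
      have : α⁻¹ y * y⁻¹ = (y * (α⁻¹ y)⁻¹)⁻¹ := by group
      rw [this]
      exact N.inv_mem h1
    · have := hα2 y hy
      calc α⁻¹ y = α⁻¹ (α y) := by rw [this]
        _ = y := MulAut.inv_apply_self _ _ _

theorem mem_seriesStab {P : Type*} [Group P] (N : Subgroup P) (α : MulAut P) :
    α ∈ seriesStab N ↔ (∀ y : P, α y * y⁻¹ ∈ N) ∧ ∀ y ∈ N, α y = y := Iff.rfl

theorem seriesStab_pow_apply {P : Type*} [Group P] (N : Subgroup P) (α : MulAut P)
    (hα : α ∈ seriesStab N) (y : P) (k : ℕ) : (α ^ k) y = (α y * y⁻¹) ^ k * y := by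
  induction k with
  | zero => simp
  | succ k ih =>
    have hn : α (α y * y⁻¹) = α y * y⁻¹ := hα.2 _ (hα.1 y)
    rw [pow_succ', MulAut.mul_apply, ih, map_mul, map_pow, hn, pow_succ]
    group

theorem seriesStab_pow_card {P : Type*} [Group P] (N : Subgroup P) [Finite N] (α : MulAut P)
    (hα : α ∈ seriesStab N) : α ^ Nat.card N = 1 := by
  ext y
  rw [seriesStab_pow_apply N α hα]
  have h1 : (⟨α y * y⁻¹, hα.1 y⟩ : N) ^ Nat.card N = 1 := pow_card_eq_one'
  have h2 : (α y * y⁻¹) ^ Nat.card N = 1 := by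
    have := congrArg (fun z : N => (z : P)) h1
    simp only [Subgroup.coe_pow, Subgroup.coe_one] at this
    exact this
  rw [h2, one_mul]
  rfl

theorem isPGroup_seriesStab {P : Type*} [Group P] (p : ℕ) [Fact p.Prime] (N : Subgroup P)
    [Finite N] (hN : IsPGroup p N) : IsPGroup p (seriesStab N) := by
  obtain ⟨m, hm⟩ := IsPGroup.iff_card.mp hN
  intro α
  refine ⟨m, ?_⟩
  apply Subtype.ext
  rw [Subgroup.coe_pow, ← hm]
  exact seriesStab_pow_card N α.1 α.2

theorem seriesStab_conj_mem {P : Type*} [Group P] (N : Subgroup P) (β : MulAut P)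
    (hβ : ∀ y ∈ N, β y ∈ N) (hβ' : ∀ y ∈ N, β⁻¹ y ∈ N) (α : MulAut P) (hα : α ∈ seriesStab N) :
    β * α * β⁻¹ ∈ seriesStab N := by
  refine ⟨fun y => ?_, fun y hy => ?_⟩
  · have h1 := hβ _ (hα.1 (β⁻¹ y))
    have : (β * α * β⁻¹) y * y⁻¹ = β (α (β⁻¹ y) * (β⁻¹ y)⁻¹) := by
      rw [map_mul, map_inv, MulAut.apply_inv_self]
      rfl
    rw [this]
    exact h1
  · have h1 := hα.2 _ (hβ' y hy)
    show β (α (β⁻¹ y)) = y
    rw [h1, MulAut.apply_inv_self]

variable {Ω : Type*} [Group Ω] {S : Subgroup Ω}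

/-- An abelian strongly closed subgroup lies in every centric radical subgroup. -/
theorem Fusion.le_of_abelian_stronglyClosed [Finite S] (p : ℕ) [Fact p.Prime] (hS : IsPGroup p S)
    (F : FusionSystem S) {A P : Subgroup Ω} (hA : F.StronglyClosed A)
    (hab : ∀ x ∈ A, ∀ y ∈ A, x * y = y * x) (hc : F.IsCentric P) (hr : F.IsRadical p P) :
    A ≤ P := by
  have hPS := hc.1
  have hAS := hA.1
  have hAnorm : ∀ s ∈ S, ∀ a ∈ A, s * a * s⁻¹ ∈ A := fun s hs a ha =>
    hA.2 A le_rfl (conjHom A s) (F.conj_mem hAS hs) ⟨a, ha⟩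
  have hPAS : P ⊔ A ≤ S := sup_le hPS hAS
  have : Finite ↥(P ⊔ A) := Fusion.finite_of_le hPAS
  have : Finite P := Fusion.finite_of_le hPS
  have : Finite A := Fusion.finite_of_le hAS
  by_contra hAP
  have hne : P ≠ P ⊔ A := by
    intro h
    apply hAP
    rw [h]
    exact le_sup_right
  obtain ⟨g, hgT, hgP⟩ := Fusion.exists_mem_normalizerIn_not_mem (S := P ⊔ A) (hS.to_le hPAS)
    le_sup_left hne
  have hPnA : P ≤ Subgroup.normalizer (A : Set Ω) := by
    intro y hy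
    exact mem_normalizer_of_conj_mem_of_finite A y (hAnorm y (hPS hy))
  have hcoe := Subgroup.coe_mul_of_left_le_normalizer_right P A hPnA
  have hg1 : g ∈ ((P ⊔ A : Subgroup Ω) : Set Ω) := (Subgroup.mem_inf.mp hgT).1
  rw [hcoe] at hg1
  obtain ⟨y, hy, a, ha, rfl⟩ := Set.mem_mul.mp hg1
  have hgN : y * a ∈ Subgroup.normalizer (P : Set Ω) := (Subgroup.mem_inf.mp hgT).2
  have hyN : y ∈ Subgroup.normalizer (P : Set Ω) := Subgroup.le_normalizer hy
  have haN : a ∈ Subgroup.normalizer (P : Set Ω) := by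
    have : a = y⁻¹ * (y * a) := by group
    rw [this]
    exact Subgroup.mul_mem _ (Subgroup.inv_mem _ hyN) hgN
  apply hgP
  apply P.mul_mem hy
  -- `c_a` stabilizes the series `1 ≤ A ∩ P ≤ P`
  set N : Subgroup P := A.subgroupOf P with hN
  have hNp : IsPGroup p N := (hS.to_le hAS).comap_subtype
  have hVp : IsPGroup p (seriesStab N) := isPGroup_seriesStab p N hNp
  have hca : conjAutHom P ⟨a, haN⟩ ∈ seriesStab N := by
    refine ⟨fun z => ?_, fun z hz => ?_⟩
    · rw [hN, Subgroup.mem_subgroupOf]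
      show a * (z : Ω) * a⁻¹ * (z : Ω)⁻¹ ∈ A
      have h1 := hAnorm z (hPS z.2) a⁻¹ (A.inv_mem ha)
      have : a * (z : Ω) * a⁻¹ * (z : Ω)⁻¹ = a * ((z : Ω) * a⁻¹ * (z : Ω)⁻¹) := by group
      rw [this]
      exact A.mul_mem ha h1
    · rw [hN, Subgroup.mem_subgroupOf] at hz
      apply Subtype.ext
      show a * (z : Ω) * a⁻¹ = z
      rw [hab a ha z hz, mul_inv_cancel_right]
  have hcaF : conjAutHom P ⟨a, haN⟩ ∈ F.autGroup P :=
    Fusion.autInducedBy_le_autGroup F hPS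
      (Subgroup.subset_closure ⟨a, hAS ha, fun _ => rfl⟩)
  -- invariance of `A ∩ P` under `Aut_F(P)`
  have hinv : ∀ β ∈ F.autGroup P, ∀ z ∈ N, β z ∈ N := by
    intro β hβ z hz
    rw [hN, Subgroup.mem_subgroupOf] at hz ⊢
    have hφ := (Fusion.mem_autGroup_iff F hPS β).mp hβ
    have hφQ := Fusion.restrict_mem F hφ (inf_le_right : A ⊓ P ≤ P)
    exact hA.2 (A ⊓ P) inf_le_left _ hφQ ⟨z.1, Subgroup.mem_inf.mpr ⟨hz, z.2⟩⟩
  have hVnormal : ((seriesStab N).subgroupOf (F.autGroup P)).Normal := by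
    constructor
    intro n hn b
    rw [Subgroup.mem_subgroupOf] at hn ⊢
    exact seriesStab_conj_mem N b.1 (hinv b.1 b.2) (hinv b.1⁻¹ ((F.autGroup P).inv_mem b.2)) n.1 hn
  have hVle : (seriesStab N).subgroupOf (F.autGroup P) ≤ pCore p (F.autGroup P) :=
    le_sSup ⟨hVnormal, hVp.comap_subtype⟩
  have hcgInn : conjAutHom P ⟨a, haN⟩ ∈ Inn P := by
    rw [← hr.2]
    exact ⟨⟨_, hcaF⟩, hVle (Subgroup.mem_subgroupOf.mpr hca), rfl⟩
  exact Fusion.mem_of_conjAutHom_mem_inn F hc a (hAS ha) haN hcgInn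

/-- An abelian strongly closed subgroup of a saturated fusion system is normal in it. -/
theorem Fusion.isNormal_of_abelian_stronglyClosed [Finite S] (p : ℕ) [Fact p.Prime]
    (hS : IsPGroup p S) (F : FusionSystem S) (hF : F.IsSaturated p) {A : Subgroup Ω}
    (hA : F.StronglyClosed A) (hab : ∀ x ∈ A, ∀ y ∈ A, x * y = y * x) : F.IsNormal A :=
  (Fusion.isNormal_iff_stronglyClosed p hS F hF A).mpr
    ⟨hA, fun _ hc hr => Fusion.le_of_abelian_stronglyClosed p hS F hA hab hc hr⟩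

/-- Group version: the normalizer of an abelian strongly closed subgroup controls strong fusion. -/
theorem controlsStrongFusion_of_abelian_stronglyClosed {G : Type*} [Group G] [Finite G] {p : ℕ}
    [Fact p.Prime] (S : Sylow p G) (A : Subgroup G) (hA : IsMulCommutative ↥A)
    (hsc : Cfsg.IsStronglyClosed A (S : Subgroup G)) : Cfsg.ControlsStrongFusion p A := by
  have hF : (groupFusionSystem (S : Subgroup G)).IsSaturated p := Cfsg.Agent.S5076.result p S
  have hab : ∀ x ∈ A, ∀ y ∈ A, x * y = y * x := by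
    intro x hx y hy
    have := hA.is_comm.comm (⟨x, hx⟩ : A) ⟨y, hy⟩
    exact congrArg Subtype.val this
  have hAsc : (groupFusionSystem (S : Subgroup G)).StronglyClosed A := by
    refine ⟨hsc.1, fun R hRA φ hφ x => ?_⟩
    obtain ⟨-, hφS, g, hg⟩ := hφ
    have h1 := hφS x
    rw [hg] at h1 ⊢
    exact hsc.2 x (hRA x.2) g h1
  have hN := Fusion.isNormal_of_abelian_stronglyClosed p S.isPGroup'
    (groupFusionSystem (S : Subgroup G)) hF hAsc hab
  refine ⟨S, hsc.1, fun B hB => ⟨hB, fun g hg => ?_⟩⟩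
  have hPS : Subgroup.closure B ≤ (S : Subgroup G) := (Subgroup.closure_le _).mpr hB
  have hconj : ∀ x ∈ Subgroup.closure B, g * x * g⁻¹ ∈ (S : Subgroup G) := by
    have : Subgroup.closure B ≤ (S : Subgroup G).comap (MulAut.conj g).toMonoidHom := by
      rw [Subgroup.closure_le]
      intro b hb
      exact hg ⟨b, hb, rfl⟩
    intro x hx
    exact this hx
  have hφ : conjHom (Subgroup.closure B) g ∈
      (groupFusionSystem (S : Subgroup G)).Hom (Subgroup.closure B) :=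
    ⟨hPS, fun x => hconj x.1 x.2, g, fun _ => rfl⟩
  obtain ⟨ψ, hψ, hψP, hψA⟩ := hN.2 _ _ hφ
  obtain ⟨-, -, x, hx⟩ := hψ
  refine ⟨x, ?_, fun b hb => ?_⟩
  · apply mem_normalizer_of_conj_mem_of_finite
    intro a ha
    have h1 : ψ ⟨a, (le_sup_right : A ≤ Subgroup.closure B ⊔ A) ha⟩ ∈
        Subgroup.map ψ (A.subgroupOf (Subgroup.closure B ⊔ A)) := by
      refine ⟨_, ?_, rfl⟩
      rw [SetLike.mem_coe, Subgroup.mem_subgroupOf]
      exact ha
    rw [hψA, hx] at h1
    exact h1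
  · have h1 := hψP ⟨b, Subgroup.subset_closure hb⟩
    rw [hx] at h1
    exact h1.symm

end Cfsg.Agent.Lead
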