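import Mathlib
import Cfsg.Agent.Helper8.AutSLnC

set_option autoImplicit false

/-! The unitriangular subgroup of `SL_{n+3}(F)` is generated by the positive root elements. -/

namespace Cfsg.Agent.Lead.PSLnFus

open Matrix Cfsg Cfsg.Agent.Helper8.SLTrans Cfsg.Agent.Helper8.SLRoot Cfsg.Agent.Helper8.AutSLn

variable {F : Type*} [Field F] {n : ℕ}

/-- the root element `1 + c E_{ij}` -/
noncomputable def xr (i j : Fin (n + 3)) (h : j ≠ i) (c : F) : SpecialLinearGroup (Fin (n + 3)) F :=
  TVc (eb F n i) (eb F n j) (eb_dot_ne h) c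

theorem xr_apply (i j : Fin (n + 3)) (h : j ≠ i) (c : F) (a b : Fin (n + 3)) :
    ((xr i j h c : SpecialLinearGroup (Fin (n + 3)) F) : Matrix (Fin (n + 3)) (Fin (n + 3)) F) a b =
      (1 : Matrix (Fin (n + 3)) (Fin (n + 3)) F) a b +
        c * (if a = i then 1 else 0) * (if b = j then 1 else 0) := by
  unfold xr
  rw [TVc_apply, eb_apply, eb_apply]

theorem xr_mul_apply (i j : Fin (n + 3)) (h : j ≠ i) (c : F)
    (u : SpecialLinearGroup (Fin (n + 3)) F) (a b : Fin (n + 3)) :
    ((xr i j h c * u : SpecialLinearGroup (Fin (n + 3)) F) :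
      Matrix (Fin (n + 3)) (Fin (n + 3)) F) a b =
      (u : Matrix (Fin (n + 3)) (Fin (n + 3)) F) a b +
        c * (if a = i then 1 else 0) * (u : Matrix (Fin (n + 3)) (Fin (n + 3)) F) j b := by
  rw [← mulVec_eb ((xr i j h c * u : SpecialLinearGroup (Fin (n + 3)) F) :
    Matrix (Fin (n + 3)) (Fin (n + 3)) F) b a, coe_mul_mulVec]
  unfold xr
  rw [TVc_mulVec, Pi.add_apply, Pi.smul_apply, eb_dot_left, mulVec_eb, mulVec_eb, eb_apply,
    smul_eq_mul]
  ring

theorem mul_xr_apply (i j : Fin (n + 3)) (h : j ≠ i) (c : F)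
    (u : SpecialLinearGroup (Fin (n + 3)) F) (a b : Fin (n + 3)) :
    ((u * xr i j h c : SpecialLinearGroup (Fin (n + 3)) F) :
      Matrix (Fin (n + 3)) (Fin (n + 3)) F) a b =
      (u : Matrix (Fin (n + 3)) (Fin (n + 3)) F) a b +
        c * (u : Matrix (Fin (n + 3)) (Fin (n + 3)) F) a i * (if b = j then 1 else 0) := by
  rw [Matrix.SpecialLinearGroup.coe_mul, Matrix.mul_apply]
  simp only [xr_apply]
  simp only [mul_add, Finset.sum_add_distrib]
  congr 1
  · rw [← Matrix.mul_apply, Matrix.mul_one]
  · rw [Finset.sum_eq_single i]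
    · rw [if_pos rfl]; ring
    · intro k _ hk
      rw [if_neg hk]; ring
    · intro hi
      exact absurd (Finset.mem_univ i) hi

theorem xr_mem_UT {i j : Fin (n + 3)} (hij : i < j) (c : F) : xr i j hij.ne' c ∈ UT F (n + 3) :=
  TVc_eb_mem_UT hij c

theorem xr_add (i j : Fin (n + 3)) (h : j ≠ i) (c d : F) :
    xr i j h c * xr i j h d = xr i j h (c + d) := TVc_mul _ _ _ c d

theorem xr_zero (i j : Fin (n + 3)) (h : j ≠ i) : xr i j h (0 : F) = 1 := TVc_zero _ _ _

/-- the subgroup generated by the positive root elements -/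
def posRoots (F : Type*) [Field F] (n : ℕ) : Subgroup (SpecialLinearGroup (Fin (n + 3)) F) :=
  Subgroup.closure {g | ∃ (i j : Fin (n + 3)) (hij : i < j) (c : F), g = xr i j hij.ne' c}

theorem xr_mem_posRoots {i j : Fin (n + 3)} (hij : i < j) (c : F) :
    xr i j hij.ne' c ∈ posRoots F n := Subgroup.subset_closure ⟨i, j, hij, c, rfl⟩

open Classical in
/-- the support above the diagonal -/
noncomputable def supp (u : SpecialLinearGroup (Fin (n + 3)) F) : Finset (UpIdx (n + 3)) :=
  Finset.univ.filter (fun p => (u : Matrix (Fin (n + 3)) (Fin (n + 3)) F) p.1.1 p.1.2 ≠ 0)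

theorem mem_supp (u : SpecialLinearGroup (Fin (n + 3)) F) (p : UpIdx (n + 3)) :
    p ∈ supp u ↔ (u : Matrix (Fin (n + 3)) (Fin (n + 3)) F) p.1.1 p.1.2 ≠ 0 := by
  unfold supp
  simp

theorem UT_le_posRoots_aux : ∀ (m : ℕ) (u : SpecialLinearGroup (Fin (n + 3)) F),
    u ∈ UT F (n + 3) → (supp u).card = m → u ∈ posRoots F n := by
  intro m
  induction m using Nat.strong_induction_on with
  | _ m ih =>
  intro u hu hm
  by_cases hne : (supp u).Nonempty
  · obtain ⟨p, hp, hmax⟩ := Finset.exists_max_image (supp u) (fun p => p.1.1) hne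
    obtain ⟨⟨i, j⟩, hij⟩ := p
    change i < j at hij
    simp only at hmax
    set c := (u : Matrix (Fin (n + 3)) (Fin (n + 3)) F) i j with hc
    -- row `j` of `u` is trivial
    have hrow : ∀ b : Fin (n + 3), (u : Matrix (Fin (n + 3)) (Fin (n + 3)) F) j b =
        if b = j then 1 else 0 := by
      intro b
      rcases lt_trichotomy b j with hb | hb | hb
      · rw [if_neg hb.ne]
        exact hu.1 hb
      · subst hb
        rw [if_pos rfl]
        exact hu.2 b
      · rw [if_neg hb.ne']
        by_contra h0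
        have hq : (⟨(j, b), hb⟩ : UpIdx (n + 3)) ∈ supp u := (mem_supp u _).mpr h0
        have := hmax _ hq
        simp only at this
        exact absurd (lt_of_lt_of_le hij this) (lt_irrefl _)
    set u' := xr i j hij.ne' (-c) * u with hu'
    have hu'UT : u' ∈ UT F (n + 3) := mul_mem (xr_mem_UT hij _) hu
    have hentry : ∀ a b : Fin (n + 3), (u' : Matrix (Fin (n + 3)) (Fin (n + 3)) F) a b =
        if a = i ∧ b = j then 0 else (u : Matrix (Fin (n + 3)) (Fin (n + 3)) F) a b := by
      intro a b
      rw [hu', xr_mul_apply, hrow]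
      by_cases ha : a = i
      · by_cases hb : b = j
        · subst ha hb
          rw [if_pos rfl, if_pos rfl, if_pos ⟨rfl, rfl⟩, ← hc]
          ring
        · have h1 : ¬ (a = i ∧ b = j) := fun h => hb h.2
          rw [if_neg hb, if_neg h1]
          ring
      · have h1 : ¬ (a = i ∧ b = j) := fun h => ha h.1
        rw [if_neg ha, if_neg h1]
        ring
    have hsupp : supp u' = (supp u).erase ⟨(i, j), hij⟩ := by
      ext q
      rw [Finset.mem_erase, mem_supp, mem_supp, hentry]
      by_cases hq : q = ⟨(i, j), hij⟩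
      · subst hq
        simp
      · have : ¬ (q.1.1 = i ∧ q.1.2 = j) := by
          rintro ⟨h1, h2⟩
          apply hq
          apply Subtype.ext
          exact Prod.ext h1 h2
        rw [if_neg this]
        simp [hq]
    have hcard : (supp u').card < m := by
      rw [hsupp, Finset.card_erase_of_mem hp, hm]
      have : 0 < (supp u).card := Finset.card_pos.mpr hne
      omega
    have h1 := ih _ hcard u' hu'UT rfl
    have h2 : u = xr i j hij.ne' c * u' := by
      rw [hu', ← mul_assoc, xr_add, add_neg_cancel, xr_zero, one_mul]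
    rw [h2]
    exact mul_mem (xr_mem_posRoots hij c) h1
  · rw [Finset.not_nonempty_iff_eq_empty] at hne
    have : u = 1 := by
      apply Subtype.ext
      ext a b
      rw [Matrix.SpecialLinearGroup.coe_one]
      rcases lt_trichotomy a b with hab | hab | hab
      · rw [Matrix.one_apply_ne hab.ne]
        by_contra h0
        have hq : (⟨(a, b), hab⟩ : UpIdx (n + 3)) ∈ supp u := (mem_supp u _).mpr h0
        rw [hne] at hq
        exact absurd hq (Finset.notMem_empty _)
      · subst hab
        rw [Matrix.one_apply_eq]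
        exact hu.2 a
      · rw [Matrix.one_apply_ne hab.ne']
        exact hu.1 hab
    rw [this]
    exact one_mem _

/-- the unitriangular group is generated by the positive root elements -/
theorem UT_le_posRoots : UT F (n + 3) ≤ posRoots F n := fun u hu =>
  UT_le_posRoots_aux _ u hu rfl

theorem posRoots_le_UT : posRoots F n ≤ UT F (n + 3) := by
  unfold posRoots
  rw [Subgroup.closure_le]
  rintro _ ⟨i, j, hij, c, rfl⟩
  exact xr_mem_UT hij c

end Cfsg.Agent.Lead.PSLnFus
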