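import Mathlib
import Cfsg.Agent.Lead.SpBND
import Cfsg.Agent.Helper7.SympPerfect

set_option autoImplicit false

/-!
The `(B, N)`-pair of `Sp_{2m}(K)`, part E: generation by `B` and `N`, and the structure.
-/

namespace Cfsg.Agent.Lead.SpBN

open Matrix Cfsg.Agent.Lead.SpFus Cfsg.Agent.Helper7.Symp

section gen

variable {K : Type*} [Field K] {m : ℕ}

theorem J_mulVec_apply (w : Fin m ⊕ Fin m → K) (s : Fin m ⊕ Fin m) :
    (J (Fin m) K *ᵥ w) s = Cfsg.Agent.Lead.SpWeyl.sgn K s * w s.swap := by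
  change ∑ b, J (Fin m) K s b * w b = _
  rw [Finset.sum_eq_single s.swap, Cfsg.Agent.Lead.SpWeyl.J_swap]
  · intro b _ hb
    rw [Cfsg.Agent.Lead.SpWeyl.J_ne s b hb, zero_mul]
  · intro h
    exact absurd (Finset.mem_univ _) h

/-- A transvection along a vector of the first half lies in `B`. -/
theorem T_mem_Bsub {w : Fin m ⊕ Fin m → K} (hw : ∀ i, w (Sum.inr i) = 0) (c : K) :
    T w c ∈ Bsub K m := by
  rw [mem_Bsub]
  intro r s hsr
  have hne : r ≠ s := by
    rintro rfl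
    exact lt_irrefl _ hsr
  change Cfsg.sympTransvection m w c r s = 0
  unfold Cfsg.sympTransvection
  rw [Matrix.add_apply, one_apply_ne hne, zero_add, Matrix.smul_apply, Matrix.vecMulVec_apply,
    J_mulVec_apply]
  rcases r with i | i
  · rcases s with j | j
    · rw [Sum.swap_inl, hw, mul_zero, mul_zero, smul_zero]
    · exact absurd hsr (not_lt.mpr (rho_inl_lt_inr i j).le)
  · rw [hw, zero_mul, smul_zero]

/-- A symmetric matrix with a prescribed value on a non-zero vector. -/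
theorem exists_symm_mulVec {y u : Fin m → K} {j : Fin m} (hj : y j ≠ 0) :
    ∃ S : Matrix (Fin m) (Fin m) K, S.IsSymm ∧ S *ᵥ y = u := by
  have he : ∑ b, (Pi.single j (1 : K) : Fin m → K) b * y b = y j := by
    rw [Finset.sum_eq_single j]
    · rw [Pi.single_eq_same, one_mul]
    · intro b _ hb
      rw [Pi.single_eq_of_ne hb, zero_mul]
    · intro h
      exact absurd (Finset.mem_univ _) h
  refine ⟨Matrix.of fun a b => (y j)⁻¹ * (u a * (Pi.single j (1 : K) : Fin m → K) b +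
      (Pi.single j (1 : K) : Fin m → K) a * u b) -
      (u ⬝ᵥ y) * (y j)⁻¹ * (y j)⁻¹ * ((Pi.single j (1 : K) : Fin m → K) a *
        (Pi.single j (1 : K) : Fin m → K) b), ?_, ?_⟩
  · ext a b
    rw [Matrix.transpose_apply, Matrix.of_apply, Matrix.of_apply]
    ring
  · ext a
    change ∑ b, (Matrix.of fun a b => (y j)⁻¹ * (u a * (Pi.single j (1 : K) : Fin m → K) b +
      (Pi.single j (1 : K) : Fin m → K) a * u b) -
      (u ⬝ᵥ y) * (y j)⁻¹ * (y j)⁻¹ * ((Pi.single j (1 : K) : Fin m → K) a *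
        (Pi.single j (1 : K) : Fin m → K) b)) a b * y b = u a
    have h1 : ∀ b, (Matrix.of fun a b => (y j)⁻¹ * (u a * (Pi.single j (1 : K) : Fin m → K) b +
      (Pi.single j (1 : K) : Fin m → K) a * u b) -
      (u ⬝ᵥ y) * (y j)⁻¹ * (y j)⁻¹ * ((Pi.single j (1 : K) : Fin m → K) a *
        (Pi.single j (1 : K) : Fin m → K) b)) a b * y b =
        (y j)⁻¹ * u a * ((Pi.single j (1 : K) : Fin m → K) b * y b) +
        (y j)⁻¹ * (Pi.single j (1 : K) : Fin m → K) a * (u b * y b) -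
        (u ⬝ᵥ y) * (y j)⁻¹ * (y j)⁻¹ * (Pi.single j (1 : K) : Fin m → K) a *
          ((Pi.single j (1 : K) : Fin m → K) b * y b) := by
      intro b
      rw [Matrix.of_apply]
      ring
    rw [Finset.sum_congr rfl (fun b _ => h1 b), Finset.sum_sub_distrib, Finset.sum_add_distrib,
      ← Finset.mul_sum, ← Finset.mul_sum, ← Finset.mul_sum, he]
    have hu : ∑ b, u b * y b = u ⬝ᵥ y := rfl
    rw [hu]
    field_simp
    ring

theorem T_mem_sup (w : Fin m ⊕ Fin m → K) (c : K) : T w c ∈ Bsub K m ⊔ Nsub K m := by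
  by_cases hy : ∀ i, w (Sum.inr i) = 0
  · exact Subgroup.mem_sup_left (T_mem_Bsub hy c)
  · push Not at hy
    obtain ⟨j, hj⟩ := hy
    obtain ⟨S, hS, hSy⟩ := exists_symm_mulVec (y := w ∘ Sum.inr) (u := -(w ∘ Sum.inl)) (j := j) hj
    have hg : w0 K m * sieg S hS ∈ Bsub K m ⊔ Nsub K m :=
      Subgroup.mul_mem _ (Subgroup.mem_sup_right w0_mem_Nsub)
        (Subgroup.mem_sup_left (Usub_le_Bsub (sieg_mem_Usub S hS)))
    have hconj := conj_T (w0 K m * sieg S hS) w c
    have hgw : ∀ i, (((w0 K m * sieg S hS : symplecticGroup (Fin m) K) :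
        Matrix (Fin m ⊕ Fin m) (Fin m ⊕ Fin m) K) *ᵥ w) (Sum.inr i) = 0 := by
      intro i
      rw [coe_mul_mulVec, w0_coe, J_mulVec_apply, sieg_coe, Matrix.fromBlocks_mulVec, Sum.swap_inr,
        Sum.elim_inl, Matrix.one_mulVec, hSy]
      simp
    have e : T w c = (w0 K m * sieg S hS)⁻¹ *
        ((w0 K m * sieg S hS) * T w c * (w0 K m * sieg S hS)⁻¹) * (w0 K m * sieg S hS) := by
      group
    rw [e, hconj]
    exact Subgroup.mul_mem _ (Subgroup.mul_mem _ (Subgroup.inv_mem _ hg)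
      (Subgroup.mem_sup_left (T_mem_Bsub hgw c))) hg

/-- `B` and `N` generate. -/
theorem sup_eq_top' : Bsub K m ⊔ Nsub K m = ⊤ := by
  rw [eq_top_iff, ← transvectionSubgroup_eq_top m K]
  unfold transvectionSubgroup
  rw [Subgroup.closure_le]
  rintro A ⟨w, c, hA⟩
  have : A = T w c := Subtype.ext hA
  rw [this]
  exact T_mem_sup w c

end gen

section structure_

variable {K : Type*} [Field K] {k : ℕ}

/-- The `(B, N)`-pair of `Sp_{2(k+1)}(K)`. -/
noncomputable def spBN (K : Type*) [Field K] (k : ℕ) :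
    Cfsg.BNPair (symplecticGroup (Fin (k + 1)) K) where
  B := Bsub K (k + 1)
  N := Nsub K (k + 1)
  S := Ssub K k
  sup_eq_top := sup_eq_top'
  conj_mem := fun _ hn _ ht => conj_mem_Bsub hn ht
  subset := Ssub_subset
  sq_mem := by
    rintro _ ⟨o, rfl⟩
    exact gen_sq_mem o
  inj := by
    rintro _ ⟨o, rfl⟩ _ ⟨o', rfl⟩ h
    rw [gen_inj h]
  closure_sup := closure_sup_eq
  mul_mem_union := by
    rintro _ ⟨o, rfl⟩ n hn b hb
    exact mul_mem_union' o hn hb
  conj_ne := by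
    rintro _ ⟨o, rfl⟩
    exact conj_ne' o

end structure_

end Cfsg.Agent.Lead.SpBN
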