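import Mathlib
import Cfsg.Agent.Lead.SpFusL
import Cfsg.Agent.Lead.SimpleCritD
import Cfsg.Agent.S0246

set_option autoImplicit false

/-! # Fusion system of `PSp_{2m}(K)`, part M: passage to the central quotient; the main theorem -/

namespace Cfsg.Agent.Lead.SpFus

open Matrix Cfsg Cfsg.Agent.Lead.SimpCrit

section Quotient

variable {G : Type*} [Group G]

/-- the simplicity criterion passes to the quotient by a central `p'`-subgroup -/
theorem crit_quotient [Finite G] {p : ℕ} [Fact p.Prime] {S : Subgroup G} (hSp : IsPGroup p S)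
    (h : Crit p S) (Z : Subgroup G) [Z.Normal] (hZc : Z ≤ Subgroup.center G)
    (hZp : ∀ z ∈ Z, ∀ k : ℕ, z ^ p ^ k = 1 → z = 1) :
    Crit p (S.map (QuotientGroup.mk' Z)) := by
  have hp : p.Prime := Fact.out
  obtain ⟨ha, hb⟩ := h
  set π := QuotientGroup.mk' Z with hπ
  have hker : ∀ x : G, π x = 1 → x ∈ Z := by
    intro x hx
    rwa [hπ, QuotientGroup.mk'_apply, QuotientGroup.eq_one_iff] at hx
  -- elements of `S ∩ Z` are trivial
  have hSZ : ∀ x ∈ S, x ∈ Z → x = 1 := by
    intro x hxS hxZ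
    obtain ⟨k, hk⟩ := hSp ⟨x, hxS⟩
    have hk' : x ^ p ^ k = 1 := by
      have := congrArg Subtype.val hk
      simpa using this
    exact hZp x hxZ k hk'
  -- lifting membership in the image of `S` for `p`-elements
  have hlift : ∀ x : G, (∃ k : ℕ, x ^ p ^ k = 1) → π x ∈ S.map π → x ∈ S := by
    rintro x ⟨k, hk⟩ ⟨s, hs, hsx⟩
    have hz : s⁻¹ * x ∈ Z := by
      apply hker
      rw [map_mul, map_inv, hsx, inv_mul_cancel]
    obtain ⟨j, hj⟩ := hSp ⟨s, hs⟩
    have hj' : s ^ p ^ j = 1 := by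
      have := congrArg Subtype.val hj
      simpa using this
    have hcomm : Commute s⁻¹ x := by
      have h1 := Subgroup.mem_center_iff.mp (hZc hz) s
      -- s * (s⁻¹ x) = (s⁻¹ x) * s
      have h2 : x = s⁻¹ * x * s := by
        rw [← h1]; group
      show s⁻¹ * x = x * s⁻¹
      calc s⁻¹ * x = s⁻¹ * x * s * s⁻¹ := by group
        _ = x * s⁻¹ := by rw [← h2]
    have hpow : (s⁻¹ * x) ^ p ^ (j + k) = 1 := by
      rw [hcomm.mul_pow, inv_pow, pow_add, pow_mul, hj', one_pow, inv_one, one_mul,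
        mul_comm (p ^ j), pow_mul, hk, one_pow]
    have h1 := hZp _ hz _ hpow
    have : x = s := by
      have := congrArg (fun y => s * y) h1
      simpa using this
    rw [this]
    exact hs
  refine ⟨?_, ?_⟩
  · -- strongly closed subgroups
    intro Tb hTb hcl
    set T := S ⊓ Tb.comap π with hT
    have hTS : T ≤ S := inf_le_left
    have hTcl : ∀ x ∈ T, ∀ g : G, g * x * g⁻¹ ∈ S → g * x * g⁻¹ ∈ T := by
      intro x hx g hg
      refine ⟨hg, ?_⟩
      show π (g * x * g⁻¹) ∈ Tb
      have h1 := hcl (π x) hx.2 (π g) (by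
        rw [← map_inv, ← map_mul, ← map_mul]
        exact ⟨_, hg, rfl⟩)
      rwa [← map_inv, ← map_mul, ← map_mul] at h1
    have hTb_eq : Tb = T.map π := by
      apply le_antisymm
      · intro t ht
        obtain ⟨s, hs, rfl⟩ := hTb ht
        exact ⟨s, ⟨hs, ht⟩, rfl⟩
      · rintro _ ⟨s, hs, rfl⟩
        exact hs.2
    rcases ha T hTS hTcl with h1 | h1
    · left
      rw [hTb_eq, h1, Subgroup.map_bot]
    · right
      rw [hTb_eq, h1]
  · -- the normaliser
    intro nb hnb
    obtain ⟨n, rfl⟩ := QuotientGroup.mk'_surjective Z nb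
    have hnN : n ∈ Subgroup.normalizer (S : Set G) := by
      haveI : Finite S := inferInstance
      apply Cfsg.Agent.Lead.mem_normalizer_of_conj_mem_of_finite
      intro s hs
      apply hlift
      · obtain ⟨k, hk⟩ := hSp ⟨s, hs⟩
        have hk' : s ^ p ^ k = 1 := by
          have := congrArg Subtype.val hk
          simpa using this
        refine ⟨k, ?_⟩
        rw [conj_pow, hk']
        group
      · rw [map_mul, map_mul, map_inv]
        have := (Subgroup.mem_normalizer_iff.mp hnb (π s)).mp ⟨s, hs, rfl⟩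
        exact this
    have h1 := hb hnN
    have h2 : π n ∈ (Subgroup.closure {m : G | m ∈ Subgroup.normalizer (S : Set G) ∧
      ∃ R : Subgroup G, R ≤ S ∧ S ≤ Subgroup.normalizer (R : Set G) ∧
        S ⊓ Subgroup.centralizer (R : Set G) ≤ R ∧
        m ∈ Subgroup.closure {g : G | g ∈ Subgroup.normalizer (R : Set G) ∧
          ∃ k : ℕ, orderOf g = p ^ k}}).map π := ⟨n, h1, rfl⟩
    rw [MonoidHom.map_closure] at h2
    refine Subgroup.closure_mono ?_ h2
    rintro _ ⟨m, ⟨hmN, R, hRS, hSR, hC, hm⟩, rfl⟩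
    refine ⟨Subgroup.le_normalizer_map π ⟨m, hmN, rfl⟩, R.map π, Subgroup.map_mono hRS,
      (Subgroup.map_mono hSR).trans (Subgroup.le_normalizer_map π), ?_, ?_⟩
    · rintro _ ⟨⟨s, hs, rfl⟩, hc⟩
      refine ⟨s, hC (Subgroup.mem_inf.mpr ⟨hs, Subgroup.mem_centralizer_iff.mpr ?_⟩), rfl⟩
      intro r hr
      have h3 := Subgroup.mem_centralizer_iff.mp hc (π r) ⟨r, hr, rfl⟩
      -- `r * s = s * r` modulo `Z`, and the commutator lies in `S`
      have h4 : (r * s) * (s * r)⁻¹ ∈ Z := by
        apply hker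
        rw [map_mul, map_inv, map_mul, map_mul, h3, mul_inv_cancel]
      have h5 : (r * s) * (s * r)⁻¹ ∈ S :=
        S.mul_mem (S.mul_mem (hRS hr) hs) (S.inv_mem (S.mul_mem hs (hRS hr)))
      have h6 := hSZ _ h5 h4
      exact mul_inv_eq_one.mp h6
    · have h3 : π m ∈ (Subgroup.closure {g : G | g ∈ Subgroup.normalizer (R : Set G) ∧
          ∃ k : ℕ, orderOf g = p ^ k}).map π := ⟨m, hm, rfl⟩
      rw [MonoidHom.map_closure] at h3
      refine Subgroup.closure_mono ?_ h3
      rintro _ ⟨g, ⟨hgN, k, hk⟩, rfl⟩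
      refine ⟨Subgroup.le_normalizer_map π ⟨g, hgN, rfl⟩, ?_⟩
      have h4 : orderOf (π g) ∣ p ^ k := by
        rw [← hk]
        exact orderOf_map_dvd π g
      obtain ⟨j, -, hj⟩ := (Nat.dvd_prime_pow hp).mp h4
      exact ⟨j, hj⟩

end Quotient

variable {K : Type*} [Field K] {m : ℕ}

/-- the simplicity criterion for `U` in `Sp_{2m}(K)` -/
theorem crit_Usub [Fintype K] (p : ℕ) [Fact p.Prime] [CharP K p] (hm : 2 ≤ m)
    (hex : 3 ≤ m ∨ 3 ≤ Fintype.card K) : Crit p (Usub K m) :=
  ⟨fun T hT hcl => stronglyClosed_Usub p hm hex T hT hcl, normalizer_Usub_le_closure p hm⟩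

/-- central elements of `p`-power order are trivial -/
theorem center_pElement_eq_one (p : ℕ) [Fact p.Prime] [CharP K p] (hm : 1 ≤ m)
    (z : symplecticGroup (Fin m) K) (hz : z ∈ Subgroup.center (symplecticGroup (Fin m) K))
    (k : ℕ) (hk : z ^ p ^ k = 1) : z = 1 := by
  rcases Cfsg.Agent.S0246.central_eq hm z hz with h | h
  · exact h
  · have hp : p.Prime := Fact.out
    -- `-1 = 1` in `K`
    have hneg : (-1 : K) = 1 := by
      rcases hp.eq_two_or_odd' with h2 | hodd
      · subst h2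
        have : (2 : K) = 0 := by
          have := CharP.cast_eq_zero K 2
          exact_mod_cast this
        linear_combination -this
      · have hoddpow : Odd (p ^ k) := hodd.pow
        have h1 := congrArg Subtype.val hk
        rw [h] at h1
        have h2 : ((Cfsg.Agent.S0246.negOne m K ^ p ^ k : symplecticGroup (Fin m) K) :
            Matrix (Fin m ⊕ Fin m) (Fin m ⊕ Fin m) K) = (-1) ^ p ^ k := by
          rw [SubmonoidClass.coe_pow]; rfl
        rw [h2, hoddpow.neg_one_pow] at h1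
        have h3 := congrFun (congrFun h1 (Sum.inl ⟨0, by omega⟩)) (Sum.inl ⟨0, by omega⟩)
        have h4 : ((1 : symplecticGroup (Fin m) K) :
            Matrix (Fin m ⊕ Fin m) (Fin m ⊕ Fin m) K) = 1 := rfl
        rw [h4, Matrix.neg_apply, one_apply_eq] at h3
        exact h3
    rw [h]
    apply Subtype.ext
    show (-1 : Matrix (Fin m ⊕ Fin m) (Fin m ⊕ Fin m) K) = 1
    ext a b
    rw [Matrix.neg_apply]
    by_cases hab : a = b
    · subst hab
      rw [one_apply_eq, hneg]
    · rw [one_apply_ne hab, neg_zero]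

/-- the `p`-fusion system of `PSp_{2m}(K)`, `K` of characteristic `p`, is simple -/
theorem main [Fintype K] (p : ℕ) [Fact p.Prime] [CharP K p] (hm : 2 ≤ m)
    (hex : m = 2 → 3 ≤ Fintype.card K) (S : Sylow p (Cfsg.PSp m K)) :
    (groupFusionSystem (S : Subgroup (Cfsg.PSp m K))).IsSimple p := by
  have : NeZero m := ⟨by omega⟩
  have hex' : 3 ≤ m ∨ 3 ≤ Fintype.card K := by
    by_cases h2 : m = 2
    · exact Or.inr (hex h2)
    · exact Or.inl (by omega)
  have hsurj : Function.Surjective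
      (QuotientGroup.mk' (Subgroup.center (symplecticGroup (Fin m) K))) :=
    QuotientGroup.mk'_surjective _
  have hZp := center_pElement_eq_one (K := K) (m := m) p (by omega)
  apply crit_all p ((sylowU K m p).mapSurjective hsurj) _ _ S
  · rw [Sylow.coe_mapSurjective, coe_sylowU]
    intro hbot
    let a₀ : Fin m := ⟨0, by omega⟩
    have h1 : QuotientGroup.mk' (Subgroup.center (symplecticGroup (Fin m) K)) (xl a₀ (1 : K)) ∈
        (Usub K m).map (QuotientGroup.mk' (Subgroup.center (symplecticGroup (Fin m) K))) :=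
      ⟨_, sieg_mem_Usub _ _, rfl⟩
    rw [hbot, Subgroup.mem_bot, QuotientGroup.mk'_apply, QuotientGroup.eq_one_iff] at h1
    obtain ⟨k, hk⟩ := orderOf_xl p a₀ (1 : K)
    have h2 : xl a₀ (1 : K) ^ p ^ k = 1 := by
      rw [← hk]; exact pow_orderOf_eq_one _
    have h3 := hZp _ h1 k h2
    have h4 := xl_apply a₀ (1 : K)
    rw [h3] at h4
    have h5 : ((1 : symplecticGroup (Fin m) K) :
        Matrix (Fin m ⊕ Fin m) (Fin m ⊕ Fin m) K) (Sum.inl a₀) (Sum.inr a₀) = 0 :=
      one_apply_ne (by simp)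
    rw [h5] at h4
    exact zero_ne_one h4
  · rw [Sylow.coe_mapSurjective, coe_sylowU]
    exact crit_quotient (isPGroup_Usub p) (crit_Usub p hm hex') _ le_rfl hZp

end Cfsg.Agent.Lead.SpFus
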