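import Mathlib
import Cfsg.Agent.Lead.SpBNE
import Cfsg.Agent.Lead.SLBND
import Cfsg.Agent.Lead.SpFusM

set_option autoImplicit false

/-!
The Steinberg character of `Sp_{2m}(K)` and of `PSp_{2m}(K)`.
-/

namespace Cfsg.Agent.Lead.SpBN

open Matrix Cfsg Cfsg.Agent.Lead.SpFus Cfsg.Agent.Helper7.BN Cfsg.Agent.Lead.SteinChar
  Cfsg.Agent.Lead.SteinBN

universe u

variable {K : Type u} [Field K] {m k : ℕ}

theorem center_le_Bsub (hm : 1 ≤ m) :
    Subgroup.center (symplecticGroup (Fin m) K) ≤ Bsub K m := by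
  intro z hz
  rcases Cfsg.Agent.S0246.central_eq hm z hz with h | h
  · rw [h]
    exact Subgroup.one_mem _
  · rw [h, mem_Bsub]
    intro r s hsr
    have hne : r ≠ s := by
      rintro rfl
      exact lt_irrefl _ hsr
    change (-1 : Matrix (Fin m ⊕ Fin m) (Fin m ⊕ Fin m) K) r s = 0
    rw [Matrix.neg_apply, one_apply_ne hne, neg_zero]

/-- The elements of `B` which the longest element conjugates into `B` are the diagonal ones. -/
theorem conj_w0_mem_iff {b : symplecticGroup (Fin m) K} (hb : b ∈ Bsub K m) :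
    w0 K m * b * (w0 K m)⁻¹ ∈ Bsub K m ↔
      MonoQ (1 : Equiv.Perm (Fin m ⊕ Fin m))
        (b : Matrix (Fin m ⊕ Fin m) (Fin m ⊕ Fin m) K) := by
  constructor
  · intro h i j hij
    rw [Equiv.Perm.one_apply] at hij
    rcases lt_or_gt_of_ne (fun e => hij (rho_injective m e)) with hlt | hgt
    · have hrev : rho m (swp m j) < rho m (swp m i) := by
        rw [swp_apply, swp_apply, rho_swap_lt]
        exact hlt
      have h3 := h hrev
      rw [conj_apply w0_mono, perm_inv_apply, perm_inv_apply] at h3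
      have h4 := sp_entry_ne_zero (w0_mono (K := K) (m := m)) i
      have h5 := sp_entry_ne_zero (mono_inv (w0_mono (K := K) (m := m))) (swp m j)
      rw [perm_inv_apply] at h5
      rcases mul_eq_zero.mp h3 with h6 | h6
      · rcases mul_eq_zero.mp h6 with h7 | h7
        · exact absurd h7 h4
        · exact h7
      · exact absurd h6 h5
    · exact hb hgt
  · intro h
    rw [mem_Bsub]
    apply upper_of_mono_one
    have h3 := (w0_mono.mul h).mul (mono_inv (w0_mono (K := K) (m := m)))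
    rw [mul_one, mul_inv_cancel] at h3
    exact h3

theorem tor_mono (a : Fin m → Kˣ) : MonoQ (1 : Equiv.Perm (Fin m ⊕ Fin m))
    ((tor a : symplecticGroup (Fin m) K) : Matrix (Fin m ⊕ Fin m) (Fin m ⊕ Fin m) K) := by
  intro i j hij
  rw [Equiv.Perm.one_apply] at hij
  rw [tor_coe]
  rcases i with i | i <;> rcases j with j | j
  · rw [fromBlocks_apply₁₁]
    exact diagonal_apply_ne _ (fun h => hij (by rw [h]))
  · rw [fromBlocks_apply₁₂]
    rfl
  · rw [fromBlocks_apply₂₁]
    rfl
  · rw [fromBlocks_apply₂₂]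
    exact diagonal_apply_ne _ (fun h => hij (by rw [h]))

/-- The diagonal subgroup of `B` has the unipotent subgroup as a complement. -/
theorem index_eq_card_Usub (T' : Subgroup ↥(Bsub K m))
    (hT : ∀ b : ↥(Bsub K m), b ∈ T' ↔ MonoQ (1 : Equiv.Perm (Fin m ⊕ Fin m))
      ((b : symplecticGroup (Fin m) K) : Matrix (Fin m ⊕ Fin m) (Fin m ⊕ Fin m) K)) :
    T'.index = Nat.card (Usub K m) := by
  have hcompl : Subgroup.IsComplement' ((Usub K m).subgroupOf (Bsub K m)) T' := by
    apply Subgroup.isComplement'_of_disjoint_and_mul_eq_univ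
    · rw [Subgroup.disjoint_def]
      intro x hx hxT
      rw [Subgroup.mem_subgroupOf] at hx
      rw [hT] at hxT
      apply Subtype.ext
      apply Subtype.ext
      ext i j
      change ((x : symplecticGroup (Fin m) K) :
        Matrix (Fin m ⊕ Fin m) (Fin m ⊕ Fin m) K) i j =
        (1 : Matrix (Fin m ⊕ Fin m) (Fin m ⊕ Fin m) K) i j
      by_cases hij : i = j
      · subst hij
        rw [hx.2 i, one_apply_eq]
      · rw [hxT i j (by rwa [Equiv.Perm.one_apply]), one_apply_ne hij]
    · rw [Set.eq_univ_iff_forall]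
      intro b
      obtain ⟨u, hu, a, hua⟩ := exists_unip_tor_of_mem_Bsub b.2
      refine Set.mem_mul.mpr ⟨⟨u, Usub_le_Bsub hu⟩, ?_, ⟨tor a, tor_mem_Bsub a⟩, ?_, ?_⟩
      · rw [SetLike.mem_coe, Subgroup.mem_subgroupOf]
        exact hu
      · rw [SetLike.mem_coe, hT]
        exact tor_mono a
      · apply Subtype.ext
        exact hua.symm
  rw [hcompl.index_eq_card]
  exact Nat.card_congr (Subgroup.subgroupOfEquivOfLe Usub_le_Bsub).toEquiv

/-- The Steinberg character of `Sp_{2(k+1)}(K)`. -/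
theorem exists_steinberg_Sp [Fintype K] (k : ℕ) :
    ∃ χ : symplecticGroup (Fin (k + 1)) K → ℂ,
      Cfsg.IsIrrCharacter (symplecticGroup (Fin (k + 1)) K) χ ∧
      χ 1 = Nat.card (Usub K (k + 1)) ∧
      ∀ z ∈ Subgroup.center (symplecticGroup (Fin (k + 1)) K), χ z = χ 1 := by
  haveI : Fintype (symplecticGroup (Fin (k + 1)) K) := Fintype.ofFinite _
  have himg : gen K '' (((Finset.univ : Finset (Option (Fin k))) : Set (Option (Fin k)))) =
      (spBN K k).S := by
    rw [Finset.coe_univ, Set.image_univ]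
    rfl
  have hpar : ∀ J : Finset (Option (Fin k)), J ⊆ Finset.univ →
      (fun J : Finset (Option (Fin k)) =>
        (spBN K k).parabolic (gen K '' (J : Set (Option (Fin k))))) J =
        (spBN K k).parabolic (gen K '' (J : Set (Option (Fin k)))) := fun _ _ => rfl
  refine ⟨St Finset.univ (fun J : Finset (Option (Fin k)) =>
    (spBN K k).parabolic (gen K '' (J : Set (Option (Fin k))))),
    isIrrCharacter_St (spBN K k) himg hpar, ?_, ?_⟩
  · have hn0 : w0 K (k + 1) ∈ (spBN K k).N := w0_mem_Nsub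
    have hgood : ∀ o ∈ (Finset.univ : Finset (Option (Fin k))),
        Good (spBN K k) (rr (spBN K k) (gen K) o)
          (rr (spBN K k) (gen K) o * proj (spBN K k) ⟨w0 K (k + 1), hn0⟩) := by
      intro o _
      have hsN : gen K o ∈ (spBN K k).N := gen_mem_Nsub o
      rw [rr_eq (spBN K k) hsN, ← map_mul]
      apply good_of_rep
      intro b hb
      have h1 : MonoQ (genPat o * swp (k + 1))
          ((gen K o * w0 K (k + 1) : symplecticGroup (Fin (k + 1)) K) :
            Matrix (Fin (k + 1) ⊕ Fin (k + 1)) (Fin (k + 1) ⊕ Fin (k + 1)) K) :=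
        (gen_mono o).mul w0_mono
      have hlt : rho (k + 1) ((genPat o * swp (k + 1))⁻¹ (pos o).1) <
          rho (k + 1) ((genPat o * swp (k + 1))⁻¹ (pos o).2) := by
        rw [_root_.mul_inv_rev, genPat_inv, swp_inv, Equiv.Perm.mul_apply, Equiv.Perm.mul_apply,
          genPat_pos, genPat_pos', swp_apply, swp_apply, rho_swap_lt]
        exact pos_lt o
      exact mul_mem_of_lt o h1 hlt hb
    have key := St_apply_B_of_good (spBN K k) (I := Finset.univ) (s := gen K)
      (par := fun J : Finset (Option (Fin k)) =>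
        (spBN K k).parabolic (gen K '' (J : Set (Option (Fin k)))))
      himg hpar ⟨w0 K (k + 1), hn0⟩ hgood 1
    rw [Subgroup.coe_one, fixedPointCharacter_one] at key
    rw [key]
    congr 1
    apply index_eq_card_Usub
    intro b
    exact (mem_stab_inv_proj (spBN K k) ⟨w0 K (k + 1), hn0⟩ b).trans (conj_w0_mem_iff b.2)
  · intro z hz
    unfold St
    apply Finset.sum_congr rfl
    intro J _
    congr 1
    exact Cfsg.Agent.Lead.SLBN.fixedPointCharacter_central _ hz
      (Subgroup.mem_sup_left (center_le_Bsub (Nat.succ_le_succ (Nat.zero_le k)) hz))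

/-- The Steinberg character of `PSp_{2m}(K)`. -/
theorem steinberg_psp [Fintype K] (p : ℕ) [Fact p.Prime] [CharP K p] (m : ℕ) (hm : 1 ≤ m) :
    ∃ χ : Cfsg.PSp m K → ℂ,
      Cfsg.IsIrrCharacter (Cfsg.PSp m K) χ ∧
      ∀ P : Sylow p (Cfsg.PSp m K),
        χ 1 = Nat.card P ∧
        ∀ x : Cfsg.PSp m K, x ∈ P → x ≠ 1 → χ x = 0 := by
  obtain ⟨k, rfl⟩ : ∃ k, m = k + 1 := ⟨m - 1, by omega⟩
  have hp : p.Prime := Fact.out
  obtain ⟨χ0, hirr0, h1, hz⟩ := exists_steinberg_Sp (K := K) k
  obtain ⟨ψ, hψ⟩ := Cfsg.Agent.Helper6.exists_deflate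
    (Subgroup.center (symplecticGroup (Fin (k + 1)) K)) ⟨χ0, hirr0⟩ hz
  have hψ1 : (ψ : Cfsg.PSp (k + 1) K → ℂ) 1 = Nat.card (Usub K (k + 1)) := by
    rw [← h1]
    exact (congrFun hψ 1).symm
  obtain ⟨e, he⟩ := (isPGroup_Usub (K := K) (m := k + 1) p).exists_card_eq
  have hdeg : Cfsg.charDegree (ψ : Cfsg.PSp (k + 1) K → ℂ) = p ^ e := by
    unfold Cfsg.charDegree
    rw [hψ1, he, Complex.natCast_re, Nat.floor_natCast]
  have hN0 : Nat.card (Cfsg.PSp (k + 1) K) ≠ 0 := Nat.card_pos.ne'
  have hfac : (Nat.card (Cfsg.PSp (k + 1) K)).factorization p = e := by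
    apply le_antisymm
    · have hidx : ¬ p ∣ (Usub K (k + 1)).index := by
        have := (sylowU K (k + 1) p).not_dvd_index
        rw [coe_sylowU] at this
        exact this
      have hcard : Nat.card (Usub K (k + 1)) * (Usub K (k + 1)).index =
          Nat.card (symplecticGroup (Fin (k + 1)) K) := Subgroup.card_mul_index _
      have hdvd : Nat.card (Cfsg.PSp (k + 1) K) ∣ p ^ e * (Usub K (k + 1)).index := by
        rw [← he, hcard]
        exact Subgroup.card_quotient_dvd_card _
      have hi0 : (Usub K (k + 1)).index ≠ 0 := Subgroup.index_ne_zero_of_finite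
      have h2 := (Nat.factorization_le_iff_dvd hN0 (mul_ne_zero (pow_ne_zero e hp.ne_zero) hi0)).mpr
        hdvd p
      rw [Nat.factorization_mul (pow_ne_zero e hp.ne_zero) hi0, Finsupp.add_apply,
        hp.factorization_pow, Finsupp.single_eq_same,
        Nat.factorization_eq_zero_of_not_dvd hidx, add_zero] at h2
      exact h2
    · have hdvd := Cfsg.Agent.Helper6.charDegree_dvd_card ψ.2
      rw [hdeg] at hdvd
      exact (hp.pow_dvd_iff_le_factorization hN0).mp hdvd
  refine ⟨ψ, ψ.2, fun P => ⟨?_, ?_⟩⟩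
  · rw [hψ1, he, Sylow.card_eq_multiplicity P, hfac]
  · intro x hx hx1
    obtain ⟨M, -, hM, hpM⟩ := Cfsg.Agent.Helper6.exists_isPModular p hp
    have hnd : ¬ p ∣ Nat.card (Cfsg.PSp (k + 1) K) /
        Cfsg.charDegree (ψ : Cfsg.PSp (k + 1) K → ℂ) := by
      rw [hdeg, ← hfac]
      exact Nat.not_dvd_ordCompl hp hN0
    have hsing := Cfsg.Agent.Helper6.blockOf_eq_singleton_of_not_dvd hM p hp hpM ψ hnd
    refine Cfsg.Agent.Helper6.vanish_of_blockOf_eq_singleton hM p hpM ψ hsing x ?_
    obtain ⟨j, hj⟩ := (IsPGroup.iff_orderOf.mp P.isPGroup') ⟨x, hx⟩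
    rw [Subgroup.orderOf_mk] at hj
    rw [hj]
    apply dvd_pow_self
    rintro rfl
    rw [pow_zero, orderOf_eq_one_iff] at hj
    exact hx1 hj

end Cfsg.Agent.Lead.SpBN
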