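import Mathlib

/-! Arithmetic for the largest abelian subgroups of symmetric and alternating groups. -/

namespace Cfsg.Agent.Lead.AbAlt

/-- Maximal product of a partition of `n`. -/
def f (n : ℕ) : ℕ :=
  if n ≤ 1 then 1 else
    if n % 3 = 0 then 3 ^ (n / 3) else if n % 3 = 1 then 4 * 3 ^ (n / 3 - 1) else 2 * 3 ^ (n / 3)

/-- Maximal product of a partition of `n` into parts not congruent to 2 mod 4 (made precise
only as a bounding function). -/
def g (n : ℕ) : ℕ :=
  if n ≤ 2 then 1 else if n = 5 then 5 else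
    if n % 3 = 0 then 3 ^ (n / 3) else if n % 3 = 1 then 4 * 3 ^ (n / 3 - 1)
    else 16 * 3 ^ (n / 3 - 2)

theorem f_add_three {n : ℕ} (hn : 2 ≤ n) : f (n + 3) = 3 * f n := by
  unfold f
  have h1 : ¬ n + 3 ≤ 1 := by omega
  have h2 : ¬ n ≤ 1 := by omega
  have h3 : (n + 3) % 3 = n % 3 := by omega
  have h4 : (n + 3) / 3 = n / 3 + 1 := by omega
  simp only [h1, h2, if_false, h3, h4]
  by_cases c0 : n % 3 = 0
  · simp only [c0, if_true]; rw [pow_succ]; ring
  · by_cases c1 : n % 3 = 1
    · simp only [c1, if_true]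
      have : n / 3 ≥ 1 := by omega
      obtain ⟨j, hj⟩ : ∃ j, n / 3 = j + 1 := ⟨n / 3 - 1, by omega⟩
      rw [hj]; simp only [Nat.add_sub_cancel]
      norm_num
      rw [pow_succ]; ring
    · simp only [c0, c1, if_false]; rw [pow_succ]; ring

theorem f_add_three_ge (n : ℕ) : 3 * f n ≤ f (n + 3) := by
  rcases Nat.lt_or_ge n 2 with h | h
  · interval_cases n <;> decide
  · rw [f_add_three h]

theorem g_add_three {n : ℕ} (hn : 6 ≤ n) : g (n + 3) = 3 * g n := by
  unfold g
  have h1 : ¬ n + 3 ≤ 2 := by omega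
  have h2 : ¬ n ≤ 2 := by omega
  have h1' : ¬ n + 3 = 5 := by omega
  have h2' : ¬ n = 5 := by omega
  have h3 : (n + 3) % 3 = n % 3 := by omega
  have h4 : (n + 3) / 3 = n / 3 + 1 := by omega
  simp only [h1, h2, h1', h2', if_false, h3, h4]
  by_cases c0 : n % 3 = 0
  · simp only [c0, if_true]; rw [pow_succ]; ring
  · by_cases c1 : n % 3 = 1
    · simp only [c1, if_true]
      obtain ⟨j, hj⟩ : ∃ j, n / 3 = j + 1 := ⟨n / 3 - 1, by omega⟩
      rw [hj]; simp only [Nat.add_sub_cancel]
      norm_num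
      rw [pow_succ]; ring
    · simp only [c0, c1, if_false]
      obtain ⟨j, hj⟩ : ∃ j, n / 3 = j + 2 := ⟨n / 3 - 2, by omega⟩
      rw [hj]
      have : j + 2 + 1 - 2 = j + 1 := by omega
      rw [this]; simp only [Nat.add_sub_cancel]
      rw [pow_succ]; ring

theorem g_add_three_ge (n : ℕ) : 3 * g n ≤ g (n + 3) := by
  rcases Nat.lt_or_ge n 6 with h | h
  · interval_cases n <;> decide
  · rw [g_add_three h]

theorem f_supermul : ∀ a b : ℕ, f a * f b ≤ f (a + b) := by
  have key : ∀ s a b : ℕ, a + b = s → f a * f b ≤ f (a + b) := by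
    intro s
    induction s using Nat.strong_induction_on with
    | _ s ih =>
    intro a b hab
    rcases Nat.lt_or_ge a 5 with ha | ha
    · rcases Nat.lt_or_ge b 5 with hb | hb
      · interval_cases a <;> interval_cases b <;> decide
      · obtain ⟨b', rfl⟩ : ∃ b', b = b' + 3 := ⟨b - 3, by omega⟩
        have h1 := ih (a + b') (by omega) a b' rfl
        rw [f_add_three (by omega : 2 ≤ b')]
        calc f a * (3 * f b') = 3 * (f a * f b') := by ring
          _ ≤ 3 * f (a + b') := Nat.mul_le_mul_left _ h1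
          _ ≤ f (a + b' + 3) := f_add_three_ge _
          _ = f (a + (b' + 3)) := by rw [add_assoc]
    · obtain ⟨a', rfl⟩ : ∃ a', a = a' + 3 := ⟨a - 3, by omega⟩
      have h1 := ih (a' + b) (by omega) a' b rfl
      rw [f_add_three (by omega : 2 ≤ a')]
      calc 3 * f a' * f b = 3 * (f a' * f b) := by ring
        _ ≤ 3 * f (a' + b) := Nat.mul_le_mul_left _ h1
        _ ≤ f (a' + b + 3) := f_add_three_ge _
        _ = f (a' + 3 + b) := by congr 1; ring
  intro a b
  exact key (a + b) a b rfl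

theorem g_supermul : ∀ a b : ℕ, 1 ≤ a → 1 ≤ b → g a * g b ≤ g (a + b) := by
  have key : ∀ s a b : ℕ, a + b = s → 1 ≤ a → 1 ≤ b → g a * g b ≤ g (a + b) := by
    intro s
    induction s using Nat.strong_induction_on with
    | _ s ih =>
    intro a b hab ha1 hb1
    rcases Nat.lt_or_ge a 9 with ha | ha
    · rcases Nat.lt_or_ge b 9 with hb | hb
      · interval_cases a <;> interval_cases b <;> decide
      · obtain ⟨b', rfl⟩ : ∃ b', b = b' + 3 := ⟨b - 3, by omega⟩
        have h1 := ih (a + b') (by omega) a b' rfl ha1 (by omega)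
        rw [g_add_three (by omega : 6 ≤ b')]
        calc g a * (3 * g b') = 3 * (g a * g b') := by ring
          _ ≤ 3 * g (a + b') := Nat.mul_le_mul_left _ h1
          _ ≤ g (a + b' + 3) := g_add_three_ge _
          _ = g (a + (b' + 3)) := by rw [add_assoc]
    · obtain ⟨a', rfl⟩ : ∃ a', a = a' + 3 := ⟨a - 3, by omega⟩
      have h1 := ih (a' + b) (by omega) a' b rfl (by omega) hb1
      rw [g_add_three (by omega : 6 ≤ a')]
      calc 3 * g a' * g b = 3 * (g a' * g b) := by ring
        _ ≤ 3 * g (a' + b) := Nat.mul_le_mul_left _ h1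
        _ ≤ g (a' + b + 3) := g_add_three_ge _
        _ = g (a' + 3 + b) := by congr 1; ring
  intro a b
  exact key (a + b) a b rfl

theorem le_f : ∀ n : ℕ, 1 ≤ n → n ≤ f n := by
  intro n
  induction n using Nat.strong_induction_on with
  | _ n ih =>
  intro h1
  rcases Nat.lt_or_ge n 5 with h | h
  · interval_cases n <;> decide
  · obtain ⟨m, rfl⟩ : ∃ m, n = m + 3 := ⟨n - 3, by omega⟩
    have := ih m (by omega) (by omega)
    rw [f_add_three (by omega)]
    omega

theorem le_g : ∀ n : ℕ, 1 ≤ n → n ≠ 2 → n ≤ g n := by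
  intro n
  induction n using Nat.strong_induction_on with
  | _ n ih =>
  intro h1 h2
  rcases Nat.lt_or_ge n 9 with h | h
  · interval_cases n <;> first | omega | decide
  · obtain ⟨m, rfl⟩ : ∃ m, n = m + 3 := ⟨n - 3, by omega⟩
    have := ih m (by omega) (by omega) (by omega)
    rw [g_add_three (by omega)]
    omega

theorem f_le_two_g : ∀ n : ℕ, f n ≤ 2 * g n := by
  intro n
  induction n using Nat.strong_induction_on with
  | _ n ih =>
  rcases Nat.lt_or_ge n 9 with h | h
  · interval_cases n <;> decide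
  · obtain ⟨m, rfl⟩ : ∃ m, n = m + 3 := ⟨n - 3, by omega⟩
    have := ih m (by omega)
    rw [g_add_three (by omega), f_add_three (by omega)]
    omega

theorem g_pos (n : ℕ) : 0 < g n := by
  unfold g
  split_ifs <;> positivity

theorem f_pos (n : ℕ) : 0 < f n := by
  unfold f
  split_ifs <;> positivity

theorem g_three_mul {k : ℕ} (hk : 2 ≤ k) : g (3 * k) = 3 ^ k := by
  unfold g
  have h1 : ¬ 3 * k ≤ 2 := by omega
  have h2 : ¬ 3 * k = 5 := by omega
  have h3 : (3 * k) % 3 = 0 := by omega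
  have h4 : (3 * k) / 3 = k := by omega
  simp [h1, h2, h3, h4]

theorem g_three_mul_add_one {k : ℕ} (hk : 2 ≤ k) : g (3 * k + 1) = 4 * 3 ^ (k - 1) := by
  unfold g
  have h1 : ¬ 3 * k + 1 ≤ 2 := by omega
  have h2 : ¬ 3 * k + 1 = 5 := by omega
  have h3 : (3 * k + 1) % 3 = 1 := by omega
  have h4 : (3 * k + 1) / 3 = k := by omega
  simp [h1, h2, h3, h4]

theorem g_three_mul_add_two {k : ℕ} (hk : 2 ≤ k) : g (3 * k + 2) = 16 * 3 ^ (k - 2) := by
  unfold g
  have h1 : ¬ 3 * k + 2 ≤ 2 := by omega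
  have h2 : ¬ 3 * k + 2 = 5 := by omega
  have h3 : (3 * k + 2) % 3 = 2 := by omega
  have h4 : (3 * k + 2) / 3 = k := by omega
  simp [h1, h2, h3, h4]

end Cfsg.Agent.Lead.AbAlt
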