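import Cfsg.Agent.Lead.NilpAltA

/-! Nilpotent subgroups of alternating groups: the main induction. -/

namespace Cfsg.Agent.Lead.NilpAlt

open Cfsg.Agent.Lead.NilpSym Equiv

theorem two_mul_card_le_of_ne_top {G : Type*} [Group G] [Finite G] (H : Subgroup G) (h : H ≠ ⊤) :
    2 * Nat.card H ≤ Nat.card G := by
  have h1 := H.card_mul_index
  have h2 : H.index ≠ 1 := fun hh => h (Subgroup.index_eq_one.mp hh)
  have h3 : H.index ≠ 0 := Subgroup.index_ne_zero_of_finite
  have h4 : 2 ≤ H.index := by omega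
  calc 2 * Nat.card H = Nat.card H * 2 := by ring
    _ ≤ Nat.card H * H.index := Nat.mul_le_mul_left _ h4
    _ = _ := h1

/-- Induction hypothesis, alternating version. -/
def IHA (n : ℕ) : Prop := ∀ m < n, ∀ (β : Type) [Fintype β] [DecidableEq β], Nat.card β = m →
    ∀ M : Subgroup (Perm β), (∀ g ∈ M, Perm.sign g = 1) → Group.IsNilpotent M →
      Nat.card M ≤ BA m

theorem intrans_case_alt {n : ℕ} (ih : IHA n) {α : Type} [Fintype α] [DecidableEq α]
    (hα : Nat.card α = n)
    (N : Subgroup (Perm α)) (hA : ∀ g ∈ N, Perm.sign g = 1) (hN : Group.IsNilpotent N)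
    (x y : α) (hxy : ∀ g ∈ N, g x ≠ y) : Nat.card N ≤ BA n := by
  classical
  have hp := orbPred_inv N x
  have hp' : ∀ g ∈ N, ∀ z, ¬ orbPred N x (g z) ↔ ¬ orbPred N x z :=
    fun g hg z => not_congr (hp g hg z)
  have hsum : Nat.card {z // orbPred N x z} + Nat.card {z // ¬ orbPred N x z} = n := by
    rw [← hα, ← Nat.card_sum]; exact Nat.card_congr (Equiv.sumCompl (orbPred N x))
  have h1 : 0 < Nat.card {z // orbPred N x z} := by
    haveI : Nonempty {z // orbPred N x z} := ⟨⟨x, orbPred_self N x⟩⟩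
    exact Nat.card_pos
  have h2 : 0 < Nat.card {z // ¬ orbPred N x z} := by
    haveI : Nonempty {z // ¬ orbPred N x z} := ⟨⟨y, fun ⟨g, hg, h⟩ => hxy g hg h⟩⟩
    exact Nat.card_pos
  let f1 := resHom N (orbPred N x) hp
  let f2 := resHom N (fun z => ¬ orbPred N x z) hp'
  let φ : N →* f1.range × f2.range := f1.rangeRestrict.prod f2.rangeRestrict
  have hinj : Function.Injective φ := by
    intro g h hgh
    have e1 : f1 g = f1 h := by
      have := congrArg (fun z : f1.range × f2.range => z.1.1) hgh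
      simpa [φ] using this
    have e2 : f2 g = f2 h := by
      have := congrArg (fun z : f1.range × f2.range => z.2.1) hgh
      simpa [φ] using this
    apply Subtype.ext
    ext z
    by_cases hz : orbPred N x z
    · have := congrArg (fun f : Perm {z // orbPred N x z} => ((f ⟨z, hz⟩ : {z // orbPred N x z}) : α)) e1
      simpa [f1, resHom_apply] using this
    · have := congrArg (fun f : Perm {z // ¬ orbPred N x z} => ((f ⟨z, hz⟩ : {z // ¬ orbPred N x z}) : α)) e2
      simpa [f2, resHom_apply] using this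
  haveI := hN
  have nil1 : Group.IsNilpotent f1.range :=
    Group.nilpotent_of_surjective f1.rangeRestrict f1.rangeRestrict_surjective
  have nil2 : Group.IsNilpotent f2.range :=
    Group.nilpotent_of_surjective f2.rangeRestrict f2.rangeRestrict_surjective
  have hle := Nat.card_le_card_of_injective _ hinj
  rw [Nat.card_prod] at hle
  by_cases hs : Function.Surjective φ
  · have alt1 : ∀ g ∈ f1.range, Perm.sign g = 1 := by
      intro g₁ hg₁
      obtain ⟨g, hg⟩ := hs (⟨g₁, hg₁⟩, 1)
      have e1 : f1 g = g₁ := by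
        have := congrArg (fun z : f1.range × f2.range => z.1.1) hg
        simpa [φ] using this
      have e2 : f2 g = 1 := by
        have := congrArg (fun z : f1.range × f2.range => z.2.1) hg
        simpa [φ] using this
      have hfix : ∀ z, (g : Perm α) z ≠ z → orbPred N x z := by
        intro z hz
        by_contra hnz
        apply hz
        have := congrArg (fun f : Perm {z // ¬ orbPred N x z} => ((f ⟨z, hnz⟩ : {z // ¬ orbPred N x z}) : α)) e2
        simpa [f2, resHom_apply] using this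
      rw [← e1]
      have := Perm.sign_subtypePerm (g : Perm α) (fun z => hp g g.2 z) hfix
      rw [show f1 g = (g : Perm α).subtypePerm (fun z => hp g g.2 z) from rfl, this]
      exact hA g g.2
    have alt2 : ∀ g ∈ f2.range, Perm.sign g = 1 := by
      intro g₂ hg₂
      obtain ⟨g, hg⟩ := hs (1, ⟨g₂, hg₂⟩)
      have e1 : f1 g = 1 := by
        have := congrArg (fun z : f1.range × f2.range => z.1.1) hg
        simpa [φ] using this
      have e2 : f2 g = g₂ := by
        have := congrArg (fun z : f1.range × f2.range => z.2.1) hg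
        simpa [φ] using this
      have hfix : ∀ z, (g : Perm α) z ≠ z → ¬ orbPred N x z := by
        intro z hz hnz
        apply hz
        have := congrArg (fun f : Perm {z // orbPred N x z} => ((f ⟨z, hnz⟩ : {z // orbPred N x z}) : α)) e1
        simpa [f1, resHom_apply] using this
      rw [← e2]
      have := Perm.sign_subtypePerm (g : Perm α) (fun z => hp' g g.2 z) hfix
      rw [show f2 g = (g : Perm α).subtypePerm (fun z => hp' g g.2 z) from rfl, this]
      exact hA g g.2
    have b1 := ih _ (by omega) {z // orbPred N x z} rfl f1.range alt1 nil1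
    have b2 := ih _ (by omega) {z // ¬ orbPred N x z} rfl f2.range alt2 nil2
    calc Nat.card N ≤ _ := hle
      _ ≤ BA (Nat.card {z // orbPred N x z}) * BA (Nat.card {z // ¬ orbPred N x z}) :=
          Nat.mul_le_mul b1 b2
      _ ≤ BA (Nat.card {z // orbPred N x z} + Nat.card {z // ¬ orbPred N x z}) :=
          BA_supermul h1 h2
      _ = BA n := by rw [hsum]
  · have hr : φ.range ≠ ⊤ := by rwa [Ne, MonoidHom.range_eq_top]
    have h2' := two_mul_card_le_of_ne_top φ.range hr
    have hc : Nat.card N = Nat.card φ.range := Nat.card_congr (MonoidHom.ofInjective hinj).toEquiv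
    rw [Nat.card_prod] at h2'
    have b1 : Nat.card f1.range ≤ B (Nat.card {z // orbPred N x z}) :=
      card_le_B _ _ rfl f1.range nil1
    have b2 : Nat.card f2.range ≤ B (Nat.card {z // ¬ orbPred N x z}) :=
      card_le_B _ _ rfl f2.range nil2
    apply le_BA_of_two_mul_le
    calc 2 * Nat.card N = 2 * Nat.card φ.range := by rw [hc]
      _ ≤ _ := h2'
      _ ≤ B (Nat.card {z // orbPred N x z}) * B (Nat.card {z // ¬ orbPred N x z}) :=
          Nat.mul_le_mul b1 b2
      _ ≤ B (Nat.card {z // orbPred N x z} + Nat.card {z // ¬ orbPred N x z}) := B_supermul _ _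
      _ = B n := by rw [hsum]

theorem pgroup_case_alt {n : ℕ} {α : Type} [Fintype α] [DecidableEq α] [Nonempty α]
    (hα : Nat.card α = n)
    (N : Subgroup (Perm α)) (hA : ∀ g ∈ N, Perm.sign g = 1)
    (htr : ∀ x y : α, ∃ g ∈ N, g x = y) (p : ℕ) [hp : Fact p.Prime]
    (hPG : IsPGroup p N) : Nat.card N ≤ BA n := by
  obtain ⟨k, hk⟩ := IsPGroup.iff_card.mp hPG
  by_cases h2 : p = 2
  · subst h2
    rcases subsingleton_or_nontrivial α with hs | hnt
    · have : Nat.card N = 1 := Nat.card_of_subsingleton (1 : N)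
      rw [this]; exact BA_pos n
    · have hle : N ≤ alternatingGroup α := fun g hg => Perm.mem_alternatingGroup.mpr (hA g hg)
      have hd := Subgroup.card_dvd_of_le hle
      have h2a := two_mul_nat_card_alternatingGroup (α := α)
      rw [Nat.card_perm, hα] at h2a
      have hdvd : 2 ^ (k + 1) ∣ n.factorial := by
        rw [← h2a, pow_succ, mul_comm, ← hk]; exact Nat.mul_dvd_mul_left 2 hd
      have hk' : k + 1 ≤ e n := (padicValNat_dvd_iff_le (Nat.factorial_ne_zero n)).mp hdvd
      apply le_BA_of_two_mul_le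
      rw [hk]
      calc 2 * 2 ^ k = 2 ^ (k + 1) := by ring
        _ ≤ 2 ^ e n := Nat.pow_le_pow_right (by norm_num) hk'
        _ ≤ B n := two_pow_e_le_B n
  · have hdvd : p ^ k ∣ n.factorial := by
      rw [← hk, ← hα, ← Nat.card_perm]; exact Subgroup.card_subgroup_dvd_card N
    have hk' : k ≤ padicValNat p n.factorial :=
      (padicValNat_dvd_iff_le (Nat.factorial_ne_zero n)).mp hdvd
    have hn : n ∣ p ^ k := by
      obtain ⟨a⟩ := ‹Nonempty α›
      haveI : MulAction.IsPretransitive N α :=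
        ⟨fun x y => by obtain ⟨g, hg, h⟩ := htr x y; exact ⟨⟨g, hg⟩, h⟩⟩
      have h1 : (MulAction.stabilizer N a).index = Nat.card α :=
        MulAction.index_stabilizer_of_transitive (G := N) (x := a)
      rw [← hk, ← hα, ← h1]
      exact Subgroup.index_dvd_card _
    obtain ⟨a', _, rfl⟩ := (Nat.dvd_prime_pow hp.out).mp hn
    rcases Nat.eq_zero_or_pos a' with rfl | ha'
    · simp only [pow_zero, Nat.factorial_one, padicValNat_one_right] at hk'
      rw [hk]
      have : k = 0 := by omega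
      subst this
      simp only [pow_zero]
      exact BA_pos 1
    · rw [hk]
      calc p ^ k ≤ p ^ F p a' := Nat.pow_le_pow_right hp.out.pos hk'
        _ ≤ _ := AL' p a' h2 ha'

theorem split_case_prod {n : ℕ} {α : Type} [Finite α] (hα : Nat.card α = n)
    (N : Subgroup (Perm α)) (hN : Group.IsNilpotent N)
    (htr : ∀ x y : α, ∃ g ∈ N, g x = y)
    (hnp : ¬ ∃ p : ℕ, p.Prime ∧ IsPGroup p N) :
    ∃ x y : ℕ, 2 ≤ x ∧ 2 ≤ y ∧ x * y ≤ n ∧ Nat.card N ≤ B x * B y := by
  classical
  have hc1 : Nat.card N ≠ 1 := by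
    intro h
    exact hnp ⟨2, Nat.prime_two, IsPGroup.of_card (n := 0) (by simpa using h)⟩
  obtain ⟨p, hp, hpd⟩ := Nat.exists_prime_and_dvd hc1
  haveI := Fact.mk hp
  obtain ⟨P, R, hPN, hRN, hPp, hcop, hcomm, hprod, hcard, hPne⟩ :=
    exists_decomp_subgroup N hN p
  have hP1 : P ≠ ⊥ := hPne hpd
  have hR1 : R ≠ ⊥ := by
    intro h
    obtain ⟨j, hj⟩ := IsPGroup.iff_card.mp hPp
    apply hnp
    refine ⟨p, hp, IsPGroup.of_card (n := j) ?_⟩
    rw [hcard, h, Subgroup.card_bot, mul_one, hj]
  rcases isEmpty_or_nonempty α with hE | ⟨⟨a₀⟩⟩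
  · exact absurd (Subgroup.eq_bot_of_subsingleton P) hP1
  have hcomm' : ∀ a ∈ R, ∀ c ∈ P, a * c = c * a := fun a ha c hc => (hcomm c hc a ha).symm
  have htrP : ∀ y : α, ∃ a ∈ P, ∃ c ∈ R, c (a a₀) = y := by
    intro y
    obtain ⟨g, hg, h⟩ := htr a₀ y
    obtain ⟨u, hu, r, hr, rfl⟩ := hprod g hg
    refine ⟨u, hu, r, hr, ?_⟩
    rw [hcomm u hu r hr] at h
    simpa [Perm.mul_apply] using h
  have htrR : ∀ y : α, ∃ a ∈ R, ∃ c ∈ P, c (a a₀) = y := by
    intro y
    obtain ⟨g, hg, h⟩ := htr a₀ y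
    obtain ⟨u, hu, r, hr, rfl⟩ := hprod g hg
    exact ⟨r, hr, u, hu, by simpa [Perm.mul_apply] using h⟩
  have injP := resHom_orb_injective P R a₀ hcomm htrP
  have injR := resHom_orb_injective R P a₀ hcomm' htrR
  have hxy : Nat.card {z // orbPred P a₀ z} * Nat.card {z // orbPred R a₀ z} ≤ n := by
    rw [← hα, ← Nat.card_prod]
    let ψ : {z // orbPred P a₀ z} × {z // orbPred R a₀ z} → α :=
      fun zw => (Classical.choose zw.1.2) ((Classical.choose zw.2.2) a₀)
    apply Nat.card_le_card_of_injective ψ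
    rintro ⟨z, w⟩ ⟨z', w'⟩ h
    obtain ⟨huP, huz⟩ := Classical.choose_spec z.2
    obtain ⟨hrR, hrw⟩ := Classical.choose_spec w.2
    obtain ⟨huP', huz'⟩ := Classical.choose_spec z'.2
    obtain ⟨hrR', hrw'⟩ := Classical.choose_spec w'.2
    simp only [ψ] at h
    set uz := Classical.choose z.2
    set rw_ := Classical.choose w.2
    set uz' := Classical.choose z'.2
    set rw' := Classical.choose w'.2
    have key : (uz'⁻¹ * uz) ((rw'⁻¹ * rw_) a₀) = a₀ := by
      have c1 : (uz'⁻¹ * uz) * (rw'⁻¹ * rw_) = rw'⁻¹ * uz'⁻¹ * (uz * rw_) := by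
        have hc : Commute (uz'⁻¹ * uz) rw'⁻¹ :=
          (hcomm _ (P.mul_mem (P.inv_mem huP') huP) _ (R.inv_mem hrR'))
        calc (uz'⁻¹ * uz) * (rw'⁻¹ * rw_) = ((uz'⁻¹ * uz) * rw'⁻¹) * rw_ := by group
          _ = (rw'⁻¹ * (uz'⁻¹ * uz)) * rw_ := by rw [hc.eq]
          _ = rw'⁻¹ * uz'⁻¹ * (uz * rw_) := by group
      have c2 : (uz * rw_) a₀ = (uz' * rw') a₀ := by simpa [Perm.mul_apply] using h
      have c3 : ((uz'⁻¹ * uz) * (rw'⁻¹ * rw_)) a₀ = a₀ := by
        rw [c1, Perm.mul_apply, c2]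
        simp [Perm.mul_apply]
      simpa [Perm.mul_apply] using c3
    obtain ⟨k1, k2⟩ := split_fix P R hcop hcomm a₀ _ _ (P.mul_mem (P.inv_mem huP') huP)
      (R.mul_mem (R.inv_mem hrR') hrR) key
    have e1 : (z : α) = z' := by
      rw [← huz, ← huz']
      have h3 : uz'⁻¹ (uz a₀) = a₀ := by simpa [Perm.mul_apply] using k1
      have h4 := congrArg uz' h3
      simpa using h4
    have e2 : (w : α) = w' := by
      rw [← hrw, ← hrw']
      have h3 : rw'⁻¹ (rw_ a₀) = a₀ := by simpa [Perm.mul_apply] using k2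
      have h4 := congrArg rw' h3
      simpa using h4
    exact Prod.ext (Subtype.ext e1) (Subtype.ext e2)
  have two_le : ∀ (A C : Subgroup (Perm α)), A ≠ ⊥ → (∀ a ∈ A, ∀ c ∈ C, a * c = c * a) →
      (∀ y : α, ∃ a ∈ A, ∃ c ∈ C, c (a a₀) = y) → 2 ≤ Nat.card {z // orbPred A a₀ z} := by
    intro A C hA hAC hAtr
    by_contra hlt
    have hle : Nat.card {z // orbPred A a₀ z} ≤ 1 := by omega
    haveI : Subsingleton {z // orbPred A a₀ z} := Finite.card_le_one_iff_subsingleton.mp hle
    apply hA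
    rw [eq_bot_iff]
    intro u hu
    rw [Subgroup.mem_bot]
    apply faithful_on_orbit A C a₀ hAC hAtr u hu
    intro a ha
    have : (⟨u (a a₀), u * a, A.mul_mem hu ha, rfl⟩ : {z // orbPred A a₀ z}) = ⟨a a₀, a, ha, rfl⟩ :=
      Subsingleton.elim _ _
    exact congrArg Subtype.val this
  have hx2 := two_le P R hP1 hcomm htrP
  have hy2 := two_le R P hR1 hcomm' htrR
  have hPnil : Group.IsNilpotent P := hPp.isNilpotent
  have hRnil : Group.IsNilpotent R := by
    haveI := hN
    exact Group.nilpotent_of_mulEquiv (Subgroup.subgroupOfEquivOfLe hRN)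
  have cP : Nat.card P = Nat.card (resHom P (orbPred P a₀) (orbPred_inv P a₀)).range :=
    Nat.card_congr (MonoidHom.ofInjective injP).toEquiv
  have cR : Nat.card R = Nat.card (resHom R (orbPred R a₀) (orbPred_inv R a₀)).range :=
    Nat.card_congr (MonoidHom.ofInjective injR).toEquiv
  have bP : Nat.card (resHom P (orbPred P a₀) (orbPred_inv P a₀)).range ≤
      B (Nat.card {z // orbPred P a₀ z}) := by
    haveI := hPnil
    exact card_le_B _ _ rfl _ (Group.nilpotent_of_surjective
      (resHom P (orbPred P a₀) (orbPred_inv P a₀)).rangeRestrict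
      (resHom P (orbPred P a₀) (orbPred_inv P a₀)).rangeRestrict_surjective)
  have bR : Nat.card (resHom R (orbPred R a₀) (orbPred_inv R a₀)).range ≤
      B (Nat.card {z // orbPred R a₀ z}) := by
    haveI := hRnil
    exact card_le_B _ _ rfl _ (Group.nilpotent_of_surjective
      (resHom R (orbPred R a₀) (orbPred_inv R a₀)).rangeRestrict
      (resHom R (orbPred R a₀) (orbPred_inv R a₀)).rangeRestrict_surjective)
  refine ⟨_, _, hx2, hy2, hxy, ?_⟩
  rw [hcard, cP, cR]
  exact Nat.mul_le_mul bP bR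

theorem card_le_BA : ∀ n : ℕ, ∀ (α : Type) [Fintype α] [DecidableEq α], Nat.card α = n →
    ∀ N : Subgroup (Perm α), (∀ g ∈ N, Perm.sign g = 1) → Group.IsNilpotent N →
      Nat.card N ≤ BA n := by
  intro n
  induction n using Nat.strong_induction_on with
  | _ n ih =>
  intro α _ _ hα N hA hN
  have ih' : IHA n := fun m hm β _ _ hβ M hMA hM => ih m hm β hβ M hMA hM
  by_cases htr : ∀ x y : α, ∃ g ∈ N, g x = y
  · by_cases hpg : ∃ p : ℕ, p.Prime ∧ IsPGroup p N
    · obtain ⟨p, hp, hPG⟩ := hpg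
      haveI := Fact.mk hp
      rcases isEmpty_or_nonempty α with hE | hne
      · have : Nat.card N = 1 := Nat.card_of_subsingleton (1 : N)
        rw [this]; exact BA_pos n
      · exact pgroup_case_alt hα N hA htr p hPG
    · obtain ⟨x, y, hx, hy, hxy, hle⟩ := split_case_prod hα N hN htr hpg
      apply le_BA_of_two_mul_le
      calc 2 * Nat.card N ≤ 2 * (B x * B y) := Nat.mul_le_mul_left _ hle
        _ ≤ B (x * y) := two_B_mul_le hx hy
        _ ≤ B n := B_mono hxy
  · push Not at htr
    obtain ⟨x, y, hxy⟩ := htr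
    exact intrans_case_alt ih' hα N hA hN x y hxy

end Cfsg.Agent.Lead.NilpAlt
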