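import Cfsg.Agent.Lead.AbAltA
import Cfsg.Agent.Lead.NilpAltB

/-! Upper bounds for abelian subgroups of symmetric and alternating groups. -/

namespace Cfsg.Agent.Lead.AbAlt

open Cfsg.Agent.Lead.NilpSym Cfsg.Agent.Lead.NilpAlt Equiv

/-- A transitive abelian permutation group has order at most the degree. -/
theorem trans_card_le {α : Type} [Finite α] (A : Subgroup (Perm α))
    (hc : ∀ a ∈ A, ∀ b ∈ A, a * b = b * a) (htr : ∀ x y : α, ∃ g ∈ A, g x = y) (a₀ : α) :
    Nat.card A ≤ Nat.card α := by
  apply Nat.card_le_card_of_injective (fun g : A => (g : Perm α) a₀)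
  intro g h hgh
  simp only at hgh
  apply Subtype.ext
  ext y
  obtain ⟨u, hu, rfl⟩ := htr a₀ y
  have h1 : (g : Perm α) (u a₀) = u ((g : Perm α) a₀) := by
    have := congrArg (fun f : Perm α => f a₀) (hc g g.2 u hu)
    simpa [Perm.mul_apply] using this
  have h2 : (h : Perm α) (u a₀) = u ((h : Perm α) a₀) := by
    have := congrArg (fun f : Perm α => f a₀) (hc h h.2 u hu)
    simpa [Perm.mul_apply] using this
  rw [h1, h2, hgh]

theorem range_comm {G H : Type*} [Group G] [Group H] (A : Subgroup G)
    (hc : ∀ a ∈ A, ∀ b ∈ A, a * b = b * a) (φ : A →* H) :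
    ∀ u ∈ φ.range, ∀ v ∈ φ.range, u * v = v * u := by
  rintro _ ⟨g, rfl⟩ _ ⟨h, rfl⟩
  rw [← map_mul, ← map_mul]
  congr 1
  exact Subtype.ext (hc g g.2 h h.2)

theorem card_le_f : ∀ n : ℕ, ∀ (α : Type) [Finite α], Nat.card α = n →
    ∀ A : Subgroup (Perm α), (∀ a ∈ A, ∀ b ∈ A, a * b = b * a) → Nat.card A ≤ f n := by
  intro n
  induction n using Nat.strong_induction_on with
  | _ n ih =>
  intro α _ hα N hc
  classical
  by_cases htr : ∀ x y : α, ∃ g ∈ N, g x = y
  · rcases isEmpty_or_nonempty α with hE | ⟨⟨a₀⟩⟩
    · have : Nat.card N = 1 := Nat.card_of_subsingleton (1 : N)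
      rw [this]; exact f_pos n
    · have h1 := trans_card_le N hc htr a₀
      have hpos : 1 ≤ n := by
        haveI : Nonempty α := ⟨a₀⟩
        rw [← hα]; exact Nat.card_pos
      rw [hα] at h1
      exact le_trans h1 (le_f n hpos)
  · push Not at htr
    obtain ⟨x, y, hxy⟩ := htr
    have hp := orbPred_inv N x
    have hp' : ∀ g ∈ N, ∀ z, ¬ orbPred N x (g z) ↔ ¬ orbPred N x z :=
      fun g hg z => not_congr (hp g hg z)
    have hsum : Nat.card {z // orbPred N x z} + Nat.card {z // ¬ orbPred N x z} = n := by
      rw [← hα, ← Nat.card_sum]; exact Nat.card_congr (Equiv.sumCompl (orbPred N x))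
    have h1 : 0 < Nat.card {z // orbPred N x z} := by
      haveI : Nonempty {z // orbPred N x z} := ⟨⟨x, orbPred_self N x⟩⟩
      exact Nat.card_pos
    have h2 : 0 < Nat.card {z // ¬ orbPred N x z} := by
      haveI : Nonempty {z // ¬ orbPred N x z} := ⟨⟨y, fun ⟨g, hg, h⟩ => hxy g hg h⟩⟩
      exact Nat.card_pos
    let f1 := resHom N (orbPred N x) hp
    let f2 := resHom N (fun z => ¬ orbPred N x z) hp'
    let φ : N →* f1.range × f2.range := f1.rangeRestrict.prod f2.rangeRestrict
    have hinj : Function.Injective φ := by
      intro g h hgh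
      have e1 : f1 g = f1 h := by
        have := congrArg (fun z : f1.range × f2.range => z.1.1) hgh
        simpa [φ] using this
      have e2 : f2 g = f2 h := by
        have := congrArg (fun z : f1.range × f2.range => z.2.1) hgh
        simpa [φ] using this
      apply Subtype.ext
      ext z
      by_cases hz : orbPred N x z
      · have := congrArg (fun f : Perm {z // orbPred N x z} => ((f ⟨z, hz⟩ : {z // orbPred N x z}) : α)) e1
        simpa [f1, resHom_apply] using this
      · have := congrArg (fun f : Perm {z // ¬ orbPred N x z} => ((f ⟨z, hz⟩ : {z // ¬ orbPred N x z}) : α)) e2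
        simpa [f2, resHom_apply] using this
    have hle := Nat.card_le_card_of_injective _ hinj
    rw [Nat.card_prod] at hle
    have b1 := ih _ (by omega) {z // orbPred N x z} rfl f1.range (range_comm N hc f1)
    have b2 := ih _ (by omega) {z // ¬ orbPred N x z} rfl f2.range (range_comm N hc f2)
    calc Nat.card N ≤ _ := hle
      _ ≤ f (Nat.card {z // orbPred N x z}) * f (Nat.card {z // ¬ orbPred N x z}) :=
          Nat.mul_le_mul b1 b2
      _ ≤ f (Nat.card {z // orbPred N x z} + Nat.card {z // ¬ orbPred N x z}) :=
          f_supermul _ _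
      _ = f n := by rw [hsum]

theorem card_le_g : ∀ n : ℕ, ∀ (α : Type) [Fintype α] [DecidableEq α], Nat.card α = n →
    ∀ A : Subgroup (Perm α), (∀ g ∈ A, Perm.sign g = 1) →
      (∀ a ∈ A, ∀ b ∈ A, a * b = b * a) → Nat.card A ≤ g n := by
  intro n
  induction n using Nat.strong_induction_on with
  | _ n ih =>
  intro α _ _ hα N hA hc
  classical
  rcases Nat.lt_or_ge n 3 with hn3 | hn3
  · -- the alternating group is trivial
    have hle : N ≤ alternatingGroup α := fun g hg => Perm.mem_alternatingGroup.mpr (hA g hg)
    have hd := Subgroup.card_dvd_of_le hle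
    have halt : Nat.card (alternatingGroup α) = 1 := by
      rcases subsingleton_or_nontrivial α with hs | hnt
      · exact Nat.card_of_subsingleton (1 : alternatingGroup α)
      · have h2a := two_mul_nat_card_alternatingGroup (α := α)
        rw [Nat.card_perm, hα] at h2a
        have : 1 < n := by rw [← hα]; exact Finite.one_lt_card
        have hn2 : n = 2 := by omega
        rw [hn2] at h2a
        simpa using h2a
    rw [halt] at hd
    have : Nat.card N = 1 := Nat.dvd_one.mp hd
    rw [this]; exact g_pos n
  by_cases htr : ∀ x y : α, ∃ g ∈ N, g x = y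
  · rcases isEmpty_or_nonempty α with hE | ⟨⟨a₀⟩⟩
    · have : Nat.card N = 1 := Nat.card_of_subsingleton (1 : N)
      rw [this]; exact g_pos n
    · have h1 := trans_card_le N hc htr a₀
      rw [hα] at h1
      exact le_trans h1 (le_g n (by omega) (by omega))
  · push Not at htr
    obtain ⟨x, y, hxy⟩ := htr
    have hp := orbPred_inv N x
    have hp' : ∀ g ∈ N, ∀ z, ¬ orbPred N x (g z) ↔ ¬ orbPred N x z :=
      fun g hg z => not_congr (hp g hg z)
    have hsum : Nat.card {z // orbPred N x z} + Nat.card {z // ¬ orbPred N x z} = n := by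
      rw [← hα, ← Nat.card_sum]; exact Nat.card_congr (Equiv.sumCompl (orbPred N x))
    have h1 : 0 < Nat.card {z // orbPred N x z} := by
      haveI : Nonempty {z // orbPred N x z} := ⟨⟨x, orbPred_self N x⟩⟩
      exact Nat.card_pos
    have h2 : 0 < Nat.card {z // ¬ orbPred N x z} := by
      haveI : Nonempty {z // ¬ orbPred N x z} := ⟨⟨y, fun ⟨g, hg, h⟩ => hxy g hg h⟩⟩
      exact Nat.card_pos
    let f1 := resHom N (orbPred N x) hp
    let f2 := resHom N (fun z => ¬ orbPred N x z) hp'
    let φ : N →* f1.range × f2.range := f1.rangeRestrict.prod f2.rangeRestrict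
    have hinj : Function.Injective φ := by
      intro g h hgh
      have e1 : f1 g = f1 h := by
        have := congrArg (fun z : f1.range × f2.range => z.1.1) hgh
        simpa [φ] using this
      have e2 : f2 g = f2 h := by
        have := congrArg (fun z : f1.range × f2.range => z.2.1) hgh
        simpa [φ] using this
      apply Subtype.ext
      ext z
      by_cases hz : orbPred N x z
      · have := congrArg (fun f : Perm {z // orbPred N x z} => ((f ⟨z, hz⟩ : {z // orbPred N x z}) : α)) e1
        simpa [f1, resHom_apply] using this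
      · have := congrArg (fun f : Perm {z // ¬ orbPred N x z} => ((f ⟨z, hz⟩ : {z // ¬ orbPred N x z}) : α)) e2
        simpa [f2, resHom_apply] using this
    have hle := Nat.card_le_card_of_injective _ hinj
    rw [Nat.card_prod] at hle
    have c1 := range_comm N hc f1
    have c2 := range_comm N hc f2
    by_cases hs : Function.Surjective φ
    · have alt1 : ∀ g ∈ f1.range, Perm.sign g = 1 := by
        intro g₁ hg₁
        obtain ⟨g, hg⟩ := hs (⟨g₁, hg₁⟩, 1)
        have e1 : f1 g = g₁ := by
          have := congrArg (fun z : f1.range × f2.range => z.1.1) hg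
          simpa [φ] using this
        have e2 : f2 g = 1 := by
          have := congrArg (fun z : f1.range × f2.range => z.2.1) hg
          simpa [φ] using this
        have hfix : ∀ z, (g : Perm α) z ≠ z → orbPred N x z := by
          intro z hz
          by_contra hnz
          apply hz
          have := congrArg (fun f : Perm {z // ¬ orbPred N x z} => ((f ⟨z, hnz⟩ : {z // ¬ orbPred N x z}) : α)) e2
          simpa [f2, resHom_apply] using this
        rw [← e1]
        have := Perm.sign_subtypePerm (g : Perm α) (fun z => hp g g.2 z) hfix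
        rw [show f1 g = (g : Perm α).subtypePerm (fun z => hp g g.2 z) from rfl, this]
        exact hA g g.2
      have alt2 : ∀ g ∈ f2.range, Perm.sign g = 1 := by
        intro g₂ hg₂
        obtain ⟨g, hg⟩ := hs (1, ⟨g₂, hg₂⟩)
        have e1 : f1 g = 1 := by
          have := congrArg (fun z : f1.range × f2.range => z.1.1) hg
          simpa [φ] using this
        have e2 : f2 g = g₂ := by
          have := congrArg (fun z : f1.range × f2.range => z.2.1) hg
          simpa [φ] using this
        have hfix : ∀ z, (g : Perm α) z ≠ z → ¬ orbPred N x z := by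
          intro z hz hnz
          apply hz
          have := congrArg (fun f : Perm {z // orbPred N x z} => ((f ⟨z, hnz⟩ : {z // orbPred N x z}) : α)) e1
          simpa [f1, resHom_apply] using this
        rw [← e2]
        have := Perm.sign_subtypePerm (g : Perm α) (fun z => hp' g g.2 z) hfix
        rw [show f2 g = (g : Perm α).subtypePerm (fun z => hp' g g.2 z) from rfl, this]
        exact hA g g.2
      have b1 := ih _ (by omega) {z // orbPred N x z} rfl f1.range alt1 c1
      have b2 := ih _ (by omega) {z // ¬ orbPred N x z} rfl f2.range alt2 c2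
      calc Nat.card N ≤ _ := hle
        _ ≤ g (Nat.card {z // orbPred N x z}) * g (Nat.card {z // ¬ orbPred N x z}) :=
            Nat.mul_le_mul b1 b2
        _ ≤ g (Nat.card {z // orbPred N x z} + Nat.card {z // ¬ orbPred N x z}) :=
            g_supermul _ _ h1 h2
        _ = g n := by rw [hsum]
    · have hr : φ.range ≠ ⊤ := by rwa [Ne, MonoidHom.range_eq_top]
      have h2' := two_mul_card_le_of_ne_top φ.range hr
      have hcard : Nat.card N = Nat.card φ.range :=
        Nat.card_congr (MonoidHom.ofInjective hinj).toEquiv
      rw [Nat.card_prod] at h2'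
      have b1 : Nat.card f1.range ≤ f (Nat.card {z // orbPred N x z}) :=
        card_le_f _ _ rfl f1.range c1
      have b2 : Nat.card f2.range ≤ f (Nat.card {z // ¬ orbPred N x z}) :=
        card_le_f _ _ rfl f2.range c2
      have h3 : 2 * Nat.card N ≤ 2 * g n := by
        calc 2 * Nat.card N = 2 * Nat.card φ.range := by rw [hcard]
          _ ≤ _ := h2'
          _ ≤ f (Nat.card {z // orbPred N x z}) * f (Nat.card {z // ¬ orbPred N x z}) :=
              Nat.mul_le_mul b1 b2
          _ ≤ f (Nat.card {z // orbPred N x z} + Nat.card {z // ¬ orbPred N x z}) :=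
              f_supermul _ _
          _ = f n := by rw [hsum]
          _ ≤ 2 * g n := f_le_two_g n
      omega

end Cfsg.Agent.Lead.AbAlt
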