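import Cfsg.Agent.Lead.AbAltB

/-! Existence of large abelian subgroups of alternating groups, and the final statement. -/

namespace Cfsg.Agent.Lead.AbAlt

open Equiv

/-- Achievability: an abelian subgroup of even permutations of degree `n` and order `c`. -/
def Ach (n c : ℕ) : Prop := ∃ A : Subgroup (Perm (Fin n)), (∀ g ∈ A, Perm.sign g = 1) ∧
  (∀ a ∈ A, ∀ b ∈ A, a * b = b * a) ∧ Nat.card A = c

theorem ach_zero : Ach 0 1 := by
  refine ⟨⊥, ?_, ?_, by simp⟩
  · intro g hg; rw [Subgroup.mem_bot] at hg; subst hg; simp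
  · intro a ha b hb
    rw [Subgroup.mem_bot] at ha hb; subst ha; subst hb; rfl

theorem ach_add {a b c d : ℕ} (h1 : Ach a c) (h2 : Ach b d) : Ach (a + b) (c * d) := by
  obtain ⟨A₁, s1, c1, k1⟩ := h1
  obtain ⟨A₂, s2, c2, k2⟩ := h2
  let ψ : Perm (Fin a) × Perm (Fin b) →* Perm (Fin (a + b)) :=
    (finSumFinEquiv.permCongrHom).toMonoidHom.comp (Perm.sumCongrHom (Fin a) (Fin b))
  have hψ : Function.Injective ψ :=
    (finSumFinEquiv.permCongrHom).injective.comp Perm.sumCongrHom_injective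
  refine ⟨(A₁.prod A₂).map ψ, ?_, ?_, ?_⟩
  · rintro _ ⟨⟨u, v⟩, ⟨hu, hv⟩, rfl⟩
    show Perm.sign (finSumFinEquiv.permCongr (Perm.sumCongr u v)) = 1
    rw [Perm.sign_permCongr, Perm.sign_sumCongr, s1 u hu, s2 v hv, one_mul]
  · rintro _ ⟨⟨u, v⟩, ⟨hu, hv⟩, rfl⟩ _ ⟨⟨u', v'⟩, ⟨hu', hv'⟩, rfl⟩
    rw [← map_mul, ← map_mul]
    congr 1
    exact Prod.ext (c1 u hu u' hu') (c2 v hv v' hv')
  · rw [Subgroup.card_map_of_injective hψ, Nat.card_congr (Subgroup.prodEquiv A₁ A₂).toEquiv,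
      Nat.card_prod, k1, k2]

theorem ach_three : Ach 3 3 := by
  refine ⟨alternatingGroup (Fin 3), fun g hg => Perm.mem_alternatingGroup.mp hg, ?_, ?_⟩
  · have : ∀ a b : Perm (Fin 3), Perm.sign a = 1 → Perm.sign b = 1 → a * b = b * a := by decide
    intro a ha b hb
    exact this a b (Perm.mem_alternatingGroup.mp ha) (Perm.mem_alternatingGroup.mp hb)
  · rw [nat_card_alternatingGroup]; simp; decide

theorem ach_four : Ach 4 4 := by
  have h4 : Nat.card (Fin 4) = 4 := by simp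
  have hinj : Function.Injective (alternatingGroup (Fin 4)).subtype := Subtype.coe_injective
  refine ⟨(alternatingGroup.kleinFour (Fin 4)).map (alternatingGroup (Fin 4)).subtype, ?_, ?_, ?_⟩
  · rintro _ ⟨a, _, rfl⟩
    exact Perm.mem_alternatingGroup.mp a.2
  · rintro _ ⟨a, ha, rfl⟩ _ ⟨b, hb, rfl⟩
    rw [← map_mul, ← map_mul]
    congr 1
    have hexp := alternatingGroup.exponent_kleinFour_of_card_eq_four h4
    have := mul_comm_of_exponent_two hexp ⟨a, ha⟩ ⟨b, hb⟩
    exact congrArg Subtype.val this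
  · rw [Subgroup.card_map_of_injective hinj]
    exact alternatingGroup.kleinFour_card_of_card_eq_four h4

theorem ach_three_mul (k : ℕ) : Ach (3 * k) (3 ^ k) := by
  induction k with
  | zero => simpa using ach_zero
  | succ k ih =>
    have := ach_add ih ach_three
    have e1 : 3 * (k + 1) = 3 * k + 3 := by ring
    rw [e1, pow_succ]
    exact this

theorem ach_three_mul_add_one {k : ℕ} (hk : 1 ≤ k) : Ach (3 * k + 1) (4 * 3 ^ (k - 1)) := by
  obtain ⟨j, rfl⟩ : ∃ j, k = j + 1 := ⟨k - 1, by omega⟩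
  have := ach_add ach_four (ach_three_mul j)
  have e1 : 3 * (j + 1) + 1 = 4 + 3 * j := by ring
  rw [e1]
  simpa using this

theorem ach_three_mul_add_two {k : ℕ} (hk : 2 ≤ k) : Ach (3 * k + 2) (16 * 3 ^ (k - 2)) := by
  obtain ⟨j, rfl⟩ : ∃ j, k = j + 2 := ⟨k - 2, by omega⟩
  have := ach_add (ach_add ach_four ach_four) (ach_three_mul j)
  have e1 : 3 * (j + 2) + 2 = 4 + 4 + 3 * j := by ring
  rw [e1]
  simpa using this

/-- Conversion to subgroups of the alternating group. -/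
theorem ach_to_alt {n c : ℕ} (h : Ach n c) :
    ∃ A : Subgroup (alternatingGroup (Fin n)), IsMulCommutative A ∧ Nat.card A = c := by
  obtain ⟨A, s, hc, k⟩ := h
  have hle : A ≤ alternatingGroup (Fin n) := fun g hg => Perm.mem_alternatingGroup.mpr (s g hg)
  refine ⟨A.subgroupOf (alternatingGroup (Fin n)), ⟨⟨fun a b => ?_⟩⟩, ?_⟩
  · apply Subtype.ext
    apply Subtype.ext
    exact hc _ a.2 _ b.2
  · rw [Nat.card_congr (Subgroup.subgroupOfEquivOfLe hle).toEquiv, k]

/-- The upper bound for subgroups of the alternating group. -/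
theorem alt_le_g (n : ℕ) (A : Subgroup (alternatingGroup (Fin n))) (hA : IsMulCommutative A) :
    Nat.card A ≤ g n := by
  have hinj : Function.Injective (alternatingGroup (Fin n)).subtype := Subtype.coe_injective
  have hcard : Nat.card (A.map (alternatingGroup (Fin n)).subtype) = Nat.card A :=
    Subgroup.card_map_of_injective hinj
  rw [← hcard]
  apply card_le_g n (Fin n) (by simp)
  · rintro _ ⟨a, _, rfl⟩
    exact Perm.mem_alternatingGroup.mp a.2
  · rintro _ ⟨a, ha, rfl⟩ _ ⟨b, hb, rfl⟩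
    rw [← map_mul, ← map_mul]
    congr 1
    have := hA.is_comm.comm ⟨a, ha⟩ ⟨b, hb⟩
    exact congrArg Subtype.val this

theorem main (k : ℕ) (hk : 2 ≤ k) :
    IsGreatest {c : ℕ | ∃ A : Subgroup (alternatingGroup (Fin (3 * k))),
      IsMulCommutative A ∧ Nat.card A = c} (3 ^ k) ∧
    IsGreatest {c : ℕ | ∃ A : Subgroup (alternatingGroup (Fin (3 * k + 1))),
      IsMulCommutative A ∧ Nat.card A = c} (4 * 3 ^ (k - 1)) ∧
    IsGreatest {c : ℕ | ∃ A : Subgroup (alternatingGroup (Fin (3 * k + 2))),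
      IsMulCommutative A ∧ Nat.card A = c} (16 * 3 ^ (k - 2)) := by
  refine ⟨⟨ach_to_alt (ach_three_mul k), ?_⟩, ⟨ach_to_alt (ach_three_mul_add_one (by omega)), ?_⟩,
    ⟨ach_to_alt (ach_three_mul_add_two hk), ?_⟩⟩
  · rintro c ⟨A, hA, rfl⟩
    rw [← g_three_mul hk]; exact alt_le_g _ A hA
  · rintro c ⟨A, hA, rfl⟩
    rw [← g_three_mul_add_one hk]; exact alt_le_g _ A hA
  · rintro c ⟨A, hA, rfl⟩
    rw [← g_three_mul_add_two hk]; exact alt_le_g _ A hA

end Cfsg.Agent.Lead.AbAlt
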