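import Mathlib

set_option autoImplicit false

/-! General lemmas: subgroups of prime index, and Brodkey's theorem on abelian Sylow subgroups. -/

namespace Cfsg.Agent.Lead.AbIdx

/-- Modulo a normal subgroup of prime index, every element is a power of a fixed outside
element. -/
lemma exists_pow_mul_of_index_prime {G : Type*} [Group G] {p : ℕ} [hp : Fact p.Prime]
    (H : Subgroup G) [H.Normal] (hidx : H.index = p) {x : G} (hx : x ∉ H) (g : G) :
    ∃ i : ℕ, ∃ h ∈ H, g = x ^ i * h := by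
  have hcard : Nat.card (G ⧸ H) = p := by
    rw [← Subgroup.index_eq_card]; exact hidx
  haveI : Finite (G ⧸ H) := Nat.finite_of_card_ne_zero (by rw [hcard]; exact hp.out.ne_zero)
  have hx1 : (x : G ⧸ H) ≠ 1 := by
    intro h1
    rw [QuotientGroup.eq_one_iff] at h1
    exact hx h1
  have htop := zpowers_eq_top_of_prime_card hcard hx1
  have hmem : (g : G ⧸ H) ∈ Subgroup.zpowers (x : G ⧸ H) := by
    rw [htop]; exact Subgroup.mem_top _
  obtain ⟨i, hi⟩ := mem_powers_iff_mem_zpowers.mpr hmem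
  refine ⟨i, (x ^ i)⁻¹ * g, ?_, by group⟩
  have h2 : ((x ^ i : G) : G ⧸ H) = (g : G ⧸ H) := by
    rw [QuotientGroup.mk_pow]; exact hi
  rw [QuotientGroup.eq] at h2
  exact h2

/-- The `p`-th power of any element lies in a normal subgroup of index `p`. -/
lemma pow_mem_of_index_prime {G : Type*} [Group G] {p : ℕ} (H : Subgroup G) [H.Normal]
    (hidx : H.index = p) (g : G) : g ^ p ∈ H := by
  have := Subgroup.pow_index_mem H g
  rwa [hidx] at this

section Brodkey

variable {G : Type*} [Group G] {p : ℕ}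

lemma mem_smul_sylow {g x : G} {P : Sylow p G} :
    x ∈ (g • P : Sylow p G) ↔ g⁻¹ * x * g ∈ P := by
  have h1 : x ∈ (g • P : Sylow p G) ↔ x ∈ ((g • P : Sylow p G) : Subgroup G) := Iff.rfl
  rw [h1, Sylow.coe_subgroup_smul, Subgroup.mem_pointwise_smul_iff_inv_smul_mem]
  simp only [MulAut.smul_def, map_inv, MulAut.inv_apply, MulAut.conj_symm_apply]
  rfl

variable [Finite G] [hp : Fact p.Prime]

/-- **Brodkey's theorem** (special case): if the Sylow `p`-subgroups are abelian and there is no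
nontrivial normal `p`-subgroup, then two Sylow `p`-subgroups intersect trivially. -/
theorem brodkey (T : Sylow p G)
    (hab : ∀ a ∈ T, ∀ b ∈ T, a * b = b * a)
    (hcore : ∀ K : Subgroup G, K.Normal → IsPGroup p K → K = ⊥) :
    ∃ g : G, ∀ x ∈ T, x ∈ (g • T : Sylow p G) → x = 1 := by
  -- all Sylow subgroups are abelian
  have habR : ∀ R : Sylow p G, ∀ a ∈ R, ∀ b ∈ R, a * b = b * a := by
    intro R a ha b hb
    obtain ⟨g, rfl⟩ := MulAction.exists_smul_eq G T R
    rw [mem_smul_sylow] at ha hb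
    have := hab _ ha _ hb
    have h2 : g⁻¹ * (a * b) * g = g⁻¹ * (b * a) * g := by
      calc g⁻¹ * (a * b) * g = (g⁻¹ * a * g) * (g⁻¹ * b * g) := by group
        _ = (g⁻¹ * b * g) * (g⁻¹ * a * g) := this
        _ = g⁻¹ * (b * a) * g := by group
    have h3 := mul_right_cancel h2
    exact mul_left_cancel h3
  -- a pair of Sylow subgroups with minimal intersection
  obtain ⟨⟨T₁, T₂⟩, hmin⟩ := Finite.exists_min
    (fun q : Sylow p G × Sylow p G => Nat.card ↥((q.1 : Subgroup G) ⊓ (q.2 : Subgroup G)))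
  have hmin' : ∀ R₁ R₂ : Sylow p G, Nat.card ↥((T₁ : Subgroup G) ⊓ (T₂ : Subgroup G)) ≤
      Nat.card ↥((R₁ : Subgroup G) ⊓ (R₂ : Subgroup G)) := fun R₁ R₂ => hmin (R₁, R₂)
  -- the intersection lies in every Sylow subgroup
  have hall : ∀ R : Sylow p G, (T₁ : Subgroup G) ⊓ (T₂ : Subgroup G) ≤ (R : Subgroup G) := by
    intro R
    have hT₁N : (T₁ : Subgroup G) ≤
        Subgroup.normalizer (((T₁ : Subgroup G) ⊓ (T₂ : Subgroup G) : Subgroup G) : Set G) := by
      intro a ha
      rw [Subgroup.mem_normalizer_iff]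
      intro d
      constructor
      · intro hd
        have : a * d * a⁻¹ = d := by
          rw [habR T₁ a ha d hd.1, mul_inv_cancel_right]
        rw [this]; exact hd
      · intro hd
        have h1 : a⁻¹ * (a * d * a⁻¹) * a = a * d * a⁻¹ := by
          have := habR T₁ a⁻¹ (T₁.inv_mem ha) _ hd.1
          rw [this, inv_mul_cancel_right]
        have h2 : a⁻¹ * (a * d * a⁻¹) * a = d := by group
        rw [← h2, h1]; exact hd
    have hT₂N : (T₂ : Subgroup G) ≤
        Subgroup.normalizer (((T₁ : Subgroup G) ⊓ (T₂ : Subgroup G) : Subgroup G) : Set G) := by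
      intro a ha
      rw [Subgroup.mem_normalizer_iff]
      intro d
      constructor
      · intro hd
        have : a * d * a⁻¹ = d := by
          rw [habR T₂ a ha d hd.2, mul_inv_cancel_right]
        rw [this]; exact hd
      · intro hd
        have h1 : a⁻¹ * (a * d * a⁻¹) * a = a * d * a⁻¹ := by
          have := habR T₂ a⁻¹ (T₂.inv_mem ha) _ hd.2
          rw [this, inv_mul_cancel_right]
        have h2 : a⁻¹ * (a * d * a⁻¹) * a = d := by group
        rw [← h2, h1]; exact hd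
    -- Sylow theory in the normalizer
    have hRp : IsPGroup p ↥(((R : Subgroup G) ⊓ Subgroup.normalizer
        (((T₁ : Subgroup G) ⊓ (T₂ : Subgroup G) : Subgroup G) : Set G)).subgroupOf
        (Subgroup.normalizer (((T₁ : Subgroup G) ⊓ (T₂ : Subgroup G) : Subgroup G) : Set G))) :=
      (R.isPGroup'.to_le inf_le_left).comap_subtype
    obtain ⟨Q, hQ⟩ := hRp.exists_le_sylow
    obtain ⟨n, hn⟩ := MulAction.exists_smul_eq
      ↥(Subgroup.normalizer (((T₁ : Subgroup G) ⊓ (T₂ : Subgroup G) : Subgroup G) : Set G))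
      (T₁.subtype hT₁N) Q
    -- the conjugate `n⁻¹ • R` meets `T₂` inside `T₁ ⊓ T₂`
    have hle : (((n : G)⁻¹ • R : Sylow p G) : Subgroup G) ⊓ (T₂ : Subgroup G) ≤
        (T₁ : Subgroup G) ⊓ (T₂ : Subgroup G) := by
      intro y hy
      refine ⟨?_, hy.2⟩
      have hy1 : y ∈ ((n : G)⁻¹ • R : Sylow p G) := hy.1
      rw [mem_smul_sylow, inv_inv] at hy1
      have hyN : y ∈ Subgroup.normalizer
          (((T₁ : Subgroup G) ⊓ (T₂ : Subgroup G) : Subgroup G) : Set G) := hT₂N hy.2
      have hnyN : (n : G) * y * (n : G)⁻¹ ∈ Subgroup.normalizer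
          (((T₁ : Subgroup G) ⊓ (T₂ : Subgroup G) : Subgroup G) : Set G) :=
        Subgroup.mul_mem _ (Subgroup.mul_mem _ n.2 hyN) (Subgroup.inv_mem _ n.2)
      have h3 : (⟨(n : G) * y * (n : G)⁻¹, hnyN⟩ : ↥(Subgroup.normalizer
          (((T₁ : Subgroup G) ⊓ (T₂ : Subgroup G) : Subgroup G) : Set G))) ∈ Q := by
        apply hQ
        rw [Subgroup.mem_subgroupOf]
        exact ⟨hy1, hnyN⟩
      rw [← hn, mem_smul_sylow] at h3
      have h4 : (n⁻¹ * (⟨(n : G) * y * (n : G)⁻¹, hnyN⟩ : ↥(Subgroup.normalizer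
          (((T₁ : Subgroup G) ⊓ (T₂ : Subgroup G) : Subgroup G) : Set G))) * n) =
          ⟨y, hyN⟩ := by
        apply Subtype.ext
        show (n : G)⁻¹ * ((n : G) * y * (n : G)⁻¹) * (n : G) = y
        group
      rw [h4] at h3
      have h5 : (⟨y, hyN⟩ : ↥(Subgroup.normalizer
          (((T₁ : Subgroup G) ⊓ (T₂ : Subgroup G) : Subgroup G) : Set G))) ∈
          ((T₁.subtype hT₁N : Sylow p _) : Subgroup _) := h3
      rw [Sylow.coe_subtype, Subgroup.mem_subgroupOf] at h5
      exact h5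
    have heq : (((n : G)⁻¹ • R : Sylow p G) : Subgroup G) ⊓ (T₂ : Subgroup G) =
        (T₁ : Subgroup G) ⊓ (T₂ : Subgroup G) :=
      Subgroup.eq_of_le_of_card_ge hle (hmin' _ _)
    intro d hd
    have hd1 : d ∈ ((n : G)⁻¹ • R : Sylow p G) := by
      have : d ∈ (((n : G)⁻¹ • R : Sylow p G) : Subgroup G) ⊓ (T₂ : Subgroup G) := by
        rw [heq]; exact hd
      exact this.1
    rw [mem_smul_sylow, inv_inv] at hd1
    -- `n⁻¹ d n` is again in the intersection
    have hn' : (n : G)⁻¹ ∈ Subgroup.normalizer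
        (((T₁ : Subgroup G) ⊓ (T₂ : Subgroup G) : Subgroup G) : Set G) :=
      Subgroup.inv_mem _ n.2
    have hd2 : (n : G)⁻¹ * d * ((n : G)⁻¹)⁻¹ ∈ (T₁ : Subgroup G) ⊓ (T₂ : Subgroup G) :=
      (Subgroup.mem_normalizer_iff.mp hn' d).mp hd
    have hd3 : (n : G)⁻¹ * d * ((n : G)⁻¹)⁻¹ ∈ ((n : G)⁻¹ • R : Sylow p G) := by
      have : (n : G)⁻¹ * d * ((n : G)⁻¹)⁻¹ ∈
          (((n : G)⁻¹ • R : Sylow p G) : Subgroup G) ⊓ (T₂ : Subgroup G) := by
        rw [heq]; exact hd2
      exact this.1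
    rw [mem_smul_sylow, inv_inv] at hd3
    have : (n : G) * ((n : G)⁻¹ * d * (n : G)) * (n : G)⁻¹ = d := by group
    rw [this] at hd3
    exact hd3
  -- the intersection of all Sylow subgroups is a normal `p`-subgroup
  have hK : (⨅ R : Sylow p G, (R : Subgroup G)) = ⊥ := by
    apply hcore
    · constructor
      intro x hx g
      rw [Subgroup.mem_iInf] at hx ⊢
      intro R
      have := hx (g⁻¹ • R)
      have h1 : x ∈ (g⁻¹ • R : Sylow p G) := this
      rw [mem_smul_sylow, inv_inv] at h1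
      exact h1
    · exact T.isPGroup'.to_le (iInf_le _ T)
  have hbot : (T₁ : Subgroup G) ⊓ (T₂ : Subgroup G) = ⊥ := by
    rw [eq_bot_iff, ← hK]
    exact le_iInf hall
  obtain ⟨a, rfl⟩ := MulAction.exists_smul_eq G T T₁
  obtain ⟨b, rfl⟩ := MulAction.exists_smul_eq G T T₂
  refine ⟨a⁻¹ * b, fun x hxT hx => ?_⟩
  rw [mem_smul_sylow] at hx
  have h1 : a * x * a⁻¹ ∈ ((a • T : Sylow p G) : Subgroup G) ⊓ ((b • T : Sylow p G) : Subgroup G) := by
    constructor
    · show a * x * a⁻¹ ∈ (a • T : Sylow p G)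
      rw [mem_smul_sylow]
      have : a⁻¹ * (a * x * a⁻¹) * a = x := by group
      rw [this]; exact hxT
    · show a * x * a⁻¹ ∈ (b • T : Sylow p G)
      rw [mem_smul_sylow]
      have : b⁻¹ * (a * x * a⁻¹) * b = (a⁻¹ * b)⁻¹ * x * (a⁻¹ * b) := by group
      rw [this]; exact hx
  rw [hbot, Subgroup.mem_bot] at h1
  have : x = a⁻¹ * (a * x * a⁻¹) * a := by group
  rw [this, h1]
  group

end Brodkey

end Cfsg.Agent.Lead.AbIdx
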