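import Mathlib
import Cfsg.Prelude.Def_FusionSystem

set_option autoImplicit false

/-! A `p`-group whose centre has index at most `p²`, with a self-centralizing proper subgroup. -/

namespace Cfsg.Agent.Lead.CenterIdx

open Cfsg Cfsg.FusionSystem

variable {Ω : Type*} [Group Ω] {S : Subgroup Ω}

/-- The centre of `S` as a subgroup of the ambient group. -/
def ZS (S : Subgroup Ω) : Subgroup Ω := S ⊓ Subgroup.centralizer (S : Set Ω)

lemma mem_ZS {x : Ω} : x ∈ ZS S ↔ x ∈ S ∧ ∀ y ∈ S, y * x = x * y := by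
  rw [ZS, Subgroup.mem_inf, Subgroup.mem_centralizer_iff]
  rfl

lemma ZS_le : ZS S ≤ S := inf_le_left

lemma ZS_subgroupOf : (ZS S).subgroupOf S = Subgroup.center ↥S := by
  ext x
  rw [Subgroup.mem_subgroupOf, mem_ZS, Subgroup.mem_center_iff]
  constructor
  · rintro ⟨-, h⟩ g
    exact Subtype.ext (h g.1 g.2)
  · intro h
    exact ⟨x.2, fun y hy => congrArg Subtype.val (h ⟨y, hy⟩)⟩

/-- The hypotheses on `P`. -/
structure Setup (p : ℕ) (S P : Subgroup Ω) : Prop where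
  hPS : P ≤ S
  hcen : ∀ x ∈ S, (∀ y ∈ P, y * x = x * y) → x ∈ P
  hne : P ≠ S
  hidx : (Subgroup.center ↥S).index ≤ p ^ 2

variable {p : ℕ} {P : Subgroup Ω}

lemma Setup.ZS_le (h : Setup p S P) : ZS S ≤ P := by
  intro x hx
  rw [mem_ZS] at hx
  exact h.hcen x hx.1 (fun y hy => hx.2 y (h.hPS hy))

lemma Setup.ZS_ne (h : Setup p S P) : ZS S ≠ P := by
  intro heq
  apply h.hne
  apply le_antisymm h.hPS
  intro x hx
  apply h.hcen x hx
  intro y hy
  rw [← heq, mem_ZS] at hy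
  exact (hy.2 x hx).symm

lemma Setup.exists_not_mem_ZS (h : Setup p S P) : ∃ x ∈ P, x ∉ ZS S := by
  by_contra hcon
  push Not at hcon
  exact h.ZS_ne (le_antisymm h.ZS_le hcon)

lemma Setup.exists_not_mem (h : Setup p S P) : ∃ s ∈ S, s ∉ P := by
  by_contra hcon
  push Not at hcon
  exact h.hne (le_antisymm h.hPS hcon)

section Finite

variable [Finite S] [hp : Fact p.Prime]

/-- Index computations. -/
lemma Setup.index (h : Setup p S P) (hS : IsPGroup p S) :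
    (P.subgroupOf S).index = p ∧ (ZS S).relIndex P = p ∧ (Subgroup.center ↥S).index = p ^ 2 := by
  have hp1 := hp.out.one_lt
  have hZP : Subgroup.center ↥S ≤ P.subgroupOf S := by
    rw [← ZS_subgroupOf]
    intro x hx
    rw [Subgroup.mem_subgroupOf] at hx ⊢
    exact h.ZS_le hx
  have h1 := Subgroup.relIndex_mul_index hZP
  obtain ⟨k, hk⟩ := hS.index (P.subgroupOf S)
  have hk0 : k ≠ 0 := by
    rintro rfl
    rw [pow_zero, Subgroup.index_eq_one, Subgroup.subgroupOf_eq_top] at hk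
    exact h.hne (le_antisymm h.hPS hk)
  have hPp : IsPGroup p ↥(P.subgroupOf S) := hS.to_subgroup _
  obtain ⟨j, hj⟩ := hPp.index ((Subgroup.center ↥S).subgroupOf (P.subgroupOf S))
  have hj' : (Subgroup.center ↥S).relIndex (P.subgroupOf S) = p ^ j := hj
  have hj0 : j ≠ 0 := by
    rintro rfl
    rw [pow_zero, Subgroup.relIndex_eq_one] at hj'
    apply h.ZS_ne
    apply le_antisymm h.ZS_le
    intro x hx
    have h2 : (⟨x, h.hPS hx⟩ : ↥S) ∈ P.subgroupOf S := by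
      rw [Subgroup.mem_subgroupOf]; exact hx
    have h3 := hj' h2
    rw [← ZS_subgroupOf, Subgroup.mem_subgroupOf] at h3
    exact h3
  have h2 : p ^ (j + k) ≤ p ^ 2 := by
    rw [pow_add, ← hj', ← hk, h1]
    exact h.hidx
  have h3 : j + k ≤ 2 := (Nat.pow_le_pow_iff_right hp1).mp h2
  have hj1 : j = 1 := by omega
  have hk1 : k = 1 := by omega
  refine ⟨by rw [hk, hk1, pow_one], ?_, ?_⟩
  · have h4 : (ZS S).relIndex P = (Subgroup.center ↥S).relIndex (P.subgroupOf S) := by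
      rw [← ZS_subgroupOf, Subgroup.relIndex_subgroupOf h.hPS]
    rw [h4, hj', hj1, pow_one]
  · rw [← h1, hj', hk, hj1, hk1]
    ring

/-- A subgroup between `H` and `L` with `H.relIndex L` prime is one of them. -/
lemma le_or_le_of_relIndex_prime {G : Type*} [Group G] {H K L : Subgroup G} (hHK : H ≤ K)
    (hKL : K ≤ L) (hpr : (H.relIndex L).Prime) : K ≤ H ∨ L ≤ K := by
  have h1 := Subgroup.relIndex_mul_relIndex H K L hHK hKL
  rcases (Nat.dvd_prime hpr).mp (Dvd.intro _ h1) with h2 | h2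
  · left; exact Subgroup.relIndex_eq_one.mp h2
  · right
    rw [h2] at h1
    have h3 : K.relIndex L = 1 := by
      have hpos := hpr.pos
      nlinarith [Nat.eq_of_mul_eq_mul_left hpos (by rw [h1, mul_one] : H.relIndex L * K.relIndex L = H.relIndex L * 1)]
    exact Subgroup.relIndex_eq_one.mp h3

/-- `P` is abelian. -/
lemma Setup.comm (h : Setup p S P) (hS : IsPGroup p S) : ∀ a ∈ P, ∀ b ∈ P, a * b = b * a := by
  have hrel := (h.index hS).2.1
  have key : ∀ a ∈ P, a ∉ ZS S → ∀ b ∈ P, a * b = b * a := by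
    intro a ha haZ b hb
    have hpr : ((ZS S).relIndex P).Prime := by rw [hrel]; exact hp.out
    have hle1 : ZS S ≤ P ⊓ Subgroup.centralizer {a} := by
      intro x hx
      rw [Subgroup.mem_inf, Subgroup.mem_centralizer_singleton_iff]
      refine ⟨h.ZS_le hx, ?_⟩
      rw [mem_ZS] at hx
      exact (hx.2 a (h.hPS ha)).symm
    rcases le_or_le_of_relIndex_prime hle1 inf_le_left hpr with h1 | h1
    · exfalso
      apply haZ
      apply h1
      rw [Subgroup.mem_inf, Subgroup.mem_centralizer_singleton_iff]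
      exact ⟨ha, rfl⟩
    · have h2 : b ∈ Subgroup.centralizer {a} := (Subgroup.mem_inf.mp (h1 hb)).2
      rw [Subgroup.mem_centralizer_singleton_iff] at h2
      exact h2.symm
  intro a ha b hb
  by_cases haZ : a ∈ ZS S
  · rw [mem_ZS] at haZ
    exact (haZ.2 b (h.hPS hb)).symm
  · exact key a ha haZ b hb

/-- Commutators of `S` are central in `S`. -/
lemma Setup.commutator_mem_ZS (h : Setup p S P) (hS : IsPGroup p S) :
    ∀ a ∈ S, ∀ b ∈ S, a * b * a⁻¹ * b⁻¹ ∈ ZS S := by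
  have hidx := (h.index hS).2.2
  have hcard : Nat.card (↥S ⧸ Subgroup.center ↥S) = p ^ 2 := by
    rw [← Subgroup.index_eq_card]; exact hidx
  have hcomm := (IsPGroup.isMulCommutative_of_card_eq_prime_sq hcard).is_comm.comm
  intro a ha b hb
  have h1 : ((⟨a, ha⟩ * ⟨b, hb⟩ * ⟨a, ha⟩⁻¹ * ⟨b, hb⟩⁻¹ : ↥S) : ↥S ⧸ Subgroup.center ↥S) = 1 := by
    rw [QuotientGroup.mk_mul, QuotientGroup.mk_mul, QuotientGroup.mk_mul, QuotientGroup.mk_inv,
      QuotientGroup.mk_inv, hcomm (⟨a, ha⟩ : ↥S) (⟨b, hb⟩ : ↥S)]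
    group
  rw [QuotientGroup.eq_one_iff, ← ZS_subgroupOf, Subgroup.mem_subgroupOf] at h1
  exact h1

/-- `S` normalizes `P`. -/
lemma Setup.conj_mem (h : Setup p S P) (hS : IsPGroup p S) {s x : Ω} (hs : s ∈ S) (hx : x ∈ P) :
    s * x * s⁻¹ ∈ P := by
  have h1 := h.ZS_le (h.commutator_mem_ZS hS s hs x (h.hPS hx))
  have h2 := P.mul_mem h1 hx
  rwa [inv_mul_cancel_right] at h2

lemma Setup.le_normalizer (h : Setup p S P) (hS : IsPGroup p S) :
    S ≤ Subgroup.normalizer (P : Set Ω) := by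
  intro s hs
  rw [Subgroup.mem_normalizer_iff]
  intro x
  constructor
  · intro hx
    exact h.conj_mem hS hs hx
  · intro hx
    have := h.conj_mem hS (S.inv_mem hs) hx
    rw [inv_inv] at this
    have h2 : s⁻¹ * (s * x * s⁻¹) * s = x := by group
    rwa [h2] at this

lemma Setup.normal (h : Setup p S P) (hS : IsPGroup p S) : (P.subgroupOf S).Normal := by
  constructor
  intro n hn g
  rw [Subgroup.mem_subgroupOf] at hn ⊢
  exact h.conj_mem hS g.2 hn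

/-- Every element of `S` is a power of `s` times an element of `P`. -/
lemma Setup.exists_pow_mul (h : Setup p S P) (hS : IsPGroup p S) {s : Ω} (hs : s ∈ S)
    (hsP : s ∉ P) {g : Ω} (hg : g ∈ S) : ∃ i : ℕ, ∃ y ∈ P, g = s ^ i * y := by
  haveI := h.normal hS
  have hcard : Nat.card (↥S ⧸ P.subgroupOf S) = p := by
    rw [← Subgroup.index_eq_card]; exact (h.index hS).1
  have hs1 : ((⟨s, hs⟩ : ↥S) : ↥S ⧸ P.subgroupOf S) ≠ 1 := by
    intro h1
    rw [QuotientGroup.eq_one_iff, Subgroup.mem_subgroupOf] at h1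
    exact hsP h1
  have htop := zpowers_eq_top_of_prime_card hcard hs1
  have hmem : ((⟨g, hg⟩ : ↥S) : ↥S ⧸ P.subgroupOf S) ∈
      Subgroup.zpowers ((⟨s, hs⟩ : ↥S) : ↥S ⧸ P.subgroupOf S) := by
    rw [htop]; exact Subgroup.mem_top _
  obtain ⟨i, hi⟩ := mem_powers_iff_mem_zpowers.mpr hmem
  refine ⟨i, (s ^ i)⁻¹ * g, ?_, by group⟩
  have h2 : ((⟨s, hs⟩ ^ i : ↥S) : ↥S ⧸ P.subgroupOf S) = ((⟨g, hg⟩ : ↥S) : ↥S ⧸ P.subgroupOf S) := by
    rw [QuotientGroup.mk_pow]; exact hi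
  rw [QuotientGroup.eq, Subgroup.mem_subgroupOf] at h2
  exact h2

/-- An element of `P` is central in `S` iff it commutes with `s`. -/
lemma Setup.mem_ZS_iff (h : Setup p S P) (hS : IsPGroup p S) {s : Ω} (hs : s ∈ S)
    (hsP : s ∉ P) {x : Ω} (hx : x ∈ P) : x ∈ ZS S ↔ s * x = x * s := by
  constructor
  · intro hxZ
    rw [mem_ZS] at hxZ
    exact hxZ.2 s hs
  · intro hsx
    rw [mem_ZS]
    refine ⟨h.hPS hx, fun g hg => ?_⟩
    obtain ⟨i, y, hy, rfl⟩ := h.exists_pow_mul hS hs hsP hg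
    have h1 : s ^ i * x = x * s ^ i := by
      have : Commute s x := hsx
      exact (this.pow_left i).eq
    rw [mul_assoc, h.comm hS y hy x hx, ← mul_assoc, h1, mul_assoc]

/-- `s ^ p ∈ P`. -/
lemma Setup.pow_mem (h : Setup p S P) (hS : IsPGroup p S) {s : Ω} (hs : s ∈ S) : s ^ p ∈ P := by
  haveI := h.normal hS
  have h1 := Subgroup.pow_index_mem (P.subgroupOf S) (⟨s, hs⟩ : ↥S)
  rw [(h.index hS).1, Subgroup.mem_subgroupOf] at h1
  exact h1

/-- `x ^ p` is central for `x ∈ P`. -/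
lemma Setup.pow_mem_ZS (h : Setup p S P) (hS : IsPGroup p S) {x : Ω} (hx : x ∈ P) :
    x ^ p ∈ ZS S := by
  haveI : ((ZS S).subgroupOf P).Normal := by
    constructor
    intro n hn g
    rw [Subgroup.mem_subgroupOf] at hn ⊢
    have : ((g * n * g⁻¹ : ↥P) : Ω) = n := by
      show (g : Ω) * n * (g : Ω)⁻¹ = n
      rw [h.comm hS g g.2 n n.2, mul_inv_cancel_right]
    rw [this]; exact hn
  have h1 := Subgroup.pow_index_mem ((ZS S).subgroupOf P) (⟨x, hx⟩ : ↥P)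
  have h2 : ((ZS S).subgroupOf P).index = p := (h.index hS).2.1
  rw [h2, Subgroup.mem_subgroupOf] at h1
  exact h1

/-- All commutators of `S` lie in a central subgroup containing the commutators `[s, y]`,
`y ∈ P`. -/
lemma Setup.commutator_mem (h : Setup p S P) (hS : IsPGroup p S) {s : Ω} (hs : s ∈ S)
    (hsP : s ∉ P) (C : Subgroup Ω) (hC : C ≤ ZS S)
    (hsy : ∀ y ∈ P, s * y * s⁻¹ * y⁻¹ ∈ C) :
    ∀ a ∈ S, ∀ b ∈ S, a * b * a⁻¹ * b⁻¹ ∈ C := by
  haveI : (C.subgroupOf S).Normal := by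
    constructor
    intro n hn g
    rw [Subgroup.mem_subgroupOf] at hn ⊢
    have hnZ := hC hn
    rw [mem_ZS] at hnZ
    have : ((g * n * g⁻¹ : ↥S) : Ω) = n := by
      show (g : Ω) * n * (g : Ω)⁻¹ = n
      rw [hnZ.2 g g.2, mul_inv_cancel_right]
    rw [this]; exact hn
  have hcs : ∀ y (hy : y ∈ P), Commute ((⟨s, hs⟩ : ↥S) : ↥S ⧸ C.subgroupOf S)
      ((⟨y, h.hPS hy⟩ : ↥S) : ↥S ⧸ C.subgroupOf S) := by
    intro y hy
    show _ * _ = _ * _
    rw [← QuotientGroup.mk_mul, ← QuotientGroup.mk_mul, eq_comm, QuotientGroup.eq,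
      Subgroup.mem_subgroupOf]
    have := hsy y hy
    have h2 : (((⟨y, h.hPS hy⟩ * ⟨s, hs⟩ : ↥S)⁻¹ * (⟨s, hs⟩ * ⟨y, h.hPS hy⟩) : ↥S) : Ω) =
        s⁻¹ * (y⁻¹ * (s * y * s⁻¹ * y⁻¹) * y) * s := by
      show (y * s)⁻¹ * (s * y) = _
      group
    rw [h2]
    have hcZ := hC this
    rw [mem_ZS] at hcZ
    have h3 : y⁻¹ * (s * y * s⁻¹ * y⁻¹) * y = s * y * s⁻¹ * y⁻¹ := by
      rw [mul_assoc, ← hcZ.2 y (h.hPS hy), ← mul_assoc, inv_mul_cancel, one_mul]
    rw [h3]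
    have h4 : s⁻¹ * (s * y * s⁻¹ * y⁻¹) * s = s * y * s⁻¹ * y⁻¹ := by
      rw [mul_assoc, ← hcZ.2 s hs, ← mul_assoc, inv_mul_cancel, one_mul]
    rw [h4]
    exact this
  have hcy : ∀ y (hy : y ∈ P) y' (hy' : y' ∈ P), Commute ((⟨y, h.hPS hy⟩ : ↥S) : ↥S ⧸ C.subgroupOf S)
      ((⟨y', h.hPS hy'⟩ : ↥S) : ↥S ⧸ C.subgroupOf S) := by
    intro y hy y' hy'
    show _ * _ = _ * _
    rw [← QuotientGroup.mk_mul, ← QuotientGroup.mk_mul]
    congr 1
    exact Subtype.ext (h.comm hS y hy y' hy')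
  have hall : ∀ a (ha : a ∈ S) b (hb : b ∈ S), Commute ((⟨a, ha⟩ : ↥S) : ↥S ⧸ C.subgroupOf S)
      ((⟨b, hb⟩ : ↥S) : ↥S ⧸ C.subgroupOf S) := by
    intro a ha b hb
    obtain ⟨i, y, hy, rfl⟩ := h.exists_pow_mul hS hs hsP ha
    obtain ⟨j, y', hy', rfl⟩ := h.exists_pow_mul hS hs hsP hb
    have e1 : ((⟨s ^ i * y, ha⟩ : ↥S) : ↥S ⧸ C.subgroupOf S) =
        ((⟨s, hs⟩ : ↥S) : ↥S ⧸ C.subgroupOf S) ^ i * ((⟨y, h.hPS hy⟩ : ↥S) : ↥S ⧸ C.subgroupOf S) := by
      rw [← QuotientGroup.mk_pow, ← QuotientGroup.mk_mul]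
      rfl
    have e2 : ((⟨s ^ j * y', hb⟩ : ↥S) : ↥S ⧸ C.subgroupOf S) =
        ((⟨s, hs⟩ : ↥S) : ↥S ⧸ C.subgroupOf S) ^ j * ((⟨y', h.hPS hy'⟩ : ↥S) : ↥S ⧸ C.subgroupOf S) := by
      rw [← QuotientGroup.mk_pow, ← QuotientGroup.mk_mul]
      rfl
    rw [e1, e2]
    apply Commute.mul_left
    · apply Commute.mul_right
      · exact (Commute.refl _).pow_pow i j
      · exact (hcs y' hy').pow_left i
    · apply Commute.mul_right
      · exact ((hcs y hy).pow_left j).symm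
      · exact hcy y hy y' hy'
  intro a ha b hb
  have h1 := (hall a ha b hb).eq
  rw [← QuotientGroup.mk_mul, ← QuotientGroup.mk_mul, eq_comm, QuotientGroup.eq,
    Subgroup.mem_subgroupOf] at h1
  have h2 : (((⟨b, hb⟩ * ⟨a, ha⟩ : ↥S)⁻¹ * (⟨a, ha⟩ * ⟨b, hb⟩) : ↥S) : Ω) =
      a⁻¹ * (b⁻¹ * (a * b * a⁻¹ * b⁻¹) * b) * a := by
    show (b * a)⁻¹ * (a * b) = _
    group
  rw [h2] at h1
  have h3 : a * b * a⁻¹ * b⁻¹ = b * (a * (a⁻¹ * (b⁻¹ * (a * b * a⁻¹ * b⁻¹) * b) * a) * a⁻¹) * b⁻¹ := by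
    group
  rw [h3]
  have hcZ := hC h1
  rw [mem_ZS] at hcZ
  rw [hcZ.2 a ha, mul_inv_cancel_right, hcZ.2 b hb, mul_inv_cancel_right]
  exact h1

end Finite

end Cfsg.Agent.Lead.CenterIdx
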