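import Mathlib
import Cfsg.Agent.Lead.AbIdxA
import Cfsg.Agent.Lead.CenterIdxA

set_option autoImplicit false

/-! A nonabelian `p`-group `S` with an abelian subgroup `A` of index `p`: basic structure. -/

namespace Cfsg.Agent.Lead.AbIdx

open Cfsg.Agent.Lead.CenterIdx (ZS mem_ZS ZS_le)

variable {Ω : Type*} [Group Ω] {S A : Subgroup Ω} {p : ℕ}

/-- `S` is nonabelian with the abelian subgroup `A` of index `p`. -/
structure Setup (p : ℕ) (S A : Subgroup Ω) : Prop where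
  hAS : A ≤ S
  hab : ∀ a ∈ A, ∀ b ∈ A, a * b = b * a
  hidx : (A.subgroupOf S).index = p
  hna : ∃ s ∈ S, ∃ t ∈ S, s * t ≠ t * s

variable [Finite S] [hp : Fact p.Prime]

lemma Setup.normal (h : Setup p S A) (hS : IsPGroup p S) : (A.subgroupOf S).Normal := by
  apply Subgroup.normal_of_index_eq_minFac_card
  rw [h.hidx]
  obtain ⟨n, hn⟩ := IsPGroup.iff_card.mp hS
  have hn0 : n ≠ 0 := by
    rintro rfl
    rw [pow_zero] at hn
    have h1 : (A.subgroupOf S).index ∣ Nat.card ↥S := Subgroup.index_dvd_card _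
    rw [h.hidx, hn] at h1
    exact hp.out.one_lt.ne' (Nat.dvd_one.mp h1)
  rw [hn, Nat.Prime.pow_minFac hp.out hn0]

lemma Setup.conj_mem (h : Setup p S A) (hS : IsPGroup p S) {s a : Ω} (hs : s ∈ S) (ha : a ∈ A) :
    s * a * s⁻¹ ∈ A := by
  haveI := h.normal hS
  have h1 : (⟨a, h.hAS ha⟩ : ↥S) ∈ A.subgroupOf S := by
    rw [Subgroup.mem_subgroupOf]; exact ha
  have h2 := (h.normal hS).conj_mem _ h1 ⟨s, hs⟩
  rw [Subgroup.mem_subgroupOf] at h2
  exact h2

lemma Setup.conj_mem' (h : Setup p S A) (hS : IsPGroup p S) {s a : Ω} (hs : s ∈ S) (ha : a ∈ A) :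
    s⁻¹ * a * s ∈ A := by
  have := h.conj_mem hS (S.inv_mem hs) ha
  rwa [inv_inv] at this

/-- Every element of `S` is a power of `x` times an element of `A`. -/
lemma Setup.exists_pow_mul (h : Setup p S A) (hS : IsPGroup p S) {x : Ω} (hx : x ∈ S)
    (hxA : x ∉ A) {s : Ω} (hs : s ∈ S) : ∃ i : ℕ, ∃ a ∈ A, s = x ^ i * a := by
  haveI := h.normal hS
  have hx' : (⟨x, hx⟩ : ↥S) ∉ A.subgroupOf S := by
    rw [Subgroup.mem_subgroupOf]; exact hxA
  obtain ⟨i, a, ha, hsa⟩ := exists_pow_mul_of_index_prime (A.subgroupOf S) h.hidx hx' ⟨s, hs⟩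
  rw [Subgroup.mem_subgroupOf] at ha
  refine ⟨i, a, ha, ?_⟩
  have := congrArg Subtype.val hsa
  simpa using this

lemma Setup.pow_mem (h : Setup p S A) (hS : IsPGroup p S) {s : Ω} (hs : s ∈ S) : s ^ p ∈ A := by
  haveI := h.normal hS
  have h1 := pow_mem_of_index_prime (A.subgroupOf S) h.hidx ⟨s, hs⟩
  rw [Subgroup.mem_subgroupOf] at h1
  exact h1

/-- An element of `A` commuting with an element outside `A` is central. -/
lemma Setup.mem_ZS_of_comm (h : Setup p S A) (hS : IsPGroup p S) {x : Ω} (hx : x ∈ S)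
    (hxA : x ∉ A) {a : Ω} (ha : a ∈ A) (hxa : x * a = a * x) : a ∈ ZS S := by
  rw [mem_ZS]
  refine ⟨h.hAS ha, fun s hs => ?_⟩
  obtain ⟨i, b, hb, rfl⟩ := h.exists_pow_mul hS hx hxA hs
  have h1 : x ^ i * a = a * x ^ i := by
    have : Commute x a := hxa
    exact (this.pow_left i).eq
  rw [mul_assoc, h.hab b hb a ha, ← mul_assoc, h1, mul_assoc]

/-- The centre of `S` lies in `A`. -/
lemma Setup.ZS_le (h : Setup p S A) (hS : IsPGroup p S) : ZS S ≤ A := by
  intro z hz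
  by_contra hzA
  rw [mem_ZS] at hz
  obtain ⟨s, hs, t, ht, hst⟩ := h.hna
  apply hst
  obtain ⟨i, a, ha, rfl⟩ := h.exists_pow_mul hS hz.1 hzA hs
  obtain ⟨j, b, hb, rfl⟩ := h.exists_pow_mul hS hz.1 hzA ht
  have hzi : ∀ (k : ℕ) (y : Ω), y ∈ S → z ^ k * y = y * z ^ k := by
    intro k y hy
    have : Commute y z := hz.2 y hy
    exact ((this.pow_right k).eq).symm
  calc z ^ i * a * (z ^ j * b) = z ^ i * (a * z ^ j) * b := by group
    _ = z ^ i * (z ^ j * a) * b := by rw [hzi j a (h.hAS ha)]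
    _ = z ^ i * z ^ j * (a * b) := by group
    _ = z ^ j * z ^ i * (b * a) := by
        rw [h.hab a ha b hb, ← pow_add, ← pow_add, add_comm]
    _ = z ^ j * (z ^ i * b) * a := by group
    _ = z ^ j * (b * z ^ i) * a := by rw [hzi i b (h.hAS hb)]
    _ = z ^ j * b * (z ^ i * a) := by group

lemma Setup.mem_ZS_iff (h : Setup p S A) (hS : IsPGroup p S) {x : Ω} (hx : x ∈ S)
    (hxA : x ∉ A) {a : Ω} (ha : a ∈ A) : a ∈ ZS S ↔ x * a = a * x := by
  constructor
  · intro haZ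
    rw [mem_ZS] at haZ
    exact haZ.2 x hx
  · exact h.mem_ZS_of_comm hS hx hxA ha

/-- A subgroup of `S` not contained in `A` meets `A` in a subgroup of index `p`. -/
lemma Setup.relIndex (h : Setup p S A) (hS : IsPGroup p S) {P : Subgroup Ω} (hPS : P ≤ S)
    (hPA : ¬ P ≤ A) : A.relIndex P = p := by
  haveI := h.normal hS
  have h1 : (A.subgroupOf S).relIndex (P.subgroupOf S) ∣ (A.subgroupOf S).index :=
    Subgroup.relIndex_dvd_index_of_normal _ _
  rw [Subgroup.relIndex_subgroupOf hPS, h.hidx] at h1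
  rcases (Nat.dvd_prime hp.out).mp h1 with h2 | h2
  · exact absurd (Subgroup.relIndex_eq_one.mp h2) hPA
  · exact h2

/-- In an abelian subgroup containing the centre and not inside `A`, the elements of `A` are
central. -/
lemma Setup.mem_ZS_of_abelian (h : Setup p S A) (hS : IsPGroup p S) {P : Subgroup Ω} (hPS : P ≤ S)
    (hPab : ∀ a ∈ P, ∀ b ∈ P, a * b = b * a) {x : Ω} (hxP : x ∈ P) (hxA : x ∉ A) {y : Ω}
    (hyP : y ∈ P) (hyA : y ∈ A) : y ∈ ZS S :=
  h.mem_ZS_of_comm hS (hPS hxP) hxA hyA (hPab x hxP y hyP)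

/-- In a nonabelian subgroup containing the centre and not inside `A`, the centre is that of
`S`. -/
lemma Setup.mem_ZS_of_central (h : Setup p S A) (hS : IsPGroup p S) {P : Subgroup Ω} (hPS : P ≤ S)
    (hPna : ∃ a ∈ P, ∃ b ∈ P, a * b ≠ b * a) {x : Ω} (hxP : x ∈ P) (hxA : x ∉ A) {y : Ω}
    (hyP : y ∈ P) (hy : ∀ w ∈ P, w * y = y * w) : y ∈ ZS S := by
  by_cases hyA : y ∈ A
  · exact h.mem_ZS_of_comm hS (hPS hxP) hxA hyA (hy x hxP)
  · exfalso
    obtain ⟨a, ha, b, hb, hne⟩ := hPna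
    apply hne
    obtain ⟨i, a', ha', rfl⟩ := h.exists_pow_mul hS (hPS hyP) hyA (hPS ha)
    obtain ⟨j, b', hb', rfl⟩ := h.exists_pow_mul hS (hPS hyP) hyA (hPS hb)
    have hyi : ∀ k : ℕ, y ^ k ∈ P := fun k => P.pow_mem hyP k
    have ha'P : a' ∈ P := by
      have : a' = (y ^ i)⁻¹ * (y ^ i * a') := by group
      rw [this]; exact P.mul_mem (P.inv_mem (hyi i)) ha
    have hb'P : b' ∈ P := by
      have : b' = (y ^ j)⁻¹ * (y ^ j * b') := by group
      rw [this]; exact P.mul_mem (P.inv_mem (hyi j)) hb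
    have hzi : ∀ (k : ℕ) (w : Ω), w ∈ P → y ^ k * w = w * y ^ k := by
      intro k w hw
      have : Commute w y := hy w hw
      exact ((this.pow_right k).eq).symm
    calc y ^ i * a' * (y ^ j * b') = y ^ i * (a' * y ^ j) * b' := by group
      _ = y ^ i * (y ^ j * a') * b' := by rw [hzi j a' ha'P]
      _ = y ^ i * y ^ j * (a' * b') := by group
      _ = y ^ j * y ^ i * (b' * a') := by
          rw [h.hab a' ha' b' hb', ← pow_add, ← pow_add, add_comm]
      _ = y ^ j * (y ^ i * b') * a' := by group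
      _ = y ^ j * (b' * y ^ i) * a' := by rw [hzi i b' hb'P]
      _ = y ^ j * b' * (y ^ i * a') := by group

end Cfsg.Agent.Lead.AbIdx
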