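import Mathlib
import Cfsg.Agent.Lead.AbIdxB

set_option autoImplicit false

/-! The commutator map `a ↦ x⁻¹ a x a⁻¹` on `A`, and the commutator subgroup of `S`. -/

namespace Cfsg.Agent.Lead.AbIdx

open Cfsg.Agent.Lead.CenterIdx (ZS mem_ZS ZS_le)
open scoped commutatorElement

variable {Ω : Type*} [Group Ω] {S A : Subgroup Ω} {p : ℕ}

/-- The commutator map `a ↦ x⁻¹ a x a⁻¹` on the abelian subgroup `A` normalized by `x`. -/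
def commHom (A : Subgroup Ω) (hab : ∀ a ∈ A, ∀ b ∈ A, a * b = b * a) (x : Ω)
    (hxA : ∀ a ∈ A, x⁻¹ * a * x ∈ A) : ↥A →* Ω where
  toFun a := x⁻¹ * a * x * (a : Ω)⁻¹
  map_one' := by simp
  map_mul' a b := by
    have h1 : x⁻¹ * (b : Ω) * x * (b : Ω)⁻¹ ∈ A := A.mul_mem (hxA b b.2) (A.inv_mem b.2)
    have h2 := hab _ h1 _ (A.inv_mem a.2)
    show x⁻¹ * ((a : Ω) * b) * x * ((a : Ω) * b)⁻¹ =
      x⁻¹ * a * x * (a : Ω)⁻¹ * (x⁻¹ * b * x * (b : Ω)⁻¹)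
    calc x⁻¹ * ((a : Ω) * b) * x * ((a : Ω) * b)⁻¹
        = x⁻¹ * a * x * ((x⁻¹ * b * x * (b : Ω)⁻¹) * (a : Ω)⁻¹) := by group
      _ = x⁻¹ * a * x * ((a : Ω)⁻¹ * (x⁻¹ * b * x * (b : Ω)⁻¹)) := by rw [h2]
      _ = _ := by group

lemma commHom_apply (hab : ∀ a ∈ A, ∀ b ∈ A, a * b = b * a) (x : Ω)
    (hxA : ∀ a ∈ A, x⁻¹ * a * x ∈ A) (a : ↥A) :
    commHom A hab x hxA a = x⁻¹ * a * x * (a : Ω)⁻¹ := rfl

lemma commHom_mem (hab : ∀ a ∈ A, ∀ b ∈ A, a * b = b * a) (x : Ω)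
    (hxA : ∀ a ∈ A, x⁻¹ * a * x ∈ A) (a : ↥A) : commHom A hab x hxA a ∈ A :=
  A.mul_mem (hxA a a.2) (A.inv_mem a.2)

lemma commHom_eq_one_iff (hab : ∀ a ∈ A, ∀ b ∈ A, a * b = b * a) (x : Ω)
    (hxA : ∀ a ∈ A, x⁻¹ * a * x ∈ A) (a : ↥A) :
    commHom A hab x hxA a = 1 ↔ x * (a : Ω) = a * x := by
  rw [commHom_apply, mul_inv_eq_one]
  constructor
  · intro h
    calc x * (a : Ω) = x * (x⁻¹ * a * x) := by rw [h]
      _ = a * x := by group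
  · intro h
    calc x⁻¹ * (a : Ω) * x = x⁻¹ * (a * x) := by group
      _ = x⁻¹ * (x * a) := by rw [h]
      _ = a := by group

lemma range_le (hab : ∀ a ∈ A, ∀ b ∈ A, a * b = b * a) (x : Ω)
    (hxA : ∀ a ∈ A, x⁻¹ * a * x ∈ A) : (commHom A hab x hxA).range ≤ A := by
  rintro _ ⟨a, rfl⟩
  exact commHom_mem hab x hxA a

/-- The range is normalized by `x`. -/
lemma conj_mem_range (hab : ∀ a ∈ A, ∀ b ∈ A, a * b = b * a) (x : Ω)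
    (hxA : ∀ a ∈ A, x⁻¹ * a * x ∈ A) (hxA' : ∀ a ∈ A, x * a * x⁻¹ ∈ A) {n : Ω}
    (hn : n ∈ (commHom A hab x hxA).range) : x * n * x⁻¹ ∈ (commHom A hab x hxA).range := by
  obtain ⟨a, rfl⟩ := hn
  refine ⟨⟨x * a * x⁻¹, hxA' a a.2⟩, ?_⟩
  rw [commHom_apply, commHom_apply]
  show x⁻¹ * (x * (a : Ω) * x⁻¹) * x * (x * (a : Ω) * x⁻¹)⁻¹ = x * (x⁻¹ * a * x * (a : Ω)⁻¹) * x⁻¹
  group

lemma conj_pow_mem_range (hab : ∀ a ∈ A, ∀ b ∈ A, a * b = b * a) (x : Ω)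
    (hxA : ∀ a ∈ A, x⁻¹ * a * x ∈ A) (hxA' : ∀ a ∈ A, x * a * x⁻¹ ∈ A) (i : ℕ) {n : Ω}
    (hn : n ∈ (commHom A hab x hxA).range) :
    x ^ i * n * (x ^ i)⁻¹ ∈ (commHom A hab x hxA).range := by
  induction i with
  | zero => simpa using hn
  | succ i ih =>
    have := conj_mem_range hab x hxA hxA' ih
    have h2 : x ^ (i + 1) * n * (x ^ (i + 1))⁻¹ = x * (x ^ i * n * (x ^ i)⁻¹) * x⁻¹ := by
      rw [pow_succ']; group
    rw [h2]; exact this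

variable [Finite S] [hp : Fact p.Prime]

/-- All commutators of `S` lie in the range of the commutator map. -/
theorem Setup.commutator_mem_range (h : Setup p S A) (hS : IsPGroup p S) {x : Ω} (hx : x ∈ S)
    (hxA : x ∉ A) (hxA₁ : ∀ a ∈ A, x⁻¹ * a * x ∈ A) {w : ↥S} (hw : w ∈ commutator ↥S) :
    (w : Ω) ∈ (commHom A h.hab x hxA₁).range := by
  have hxA₂ : ∀ a ∈ A, x * a * x⁻¹ ∈ A := fun a ha => h.conj_mem hS hx ha
  have hrA := range_le h.hab x hxA₁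
  haveI hN : ((commHom A h.hab x hxA₁).range.subgroupOf S).Normal := by
    constructor
    intro n hn s
    rw [Subgroup.mem_subgroupOf] at hn ⊢
    obtain ⟨i, b, hb, hs⟩ := h.exists_pow_mul hS hx hxA s.2
    have h1 : ((s * n * s⁻¹ : ↥S) : Ω) = x ^ i * (b * n * b⁻¹) * (x ^ i)⁻¹ := by
      show (s : Ω) * n * (s : Ω)⁻¹ = _
      rw [hs]; group
    have h2 : b * (n : Ω) * b⁻¹ = n := by
      rw [h.hab b hb n (hrA hn), mul_inv_cancel_right]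
    rw [h1, h2]
    exact conj_pow_mem_range h.hab x hxA₁ hxA₂ i hn
  -- the quotient is commutative
  have hXa : ∀ (a : Ω) (ha : a ∈ A), Commute
      (((⟨x, hx⟩ : ↥S) : ↥S ⧸ (commHom A h.hab x hxA₁).range.subgroupOf S))
      (((⟨a, h.hAS ha⟩ : ↥S) : ↥S ⧸ (commHom A h.hab x hxA₁).range.subgroupOf S)) := by
    intro a ha
    show (((⟨x, hx⟩ : ↥S) : ↥S ⧸ (commHom A h.hab x hxA₁).range.subgroupOf S)) *
      (((⟨a, h.hAS ha⟩ : ↥S) : ↥S ⧸ (commHom A h.hab x hxA₁).range.subgroupOf S)) =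
      (((⟨a, h.hAS ha⟩ : ↥S) : ↥S ⧸ (commHom A h.hab x hxA₁).range.subgroupOf S)) *
      (((⟨x, hx⟩ : ↥S) : ↥S ⧸ (commHom A h.hab x hxA₁).range.subgroupOf S))
    rw [← QuotientGroup.mk_mul, ← QuotientGroup.mk_mul, QuotientGroup.eq, Subgroup.mem_subgroupOf]
    refine ⟨⟨a, ha⟩, ?_⟩
    rw [commHom_apply]
    show x⁻¹ * a * x * a⁻¹ = (x * a)⁻¹ * (a * x)
    have h1 : x⁻¹ * a * x * a⁻¹ = a⁻¹ * (x⁻¹ * a * x) := h.hab _ (hxA₁ a ha) _ (A.inv_mem ha)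
    rw [h1]; group
  have hab' : ∀ (a : Ω) (ha : a ∈ A) (b : Ω) (hb : b ∈ A), Commute
      (((⟨a, h.hAS ha⟩ : ↥S) : ↥S ⧸ (commHom A h.hab x hxA₁).range.subgroupOf S))
      (((⟨b, h.hAS hb⟩ : ↥S) : ↥S ⧸ (commHom A h.hab x hxA₁).range.subgroupOf S)) := by
    intro a ha b hb
    show (((⟨a, h.hAS ha⟩ : ↥S) : ↥S ⧸ (commHom A h.hab x hxA₁).range.subgroupOf S)) *
      (((⟨b, h.hAS hb⟩ : ↥S) : ↥S ⧸ (commHom A h.hab x hxA₁).range.subgroupOf S)) =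
      (((⟨b, h.hAS hb⟩ : ↥S) : ↥S ⧸ (commHom A h.hab x hxA₁).range.subgroupOf S)) *
      (((⟨a, h.hAS ha⟩ : ↥S) : ↥S ⧸ (commHom A h.hab x hxA₁).range.subgroupOf S))
    rw [← QuotientGroup.mk_mul, ← QuotientGroup.mk_mul]
    congr 1
    exact Subtype.ext (h.hab a ha b hb)
  have hdecomp : ∀ s : ↥S, ∃ (i : ℕ) (a : Ω) (ha : a ∈ A),
      ((s : ↥S) : ↥S ⧸ (commHom A h.hab x hxA₁).range.subgroupOf S) =
      (((⟨x, hx⟩ : ↥S) : ↥S ⧸ (commHom A h.hab x hxA₁).range.subgroupOf S)) ^ i *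
      (((⟨a, h.hAS ha⟩ : ↥S) : ↥S ⧸ (commHom A h.hab x hxA₁).range.subgroupOf S)) := by
    intro s
    obtain ⟨i, a, ha, hs⟩ := h.exists_pow_mul hS hx hxA s.2
    refine ⟨i, a, ha, ?_⟩
    rw [← QuotientGroup.mk_pow, ← QuotientGroup.mk_mul]
    congr 1
    exact Subtype.ext hs
  have hcomm : IsMulCommutative (↥S ⧸ (commHom A h.hab x hxA₁).range.subgroupOf S) := by
    refine ⟨⟨fun s' t' => ?_⟩⟩
    obtain ⟨s, rfl⟩ := QuotientGroup.mk_surjective s'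
    obtain ⟨t, rfl⟩ := QuotientGroup.mk_surjective t'
    obtain ⟨i, a, ha, hs⟩ := hdecomp s
    obtain ⟨j, b, hb, ht⟩ := hdecomp t
    rw [hs, ht]
    have h1 : Commute ((((⟨x, hx⟩ : ↥S) : ↥S ⧸ (commHom A h.hab x hxA₁).range.subgroupOf S)) ^ i)
        ((((⟨x, hx⟩ : ↥S) : ↥S ⧸ (commHom A h.hab x hxA₁).range.subgroupOf S)) ^ j) :=
      Commute.pow_pow_self _ i j
    have h2 : Commute ((((⟨x, hx⟩ : ↥S) : ↥S ⧸ (commHom A h.hab x hxA₁).range.subgroupOf S)) ^ i)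
        (((⟨b, h.hAS hb⟩ : ↥S) : ↥S ⧸ (commHom A h.hab x hxA₁).range.subgroupOf S)) :=
      (hXa b hb).pow_left i
    have h3 : Commute (((⟨a, h.hAS ha⟩ : ↥S) : ↥S ⧸ (commHom A h.hab x hxA₁).range.subgroupOf S))
        ((((⟨x, hx⟩ : ↥S) : ↥S ⧸ (commHom A h.hab x hxA₁).range.subgroupOf S)) ^ j) :=
      ((hXa a ha).pow_left j).symm
    exact ((h1.mul_right h2).mul_left (h3.mul_right (hab' a ha b hb))).eq
  have hle := Subgroup.Normal.quotient_commutative_iff_commutator_le.mp hcomm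
  have := hle hw
  rw [Subgroup.mem_subgroupOf] at this
  exact this

/-- A commutator `x⁻¹ a x a⁻¹` lies in the image of the commutator subgroup of `S`. -/
lemma mem_map_commutator {x a : Ω} (hx : x ∈ S) (ha : a ∈ S) :
    x⁻¹ * a * x * a⁻¹ ∈ (commutator ↥S).map S.subtype := by
  refine ⟨⁅(⟨x, hx⟩ : ↥S)⁻¹, ⟨a, ha⟩⁆, ?_, ?_⟩
  · rw [commutator_def]
    exact Subgroup.commutator_mem_commutator (Subgroup.mem_top _) (Subgroup.mem_top _)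
  · show ((⁅(⟨x, hx⟩ : ↥S)⁻¹, ⟨a, ha⟩⁆ : ↥S) : Ω) = _
    rw [commutatorElement_def]
    simp

end Cfsg.Agent.Lead.AbIdx
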