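import Mathlib

set_option autoImplicit false

/-! Automorphisms of an abelian group stabilizing a chain; transvection-like automorphisms. -/

namespace Cfsg.Agent.Lead.Transv

variable {P : Type*} [CommGroup P]

/-- The commutator map `x ↦ x⁻¹ α(x)` of an automorphism of an abelian group. -/
def cm (α : MulAut P) : P →* P where
  toFun x := x⁻¹ * α x
  map_one' := by simp
  map_mul' x y := by
    rw [map_mul, mul_inv]
    exact mul_mul_mul_comm _ _ _ _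

lemma cm_apply (α : MulAut P) (x : P) : cm α x = x⁻¹ * α x := rfl

lemma apply_eq_mul_cm (α : MulAut P) (x : P) : α x = x * cm α x := by
  rw [cm_apply, mul_inv_cancel_left]

lemma cm_eq_one_iff (α : MulAut P) (x : P) : cm α x = 1 ↔ α x = x := by
  rw [cm_apply, inv_mul_eq_one, eq_comm]

lemma pow_apply_of_fix (β : MulAut P) (x : P) (h : β (cm β x) = cm β x) (n : ℕ) :
    (β ^ n) x = x * (cm β x) ^ n := by
  induction n with
  | zero => simp
  | succ n ih =>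
    rw [pow_succ', MulAut.mul_apply, ih, map_mul, map_pow, h, pow_succ', ← mul_assoc,
      ← apply_eq_mul_cm]

/-- `α` stabilizes the chain `1 ≤ N₁ ≤ N₂ ≤ P`. -/
def Stab3 (N₁ N₂ : Subgroup P) (α : MulAut P) : Prop :=
  (∀ n ∈ N₁, α n = n) ∧ (∀ y ∈ N₂, cm α y ∈ N₁) ∧ (∀ x, cm α x ∈ N₂)

lemma Stab3.one (N₁ N₂ : Subgroup P) : Stab3 N₁ N₂ 1 := by
  refine ⟨fun n _ => rfl, fun y _ => ?_, fun x => ?_⟩
  · rw [cm_apply]; simp
  · rw [cm_apply]; simp

lemma cm_mul (α β : MulAut P) (x : P) : cm (α * β) x = cm β x * cm α (β x) := by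
  simp only [cm_apply, MulAut.mul_apply]
  rw [mul_assoc, mul_inv_cancel_left]

lemma Stab3.mul {N₁ N₂ : Subgroup P} (hN : N₁ ≤ N₂) {α β : MulAut P} (hα : Stab3 N₁ N₂ α)
    (hβ : Stab3 N₁ N₂ β) : Stab3 N₁ N₂ (α * β) := by
  refine ⟨fun n hn => ?_, fun y hy => ?_, fun x => ?_⟩
  · rw [MulAut.mul_apply, hβ.1 n hn, hα.1 n hn]
  · rw [cm_mul]
    have hβy : β y ∈ N₂ := by
      rw [apply_eq_mul_cm]
      exact N₂.mul_mem hy (hN (hβ.2.1 y hy))
    exact N₁.mul_mem (hβ.2.1 y hy) (hα.2.1 _ hβy)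
  · rw [cm_mul]
    exact N₂.mul_mem (hβ.2.2 x) (hα.2.2 _)

lemma Stab3.pow {N₁ N₂ : Subgroup P} (hN : N₁ ≤ N₂) {α : MulAut P} (hα : Stab3 N₁ N₂ α)
    (k : ℕ) : Stab3 N₁ N₂ (α ^ k) := by
  induction k with
  | zero => exact Stab3.one N₁ N₂
  | succ k ih => rw [pow_succ]; exact Stab3.mul hN ih hα

lemma Stab3.inv [Finite P] {N₁ N₂ : Subgroup P} (hN : N₁ ≤ N₂) {α : MulAut P}
    (hα : Stab3 N₁ N₂ α) : Stab3 N₁ N₂ α⁻¹ := by
  have h1 : α⁻¹ = α ^ (orderOf α - 1) := by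
    rw [eq_comm, ← mul_eq_one_iff_eq_inv, ← pow_succ,
      Nat.sub_add_cancel (orderOf_pos α), pow_orderOf_eq_one]
  rw [h1]
  exact Stab3.pow hN hα _

lemma Stab3.pow_eq_one {N₁ N₂ : Subgroup P} (hN : N₁ ≤ N₂) {p : ℕ}
    (hexp : ∀ y ∈ N₂, y ^ p = 1) {α : MulAut P} (hα : Stab3 N₁ N₂ α) : α ^ (p * p) = 1 := by
  have h1 : ∀ y ∈ N₂, (α ^ p) y = y := by
    intro y hy
    rw [pow_apply_of_fix α y (hα.1 _ (hα.2.1 y hy)), hexp _ (hN (hα.2.1 y hy)), mul_one]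
  have h2 := Stab3.pow hN hα p
  rw [pow_mul]
  ext x
  rw [pow_apply_of_fix (α ^ p) x (h1 _ (h2.2.2 x)), hexp _ (h2.2.2 x), mul_one]
  rfl

lemma isPGroup_closure [Finite P] {N₁ N₂ : Subgroup P} (hN : N₁ ≤ N₂) {p : ℕ}
    (hexp : ∀ y ∈ N₂, y ^ p = 1) (T : Set (MulAut P)) (hT : ∀ α ∈ T, Stab3 N₁ N₂ α) :
    IsPGroup p (Subgroup.closure T) := by
  have hall : ∀ α ∈ Subgroup.closure T, Stab3 N₁ N₂ α := by
    intro α hα
    induction hα using Subgroup.closure_induction with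
    | mem x hx => exact hT x hx
    | one => exact Stab3.one N₁ N₂
    | mul x y _ _ hx hy => exact Stab3.mul hN hx hy
    | inv x _ hx => exact Stab3.inv hN hx
  rintro ⟨α, hα⟩
  refine ⟨2, Subtype.ext ?_⟩
  rw [Subgroup.coe_pow, Subgroup.coe_one, pow_two]
  exact Stab3.pow_eq_one hN hexp (hall α hα)

/-- In a cyclic group of prime order generated by `z`, every nontrivial element generates. -/
lemma exists_pow_eq [Finite P] {p : ℕ} [hp : Fact p.Prime] {z y w : P} (hzp : z ^ p = 1)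
    (hy : y ∈ Subgroup.zpowers z) (hy1 : y ≠ 1) (hw : w ∈ Subgroup.zpowers z) :
    ∃ i : ℕ, y ^ i = w := by
  have hz1 : z ≠ 1 := by
    rintro rfl
    rw [Subgroup.zpowers_one_eq_bot, Subgroup.mem_bot] at hy
    exact hy1 hy
  have hoz : orderOf z = p := orderOf_eq_prime hzp hz1
  have hyp : y ^ p = 1 := by
    obtain ⟨k, rfl⟩ := Subgroup.mem_zpowers_iff.mp hy
    rw [← zpow_natCast, ← zpow_mul, mul_comm, zpow_mul, zpow_natCast, hzp, one_zpow]
  have hoy : orderOf y = p := orderOf_eq_prime hyp hy1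
  have hle : Subgroup.zpowers y ≤ Subgroup.zpowers z := by
    rw [Subgroup.zpowers_le]; exact hy
  have heq : Subgroup.zpowers y = Subgroup.zpowers z :=
    Subgroup.eq_of_le_of_card_ge hle (by rw [Nat.card_zpowers, Nat.card_zpowers, hoy, hoz])
  rw [← heq] at hw
  have := mem_powers_iff_mem_zpowers.mpr hw
  obtain ⟨i, hi⟩ := this
  exact ⟨i, hi⟩

end Cfsg.Agent.Lead.Transv
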