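import Mathlib
import Cfsg.Agent.Lead.TransvA

set_option autoImplicit false

/-! Transvection-like automorphisms generating a Sylow subgroup of order `p`: the pair lemma. -/

namespace Cfsg.Agent.Lead.Transv

variable {P : Type*} [CommGroup P]

/-- The context: `u ∈ A` has order dividing `p`, moves every element by a power of the fixed
element `z` of order `p`, and `⟨u⟩` is a maximal `p`-subgroup of `A`. -/
structure Ctx (p : ℕ) (A : Subgroup (MulAut P)) (u : MulAut P) (z : P) : Prop where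
  huA : u ∈ A
  hup : u ^ p = 1
  hz1 : z ≠ 1
  hzp : z ^ p = 1
  huz : u z = z
  hc : ∀ x, cm u x ∈ Subgroup.zpowers z
  hmax : ∀ K : Subgroup (MulAut P), K ≤ A → IsPGroup p K → Subgroup.zpowers u ≤ K →
    K = Subgroup.zpowers u

lemma conj_pow' (g u : MulAut P) (n : ℕ) : (g * u * g⁻¹) ^ n = g * u ^ n * g⁻¹ := by
  induction n with
  | zero => simp
  | succ n ih => rw [pow_succ, ih, pow_succ]; group

lemma conj_zpow' (g u : MulAut P) (n : ℤ) : (g * u * g⁻¹) ^ n = g * u ^ n * g⁻¹ := by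
  have := map_zpow (MulAut.conj g) u n
  simpa [MulAut.conj_apply] using this.symm

lemma cm_conj (g u : MulAut P) (x : P) : cm (g * u * g⁻¹) x = g (cm u (g⁻¹ x)) := by
  simp only [cm_apply, MulAut.mul_apply, map_mul, map_inv, MulAut.apply_inv_self]

lemma map_zpowers_mem (g : MulAut P) {z y : P} (hy : y ∈ Subgroup.zpowers z) :
    g y ∈ Subgroup.zpowers (g z) := by
  obtain ⟨k, rfl⟩ := Subgroup.mem_zpowers_iff.mp hy
  rw [map_zpow]
  exact Subgroup.zpow_mem_zpowers _ _

lemma Ctx.conj {p : ℕ} {A : Subgroup (MulAut P)} {u : MulAut P} {z : P} (h : Ctx p A u z)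
    {g : MulAut P} (hg : g ∈ A) : Ctx p A (g * u * g⁻¹) (g z) where
  huA := A.mul_mem (A.mul_mem hg h.huA) (A.inv_mem hg)
  hup := by rw [conj_pow', h.hup]; group
  hz1 := by
    intro h1
    apply h.hz1
    have := congrArg (g⁻¹ : MulAut P) h1
    simpa using this
  hzp := by rw [← map_pow, h.hzp, map_one]
  huz := by
    simp only [MulAut.mul_apply, MulAut.inv_apply_self]
    rw [h.huz]
  hc := by
    intro x
    rw [cm_conj]
    exact map_zpowers_mem g (h.hc _)
  hmax := by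
    intro K hKA hKp hle
    have hK' : K.map (MulAut.conj g⁻¹).toMonoidHom = Subgroup.zpowers u := by
      apply h.hmax
      · rintro _ ⟨k, hk, rfl⟩
        have : (MulAut.conj g⁻¹).toMonoidHom k = g⁻¹ * k * g := by
          simp [MulAut.conj_apply]
        rw [this]
        exact A.mul_mem (A.mul_mem (A.inv_mem hg) (hKA hk)) hg
      · exact hKp.map _
      · rw [Subgroup.zpowers_le]
        refine ⟨g * u * g⁻¹, hle (Subgroup.mem_zpowers _), ?_⟩
        simp only [MulEquiv.coe_toMonoidHom, MulAut.conj_apply, inv_inv]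
        group
    apply le_antisymm
    · intro k hk
      have h1 : g⁻¹ * k * g ∈ Subgroup.zpowers u := by
        rw [← hK']
        refine ⟨k, hk, ?_⟩
        simp [MulAut.conj_apply]
      obtain ⟨n, hn⟩ := Subgroup.mem_zpowers_iff.mp h1
      rw [Subgroup.mem_zpowers_iff]
      refine ⟨n, ?_⟩
      rw [conj_zpow', hn]
      group
    · exact hle

lemma Ctx.u_ne_one {p : ℕ} {A : Subgroup (MulAut P)} {u : MulAut P} {z : P} (_h : Ctx p A u z)
    {g : MulAut P} (hgu : g * u * g⁻¹ ∉ Subgroup.zpowers u) : u ≠ 1 := by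
  rintro rfl
  apply hgu
  simp

lemma Ctx.pow_mem {p : ℕ} {A : Subgroup (MulAut P)} {u : MulAut P} {z : P} (h : Ctx p A u z)
    {y : P} (hy : y ∈ Subgroup.zpowers z) : y ^ p = 1 := by
  obtain ⟨k, rfl⟩ := Subgroup.mem_zpowers_iff.mp hy
  rw [← zpow_natCast, ← zpow_mul, mul_comm, zpow_mul, zpow_natCast, h.hzp, one_zpow]

lemma Ctx.fix_mem {p : ℕ} {A : Subgroup (MulAut P)} {u : MulAut P} {z : P} (h : Ctx p A u z)
    {y : P} (hy : y ∈ Subgroup.zpowers z) : u y = y := by
  obtain ⟨k, rfl⟩ := Subgroup.mem_zpowers_iff.mp hy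
  rw [map_zpow, h.huz]

/-- The pair lemma, first half: a conjugate of `u` outside `⟨u⟩` has its centre moved by `u`. -/
lemma Ctx.pair1 [Finite P] {p : ℕ} {A : Subgroup (MulAut P)} {u : MulAut P} {z : P}
    (h : Ctx p A u z) {g : MulAut P} (hg : g ∈ A) (hgu : g * u * g⁻¹ ∉ Subgroup.zpowers u) :
    u (g z) ≠ g z := by
  intro hfix
  have h' := h.conj hg
  apply hgu
  have hN : Subgroup.zpowers (g z) ≤ Subgroup.zpowers (g z) ⊔ Subgroup.zpowers z := le_sup_left
  have hexp : ∀ y ∈ Subgroup.zpowers (g z) ⊔ Subgroup.zpowers z, y ^ p = 1 := by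
    intro y hy
    obtain ⟨a, ha, b, hb, rfl⟩ := Subgroup.mem_sup.mp hy
    rw [mul_pow, h'.pow_mem ha, h.pow_mem hb, one_mul]
  have hfix' : ∀ y ∈ Subgroup.zpowers (g z), u y = y := by
    intro y hy
    obtain ⟨k, rfl⟩ := Subgroup.mem_zpowers_iff.mp hy
    rw [map_zpow, hfix]
  have hSu : Stab3 (Subgroup.zpowers (g z)) (Subgroup.zpowers (g z) ⊔ Subgroup.zpowers z) u := by
    refine ⟨hfix', fun y hy => ?_, fun x => le_sup_right (α := Subgroup P) (h.hc x)⟩
    obtain ⟨a, ha, b, hb, rfl⟩ := Subgroup.mem_sup.mp hy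
    have : cm u (a * b) = 1 := by
      rw [cm_eq_one_iff, map_mul, hfix' a ha, h.fix_mem hb]
    rw [this]
    exact Subgroup.one_mem _
  have hSu' : Stab3 (Subgroup.zpowers (g z)) (Subgroup.zpowers (g z) ⊔ Subgroup.zpowers z)
      (g * u * g⁻¹) :=
    ⟨fun n hn => h'.fix_mem hn, fun y _ => h'.hc y,
      fun x => le_sup_left (α := Subgroup P) (h'.hc x)⟩
  have hK := isPGroup_closure hN hexp {u, g * u * g⁻¹} (by
    intro α hα
    rcases hα with rfl | rfl
    · exact hSu
    · exact hSu')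
  have hKA : Subgroup.closure {u, g * u * g⁻¹} ≤ A := by
    rw [Subgroup.closure_le]
    intro α hα
    rcases hα with rfl | rfl
    · exact h.huA
    · exact h'.huA
  have hle : Subgroup.zpowers u ≤ Subgroup.closure {u, g * u * g⁻¹} := by
    rw [Subgroup.zpowers_le]
    exact Subgroup.subset_closure (Set.mem_insert _ _)
  rw [← h.hmax _ hKA hK hle]
  exact Subgroup.subset_closure (Set.mem_insert_of_mem _ rfl)

lemma Ctx.orderOf_eq {p : ℕ} [hp : Fact p.Prime] {A : Subgroup (MulAut P)} {u : MulAut P} {z : P}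
    (h : Ctx p A u z) (hu1 : u ≠ 1) : orderOf u = p := orderOf_eq_prime h.hup hu1

/-- If a conjugate `v` of `u` (with the same order) is not in `⟨u⟩` then `u ∉ ⟨v⟩`. -/
lemma not_mem_symm [Finite P] {p : ℕ} [hp : Fact p.Prime] {u v : MulAut P} (hup : u ^ p = 1)
    (hvp : v ^ p = 1) (hu1 : u ≠ 1) (hv : v ∉ Subgroup.zpowers u) : u ∉ Subgroup.zpowers v := by
  intro hu
  apply hv
  have hv1 : v ≠ 1 := by
    rintro rfl
    exact hv (Subgroup.one_mem _)
  have hle : Subgroup.zpowers u ≤ Subgroup.zpowers v := by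
    rw [Subgroup.zpowers_le]; exact hu
  have heq : Subgroup.zpowers u = Subgroup.zpowers v :=
    Subgroup.eq_of_le_of_card_ge hle (by
      rw [Nat.card_zpowers, Nat.card_zpowers, orderOf_eq_prime hup hu1, orderOf_eq_prime hvp hv1])
  rw [heq]
  exact Subgroup.mem_zpowers v

/-- The pair lemma, second half. -/
lemma Ctx.pair2 [Finite P] {p : ℕ} [hp : Fact p.Prime] {A : Subgroup (MulAut P)} {u : MulAut P}
    {z : P} (h : Ctx p A u z) {g : MulAut P} (hg : g ∈ A)
    (hgu : g * u * g⁻¹ ∉ Subgroup.zpowers u) : (g * u * g⁻¹) z ≠ z := by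
  have h' := h.conj hg
  have hu1 := h.u_ne_one hgu
  have h1 : g⁻¹ * (g * u * g⁻¹) * (g⁻¹)⁻¹ = u := by group
  have h2 : g⁻¹ * (g * u * g⁻¹) * (g⁻¹)⁻¹ ∉ Subgroup.zpowers (g * u * g⁻¹) := by
    rw [h1]
    exact not_mem_symm h.hup h'.hup hu1 hgu
  have := h'.pair1 (A.inv_mem hg) h2
  simpa using this

end Cfsg.Agent.Lead.Transv
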