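import Mathlib
import Cfsg.Agent.Lead.TransvB

set_option autoImplicit false

/-! Transvection-like automorphisms: decomposition and the third Sylow lemma. -/

namespace Cfsg.Agent.Lead.Transv

variable {P : Type*} [CommGroup P] [Finite P] {p : ℕ} [hp : Fact p.Prime]
  {A : Subgroup (MulAut P)} {u : MulAut P} {z : P}

/-- `cm u` of a nonfixed element generates `⟨z⟩`. -/
lemma Ctx.exists_pow_cm (h : Ctx p A u z) {y : P} (hy : u y ≠ y) {w : P}
    (hw : w ∈ Subgroup.zpowers z) : ∃ i : ℕ, (cm u y) ^ i = w :=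
  exists_pow_eq h.hzp (h.hc y) (fun h1 => hy ((cm_eq_one_iff u y).mp h1)) hw

/-- Every element can be corrected by powers of `z` and `g z` to a common fixed point. -/
lemma Ctx.decomp (h : Ctx p A u z) {g : MulAut P} (hg : g ∈ A)
    (hgu : g * u * g⁻¹ ∉ Subgroup.zpowers u) (x : P) :
    ∃ i j : ℕ, u (x * z ^ i * (g z) ^ j) = x * z ^ i * (g z) ^ j ∧
      (g * u * g⁻¹) (x * z ^ i * (g z) ^ j) = x * z ^ i * (g z) ^ j := by
  have h' := h.conj hg
  obtain ⟨j, hj⟩ := h.exists_pow_cm (h.pair1 hg hgu) (Subgroup.inv_mem _ (h.hc x))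
  obtain ⟨i, hi⟩ := h'.exists_pow_cm (h.pair2 hg hgu) (Subgroup.inv_mem _ (h'.hc x))
  refine ⟨i, j, ?_, ?_⟩
  · rw [← cm_eq_one_iff, map_mul, map_mul, map_pow, map_pow, hj,
      (cm_eq_one_iff u z).mpr h.huz, one_pow, mul_one, mul_inv_cancel]
  · rw [← cm_eq_one_iff, map_mul, map_mul, map_pow, map_pow, hi,
      (cm_eq_one_iff _ (g z)).mpr h'.huz, one_pow, mul_one, mul_inv_cancel]

/-- A fixed point of `u` can be corrected by a power of `z` to a common fixed point. -/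
lemma Ctx.decomp_fix (h : Ctx p A u z) {g : MulAut P} (hg : g ∈ A)
    (hgu : g * u * g⁻¹ ∉ Subgroup.zpowers u) (x : P) (hx : u x = x) :
    ∃ i : ℕ, u (x * z ^ i) = x * z ^ i ∧ (g * u * g⁻¹) (x * z ^ i) = x * z ^ i := by
  have h' := h.conj hg
  obtain ⟨i, hi⟩ := h'.exists_pow_cm (h.pair2 hg hgu) (Subgroup.inv_mem _ (h'.hc x))
  refine ⟨i, ?_, ?_⟩
  · rw [map_mul, map_pow, hx, h.huz]
  · rw [← cm_eq_one_iff, map_mul, map_pow, hi, mul_inv_cancel]

/-- A power of `z` fixed by the conjugate is trivial. -/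
lemma Ctx.pow_fix_eq_one (h : Ctx p A u z) {g : MulAut P} (hg : g ∈ A)
    (hgu : g * u * g⁻¹ ∉ Subgroup.zpowers u) (i : ℕ) (hi : (g * u * g⁻¹) (z ^ i) = z ^ i) :
    z ^ i = 1 := by
  have h' := h.conj hg
  have h1 : (cm (g * u * g⁻¹) z) ^ i = 1 := by
    rw [← map_pow, cm_eq_one_iff]; exact hi
  have h2 : cm (g * u * g⁻¹) z ≠ 1 := fun h3 => h.pair2 hg hgu ((cm_eq_one_iff _ z).mp h3)
  have h3 : (cm (g * u * g⁻¹) z) ^ p = 1 := h'.pow_mem (h'.hc z)
  have ho : orderOf (cm (g * u * g⁻¹) z) = p := orderOf_eq_prime h3 h2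
  have hdvd : p ∣ i := by
    rw [← ho]; exact orderOf_dvd_of_pow_eq_one h1
  obtain ⟨k, rfl⟩ := hdvd
  rw [pow_mul, h.hzp, one_pow]

/-- Symmetric form of the pair lemma. -/
lemma Ctx.pair_symm (h : Ctx p A u z) {g₁ g₂ : MulAut P} (hg₁ : g₁ ∈ A) (hg₂ : g₂ ∈ A)
    (hne : g₁ * u * g₁⁻¹ ∉ Subgroup.zpowers (g₂ * u * g₂⁻¹)) :
    (g₂ * u * g₂⁻¹) (g₁ z) ≠ g₁ z := by
  have hg : g₂⁻¹ * g₁ ∈ A := A.mul_mem (A.inv_mem hg₂) hg₁
  have hgu : (g₂⁻¹ * g₁) * u * (g₂⁻¹ * g₁)⁻¹ ∉ Subgroup.zpowers u := by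
    intro hmem
    apply hne
    obtain ⟨n, hn⟩ := Subgroup.mem_zpowers_iff.mp hmem
    rw [Subgroup.mem_zpowers_iff]
    refine ⟨n, ?_⟩
    rw [conj_zpow', hn]
    group
  have := h.pair1 hg hgu
  intro hfix
  apply this
  have h2 := congrArg (g₂⁻¹ : MulAut P) hfix
  simpa [MulAut.mul_apply] using h2

/-- The third Sylow lemma: every conjugate of `u` lies in the subgroup generated by `u` and one
conjugate outside `⟨u⟩`. -/
lemma Ctx.third (h : Ctx p A u z) {g : MulAut P} (hg : g ∈ A)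
    (hgu : g * u * g⁻¹ ∉ Subgroup.zpowers u) {γ : MulAut P} (hγ : γ ∈ A) :
    γ * u * γ⁻¹ ∈ Subgroup.closure {u, g * u * g⁻¹} := by
  have hu1 := h.u_ne_one hgu
  have huK : u ∈ Subgroup.closure {u, g * u * g⁻¹} :=
    Subgroup.subset_closure (Set.mem_insert _ _)
  have hu'K : g * u * g⁻¹ ∈ Subgroup.closure {u, g * u * g⁻¹} :=
    Subgroup.subset_closure (Set.mem_insert_of_mem _ rfl)
  by_cases hγu : γ * u * γ⁻¹ ∈ Subgroup.zpowers u
  · exact (Subgroup.zpowers_le.mpr huK) hγu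
  have h'' := h.conj hγ
  -- a point of `⟨z⟩⟨g z⟩` fixed by the third conjugate
  obtain ⟨j, hj⟩ := h''.exists_pow_cm (h.pair2 hγ hγu) (Subgroup.inv_mem _ (h''.hc (g z)))
  have hw : (γ * u * γ⁻¹) (z ^ j * g z) = z ^ j * g z := by
    rw [← cm_eq_one_iff, map_mul, map_pow, hj, inv_mul_cancel]
  obtain ⟨i, hi⟩ := h.exists_pow_cm (h.pair1 hg hgu)
    (Subgroup.pow_mem _ (Subgroup.mem_zpowers z) j)
  have hpow : (u ^ i) (g z) = z ^ j * g z := by
    rw [pow_apply_of_fix u (g z) (h.fix_mem (h.hc _)), hi, mul_comm]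
  have hg₁ : u ^ i * g ∈ A := A.mul_mem (A.pow_mem h.huA i) hg
  have hmem : (u ^ i * g) * u * (u ^ i * g)⁻¹ ∈ Subgroup.zpowers (γ * u * γ⁻¹) := by
    by_contra hne
    apply h.pair_symm hg₁ hγ hne
    have hz1 : (u ^ i * g) z = z ^ j * g z := by rw [MulAut.mul_apply, hpow]
    rw [hz1]
    exact hw
  have hcl : (u ^ i * g) * u * (u ^ i * g)⁻¹ ∈ Subgroup.closure {u, g * u * g⁻¹} := by
    have : (u ^ i * g) * u * (u ^ i * g)⁻¹ = u ^ i * (g * u * g⁻¹) * (u ^ i)⁻¹ := by group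
    rw [this]
    exact Subgroup.mul_mem _ (Subgroup.mul_mem _ (Subgroup.pow_mem _ huK i) hu'K)
      (Subgroup.inv_mem _ (Subgroup.pow_mem _ huK i))
  have h1 : (u ^ i * g) * u * (u ^ i * g)⁻¹ ≠ 1 := by
    intro h1
    apply hu1
    have : u = (u ^ i * g)⁻¹ * ((u ^ i * g) * u * (u ^ i * g)⁻¹) * (u ^ i * g) := by group
    rw [this, h1]
    group
  have hp1 : ((u ^ i * g) * u * (u ^ i * g)⁻¹) ^ p = 1 := (h.conj hg₁).hup
  have := not_mem_symm (u := γ * u * γ⁻¹) (v := (u ^ i * g) * u * (u ^ i * g)⁻¹) h''.hup hp1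
    (by
      intro h2
      apply hu1
      have : u = γ⁻¹ * (γ * u * γ⁻¹) * γ := by group
      rw [this, h2]
      group)
  by_contra hcon
  have h3 : γ * u * γ⁻¹ ∈ Subgroup.zpowers ((u ^ i * g) * u * (u ^ i * g)⁻¹) := by
    by_contra h4
    exact not_mem_symm hp1 h''.hup h1 h4 hmem
  exact hcon ((Subgroup.zpowers_le.mpr hcl) h3)

/-- Elements of the subgroup generated by `u` and its conjugate fix the common fixed points. -/
lemma closure_fix {u v : MulAut P} {x : P} (hu : u x = x) (hv : v x = x) {t : MulAut P}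
    (ht : t ∈ Subgroup.closure {u, v}) : t x = x := by
  induction ht using Subgroup.closure_induction with
  | mem y hy =>
    rcases hy with rfl | rfl
    · exact hu
    · exact hv
  | one => rfl
  | mul a b _ _ ha hb => rw [MulAut.mul_apply, hb, ha]
  | inv a _ ha =>
    have := congrArg (a⁻¹ : MulAut P) ha
    simpa using this.symm

/-- The common fixed points are invariant under `A`. -/
lemma Ctx.fix_invariant (h : Ctx p A u z) {g : MulAut P} (hg : g ∈ A)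
    (hgu : g * u * g⁻¹ ∉ Subgroup.zpowers u) {γ : MulAut P} (hγ : γ ∈ A) {x : P}
    (hx : u x = x) (hx' : (g * u * g⁻¹) x = x) :
    u (γ x) = γ x ∧ (g * u * g⁻¹) (γ x) = γ x := by
  have key : ∀ δ : MulAut P, δ ∈ A → (δ * u * δ⁻¹) (γ x) = γ x := by
    intro δ hδ
    have h1 : (γ⁻¹ * δ) * u * (γ⁻¹ * δ)⁻¹ ∈ Subgroup.closure {u, g * u * g⁻¹} :=
      h.third hg hgu (A.mul_mem (A.inv_mem hγ) hδ)
    have h2 := closure_fix hx hx' h1
    have h3 : δ * u * δ⁻¹ = γ * ((γ⁻¹ * δ) * u * (γ⁻¹ * δ)⁻¹) * γ⁻¹ := by group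
    rw [h3, MulAut.mul_apply, MulAut.mul_apply, MulAut.inv_apply_self, h2]
  refine ⟨?_, key g hg⟩
  have := key 1 A.one_mem
  simpa using this

end Cfsg.Agent.Lead.Transv
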