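import Mathlib
import Cfsg.Agent.Lead.TransvC

set_option autoImplicit false

/-! Transvection-like automorphisms: the inverting element. -/

namespace Cfsg.Agent.Lead.Transv

variable {P : Type*} [CommGroup P] [Finite P] {p : ℕ} [hp : Fact p.Prime]
  {A : Subgroup (MulAut P)} {u : MulAut P} {z : P}

lemma inv_apply_of_apply {α : MulAut P} {x y : P} (h : α x = y) : α⁻¹ y = x := by
  rw [← h, MulAut.inv_apply_self]

/-- There is an element of `⟨u, u'⟩` inverting `z` and `g z` and commuting with `u`. -/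
theorem Ctx.exists_inverting (h : Ctx p A u z) {g : MulAut P} (hg : g ∈ A)
    (hgu : g * u * g⁻¹ ∉ Subgroup.zpowers u) :
    ∃ t ∈ Subgroup.closure {u, g * u * g⁻¹}, t z = z⁻¹ ∧ t * u = u * t := by
  have h' := h.conj hg
  have huK : u ∈ Subgroup.closure {u, g * u * g⁻¹} :=
    Subgroup.subset_closure (Set.mem_insert _ _)
  have hu'K : g * u * g⁻¹ ∈ Subgroup.closure {u, g * u * g⁻¹} :=
    Subgroup.subset_closure (Set.mem_insert_of_mem _ rfl)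
  -- normalized generators
  have hz₁mem : cm u (g z) ∈ Subgroup.zpowers z := h.hc _
  have hz₁ne : cm u (g z) ≠ 1 := fun h1 => h.pair1 hg hgu ((cm_eq_one_iff u _).mp h1)
  obtain ⟨a, ha⟩ := exists_pow_eq h.hzp hz₁mem hz₁ne (Subgroup.mem_zpowers z)
  have hu'z₁ : (g * u * g⁻¹) (cm u (g z)) ≠ cm u (g z) := by
    intro hfix
    apply h.pair2 hg hgu
    rw [← ha, map_pow, hfix]
  have hz'₁mem : cm (g * u * g⁻¹) (cm u (g z)) ∈ Subgroup.zpowers (g z) := h'.hc _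
  have hz'₁ne : cm (g * u * g⁻¹) (cm u (g z)) ≠ 1 :=
    fun h1 => hu'z₁ ((cm_eq_one_iff _ _).mp h1)
  obtain ⟨b, hb⟩ := exists_pow_eq h'.hzp hz'₁mem hz'₁ne (Subgroup.mem_zpowers (g z))
  have huz'₁ : u (cm (g * u * g⁻¹) (cm u (g z))) ≠ cm (g * u * g⁻¹) (cm u (g z)) := by
    intro hfix
    apply h.pair1 hg hgu
    rw [← hb, map_pow, hfix]
  obtain ⟨k, hk⟩ := h.exists_pow_cm huz'₁ hz₁mem
  -- abbreviations
  obtain ⟨z₁, hz₁def⟩ : ∃ z₁, z₁ = cm u (g z) := ⟨_, rfl⟩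
  obtain ⟨z₂, hz₂def⟩ : ∃ z₂, z₂ = cm (g * u * g⁻¹) z₁ := ⟨_, rfl⟩
  rw [← hz₁def] at hz₁mem ha hu'z₁ hz'₁mem hb huz'₁ hk
  rw [← hz₂def] at hz'₁mem hb huz'₁ hk
  have hu₀z₁ : (u ^ k) z₁ = z₁ := by
    have : u z₁ = z₁ := h.fix_mem hz₁mem
    clear hk
    induction k with
    | zero => rfl
    | succ k ih => rw [pow_succ, MulAut.mul_apply, this, ih]
  have hu₀z₂ : (u ^ k) z₂ = z₂ * z₁ := by
    rw [pow_apply_of_fix u z₂ (h.fix_mem (h.hc _)), hk]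
  have hu'z₁' : (g * u * g⁻¹) z₁ = z₁ * z₂ := by rw [hz₂def, ← apply_eq_mul_cm]
  have hu'z₂ : (g * u * g⁻¹) z₂ = z₂ := h'.fix_mem hz'₁mem
  have hi1 : (u ^ k)⁻¹ z₁ = z₁ := inv_apply_of_apply hu₀z₁
  have hi2 : (u ^ k)⁻¹ z₂ = z₂ * z₁⁻¹ := by
    apply inv_apply_of_apply
    rw [map_mul, map_inv, hu₀z₂, hu₀z₁, mul_inv_cancel_right]
  have hw1 : ((u ^ k)⁻¹ * (g * u * g⁻¹) * (u ^ k)⁻¹) z₁ = z₂ := by
    rw [MulAut.mul_apply, MulAut.mul_apply, hi1, hu'z₁', map_mul, hi1, hi2]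
    rw [mul_comm z₂, mul_inv_cancel_left]
  have hw2 : ((u ^ k)⁻¹ * (g * u * g⁻¹) * (u ^ k)⁻¹) z₂ = z₁⁻¹ := by
    rw [MulAut.mul_apply, MulAut.mul_apply, hi2, map_mul, map_inv, hu'z₂, hu'z₁', mul_inv,
      mul_comm z₁⁻¹, mul_inv_cancel_left, map_inv, hi1]
  obtain ⟨w, hwdef⟩ : ∃ w, w = (u ^ k)⁻¹ * (g * u * g⁻¹) * (u ^ k)⁻¹ := ⟨_, rfl⟩
  rw [← hwdef] at hw1 hw2
  have hwK : w ∈ Subgroup.closure {u, g * u * g⁻¹} := by
    rw [hwdef]
    exact Subgroup.mul_mem _ (Subgroup.mul_mem _ (Subgroup.inv_mem _ (Subgroup.pow_mem _ huK k))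
      hu'K) (Subgroup.inv_mem _ (Subgroup.pow_mem _ huK k))
  have ht1 : (w * w) z₁ = z₁⁻¹ := by rw [MulAut.mul_apply, hw1, hw2]
  have ht2 : (w * w) z₂ = z₂⁻¹ := by rw [MulAut.mul_apply, hw2, map_inv, hw1]
  have htz : (w * w) z = z⁻¹ := by rw [← ha, map_pow, ht1, inv_pow]
  have htz' : (w * w) (g z) = (g z)⁻¹ := by rw [← hb, map_pow, ht2, inv_pow]
  have htK : w * w ∈ Subgroup.closure {u, g * u * g⁻¹} := Subgroup.mul_mem _ hwK hwK
  obtain ⟨t, htdef⟩ : ∃ t, t = w * w := ⟨_, rfl⟩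
  rw [← htdef] at ht1 ht2 htz htz' htK
  refine ⟨t, htK, htz, ?_⟩
  -- commutation with `u`
  have hinvW : ∀ y ∈ Subgroup.zpowers z ⊔ Subgroup.zpowers (g z), t y = y⁻¹ := by
    intro y hy
    obtain ⟨c, hc, d, hd, rfl⟩ := Subgroup.mem_sup.mp hy
    obtain ⟨m, rfl⟩ := Subgroup.mem_zpowers_iff.mp hc
    obtain ⟨n, rfl⟩ := Subgroup.mem_zpowers_iff.mp hd
    rw [map_mul, map_zpow, map_zpow, htz, htz', mul_inv, inv_zpow, inv_zpow]
  have huW : ∀ y ∈ Subgroup.zpowers z ⊔ Subgroup.zpowers (g z),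
      u y ∈ Subgroup.zpowers z ⊔ Subgroup.zpowers (g z) := by
    intro y hy
    have hy' : u y = y * cm u y := apply_eq_mul_cm u y
    rw [hy']
    exact Subgroup.mul_mem _ hy (le_sup_left (α := Subgroup P) (h.hc y))
  ext x
  obtain ⟨i, j, hx1, hx2⟩ := h.decomp hg hgu x
  have hx0 : t (x * z ^ i * (g z) ^ j) = x * z ^ i * (g z) ^ j := closure_fix hx1 hx2 htK
  have hyW : (z ^ i * (g z) ^ j)⁻¹ ∈ Subgroup.zpowers z ⊔ Subgroup.zpowers (g z) :=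
    Subgroup.inv_mem _ (Subgroup.mul_mem _
      (le_sup_left (α := Subgroup P) (Subgroup.pow_mem _ (Subgroup.mem_zpowers z) i))
      (le_sup_right (α := Subgroup P) (Subgroup.pow_mem _ (Subgroup.mem_zpowers (g z)) j)))
  have hxeq : x = (x * z ^ i * (g z) ^ j) * (z ^ i * (g z) ^ j)⁻¹ := by
    rw [mul_assoc x, mul_inv_cancel_right]
  rw [MulAut.mul_apply, MulAut.mul_apply]
  rw [hxeq, map_mul u, hx1, map_mul t, hx0, map_mul t, hx0,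
    hinvW _ (huW _ hyW), hinvW _ hyW, map_mul u, hx1, map_inv u, inv_inv, inv_inv]

end Cfsg.Agent.Lead.Transv
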