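import Mathlib
import Cfsg.Agent.Lead.TransvD
import Cfsg.Agent.Lead.SylowLemmas

set_option autoImplicit false

/-! Transvection-like automorphisms: the commutator subgroup and the Frattini argument. -/

namespace Cfsg.Agent.Lead.Transv

variable {P : Type*} [CommGroup P] [Finite P] {p : ℕ} [hp : Fact p.Prime]
  {A : Subgroup (MulAut P)} {u : MulAut P} {z : P}

omit [Finite P] in
lemma cm_inv (α : MulAut P) (x : P) : cm α⁻¹ x = (cm α (α⁻¹ x))⁻¹ := by
  simp only [cm_apply, MulAut.apply_inv_self, mul_inv_rev, inv_inv]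

omit [Finite P] in
lemma cm_one (x : P) : cm (1 : MulAut P) x = 1 := by
  rw [cm_apply]; simp

/-- Elements of `⟨u, u'⟩` move every element by an element of `⟨z⟩⟨g z⟩`. -/
lemma Ctx.cm_closure_mem (h : Ctx p A u z) {g : MulAut P} (hg : g ∈ A) {k : MulAut P}
    (hk : k ∈ Subgroup.closure {u, g * u * g⁻¹}) (x : P) :
    cm k x ∈ Subgroup.zpowers z ⊔ Subgroup.zpowers (g z) := by
  have h' := h.conj hg
  induction hk using Subgroup.closure_induction generalizing x with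
  | mem y hy =>
    rcases hy with rfl | rfl
    · exact le_sup_left (α := Subgroup P) (h.hc x)
    · exact le_sup_right (α := Subgroup P) (h'.hc x)
  | one => rw [cm_one]; exact Subgroup.one_mem _
  | mul a b _ _ ha hb => rw [cm_mul]; exact Subgroup.mul_mem _ (hb x) (ha _)
  | inv a _ ha => rw [cm_inv]; exact Subgroup.inv_mem _ (ha _)

/-- `z` is a value of the commutator map of `u`. -/
lemma Ctx.exists_cm_eq (h : Ctx p A u z) (hu1 : u ≠ 1) : ∃ x, cm u x = z := by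
  have hex : ∃ y, u y ≠ y := by
    by_contra hcon
    push Not at hcon
    apply hu1
    ext y
    exact hcon y
  obtain ⟨y, hy⟩ := hex
  obtain ⟨i, hi⟩ := h.exists_pow_cm hy (Subgroup.mem_zpowers z)
  exact ⟨y ^ i, by rw [map_pow, hi]⟩

/-- `A` maps `z` into `⟨z⟩⟨g z⟩`. -/
lemma Ctx.map_z_mem (h : Ctx p A u z) {g : MulAut P} (hg : g ∈ A)
    (hgu : g * u * g⁻¹ ∉ Subgroup.zpowers u) {γ : MulAut P} (hγ : γ ∈ A) :
    γ z ∈ Subgroup.zpowers z ⊔ Subgroup.zpowers (g z) := by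
  obtain ⟨x, hx⟩ := h.exists_cm_eq (h.u_ne_one hgu)
  have h1 := cm_conj γ u (γ x)
  rw [MulAut.inv_apply_self, hx] at h1
  rw [← h1]
  exact h.cm_closure_mem hg (h.third hg hgu hγ) _

/-- `⟨z⟩⟨g z⟩` is invariant under `A`. -/
lemma Ctx.map_W_mem (h : Ctx p A u z) {g : MulAut P} (hg : g ∈ A)
    (hgu : g * u * g⁻¹ ∉ Subgroup.zpowers u) {γ : MulAut P} (hγ : γ ∈ A) {w : P}
    (hw : w ∈ Subgroup.zpowers z ⊔ Subgroup.zpowers (g z)) :
    γ w ∈ Subgroup.zpowers z ⊔ Subgroup.zpowers (g z) := by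
  obtain ⟨c, hc, d, hd, rfl⟩ := Subgroup.mem_sup.mp hw
  obtain ⟨m, rfl⟩ := Subgroup.mem_zpowers_iff.mp hc
  obtain ⟨n, rfl⟩ := Subgroup.mem_zpowers_iff.mp hd
  rw [map_mul, map_zpow, map_zpow]
  apply Subgroup.mul_mem
  · exact Subgroup.zpow_mem _ (h.map_z_mem hg hgu hγ) m
  · have := h.map_z_mem hg hgu (A.mul_mem hγ hg)
    rw [MulAut.mul_apply] at this
    exact Subgroup.zpow_mem _ this n

lemma Ctx.isPGroup_zpowers (h : Ctx p A u z) : IsPGroup p (Subgroup.zpowers u) := by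
  rintro ⟨v, hv⟩
  obtain ⟨k, rfl⟩ := Subgroup.mem_zpowers_iff.mp hv
  refine ⟨1, Subtype.ext ?_⟩
  rw [pow_one, Subgroup.coe_pow, Subgroup.coe_one]
  show (u ^ k) ^ p = 1
  rw [← zpow_natCast, ← zpow_mul, mul_comm, zpow_mul, zpow_natCast, h.hup, one_zpow]

/-- The Frattini argument: `A = ⟨u, u'⟩ N_A(⟨u⟩)`. -/
lemma Ctx.frattini (h : Ctx p A u z) {g : MulAut P} (hg : g ∈ A)
    (hgu : g * u * g⁻¹ ∉ Subgroup.zpowers u) {δ : MulAut P} (hδ : δ ∈ A) :
    ∃ k ∈ Subgroup.closure {u, g * u * g⁻¹}, ∃ n ∈ A, δ = k * n ∧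
      n * u * n⁻¹ ∈ Subgroup.zpowers u := by
  have h'' := h.conj hδ
  have huK : u ∈ Subgroup.closure {u, g * u * g⁻¹} :=
    Subgroup.subset_closure (Set.mem_insert _ _)
  have hKA : Subgroup.closure {u, g * u * g⁻¹} ≤ A := by
    rw [Subgroup.closure_le]
    intro α hα
    rcases hα with rfl | rfl
    · exact h.huA
    · exact (h.conj hg).huA
  have hUK : Subgroup.zpowers u ≤ Subgroup.closure {u, g * u * g⁻¹} := by
    rw [Subgroup.zpowers_le]; exact huK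
  have hVK : Subgroup.zpowers (δ * u * δ⁻¹) ≤ Subgroup.closure {u, g * u * g⁻¹} := by
    rw [Subgroup.zpowers_le]; exact h.third hg hgu hδ
  obtain ⟨T, hUT, hTK, hTp, hTcard⟩ := exists_le_card_eq_ppart h.isPGroup_zpowers hUK
  have hTU : T = Subgroup.zpowers u := h.hmax T (hTK.trans hKA) hTp hUT
  rw [hTU] at hTcard
  obtain ⟨m, hmK, hm⟩ := exists_conj_le_of_card_eq_ppart hUK hTcard hVK h''.isPGroup_zpowers
  have h1 : m * (δ * u * δ⁻¹) * m⁻¹ ∈ Subgroup.zpowers u := by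
    apply hm
    refine ⟨δ * u * δ⁻¹, Subgroup.mem_zpowers _, ?_⟩
    simp [MulAut.conj_apply]
  refine ⟨m⁻¹, Subgroup.inv_mem _ hmK, m * δ, A.mul_mem (hKA hmK) hδ, by group, ?_⟩
  have h2 : m * δ * u * (m * δ)⁻¹ = m * (δ * u * δ⁻¹) * m⁻¹ := by group
  rw [h2]
  exact h1

end Cfsg.Agent.Lead.Transv
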