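import Mathlib
import Cfsg.Agent.Lead.TransvE

set_option autoImplicit false

/-! Transvection-like automorphisms: the statements for groups with a commutativity hypothesis. -/

namespace Cfsg.Agent.Lead.Transv

/-- The context for a group that is commutative by hypothesis. -/
structure GCtx {H : Type*} [Group H] (p : ℕ) (A : Subgroup (MulAut H)) (u : MulAut H) (z : H) :
    Prop where
  hab : ∀ a b : H, a * b = b * a
  huA : u ∈ A
  hup : u ^ p = 1
  hz1 : z ≠ 1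
  hzp : z ^ p = 1
  huz : u z = z
  hc : ∀ x, x⁻¹ * u x ∈ Subgroup.zpowers z
  hmax : ∀ K : Subgroup (MulAut H), K ≤ A → IsPGroup p K → Subgroup.zpowers u ≤ K →
    K = Subgroup.zpowers u

/-- The consequences used later. -/
structure GRes {H : Type*} [Group H] (p : ℕ) (A : Subgroup (MulAut H)) (u : MulAut H) (z : H)
    (g : MulAut H) : Prop where
  decomp : ∀ x, ∃ i j : ℕ, u (x * z ^ i * (g z) ^ j) = x * z ^ i * (g z) ^ j ∧
      (g * u * g⁻¹) (x * z ^ i * (g z) ^ j) = x * z ^ i * (g z) ^ j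
  decomp_u : ∀ x, ∃ j : ℕ, u (x * (g z) ^ j) = x * (g z) ^ j
  decomp_fix : ∀ x, u x = x → ∃ i : ℕ, u (x * z ^ i) = x * z ^ i ∧
      (g * u * g⁻¹) (x * z ^ i) = x * z ^ i
  pow_fix : ∀ i : ℕ, (g * u * g⁻¹) (z ^ i) = z ^ i → z ^ i = 1
  fix_inv : ∀ γ ∈ A, ∀ x, u x = x → (g * u * g⁻¹) x = x →
      u (γ x) = γ x ∧ (g * u * g⁻¹) (γ x) = γ x
  inverting : ∃ t ∈ A, t z = z⁻¹ ∧ t * u = u * t ∧
      ∀ x, u x = x → (g * u * g⁻¹) x = x → t x = x
  frattini : ∀ δ ∈ A, ∃ k ∈ A, ∃ n ∈ A, δ = k * n ∧ n * u * n⁻¹ ∈ Subgroup.zpowers u ∧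
      (∀ x, u x = x → (g * u * g⁻¹) x = x → k x = x) ∧
      (∀ x, x⁻¹ * k x ∈ Subgroup.zpowers z ⊔ Subgroup.zpowers (g z))
  mapW : ∀ γ ∈ A, ∀ w ∈ Subgroup.zpowers z ⊔ Subgroup.zpowers (g z),
      γ w ∈ Subgroup.zpowers z ⊔ Subgroup.zpowers (g z)
  pair1 : u (g z) ≠ g z
  gz_pow : (g z) ^ p = 1
  u_ne_one : u ≠ 1

theorem GCtx.res {H : Type*} [Group H] [Finite H] {p : ℕ} [hp : Fact p.Prime]
    {A : Subgroup (MulAut H)} {u : MulAut H} {z : H} (h : GCtx p A u z) {g : MulAut H}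
    (hg : g ∈ A) (hgu : g * u * g⁻¹ ∉ Subgroup.zpowers u) : GRes p A u z g := by
  letI : CommGroup H := { ‹Group H› with mul_comm := h.hab }
  have c : Ctx p A u z :=
    { huA := h.huA
      hup := h.hup
      hz1 := h.hz1
      hzp := h.hzp
      huz := h.huz
      hc := h.hc
      hmax := h.hmax }
  have hKA : Subgroup.closure {u, g * u * g⁻¹} ≤ A := by
    rw [Subgroup.closure_le]
    intro α hα
    rcases hα with rfl | rfl
    · exact h.huA
    · exact (c.conj hg).huA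
  refine
    { decomp := c.decomp hg hgu
      decomp_u := ?_
      decomp_fix := c.decomp_fix hg hgu
      pow_fix := c.pow_fix_eq_one hg hgu
      fix_inv := fun γ hγ x hx hx' => c.fix_invariant hg hgu hγ hx hx'
      inverting := ?_
      frattini := ?_
      mapW := fun γ hγ w hw => c.map_W_mem hg hgu hγ hw
      pair1 := c.pair1 hg hgu
      gz_pow := (c.conj hg).hzp
      u_ne_one := c.u_ne_one hgu }
  · intro x
    obtain ⟨j, hj⟩ := c.exists_pow_cm (c.pair1 hg hgu) (Subgroup.inv_mem _ (c.hc x))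
    refine ⟨j, ?_⟩
    rw [← cm_eq_one_iff, map_mul, map_pow, hj, mul_inv_cancel]
  · obtain ⟨t, htK, htz, htu⟩ := c.exists_inverting hg hgu
    exact ⟨t, hKA htK, htz, htu, fun x hx hx' => closure_fix hx hx' htK⟩
  · intro δ hδ
    obtain ⟨k, hkK, n, hnA, hδkn, hn⟩ := c.frattini hg hgu hδ
    exact ⟨k, hKA hkK, n, hnA, hδkn, hn, fun x hx hx' => closure_fix hx hx' hkK,
      fun x => c.cm_closure_mem hg hkK x⟩

end Cfsg.Agent.Lead.Transv
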