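import Mathlib
import Cfsg.Agent.Lead.AbIdxA
import Cfsg.Agent.Lead.TransvF

set_option autoImplicit false

/-! A Sylow `p`-subgroup of automorphisms of an abelian `p`-group centralizing a subgroup of index
`p` is cyclic, when there is no nontrivial normal `p`-subgroup. -/

namespace Cfsg.Agent.Lead.AbIdx

open Cfsg.Agent.Lead.Transv

section

variable {P : Type*} [CommGroup P] [Finite P]

lemma isPGroup_closure' {N₁ N₂ : Subgroup P} (hN : N₁ ≤ N₂) {q n : ℕ}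
    (hexp : ∀ y ∈ N₂, y ^ (q ^ n) = 1) (T : Set (MulAut P)) (hT : ∀ α ∈ T, Stab3 N₁ N₂ α) :
    IsPGroup q (Subgroup.closure T) := by
  have := isPGroup_closure hN (p := q ^ n) hexp T hT
  intro g
  obtain ⟨k, hk⟩ := this g
  exact ⟨n * k, by rwa [pow_mul]⟩

end

theorem sylow_cyclic_of_transvections {Pt : Type*} [Group Pt] [Finite Pt] {p : ℕ}
    [hp : Fact p.Prime] (hab : ∀ a b : Pt, a * b = b * a) (hPp : IsPGroup p Pt)
    (Zp : Subgroup Pt) (hidx : Zp.index = p)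
    (G : Subgroup (MulAut Pt)) (R : Sylow p G)
    (hfix : ∀ α ∈ R, ∀ w ∈ Zp, (α : MulAut Pt) w = w)
    (hcm : ∀ α ∈ R, ∀ y : Pt, y⁻¹ * (α : MulAut Pt) y ∈ Zp)
    (hcore : ∀ K : Subgroup G, K.Normal → IsPGroup p K → K = ⊥)
    (u : G) (hu : u ∈ R) (hu1 : u ≠ 1) (α : G) (hα : α ∈ R) :
    (α : MulAut Pt) ∈ Subgroup.zpowers (u : MulAut Pt) := by
  letI : CommGroup Pt := { (inferInstance : Group Pt) with mul_comm := hab }
  have hcm' : ∀ β ∈ R, ∀ y : Pt, cm (β : MulAut Pt) y ∈ Zp := hcm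
  have hcmfix : ∀ β ∈ R, ∀ w ∈ Zp, cm (β : MulAut Pt) w = 1 := by
    intro β hβ w hw
    rw [cm_eq_one_iff]; exact hfix β hβ w hw
  -- `R` is abelian
  have hRab : ∀ a ∈ R, ∀ b ∈ R, a * b = b * a := by
    intro a ha b hb
    apply Subtype.ext
    ext y
    show (a : MulAut Pt) ((b : MulAut Pt) y) = (b : MulAut Pt) ((a : MulAut Pt) y)
    rw [apply_eq_mul_cm (b : MulAut Pt) y, apply_eq_mul_cm (a : MulAut Pt) y, map_mul, map_mul,
      hfix a ha _ (hcm' b hb y), hfix b hb _ (hcm' a ha y), apply_eq_mul_cm (b : MulAut Pt) y,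
      apply_eq_mul_cm (a : MulAut Pt) y, mul_assoc, mul_assoc,
      mul_comm (cm (a : MulAut Pt) y)]
  obtain ⟨g₀, hg₀⟩ := brodkey R hRab hcore
  obtain ⟨n, hn⟩ := IsPGroup.iff_card.mp hPp
  -- the key claim
  have star : ∀ β : G, β ∈ R →
      (∀ y : Pt, cm (β : MulAut Pt) y ∈ Zp.map (g₀ : MulAut Pt).toMonoidHom) → β = 1 := by
    intro β hβ hβZ'
    apply hg₀ β hβ
    have hT : ∀ γ ∈ ({γ : MulAut Pt | ∃ δ : G, δ ∈ (g₀ • R : Sylow p G) ∧ (δ : MulAut Pt) = γ} ∪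
        {(β : MulAut Pt)} : Set (MulAut Pt)),
        Stab3 (Zp ⊓ Zp.map (g₀ : MulAut Pt).toMonoidHom) (Zp.map (g₀ : MulAut Pt).toMonoidHom) γ := by
      rintro γ (⟨δ, hδ, rfl⟩ | rfl)
      · rw [mem_smul_sylow] at hδ
        have hδeq : (δ : MulAut Pt) = (g₀ : MulAut Pt) * ((g₀⁻¹ * δ * g₀ : G) : MulAut Pt) *
            (g₀ : MulAut Pt)⁻¹ := by
          show (δ : MulAut Pt) = (g₀ : MulAut Pt) * ((g₀ : MulAut Pt)⁻¹ * (δ : MulAut Pt) *
            (g₀ : MulAut Pt)) * (g₀ : MulAut Pt)⁻¹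
          group
        have hfixZ' : ∀ y ∈ Zp.map (g₀ : MulAut Pt).toMonoidHom, (δ : MulAut Pt) y = y := by
          rintro _ ⟨y₀, hy₀, rfl⟩
          rw [hδeq]
          show (g₀ : MulAut Pt) (((g₀⁻¹ * δ * g₀ : G) : MulAut Pt)
            ((g₀ : MulAut Pt)⁻¹ ((g₀ : MulAut Pt) y₀))) = (g₀ : MulAut Pt) y₀
          rw [MulAut.inv_apply_self, hfix _ hδ y₀ hy₀]
        refine ⟨fun m hm => hfixZ' m hm.2, fun y hy => ?_, fun y => ?_⟩
        · rw [(cm_eq_one_iff _ _).mpr (hfixZ' y hy)]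
          exact Subgroup.one_mem _
        · rw [hδeq, cm_conj]
          exact ⟨_, hcm' _ hδ _, rfl⟩
      · refine ⟨fun m hm => hfix β hβ m hm.1, fun y _ => ⟨hcm' β hβ y, hβZ' y⟩, fun y => hβZ' y⟩
    have hK : IsPGroup p (Subgroup.closure
        ({γ : MulAut Pt | ∃ δ : G, δ ∈ (g₀ • R : Sylow p G) ∧ (δ : MulAut Pt) = γ} ∪
        {(β : MulAut Pt)} : Set (MulAut Pt))) := by
      apply isPGroup_closure' (inf_le_right) (n := n) _ _ hT
      intro y _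
      rw [← hn]; exact pow_card_eq_one'
    have hK' := hK.comap_subtype (K := G)
    have hle : ((g₀ • R : Sylow p G) : Subgroup G) ≤ (Subgroup.closure
        ({γ : MulAut Pt | ∃ δ : G, δ ∈ (g₀ • R : Sylow p G) ∧ (δ : MulAut Pt) = γ} ∪
        {(β : MulAut Pt)} : Set (MulAut Pt))).subgroupOf G := by
      intro δ hδ
      rw [Subgroup.mem_subgroupOf]
      exact Subgroup.subset_closure (Or.inl ⟨δ, hδ, rfl⟩)
    have hmax := (g₀ • R : Sylow p G).is_maximal' hK' hle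
    have hβK : β ∈ (Subgroup.closure
        ({γ : MulAut Pt | ∃ δ : G, δ ∈ (g₀ • R : Sylow p G) ∧ (δ : MulAut Pt) = γ} ∪
        {(β : MulAut Pt)} : Set (MulAut Pt))).subgroupOf G := by
      rw [Subgroup.mem_subgroupOf]
      exact Subgroup.subset_closure (Or.inr rfl)
    have hβR : β ∈ ((g₀ • R : Sylow p G) : Subgroup G) := by
      rw [← hmax]; exact hβK
    exact hβR
  -- an element outside `Zp`
  obtain ⟨x₀, hx₀⟩ : ∃ x₀ : Pt, x₀ ∉ Zp := by
    by_contra hcon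
    push Not at hcon
    have : Zp = ⊤ := by rw [eq_top_iff]; intro y _; exact hcon y
    rw [this, Subgroup.index_top] at hidx
    exact hp.out.one_lt.ne hidx
  haveI hZpn : Zp.Normal := Subgroup.normal_of_isMulCommutative Zp
  have hcmpow : ∀ β ∈ R, ∀ y : Pt, ∃ i : ℕ, cm (β : MulAut Pt) y = (cm (β : MulAut Pt) x₀) ^ i := by
    intro β hβ y
    obtain ⟨i, w, hw, rfl⟩ := exists_pow_mul_of_index_prime Zp hidx hx₀ y
    exact ⟨i, by rw [map_mul, map_pow, hcmfix β hβ w hw, mul_one]⟩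
  -- the homomorphism `β ↦ cm β x₀`
  let Φ : ↥(R : Subgroup G) →* Pt :=
    { toFun := fun β => cm ((β : G) : MulAut Pt) x₀
      map_one' := by
        show cm (((1 : G)) : MulAut Pt) x₀ = 1
        rw [cm_eq_one_iff]; rfl
      map_mul' := by
        intro a b
        show cm (((a : G) : MulAut Pt) * ((b : G) : MulAut Pt)) x₀ = _
        rw [cm_mul, apply_eq_mul_cm ((b : G) : MulAut Pt) x₀, map_mul,
          hcmfix a a.2 _ (hcm' b b.2 x₀), mul_one, mul_comm] }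
  have hΦ : ∀ β : ↥(R : Subgroup G), Φ β = cm ((β : G) : MulAut Pt) x₀ := fun _ => rfl
  have hz₀ : cm (u : MulAut Pt) x₀ ∉ Zp.map (g₀ : MulAut Pt).toMonoidHom := by
    intro hmem
    apply hu1
    apply star u hu
    intro y
    obtain ⟨i, hi⟩ := hcmpow u hu y
    rw [hi]
    exact Subgroup.pow_mem _ hmem i
  have hidx' : (Zp.map (g₀ : MulAut Pt).toMonoidHom).index = p := by
    rw [← hidx]
    exact Subgroup.index_map_equiv Zp (g₀ : MulAut Pt)
  haveI hZ'n : (Zp.map (g₀ : MulAut Pt).toMonoidHom).Normal := Subgroup.normal_of_isMulCommutative _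
  obtain ⟨k, w', hw', hk⟩ := exists_pow_mul_of_index_prime (Zp.map (g₀ : MulAut Pt).toMonoidHom)
    hidx' hz₀ (cm (α : MulAut Pt) x₀)
  have hβ1 : (⟨α, hα⟩ : ↥(R : Subgroup G)) * (⟨u, hu⟩ ^ k)⁻¹ = 1 := by
    have h1 : ((⟨α, hα⟩ : ↥(R : Subgroup G)) * (⟨u, hu⟩ ^ k)⁻¹ : ↥(R : Subgroup G)).1 = 1 := by
      apply star _ (Subtype.property _)
      intro y
      obtain ⟨i, hi⟩ := hcmpow _ (Subtype.property
        ((⟨α, hα⟩ : ↥(R : Subgroup G)) * (⟨u, hu⟩ ^ k)⁻¹)) y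
      rw [hi]
      apply Subgroup.pow_mem
      rw [← hΦ, map_mul, map_inv, map_pow, hΦ, hΦ]
      show cm (α : MulAut Pt) x₀ * (cm (u : MulAut Pt) x₀ ^ k)⁻¹ ∈ _
      rw [hk, mul_comm (cm (u : MulAut Pt) x₀ ^ k) w', mul_inv_cancel_right]
      exact hw'
    exact Subtype.ext h1
  have hαu : (⟨α, hα⟩ : ↥(R : Subgroup G)) = ⟨u, hu⟩ ^ k := by
    rw [mul_inv_eq_one] at hβ1
    exact hβ1
  have h2 : α = u ^ k := by
    have := congrArg Subtype.val hαu
    simpa using this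
  rw [h2]
  show ((u : MulAut Pt) ^ k) ∈ _
  exact Subgroup.pow_mem _ (Subgroup.mem_zpowers _) k

end Cfsg.Agent.Lead.AbIdx
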