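import Mathlib
import Cfsg.Prelude.Def_FusionSystem
import Cfsg.Agent.Lead.FusionAlperin
import Cfsg.Agent.Lead.FusionNormalCrit
import Cfsg.Agent.Helper5.SPE

set_option autoImplicit false

namespace Cfsg.Agent.Lead

open Cfsg Cfsg.FusionSystem

variable {Ω : Type*} [Group Ω] {S : Subgroup Ω}

/-- For a fully normalized centric proper subgroup `P`: `p` divides `|Out_F(P)|`, the image of
`Aut_S(P)` is a Sylow `p`-subgroup of `Out_F(P)`, and the image of the subgroup generated by the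
extendable automorphisms contains its `1`-generated core. -/
theorem Fusion.ess_data [Finite S] (p : ℕ) [Fact p.Prime] (hS : IsPGroup p S)
    (F : FusionSystem S) (hF : F.IsSaturated p) {P : Subgroup Ω} (hPS : P < S)
    (hPn : F.IsFullyNormalized P) (hc : F.IsCentric P) :
    ∃ hnormal : ((Inn P).subgroupOf (F.autGroup P)).Normal,
      p ∣ Nat.card (F.autGroup P ⧸ (Inn P).subgroupOf (F.autGroup P)) ∧
      ∃ P₀ : Sylow p (F.autGroup P ⧸ (Inn P).subgroupOf (F.autGroup P)),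
        (P₀ : Subgroup (F.autGroup P ⧸ (Inn P).subgroupOf (F.autGroup P))) =
          ((autInducedBy S P).subgroupOf (F.autGroup P)).map
            (QuotientGroup.mk' ((Inn P).subgroupOf (F.autGroup P))) ∧
        kGeneratedCore p 1 (P₀ : Subgroup (F.autGroup P ⧸ (Inn P).subgroupOf (F.autGroup P))) ≤
          ((Subgroup.closure (Fusion.extSet F P)).subgroupOf (F.autGroup P)).map
            (QuotientGroup.mk' ((Inn P).subgroupOf (F.autGroup P))) := by
  obtain ⟨hfc, hfa⟩ := Fusion.fullyCentralized_fullyAutomized_of_fullyNormalized p hS F hF hPn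
  have hrec := Fusion.receptive_of_fullyCentralized p hS F hF hfc
  have hPS' : P ≤ S := hPS.le
  have : Finite P := Fusion.finite_of_le hPS'
  have : Finite (MulAut P) := inferInstance
  have hInnU : Inn P ≤ autInducedBy S P := Fusion.inn_le_autInducedBy hPS'
  have hUA : autInducedBy S P ≤ F.autGroup P := Fusion.autInducedBy_le_autGroup F hPS'
  have hInnA : Inn P ≤ F.autGroup P := hInnU.trans hUA
  have hInnH := Fusion.inn_le_closure_extSet F hPS
  have hHA := Fusion.closure_extSet_le_autGroup F P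
  have hnormal : ((Inn P).subgroupOf (F.autGroup P)).Normal := inferInstance
  refine ⟨hnormal, ?_⟩
  set A := F.autGroup P with hA
  set I := (Inn P).subgroupOf A with hI
  set π := QuotientGroup.mk' I with hπ
  set H := Subgroup.closure (Fusion.extSet F P) with hH
  have hπsurj : Function.Surjective π := QuotientGroup.mk'_surjective I
  have hπeq : ∀ a b : A, π a = π b → ((a⁻¹ * b : A) : MulAut P) ∈ Inn P := by
    intro a b hab
    have := (QuotientGroup.eq (s := I)).mp hab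
    exact Subgroup.mem_subgroupOf.mp this
  have hπ1 : ∀ a : A, π a = 1 → (a : MulAut P) ∈ Inn P := by
    intro a ha
    have := (QuotientGroup.eq_one_iff (N := I) a).mp ha
    exact Subgroup.mem_subgroupOf.mp this
  obtain ⟨R, hR⟩ := hfa.2
  set P₀ : Sylow p (A ⧸ I) := R.mapSurjective hπsurj with hP₀
  have hP₀coe : (P₀ : Subgroup (A ⧸ I)) = ((autInducedBy S P).subgroupOf A).map π := by
    rw [hP₀, Sylow.coe_mapSurjective, hR]
  refine ⟨?_, P₀, hP₀coe, ?_⟩
  · -- `p` divides the order of the quotient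
    obtain ⟨g, hgN, hgP⟩ := Fusion.exists_mem_normalizerIn_not_mem hS hPS' hPS.ne
    have hgS : g ∈ S := (Subgroup.mem_inf.mp hgN).1
    have hgN' : g ∈ Subgroup.normalizer (P : Set Ω) := (Subgroup.mem_inf.mp hgN).2
    have huU : conjAutHom P ⟨g, hgN'⟩ ∈ autInducedBy S P :=
      Fusion.conjAutHom_mem_autInducedBy P _ hgS
    have hmem : π ⟨conjAutHom P ⟨g, hgN'⟩, hUA huU⟩ ∈ (P₀ : Subgroup (A ⧸ I)) := by
      rw [hP₀coe]
      exact ⟨_, Subgroup.mem_subgroupOf.mpr huU, rfl⟩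
    have hne1 : π ⟨conjAutHom P ⟨g, hgN'⟩, hUA huU⟩ ≠ 1 := by
      intro h1
      obtain ⟨x, hx⟩ := hπ1 _ h1
      apply hgP
      have hcomm : (x : Ω)⁻¹ * g ∈ centralizerIn S P := by
        refine Subgroup.mem_inf.mpr ⟨S.mul_mem (S.inv_mem (hPS' x.2)) hgS, ?_⟩
        rw [Subgroup.mem_centralizer_iff]
        intro y hy
        have h2 := congrArg (fun β : MulAut P => ((β ⟨y, hy⟩ : P) : Ω)) hx
        have h3 : (x : Ω) * y * (x : Ω)⁻¹ = g * y * g⁻¹ := h2
        calc y * ((x : Ω)⁻¹ * g) = (x : Ω)⁻¹ * ((x : Ω) * y * (x : Ω)⁻¹) * g := by group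
          _ = (x : Ω)⁻¹ * (g * y * g⁻¹) * g := by rw [h3]
          _ = (x : Ω)⁻¹ * g * y := by group
      have h4 := hc.2 P (Fusion.isConj_refl F hPS') hcomm
      have h5 : g = (x : Ω) * ((x : Ω)⁻¹ * g) := by group
      rw [h5]
      exact P.mul_mem x.2 h4
    have hcard := P₀.card_eq_multiplicity
    have hpos : (Nat.card (A ⧸ I)).factorization p ≠ 0 := by
      intro h0
      rw [h0, pow_zero] at hcard
      have hbot : (P₀ : Subgroup (A ⧸ I)) = ⊥ := Subgroup.card_eq_one.mp hcard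
      rw [hbot, Subgroup.mem_bot] at hmem
      exact hne1 hmem
    exact Nat.dvd_of_factorization_pos hpos
  · -- the 1-generated core lies in the image of `H`
    unfold kGeneratedCore
    apply iSup_le
    rintro ⟨Q, hQP₀, hQrank⟩
    have hQne : Q ≠ ⊥ := ne_bot_of_not_pRankLE_zero p Q (by simpa using hQrank)
    intro x hx
    obtain ⟨a, rfl⟩ := hπsurj x
    refine ⟨a, ?_, rfl⟩
    rw [SetLike.mem_coe, Subgroup.mem_subgroupOf]
    apply Subgroup.subset_closure
    set V : Subgroup (MulAut P) := (Q.comap π).map A.subtype with hVdef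
    have hmemV : ∀ β : MulAut P, β ∈ V ↔ ∃ hβ : β ∈ A, π ⟨β, hβ⟩ ∈ Q := by
      intro β
      constructor
      · rintro ⟨b, hb, rfl⟩
        exact ⟨b.2, hb⟩
      · rintro ⟨hβ, hβQ⟩
        exact ⟨⟨β, hβ⟩, hβQ, rfl⟩
    apply Fusion.mem_extSet_of_normalizes F hrec a.1 a.2 V
    · intro β hβ
      rw [hmemV]
      refine ⟨hInnA hβ, ?_⟩
      have : π ⟨β, hInnA hβ⟩ = 1 := by
        rw [hπ, QuotientGroup.mk'_apply, QuotientGroup.eq_one_iff]
        exact Subgroup.mem_subgroupOf.mpr hβ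
      rw [this]
      exact Q.one_mem
    · intro β hβ
      obtain ⟨hβA, hβQ⟩ := (hmemV β).mp hβ
      have h1 := hQP₀ hβQ
      rw [hP₀coe] at h1
      obtain ⟨u, hu, huβ⟩ := h1
      have h2 := hπeq u ⟨β, hβA⟩ huβ
      have h3 : β = (u : MulAut P) * ((u⁻¹ * ⟨β, hβA⟩ : A) : MulAut P) := by
        show β = (u : MulAut P) * ((u : MulAut P)⁻¹ * β)
        group
      rw [h3]
      exact Subgroup.mul_mem _ (Subgroup.mem_subgroupOf.mp hu) (hInnU h2)
    · obtain ⟨q, hq1⟩ := (Subgroup.ne_bot_iff_exists_ne_one).mp hQne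
      obtain ⟨b, hb⟩ := hπsurj q.1
      refine ⟨b.1, (hmemV _).mpr ⟨b.2, by rw [hb]; exact q.2⟩, ?_⟩
      intro hbI
      apply hq1
      have : π b = 1 := by
        rw [hπ, QuotientGroup.mk'_apply, QuotientGroup.eq_one_iff]
        exact Subgroup.mem_subgroupOf.mpr hbI
      apply Subtype.ext
      rw [← hb, this]
      rfl
    · intro v hv
      obtain ⟨hvA, hvQ⟩ := (hmemV v).mp hv
      rw [hmemV]
      refine ⟨A.mul_mem (A.mul_mem a.2 hvA) (A.inv_mem a.2), ?_⟩
      have h1 : (⟨(a : MulAut P) * v * (a : MulAut P)⁻¹, A.mul_mem (A.mul_mem a.2 hvA) (A.inv_mem a.2)⟩ : A)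
          = a * ⟨v, hvA⟩ * a⁻¹ := rfl
      rw [h1, map_mul, map_mul, map_inv]
      exact (Subgroup.mem_normalizer_iff.mp hx _).mp hvQ


/-- AKO I.3.3: the subgroup generated by the automorphisms of a fully normalized proper subgroup `P`
that extend to strictly larger subgroups is all of `Aut_F(P)` when `P` is not essential, and has
strongly `p`-embedded image in `Out_F(P)` when `P` is essential. -/
theorem Fusion.extSet_dichotomy [Finite S] (p : ℕ) [Fact p.Prime] (hS : IsPGroup p S)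
    (F : FusionSystem S) (hF : F.IsSaturated p) (P : Subgroup Ω) (hPS : P < S)
    (hPn : F.IsFullyNormalized P) (H : Subgroup (MulAut P))
    (hH : H = Subgroup.closure (Fusion.extSet F P)) :
    (¬ F.IsEssential p P ∧ H = F.autGroup P) ∨ (F.IsEssential p P ∧
      ∃ _ : ((Inn P).subgroupOf (F.autGroup P)).Normal,
        IsStronglyPEmbedded p ((H.subgroupOf (F.autGroup P)).map
          (QuotientGroup.mk' ((Inn P).subgroupOf (F.autGroup P))))) := by
  by_cases hess : F.IsEssential p P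
  swap
  · left
    refine ⟨hess, ?_⟩
    rw [hH]
    exact le_antisymm (Fusion.closure_extSet_le_autGroup F P)
      (Fusion.autGroup_le_closure_extSet p hS F hF hPS hPn hess)
  right
  refine ⟨hess, ?_⟩
  obtain ⟨hc, -, hn, M, hM⟩ := hess
  obtain ⟨hnormal, hdvd, P₀, hP₀coe, hcore⟩ := Fusion.ess_data p hS F hF hPS hPn hc
  refine ⟨hnormal, hdvd, ?_, P₀, by rw [hH]; exact hcore⟩
  have hPS' : P ≤ S := hPS.le
  have : Finite P := Fusion.finite_of_le hPS'
  have : Finite (MulAut P) := inferInstance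
  set A := F.autGroup P with hA
  set I := (Inn P).subgroupOf A with hI
  set π := QuotientGroup.mk' I with hπ
  have hUA : autInducedBy S P ≤ A := Fusion.autInducedBy_le_autGroup F hPS'
  have hπ1 : ∀ a : A, π a = 1 → (a : MulAut P) ∈ Inn P := by
    intro a ha
    have := (QuotientGroup.eq_one_iff (N := I) a).mp ha
    exact Subgroup.mem_subgroupOf.mp this
  obtain ⟨-, hMtop, P₁, hP₁⟩ := (Cfsg.Agent.Helper5.isStronglyPEmbedded_iff M).mp hM
  obtain ⟨g, hg⟩ := MulAction.exists_smul_eq (A ⧸ I) P₁ P₀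
  set M' := M.map (MulAut.conj g).toMonoidHom with hM'
  have hP₁ne : (P₁ : Subgroup (A ⧸ I)) ≠ ⊥ := P₁.ne_bot_of_dvd_card hdvd
  have hLoc : Cfsg.Agent.Helper5.LocCtrl M' (P₀ : Subgroup (A ⧸ I)) := by
    rw [← hg]
    exact (Cfsg.Agent.Helper5.locCtrl_smul_iff M' P₁ g hP₁ne).mpr
      (fun B hB hB1 => Subgroup.map_mono (hP₁.2 B hB hB1))
  have hP₀M' : (P₀ : Subgroup (A ⧸ I)) ≤ M' := hLoc.1
  have hP₀mem : ∀ u : MulAut P, ∀ hu : u ∈ autInducedBy S P, π ⟨u, hUA hu⟩ ∈ (P₀ : Subgroup (A ⧸ I)) := by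
    intro u hu
    rw [hP₀coe]
    exact ⟨_, Subgroup.mem_subgroupOf.mpr hu, rfl⟩
  -- every extendable automorphism maps into `M'`
  have hext : ∀ α ∈ Fusion.extSet F P, ∃ hα : α ∈ A, π ⟨α, hα⟩ ∈ M' := by
    rintro α ⟨Q, hPQ, φ, hφ, hφα⟩
    have hαA : α ∈ A := Fusion.extSet_subset_autGroup F P ⟨Q, hPQ, φ, hφ, hφα⟩
    refine ⟨hαA, ?_⟩
    have hQS := Fusion.src_le F hφ
    have : Finite Q := Fusion.finite_of_le hQS
    obtain ⟨n, hn, hnP⟩ := Fusion.exists_mem_normalizerIn_not_mem (S := Q) (hS.to_le hQS)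
      hPQ.le hPQ.ne
    obtain ⟨hnQ, hnN⟩ := Subgroup.mem_inf.mp hn
    have hnS : n ∈ S := hQS hnQ
    have hcU : conjAutHom P ⟨n, hnN⟩ ∈ autInducedBy S P :=
      Fusion.conjAutHom_mem_autInducedBy P _ hnS
    set u : A := ⟨conjAutHom P ⟨n, hnN⟩, hUA hcU⟩ with hu
    set a : A := ⟨α, hαA⟩ with ha
    have hπu1 : π u ≠ 1 := by
      intro h1
      exact hnP (Fusion.mem_of_conjAutHom_mem_inn F hc n hnS hnN (hπ1 u h1))
    -- `φ n` normalizes `P` and induces `α c_n α⁻¹`
    have hφnS : φ ⟨n, hnQ⟩ ∈ S := Fusion.map_mem F hφ _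
    have hconj : ∀ y : P, φ ⟨n, hnQ⟩ * (y : Ω) * (φ ⟨n, hnQ⟩)⁻¹ =
        ((α (conjAutHom P ⟨n, hnN⟩ (α⁻¹ y)) : P) : Ω) := by
      intro y
      set x : P := α⁻¹ y with hx
      have hαx : α x = y := by rw [hx, MulAut.apply_inv_self]
      have h1 : (y : Ω) = φ (Subgroup.inclusion hPQ.le x) := by rw [hφα, hαx]
      rw [← hφα, h1, ← map_inv, ← map_mul, ← map_mul]
      rfl
    have hφnN : φ ⟨n, hnQ⟩ ∈ Subgroup.normalizer (P : Set Ω) := by
      apply mem_normalizer_of_conj_mem_of_finite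
      intro y hy
      rw [hconj ⟨y, hy⟩]
      exact (α _).2
    have hauα : ((a * u * a⁻¹ : A) : MulAut P) = conjAutHom P ⟨φ ⟨n, hnQ⟩, hφnN⟩ := by
      ext y
      show ((α (conjAutHom P ⟨n, hnN⟩ (α⁻¹ y)) : P) : Ω) = φ ⟨n, hnQ⟩ * (y : Ω) * (φ ⟨n, hnQ⟩)⁻¹
      rw [hconj y]
    have hauU : ((a * u * a⁻¹ : A) : MulAut P) ∈ autInducedBy S P := by
      rw [hauα]
      exact Fusion.conjAutHom_mem_autInducedBy P _ hφnS
    have hπau : π a * π u * (π a)⁻¹ ∈ (P₀ : Subgroup (A ⧸ I)) := by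
      have := hP₀mem _ hauU
      have h2 : (⟨((a * u * a⁻¹ : A) : MulAut P), hUA hauU⟩ : A) = a * u * a⁻¹ := rfl
      rw [h2, map_mul, map_mul, map_inv] at this
      exact this
    -- apply the strongly embedded property to `D = ⟨π u⟩`
    set D : Subgroup (A ⧸ I) := Subgroup.zpowers (π u) with hD
    have hDP₀ : D ≤ (P₀ : Subgroup (A ⧸ I)) := by
      rw [hD, Subgroup.zpowers_le]
      exact hP₀mem _ hcU
    have hDp : IsPGroup p D := P₀.isPGroup'.to_le hDP₀
    have hD1 : D ≠ ⊥ := by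
      intro h
      apply hπu1
      have : π u ∈ D := Subgroup.mem_zpowers _
      rw [h, Subgroup.mem_bot] at this
      exact this
    have hDMg : D ≤ M'.map (MulAut.conj (π a)⁻¹).toMonoidHom := by
      rw [hD, Subgroup.zpowers_le, Cfsg.Agent.Helper5.mem_map_conj_iff, inv_inv]
      exact hP₀M' hπau
    have := hLoc.mem_of_inter (π a)⁻¹ D (hDP₀.trans hP₀M') hDMg hDp hD1
    have h3 := M'.inv_mem this
    rwa [inv_inv] at h3
  -- conclude
  intro htop
  apply hMtop
  have hHM' : (H.subgroupOf A).map π ≤ M' := by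
    rintro _ ⟨b, hb, rfl⟩
    rw [SetLike.mem_coe, Subgroup.mem_subgroupOf, hH] at hb
    have hle : Subgroup.closure (Fusion.extSet F P) ≤ (M'.comap π).map A.subtype := by
      rw [Subgroup.closure_le]
      intro α hα
      obtain ⟨hαA, hαM⟩ := hext α hα
      exact ⟨⟨α, hαA⟩, hαM, rfl⟩
    obtain ⟨b', hb', hbb'⟩ := hle hb
    have : b' = b := Subtype.ext hbb'
    rw [← this]
    exact hb'
  rw [htop, top_le_iff] at hHM'
  have h4 : M = (M.map (MulAut.conj g).toMonoidHom).comap (MulAut.conj g).toMonoidHom :=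
    (Subgroup.comap_map_eq_self_of_injective (MulAut.conj g).injective M).symm
  rw [h4, ← hM', hHM', Subgroup.comap_top]

end Cfsg.Agent.Lead
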