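import Mathlib
import Cfsg.Prelude.Def_FusionSystem
import Cfsg.Agent.Lead.FusionGroupoid
import Cfsg.Agent.Lead.FusionEss
import Cfsg.Agent.Lead.FusionResistant
import Cfsg.Agent.Lead.FusionSat
import Cfsg.Agent.Lead.FusionSat2
import Cfsg.Agent.Lead.FusionSat3

set_option autoImplicit false

namespace Cfsg.Agent.Lead

open Cfsg Cfsg.FusionSystem

variable {Ω : Type*} [Group Ω] {S : Subgroup Ω}

/-- An essential subgroup is a proper subgroup of `S`. -/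
theorem Fusion.essential_lt_top [Finite S] (p : ℕ) [Fact p.Prime] (hS : IsPGroup p S)
    (F : FusionSystem S) (hF : F.IsSaturated p) {Q : Subgroup Ω} (hQ : F.IsEssential p Q) :
    Q < S := by
  refine lt_of_le_of_ne hQ.1.1 ?_
  intro h
  obtain ⟨-, R, hR⟩ := Fusion.top_fullyAutomized p F hF
  have hInn : autInducedBy S S = Inn S := by
    apply le_antisymm
    · intro α hα
      rw [mem_autInducedBy_iff] at hα
      obtain ⟨g, hg, hα⟩ := hα
      refine ⟨⟨g, hg⟩, ?_⟩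
      ext x
      rw [hα]
      rfl
    · exact Fusion.inn_le_autInducedBy le_rfl
  have hnormal : ((Inn S).subgroupOf (F.autGroup S)).Normal := inferInstance
  rw [hInn] at hR
  have hRn : (R : Subgroup (F.autGroup S)).Normal := by
    rw [hR]
    exact hnormal
  have hQ' : F.IsEssential p S := h ▸ hQ
  exact Fusion.not_isEssential_of_normal_sylow p hS F R hRn hQ'

/-- Chosen isomorphisms from the conjugates of `Q` onto `Q`, each extending to the normalizer. -/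
structure Fusion.ThetaData (F : FusionSystem S) (Q : Subgroup Ω) where
  Θ : Subgroup Ω → Ω → Ω
  ρ : ∀ P : Subgroup Ω, F.IsConj P Q → (↥(normalizerIn S P) →* Ω)
  hρF : ∀ (P : Subgroup Ω) (h : F.IsConj P Q), ρ P h ∈ F.Hom (normalizerIn S P)
  hρQ : ∀ (P : Subgroup Ω) (h : F.IsConj P Q), (P.subgroupOf (normalizerIn S P)).map (ρ P h) = Q
  hρid : ∀ (h : F.IsConj Q Q) (x : ↥(normalizerIn S Q)), ρ Q h x = x
  hΘ : ∀ (P : Subgroup Ω) (h : F.IsConj P Q) (x : Ω) (hx : x ∈ normalizerIn S P),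
    Θ P x = ρ P h ⟨x, hx⟩

theorem Fusion.exists_thetaData [Finite S] (p : ℕ) [Fact p.Prime] (hS : IsPGroup p S)
    (F : FusionSystem S) {Q : Subgroup Ω} (hfa : F.IsFullyAutomized p Q) (hrec : F.IsReceptive Q) :
    Nonempty (Fusion.ThetaData F Q) := by
  classical
  have hex : ∀ (P : Subgroup Ω) (hP : F.IsConj P Q), ∃ ρ : ↥(normalizerIn S P) →* Ω,
      ρ ∈ F.Hom (normalizerIn S P) ∧ (P.subgroupOf (normalizerIn S P)).map ρ = Q ∧
        (P = Q → ∀ x, ρ x = x) := by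
    intro P hP
    by_cases h : P = Q
    · subst h
      have hPS : P ≤ S := hfa.1
      refine ⟨(normalizerIn S P).subtype, Fusion.subtype_mem F inf_le_left, ?_, fun _ x => rfl⟩
      rw [Subgroup.subgroupOf_map_subtype]
      exact inf_eq_left.mpr (Fusion.le_normalizerIn hPS)
    · obtain ⟨ρ, hρ, -, hρQ⟩ := Fusion.exists_hom_normalizerIn p hS F hfa hrec hP
      exact ⟨ρ, hρ, hρQ, fun h' => absurd h' h⟩
  choose ρ hρ using hex
  refine ⟨⟨fun P x => if h : F.IsConj P Q ∧ x ∈ normalizerIn S P then ρ P h.1 ⟨x, h.2⟩ else 1,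
    ρ, fun P h => (hρ P h).1, fun P h => (hρ P h).2.1, fun h x => (hρ Q h).2.2 rfl x, ?_⟩⟩
  intro P h x hx
  rw [dif_pos ⟨h, hx⟩]

variable {F : FusionSystem S} {Q : Subgroup Ω}

theorem Fusion.ThetaData.mem (D : Fusion.ThetaData F Q) {P : Subgroup Ω} (hP : F.IsConj P Q)
    {x : Ω} (hx : x ∈ P) : D.Θ P x ∈ Q := by
  have hPS := Fusion.isConj_src_le F hP
  have hxN : x ∈ normalizerIn S P := Fusion.le_normalizerIn hPS hx
  rw [D.hΘ P hP x hxN]
  have h : D.ρ P hP ⟨x, hxN⟩ ∈ (P.subgroupOf (normalizerIn S P)).map (D.ρ P hP) :=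
    ⟨⟨x, hxN⟩, Subgroup.mem_subgroupOf.mpr hx, rfl⟩
  rw [D.hρQ P hP] at h
  exact h

theorem Fusion.ThetaData.surj (D : Fusion.ThetaData F Q) {P : Subgroup Ω} (hP : F.IsConj P Q)
    {q : Ω} (hq : q ∈ Q) : ∃ x ∈ P, D.Θ P x = q := by
  have hPS := Fusion.isConj_src_le F hP
  have hq' : q ∈ (P.subgroupOf (normalizerIn S P)).map (D.ρ P hP) := by
    rw [D.hρQ P hP]
    exact hq
  obtain ⟨x, hx, rfl⟩ := hq'
  rw [SetLike.mem_coe, Subgroup.mem_subgroupOf] at hx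
  refine ⟨x.1, hx, ?_⟩
  rw [D.hΘ P hP x.1 x.2]

/-- Key lemma: a map on a conjugate `P` of `Q` that extends to a strictly larger subgroup is, read
through the chosen isomorphisms, an extendable automorphism of `Q`. -/
theorem Fusion.ThetaData.exists_beta_of_extends [Finite S] (p : ℕ) [Fact p.Prime]
    (hS : IsPGroup p S) (D : Fusion.ThetaData F Q) {P T : Subgroup Ω} (hP : F.IsConj P Q)
    (hPT : P < T) (φ' : T →* Ω) (hφ' : φ' ∈ F.Hom T) :
    ∃ β ∈ Fusion.extSet F Q, ∀ (x : P) (q : Q), (q : Ω) = D.Θ P x →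
      ((β q : Q) : Ω) = D.Θ (φ'.comp (Subgroup.inclusion hPT.le)).range
        (φ' (Subgroup.inclusion hPT.le x)) := by
  have hTS : T ≤ S := Fusion.src_le F hφ'
  have hPS : P ≤ S := hPT.le.trans hTS
  have hQS : Q ≤ S := Fusion.isConj_tgt_le F hP
  haveI : Finite T := Fusion.finite_of_le hTS
  haveI : Finite P := Fusion.finite_of_le hPS
  haveI : Finite Q := Fusion.finite_of_le hQS
  have hT : IsPGroup p T := hS.to_le hTS
  obtain ⟨φ, hφdef⟩ : ∃ φ : P →* Ω, φ = φ'.comp (Subgroup.inclusion hPT.le) := ⟨_, rfl⟩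
  have hφ : φ ∈ F.Hom P := hφdef ▸ Fusion.restrict_mem F hφ' hPT.le
  rw [← hφdef]
  have hP₂ : F.IsConj φ.range Q := Fusion.isConj_trans F (Fusion.isConj_symm F ⟨φ, hφ, rfl⟩) hP
  have hP₂S : φ.range ≤ S := Fusion.range_le F hφ
  haveI : Finite φ.range := Fusion.finite_of_le hP₂S
  obtain ⟨n, hnN, hnP⟩ := Fusion.exists_mem_normalizerIn_not_mem (S := T) hT hPT.le hPT.ne
  -- the subgroup `T' = N_T(P)`
  have hT'N : normalizerIn T P ≤ normalizerIn S P := inf_le_inf_right _ hTS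
  have hT'T : normalizerIn T P ≤ T := inf_le_left
  have hPT' : P ≤ normalizerIn T P := Fusion.le_normalizerIn hPT.le
  have hσ₁ : (D.ρ P hP).comp (Subgroup.inclusion hT'N) ∈ F.Hom (normalizerIn T P) :=
    Fusion.restrict_mem F (D.hρF P hP) hT'N
  obtain ⟨σ₁, hσ₁def⟩ : ∃ σ₁ : ↥(normalizerIn T P) →* Ω,
      σ₁ = (D.ρ P hP).comp (Subgroup.inclusion hT'N) := ⟨_, rfl⟩
  rw [← hσ₁def] at hσ₁
  have hσ₁x : ∀ (x : Ω) (hx : x ∈ normalizerIn T P), σ₁ ⟨x, hx⟩ = D.Θ P x := by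
    intro x hx
    rw [D.hΘ P hP x (hT'N hx), hσ₁def]
    rfl
  obtain ⟨τ, hτ, hτinv, hτr⟩ := Fusion.exists_inv F hσ₁ rfl
  have hφ'' : φ'.comp (Subgroup.inclusion hT'T) ∈ F.Hom (normalizerIn T P) :=
    Fusion.restrict_mem F hφ' hT'T
  have h1 : ∀ u : σ₁.range, τ u ∈ normalizerIn T P := by
    intro u
    exact hτr.le ⟨u, rfl⟩
  have hχ₁ := F.comp_mem hτ hφ'' h1
  obtain ⟨χ₁, hχ₁def⟩ : ∃ χ₁ : σ₁.range →* Ω,
      χ₁ = (φ'.comp (Subgroup.inclusion hT'T)).comp (τ.codRestrict (normalizerIn T P) h1) :=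
    ⟨_, rfl⟩
  rw [← hχ₁def] at hχ₁
  have hχ₁x : ∀ (t : ↥(normalizerIn T P)) (h : σ₁ t ∈ σ₁.range),
      χ₁ ⟨σ₁ t, h⟩ = φ' ⟨t.1, hT'T t.2⟩ := by
    intro t h
    rw [hχ₁def]
    show φ' (Subgroup.inclusion hT'T (τ.codRestrict (normalizerIn T P) h1 ⟨σ₁ t, h⟩)) = _
    congr 1
    apply Subtype.ext
    exact hτinv t h
  have h2 : ∀ u : σ₁.range, χ₁ u ∈ normalizerIn S φ.range := by
    intro u
    obtain ⟨t, ht⟩ := u.2
    have hu : u = ⟨σ₁ t, MonoidHom.mem_range.mpr ⟨t, rfl⟩⟩ := Subtype.ext ht.symm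
    rw [hu, hχ₁x t]
    refine Subgroup.mem_inf.mpr ⟨Fusion.map_mem F hφ' _, ?_⟩
    apply mem_normalizer_of_conj_mem_of_finite
    rintro _ ⟨x, rfl⟩
    have htN : (t : Ω) ∈ Subgroup.normalizer (P : Set Ω) := (Subgroup.mem_inf.mp t.2).2
    have hx' : (t : Ω) * x * (t : Ω)⁻¹ ∈ P := (Subgroup.mem_normalizer_iff.mp htN x).mp x.2
    refine ⟨⟨(t : Ω) * x * (t : Ω)⁻¹, hx'⟩, ?_⟩
    rw [hφdef]
    show φ' (Subgroup.inclusion hPT.le ⟨(t : Ω) * x * (t : Ω)⁻¹, hx'⟩) =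
      φ' ⟨t.1, hT'T t.2⟩ * φ' (Subgroup.inclusion hPT.le x) * (φ' ⟨t.1, hT'T t.2⟩)⁻¹
    rw [← map_inv, ← map_mul, ← map_mul]
    rfl
  have hβ' := F.comp_mem hχ₁ (D.hρF φ.range hP₂) h2
  obtain ⟨β', hβ'def⟩ : ∃ β' : σ₁.range →* Ω,
      β' = (D.ρ φ.range hP₂).comp (χ₁.codRestrict (normalizerIn S φ.range) h2) := ⟨_, rfl⟩
  rw [← hβ'def] at hβ'
  -- value of `β'` on the image of `P`
  have hβ'x : ∀ (x : P) (h : σ₁ ⟨x.1, hPT' x.2⟩ ∈ σ₁.range),
      β' ⟨σ₁ ⟨x.1, hPT' x.2⟩, h⟩ = D.Θ φ.range (φ x) := by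
    intro x h
    have hφx : φ x ∈ normalizerIn S φ.range := Fusion.le_normalizerIn hP₂S ⟨x, rfl⟩
    rw [D.hΘ φ.range hP₂ (φ x) hφx, hβ'def]
    show D.ρ φ.range hP₂ (χ₁.codRestrict (normalizerIn S φ.range) h2 ⟨σ₁ ⟨x.1, hPT' x.2⟩, h⟩) = _
    congr 1
    apply Subtype.ext
    show χ₁ ⟨σ₁ ⟨x.1, hPT' x.2⟩, h⟩ = φ x
    rw [hχ₁x ⟨x.1, hPT' x.2⟩ h, hφdef]
    rfl
  -- `Q < U`
  have hQU : Q ≤ σ₁.range := by
    intro q hq
    obtain ⟨x, hx, rfl⟩ := D.surj hP hq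
    rw [← hσ₁x x (hPT' hx)]
    exact ⟨_, rfl⟩
  have hQU' : Q < σ₁.range := by
    refine lt_of_le_of_ne hQU ?_
    intro heq
    have hn : σ₁ ⟨n, hnN⟩ ∈ Q := heq ▸ ⟨_, rfl⟩
    obtain ⟨x, hx, hxq⟩ := D.surj hP hn
    rw [← hσ₁x x (hPT' hx)] at hxq
    have := F.injective_of_mem hσ₁ hxq
    apply hnP
    have h3 : x = n := congrArg Subtype.val this
    rw [← h3]
    exact hx
  -- the restriction of `β'` to `Q`
  have hb := Fusion.restrict_mem F hβ' hQU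
  obtain ⟨b, hbdef⟩ : ∃ b : Q →* Ω, b = β'.comp (Subgroup.inclusion hQU) := ⟨_, rfl⟩
  rw [← hbdef] at hb
  have hbq : ∀ (x : P) (q : Q), (q : Ω) = D.Θ P x → b q = D.Θ φ.range (φ x) := by
    intro x q hq
    rw [hbdef, ← hβ'x x (MonoidHom.mem_range.mpr ⟨_, rfl⟩)]
    show β' (Subgroup.inclusion hQU q) = _
    congr 1
    apply Subtype.ext
    show (q : Ω) = σ₁ ⟨x.1, hPT' x.2⟩
    rw [hq, hσ₁x]
  have hbr : b.range = Q := by
    have hle : b.range ≤ Q := by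
      rintro _ ⟨q, rfl⟩
      obtain ⟨x, hx, hxq⟩ := D.surj hP q.2
      rw [hbq ⟨x, hx⟩ q hxq.symm]
      exact D.mem hP₂ ⟨_, rfl⟩
    apply Subgroup.eq_of_le_of_card_ge hle
    rw [Fusion.card_eq_of_isConj F ⟨b, hb, rfl⟩]
  refine ⟨Fusion.equivOfRange b (F.injective_of_mem hb) hbr, ?_, ?_⟩
  · refine ⟨σ₁.range, hQU', β', hβ', fun x => ?_⟩
    rw [Fusion.equivOfRange_coe, hbdef]
    rfl
  · intro x q hq
    rw [Fusion.equivOfRange_coe]
    have h := hbq x q hq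
    have h' : φ x = φ' (Subgroup.inclusion hPT.le x) := by
      rw [hφdef]
      rfl
    rw [h, h']

theorem Fusion.ThetaData.theta_self (D : Fusion.ThetaData F Q) (hQS : Q ≤ S) {x : Ω} (hx : x ∈ Q) :
    D.Θ Q x = x := by
  have h := Fusion.isConj_refl F hQS
  rw [D.hΘ Q h x (Fusion.le_normalizerIn hQS hx), D.hρid h]

/-- The groupoid on the class of `Q` determined by a subgroup `H` of `Aut(Q)` containing the
extendable automorphisms. -/
def Fusion.ThetaData.groupoid [Finite S] (p : ℕ) [Fact p.Prime] (hS : IsPGroup p S)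
    (D : Fusion.ThetaData F Q) (H : Subgroup (MulAut Q)) (hH : Fusion.extSet F Q ⊆ H)
    (hQS : Q < S) : Fusion.Groupoid F (fun P => F.IsConj P Q) where
  G P := {φ | φ ∈ F.Hom P ∧ ∃ β ∈ H, ∀ (x : P) (q : Q), (q : Ω) = D.Θ P x →
    ((β q : Q) : Ω) = D.Θ φ.range (φ x)}
  conj := by
    intro P g hC hPS hg
    refine ⟨F.conj_mem hPS hg, ?_⟩
    have hPlt : P < S := by
      refine lt_of_le_of_ne hPS ?_
      intro h
      subst h
      exact hQS.ne (Fusion.isConj_top_eq F hC)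
    obtain ⟨β, hβ, hβx⟩ := D.exists_beta_of_extends p hS hC hPlt (conjHom S g)
      (F.conj_mem le_rfl hg)
    have he : (conjHom S g).comp (Subgroup.inclusion hPlt.le) = conjHom P g := by
      ext x
      rfl
    rw [he] at hβx
    exact ⟨β, hH hβ, fun x q hq => hβx x q hq⟩
  comp := by
    rintro P φ ψ hC hφF ⟨-, β₁, hβ₁, h₁⟩ ⟨hψF, β₂, hβ₂, h₂⟩
    refine ⟨F.comp_mem hφF hψF _, β₂ * β₁, H.mul_mem hβ₂ hβ₁, ?_⟩
    intro x q hq
    have e1 := h₁ x q hq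
    have e2 := h₂ ⟨φ x, MonoidHom.mem_range.mpr ⟨x, rfl⟩⟩ (β₁ q) e1
    have hr : (ψ.comp (φ.codRestrict φ.range (fun x => ⟨x, rfl⟩))).range = ψ.range := by
      ext y
      constructor
      · rintro ⟨x, rfl⟩
        exact ⟨_, rfl⟩
      · rintro ⟨⟨_, x, rfl⟩, rfl⟩
        exact ⟨x, rfl⟩
    rw [hr]
    exact e2
  inv := by
    rintro P φ hC hφF ⟨-, β, hβ, h⟩
    obtain ⟨ψ, hψ, hinv, hψr⟩ := Fusion.exists_inv F hφF rfl
    refine ⟨ψ, ⟨hψ, β⁻¹, H.inv_mem hβ, ?_⟩, fun x => hinv x _⟩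
    intro y q hq
    obtain ⟨x, hx⟩ := y.2
    have hψy : ψ y = (x : Ω) := by
      rw [← hinv x (MonoidHom.mem_range.mpr ⟨x, rfl⟩)]
      congr 1
      exact Subtype.ext hx.symm
    rw [hψr, hψy]
    have hq₀ := h x ⟨D.Θ P x, D.mem hC x.2⟩ rfl
    have hβq : β ⟨D.Θ P x, D.mem hC x.2⟩ = q := by
      apply Subtype.ext
      rw [hq₀, hq, hx]
    rw [← hβq]
    simp

/-- AKO I.3.3(b), conjugacy class version: the class of an essential subgroup cannot be left out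
of a generating family. -/
theorem Fusion.essential_class_needed [Finite S] (p : ℕ) [Fact p.Prime] (hS : IsPGroup p S)
    (F : FusionSystem S) (hF : F.IsSaturated p) (Q : Subgroup Ω) (hQ : F.IsEssential p Q) :
    ∃ E : FusionSystem S, (∀ R : Subgroup Ω, R ≤ S → ¬ F.IsConj Q R →
      F.autGroup R ≤ E.autGroup R) ∧ ¬ F ≤ E := by
  have hQS := Fusion.essential_lt_top p hS F hF hQ
  have hn := hQ.2.1
  obtain ⟨hfc, hfa⟩ := Fusion.fullyCentralized_fullyAutomized_of_fullyNormalized p hS F hF hn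
  have hrec := Fusion.receptive_of_fullyCentralized p hS F hF hfc
  obtain ⟨D⟩ := Fusion.exists_thetaData p hS F hfa hrec
  have : Finite Q := Fusion.finite_of_le hQS.le
  obtain ⟨H, hHdef⟩ : ∃ H : Subgroup (MulAut Q), H = Subgroup.closure (Fusion.extSet F Q) :=
    ⟨_, rfl⟩
  have hH : Fusion.extSet F Q ⊆ H := hHdef ▸ Subgroup.subset_closure
  rcases Fusion.extSet_dichotomy p hS F hF Q hQS hn H hHdef with ⟨hne, -⟩ | ⟨-, hnormal, hspe⟩
  · exact absurd hQ hne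
  have hHA : ¬ F.autGroup Q ≤ H := by
    intro hle
    apply hspe.2.1
    have h1 : H.subgroupOf (F.autGroup Q) = ⊤ := by
      rw [Subgroup.subgroupOf_eq_top]
      exact hle
    rw [h1, Subgroup.map_top_of_surjective _ (QuotientGroup.mk'_surjective _)]
  obtain ⟨γ, hγA, hγH⟩ := SetLike.not_le_iff_exists.mp hHA
  have hC : ∀ P P' : Subgroup Ω, F.IsConj P Q → F.IsConj P P' → F.IsConj P' Q :=
    fun P P' h h' => Fusion.isConj_trans F (Fusion.isConj_symm F h') h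
  refine ⟨Fusion.filterSysG F _ hC (D.groupoid p hS H hH hQS), ?_, ?_⟩
  · intro R hRS hRQ
    unfold FusionSystem.autGroup
    apply Subgroup.closure_mono
    intro α hα
    have hα' : R.subtype.comp α.toMonoidHom ∈ F.Hom R := hα
    show R.subtype.comp α.toMonoidHom ∈ (Fusion.filterSysG F _ hC (D.groupoid p hS H hH hQS)).Hom R
    rw [Fusion.mem_filterSysG]
    refine ⟨hα', fun P₀ hP₀ hc => ?_⟩
    have hlt : P₀ < R := by
      refine lt_of_le_of_ne hP₀ ?_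
      intro h
      subst h
      exact hRQ (Fusion.isConj_symm F hc)
    obtain ⟨β, hβ, hβx⟩ := D.exists_beta_of_extends p hS hc hlt _ hα'
    exact ⟨Fusion.restrict_mem F hα' hP₀, β, hH hβ, fun x q hq => hβx x q hq⟩
  · intro hFE
    have h1 := hFE Q ((Fusion.mem_autGroup_iff F hQS.le γ).mp hγA)
    rw [Fusion.mem_filterSysG] at h1
    obtain ⟨-, β, hβ, hβx⟩ := h1.2 Q le_rfl (Fusion.isConj_refl F hQS.le)
    apply hγH
    have : β = γ := by
      ext q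
      have h2 := hβx q q (D.theta_self hQS.le q.2).symm
      rw [h2]
      have hr : ((Q.subtype.comp γ.toMonoidHom).comp (Subgroup.inclusion (le_refl Q))).range = Q := by
        ext y
        constructor
        · rintro ⟨x, rfl⟩
          exact (γ (Subgroup.inclusion (le_refl Q) x)).2
        · intro hy
          refine ⟨γ.symm ⟨y, hy⟩, ?_⟩
          show ((γ (Subgroup.inclusion (le_refl Q) (γ.symm ⟨y, hy⟩)) : Q) : Ω) = y
          have : Subgroup.inclusion (le_refl Q) (γ.symm ⟨y, hy⟩) = γ.symm ⟨y, hy⟩ := Subtype.ext rfl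
          rw [this]
          simp
      rw [hr]
      have h3 : ((Q.subtype.comp γ.toMonoidHom).comp (Subgroup.inclusion (le_refl Q))) q =
          ((γ q : Q) : Ω) := rfl
      rw [h3, D.theta_self hQS.le (γ q).2]
    rw [← this]
    exact hβ

end Cfsg.Agent.Lead
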