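import Mathlib
import Cfsg.Agent.Lead.CenterIdxA
import Cfsg.Agent.Lead.TransvF
import Cfsg.Agent.Lead.EssAbG
import Cfsg.Agent.Lead.FusionEssNeeded
import Cfsg.Agent.Lead.FusionGrun

set_option autoImplicit false

/-! The data attached to an essential subgroup when the centre of `S` has index at most `p²`. -/

namespace Cfsg.Agent.Lead.CenterIdx

open Cfsg Cfsg.FusionSystem

variable {Ω : Type*} [Group Ω] {S : Subgroup Ω}

/-- The data attached to an essential subgroup `P`. -/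
structure EData (p : ℕ) (F : FusionSystem S) (P : Subgroup Ω) (s : Ω) (u : MulAut ↥P) (z : ↥P)
    (g : MulAut ↥P) : Prop where
  setup : Setup p S P
  hsS : s ∈ S
  hsP : s ∉ P
  hu : ∀ x : ↥P, ((u x : ↥P) : Ω) = s * x * s⁻¹
  hzZ : (z : Ω) ∈ ZS S
  hzc : ∃ a ∈ S, ∃ b ∈ S, (z : Ω) = a * b * a⁻¹ * b⁻¹
  ctx : Transv.GCtx p (F.autGroup P) u z
  hg : g ∈ F.autGroup P
  hgu : g * u * g⁻¹ ∉ Subgroup.zpowers u
  fix_iff : ∀ x : ↥P, u x = x ↔ (x : Ω) ∈ ZS S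
  comm : ∀ a ∈ S, ∀ b ∈ S, a * b * a⁻¹ * b⁻¹ ∈ Subgroup.zpowers (z : Ω)
  ext : ∀ n ∈ F.autGroup P, n * u * n⁻¹ ∈ Subgroup.zpowers u →
    ∃ ν ∈ F.autGroup S, ∀ x : ↥P, ((ν ⟨x, setup.hPS x.2⟩ : ↥S) : Ω) = ((n x : ↥P) : Ω)

variable [Finite S] {p : ℕ} [hp : Fact p.Prime]

theorem setup_of_essential (hS : IsPGroup p S) (F : FusionSystem S) (hF : F.IsSaturated p)
    (hZ : (Subgroup.center ↥S).index ≤ p ^ 2) {P : Subgroup Ω} (hP : F.IsEssential p P) :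
    Setup p S P where
  hPS := hP.1.1
  hcen := by
    intro x hx hxy
    have h1 := hP.1.2 P (Fusion.isConj_refl F hP.1.1)
    apply h1
    show x ∈ S ⊓ Subgroup.centralizer (P : Set Ω)
    rw [Subgroup.mem_inf, Subgroup.mem_centralizer_iff]
    exact ⟨hx, hxy⟩
  hne := (Fusion.essential_lt_top p hS F hF hP).ne
  hidx := hZ

/-- Powers of the conjugation automorphism. -/
lemma conjAutHom_pow_apply {P : Subgroup Ω} (n : Subgroup.normalizer (P : Set Ω)) (i : ℕ)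
    (x : ↥P) : ((((conjAutHom P n) ^ i) x : ↥P) : Ω) = (n : Ω) ^ i * x * ((n : Ω) ^ i)⁻¹ := by
  rw [← map_pow]
  rfl

/-- `Aut_S(P)` is generated by conjugation by `s`. -/
lemma autInducedBy_eq_zpowers {P : Subgroup Ω} (h : Setup p S P) (hS : IsPGroup p S) {s : Ω}
    (hs : s ∈ S) (hsP : s ∉ P) (hN : s ∈ Subgroup.normalizer (P : Set Ω)) :
    autInducedBy S P = Subgroup.zpowers (conjAutHom P ⟨s, hN⟩) := by
  apply le_antisymm
  · intro α hα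
    rw [mem_autInducedBy_iff] at hα
    obtain ⟨g, hg, hα⟩ := hα
    obtain ⟨i, y, hy, rfl⟩ := h.exists_pow_mul hS hs hsP hg
    have : α = (conjAutHom P ⟨s, hN⟩) ^ i := by
      ext x
      rw [hα, conjAutHom_pow_apply]
      show s ^ i * y * x * (s ^ i * y)⁻¹ = s ^ i * x * (s ^ i)⁻¹
      rw [mul_inv_rev, mul_assoc (s ^ i) y, h.comm hS y hy x x.2]
      group
    rw [this]
    exact Subgroup.pow_mem _ (Subgroup.mem_zpowers _) i
  · rw [Subgroup.zpowers_le]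
    exact Fusion.conjAutHom_mem_autInducedBy P ⟨s, hN⟩ hs

/-- The transvection context of an essential subgroup. -/
lemma gctx_of_essential (hS : IsPGroup p S) (F : FusionSystem S) (hF : F.IsSaturated p)
    {P : Subgroup Ω} (hP : F.IsEssential p P) (h : Setup p S P) {s : Ω}
    (hs : s ∈ S) (hsP : s ∉ P) (hN : s ∈ Subgroup.normalizer (P : Set Ω)) {x₀ : Ω}
    (hx₀ : x₀ ∈ P) (hx₀Z : x₀ ∉ ZS S) :
    Transv.GCtx p (F.autGroup P) (conjAutHom P ⟨s, hN⟩)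
      ((⟨x₀, hx₀⟩ : ↥P)⁻¹ * conjAutHom P ⟨s, hN⟩ ⟨x₀, hx₀⟩) ∧
    (∀ x : ↥P, conjAutHom P ⟨s, hN⟩ x = x ↔ (x : Ω) ∈ ZS S) ∧
    ((((⟨x₀, hx₀⟩ : ↥P)⁻¹ * conjAutHom P ⟨s, hN⟩ ⟨x₀, hx₀⟩ : ↥P) : Ω) ∈ ZS S) ∧
    (∃ a ∈ S, ∃ b ∈ S, (((⟨x₀, hx₀⟩ : ↥P)⁻¹ * conjAutHom P ⟨s, hN⟩ ⟨x₀, hx₀⟩ : ↥P) : Ω) =
      a * b * a⁻¹ * b⁻¹) := by
  have hPS := h.hPS
  haveI : Finite ↥P := Fusion.finite_of_le hPS
  have hab : ∀ a b : ↥P, a * b = b * a := fun a b => Subtype.ext (h.comm hS a a.2 b b.2)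
  have hfix : ∀ x : ↥P, conjAutHom P ⟨s, hN⟩ x = x ↔ (x : Ω) ∈ ZS S := by
    intro x
    rw [h.mem_ZS_iff hS hs hsP x.2]
    constructor
    · intro h1
      have h2 : s * (x : Ω) * s⁻¹ = x := congrArg Subtype.val h1
      calc s * (x : Ω) = (s * (x : Ω) * s⁻¹) * s := by group
        _ = x * s := by rw [h2]
    · intro h1
      apply Subtype.ext
      rw [conjAutHom_apply]
      show s * (x : Ω) * s⁻¹ = x
      rw [h1, mul_inv_cancel_right]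
  have hzval : (((⟨x₀, hx₀⟩ : ↥P)⁻¹ * conjAutHom P ⟨s, hN⟩ ⟨x₀, hx₀⟩ : ↥P) : Ω) =
      x₀⁻¹ * s * x₀⁻¹⁻¹ * s⁻¹ := by
    show x₀⁻¹ * (s * x₀ * s⁻¹) = _
    group
  have hzZ : (((⟨x₀, hx₀⟩ : ↥P)⁻¹ * conjAutHom P ⟨s, hN⟩ ⟨x₀, hx₀⟩ : ↥P) : Ω) ∈ ZS S := by
    rw [hzval]
    exact h.commutator_mem_ZS hS _ (S.inv_mem (hPS hx₀)) s hs
  have hz1 : (⟨x₀, hx₀⟩ : ↥P)⁻¹ * conjAutHom P ⟨s, hN⟩ ⟨x₀, hx₀⟩ ≠ 1 := by
    intro h1
    apply hx₀Z
    rw [inv_mul_eq_one] at h1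
    exact (hfix ⟨x₀, hx₀⟩).mp h1.symm
  have hzp : ((⟨x₀, hx₀⟩ : ↥P)⁻¹ * conjAutHom P ⟨s, hN⟩ ⟨x₀, hx₀⟩) ^ p = 1 := by
    have hc : Commute (⟨x₀, hx₀⟩ : ↥P)⁻¹ (conjAutHom P ⟨s, hN⟩ ⟨x₀, hx₀⟩) := hab _ _
    rw [hc.mul_pow, inv_pow, ← map_pow]
    have h1 : (((⟨x₀, hx₀⟩ : ↥P) ^ p : ↥P) : Ω) ∈ ZS S := by
      rw [Subgroup.coe_pow]
      exact h.pow_mem_ZS hS hx₀
    rw [(hfix _).mpr h1, inv_mul_cancel]
  refine ⟨?_, hfix, hzZ, x₀⁻¹, S.inv_mem (hPS hx₀), s, hs, hzval⟩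
  refine
    { hab := hab
      huA := Fusion.autInducedBy_le_autGroup F hPS
        (Fusion.conjAutHom_mem_autInducedBy P ⟨s, hN⟩ hs)
      hup := ?_
      hz1 := hz1
      hzp := hzp
      huz := (hfix _).mpr hzZ
      hc := ?_
      hmax := ?_ }
  · ext x
    rw [conjAutHom_pow_apply]
    show s ^ p * (x : Ω) * (s ^ p)⁻¹ = x
    rw [h.comm hS _ (h.pow_mem hS hs) x x.2, mul_inv_cancel_right]
  · letI : CommGroup ↥P := { (inferInstance : Group ↥P) with mul_comm := hab }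
    have hker : (Transv.cm (conjAutHom P ⟨s, hN⟩)).ker = (ZS S).subgroupOf P := by
      ext x
      rw [MonoidHom.mem_ker, Transv.cm_eq_one_iff, hfix, Subgroup.mem_subgroupOf]
    have hcard : Nat.card (Transv.cm (conjAutHom P ⟨s, hN⟩)).range = p := by
      rw [← Subgroup.index_ker, hker]
      exact (h.index hS).2.1
    have hle : Subgroup.zpowers ((⟨x₀, hx₀⟩ : ↥P)⁻¹ * conjAutHom P ⟨s, hN⟩ ⟨x₀, hx₀⟩) ≤
        (Transv.cm (conjAutHom P ⟨s, hN⟩)).range := by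
      rw [Subgroup.zpowers_le]
      exact ⟨⟨x₀, hx₀⟩, rfl⟩
    have heq := Subgroup.eq_of_le_of_card_ge hle (by
      rw [hcard, Nat.card_zpowers, orderOf_eq_prime hzp hz1])
    intro x
    rw [heq]
    exact ⟨x, rfl⟩
  · obtain ⟨-, R, hR⟩ :=
      (Fusion.fullyCentralized_fullyAutomized_of_fullyNormalized p hS F hF hP.2.1).2
    rw [autInducedBy_eq_zpowers h hS hs hsP hN] at hR
    intro K hKA hKp hle
    have hK' : IsPGroup p ↥(K.subgroupOf (F.autGroup P)) := hKp.comap_subtype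
    have hle' : (R : Subgroup ↥(F.autGroup P)) ≤ K.subgroupOf (F.autGroup P) := by
      rw [hR]
      intro x hx
      rw [Subgroup.mem_subgroupOf] at hx ⊢
      exact hle hx
    have h1 := R.is_maximal' hK' hle'
    apply le_antisymm _ hle
    intro k hk
    have h2 : (⟨k, hKA hk⟩ : ↥(F.autGroup P)) ∈ K.subgroupOf (F.autGroup P) := by
      rw [Subgroup.mem_subgroupOf]; exact hk
    rw [h1, hR, Subgroup.mem_subgroupOf] at h2
    exact h2

/-- Some conjugate of `u` lies outside `⟨u⟩`. -/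
lemma exists_conj_not_mem {Ω : Type*} [Group Ω] {S : Subgroup Ω} [Finite S] {p : ℕ}
    [hp : Fact p.Prime] (F : FusionSystem S)
    {P : Subgroup Ω} (hP : F.IsEssential p P) (hab : ∀ a b : ↥P, a * b = b * a)
    {u : MulAut ↥P} (huA : u ∈ F.autGroup P) (hup : u ^ p = 1) (hu1 : u ≠ 1) :
    ∃ g ∈ F.autGroup P, g * u * g⁻¹ ∉ Subgroup.zpowers u := by
  have hPS : P ≤ S := hP.1.1
  haveI : Finite ↥P := Fusion.finite_of_le hPS
  obtain ⟨-, -, hn, E, hE⟩ := hP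
  haveI := hn
  have hInn : Cfsg.Inn ↥P = ⊥ := by
    rw [eq_bot_iff]
    rintro _ ⟨a, rfl⟩
    rw [Subgroup.mem_bot]
    ext x
    simp only [MulAut.conj_apply, MulAut.one_apply]
    rw [hab a x, mul_assoc, mul_inv_cancel, mul_one]
  have hN : (Cfsg.Inn ↥P).subgroupOf (F.autGroup P) = ⊥ := by
    rw [hInn, Subgroup.bot_subgroupOf]
  have e : (↥(F.autGroup P) ⧸ (Cfsg.Inn ↥P).subgroupOf (F.autGroup P)) ≃* ↥(F.autGroup P) :=
    (QuotientGroup.quotientMulEquivOfEq hN).trans QuotientGroup.quotientBot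
  have hcoreX := Cfsg.Agent.Lead.pCore_eq_bot_of_stronglyPEmbedded p E hE
  have hcoreA : Cfsg.pCore p ↥(F.autGroup P) = ⊥ := by
    rw [← Cfsg.Agent.Helper4.pCore_map_mulEquiv e, hcoreX, Subgroup.map_bot]
  by_contra hcon
  push Not at hcon
  apply hu1
  have hnorm : ((Subgroup.zpowers u).subgroupOf (F.autGroup P)).Normal := by
    constructor
    intro n hn g
    rw [Subgroup.mem_subgroupOf] at hn ⊢
    obtain ⟨k, hk⟩ := Subgroup.mem_zpowers_iff.mp hn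
    have h1 : ((g * n * g⁻¹ : ↥(F.autGroup P)) : MulAut ↥P) = ((g : MulAut ↥P) * u * (g : MulAut ↥P)⁻¹) ^ k := by
      have := map_zpow (MulAut.conj (g : MulAut ↥P)) u k
      simp only [MulAut.conj_apply] at this
      rw [← this, hk]
      rfl
    rw [h1]
    exact Subgroup.zpow_mem _ (hcon g g.2) k
  have hpg : IsPGroup p ↥((Subgroup.zpowers u).subgroupOf (F.autGroup P)) := by
    apply IsPGroup.comap_subtype
    rintro ⟨v, hv⟩
    obtain ⟨k, rfl⟩ := Subgroup.mem_zpowers_iff.mp hv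
    refine ⟨1, Subtype.ext ?_⟩
    rw [pow_one, Subgroup.coe_pow, Subgroup.coe_one]
    show (u ^ k) ^ p = 1
    rw [← zpow_natCast, ← zpow_mul, mul_comm, zpow_mul, zpow_natCast, hup, one_zpow]
  have hle := Cfsg.Agent.Helper1.le_pCore hnorm hpg
  rw [hcoreA] at hle
  have h2 : (⟨u, huA⟩ : ↥(F.autGroup P)) ∈ (Subgroup.zpowers u).subgroupOf (F.autGroup P) := by
    rw [Subgroup.mem_subgroupOf]; exact Subgroup.mem_zpowers u
  have h3 := hle h2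
  rw [Subgroup.mem_bot] at h3
  exact congrArg Subtype.val h3

/-- Elements of `Aut_F(P)` normalizing `Aut_S(P)` extend to `S`. -/
lemma ext_of_normalizes (hS : IsPGroup p S) (F : FusionSystem S) (hF : F.IsSaturated p)
    {P : Subgroup Ω} (hP : F.IsEssential p P) (h : Setup p S P) {s : Ω}
    (hs : s ∈ S) (hsP : s ∉ P) (hN : s ∈ Subgroup.normalizer (P : Set Ω))
    (hu1 : conjAutHom P ⟨s, hN⟩ ≠ 1)
    {n : MulAut ↥P} (hn : n ∈ F.autGroup P)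
    (hnu : n * conjAutHom P ⟨s, hN⟩ * n⁻¹ ∈ Subgroup.zpowers (conjAutHom P ⟨s, hN⟩)) :
    ∃ ν ∈ F.autGroup S, ∀ x : ↥P, ((ν ⟨x, h.hPS x.2⟩ : ↥S) : Ω) = ((n x : ↥P) : Ω) := by
  have hPS := h.hPS
  have hab : ∀ a b : ↥P, a * b = b * a := fun a b => Subtype.ext (h.comm hS a a.2 b b.2)
  have hfc := (Fusion.fullyCentralized_fullyAutomized_of_fullyNormalized p hS F hF hP.2.1).1
  have hrec := Fusion.receptive_of_fullyCentralized p hS F hF hfc
  have hV := autInducedBy_eq_zpowers h hS hs hsP hN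
  have hInn : ∀ β ∈ Cfsg.Inn ↥P, β = 1 := by
    rintro _ ⟨a, rfl⟩
    ext x
    simp only [MulAut.conj_apply, MulAut.one_apply]
    rw [hab a x, mul_assoc, mul_inv_cancel, mul_one]
  have hext : n ∈ Fusion.extSet F P := by
    apply Fusion.mem_extSet_of_normalizes F hrec n hn (autInducedBy S P)
      (Fusion.inn_le_autInducedBy hPS) le_rfl
    · refine ⟨conjAutHom P ⟨s, hN⟩, ?_, fun hmem => hu1 (hInn _ hmem)⟩
      rw [hV]; exact Subgroup.mem_zpowers _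
    · intro v hv
      rw [hV] at hv ⊢
      obtain ⟨k, rfl⟩ := Subgroup.mem_zpowers_iff.mp hv
      have := map_zpow (MulAut.conj n) (conjAutHom P ⟨s, hN⟩) k
      simp only [MulAut.conj_apply] at this
      rw [this]
      exact Subgroup.zpow_mem _ hnu k
  obtain ⟨Q, hPQ, φ, hφ, hφn⟩ := hext
  have hQS : Q ≤ S := Fusion.src_le F hφ
  have hSQ : S ≤ Q := by
    have hpr : (P.relIndex S).Prime := by
      have : P.relIndex S = p := (h.index hS).1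
      rw [this]; exact hp.out
    rcases le_or_le_of_relIndex_prime hPQ.le hQS hpr with h1 | h1
    · exact absurd h1 (not_le_of_gt hPQ)
    · exact h1
  have hφ' := Fusion.restrict_mem F hφ hSQ
  have hr : (φ.comp (Subgroup.inclusion hSQ)).range = S :=
    Fusion.range_eq_of_le' (F.injective_of_mem hφ') (Fusion.range_le F hφ')
  obtain ⟨ν, hν, hνx⟩ := Fusion.exists_aut_of_range_eq F hφ' hr
  refine ⟨ν, hν, fun x => ?_⟩
  rw [hνx, ← hφn x]
  rfl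

/-- Existence of the data attached to an essential subgroup. -/
theorem exists_EData (hS : IsPGroup p S) (F : FusionSystem S) (hF : F.IsSaturated p)
    (hZ : (Subgroup.center ↥S).index ≤ p ^ 2) {P : Subgroup Ω} (hP : F.IsEssential p P) :
    ∃ s u z g, EData p F P s u z g := by
  have h := setup_of_essential hS F hF hZ hP
  obtain ⟨s, hs, hsP⟩ := h.exists_not_mem
  obtain ⟨x₀, hx₀, hx₀Z⟩ := h.exists_not_mem_ZS
  have hN := h.le_normalizer hS hs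
  obtain ⟨hctx, hfix, hzZ, hzc⟩ := gctx_of_essential hS F hF hP h hs hsP hN hx₀ hx₀Z
  have hu1 : conjAutHom P ⟨s, hN⟩ ≠ 1 := by
    intro h1
    apply hx₀Z
    apply (hfix ⟨x₀, hx₀⟩).mp
    rw [h1]; rfl
  obtain ⟨g, hg, hgu⟩ := exists_conj_not_mem F hP hctx.hab hctx.huA hctx.hup hu1
  refine ⟨s, conjAutHom P ⟨s, hN⟩, _, g,
    { setup := h
      hsS := hs
      hsP := hsP
      hu := fun x => rfl
      hzZ := hzZ
      hzc := hzc
      ctx := hctx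
      hg := hg
      hgu := hgu
      fix_iff := hfix
      comm := ?_
      ext := fun n hn hnu => ext_of_normalizes hS F hF hP h hs hsP hN hu1 hn hnu }⟩
  apply h.commutator_mem hS hs hsP
  · rw [Subgroup.zpowers_le]; exact hzZ
  · intro y hy
    have h1 := hctx.hc (⟨y, hy⟩⁻¹ : ↥P)
    have h2 : ((((⟨y, hy⟩ : ↥P)⁻¹)⁻¹ * conjAutHom P ⟨s, hN⟩ (⟨y, hy⟩⁻¹ : ↥P) : ↥P) : Ω) =
        y * (s * y⁻¹ * s⁻¹) := by
      show (y⁻¹)⁻¹ * (s * y⁻¹ * s⁻¹) = _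
      rw [inv_inv]
    have h3 := Subgroup.mem_map_of_mem P.subtype h1
    rw [MonoidHom.map_zpowers] at h3
    have h4 : y * (s * y⁻¹ * s⁻¹) ∈ Subgroup.zpowers
        ((((⟨x₀, hx₀⟩ : ↥P)⁻¹ * conjAutHom P ⟨s, hN⟩ ⟨x₀, hx₀⟩ : ↥P)) : Ω) := by
      rw [← h2]; exact h3
    have h5 := Subgroup.inv_mem _ h4
    have h6 : (y * (s * y⁻¹ * s⁻¹))⁻¹ = s * y * s⁻¹ * y⁻¹ := by group
    rw [h6] at h5
    exact h5

end Cfsg.Agent.Lead.CenterIdx
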