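import Mathlib
import Cfsg.Agent.Lead.AbIdxC
import Cfsg.Agent.Lead.AbIdxD
import Cfsg.Agent.Lead.CenterIdxB

set_option autoImplicit false

/-! Abelian essential subgroups not contained in `A`: the transvection data. -/

namespace Cfsg.Agent.Lead.AbIdx

open Cfsg Cfsg.FusionSystem
open Cfsg.Agent.Lead.CenterIdx (ZS mem_ZS ZS_le)

variable {Ω : Type*} [Group Ω] {S A : Subgroup Ω}

/-- An abelian subgroup `P` of `S` containing the centre, with an element `x` outside `A`. -/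
structure HSetup (p : ℕ) (S A P : Subgroup Ω) (x : Ω) : Prop where
  setup : Setup p S A
  hPS : P ≤ S
  hZP : ZS S ≤ P
  hPab : ∀ a ∈ P, ∀ b ∈ P, a * b = b * a
  hxP : x ∈ P
  hxA : x ∉ A

variable [Finite S] {p : ℕ} [hp : Fact p.Prime] {P : Subgroup Ω} {x : Ω}

lemma HSetup.mem_ZS (hs : HSetup p S A P x) (hS : IsPGroup p S) {y : Ω} (hy : y ∈ P)
    (hyA : y ∈ A) : y ∈ ZS S :=
  hs.setup.mem_ZS_of_abelian hS hs.hPS hs.hPab hs.hxP hs.hxA hy hyA

lemma HSetup.exists_pow_mul (hs : HSetup p S A P x) (hS : IsPGroup p S) {y : Ω} (hy : y ∈ P) :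
    ∃ i : ℕ, ∃ w ∈ ZS S, y = x ^ i * w := by
  obtain ⟨i, a, ha, rfl⟩ := hs.setup.exists_pow_mul hS (hs.hPS hs.hxP) hs.hxA (hs.hPS hy)
  have haP : a ∈ P := by
    have : a = (x ^ i)⁻¹ * (x ^ i * a) := by group
    rw [this]; exact P.mul_mem (P.inv_mem (P.pow_mem hs.hxP i)) hy
  exact ⟨i, a, hs.mem_ZS hS haP ha, rfl⟩

lemma HSetup.index (hs : HSetup p S A P x) (hS : IsPGroup p S) :
    ((ZS S).subgroupOf P).index = p := by
  have h1 : (ZS S).subgroupOf P = A.subgroupOf P := by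
    ext y
    rw [Subgroup.mem_subgroupOf, Subgroup.mem_subgroupOf]
    exact ⟨fun h => hs.setup.ZS_le hS h, fun h => hs.mem_ZS hS y.2 h⟩
  rw [h1]
  exact hs.setup.relIndex hS hs.hPS (fun hle => hs.hxA (hle hs.hxP))

lemma HSetup.pow_mem (hs : HSetup p S A P x) (hS : IsPGroup p S) {y : Ω} (hy : y ∈ P) :
    y ^ p ∈ ZS S :=
  hs.mem_ZS hS (P.pow_mem hy p) (hs.setup.pow_mem hS (hs.hPS hy))

/-- For `b ∈ A` normalizing `P`, conjugation by `b` moves elements of `P` by central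
elements. -/
lemma HSetup.cm_mem (hs : HSetup p S A P x) (hS : IsPGroup p S) {b : Ω} (hb : b ∈ A)
    (hN : b ∈ Subgroup.normalizer (P : Set Ω)) {y : Ω} (hy : y ∈ P) :
    y⁻¹ * (b * y * b⁻¹) ∈ ZS S := by
  apply hs.mem_ZS hS
  · exact P.mul_mem (P.inv_mem hy) ((Subgroup.mem_normalizer_iff.mp hN y).mp hy)
  · have h1 : y⁻¹ * b * y ∈ A := hs.setup.conj_mem' hS (hs.hPS hy) hb
    have : y⁻¹ * (b * y * b⁻¹) = y⁻¹ * b * y * b⁻¹ := by group
    rw [this]
    exact A.mul_mem h1 (A.inv_mem hb)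

/-- Automorphisms induced by `S` are induced by elements of `A`. -/
lemma HSetup.exists_of_mem_autInducedBy (hs : HSetup p S A P x) (hS : IsPGroup p S)
    {α : MulAut ↥P} (hα : α ∈ autInducedBy S P) :
    ∃ (b : Ω) (_ : b ∈ A) (hN : b ∈ Subgroup.normalizer (P : Set Ω)), α = conjAutHom P ⟨b, hN⟩ := by
  haveI : Finite ↥P := Fusion.finite_of_le hs.hPS
  rw [mem_autInducedBy_iff] at hα
  obtain ⟨s, hsS, hα⟩ := hα
  obtain ⟨i, b, hb, rfl⟩ := hs.setup.exists_pow_mul hS (hs.hPS hs.hxP) hs.hxA hsS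
  have hxi : x ^ i ∈ P := P.pow_mem hs.hxP i
  have key : ∀ y : ↥P, b * (y : Ω) * b⁻¹ = ((α y : ↥P) : Ω) := by
    intro y
    have h1 := hα y
    have h2 : b * (y : Ω) * b⁻¹ = (x ^ i)⁻¹ * ((α y : ↥P) : Ω) * x ^ i := by
      rw [h1]; group
    rw [h2, mul_assoc, hs.hPab _ (α y).2 _ hxi, inv_mul_cancel_left]
  have hN : b ∈ Subgroup.normalizer (P : Set Ω) := by
    apply mem_normalizer_of_conj_mem_of_finite
    intro y hy
    rw [key ⟨y, hy⟩]
    exact (α ⟨y, hy⟩).2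
  refine ⟨b, hb, hN, ?_⟩
  ext y
  rw [conjAutHom_apply]
  exact (key y).symm

/-- No nontrivial normal `p`-subgroup in the automizer of an abelian essential subgroup. -/
lemma no_normal_p_subgroup (F : FusionSystem S) (hP : F.IsEssential p P)
    (hab : ∀ a b : ↥P, a * b = b * a) :
    (∀ K : Subgroup ↥(F.autGroup P), K.Normal → IsPGroup p K → K = ⊥) ∧
      p ∣ Nat.card ↥(F.autGroup P) := by
  have hPS : P ≤ S := hP.1.1
  haveI : Finite ↥P := Fusion.finite_of_le hPS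
  obtain ⟨-, -, hn, E, hE⟩ := hP
  haveI := hn
  have hInn : Cfsg.Inn ↥P = ⊥ := by
    rw [eq_bot_iff]
    rintro _ ⟨a, rfl⟩
    rw [Subgroup.mem_bot]
    ext x
    simp only [MulAut.conj_apply, MulAut.one_apply]
    rw [hab a x, mul_assoc, mul_inv_cancel, mul_one]
  have hN : (Cfsg.Inn ↥P).subgroupOf (F.autGroup P) = ⊥ := by
    rw [hInn, Subgroup.bot_subgroupOf]
  have e : (↥(F.autGroup P) ⧸ (Cfsg.Inn ↥P).subgroupOf (F.autGroup P)) ≃* ↥(F.autGroup P) :=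
    (QuotientGroup.quotientMulEquivOfEq hN).trans QuotientGroup.quotientBot
  have hcoreX := Cfsg.Agent.Lead.pCore_eq_bot_of_stronglyPEmbedded p E hE
  have hcoreA : Cfsg.pCore p ↥(F.autGroup P) = ⊥ := by
    rw [← Cfsg.Agent.Helper4.pCore_map_mulEquiv e, hcoreX, Subgroup.map_bot]
  refine ⟨fun K hKn hKp => ?_, ?_⟩
  · have := Cfsg.Agent.Helper1.le_pCore hKn hKp
    rw [hcoreA] at this
    exact eq_bot_iff.mpr this
  · rw [← Nat.card_congr e.toEquiv]
    exact hE.1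

/-- The data attached to an abelian essential subgroup not contained in `A`. -/
structure HData (p : ℕ) (F : FusionSystem S) (A P : Subgroup Ω) (x a : Ω) (u : MulAut ↥P)
    (z : ↥P) (g : MulAut ↥P) : Prop where
  hs : HSetup p S A P x
  haA : a ∈ A
  hu : ∀ y : ↥P, ((u y : ↥P) : Ω) = a * y * a⁻¹
  hz : (z : Ω) = x⁻¹ * a * x * a⁻¹
  hzZ : (z : Ω) ∈ ZS S
  ctx : Transv.GCtx p (F.autGroup P) u z
  hg : g ∈ F.autGroup P
  hgu : g * u * g⁻¹ ∉ Subgroup.zpowers u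
  fix_iff : ∀ y : ↥P, u y = y ↔ (y : Ω) ∈ ZS S
  hT : autInducedBy S P = Subgroup.zpowers u

/-- `Aut_S(P)` is cyclic, generated by conjugation by some `a ∈ A`. -/
theorem HSetup.exists_generator (hs : HSetup p S A P x) (hS : IsPGroup p S) (F : FusionSystem S)
    (hF : F.IsSaturated p) (hP : F.IsEssential p P) :
    ∃ (a : Ω) (_ : a ∈ A) (hN : a ∈ Subgroup.normalizer (P : Set Ω)),
      conjAutHom P ⟨a, hN⟩ ≠ 1 ∧ autInducedBy S P = Subgroup.zpowers (conjAutHom P ⟨a, hN⟩) ∧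
      ∃ R : Sylow p ↥(F.autGroup P),
        (R : Subgroup ↥(F.autGroup P)) = (autInducedBy S P).subgroupOf (F.autGroup P) := by
  have hPS := hs.hPS
  haveI : Finite ↥P := Fusion.finite_of_le hPS
  have hab : ∀ a b : ↥P, a * b = b * a := fun a b => Subtype.ext (hs.hPab a a.2 b b.2)
  obtain ⟨-, R, hR⟩ :=
    (Fusion.fullyCentralized_fullyAutomized_of_fullyNormalized p hS F hF hP.2.1).2
  obtain ⟨hcore, hdvd⟩ := no_normal_p_subgroup F hP hab
  have hmemR : ∀ α : ↥(F.autGroup P), α ∈ R ↔ (α : MulAut ↥P) ∈ autInducedBy S P := by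
    intro α
    have : α ∈ R ↔ α ∈ (R : Subgroup ↥(F.autGroup P)) := Iff.rfl
    rw [this, hR, Subgroup.mem_subgroupOf]
  have hPp : IsPGroup p ↥P := hS.to_le hPS
  have hfix : ∀ α ∈ R, ∀ w ∈ (ZS S).subgroupOf P, (α : MulAut ↥P) w = w := by
    intro α hα w hw
    obtain ⟨b, hb, hN, hαb⟩ := hs.exists_of_mem_autInducedBy hS ((hmemR α).mp hα)
    rw [hαb]
    apply Subtype.ext
    rw [conjAutHom_apply]
    rw [Subgroup.mem_subgroupOf, CenterIdx.mem_ZS] at hw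
    show b * (w : Ω) * b⁻¹ = w
    rw [hw.2 b (hs.setup.hAS hb), mul_inv_cancel_right]
  have hcm : ∀ α ∈ R, ∀ y : ↥P, y⁻¹ * (α : MulAut ↥P) y ∈ (ZS S).subgroupOf P := by
    intro α hα y
    obtain ⟨b, hb, hN, hαb⟩ := hs.exists_of_mem_autInducedBy hS ((hmemR α).mp hα)
    rw [hαb, Subgroup.mem_subgroupOf]
    exact hs.cm_mem hS hb hN y.2
  have hR1 : (R : Subgroup ↥(F.autGroup P)) ≠ ⊥ := R.ne_bot_of_dvd_card hdvd
  obtain ⟨u, huR, hu1⟩ : ∃ u : ↥(F.autGroup P), u ∈ R ∧ u ≠ 1 := by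
    by_contra hcon
    push Not at hcon
    apply hR1
    rw [eq_bot_iff]
    intro v hv
    rw [Subgroup.mem_bot]
    exact hcon v hv
  obtain ⟨a, ha, hN, hua⟩ := hs.exists_of_mem_autInducedBy hS ((hmemR u).mp huR)
  refine ⟨a, ha, hN, ?_, ?_, R, hR⟩
  · intro h1
    apply hu1
    apply Subtype.ext
    rw [hua, h1]; rfl
  · apply le_antisymm
    · intro α hα
      have hαG : α ∈ F.autGroup P := Fusion.autInducedBy_le_autGroup F hPS hα
      have := sylow_cyclic_of_transvections hab hPp ((ZS S).subgroupOf P) (hs.index hS)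
        (F.autGroup P) R hfix hcm hcore u huR hu1 ⟨α, hαG⟩ ((hmemR ⟨α, hαG⟩).mpr hα)
      rw [hua] at this
      exact this
    · rw [Subgroup.zpowers_le, ← hua]
      exact (hmemR u).mp huR

end Cfsg.Agent.Lead.AbIdx
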