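import Mathlib
import Cfsg.Agent.Lead.AbIdxE

set_option autoImplicit false

/-! Existence of the transvection data of an abelian essential subgroup not contained in `A`. -/

namespace Cfsg.Agent.Lead.AbIdx

open Cfsg Cfsg.FusionSystem
open Cfsg.Agent.Lead.CenterIdx (ZS mem_ZS ZS_le)

variable {Ω : Type*} [Group Ω] {S A : Subgroup Ω}
variable [Finite S] {p : ℕ} [hp : Fact p.Prime] {P : Subgroup Ω} {x : Ω}

theorem HSetup.exists_HData (hs : HSetup p S A P x) (hS : IsPGroup p S) (F : FusionSystem S)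
    (hF : F.IsSaturated p) (hP : F.IsEssential p P) :
    ∃ a u z g, HData p F A P x a u z g := by
  obtain ⟨a, ha, hN, hu1, hT, R, hR⟩ := hs.exists_generator hS F hF hP
  have hPS := hs.hPS
  haveI : Finite ↥P := Fusion.finite_of_le hPS
  have hab : ∀ a b : ↥P, a * b = b * a := fun a b => Subtype.ext (hs.hPab a a.2 b b.2)
  have hfixZ : ∀ y : ↥P, (y : Ω) ∈ ZS S → conjAutHom P ⟨a, hN⟩ y = y := by
    intro y hy
    apply Subtype.ext
    rw [conjAutHom_apply]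
    rw [CenterIdx.mem_ZS] at hy
    show a * (y : Ω) * a⁻¹ = y
    rw [hy.2 a (hs.setup.hAS ha), mul_inv_cancel_right]
  have haZ : a ∉ ZS S := by
    intro haZ
    apply hu1
    ext y
    rw [conjAutHom_apply]
    rw [CenterIdx.mem_ZS] at haZ
    show a * (y : Ω) * a⁻¹ = y
    rw [← haZ.2 y (hPS y.2), mul_inv_cancel_right]
  have hfix : ∀ y : ↥P, conjAutHom P ⟨a, hN⟩ y = y ↔ (y : Ω) ∈ ZS S := by
    intro y
    constructor
    · intro h1
      have h2 : a * (y : Ω) * a⁻¹ = y := congrArg Subtype.val h1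
      by_cases hyA : (y : Ω) ∈ A
      · exact hs.mem_ZS hS y.2 hyA
      · exfalso
        apply haZ
        apply hs.setup.mem_ZS_of_comm hS (hPS y.2) hyA ha
        calc (y : Ω) * a = (a * (y : Ω) * a⁻¹) * a := by rw [h2]
          _ = a * y := by group
    · exact hfixZ y
  have hzval : (((⟨x, hs.hxP⟩ : ↥P)⁻¹ * conjAutHom P ⟨a, hN⟩ ⟨x, hs.hxP⟩ : ↥P) : Ω) =
      x⁻¹ * a * x * a⁻¹ := by
    show x⁻¹ * (a * x * a⁻¹) = _
    group
  have hzZ : (((⟨x, hs.hxP⟩ : ↥P)⁻¹ * conjAutHom P ⟨a, hN⟩ ⟨x, hs.hxP⟩ : ↥P) : Ω) ∈ ZS S :=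
    hs.cm_mem hS ha hN hs.hxP
  have hz1 : (⟨x, hs.hxP⟩ : ↥P)⁻¹ * conjAutHom P ⟨a, hN⟩ ⟨x, hs.hxP⟩ ≠ 1 := by
    intro h1
    rw [inv_mul_eq_one] at h1
    exact hs.hxA (hs.setup.ZS_le hS ((hfix ⟨x, hs.hxP⟩).mp h1.symm))
  have hzp : ((⟨x, hs.hxP⟩ : ↥P)⁻¹ * conjAutHom P ⟨a, hN⟩ ⟨x, hs.hxP⟩) ^ p = 1 := by
    have hc : Commute (⟨x, hs.hxP⟩ : ↥P)⁻¹ (conjAutHom P ⟨a, hN⟩ ⟨x, hs.hxP⟩) := hab _ _
    rw [hc.mul_pow, inv_pow, ← map_pow]
    have h1 : (((⟨x, hs.hxP⟩ : ↥P) ^ p : ↥P) : Ω) ∈ ZS S := by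
      rw [Subgroup.coe_pow]
      exact hs.pow_mem hS hs.hxP
    rw [hfixZ _ h1, inv_mul_cancel]
  letI : CommGroup ↥P := { (inferInstance : Group ↥P) with mul_comm := hab }
  have hcm : ∀ y : ↥P, ∃ i : ℕ, Transv.cm (conjAutHom P ⟨a, hN⟩) y =
      ((⟨x, hs.hxP⟩ : ↥P)⁻¹ * conjAutHom P ⟨a, hN⟩ ⟨x, hs.hxP⟩) ^ i := by
    intro y
    obtain ⟨i, w, hw, hy⟩ := hs.exists_pow_mul hS y.2
    have hy' : y = (⟨x, hs.hxP⟩ : ↥P) ^ i * ⟨w, hs.hZP hw⟩ := Subtype.ext (by simpa using hy)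
    refine ⟨i, ?_⟩
    rw [hy', map_mul, map_pow, (Transv.cm_eq_one_iff _ _).mpr (hfixZ ⟨w, hs.hZP hw⟩ hw), mul_one]
    rfl
  have hup : (conjAutHom P ⟨a, hN⟩) ^ p = 1 := by
    ext y
    obtain ⟨i, hi⟩ := hcm y
    have h1 : conjAutHom P ⟨a, hN⟩ (Transv.cm (conjAutHom P ⟨a, hN⟩) y) =
        Transv.cm (conjAutHom P ⟨a, hN⟩) y := by
      rw [hi, map_pow, hfixZ _ hzZ]
    have h2 : (((⟨x, hs.hxP⟩ : ↥P)⁻¹ * conjAutHom P ⟨a, hN⟩ ⟨x, hs.hxP⟩) ^ i) ^ p = 1 := by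
      rw [pow_right_comm, hzp, one_pow]
    rw [Transv.pow_apply_of_fix _ y h1 p, hi, h2, mul_one]
    rfl
  have huA : conjAutHom P ⟨a, hN⟩ ∈ F.autGroup P :=
    Fusion.autInducedBy_le_autGroup F hPS
      (Fusion.conjAutHom_mem_autInducedBy P ⟨a, hN⟩ (hs.setup.hAS ha))
  have hctx : Transv.GCtx p (F.autGroup P) (conjAutHom P ⟨a, hN⟩)
      ((⟨x, hs.hxP⟩ : ↥P)⁻¹ * conjAutHom P ⟨a, hN⟩ ⟨x, hs.hxP⟩) :=
    { hab := hab
      huA := huA
      hup := hup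
      hz1 := hz1
      hzp := hzp
      huz := hfixZ _ hzZ
      hc := by
        intro y
        obtain ⟨i, hi⟩ := hcm y
        have : y⁻¹ * conjAutHom P ⟨a, hN⟩ y = Transv.cm (conjAutHom P ⟨a, hN⟩) y := rfl
        rw [this, hi]
        exact Subgroup.pow_mem _ (Subgroup.mem_zpowers _) i
      hmax := by
        rw [hT] at hR
        intro K hKA hKp hle
        have hK' : IsPGroup p ↥(K.subgroupOf (F.autGroup P)) := hKp.comap_subtype
        have hle' : (R : Subgroup ↥(F.autGroup P)) ≤ K.subgroupOf (F.autGroup P) := by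
          rw [hR]
          intro y hy
          rw [Subgroup.mem_subgroupOf] at hy ⊢
          exact hle hy
        have h1 := R.is_maximal' hK' hle'
        apply le_antisymm _ hle
        intro k hk
        have h2 : (⟨k, hKA hk⟩ : ↥(F.autGroup P)) ∈ K.subgroupOf (F.autGroup P) := by
          rw [Subgroup.mem_subgroupOf]; exact hk
        rw [h1, hR, Subgroup.mem_subgroupOf] at h2
        exact h2 }
  obtain ⟨g, hg, hgu⟩ := CenterIdx.exists_conj_not_mem F hP hab huA hup hu1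
  exact ⟨a, conjAutHom P ⟨a, hN⟩, _, g,
    { hs := hs
      haA := ha
      hu := fun y => rfl
      hz := hzval
      hzZ := hzZ
      ctx := hctx
      hg := hg
      hgu := hgu
      fix_iff := hfix
      hT := hT }⟩

end Cfsg.Agent.Lead.AbIdx
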