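import Mathlib
import Cfsg.Agent.Lead.CenterIdxB
import Cfsg.Agent.Lead.FusionNormalCrit

set_option autoImplicit false

/-! Global tools: the odd-index lemma for `Aut_F(S)`, normal subgroups, existence of essentials. -/

namespace Cfsg.Agent.Lead.CenterIdx

open Cfsg Cfsg.FusionSystem

variable {Ω : Type*} [Group Ω] {S : Subgroup Ω}

/-- Automorphisms of `S` preserve its centre. -/
lemma aut_mem_ZS (β : MulAut ↥S) {x : ↥S} (hx : (x : Ω) ∈ ZS S) : ((β x : ↥S) : Ω) ∈ ZS S := by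
  rw [mem_ZS] at hx ⊢
  refine ⟨(β x).2, fun y hy => ?_⟩
  have h1 : (β⁻¹ ⟨y, hy⟩ : ↥S) * x = x * (β⁻¹ ⟨y, hy⟩ : ↥S) :=
    Subtype.ext (hx.2 _ (β⁻¹ ⟨y, hy⟩ : ↥S).2)
  have h2 := congrArg β h1
  rw [map_mul, map_mul, MulAut.apply_inv_self] at h2
  exact congrArg Subtype.val h2

lemma mem_of_pow_mem_of_coprime {G : Type*} [Group G] (H : Subgroup G) {x : G} {a b : ℕ}
    (hab : Nat.Coprime a b) (ha : x ^ a ∈ H) (hb : x ^ b ∈ H) : x ∈ H := by
  have h1 := Nat.gcd_eq_gcd_ab a b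
  rw [hab] at h1
  have h2 : x = (x ^ a) ^ (Nat.gcdA a b) * (x ^ b) ^ (Nat.gcdB a b) := by
    rw [← zpow_natCast, ← zpow_natCast, ← zpow_mul, ← zpow_mul, ← zpow_add, ← h1]
    simp
  rw [h2]
  exact H.mul_mem (H.zpow_mem ha _) (H.zpow_mem hb _)

variable [Finite S] {p : ℕ} [hp : Fact p.Prime]

/-- A subgroup of `Aut(S)` containing the inner automorphisms and normalized by `Aut_F(S)` contains
every element of `Aut_F(S)` whose `p`-th power it contains. -/
lemma mem_of_pow_mem (F : FusionSystem S) (hF : F.IsSaturated p) (N : Subgroup (MulAut ↥S))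
    (hinn : ∀ g : ↥S, MulAut.conj g ∈ N)
    (hnorm : ∀ β ∈ F.autGroup S, ∀ γ ∈ N, β * γ * β⁻¹ ∈ N)
    {β : MulAut ↥S} (hβ : β ∈ F.autGroup S) (hpow : β ^ p ∈ N) : β ∈ N := by
  obtain ⟨-, R, hR⟩ := Fusion.top_fullyAutomized p F hF
  haveI : Finite ↥(F.autGroup S) := inferInstance
  haveI hNn : (N.subgroupOf (F.autGroup S)).Normal := by
    constructor
    intro n hn g
    rw [Subgroup.mem_subgroupOf] at hn ⊢
    exact hnorm g g.2 n hn
  have hle : (R : Subgroup ↥(F.autGroup S)) ≤ N.subgroupOf (F.autGroup S) := by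
    rw [hR]
    intro x hx
    rw [Subgroup.mem_subgroupOf] at hx ⊢
    rw [mem_autInducedBy_iff] at hx
    obtain ⟨g, hg, hx⟩ := hx
    have : (x : MulAut ↥S) = MulAut.conj (⟨g, hg⟩ : ↥S) := by
      ext y
      rw [hx]
      rfl
    rw [this]
    exact hinn _
  have hdvd := Subgroup.index_dvd_of_le hle
  have hnd : ¬ p ∣ (N.subgroupOf (F.autGroup S)).index :=
    fun h => R.not_dvd_index (dvd_trans h hdvd)
  have hcop : Nat.Coprime p (N.subgroupOf (F.autGroup S)).index :=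
    (Nat.Prime.coprime_iff_not_dvd hp.out).mpr hnd
  have h1 : (⟨β, hβ⟩ : ↥(F.autGroup S)) ^ p ∈ N.subgroupOf (F.autGroup S) := by
    rw [Subgroup.mem_subgroupOf]; exact hpow
  have h2 := Subgroup.pow_index_mem (N.subgroupOf (F.autGroup S)) (⟨β, hβ⟩ : ↥(F.autGroup S))
  have h3 := mem_of_pow_mem_of_coprime _ hcop h1 h2
  rw [Subgroup.mem_subgroupOf] at h3
  exact h3

/-- A subgroup invariant under `Aut_F(P)` for `P` essential and under `Aut_F(S)` is trivial when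
`O_p(F) = 1`. -/
lemma eq_bot_of_invariant (hS : IsPGroup p S) (F : FusionSystem S) (hF : F.IsSaturated p)
    (hcore : F.core = ⊥) (Q : Subgroup Ω) (hQS : Q ≤ S)
    (hSinv : ∀ β ∈ F.autGroup S, ∀ x : ↥S, (x : Ω) ∈ Q → ((β x : ↥S) : Ω) ∈ Q)
    (hess : ∀ P : Subgroup Ω, F.IsEssential p P → Q ≤ P ∧
      ∀ α ∈ F.autGroup P, ∀ x : ↥P, (x : Ω) ∈ Q → ((α x : ↥P) : Ω) ∈ Q) : Q = ⊥ := by
  have hn : F.IsNormal Q := by
    apply Fusion.isNormal_of_forall_essential p hS F hF Q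
    intro P hP
    have key : Q ≤ P ∧ ∀ α ∈ F.autGroup P, ∀ x : ↥P, (x : Ω) ∈ Q → ((α x : ↥P) : Ω) ∈ Q := by
      rcases hP with hP | hP
      · rw [hP]
        exact ⟨hQS, hSinv⟩
      · exact hess P hP
    have hPS : P ≤ S := by
      rcases hP with hP | hP
      · rw [hP]
      · exact hP.1.1
    haveI : Finite ↥P := Fusion.finite_of_le hPS
    refine ⟨key.1, fun α hα => ?_⟩
    apply Fusion.map_aut_eq_of_le
    rintro _ ⟨x, hx, rfl⟩
    rw [SetLike.mem_coe, Subgroup.mem_subgroupOf] at hx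
    rw [Subgroup.mem_subgroupOf]
    exact key.2 α hα x hx
  rw [eq_bot_iff, ← hcore]
  exact le_sSup hn

/-- There is an essential subgroup when `O_p(F) = 1` and `S ≠ 1`. -/
lemma exists_essential (hS : IsPGroup p S) (F : FusionSystem S) (hF : F.IsSaturated p)
    (hcore : F.core = ⊥) (hS1 : S ≠ ⊥) : ∃ P : Subgroup Ω, F.IsEssential p P := by
  by_contra hcon
  push Not at hcon
  apply hS1
  apply eq_bot_of_invariant hS F hF hcore S le_rfl
  · intro β _ x _
    exact (β x).2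
  · intro P hP
    exact absurd hP (hcon P)

end Cfsg.Agent.Lead.CenterIdx
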