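import Mathlib
import Cfsg.Agent.Lead.CenterIdxC

set_option autoImplicit false

/-! The common fixed points `P₀` attached to an essential subgroup. -/

namespace Cfsg.Agent.Lead.CenterIdx

open Cfsg Cfsg.FusionSystem

variable {Ω : Type*} [Group Ω] {S : Subgroup Ω}

/-- Common fixed points of two automorphisms. -/
def fixSub {H : Type*} [Group H] (u v : MulAut H) : Subgroup H where
  carrier := {x | u x = x ∧ v x = x}
  one_mem' := ⟨map_one u, map_one v⟩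
  mul_mem' := by
    rintro a b ⟨ha, ha'⟩ ⟨hb, hb'⟩
    exact ⟨by rw [map_mul, ha, hb], by rw [map_mul, ha', hb']⟩
  inv_mem' := by
    rintro a ⟨ha, ha'⟩
    exact ⟨by rw [map_inv, ha], by rw [map_inv, ha']⟩

lemma mem_fixSub {H : Type*} [Group H] {u v : MulAut H} {x : H} :
    x ∈ fixSub u v ↔ u x = x ∧ v x = x := Iff.rfl

/-- The subgroup `P₀` of common fixed points of `u` and its conjugate, inside the ambient group. -/
def P0 (P : Subgroup Ω) (u g : MulAut ↥P) : Subgroup Ω :=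
  (fixSub u (g * u * g⁻¹)).map P.subtype

lemma mem_P0 {P : Subgroup Ω} {u g : MulAut ↥P} {x : Ω} :
    x ∈ P0 P u g ↔ ∃ hx : x ∈ P, u ⟨x, hx⟩ = ⟨x, hx⟩ ∧ (g * u * g⁻¹) ⟨x, hx⟩ = ⟨x, hx⟩ := by
  constructor
  · rintro ⟨y, hy, rfl⟩
    exact ⟨y.2, hy⟩
  · rintro ⟨hx, h⟩
    exact ⟨⟨x, hx⟩, h, rfl⟩

lemma coe_mem_P0 {P : Subgroup Ω} {u g : MulAut ↥P} {x : ↥P} :
    (x : Ω) ∈ P0 P u g ↔ u x = x ∧ (g * u * g⁻¹) x = x := by
  rw [mem_P0]
  constructor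
  · rintro ⟨_, h⟩
    exact h
  · intro h
    exact ⟨x.2, h⟩

variable [Finite S] {p : ℕ} [hp : Fact p.Prime] {F : FusionSystem S} {P : Subgroup Ω} {s : Ω}
  {u : MulAut ↥P} {z : ↥P} {g : MulAut ↥P}

lemma EData.finite (ed : EData p F P s u z g) : Finite ↥P := Fusion.finite_of_le ed.setup.hPS

lemma EData.res (ed : EData p F P s u z g) : Transv.GRes p (F.autGroup P) u z g := by
  haveI := ed.finite
  exact ed.ctx.res ed.hg ed.hgu

lemma EData.P0_le_ZS (ed : EData p F P s u z g) : P0 P u g ≤ ZS S := by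
  intro x hx
  obtain ⟨hxP, h1, -⟩ := mem_P0.mp hx
  exact (ed.fix_iff ⟨x, hxP⟩).mp h1

lemma EData.P0_le (ed : EData p F P s u z g) : P0 P u g ≤ P :=
  ed.P0_le_ZS.trans ed.setup.ZS_le

lemma EData.exists_pow_mul_mem_P0 (ed : EData p F P s u z g) {x : Ω} (hx : x ∈ ZS S) :
    ∃ i : ℕ, x * (z : Ω) ^ i ∈ P0 P u g := by
  have hxP := ed.setup.ZS_le hx
  obtain ⟨i, h1, h2⟩ := ed.res.decomp_fix ⟨x, hxP⟩ ((ed.fix_iff _).mpr hx)
  refine ⟨i, ?_⟩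
  have : x * (z : Ω) ^ i = ((⟨x, hxP⟩ * z ^ i : ↥P) : Ω) := by
    rw [Subgroup.coe_mul, Subgroup.coe_pow]
  rw [this, coe_mem_P0]
  exact ⟨h1, h2⟩

lemma EData.pow_mem_P0 (ed : EData p F P s u z g) {i : ℕ} (hi : (z : Ω) ^ i ∈ P0 P u g) :
    (z : Ω) ^ i = 1 := by
  have : (z : Ω) ^ i = ((z ^ i : ↥P) : Ω) := by rw [Subgroup.coe_pow]
  rw [this, coe_mem_P0] at hi
  rw [this, ed.res.pow_fix i hi.2]
  rfl

lemma EData.P0_inv (ed : EData p F P s u z g) {α : MulAut ↥P} (hα : α ∈ F.autGroup P) {x : ↥P}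
    (hx : (x : Ω) ∈ P0 P u g) : ((α x : ↥P) : Ω) ∈ P0 P u g := by
  rw [coe_mem_P0] at hx ⊢
  exact ed.res.fix_inv α hα x hx.1 hx.2

lemma EData.exists_decomp (ed : EData p F P s u z g) {x : Ω} (hx : x ∈ P) :
    ∃ i j : ℕ, x * (z : Ω) ^ i * ((g z : ↥P) : Ω) ^ j ∈ P0 P u g := by
  obtain ⟨i, j, h1, h2⟩ := ed.res.decomp ⟨x, hx⟩
  refine ⟨i, j, ?_⟩
  have : x * (z : Ω) ^ i * ((g z : ↥P) : Ω) ^ j = ((⟨x, hx⟩ * z ^ i * (g z) ^ j : ↥P) : Ω) := by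
    rw [Subgroup.coe_mul, Subgroup.coe_mul, Subgroup.coe_pow, Subgroup.coe_pow]
  rw [this, coe_mem_P0]
  exact ⟨h1, h2⟩

lemma EData.z_ne_one (ed : EData p F P s u z g) : (z : Ω) ≠ 1 := by
  intro h
  apply ed.ctx.hz1
  exact Subtype.ext h

lemma EData.z_pow (ed : EData p F P s u z g) : (z : Ω) ^ p = 1 := by
  have := congrArg Subtype.val ed.ctx.hzp
  rwa [Subgroup.coe_pow] at this

lemma EData.orderOf_z (ed : EData p F P s u z g) : orderOf (z : Ω) = p :=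
  orderOf_eq_prime ed.z_pow ed.z_ne_one

/-- The inverting automorphism of `S`. -/
lemma EData.exists_tau (ed : EData p F P s u z g) :
    ∃ τ ∈ F.autGroup S, ((τ ⟨(z : Ω), ed.setup.hPS z.2⟩ : ↥S) : Ω) = (z : Ω)⁻¹ ∧
      ∀ x : ↥S, (x : Ω) ∈ P0 P u g → τ x = x := by
  obtain ⟨t, htA, htz, htu, htfix⟩ := ed.res.inverting
  have h1 : t * u * t⁻¹ ∈ Subgroup.zpowers u := by
    rw [htu, mul_inv_cancel_right]
    exact Subgroup.mem_zpowers u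
  obtain ⟨τ, hτ, hτx⟩ := ed.ext t htA h1
  refine ⟨τ, hτ, ?_, fun x hx => ?_⟩
  · rw [hτx z, htz]
    rfl
  · have hxP : (x : Ω) ∈ P := ed.P0_le hx
    have h2 := hτx ⟨x, hxP⟩
    have h3 : ((⟨(x : Ω), hxP⟩ : ↥P) : Ω) ∈ P0 P u g := hx
    rw [coe_mem_P0] at h3
    rw [htfix _ h3.1 h3.2] at h2
    exact Subtype.ext h2

end Cfsg.Agent.Lead.CenterIdx
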