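import Mathlib
import Cfsg.Agent.Lead.AbIdxF
import Cfsg.Agent.Lead.CenterIdxD
import Cfsg.Agent.Lead.FusionRestrict

set_option autoImplicit false

/-! Consequences of the transvection data. -/

namespace Cfsg.Agent.Lead.AbIdx

open Cfsg Cfsg.FusionSystem
open Cfsg.Agent.Lead.CenterIdx (ZS P0 mem_P0 coe_mem_P0 fixSub)

variable {Ω : Type*} [Group Ω] {S A : Subgroup Ω}
variable [Finite S] {p : ℕ} [hp : Fact p.Prime] {F : FusionSystem S} {P : Subgroup Ω} {x a : Ω}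
  {u : MulAut ↥P} {z : ↥P} {g : MulAut ↥P}

lemma HData.finite (hd : HData p F A P x a u z g) : Finite ↥P := Fusion.finite_of_le hd.hs.hPS

lemma HData.res (hd : HData p F A P x a u z g) : Transv.GRes p (F.autGroup P) u z g := by
  haveI := hd.finite
  exact hd.ctx.res hd.hg hd.hgu

lemma HData.P0_le_ZS (hd : HData p F A P x a u z g) : P0 P u g ≤ ZS S := by
  intro y hy
  obtain ⟨hyP, h1, -⟩ := mem_P0.mp hy
  exact (hd.fix_iff ⟨y, hyP⟩).mp h1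

lemma HData.exists_pow_mul_mem_P0 (hd : HData p F A P x a u z g) {y : Ω} (hy : y ∈ ZS S) :
    ∃ i : ℕ, y * (z : Ω) ^ i ∈ P0 P u g := by
  have hyP := hd.hs.hZP hy
  obtain ⟨i, h1, h2⟩ := hd.res.decomp_fix ⟨y, hyP⟩ ((hd.fix_iff _).mpr hy)
  refine ⟨i, ?_⟩
  have : y * (z : Ω) ^ i = ((⟨y, hyP⟩ * z ^ i : ↥P) : Ω) := by
    rw [Subgroup.coe_mul, Subgroup.coe_pow]
  rw [this, coe_mem_P0]
  exact ⟨h1, h2⟩

lemma HData.pow_mem_P0 (hd : HData p F A P x a u z g) {i : ℕ} (hi : (z : Ω) ^ i ∈ P0 P u g) :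
    (z : Ω) ^ i = 1 := by
  have : (z : Ω) ^ i = ((z ^ i : ↥P) : Ω) := by rw [Subgroup.coe_pow]
  rw [this, coe_mem_P0] at hi
  rw [this, hd.res.pow_fix i hi.2]
  rfl

lemma HData.P0_inv (hd : HData p F A P x a u z g) {α : MulAut ↥P} (hα : α ∈ F.autGroup P)
    {y : ↥P} (hy : (y : Ω) ∈ P0 P u g) : ((α y : ↥P) : Ω) ∈ P0 P u g := by
  rw [coe_mem_P0] at hy ⊢
  exact hd.res.fix_inv α hα y hy.1 hy.2

lemma HData.z_ne_one (hd : HData p F A P x a u z g) : (z : Ω) ≠ 1 := by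
  intro h
  apply hd.ctx.hz1
  exact Subtype.ext h

lemma HData.z_pow (hd : HData p F A P x a u z g) : (z : Ω) ^ p = 1 := by
  have := congrArg Subtype.val hd.ctx.hzp
  rwa [Subgroup.coe_pow] at this

lemma HData.orderOf_z (hd : HData p F A P x a u z g) : orderOf (z : Ω) = p :=
  orderOf_eq_prime hd.z_pow hd.z_ne_one

/-- A central commutator of `S` is a power of `z`. -/
theorem HData.mem_zpowers (hd : HData p F A P x a u z g) (hS : IsPGroup p S) {w : ↥S}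
    (hw : w ∈ commutator ↥S) (hwZ : (w : Ω) ∈ ZS S) : (w : Ω) ∈ Subgroup.zpowers (z : Ω) := by
  have hs := hd.hs
  haveI := hd.finite
  have hxS : x ∈ S := hs.hPS hs.hxP
  have hxA₁ : ∀ b ∈ A, x⁻¹ * b * x ∈ A := fun b hb => hs.setup.conj_mem' hS hxS hb
  obtain ⟨a', ha'⟩ := hs.setup.commutator_mem_range hS hxS hs.hxA hxA₁ hw
  rw [commHom_apply] at ha'
  -- `a'` normalizes `P`
  have hconj : (a' : Ω) * x * (a' : Ω)⁻¹ = x * (w : Ω) := by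
    rw [← ha']; group
  have hcent : ∀ w₀ ∈ ZS S, (a' : Ω) * w₀ * (a' : Ω)⁻¹ = w₀ := by
    intro w₀ hw₀
    rw [CenterIdx.mem_ZS] at hw₀
    rw [hw₀.2 a' (hs.setup.hAS a'.2), mul_inv_cancel_right]
  have hN' : (a' : Ω) ∈ Subgroup.normalizer (P : Set Ω) := by
    apply mem_normalizer_of_conj_mem_of_finite
    intro y hy
    obtain ⟨i, w₀, hw₀, rfl⟩ := hs.exists_pow_mul hS hy
    have h1 : (a' : Ω) * (x ^ i * w₀) * (a' : Ω)⁻¹ =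
        ((a' : Ω) * x * (a' : Ω)⁻¹) ^ i * ((a' : Ω) * w₀ * (a' : Ω)⁻¹) := by
      rw [conj_pow]; group
    rw [h1, hconj, hcent w₀ hw₀]
    exact P.mul_mem (P.pow_mem (P.mul_mem hs.hxP (hs.hZP hwZ)) i) (hs.hZP hw₀)
  have hc : conjAutHom P ⟨(a' : Ω), hN'⟩ ∈ Subgroup.zpowers u := by
    rw [← hd.hT]
    exact Fusion.conjAutHom_mem_autInducedBy P ⟨(a' : Ω), hN'⟩ (hs.setup.hAS a'.2)
  obtain ⟨k, hk⟩ := mem_powers_iff_mem_zpowers.mpr hc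
  have hk' : u ^ k = conjAutHom P ⟨(a' : Ω), hN'⟩ := hk
  letI : CommGroup ↥P := { (inferInstance : Group ↥P) with mul_comm := hd.ctx.hab }
  have h2 : (u ^ k) ⟨x, hs.hxP⟩ = ⟨x, hs.hxP⟩ * (Transv.cm u ⟨x, hs.hxP⟩) ^ k := by
    apply Transv.pow_apply_of_fix
    have : Transv.cm u ⟨x, hs.hxP⟩ = z := by
      apply Subtype.ext
      rw [Transv.cm_apply, hd.hz]
      show x⁻¹ * ((u ⟨x, hs.hxP⟩ : ↥P) : Ω) = _
      rw [hd.hu]
      group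
    rw [this]
    exact hd.ctx.huz
  have h3 : Transv.cm u ⟨x, hs.hxP⟩ = z := by
    apply Subtype.ext
    rw [Transv.cm_apply, hd.hz]
    show x⁻¹ * ((u ⟨x, hs.hxP⟩ : ↥P) : Ω) = _
    rw [hd.hu]
    group
  rw [h3, hk'] at h2
  have h4 := congrArg Subtype.val h2
  rw [conjAutHom_apply] at h4
  have h5 : (a' : Ω) * x * (a' : Ω)⁻¹ = x * (z : Ω) ^ k := by
    simpa using h4
  rw [hconj] at h5
  have h6 : (w : Ω) = (z : Ω) ^ k := mul_left_cancel h5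
  rw [h6]
  exact Subgroup.pow_mem _ (Subgroup.mem_zpowers _) k

/-- The inverting automorphism of the centre. -/
theorem HData.exists_gamma (hd : HData p F A P x a u z g) :
    ∃ γ ∈ F.autGroup (ZS S), (∀ y : ↥(ZS S), (y : Ω) ∈ P0 P u g → γ y = y) ∧
      ((γ ⟨(z : Ω), hd.hzZ⟩ : ↥(ZS S)) : Ω) = (z : Ω)⁻¹ ∧
      ∀ y : ↥(ZS S), ∃ i : ℕ, ((γ y : ↥(ZS S)) : Ω) = y * (z : Ω) ^ i := by
  haveI := hd.finite
  haveI : Finite ↥(ZS S) := Fusion.finite_of_le CenterIdx.ZS_le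
  obtain ⟨t, htA, htz, htu, htfix⟩ := hd.res.inverting
  have hinv : ∀ y : ↥P, (y : Ω) ∈ ZS S → ((t y : ↥P) : Ω) ∈ ZS S := by
    intro y hy
    rw [← hd.fix_iff] at hy ⊢
    have : u (t y) = (u * t) y := rfl
    rw [this, ← htu, MulAut.mul_apply, hy]
  obtain ⟨γ, hγ, hγy⟩ := Fusion.exists_restrict_aut F hd.hs.hPS hd.hs.hZP t htA hinv
  have hfixP0 : ∀ y : ↥(ZS S), (y : Ω) ∈ P0 P u g → γ y = y := by
    intro y hy
    apply Subtype.ext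
    rw [hγy]
    have h3 : ((⟨(y : Ω), hd.hs.hZP y.2⟩ : ↥P) : Ω) ∈ P0 P u g := hy
    rw [coe_mem_P0] at h3
    rw [htfix _ h3.1 h3.2]
  have hγz : ((γ ⟨(z : Ω), hd.hzZ⟩ : ↥(ZS S)) : Ω) = (z : Ω)⁻¹ := by
    rw [hγy]
    have : (⟨((⟨(z : Ω), hd.hzZ⟩ : ↥(ZS S)) : Ω), hd.hs.hZP hd.hzZ⟩ : ↥P) = z := rfl
    rw [this, htz]
    rfl
  refine ⟨γ, hγ, hfixP0, hγz, fun y => ?_⟩
  obtain ⟨i, hi⟩ := hd.exists_pow_mul_mem_P0 y.2
  have hzi : ((⟨(z : Ω), hd.hzZ⟩ : ↥(ZS S)) ^ i : ↥(ZS S)) = ⟨(z : Ω) ^ i, (ZS S).pow_mem hd.hzZ i⟩ :=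
    Subtype.ext (by rw [Subgroup.coe_pow])
  have h1 := hfixP0 (y * ⟨(z : Ω), hd.hzZ⟩ ^ i) (by
    rw [Subgroup.coe_mul, Subgroup.coe_pow]; exact hi)
  rw [map_mul, map_pow] at h1
  have h2 := congrArg Subtype.val h1
  rw [Subgroup.coe_mul, Subgroup.coe_pow, hγz, Subgroup.coe_mul, Subgroup.coe_pow] at h2
  refine ⟨2 * i, ?_⟩
  have h3 : ((γ y : ↥(ZS S)) : Ω) = (y : Ω) * (z : Ω) ^ i * (((z : Ω)⁻¹) ^ i)⁻¹ := by
    rw [← h2, mul_inv_cancel_right]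
  rw [h3, inv_pow, inv_inv, mul_assoc, ← pow_add, two_mul]

end Cfsg.Agent.Lead.AbIdx
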