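import Mathlib
import Cfsg.Agent.Lead.TransvF

set_option autoImplicit false

/-! Automorphisms of an abelian group inverting a subgroup of order `p` and acting trivially
modulo it, inside a group of automorphisms without elements of order `p`. -/

namespace Cfsg.Agent.Lead.AbIdx

open Cfsg.Agent.Lead.Transv

/-- `γ ∈ Γ` inverts `z₀` and acts trivially modulo `⟨z₀⟩`. -/
structure IsGam {Z : Type*} [Group Z] (Γ : Subgroup (MulAut Z)) (z₀ : Z) (γ : MulAut Z) : Prop where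
  mem : γ ∈ Γ
  inv : γ z₀ = z₀⁻¹
  cm : ∀ y, y⁻¹ * γ y ∈ Subgroup.zpowers z₀

section

variable {Z : Type*} [CommGroup Z] {p : ℕ} [hp : Fact p.Prime]

lemma pow_eq_one_of_mem_zpowers {z₀ d : Z} (hz₀ : z₀ ^ p = 1) (hd : d ∈ Subgroup.zpowers z₀) :
    d ^ p = 1 := by
  obtain ⟨k, rfl⟩ := Subgroup.mem_zpowers_iff.mp hd
  rw [← zpow_natCast, ← zpow_mul, mul_comm, zpow_mul, zpow_natCast, hz₀, one_zpow]

lemma inv_of_mem_zpowers {z₀ d : Z} {γ : MulAut Z} (hγ : γ z₀ = z₀⁻¹)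
    (hd : d ∈ Subgroup.zpowers z₀) : γ d = d⁻¹ := by
  obtain ⟨k, rfl⟩ := Subgroup.mem_zpowers_iff.mp hd
  rw [map_zpow, hγ, inv_zpow]

lemma fix_of_mem_zpowers {z₀ d : Z} {γ : MulAut Z} (hγ : γ z₀ = z₀)
    (hd : d ∈ Subgroup.zpowers z₀) : γ d = d := by
  obtain ⟨k, rfl⟩ := Subgroup.mem_zpowers_iff.mp hd
  rw [map_zpow, hγ]

/-- Two such automorphisms have the same fixed points. -/
theorem IsGam.fix_imp_aux (hp2 : p ≠ 2) {Γ : Subgroup (MulAut Z)}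
    (hΓ : ∀ c ∈ Γ, c ^ p = 1 → c = 1) {z₀ : Z} (hz₀ : z₀ ^ p = 1) {γ γ' : MulAut Z}
    (h : IsGam Γ z₀ γ) (h' : IsGam Γ z₀ γ') {y : Z} (hy : γ y = y) : γ' y = y := by
  have hcmγ : ∀ y, Transv.cm γ y ∈ Subgroup.zpowers z₀ := h.cm
  have hcmγ' : ∀ y, Transv.cm γ' y ∈ Subgroup.zpowers z₀ := h'.cm
  have hcminv : ∀ δ : MulAut Z, (∀ y, Transv.cm δ y ∈ Subgroup.zpowers z₀) →
      ∀ y, Transv.cm δ⁻¹ y ∈ Subgroup.zpowers z₀ := by
    intro δ hδ y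
    have : Transv.cm δ⁻¹ y = (Transv.cm δ (δ⁻¹ y))⁻¹ := by
      simp only [cm_apply, MulAut.apply_inv_self, mul_inv_rev, inv_inv]
    rw [this]
    exact Subgroup.inv_mem _ (hδ _)
  have hcmmul : ∀ δ ε : MulAut Z, (∀ y, Transv.cm δ y ∈ Subgroup.zpowers z₀) →
      (∀ y, Transv.cm ε y ∈ Subgroup.zpowers z₀) → ∀ y, Transv.cm (δ * ε) y ∈ Subgroup.zpowers z₀ := by
    intro δ ε hδ hε y
    rw [cm_mul]
    exact Subgroup.mul_mem _ (hε y) (hδ _)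
  have hc_cm : ∀ y, Transv.cm (γ * γ' * γ⁻¹ * γ'⁻¹) y ∈ Subgroup.zpowers z₀ :=
    hcmmul _ _ (hcmmul _ _ (hcmmul _ _ hcmγ hcmγ') (hcminv _ hcmγ)) (hcminv _ hcmγ')
  have hinvz : ∀ δ : MulAut Z, δ z₀ = z₀⁻¹ → δ⁻¹ z₀ = z₀⁻¹ := by
    intro δ hδ
    have h1 : δ z₀⁻¹ = z₀ := by rw [map_inv, hδ, inv_inv]
    rw [← h1, MulAut.inv_apply_self, h1]
  have hc_z : (γ * γ' * γ⁻¹ * γ'⁻¹) z₀ = z₀ := by
    simp only [MulAut.mul_apply]
    rw [hinvz γ' h'.inv, map_inv, hinvz γ h.inv, inv_inv, h'.inv, map_inv, h.inv, inv_inv]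
  have hc_mem : γ * γ' * γ⁻¹ * γ'⁻¹ ∈ Γ :=
    Γ.mul_mem (Γ.mul_mem (Γ.mul_mem h.mem h'.mem) (Γ.inv_mem h.mem)) (Γ.inv_mem h'.mem)
  have hc_pow : (γ * γ' * γ⁻¹ * γ'⁻¹) ^ p = 1 := by
    ext w
    rw [pow_apply_of_fix _ w (fix_of_mem_zpowers hc_z (hc_cm w)) p,
      pow_eq_one_of_mem_zpowers hz₀ (hc_cm w), mul_one]
    rfl
  have hc1 := hΓ _ hc_mem hc_pow
  have hcomm : γ * γ' = γ' * γ := by
    have h1 : γ * γ' * γ⁻¹ * γ'⁻¹ * γ' * γ = γ' * γ := by rw [hc1, one_mul]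
    rw [← h1]; group
  have h1 : γ (γ' y) = γ' y := by
    have : γ (γ' y) = (γ * γ') y := rfl
    rw [this, hcomm, MulAut.mul_apply, hy]
  rw [apply_eq_mul_cm γ' y, map_mul, hy, inv_of_mem_zpowers h.inv (hcmγ' y)] at h1
  have h2 : (Transv.cm γ' y)⁻¹ = Transv.cm γ' y := mul_left_cancel h1
  have h3 : (Transv.cm γ' y) ^ 2 = 1 := by
    rw [pow_two]
    nth_rewrite 1 [← h2]
    exact inv_mul_cancel _
  have h4 : (Transv.cm γ' y) ^ p = 1 := pow_eq_one_of_mem_zpowers hz₀ (hcmγ' y)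
  have h5 : orderOf (Transv.cm γ' y) ∣ Nat.gcd 2 p :=
    Nat.dvd_gcd (orderOf_dvd_of_pow_eq_one h3) (orderOf_dvd_of_pow_eq_one h4)
  have h6 : Nat.gcd 2 p = 1 := by
    rw [Nat.gcd_comm]
    exact (Nat.Prime.coprime_iff_not_dvd hp.out).mpr (fun hd =>
      hp2 ((Nat.prime_dvd_prime_iff_eq hp.out Nat.prime_two).mp hd))
  rw [h6, Nat.dvd_one, orderOf_eq_one_iff] at h5
  rw [apply_eq_mul_cm γ' y, h5, mul_one]

end

/-- Version for a group that is commutative by hypothesis. -/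
theorem IsGam.fix_imp {Z : Type*} [Group Z] (hab : ∀ a b : Z, a * b = b * a) {p : ℕ}
    [hp : Fact p.Prime] (hp2 : p ≠ 2) {Γ : Subgroup (MulAut Z)}
    (hΓ : ∀ c ∈ Γ, c ^ p = 1 → c = 1) {z₀ : Z} (hz₀ : z₀ ^ p = 1) {γ γ' : MulAut Z}
    (h : IsGam Γ z₀ γ) (h' : IsGam Γ z₀ γ') {y : Z} (hy : γ y = y) : γ' y = y := by
  letI : CommGroup Z := { (inferInstance : Group Z) with mul_comm := hab }
  exact IsGam.fix_imp_aux hp2 hΓ hz₀ h h' hy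

/-- Change of generator. -/
lemma IsGam.of_zpowers {Z : Type*} [Group Z] {Γ : Subgroup (MulAut Z)} {z₀ z₁ : Z} {γ : MulAut Z}
    (h : IsGam Γ z₀ γ) (h01 : z₁ ∈ Subgroup.zpowers z₀) (h10 : z₀ ∈ Subgroup.zpowers z₁) :
    IsGam Γ z₁ γ where
  mem := h.mem
  inv := by
    obtain ⟨k, rfl⟩ := Subgroup.mem_zpowers_iff.mp h01
    rw [map_zpow, h.inv, inv_zpow]
  cm := by
    intro y
    have : Subgroup.zpowers z₀ ≤ Subgroup.zpowers z₁ := by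
      rw [Subgroup.zpowers_le]; exact h10
    exact this (h.cm y)

/-- Conjugation by an automorphism preserving `⟨z₀⟩`. -/
lemma IsGam.conj {Z : Type*} [Group Z] [Finite Z] {p : ℕ} [hp : Fact p.Prime]
    {Γ : Subgroup (MulAut Z)} {z₀ : Z} {γ : MulAut Z}
    (h : IsGam Γ z₀ γ) (hz₀ : z₀ ^ p = 1) (hz1 : z₀ ≠ 1) {b : MulAut Z} (hb : b ∈ Γ)
    (hbz : b z₀ ∈ Subgroup.zpowers z₀) : IsGam Γ z₀ (b * γ * b⁻¹) := by
  -- `b⁻¹ z₀` is a power of `z₀`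
  have hbz1 : b z₀ ≠ 1 := by
    intro h1
    apply hz1
    have := congrArg (b⁻¹ : MulAut Z) h1
    simpa using this
  have hoz : orderOf z₀ = p := orderOf_eq_prime hz₀ hz1
  have hbp : (b z₀) ^ p = 1 := by rw [← map_pow, hz₀, map_one]
  have hob : orderOf (b z₀) = p := orderOf_eq_prime hbp hbz1
  have heq : Subgroup.zpowers (b z₀) = Subgroup.zpowers z₀ := by
    apply Subgroup.eq_of_le_of_card_ge
    · rw [Subgroup.zpowers_le]; exact hbz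
    · rw [Nat.card_zpowers, Nat.card_zpowers, hoz, hob]
  have hz₀mem : z₀ ∈ Subgroup.zpowers (b z₀) := by rw [heq]; exact Subgroup.mem_zpowers z₀
  obtain ⟨m, hm⟩ := Subgroup.mem_zpowers_iff.mp hz₀mem
  have hbinv : b⁻¹ z₀ = z₀ ^ m := by
    have h1 : b (z₀ ^ m) = z₀ := by rw [map_zpow, hm]
    calc b⁻¹ z₀ = b⁻¹ (b (z₀ ^ m)) := by rw [h1]
      _ = z₀ ^ m := MulAut.inv_apply_self _ _ _
  have hbmap : ∀ d ∈ Subgroup.zpowers z₀, b d ∈ Subgroup.zpowers z₀ := by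
    intro d hd
    obtain ⟨k, rfl⟩ := Subgroup.mem_zpowers_iff.mp hd
    rw [map_zpow]
    exact Subgroup.zpow_mem _ hbz k
  refine ⟨Γ.mul_mem (Γ.mul_mem hb h.mem) (Γ.inv_mem hb), ?_, fun y => ?_⟩
  · simp only [MulAut.mul_apply]
    rw [hbinv, map_zpow, h.inv, inv_zpow, map_inv, map_zpow, hm]
  · have : y⁻¹ * (b * γ * b⁻¹) y = b ((b⁻¹ y)⁻¹ * γ (b⁻¹ y)) := by
      simp only [MulAut.mul_apply, map_mul, map_inv, MulAut.apply_inv_self]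
    rw [this]
    exact hbmap _ (h.cm _)

end Cfsg.Agent.Lead.AbIdx
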