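import Mathlib
import Cfsg.Agent.Lead.AbIdxG
import Cfsg.Agent.Lead.AbIdxH

set_option autoImplicit false

/-! The complement `P₀` of `⟨z⟩` in the centre is canonical and invariant. -/

namespace Cfsg.Agent.Lead.AbIdx

open Cfsg Cfsg.FusionSystem
open Cfsg.Agent.Lead.CenterIdx (ZS P0 mem_P0 coe_mem_P0 fixSub)
open scoped commutatorElement

variable {Ω : Type*} [Group Ω] {S A : Subgroup Ω}
variable [Finite S] {p : ℕ} [hp : Fact p.Prime] {F : FusionSystem S}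

/-- `Aut_F(Z(S))` has no elements of order `p`. -/
theorem autGroup_ZS_no_p (hS : IsPGroup p S) (F : FusionSystem S) (hF : F.IsSaturated p)
    {c : MulAut ↥(ZS S)} (hc : c ∈ F.autGroup (ZS S)) (hcp : c ^ p = 1) : c = 1 := by
  haveI : Finite ↥(ZS S) := Fusion.finite_of_le CenterIdx.ZS_le
  have hSN : S ≤ Subgroup.normalizer ((ZS S : Subgroup Ω) : Set Ω) := by
    intro s hs
    apply mem_normalizer_of_conj_mem_of_finite
    intro y hy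
    have hy' := hy
    rw [CenterIdx.mem_ZS] at hy'
    rw [hy'.2 s hs, mul_inv_cancel_right]
    exact hy
  have hfn : F.IsFullyNormalized (ZS S) := by
    refine ⟨CenterIdx.ZS_le, fun Q _ => ?_⟩
    have h1 : normalizerIn S (ZS S) = S := by
      unfold normalizerIn
      exact inf_eq_left.mpr hSN
    rw [h1]
    exact Subgroup.card_le_of_le inf_le_left
  obtain ⟨-, R, hR⟩ := (Fusion.fullyCentralized_fullyAutomized_of_fullyNormalized p hS F hF hfn).2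
  have hbot : autInducedBy S (ZS S) = ⊥ := by
    rw [eq_bot_iff]
    intro α hα
    rw [mem_autInducedBy_iff] at hα
    obtain ⟨s, hs, hα⟩ := hα
    rw [Subgroup.mem_bot]
    ext y
    rw [hα y]
    have hy := y.2
    rw [CenterIdx.mem_ZS] at hy
    show s * (y : Ω) * s⁻¹ = y
    rw [hy.2 s hs, mul_inv_cancel_right]
  rw [hbot, Subgroup.bot_subgroupOf] at hR
  have hnd : ¬ p ∣ Nat.card ↥(F.autGroup (ZS S)) := by
    have h1 := R.not_dvd_index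
    rw [hR, Subgroup.index_bot] at h1
    exact h1
  have hcop : Nat.Coprime p (Nat.card ↥(F.autGroup (ZS S))) :=
    (Nat.Prime.coprime_iff_not_dvd hp.out).mpr hnd
  have h1 : orderOf (⟨c, hc⟩ : ↥(F.autGroup (ZS S))) ∣ p := by
    apply orderOf_dvd_of_pow_eq_one
    exact Subtype.ext hcp
  have h2 : orderOf (⟨c, hc⟩ : ↥(F.autGroup (ZS S))) ∣ Nat.card ↥(F.autGroup (ZS S)) :=
    orderOf_dvd_natCard _
  have h3 := Nat.Coprime.eq_one_of_dvd (hcop.coprime_dvd_left h1) h2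
  rw [orderOf_eq_one_iff] at h3
  exact congrArg Subtype.val h3

variable {P : Subgroup Ω} {x a : Ω} {u : MulAut ↥P} {z : ↥P} {g : MulAut ↥P}

/-- The inverting automorphism as an `IsGam`, with its fixed points. -/
theorem HData.exists_isGam (hd : HData p F A P x a u z g) (hp2 : p ≠ 2) :
    ∃ γ, IsGam (F.autGroup (ZS S)) (⟨(z : Ω), hd.hzZ⟩ : ↥(ZS S)) γ ∧
      ∀ y : ↥(ZS S), γ y = y ↔ (y : Ω) ∈ P0 P u g := by
  obtain ⟨γ, hγ, hfix, hinv, hcm⟩ := hd.exists_gamma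
  refine ⟨γ, ⟨hγ, Subtype.ext hinv, fun y => ?_⟩, fun y => ⟨fun hy => ?_, hfix y⟩⟩
  · obtain ⟨i, hi⟩ := hcm y
    have : y⁻¹ * γ y = (⟨(z : Ω), hd.hzZ⟩ : ↥(ZS S)) ^ i := by
      apply Subtype.ext
      rw [Subgroup.coe_mul, hi, Subgroup.coe_inv, Subgroup.coe_pow, inv_mul_cancel_left]
    rw [this]
    exact Subgroup.pow_mem _ (Subgroup.mem_zpowers _) i
  · obtain ⟨i, hi⟩ := hd.exists_pow_mul_mem_P0 y.2
    have h1 := hfix (y * ⟨(z : Ω), hd.hzZ⟩ ^ i) (by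
      rw [Subgroup.coe_mul, Subgroup.coe_pow]; exact hi)
    rw [map_mul, map_pow, hy] at h1
    have h2 : (γ ⟨(z : Ω), hd.hzZ⟩) ^ i = (⟨(z : Ω), hd.hzZ⟩ : ↥(ZS S)) ^ i := mul_left_cancel h1
    have h3 := congrArg Subtype.val h2
    rw [Subgroup.coe_pow, hinv, Subgroup.coe_pow, inv_pow] at h3
    -- `(z^i)⁻¹ = z^i`, so `z^i = 1`
    have h4 : ((z : Ω) ^ i) ^ 2 = 1 := by
      rw [pow_two]
      nth_rewrite 1 [← h3]
      exact inv_mul_cancel _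
    have h5 : ((z : Ω) ^ i) ^ p = 1 := by
      rw [pow_right_comm, hd.z_pow, one_pow]
    have h6 : orderOf ((z : Ω) ^ i) ∣ Nat.gcd 2 p :=
      Nat.dvd_gcd (orderOf_dvd_of_pow_eq_one h4) (orderOf_dvd_of_pow_eq_one h5)
    have h7 : Nat.gcd 2 p = 1 := by
      rw [Nat.gcd_comm]
      exact (Nat.Prime.coprime_iff_not_dvd hp.out).mpr (fun hdv =>
        hp2 ((Nat.prime_dvd_prime_iff_eq hp.out Nat.prime_two).mp hdv))
    rw [h7, Nat.dvd_one, orderOf_eq_one_iff] at h6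
    rw [h6, mul_one] at hi
    exact hi

lemma ZS_comm (a b : ↥(ZS S)) : a * b = b * a := by
  apply Subtype.ext
  have hb := b.2
  rw [CenterIdx.mem_ZS] at hb
  exact hb.2 a (CenterIdx.ZS_le a.2)

lemma HData.zZ_pow (hd : HData p F A P x a u z g) :
    (⟨(z : Ω), hd.hzZ⟩ : ↥(ZS S)) ^ p = 1 :=
  Subtype.ext (by rw [Subgroup.coe_pow]; exact hd.z_pow)

lemma HData.zZ_ne_one (hd : HData p F A P x a u z g) :
    (⟨(z : Ω), hd.hzZ⟩ : ↥(ZS S)) ≠ 1 := by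
  intro h
  exact hd.z_ne_one (congrArg Subtype.val h)

/-- Invariance of `P₀` under automorphisms preserving the centre and `⟨z⟩`. -/
theorem HData.P0_invariant (hd : HData p F A P x a u z g) (hS : IsPGroup p S)
    (hF : F.IsSaturated p) (hp2 : p ≠ 2) {R : Subgroup Ω} (hRS : R ≤ S) (hZR : ZS S ≤ R)
    {β : MulAut ↥R} (hβ : β ∈ F.autGroup R)
    (hβZ : ∀ y : ↥R, (y : Ω) ∈ ZS S → ((β y : ↥R) : Ω) ∈ ZS S)
    (hβz : ((β ⟨(z : Ω), hZR hd.hzZ⟩ : ↥R) : Ω) ∈ Subgroup.zpowers (z : Ω))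
    {y : ↥R} (hy : (y : Ω) ∈ P0 P u g) : ((β y : ↥R) : Ω) ∈ P0 P u g := by
  haveI : Finite ↥(ZS S) := Fusion.finite_of_le CenterIdx.ZS_le
  obtain ⟨γ, hγ, hγfix⟩ := hd.exists_isGam hp2
  obtain ⟨b, hb, hby⟩ := Fusion.exists_restrict_aut F hRS hZR β hβ hβZ
  have hbz : b ⟨(z : Ω), hd.hzZ⟩ ∈ Subgroup.zpowers (⟨(z : Ω), hd.hzZ⟩ : ↥(ZS S)) := by
    obtain ⟨k, hk⟩ := Subgroup.mem_zpowers_iff.mp hβz
    rw [Subgroup.mem_zpowers_iff]
    refine ⟨k, Subtype.ext ?_⟩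
    rw [Subgroup.coe_zpow, hby]
    exact hk
  have hγ' := hγ.conj hd.zZ_pow hd.zZ_ne_one hb hbz
  have hyZ : (y : Ω) ∈ ZS S := hd.P0_le_ZS hy
  have h1 : γ ⟨(y : Ω), hyZ⟩ = ⟨(y : Ω), hyZ⟩ := (hγfix _).mpr hy
  have h2 : (b * γ * b⁻¹) (b ⟨(y : Ω), hyZ⟩) = b ⟨(y : Ω), hyZ⟩ := by
    simp only [MulAut.mul_apply, MulAut.inv_apply_self]
    rw [h1]
  have h3 := IsGam.fix_imp ZS_comm hp2 (fun c hc hcp => autGroup_ZS_no_p hS F hF hc hcp)
    hd.zZ_pow hγ' hγ h2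
  have h4 := (hγfix _).mp h3
  rw [hby] at h4
  exact h4

/-- The complement is the same for two abelian essential subgroups. -/
theorem HData.P0_le_P0 (hd : HData p F A P x a u z g) (hS : IsPGroup p S)
    (hF : F.IsSaturated p) (hp2 : p ≠ 2) {P' : Subgroup Ω} {x' a' : Ω} {u' : MulAut ↥P'}
    {z' : ↥P'} {g' : MulAut ↥P'} (hd' : HData p F A P' x' a' u' z' g') :
    P0 P u g ≤ P0 P' u' g' := by
  obtain ⟨γ, hγ, hγfix⟩ := hd.exists_isGam hp2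
  obtain ⟨γ', hγ', hγfix'⟩ := hd'.exists_isGam hp2
  -- the two generators generate the same subgroup
  have hcomm : ∀ (hd₁ : HData p F A P x a u z g), (⟨(z : Ω), CenterIdx.ZS_le hd₁.hzZ⟩ : ↥S) ∈
      commutator ↥S := by
    intro hd₁
    have hxS : x ∈ S := hd₁.hs.hPS hd₁.hs.hxP
    have haS : a ∈ S := hd₁.hs.setup.hAS hd₁.haA
    have : (⟨(z : Ω), CenterIdx.ZS_le hd₁.hzZ⟩ : ↥S) = ⁅(⟨x, hxS⟩ : ↥S)⁻¹, ⟨a, haS⟩⁆ := by
      apply Subtype.ext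
      rw [commutatorElement_def]
      show (z : Ω) = _
      rw [hd₁.hz]
      simp
    rw [this, commutator_def]
    exact Subgroup.commutator_mem_commutator (Subgroup.mem_top _) (Subgroup.mem_top _)
  have hcomm' : (⟨(z' : Ω), CenterIdx.ZS_le hd'.hzZ⟩ : ↥S) ∈ commutator ↥S := by
    have hxS : x' ∈ S := hd'.hs.hPS hd'.hs.hxP
    have haS : a' ∈ S := hd'.hs.setup.hAS hd'.haA
    have : (⟨(z' : Ω), CenterIdx.ZS_le hd'.hzZ⟩ : ↥S) = ⁅(⟨x', hxS⟩ : ↥S)⁻¹, ⟨a', haS⟩⁆ := by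
      apply Subtype.ext
      rw [commutatorElement_def]
      show (z' : Ω) = _
      rw [hd'.hz]
      simp
    rw [this, commutator_def]
    exact Subgroup.commutator_mem_commutator (Subgroup.mem_top _) (Subgroup.mem_top _)
  have h1 : (z' : Ω) ∈ Subgroup.zpowers (z : Ω) := hd.mem_zpowers hS hcomm' hd'.hzZ
  have h2 : (z : Ω) ∈ Subgroup.zpowers (z' : Ω) := hd'.mem_zpowers hS (hcomm hd) hd.hzZ
  have h1' : (⟨(z' : Ω), hd'.hzZ⟩ : ↥(ZS S)) ∈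
      Subgroup.zpowers (⟨(z : Ω), hd.hzZ⟩ : ↥(ZS S)) := by
    obtain ⟨k, hk⟩ := Subgroup.mem_zpowers_iff.mp h1
    rw [Subgroup.mem_zpowers_iff]
    exact ⟨k, Subtype.ext (by rw [Subgroup.coe_zpow]; exact hk)⟩
  have h2' : (⟨(z : Ω), hd.hzZ⟩ : ↥(ZS S)) ∈
      Subgroup.zpowers (⟨(z' : Ω), hd'.hzZ⟩ : ↥(ZS S)) := by
    obtain ⟨k, hk⟩ := Subgroup.mem_zpowers_iff.mp h2
    rw [Subgroup.mem_zpowers_iff]
    exact ⟨k, Subtype.ext (by rw [Subgroup.coe_zpow]; exact hk)⟩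
  have hγ'' := hγ'.of_zpowers h2' h1'
  intro y hy
  have hyZ : y ∈ ZS S := hd.P0_le_ZS hy
  have h3 : γ ⟨y, hyZ⟩ = ⟨y, hyZ⟩ := (hγfix _).mpr hy
  have h4 := IsGam.fix_imp ZS_comm hp2 (fun c hc hcp => autGroup_ZS_no_p hS F hF hc hcp)
    hd.zZ_pow hγ hγ'' h3
  exact (hγfix' _).mp h4

end Cfsg.Agent.Lead.AbIdx
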