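import Mathlib
import Cfsg.Agent.Lead.AbIdxI
import Cfsg.Agent.Lead.CenterIdxC
import Cfsg.Agent.Helper5.PGroupCenter

set_option autoImplicit false

/-! Essential subgroups when `A` is not essential; the complement `P₀` is trivial. -/

namespace Cfsg.Agent.Lead.AbIdx

open Cfsg Cfsg.FusionSystem
open Cfsg.Agent.Lead.CenterIdx (ZS P0 mem_P0 coe_mem_P0 fixSub)
open scoped commutatorElement

variable {Ω : Type*} [Group Ω] {S A : Subgroup Ω}
variable [Finite S] {p : ℕ} [hp : Fact p.Prime] {F : FusionSystem S}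

omit [Finite S] hp in
/-- Basic facts on an essential subgroup when `A` is not essential. -/
lemma essential_facts (h : Setup p S A) (F : FusionSystem S) (hAe : ¬ F.IsEssential p A)
    {R : Subgroup Ω} (hR : F.IsEssential p R) : R ≤ S ∧ ZS S ≤ R ∧ ∃ x ∈ R, x ∉ A := by
  have hRS := hR.1.1
  have hcen : centralizerIn S R ≤ R := hR.1.2 R (Fusion.isConj_refl F hRS)
  refine ⟨hRS, ?_, ?_⟩
  · intro y hy
    apply hcen
    rw [CenterIdx.mem_ZS] at hy
    exact ⟨hy.1, Subgroup.mem_centralizer_iff.mpr (fun r hr => hy.2 r (hRS hr))⟩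
  · by_contra hcon
    push Not at hcon
    have hRA : R ≤ A := hcon
    have hAR : A ≤ R := by
      intro a ha
      apply hcen
      exact ⟨h.hAS ha, Subgroup.mem_centralizer_iff.mpr (fun r hr => h.hab r (hRA hr) a ha)⟩
    have : R = A := le_antisymm hRA hAR
    rw [this] at hR
    exact hAe hR

/-- The centre of `S` is preserved by automorphisms of a nonabelian subgroup containing it and
not inside `A`. -/
lemma center_invariant (h : Setup p S A) (hS : IsPGroup p S) {R : Subgroup Ω} (hRS : R ≤ S)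
    (hna : ∃ a ∈ R, ∃ b ∈ R, a * b ≠ b * a) {x : Ω} (hxR : x ∈ R) (hxA : x ∉ A)
    (β : MulAut ↥R) {y : ↥R} (hy : (y : Ω) ∈ ZS S) : ((β y : ↥R) : Ω) ∈ ZS S := by
  apply h.mem_ZS_of_central hS hRS hna hxR hxA (β y).2
  intro w hw
  rw [CenterIdx.mem_ZS] at hy
  have h1 : (β⁻¹ ⟨w, hw⟩ : ↥R) * y = y * (β⁻¹ ⟨w, hw⟩ : ↥R) :=
    Subtype.ext (hy.2 _ (hRS (β⁻¹ ⟨w, hw⟩ : ↥R).2))
  have h2 := congrArg β h1
  rw [map_mul, map_mul, MulAut.apply_inv_self] at h2
  exact congrArg Subtype.val h2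

/-- In a cyclic group of prime order generated by `z`, every nontrivial element generates. -/
lemma exists_pow_eq' {G : Type*} [Group G] [Finite G] {z y w : G} (hzp : z ^ p = 1)
    (hy : y ∈ Subgroup.zpowers z) (hy1 : y ≠ 1) (hw : w ∈ Subgroup.zpowers z) :
    ∃ i : ℕ, y ^ i = w := by
  have hz1 : z ≠ 1 := by
    rintro rfl
    rw [Subgroup.zpowers_one_eq_bot, Subgroup.mem_bot] at hy
    exact hy1 hy
  have hoz : orderOf z = p := orderOf_eq_prime hzp hz1
  have hyp : y ^ p = 1 := by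
    obtain ⟨k, rfl⟩ := Subgroup.mem_zpowers_iff.mp hy
    rw [← zpow_natCast, ← zpow_mul, mul_comm, zpow_mul, zpow_natCast, hzp, one_zpow]
  have hoy : orderOf y = p := orderOf_eq_prime hyp hy1
  have hle : Subgroup.zpowers y ≤ Subgroup.zpowers z := by
    rw [Subgroup.zpowers_le]; exact hy
  have heq : Subgroup.zpowers y = Subgroup.zpowers z :=
    Subgroup.eq_of_le_of_card_ge hle (by rw [Nat.card_zpowers, Nat.card_zpowers, hoy, hoz])
  rw [← heq] at hw
  have := mem_powers_iff_mem_zpowers.mpr hw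
  obtain ⟨i, hi⟩ := this
  exact ⟨i, hi⟩

lemma commutator_aut_mem {G : Type*} [Group G] (β : MulAut G) {w : G} (hw : w ∈ commutator G) :
    β w ∈ commutator G := by
  have h1 := (inferInstance : (commutator G).Characteristic).fixed β⁻¹
  rw [← h1, Subgroup.mem_comap]
  show β⁻¹ (β w) ∈ commutator G
  rw [MulAut.inv_apply_self]
  exact hw

omit [Finite S] in
lemma commutator_incl {R : Subgroup Ω} (hRS : R ≤ S) {v : ↥R} (hv : v ∈ commutator ↥R) :
    (⟨(v : Ω), hRS v.2⟩ : ↥S) ∈ commutator ↥S := by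
  have h1 : (commutator ↥R).map (Subgroup.inclusion hRS) ≤ commutator ↥S := by
    rw [commutator_def, commutator_def, Subgroup.map_commutator]
    exact Subgroup.commutator_mono le_top le_top
  exact h1 (Subgroup.mem_map_of_mem _ hv)

variable {P : Subgroup Ω} {x a : Ω} {u : MulAut ↥P} {z : ↥P} {g : MulAut ↥P}

lemma HData.z_mem_commutator (hd : HData p F A P x a u z g) :
    (⟨(z : Ω), CenterIdx.ZS_le hd.hzZ⟩ : ↥S) ∈ commutator ↥S := by
  have hxS : x ∈ S := hd.hs.hPS hd.hs.hxP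
  have haS : a ∈ S := hd.hs.setup.hAS hd.haA
  have : (⟨(z : Ω), CenterIdx.ZS_le hd.hzZ⟩ : ↥S) = ⁅(⟨x, hxS⟩ : ↥S)⁻¹, ⟨a, haS⟩⁆ := by
    apply Subtype.ext
    rw [commutatorElement_def]
    show (z : Ω) = _
    rw [hd.hz]
    simp
  rw [this, commutator_def]
  exact Subgroup.commutator_mem_commutator (Subgroup.mem_top _) (Subgroup.mem_top _)

/-- Automorphisms of `S` preserve `⟨z⟩`. -/
lemma HData.zpowers_invariant_top (hd : HData p F A P x a u z g) (hS : IsPGroup p S)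
    (β : MulAut ↥S) :
    ((β ⟨(z : Ω), CenterIdx.ZS_le hd.hzZ⟩ : ↥S) : Ω) ∈ Subgroup.zpowers (z : Ω) :=
  hd.mem_zpowers hS (commutator_aut_mem β hd.z_mem_commutator) (CenterIdx.aut_mem_ZS β hd.hzZ)

/-- Automorphisms of a nonabelian subgroup containing the centre and not inside `A` preserve
`⟨z⟩`. -/
lemma HData.zpowers_invariant (hd : HData p F A P x a u z g) (hS : IsPGroup p S)
    {R : Subgroup Ω} (hRS : R ≤ S) (hZR : ZS S ≤ R)
    (hna : ∃ a ∈ R, ∃ b ∈ R, a * b ≠ b * a) {x' : Ω} (hx'R : x' ∈ R) (hx'A : x' ∉ A)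
    (β : MulAut ↥R) :
    ((β ⟨(z : Ω), hZR hd.hzZ⟩ : ↥R) : Ω) ∈ Subgroup.zpowers (z : Ω) := by
  have h := hd.hs.setup
  haveI : Finite ↥R := Fusion.finite_of_le hRS
  have hRp : IsPGroup p ↥R := hS.to_le hRS
  have hQ1 : commutator ↥R ≠ ⊥ := by
    intro hbot
    obtain ⟨a₁, ha₁, b₁, hb₁, hne⟩ := hna
    apply hne
    have h1 : ⁅(⟨a₁, ha₁⟩ : ↥R), ⟨b₁, hb₁⟩⁆ ∈ commutator ↥R := by
      rw [commutator_def]
      exact Subgroup.commutator_mem_commutator (Subgroup.mem_top _) (Subgroup.mem_top _)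
    rw [hbot, Subgroup.mem_bot, commutatorElement_eq_one_iff_mul_comm] at h1
    exact congrArg Subtype.val h1
  obtain ⟨w, hwQ, hw1, hwc⟩ :=
    Cfsg.Agent.Helper5.exists_ne_one_mem_center_of_normal hRp (commutator ↥R) hQ1
  have hwZ : (w : Ω) ∈ ZS S :=
    h.mem_ZS_of_central hS hRS hna hx'R hx'A w.2 (fun r hr => congrArg Subtype.val (hwc ⟨r, hr⟩))
  have hwz : (w : Ω) ∈ Subgroup.zpowers (z : Ω) :=
    hd.mem_zpowers hS (commutator_incl hRS hwQ) hwZ
  have hβwZ : ((β w : ↥R) : Ω) ∈ ZS S := center_invariant h hS hRS hna hx'R hx'A β hwZ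
  have hβwz : ((β w : ↥R) : Ω) ∈ Subgroup.zpowers (z : Ω) :=
    hd.mem_zpowers hS (commutator_incl hRS (commutator_aut_mem β hwQ)) hβwZ
  -- `z` is a power of `w`
  have hwz' : w ∈ Subgroup.zpowers (⟨(z : Ω), hZR hd.hzZ⟩ : ↥R) := by
    obtain ⟨k, hk⟩ := Subgroup.mem_zpowers_iff.mp hwz
    rw [Subgroup.mem_zpowers_iff]
    exact ⟨k, Subtype.ext (by rw [Subgroup.coe_zpow]; exact hk)⟩
  have hzp' : (⟨(z : Ω), hZR hd.hzZ⟩ : ↥R) ^ p = 1 :=
    Subtype.ext (by rw [Subgroup.coe_pow]; exact hd.z_pow)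
  obtain ⟨i, hi⟩ := exists_pow_eq' hzp' hwz' hw1 (Subgroup.mem_zpowers _)
  rw [← hi, map_pow, Subgroup.coe_pow]
  exact Subgroup.pow_mem _ hβwz i

/-- The complement `P₀` is trivial when `O_p(F) = 1`. -/
theorem HData.P0_eq_bot (hd : HData p F A P x a u z g) (hS : IsPGroup p S)
    (hF : F.IsSaturated p) (hp2 : p ≠ 2) (hcore : F.core = ⊥) (hAe : ¬ F.IsEssential p A) :
    P0 P u g = ⊥ := by
  have h := hd.hs.setup
  apply CenterIdx.eq_bot_of_invariant hS F hF hcore _ (hd.P0_le_ZS.trans CenterIdx.ZS_le)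
  · intro β hβ y hy
    exact hd.P0_invariant hS hF hp2 le_rfl CenterIdx.ZS_le hβ
      (fun y hy => CenterIdx.aut_mem_ZS β hy) (hd.zpowers_invariant_top hS β) hy
  · intro R hR
    obtain ⟨hRS, hZR, x', hx'R, hx'A⟩ := essential_facts h F hAe hR
    refine ⟨hd.P0_le_ZS.trans hZR, fun α hα y hy => ?_⟩
    by_cases hRab : ∀ a ∈ R, ∀ b ∈ R, a * b = b * a
    · have hsR : HSetup p S A R x' :=
        { setup := h, hPS := hRS, hZP := hZR, hPab := hRab, hxP := hx'R, hxA := hx'A }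
      obtain ⟨a', u', z', g', hd'⟩ := hsR.exists_HData hS F hF hR
      have h1 := hd.P0_le_P0 hS hF hp2 hd' hy
      have h2 := hd'.P0_inv hα h1
      exact hd'.P0_le_P0 hS hF hp2 hd h2
    · push Not at hRab
      exact hd.P0_invariant hS hF hp2 hRS hZR hα
        (fun y hy => center_invariant h hS hRS hRab hx'R hx'A α hy)
        (hd.zpowers_invariant hS hRS hZR hRab hx'R hx'A α) hy

end Cfsg.Agent.Lead.AbIdx
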