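import Mathlib
import Cfsg.Agent.Lead.AbIdxJ
import Cfsg.Agent.Lead.MaximalClass

set_option autoImplicit false

/-! Fusion systems over a `p`-group with an abelian subgroup of index `p` that is not essential:
the main theorem. -/

namespace Cfsg.Agent.Lead.AbIdx

open Cfsg Cfsg.FusionSystem
open Cfsg.Agent.Lead.CenterIdx (ZS P0 mem_P0 coe_mem_P0 fixSub)
open scoped commutatorElement

variable {Ω : Type*} [Group Ω] {S A : Subgroup Ω}
variable [Finite S] {p : ℕ} [hp : Fact p.Prime] {F : FusionSystem S}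

/-- There is an abelian essential subgroup. -/
theorem exists_abelian_essential (h : Setup p S A) (hS : IsPGroup p S) (hF : F.IsSaturated p)
    (hcore : F.core = ⊥) (hAe : ¬ F.IsEssential p A) :
    ∃ R : Subgroup Ω, F.IsEssential p R ∧ ∀ a ∈ R, ∀ b ∈ R, a * b = b * a := by
  by_contra hcon
  push Not at hcon
  have hZ : ZS S = ⊥ := by
    apply CenterIdx.eq_bot_of_invariant hS F hF hcore _ CenterIdx.ZS_le
    · intro β _ y hy
      exact CenterIdx.aut_mem_ZS β hy
    · intro R hR
      obtain ⟨hRS, hZR, x', hx'R, hx'A⟩ := essential_facts h F hAe hR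
      exact ⟨hZR, fun α _ y hy => center_invariant h hS hRS (hcon R hR) hx'R hx'A α hy⟩
  -- but the centre of a nontrivial `p`-group is nontrivial
  haveI : Nontrivial ↥S := by
    obtain ⟨s, hs, t, ht, hst⟩ := h.hna
    refine ⟨⟨⟨s, hs⟩, 1, ?_⟩⟩
    intro h1
    apply hst
    have : s = 1 := congrArg Subtype.val h1
    rw [this, one_mul, mul_one]
  haveI := hS.center_nontrivial
  obtain ⟨c, hc⟩ := exists_ne (1 : ↥(Subgroup.center ↥S))
  apply hc
  have h1 : ((c : ↥S) : Ω) ∈ ZS S := by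
    have h2 : (c : ↥S) ∈ Subgroup.center ↥S := c.2
    have h3 : (c : ↥S) ∈ (ZS S).subgroupOf S := by
      rw [CenterIdx.ZS_subgroupOf]; exact h2
    rw [Subgroup.mem_subgroupOf] at h3
    exact h3
  rw [hZ, Subgroup.mem_bot] at h1
  exact Subtype.ext (Subtype.ext h1)

variable {P : Subgroup Ω} {x a : Ω} {u : MulAut ↥P} {z : ↥P} {g : MulAut ↥P}

/-- The centre of `S` is generated by `z`. -/
theorem HData.ZS_eq (hd : HData p F A P x a u z g) (hS : IsPGroup p S)
    (hF : F.IsSaturated p) (hp2 : p ≠ 2) (hcore : F.core = ⊥) (hAe : ¬ F.IsEssential p A) :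
    ZS S = Subgroup.zpowers (z : Ω) := by
  have h0 := hd.P0_eq_bot hS hF hp2 hcore hAe
  apply le_antisymm
  · intro y hy
    obtain ⟨i, hi⟩ := hd.exists_pow_mul_mem_P0 hy
    rw [h0, Subgroup.mem_bot] at hi
    have : y = ((z : Ω) ^ i)⁻¹ := eq_inv_of_mul_eq_one_left hi
    rw [this]
    exact Subgroup.inv_mem _ (Subgroup.pow_mem _ (Subgroup.mem_zpowers _) i)
  · rw [Subgroup.zpowers_le]
    exact hd.hzZ

theorem main (hS : IsPGroup p S) (F : FusionSystem S) (hF : F.IsSaturated p) (hp2 : p ≠ 2)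
    (hna : ¬ IsMulCommutative ↥S) (A : Subgroup Ω)
    (hA : A ≤ S ∧ IsMulCommutative ↥A ∧ (A.subgroupOf S).index = p)
    (hcore : F.core = ⊥) (hAe : ¬ F.IsEssential p A) :
    (∃ x ∈ S, x ∉ A ∧ F.IsEssential p
      ((S ⊓ Subgroup.centralizer (S : Set Ω)) ⊔ Subgroup.zpowers x)) ∧
    (S ⊓ Subgroup.centralizer (S : Set Ω)) ≤ (commutator ↥S).map S.subtype ∧
    ∀ n : ℕ, Nat.card S = p ^ n → 3 ≤ n → Subgroup.lowerCentralSeries S (n - 2) ≠ ⊥ := by
  have h : Setup p S A :=
    { hAS := hA.1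
      hab := fun a ha b hb => congrArg Subtype.val (hA.2.1.is_comm.comm ⟨a, ha⟩ ⟨b, hb⟩)
      hidx := hA.2.2
      hna := by
        by_contra hcon
        push Not at hcon
        exact hna ⟨⟨fun s t => Subtype.ext (hcon s s.2 t t.2)⟩⟩ }
  obtain ⟨P, hP, hPab⟩ := exists_abelian_essential h hS hF hcore hAe
  obtain ⟨hPS, hZP, x, hxP, hxA⟩ := essential_facts h F hAe hP
  have hs : HSetup p S A P x :=
    { setup := h, hPS := hPS, hZP := hZP, hPab := hPab, hxP := hxP, hxA := hxA }
  obtain ⟨a, u, z, g, hd⟩ := hs.exists_HData hS F hF hP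
  have hZ := hd.ZS_eq hS hF hp2 hcore hAe
  have hPeq : P = (S ⊓ Subgroup.centralizer (S : Set Ω)) ⊔ Subgroup.zpowers x := by
    apply le_antisymm
    · intro y hy
      obtain ⟨i, w, hw, rfl⟩ := hs.exists_pow_mul hS hy
      exact Subgroup.mul_mem _
        ((le_sup_right : Subgroup.zpowers x ≤ _) (Subgroup.pow_mem _ (Subgroup.mem_zpowers x) i))
        ((le_sup_left : (S ⊓ Subgroup.centralizer (S : Set Ω)) ≤ _) hw)
    · exact sup_le hZP (by rw [Subgroup.zpowers_le]; exact hxP)
  refine ⟨⟨x, hPS hxP, hxA, hPeq ▸ hP⟩, ?_, ?_⟩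
  · intro y hy
    have hy' : y ∈ Subgroup.zpowers (z : Ω) := by rw [← hZ]; exact hy
    have hzmem : (z : Ω) ∈ (commutator ↥S).map S.subtype := by
      rw [hd.hz]
      exact mem_map_commutator (hPS hxP) (h.hAS hd.haA)
    exact (Subgroup.zpowers_le.mpr hzmem) hy'
  · intro n hn hn3
    -- Suzuki's criterion
    haveI : Finite ↥P := Fusion.finite_of_le hPS
    have hcardZ : Nat.card ↥(ZS S) = p := by
      rw [hZ, Nat.card_zpowers, hd.orderOf_z]
    have hcardP : Nat.card ↥P = p ^ 2 := by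
      have h1 := Subgroup.card_mul_index ((ZS S).subgroupOf P)
      rw [hs.index hS] at h1
      have h2 : Nat.card ↥((ZS S).subgroupOf P) = Nat.card ↥(ZS S) :=
        Nat.card_congr (Subgroup.subgroupOfEquivOfLe hZP).toEquiv
      rw [h2, hcardZ] at h1
      rw [← h1, pow_two]
    have hcardP' : Nat.card ↥(P.subgroupOf S) = p ^ 2 := by
      rw [← hcardP]
      exact Nat.card_congr (Subgroup.subgroupOfEquivOfLe hPS).toEquiv
    have hcent : Subgroup.centralizer ((P.subgroupOf S : Subgroup ↥S) : Set ↥S) = P.subgroupOf S := by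
      ext s
      rw [Subgroup.mem_centralizer_iff, Subgroup.mem_subgroupOf]
      constructor
      · intro hs'
        apply hP.1.2 P (Fusion.isConj_refl F hPS)
        refine ⟨s.2, Subgroup.mem_centralizer_iff.mpr (fun y hy => ?_)⟩
        have := hs' ⟨y, hPS hy⟩ (by
          rw [SetLike.mem_coe, Subgroup.mem_subgroupOf]; exact hy)
        exact congrArg Subtype.val this
      · intro hsP y hy
        rw [SetLike.mem_coe, Subgroup.mem_subgroupOf] at hy
        exact Subtype.ext (hPab _ hy _ hsP)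
    have hclass := Cfsg.Agent.Lead.nilpotencyClass_of_self_centralizing_sq (p := p) n ↥S hn
      (P.subgroupOf S) hcardP' hcent
    haveI : Group.IsNilpotent ↥S := hS.isNilpotent
    intro hbot
    rw [← Subgroup.top_subtype_lowerCentralSeries] at hbot
    have h1 : Subgroup.lowerCentralSeries (⊤ : Subgroup ↥S) (n - 2) = ⊥ := by
      rw [eq_bot_iff]
      intro y hy
      have h2 : S.subtype y ∈ (Subgroup.lowerCentralSeries (⊤ : Subgroup ↥S) (n - 2)).map S.subtype :=
        Subgroup.mem_map_of_mem _ hy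
      rw [hbot, Subgroup.mem_bot] at h2
      rw [Subgroup.mem_bot]
      exact Subtype.ext h2
    rw [Subgroup.lowerCentralSeries_eq_bot_iff_nilpotencyClass_le, hclass] at h1
    omega

end Cfsg.Agent.Lead.AbIdx
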