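import Mathlib
import Cfsg.Agent.Lead.AbIdxK
import Cfsg.Agent.Lead.FusionStab
import Cfsg.Agent.Lead.FusionEssNeeded
import Cfsg.Agent.Lead.FusionInner

set_option autoImplicit false

/-! General lemmas for the list of essential subgroups of a `p`-group with an abelian subgroup of
index `p`: an index criterion, a two-step chain criterion, and the second centre. -/

namespace Cfsg.Agent.Lead.AbIdx

open Cfsg Cfsg.FusionSystem
open Cfsg.Agent.Lead.CenterIdx (ZS)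

variable {Ω : Type*} [Group Ω] {S A : Subgroup Ω}

/-- If `K/H` is generated by the image of an element `a ∉ H` with `a ^ p ∈ H`, then `|K : H| = p`. -/
lemma index_eq_prime_of_gen {G : Type*} [Group G] {p : ℕ} [hp : Fact p.Prime] {H K : Subgroup G}
    (hHK : H ≤ K) (hn : K ≤ Subgroup.normalizer (H : Set G)) {a : G} (haK : a ∈ K) (haH : a ∉ H)
    (hap : a ^ p ∈ H)
    (hgen : ∀ k ∈ K, ∃ i : ℤ, ∃ h₁ ∈ H, ∃ h₂ ∈ H, k = h₁ * a ^ i * h₂) :
    (H.subgroupOf K).index = p := by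
  haveI : (H.subgroupOf K).Normal := Subgroup.normal_subgroupOf_of_le_normalizer hn
  have h1 : ((⟨a, haK⟩ : ↥K) : ↥K ⧸ H.subgroupOf K) ≠ 1 := by
    intro h
    rw [QuotientGroup.eq_one_iff, Subgroup.mem_subgroupOf] at h
    exact haH h
  have hp' : ((⟨a, haK⟩ : ↥K) : ↥K ⧸ H.subgroupOf K) ^ p = 1 := by
    rw [← QuotientGroup.mk_pow, QuotientGroup.eq_one_iff, Subgroup.mem_subgroupOf]
    exact hap
  have hord : orderOf ((⟨a, haK⟩ : ↥K) : ↥K ⧸ H.subgroupOf K) = p := orderOf_eq_prime hp' h1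
  have htop : Subgroup.zpowers ((⟨a, haK⟩ : ↥K) : ↥K ⧸ H.subgroupOf K) = ⊤ := by
    rw [eq_top_iff]
    intro q _
    obtain ⟨k, rfl⟩ := QuotientGroup.mk_surjective q
    obtain ⟨i, h₁, hh₁, h₂, hh₂, hk⟩ := hgen k k.2
    rw [Subgroup.mem_zpowers_iff]
    refine ⟨i, ?_⟩
    have e1 : k = ⟨h₁, hHK hh₁⟩ * (⟨a, haK⟩ : ↥K) ^ i * ⟨h₂, hHK hh₂⟩ := by
      apply Subtype.ext
      rw [hk]
      simp
    have e2 : ((⟨h₁, hHK hh₁⟩ : ↥K) : ↥K ⧸ H.subgroupOf K) = 1 := by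
      rw [QuotientGroup.eq_one_iff, Subgroup.mem_subgroupOf]; exact hh₁
    have e3 : ((⟨h₂, hHK hh₂⟩ : ↥K) : ↥K ⧸ H.subgroupOf K) = 1 := by
      rw [QuotientGroup.eq_one_iff, Subgroup.mem_subgroupOf]; exact hh₂
    rw [e1, QuotientGroup.mk_mul, QuotientGroup.mk_mul, QuotientGroup.mk_zpow, e2, e3, one_mul,
      mul_one]
  rw [Subgroup.index_eq_card, ← Subgroup.card_top (G := ↥K ⧸ H.subgroupOf K), ← htop,
    Nat.card_zpowers, hord]

/-- Two-step chain criterion: if `X ∩ P` is `Aut_F(P)`-invariant, `N_Q(P)` centralizes `X ∩ P` and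
`[P, N_Q(P)] ≤ X`, with `P` centric radical and `Q` normal in `S`, then `Q ≤ P`. -/
theorem le_of_two_step [Finite S] (p : ℕ) [Fact p.Prime] (hS : IsPGroup p S) (F : FusionSystem S)
    {P Q X : Subgroup Ω} (hc : F.IsCentric P) (hr : F.IsRadical p P) (hQS : Q ≤ S)
    (hQn : S ≤ Subgroup.normalizer (Q : Set Ω))
    (hinvX : ∀ α ∈ F.autGroup P, ∀ x : P, (x : Ω) ∈ X → ((α x : P) : Ω) ∈ X)
    (h1 : ∀ g ∈ Q, g ∈ Subgroup.normalizer (P : Set Ω) → ∀ x ∈ P, x ∈ X → g * x * g⁻¹ = x)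
    (h2 : ∀ g ∈ Q, g ∈ Subgroup.normalizer (P : Set Ω) → ∀ x ∈ P, x⁻¹ * (g * x * g⁻¹) ∈ X) :
    Q ≤ P := by
  have hPS := hc.1
  haveI : Finite P := Fusion.finite_of_le hPS
  set Qs : ℕ → Subgroup Ω := fun i => if i = 0 then ⊥ else if i = 1 then X else ⊤ with hQs
  have hQs0 : Qs 0 = ⊥ := by simp [hQs]
  have hQs1 : Qs 1 = X := by simp [hQs]
  have hQstop : ∀ i, 2 ≤ i → Qs i = ⊤ := by
    intro i hi
    simp only [hQs]
    rw [if_neg (by omega), if_neg (by omega)]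
  have hinv : ∀ i, ∀ α ∈ F.autGroup P, ∀ x : P, (x : Ω) ∈ Qs i → ((α x : P) : Ω) ∈ Qs i := by
    intro i α hα x hx
    rcases Nat.lt_or_ge i 2 with hi | hi
    · interval_cases i
      · rw [hQs0, Subgroup.mem_bot] at hx ⊢
        have : x = 1 := Subtype.ext hx
        rw [this, map_one]; rfl
      · rw [hQs1] at hx ⊢
        exact hinvX α hα x hx
    · rw [hQstop i hi]; trivial
  apply Fusion.le_of_normal_pSubgroup p hS F hc hr hQS hQn (Fusion.stabSubgroup F P Qs hinv)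
  · intro β hβ; exact hβ.1
  · intro b
    obtain ⟨k, hk⟩ := Fusion.stabSet_pow_eq_one F P Qs hinv p (hS.to_le hPS) 2
      (fun x => by rw [hQstop 2 le_rfl]; trivial)
      (fun β _ => ⟨0, fun x hx => by
        rw [hQs0, Subgroup.mem_bot] at hx
        have : x = 1 := Subtype.ext hx
        rw [this, map_one]⟩) b.2
    exact ⟨k, Subtype.ext hk⟩
  · intro α hα b hb
    exact Fusion.stabSet_conj F P Qs hinv hα hb
  · intro g hgQ hgN
    refine ⟨Fusion.autInducedBy_le_autGroup F hPS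
      (Fusion.conjAutHom_mem_autInducedBy P _ (hQS hgQ)), fun i x hx => ?_⟩
    show (x : Ω)⁻¹ * (g * (x : Ω) * g⁻¹) ∈ Qs i
    rcases Nat.lt_or_ge i 2 with hi | hi
    · interval_cases i
      · rw [zero_add, hQs1] at hx
        rw [hQs0, Subgroup.mem_bot, h1 g hgQ hgN x x.2 hx, inv_mul_cancel]
      · rw [hQs1]
        exact h2 g hgQ hgN x x.2
    · rw [hQstop i hi]; trivial

/-- The second centre of `S` as a subgroup of the ambient group. -/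
def Z2 (S : Subgroup Ω) : Subgroup Ω := (Subgroup.upperCentralSeries ↥S 2).map S.subtype

lemma mem_Z2 {y : Ω} : y ∈ Z2 S ↔ y ∈ S ∧ ∀ s ∈ S, y * s * y⁻¹ * s⁻¹ ∈ ZS S := by
  rw [Z2, Subgroup.mem_map]
  constructor
  · rintro ⟨w, hw, rfl⟩
    refine ⟨w.2, fun s hs => ?_⟩
    rw [show (2 : ℕ) = 1 + 1 from rfl, Subgroup.mem_upperCentralSeries_succ_iff,
      Subgroup.upperCentralSeries_one] at hw
    have := hw ⟨s, hs⟩
    rw [← CenterIdx.ZS_subgroupOf, Subgroup.mem_subgroupOf, commutatorElement_def] at this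
    exact this
  · rintro ⟨hy, h⟩
    refine ⟨⟨y, hy⟩, ?_, rfl⟩
    rw [show (2 : ℕ) = 1 + 1 from rfl, Subgroup.mem_upperCentralSeries_succ_iff,
      Subgroup.upperCentralSeries_one]
    intro s
    rw [← CenterIdx.ZS_subgroupOf, Subgroup.mem_subgroupOf, commutatorElement_def]
    exact h s s.2

lemma Z2_le : Z2 S ≤ S := fun _ hy => (mem_Z2.mp hy).1

lemma ZS_le_Z2 : ZS S ≤ Z2 S := by
  intro y hy
  rw [mem_Z2]
  refine ⟨CenterIdx.ZS_le hy, fun s hs => ?_⟩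
  rw [CenterIdx.mem_ZS] at hy
  have : y * s * y⁻¹ * s⁻¹ = 1 := by
    rw [← hy.2 s hs]; group
  rw [this]
  exact Subgroup.one_mem _

/-- For `b` in the second centre and `x ∈ S`, the commutator `x⁻¹ b x b⁻¹` is central. -/
lemma comm_mem_of_mem_Z2 {b x : Ω} (hb : b ∈ Z2 S) (hx : x ∈ S) : x⁻¹ * b * x * b⁻¹ ∈ ZS S := by
  have h1 := (mem_Z2.mp hb).2 x⁻¹ (S.inv_mem hx)
  have h2 := (ZS S).inv_mem h1
  have : (b * x⁻¹ * b⁻¹ * x⁻¹⁻¹)⁻¹ = x⁻¹ * b * x * b⁻¹ := by group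
  rwa [this] at h2

/-- For `b` in the second centre and `x ∈ S`, `x⁻¹ (b x b⁻¹)` is central. -/
lemma comm_mem_of_mem_Z2' {b x : Ω} (hb : b ∈ Z2 S) (hx : x ∈ S) : x⁻¹ * (b * x * b⁻¹) ∈ ZS S := by
  have := comm_mem_of_mem_Z2 hb hx
  have e : x⁻¹ * (b * x * b⁻¹) = x⁻¹ * b * x * b⁻¹ := by group
  rwa [e]

variable [Finite S] {p : ℕ} [hp : Fact p.Prime]

/-- An element of `A` whose commutator with some `x ∉ A` is central lies in the second centre. -/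
lemma Setup.mem_Z2_of_comm (h : Setup p S A) (hS : IsPGroup p S) {x : Ω} (hx : x ∈ S)
    (hxA : x ∉ A) {b : Ω} (hb : b ∈ A) (hz : x⁻¹ * b * x * b⁻¹ ∈ ZS S) : b ∈ Z2 S := by
  rw [mem_Z2]
  refine ⟨h.hAS hb, fun s hs => ?_⟩
  obtain ⟨i, a, ha, rfl⟩ := h.exists_pow_mul hS hx hxA hs
  have hzc : ∀ y ∈ S, y * (x⁻¹ * b * x * b⁻¹) = (x⁻¹ * b * x * b⁻¹) * y :=
    (CenterIdx.mem_ZS.mp hz).2
  have key : ∀ j : ℕ, b * x ^ j = x ^ j * (x⁻¹ * b * x * b⁻¹) ^ j * b := by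
    intro j
    induction j with
    | zero => simp
    | succ j ih =>
      have hc : Commute x ((x⁻¹ * b * x * b⁻¹) ^ j) := Commute.pow_right (hzc x hx) j
      calc b * x ^ (j + 1) = (b * x ^ j) * x := by rw [pow_succ]; group
        _ = x ^ j * (x⁻¹ * b * x * b⁻¹) ^ j * b * x := by rw [ih]
        _ = x ^ j * ((x⁻¹ * b * x * b⁻¹) ^ j * x) * (x⁻¹ * b * x * b⁻¹) * b := by group
        _ = x ^ j * (x * (x⁻¹ * b * x * b⁻¹) ^ j) * (x⁻¹ * b * x * b⁻¹) * b := by rw [hc.eq]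
        _ = x ^ (j + 1) * (x⁻¹ * b * x * b⁻¹) ^ (j + 1) * b := by
          rw [pow_succ, pow_succ]; group
  have e : b * (x ^ i * a) * b⁻¹ * (x ^ i * a)⁻¹ = (x ^ i * (x⁻¹ * b * x * b⁻¹) ^ i) * (x ^ i)⁻¹ := by
    calc b * (x ^ i * a) * b⁻¹ * (x ^ i * a)⁻¹
        = (b * x ^ i) * (a * b⁻¹) * a⁻¹ * (x ^ i)⁻¹ := by group
      _ = (b * x ^ i) * (b⁻¹ * a) * a⁻¹ * (x ^ i)⁻¹ := by rw [h.hab a ha b⁻¹ (A.inv_mem hb)]
      _ = (x ^ i * (x⁻¹ * b * x * b⁻¹) ^ i * b) * (b⁻¹ * a) * a⁻¹ * (x ^ i)⁻¹ := by rw [key i]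
      _ = _ := by group
  rw [e]
  have hc : Commute (x ^ i) ((x⁻¹ * b * x * b⁻¹) ^ i) :=
    Commute.pow_pow (hzc x hx) i i
  rw [hc.eq, mul_inv_cancel_right]
  exact Subgroup.pow_mem _ hz i

/-- If the second centre is not inside `A`, then it contains `A`. -/
lemma Setup.A_le_Z2_of_not_le (h : Setup p S A) (hS : IsPGroup p S) (hle : ¬ Z2 S ≤ A) :
    A ≤ Z2 S := by
  obtain ⟨z, hz, hzA⟩ := SetLike.not_le_iff_exists.mp hle
  intro a ha
  apply h.mem_Z2_of_comm hS (Z2_le hz) hzA ha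
  have h1 := (mem_Z2.mp ((Z2 S).inv_mem hz)).2 a (h.hAS ha)
  rwa [inv_inv] at h1

/-- Elements of the second centre normalize every subgroup of `S` containing the centre. -/
lemma mem_normalizer_of_mem_Z2 {P : Subgroup Ω} (hPS : P ≤ S) (hZP : ZS S ≤ P) {b : Ω}
    (hb : b ∈ Z2 S) : b ∈ Subgroup.normalizer (P : Set Ω) := by
  haveI : Finite ↥P := Fusion.finite_of_le hPS
  apply mem_normalizer_of_conj_mem_of_finite
  intro y hy
  have h1 := comm_mem_of_mem_Z2' hb (hPS hy)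
  have : b * y * b⁻¹ = y * (y⁻¹ * (b * y * b⁻¹)) := by group
  rw [this]
  exact P.mul_mem hy (hZP h1)

end Cfsg.Agent.Lead.AbIdx
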