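import Mathlib
import Cfsg.Agent.Lead.AbIdxL

set_option autoImplicit false

/-! Abelian essential subgroups other than `A` in a `p`-group with an abelian subgroup `A` of
index `p`. -/

namespace Cfsg.Agent.Lead.AbIdx

open Cfsg Cfsg.FusionSystem
open Cfsg.Agent.Lead.CenterIdx (ZS)

variable {Ω : Type*} [Group Ω] {S A : Subgroup Ω}

/-- The structure of the second centre forced by an essential subgroup other than `A`. -/
structure Out (p : ℕ) (S A : Subgroup Ω) : Prop where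
  hle : Z2 S ≤ A
  hgen : ∃ t ∈ Z2 S, t ∉ ZS S ∧ t ^ p ∈ ZS S ∧ ∀ b ∈ Z2 S, ∃ i : ℤ, ∃ w ∈ ZS S, b = t ^ i * w

variable [Finite S] {p : ℕ} [hp : Fact p.Prime] {P : Subgroup Ω} {x : Ω}

lemma HSetup.eq_sup (hs : HSetup p S A P x) (hS : IsPGroup p S) :
    P = ZS S ⊔ Subgroup.zpowers x := by
  apply le_antisymm
  · intro y hy
    obtain ⟨i, w, hw, rfl⟩ := hs.exists_pow_mul hS hy
    exact Subgroup.mul_mem _
      ((le_sup_right : Subgroup.zpowers x ≤ _) (Subgroup.pow_mem _ (Subgroup.mem_zpowers x) i))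
      ((le_sup_left : ZS S ≤ _) hw)
  · exact sup_le hs.hZP (by rw [Subgroup.zpowers_le]; exact hs.hxP)

/-- Elements of `N_S(P)` are powers of the generator `a` modulo `P`. -/
lemma exists_zpow_mul_of_gen {a : Ω} (haS : a ∈ S) (hN : a ∈ Subgroup.normalizer (P : Set Ω))
    (hT : autInducedBy S P = Subgroup.zpowers (conjAutHom P ⟨a, hN⟩))
    (hcen : centralizerIn S P ≤ P) {n : Ω} (hnS : n ∈ S)
    (hnN : n ∈ Subgroup.normalizer (P : Set Ω)) : ∃ i : ℤ, ∃ c ∈ P, n = a ^ i * c := by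
  have h1 : conjAutHom P ⟨n, hnN⟩ ∈ autInducedBy S P :=
    Fusion.conjAutHom_mem_autInducedBy P _ hnS
  rw [hT, Subgroup.mem_zpowers_iff] at h1
  obtain ⟨i, hi⟩ := h1
  refine ⟨i, a ^ (-i) * n, ?_, by group⟩
  apply hcen
  refine Subgroup.mem_inf.mpr ⟨S.mul_mem (S.zpow_mem haS _) hnS, ?_⟩
  rw [Subgroup.mem_centralizer_iff]
  intro y hy
  have hwN : a ^ (-i) * n ∈ Subgroup.normalizer (P : Set Ω) :=
    Subgroup.mul_mem _ (Subgroup.zpow_mem _ hN _) hnN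
  have e : conjAutHom P ⟨a ^ (-i) * n, hwN⟩ = 1 := by
    have e1 : (⟨a ^ (-i) * n, hwN⟩ : ↥(Subgroup.normalizer (P : Set Ω))) =
        ⟨a, hN⟩ ^ (-i) * ⟨n, hnN⟩ := by
      apply Subtype.ext; simp
    rw [e1, map_mul, map_zpow, ← hi, ← zpow_add, neg_add_cancel, zpow_zero]
  have h2 := congrArg (fun α : MulAut P => ((α ⟨y, hy⟩ : P) : Ω)) e
  simp only [conjAutHom_apply, MulAut.one_apply] at h2
  calc y * (a ^ (-i) * n) = (a ^ (-i) * n * y * (a ^ (-i) * n)⁻¹) * (a ^ (-i) * n) := by rw [h2]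
    _ = a ^ (-i) * n * y := by group

/-- The abelian case. -/
theorem HSetup.abelian_case (hs : HSetup p S A P x) (hS : IsPGroup p S) (F : FusionSystem S)
    (hF : F.IsSaturated p) (hP : F.IsEssential p P) :
    (P.subgroupOf (S ⊓ Subgroup.normalizer (P : Set Ω))).index = p ∧
    ((∀ B : Subgroup Ω, B ≤ S → (∀ a ∈ B, ∀ b ∈ B, a * b = b * a) →
      (B.subgroupOf S).index = p → B = A) → Out p S A) := by
  have h := hs.setup
  have hPS := hs.hPS
  have hxS : x ∈ S := hPS hs.hxP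
  have hxA := hs.hxA
  have hcen : centralizerIn S P ≤ P := hP.1.2 P (Fusion.isConj_refl F hPS)
  obtain ⟨a, haA, hN, hu1, hT, -⟩ := hs.exists_generator hS F hF hP
  have haS : a ∈ S := h.hAS haA
  have haP : a ∉ P := by
    intro haP
    apply hu1
    ext y
    rw [conjAutHom_apply]
    show a * (y : Ω) * a⁻¹ = y
    rw [hs.hPab a haP y y.2, mul_inv_cancel_right]
  have hzZ : x⁻¹ * (a * x * a⁻¹) ∈ ZS S := hs.cm_mem hS haA hN hs.hxP
  have hzc : ∀ y ∈ S, y * (x⁻¹ * (a * x * a⁻¹)) = (x⁻¹ * (a * x * a⁻¹)) * y :=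
    (CenterIdx.mem_ZS.mp hzZ).2
  have key : ∀ k : ℕ, a * x ^ k * a⁻¹ = x ^ k * (x⁻¹ * (a * x * a⁻¹)) ^ k := by
    intro k
    induction k with
    | zero => simp
    | succ k ih =>
      have hc : Commute x ((x⁻¹ * (a * x * a⁻¹)) ^ k) := Commute.pow_right (hzc x hxS) k
      calc a * x ^ (k + 1) * a⁻¹ = (a * x ^ k * a⁻¹) * (a * x * a⁻¹) := by rw [pow_succ]; group
        _ = x ^ k * (x⁻¹ * (a * x * a⁻¹)) ^ k * (a * x * a⁻¹) := by rw [ih]
        _ = x ^ k * ((x⁻¹ * (a * x * a⁻¹)) ^ k * x) * (x⁻¹ * (a * x * a⁻¹)) := by group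
        _ = x ^ k * (x * (x⁻¹ * (a * x * a⁻¹)) ^ k) * (x⁻¹ * (a * x * a⁻¹)) := by rw [hc.eq]
        _ = x ^ (k + 1) * (x⁻¹ * (a * x * a⁻¹)) ^ (k + 1) := by
          rw [pow_succ, pow_succ]; group
  have hzp : (x⁻¹ * (a * x * a⁻¹)) ^ p = 1 := by
    have h1 := key p
    have h2 : x ^ p ∈ ZS S := hs.pow_mem hS hs.hxP
    have h3 : a * x ^ p = x ^ p * a := (CenterIdx.mem_ZS.mp h2).2 a haS
    rw [h3, mul_inv_cancel_right] at h1
    exact (mul_eq_left.mp h1.symm)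
  have key2 : ∀ k : ℕ, a ^ k * x = x * (x⁻¹ * (a * x * a⁻¹)) ^ k * a ^ k := by
    intro k
    induction k with
    | zero => simp
    | succ k ih =>
      have hc : Commute (a ^ k) (x⁻¹ * (a * x * a⁻¹)) := hzc (a ^ k) (S.pow_mem haS k)
      calc a ^ (k + 1) * x = a ^ k * x * (x⁻¹ * (a * x * a⁻¹)) * a := by rw [pow_succ]; group
        _ = x * (x⁻¹ * (a * x * a⁻¹)) ^ k * (a ^ k * (x⁻¹ * (a * x * a⁻¹))) * a := by
          rw [ih]; group
        _ = x * (x⁻¹ * (a * x * a⁻¹)) ^ k * ((x⁻¹ * (a * x * a⁻¹)) * a ^ k) * a := by rw [hc.eq]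
        _ = x * (x⁻¹ * (a * x * a⁻¹)) ^ (k + 1) * a ^ (k + 1) := by
          rw [pow_succ, pow_succ]; group
  have hapZ : a ^ p ∈ ZS S := by
    apply h.mem_ZS_of_comm hS hxS hxA (A.pow_mem haA p)
    have := key2 p
    rw [hzp, mul_one] at this
    exact this.symm
  have hgen : ∀ n ∈ S, n ∈ Subgroup.normalizer (P : Set Ω) → ∃ i : ℤ, ∃ c ∈ P, n = a ^ i * c :=
    fun n hnS hnN => exists_zpow_mul_of_gen haS hN hT hcen hnS hnN
  have hidx : (P.subgroupOf (S ⊓ Subgroup.normalizer (P : Set Ω))).index = p := by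
    apply index_eq_prime_of_gen (le_inf hPS Subgroup.le_normalizer) inf_le_right
      (Subgroup.mem_inf.mpr ⟨haS, hN⟩) haP (hs.hZP hapZ)
    intro k hk
    obtain ⟨i, c, hc, hkc⟩ := hgen k hk.1 hk.2
    exact ⟨i, 1, P.one_mem, c, hc, by rw [one_mul]; exact hkc⟩
  refine ⟨hidx, fun huniq => ?_⟩
  have haZ2 : a ∈ Z2 S := by
    apply h.mem_Z2_of_comm hS hxS hxA haA
    have e : x⁻¹ * a * x * a⁻¹ = x⁻¹ * (a * x * a⁻¹) := by group
    rw [e]; exact hzZ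
  have hle : Z2 S ≤ A := by
    by_contra hcon
    have hAZ2 := h.A_le_Z2_of_not_le hS hcon
    have hSN : S ≤ Subgroup.normalizer (P : Set Ω) := by
      intro s hs'
      obtain ⟨i, b, hb, rfl⟩ := h.exists_pow_mul hS hxS hxA hs'
      exact Subgroup.mul_mem _ (Subgroup.pow_mem _ (Subgroup.le_normalizer hs.hxP) i)
        (mem_normalizer_of_mem_Z2 hPS hs.hZP (hAZ2 hb))
    have e : S ⊓ Subgroup.normalizer (P : Set Ω) = S := inf_eq_left.mpr hSN
    rw [e] at hidx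
    have := huniq P hPS hs.hPab hidx
    rw [this] at hs
    exact hs.hxA hs.hxP
  refine ⟨hle, a, haZ2, fun haZ => haP (hs.hZP haZ), hapZ, fun b hb => ?_⟩
  obtain ⟨i, c, hc, hbc⟩ := hgen b (Z2_le hb) (mem_normalizer_of_mem_Z2 hPS hs.hZP hb)
  refine ⟨i, c, ?_, hbc⟩
  apply hs.mem_ZS hS hc
  have : c = a ^ (-i) * b := by rw [hbc]; group
  rw [this]
  exact A.mul_mem (A.zpow_mem haA _) (hle hb)

end Cfsg.Agent.Lead.AbIdx
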