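import Mathlib
import Cfsg.Agent.Lead.AbIdxM

set_option autoImplicit false

/-! Nonabelian essential subgroups in a `p`-group with an abelian subgroup `A` of index `p`. -/

namespace Cfsg.Agent.Lead.AbIdx

open Cfsg Cfsg.FusionSystem
open Cfsg.Agent.Lead.CenterIdx (ZS)

variable {Ω : Type*} [Group Ω] {S A : Subgroup Ω}

lemma normal_of_index_prime {G : Type*} [Group G] [Finite G] {p : ℕ} [hp : Fact p.Prime]
    (hG : IsPGroup p G) (H : Subgroup G) (hidx : H.index = p) : H.Normal := by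
  apply Subgroup.normal_of_index_eq_minFac_card
  rw [hidx]
  obtain ⟨n, hn⟩ := IsPGroup.iff_card.mp hG
  have hn0 : n ≠ 0 := by
    rintro rfl
    rw [pow_zero] at hn
    have h1 : H.index ∣ Nat.card G := Subgroup.index_dvd_card _
    rw [hidx, hn] at h1
    exact hp.out.one_lt.ne' (Nat.dvd_one.mp h1)
  rw [hn, Nat.Prime.pow_minFac hp.out hn0]

/-- The second centre is normalized by `S`. -/
lemma le_normalizer_Z2 : S ≤ Subgroup.normalizer (Z2 S : Set Ω) := by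
  have key : ∀ (s : Ω), s ∈ S → ∀ y ∈ Z2 S, s * y * s⁻¹ ∈ Z2 S := by
    intro s hs y hy
    rw [mem_Z2] at hy ⊢
    refine ⟨S.mul_mem (S.mul_mem hs hy.1) (S.inv_mem hs), fun t ht => ?_⟩
    have h1 := hy.2 (s⁻¹ * t * s) (S.mul_mem (S.mul_mem (S.inv_mem hs) ht) hs)
    have h2 : s * y * s⁻¹ * t * (s * y * s⁻¹)⁻¹ * t⁻¹ =
        s * (y * (s⁻¹ * t * s) * y⁻¹ * (s⁻¹ * t * s)⁻¹) * s⁻¹ := by group
    rw [h2]
    have h3 := (CenterIdx.mem_ZS.mp h1).2 s hs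
    rw [h3, mul_inv_cancel_right]
    exact h1
  intro s hs
  rw [Subgroup.mem_normalizer_iff]
  intro y
  constructor
  · exact key s hs y
  · intro hy
    have := key s⁻¹ (S.inv_mem hs) _ hy
    have e : s⁻¹ * (s * y * s⁻¹) * s⁻¹⁻¹ = y := by group
    rwa [e] at this

variable [Finite S] {p : ℕ} [hp : Fact p.Prime] {P : Subgroup Ω} {x : Ω}

/-- The nonabelian case. -/
theorem nonabelian_case (h : Setup p S A) (hS : IsPGroup p S) (F : FusionSystem S)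
    (hF : F.IsSaturated p) (hP : F.IsEssential p P)
    (hPna : ∃ a ∈ P, ∃ b ∈ P, a * b ≠ b * a) (hxP : x ∈ P) (hxA : x ∉ A) :
    Z2 S ≤ A ∧ P = Z2 S ⊔ Subgroup.zpowers x ∧
    (P.subgroupOf (S ⊓ Subgroup.normalizer (P : Set Ω))).index = p ∧ Out p S A := by
  have hPS : P ≤ S := hP.1.1
  haveI : Finite ↥P := Fusion.finite_of_le hPS
  have hPp : IsPGroup p ↥P := hS.to_le hPS
  have hxS : x ∈ S := hPS hxP
  have hcen : centralizerIn S P ≤ P := hP.1.2 P (Fusion.isConj_refl F hPS)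
  have hZP : ZS S ≤ P := by
    intro y hy
    apply hcen
    rw [CenterIdx.mem_ZS] at hy
    exact ⟨hy.1, Subgroup.mem_centralizer_iff.mpr (fun r hr => hy.2 r (hPS hr))⟩
  have hrad := Fusion.isRadical_of_isEssential p hS F hP
  have hlt := Fusion.essential_lt_top p hS F hF hP
  have hPneS : P ≠ S := hlt.ne
  have hSnotle : ¬ S ≤ P := fun hle => hPneS (le_antisymm hPS hle)
  have hSN_A : S ≤ Subgroup.normalizer (A : Set Ω) := by
    intro s hs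
    haveI : Finite ↥A := Fusion.finite_of_le h.hAS
    apply mem_normalizer_of_conj_mem_of_finite
    intro y hy
    exact h.conj_mem hS hs hy
  have hAP : ¬ A ≤ P := by
    intro hAP
    apply hSnotle
    intro s hs
    obtain ⟨i, a, ha, rfl⟩ := h.exists_pow_mul hS hxS hxA hs
    exact P.mul_mem (P.pow_mem hxP i) (hAP ha)
  -- step 1: `A ∩ P` is not invariant
  have hstep1 : ∃ α ∈ F.autGroup P, ∃ y₀ : ↥P, (y₀ : Ω) ∈ A ∧ ((α y₀ : ↥P) : Ω) ∉ A := by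
    by_contra hcon
    push Not at hcon
    apply hAP
    apply le_of_two_step p hS F hP.1 hrad h.hAS hSN_A (X := A) hcon
    · intro g hg _ y _ hyA
      rw [h.hab g hg y hyA, mul_inv_cancel_right]
    · intro g hg _ y hy
      have h1 : y⁻¹ * g * y ∈ A := h.conj_mem' hS (hPS hy) hg
      have e : y⁻¹ * (g * y * g⁻¹) = y⁻¹ * g * y * g⁻¹ := by group
      rw [e]
      exact A.mul_mem h1 (A.inv_mem hg)
  obtain ⟨α, hα, y₀, hy₀A, hx'A⟩ := hstep1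
  obtain ⟨y₁, hy₁⟩ : ∃ y₁ : ↥P, y₁ = α y₀ := ⟨_, rfl⟩
  rw [← hy₁] at hx'A
  have hx'S : (y₁ : Ω) ∈ S := hPS y₁.2
  obtain ⟨B', hB'⟩ : ∃ B' : Subgroup ↥P, B' = (A.subgroupOf P).map α.toMonoidHom := ⟨_, rfl⟩
  have hPnotleA : ¬ P ≤ A := fun hle => hxA (hle hxP)
  have hidxB : (A.subgroupOf P).index = p := h.relIndex hS hPS hPnotleA
  have hidxB' : B'.index = p := by
    rw [hB', ← hidxB]
    exact Subgroup.index_map_equiv (A.subgroupOf P) α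
  haveI hB'n : B'.Normal := normal_of_index_prime hPp B' hidxB'
  have hB'ab : ∀ u ∈ B', ∀ v ∈ B', u * v = v * u := by
    rw [hB']
    rintro _ ⟨u, hu, rfl⟩ _ ⟨v, hv, rfl⟩
    rw [SetLike.mem_coe, Subgroup.mem_subgroupOf] at hu hv
    show α u * α v = α v * α u
    rw [← map_mul, ← map_mul]
    congr 1
    exact Subtype.ext (h.hab u hu v hv)
  have hx'B' : y₁ ∈ B' := by
    rw [hB']
    exact ⟨y₀, Subgroup.mem_subgroupOf.mpr hy₀A, hy₁.symm⟩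
  -- step 3
  have hstep3 : ∀ w : ↥P, (w : Ω) ∈ A → w ∈ B' → (w : Ω) ∈ ZS S := by
    intro w hwA hwB'
    apply h.mem_ZS_of_comm hS hx'S hx'A hwA
    exact congrArg Subtype.val (hB'ab _ hx'B' _ hwB')
  -- step 4
  have hstep4 : ∀ b ∈ A, b ∈ P → ∀ w : ↥P, w ∈ B' → (w : Ω)⁻¹ * b * w * b⁻¹ ∈ ZS S := by
    intro b hbA hbP w hw
    have h1 : (w⁻¹ * (⟨b, hbP⟩ * w * ⟨b, hbP⟩⁻¹) : ↥P) ∈ B' :=
      B'.mul_mem (B'.inv_mem hw) (hB'n.conj_mem w hw ⟨b, hbP⟩)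
    have e : ((w⁻¹ * (⟨b, hbP⟩ * w * ⟨b, hbP⟩⁻¹) : ↥P) : Ω) = (w : Ω)⁻¹ * b * w * b⁻¹ := by
      show (w : Ω)⁻¹ * (b * w * b⁻¹) = _
      group
    rw [← e]
    apply hstep3 _ _ h1
    rw [e]
    exact A.mul_mem (h.conj_mem' hS (hPS w.2) hbA) (A.inv_mem hbA)
  -- step 5
  have hstep5 : ∀ b ∈ A, b ∈ P → b ∈ Z2 S := by
    intro b hbA hbP
    apply h.mem_Z2_of_comm hS hx'S hx'A hbA
    exact hstep4 b hbA hbP y₁ hx'B'
  -- step 6
  have hZ2P : Z2 S ≤ P := by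
    apply le_of_two_step p hS F hP.1 hrad Z2_le le_normalizer_Z2 (X := ZS S)
    · intro β _ y hy
      exact center_invariant h hS hPS hPna hxP hxA β hy
    · intro g hg _ y _ hyZ
      have := (CenterIdx.mem_ZS.mp hyZ).2 g (Z2_le hg)
      rw [this, mul_inv_cancel_right]
    · intro g hg _ y hy
      exact comm_mem_of_mem_Z2' hg (hPS hy)
  -- step 7
  have hZ2A : Z2 S ≤ A := by
    by_contra hcon
    exact hAP ((h.A_le_Z2_of_not_le hS hcon).trans hZ2P)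
  -- step 8
  have hPeq : P = Z2 S ⊔ Subgroup.zpowers x := by
    apply le_antisymm
    · intro y hy
      obtain ⟨i, a, ha, rfl⟩ := h.exists_pow_mul hS hxS hxA (hPS hy)
      have haP : a ∈ P := by
        have : a = (x ^ i)⁻¹ * (x ^ i * a) := by group
        rw [this]; exact P.mul_mem (P.inv_mem (P.pow_mem hxP i)) hy
      exact Subgroup.mul_mem _
        ((le_sup_right : Subgroup.zpowers x ≤ _) (Subgroup.pow_mem _ (Subgroup.mem_zpowers x) i))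
        ((le_sup_left : Z2 S ≤ _) (hstep5 a ha haP))
    · exact sup_le hZ2P (by rw [Subgroup.zpowers_le]; exact hxP)
  -- step 9
  obtain ⟨n, hnN, hnP⟩ := Fusion.exists_mem_normalizerIn_not_mem hS hPS hPneS
  have hnS : n ∈ S := (Subgroup.mem_inf.mp hnN).1
  have hnN' : n ∈ Subgroup.normalizer (P : Set Ω) := (Subgroup.mem_inf.mp hnN).2
  obtain ⟨i₀, a₀, ha₀A, hn_eq⟩ := h.exists_pow_mul hS hxS hxA hnS
  have ha₀N : a₀ ∈ Subgroup.normalizer (P : Set Ω) := by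
    have : a₀ = (x ^ i₀)⁻¹ * n := by rw [hn_eq]; group
    rw [this]
    exact Subgroup.mul_mem _
      (Subgroup.inv_mem _ (Subgroup.pow_mem _ (Subgroup.le_normalizer hxP) i₀)) hnN'
  have ha₀P : a₀ ∉ P := by
    intro ha
    apply hnP
    rw [hn_eq]
    exact P.mul_mem (P.pow_mem hxP i₀) ha
  have ha₀S := h.hAS ha₀A
  have hx'A₁ : ∀ a ∈ A, (y₁ : Ω)⁻¹ * a * y₁ ∈ A := fun a ha => h.conj_mem' hS hx'S ha
  obtain ⟨φ, hφ⟩ : ∃ φ : ↥A →* Ω, ∀ b : ↥A, φ b = (y₁ : Ω)⁻¹ * b * y₁ * (b : Ω)⁻¹ :=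
    ⟨commHom A h.hab (y₁ : Ω) hx'A₁, fun b => rfl⟩
  have hφP : ∀ b : ↥A, (b : Ω) ∈ Subgroup.normalizer (P : Set Ω) → φ b ∈ P := by
    intro b hbN
    rw [hφ]
    have h1 : (b : Ω) * y₁ * (b : Ω)⁻¹ ∈ P := (Subgroup.mem_normalizer_iff.mp hbN y₁).mp y₁.2
    have e : (y₁ : Ω)⁻¹ * (b : Ω) * y₁ * (b : Ω)⁻¹ = (y₁ : Ω)⁻¹ * ((b : Ω) * y₁ * (b : Ω)⁻¹) := by
      group
    rw [e]
    exact P.mul_mem (P.inv_mem y₁.2) h1
  have hφA : ∀ b : ↥A, φ b ∈ A := by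
    intro b
    rw [hφ]
    exact A.mul_mem (hx'A₁ b b.2) (A.inv_mem b.2)
  have hφZ : ∀ b : ↥A, φ b ∈ ZS S → (b : Ω) ∈ Z2 S := by
    intro b hb
    apply h.mem_Z2_of_comm hS hx'S hx'A b.2
    rw [hφ] at hb
    exact hb
  obtain ⟨c₀, hc₀⟩ : ∃ c₀ : Ω, c₀ = φ ⟨a₀, ha₀A⟩ := ⟨_, rfl⟩
  have hc₀P : c₀ ∈ P := by rw [hc₀]; exact hφP ⟨a₀, ha₀A⟩ ha₀N
  have hc₀A : c₀ ∈ A := by rw [hc₀]; exact hφA _
  have hc₀Z : c₀ ∉ ZS S := fun hcz => ha₀P (hZ2P (hφZ ⟨a₀, ha₀A⟩ (hc₀ ▸ hcz)))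
  have hc₀B' : (⟨c₀, hc₀P⟩ : ↥P) ∉ B' := fun hc => hc₀Z (hstep3 ⟨c₀, hc₀P⟩ hc₀A hc)
  have hdecomp : ∀ y ∈ A, y ∈ P → ∃ i : ℕ, ∃ w ∈ ZS S, y = c₀ ^ i * w := by
    intro y hyA hyP
    obtain ⟨i, w, hw, hyw⟩ := exists_pow_mul_of_index_prime B' hidxB' hc₀B' ⟨y, hyP⟩
    have hyw' : y = c₀ ^ i * (w : Ω) := by
      have := congrArg Subtype.val hyw
      simpa using this
    refine ⟨i, w, ?_, hyw'⟩
    apply hstep3 w _ hw
    have : (w : Ω) = (c₀ ^ i)⁻¹ * y := by rw [hyw']; group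
    rw [this]
    exact A.mul_mem (A.inv_mem (A.pow_mem hc₀A i)) hyA
  have hc₀p : c₀ ^ p ∈ ZS S := by
    have h1 := pow_mem_of_index_prime B' hidxB' (⟨c₀, hc₀P⟩ : ↥P)
    have h2 : (((⟨c₀, hc₀P⟩ : ↥P) ^ p : ↥P) : Ω) ∈ ZS S := by
      apply hstep3 _ _ h1
      rw [Subgroup.coe_pow]; exact A.pow_mem hc₀A p
    rw [Subgroup.coe_pow] at h2
    exact h2
  have hgenA : ∀ b ∈ A, b ∈ Subgroup.normalizer (P : Set Ω) →
      ∃ i : ℕ, ∃ c ∈ P, b = a₀ ^ i * c := by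
    intro b hbA hbN
    obtain ⟨i, w, hw, hbw⟩ := hdecomp (φ ⟨b, hbA⟩) (hφA _) (hφP ⟨b, hbA⟩ hbN)
    refine ⟨i, (a₀ ^ i)⁻¹ * b, ?_, by group⟩
    apply hZ2P
    have h1 := hφZ (((⟨a₀, ha₀A⟩ : ↥A) ^ i)⁻¹ * ⟨b, hbA⟩) (by
      rw [map_mul, map_inv, map_pow, ← hc₀, hbw]
      have : (c₀ ^ i)⁻¹ * (c₀ ^ i * w) = w := by group
      rw [this]; exact hw)
    simpa using h1
  have ha₀p : a₀ ^ p ∈ P := by
    apply hZ2P
    have h1 := hφZ ((⟨a₀, ha₀A⟩ : ↥A) ^ p) (by rw [map_pow, ← hc₀]; exact hc₀p)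
    simpa using h1
  have hidx : (P.subgroupOf (S ⊓ Subgroup.normalizer (P : Set Ω))).index = p := by
    apply index_eq_prime_of_gen (le_inf hPS Subgroup.le_normalizer) inf_le_right
      (Subgroup.mem_inf.mpr ⟨ha₀S, ha₀N⟩) ha₀P ha₀p
    intro k hk
    obtain ⟨j, b, hbA, rfl⟩ := h.exists_pow_mul hS hxS hxA hk.1
    have hbN : b ∈ Subgroup.normalizer (P : Set Ω) := by
      have : b = (x ^ j)⁻¹ * (x ^ j * b) := by group
      rw [this]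
      exact Subgroup.mul_mem _
        (Subgroup.inv_mem _ (Subgroup.pow_mem _ (Subgroup.le_normalizer hxP) j)) hk.2
    obtain ⟨i, c, hc, hbc⟩ := hgenA b hbA hbN
    refine ⟨(i : ℤ), x ^ j, P.pow_mem hxP j, c, hc, ?_⟩
    rw [zpow_natCast, hbc]; group
  refine ⟨hZ2A, hPeq, hidx, hZ2A, c₀, hstep5 c₀ hc₀A hc₀P, hc₀Z, hc₀p, fun b hb => ?_⟩
  obtain ⟨i, w, hw, hbw⟩ := hdecomp b (hZ2A hb) (hZ2P hb)
  exact ⟨(i : ℤ), w, hw, by rw [zpow_natCast]; exact hbw⟩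

end Cfsg.Agent.Lead.AbIdx
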