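import Mathlib
import Cfsg.Agent.Lead.AbIdxN
import Cfsg.Agent.Lead.MaximalClass

set_option autoImplicit false

/-! Consequences of the structure of the second centre: the numerical facts. -/

namespace Cfsg.Agent.Lead.AbIdx

open Cfsg Cfsg.FusionSystem
open Cfsg.Agent.Lead.CenterIdx (ZS)

variable {Ω : Type*} [Group Ω] {S A : Subgroup Ω}
variable [Finite S] {p : ℕ} [hp : Fact p.Prime]

omit [Finite S] in
lemma Setup.exists_not_mem (h : Setup p S A) : ∃ x ∈ S, x ∉ A := by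
  by_contra hcon
  push Not at hcon
  have : A.subgroupOf S = ⊤ := by
    rw [eq_top_iff]; intro s _; rw [Subgroup.mem_subgroupOf]; exact hcon s s.2
  have h1 := h.hidx
  rw [this, Subgroup.index_top] at h1
  exact hp.out.one_lt.ne h1

omit hp in
lemma le_normalizer_ZS : S ≤ Subgroup.normalizer (ZS S : Set Ω) := by
  intro s hs
  haveI : Finite ↥(ZS S) := Fusion.finite_of_le CenterIdx.ZS_le
  apply mem_normalizer_of_conj_mem_of_finite
  intro z hz
  have := (CenterIdx.mem_ZS.mp hz).2 s hs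
  rw [this, mul_inv_cancel_right]
  exact hz

/-- The centre has index `p` in the second centre. -/
theorem Out.index_ZS (o : Out p S A) : ((ZS S).subgroupOf (Z2 S)).index = p := by
  obtain ⟨t, ht, htZ, htp, hgen⟩ := o.hgen
  apply index_eq_prime_of_gen ZS_le_Z2 (Z2_le.trans le_normalizer_ZS) ht htZ htp
  intro b hb
  obtain ⟨i, w, hw, hbw⟩ := hgen b hb
  exact ⟨i, 1, Subgroup.one_mem _, w, hw, by rw [one_mul]; exact hbw⟩

/-- `Z(S) ∩ [S, S]` has order `p`. -/
theorem Out.card_inf (h : Setup p S A) (hS : IsPGroup p S) (o : Out p S A) :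
    Nat.card ↥(ZS S ⊓ (commutator ↥S).map S.subtype) = p := by
  obtain ⟨x, hxS, hxA⟩ := h.exists_not_mem
  obtain ⟨t, ht, htZ, htp, hgen⟩ := o.hgen
  have hxA₁ : ∀ a ∈ A, x⁻¹ * a * x ∈ A := fun a ha => h.conj_mem' hS hxS ha
  have htA : t ∈ A := o.hle ht
  have hcZ : x⁻¹ * t * x * t⁻¹ ∈ ZS S := comm_mem_of_mem_Z2 ht hxS
  have hcS' : x⁻¹ * t * x * t⁻¹ ∈ (commutator ↥S).map S.subtype :=
    mem_map_commutator hxS (h.hAS htA)
  have e3 : commHom A h.hab x hxA₁ ⟨t, htA⟩ = x⁻¹ * t * x * t⁻¹ := rfl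
  have heq : ZS S ⊓ (commutator ↥S).map S.subtype = Subgroup.zpowers (x⁻¹ * t * x * t⁻¹) := by
    apply le_antisymm
    · rintro y ⟨hyZ, w, hw, rfl⟩
      obtain ⟨b, hb⟩ := h.commutator_mem_range hS hxS hxA hxA₁ hw
      have hbZ : x⁻¹ * (b : Ω) * x * (b : Ω)⁻¹ ∈ ZS S := by
        rw [← commHom_apply h.hab x hxA₁ b, hb]; exact hyZ
      have hbZ2 := h.mem_Z2_of_comm hS hxS hxA b.2 hbZ
      obtain ⟨i, v, hv, hbv⟩ := hgen b hbZ2
      rw [Subgroup.mem_zpowers_iff]
      refine ⟨i, ?_⟩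
      have hvA : v ∈ A := h.ZS_le hS hv
      have e1 : b = (⟨t, htA⟩ : ↥A) ^ i * ⟨v, hvA⟩ := Subtype.ext (by rw [hbv]; simp)
      have e2 : commHom A h.hab x hxA₁ ⟨v, hvA⟩ = 1 := by
        rw [commHom_eq_one_iff]
        exact (CenterIdx.mem_ZS.mp hv).2 x hxS
      show _ = S.subtype w
      rw [Subgroup.coe_subtype, ← hb, e1, map_mul, map_zpow, e2, mul_one, e3]
    · rw [Subgroup.zpowers_le]
      exact ⟨hcZ, hcS'⟩
  rw [heq, Nat.card_zpowers]
  apply orderOf_eq_prime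
  · rw [← e3, ← map_pow, commHom_eq_one_iff]
    exact (CenterIdx.mem_ZS.mp htp).2 x hxS
  · intro hc1
    apply htZ
    apply h.mem_ZS_of_comm hS hxS hxA htA
    rw [← e3, commHom_eq_one_iff] at hc1
    exact hc1

/-- `Z(S)[S, S]` has index `p` in `A`. -/
theorem Out.index_sup (h : Setup p S A) (hS : IsPGroup p S) (o : Out p S A) :
    ((ZS S ⊔ (commutator ↥S).map S.subtype).subgroupOf A).index = p := by
  obtain ⟨x, hxS, hxA⟩ := h.exists_not_mem
  have hxA₁ : ∀ a ∈ A, x⁻¹ * a * x ∈ A := fun a ha => h.conj_mem' hS hxS ha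
  haveI : Finite ↥A := Fusion.finite_of_le h.hAS
  have hZA : ZS S ≤ A := h.ZS_le hS
  have hRange : (commHom A h.hab x hxA₁).range = (commutator ↥S).map S.subtype := by
    apply le_antisymm
    · rintro _ ⟨b, rfl⟩
      exact mem_map_commutator hxS (h.hAS b.2)
    · rintro _ ⟨w, hw, rfl⟩
      exact h.commutator_mem_range hS hxS hxA hxA₁ hw
  have hS'A : (commutator ↥S).map S.subtype ≤ A := by
    rw [← hRange]; exact range_le h.hab x hxA₁
  have hKer : (commHom A h.hab x hxA₁).ker = (ZS S).subgroupOf A := by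
    ext b
    rw [MonoidHom.mem_ker, commHom_eq_one_iff, Subgroup.mem_subgroupOf]
    exact (h.mem_ZS_iff hS hxS hxA b.2).symm
  rw [Subgroup.subgroupOf_sup hZA hS'A]
  obtain ⟨K, hK⟩ : ∃ K : Subgroup ↥A, K = (ZS S).subgroupOf A := ⟨_, rfl⟩
  obtain ⟨R, hR⟩ : ∃ R : Subgroup ↥A, R = ((commutator ↥S).map S.subtype).subgroupOf A :=
    ⟨_, rfl⟩
  rw [← hK, ← hR]
  haveI : K.Normal := by
    rw [hK, ← hKer]; exact MonoidHom.normal_ker _
  have h1 : K.index = Nat.card ↥((commutator ↥S).map S.subtype) := by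
    rw [hK, ← hKer, Subgroup.index_ker, hRange]
  have h2 : Nat.card ↥R = Nat.card ↥((commutator ↥S).map S.subtype) := by
    rw [hR]
    exact Nat.card_congr (Subgroup.subgroupOfEquivOfLe hS'A).toEquiv
  have h3 : K.relIndex (K ⊔ R) * (K ⊔ R).index = K.index :=
    Subgroup.relIndex_mul_index le_sup_left
  rw [Subgroup.relIndex_sup_left] at h3
  have h4 : Nat.card ↥((K ⊓ R).subgroupOf R) * (K ⊓ R).relIndex R = Nat.card ↥R :=
    Subgroup.card_mul_index _
  rw [Subgroup.inf_relIndex_right] at h4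
  have h5 : Nat.card ↥((K ⊓ R).subgroupOf R) = p := by
    rw [← o.card_inf h hS]
    have e1 : Nat.card ↥((K ⊓ R).subgroupOf R) = Nat.card ↥(K ⊓ R) :=
      Nat.card_congr (Subgroup.subgroupOfEquivOfLe inf_le_right).toEquiv
    have e2 : K ⊓ R = (ZS S ⊓ (commutator ↥S).map S.subtype).subgroupOf A := by
      rw [hK, hR]
      ext b
      simp only [Subgroup.mem_inf, Subgroup.mem_subgroupOf]
    have e3 : Nat.card ↥((ZS S ⊓ (commutator ↥S).map S.subtype).subgroupOf A) =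
        Nat.card ↥(ZS S ⊓ (commutator ↥S).map S.subtype) :=
      Nat.card_congr (Subgroup.subgroupOfEquivOfLe (inf_le_left.trans hZA)).toEquiv
    rw [e1, e2, e3]
  rw [h5] at h4
  have hRpos : 0 < Nat.card ↥R := Nat.card_pos
  have hj : 0 < K.relIndex R := by
    rcases Nat.eq_zero_or_pos (K.relIndex R) with h0 | h0
    · rw [h0, mul_zero] at h4; omega
    · exact h0
  have h6 : K.relIndex R * (K ⊔ R).index = K.relIndex R * p := by
    rw [h3, h1, ← h2, ← h4, mul_comm]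
  exact Nat.eq_of_mul_eq_mul_left hj h6

end Cfsg.Agent.Lead.AbIdx
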