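import Mathlib
import Cfsg.Agent.Lead.AbIdxO

set_option autoImplicit false

/-! `S / Z(S)` has maximal class; the main theorems on essential subgroups of a `p`-group with a
unique abelian subgroup of index `p`. -/

namespace Cfsg.Agent.Lead.AbIdx

open Cfsg Cfsg.FusionSystem
open Cfsg.Agent.Lead.CenterIdx (ZS)

variable {Ω : Type*} [Group Ω] {S A : Subgroup Ω}
variable [Finite S] {p : ℕ} [hp : Fact p.Prime]

/-- `S / Z(S)` has maximal class. -/
theorem Out.max_class (h : Setup p S A) (hS : IsPGroup p S) (o : Out p S A) (m : ℕ)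
    (hm : ((ZS S).subgroupOf S).index = p ^ m) (hm3 : 3 ≤ m) :
    ¬ Subgroup.lowerCentralSeries S (m - 2) ≤ ZS S := by
  obtain ⟨x, hxS, hxA⟩ := h.exists_not_mem
  obtain ⟨t, ht, htZ, htp, hgen⟩ := o.hgen
  obtain ⟨π, hπ⟩ : ∃ π : ↥S →* ↥S ⧸ Subgroup.center ↥S, π = QuotientGroup.mk' (Subgroup.center ↥S) :=
    ⟨_, rfl⟩
  have hπsurj : Function.Surjective π := by
    rw [hπ]; exact QuotientGroup.mk'_surjective _
  have hπ1 : ∀ s : ↥S, π s = 1 ↔ (s : Ω) ∈ ZS S := by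
    intro s
    rw [hπ, QuotientGroup.mk'_apply, QuotientGroup.eq_one_iff, ← CenterIdx.ZS_subgroupOf,
      Subgroup.mem_subgroupOf]
  have hcardX : Nat.card (↥S ⧸ Subgroup.center ↥S) = p ^ m := by
    rw [← hm, CenterIdx.ZS_subgroupOf, Subgroup.index_eq_card]
  -- the centre of the quotient
  have hC : ∀ s : ↥S, π s ∈ Subgroup.center (↥S ⧸ Subgroup.center ↥S) ↔ (s : Ω) ∈ Z2 S := by
    intro s
    rw [Subgroup.mem_center_iff, mem_Z2]
    constructor
    · intro hs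
      refine ⟨s.2, fun u hu => ?_⟩
      have h1 := hs (π ⟨u, hu⟩)
      have e : π (s * ⟨u, hu⟩ * s⁻¹ * ⟨u, hu⟩⁻¹) = 1 := by
        rw [map_mul, map_mul, map_mul, map_inv, map_inv, ← h1]
        group
      exact (hπ1 _).mp e
    · rintro ⟨_, hs⟩ g
      obtain ⟨u, rfl⟩ := hπsurj g
      have e := (hπ1 (s * u * s⁻¹ * u⁻¹)).mpr (hs u u.2)
      rw [map_mul, map_mul, map_mul, map_inv, map_inv] at e
      calc π u * π s = (π s * π u * (π s)⁻¹ * (π u)⁻¹)⁻¹ * (π s * π u) := by group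
        _ = π s * π u := by rw [e, inv_one, one_mul]
  have htS : t ∈ S := Z2_le ht
  have hxZ2 : x ∉ Z2 S := fun hx => hxA (o.hle hx)
  have hxpZ : x ^ p ∈ ZS S := by
    apply h.mem_ZS_of_comm hS hxS hxA (h.pow_mem hS hxS)
    rw [← pow_succ', ← pow_succ]
  -- the centre of the quotient has order `p`
  have hcardC : Nat.card ↥(Subgroup.center (↥S ⧸ Subgroup.center ↥S)) = p := by
    have heq : Subgroup.center (↥S ⧸ Subgroup.center ↥S) = Subgroup.zpowers (π ⟨t, htS⟩) := by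
      apply le_antisymm
      · intro k hk
        obtain ⟨s, rfl⟩ := hπsurj k
        obtain ⟨i, w, hw, hsw⟩ := hgen s ((hC s).mp hk)
        rw [Subgroup.mem_zpowers_iff]
        refine ⟨i, ?_⟩
        have e1 : s = (⟨t, htS⟩ : ↥S) ^ i * ⟨w, CenterIdx.ZS_le hw⟩ :=
          Subtype.ext (by rw [hsw]; simp)
        have e2 : π ⟨w, CenterIdx.ZS_le hw⟩ = 1 := (hπ1 _).mpr hw
        rw [e1, map_mul, map_zpow, e2, mul_one]
      · rw [Subgroup.zpowers_le]
        exact (hC _).mpr ht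
    rw [heq, Nat.card_zpowers]
    apply orderOf_eq_prime
    · rw [← map_pow, hπ1]
      exact htp
    · intro h1
      exact htZ ((hπ1 _).mp h1)
  -- the centralizer of the image of `x`
  obtain ⟨Q, hQ⟩ : ∃ Q : Subgroup (↥S ⧸ Subgroup.center ↥S),
      Q = Subgroup.centralizer ({π ⟨x, hxS⟩} : Set (↥S ⧸ Subgroup.center ↥S)) := ⟨_, rfl⟩
  have hQmem : ∀ k, k ∈ Q ↔ π ⟨x, hxS⟩ * k = k * π ⟨x, hxS⟩ := by
    intro k
    rw [hQ, Subgroup.mem_centralizer_iff]
    constructor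
    · intro hk
      exact hk _ (Set.mem_singleton _)
    · intro hk y hy
      rw [Set.mem_singleton_iff.mp hy]
      exact hk
  have hxQ : π ⟨x, hxS⟩ ∈ Q := (hQmem _).mpr rfl
  have hCQ : Subgroup.center (↥S ⧸ Subgroup.center ↥S) ≤ Q := by
    intro c hc
    rw [hQmem]
    exact (Subgroup.mem_center_iff.mp hc) _
  have hgenQ : ∀ k ∈ Q, ∃ i : ℕ, ∃ c ∈ Subgroup.center (↥S ⧸ Subgroup.center ↥S),
      k = π ⟨x, hxS⟩ ^ i * c := by
    intro k hk
    obtain ⟨g, rfl⟩ := hπsurj k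
    rw [hQmem] at hk
    obtain ⟨i, a, ha, hga⟩ := h.exists_pow_mul hS hxS hxA g.2
    have hz : (g : Ω) * x * (g : Ω)⁻¹ * x⁻¹ ∈ ZS S := by
      have e : π (g * ⟨x, hxS⟩ * g⁻¹ * ⟨x, hxS⟩⁻¹) = 1 := by
        rw [map_mul, map_mul, map_mul, map_inv, map_inv, ← hk]
        group
      exact (hπ1 _).mp e
    have haZ2 : a ∈ Z2 S := by
      apply h.mem_Z2_of_comm hS hxS hxA ha
      have e : x⁻¹ * a * x * a⁻¹ =
          (x ^ i * x)⁻¹ * ((x ^ i * a) * x * (x ^ i * a)⁻¹ * x⁻¹) * (x ^ i * x) := by group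
      rw [e, ← hga]
      have hcomm := (CenterIdx.mem_ZS.mp hz).2 (x ^ i * x) (S.mul_mem (S.pow_mem hxS i) hxS)
      rw [mul_assoc, ← hcomm, inv_mul_cancel_left]
      exact hz
    refine ⟨i, π ⟨a, h.hAS ha⟩, (hC _).mpr haZ2, ?_⟩
    rw [← map_pow, ← map_mul]
    congr 1
    exact Subtype.ext (by rw [hga]; simp)
  have hQself : Subgroup.centralizer (Q : Set (↥S ⧸ Subgroup.center ↥S)) = Q := by
    apply le_antisymm
    · intro k hk
      rw [hQmem]
      exact (Subgroup.mem_centralizer_iff.mp hk) _ hxQ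
    · intro k hk
      rw [Subgroup.mem_centralizer_iff]
      intro k' hk'
      obtain ⟨i, c, hc, rfl⟩ := hgenQ k hk
      obtain ⟨j, c', hc', rfl⟩ := hgenQ k' hk'
      rw [Subgroup.mem_center_iff] at hc hc'
      calc π ⟨x, hxS⟩ ^ j * c' * (π ⟨x, hxS⟩ ^ i * c)
          = π ⟨x, hxS⟩ ^ j * (c' * π ⟨x, hxS⟩ ^ i) * c := by group
        _ = π ⟨x, hxS⟩ ^ j * (π ⟨x, hxS⟩ ^ i * c') * c := by rw [hc' (π ⟨x, hxS⟩ ^ i)]
        _ = π ⟨x, hxS⟩ ^ (j + i) * (c' * c) := by rw [pow_add]; group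
        _ = π ⟨x, hxS⟩ ^ (i + j) * (c * c') := by rw [add_comm, hc c']
        _ = π ⟨x, hxS⟩ ^ i * (π ⟨x, hxS⟩ ^ j * c) * c' := by rw [pow_add]; group
        _ = π ⟨x, hxS⟩ ^ i * (c * π ⟨x, hxS⟩ ^ j) * c' := by rw [hc (π ⟨x, hxS⟩ ^ j)]
        _ = π ⟨x, hxS⟩ ^ i * c * (π ⟨x, hxS⟩ ^ j * c') := by group
  have hidxQ : ((Subgroup.center (↥S ⧸ Subgroup.center ↥S)).subgroupOf Q).index = p := by
    apply index_eq_prime_of_gen hCQ _ hxQ
    · intro hx
      exact hxZ2 ((hC _).mp hx)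
    · rw [← map_pow]
      have : π (⟨x, hxS⟩ ^ p) = 1 := (hπ1 _).mpr hxpZ
      rw [this]
      exact Subgroup.one_mem _
    · intro k hk
      obtain ⟨i, c, hc, hkc⟩ := hgenQ k hk
      exact ⟨(i : ℤ), 1, Subgroup.one_mem _, c, hc, by rw [one_mul, zpow_natCast]; exact hkc⟩
    · intro k _
      rw [Subgroup.mem_normalizer_iff]
      intro c
      constructor
      · intro hc
        exact (inferInstance : (Subgroup.center (↥S ⧸ Subgroup.center ↥S)).Normal).conj_mem c hc k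
      · intro hc
        have := (inferInstance : (Subgroup.center (↥S ⧸ Subgroup.center ↥S)).Normal).conj_mem _ hc k⁻¹
        have e : k⁻¹ * (k * c * k⁻¹) * k⁻¹⁻¹ = c := by group
        rwa [e] at this
  have hcardQ : Nat.card ↥Q = p ^ 2 := by
    have h1 := Subgroup.card_mul_index
      ((Subgroup.center (↥S ⧸ Subgroup.center ↥S)).subgroupOf Q)
    rw [hidxQ] at h1
    have h2 : Nat.card ↥((Subgroup.center (↥S ⧸ Subgroup.center ↥S)).subgroupOf Q) =
        Nat.card ↥(Subgroup.center (↥S ⧸ Subgroup.center ↥S)) :=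
      Nat.card_congr (Subgroup.subgroupOfEquivOfLe hCQ).toEquiv
    rw [h2, hcardC] at h1
    rw [← h1, pow_two]
  have hclass := Cfsg.Agent.Lead.nilpotencyClass_of_self_centralizing_sq (p := p) m
    (↥S ⧸ Subgroup.center ↥S) hcardX Q hcardQ hQself
  haveI : Group.IsNilpotent (↥S ⧸ Subgroup.center ↥S) :=
    (IsPGroup.of_card hcardX).isNilpotent
  intro hle
  have h1 : Subgroup.lowerCentralSeries (⊤ : Subgroup (↥S ⧸ Subgroup.center ↥S)) (m - 2) = ⊥ := by
    rw [← Subgroup.map_top_of_surjective π hπsurj, ← Subgroup.map_lowerCentralSeries, eq_bot_iff]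
    rintro _ ⟨y, hy, rfl⟩
    rw [Subgroup.mem_bot, hπ1]
    apply hle
    rw [← Subgroup.top_subtype_lowerCentralSeries]
    exact Subgroup.mem_map_of_mem _ hy
  rw [Subgroup.lowerCentralSeries_eq_bot_iff_nilpotencyClass_le, hclass] at h1
  omega

end Cfsg.Agent.Lead.AbIdx
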