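import Mathlib
import Cfsg.Agent.Lead.AbIdxP

set_option autoImplicit false

/-! The list of essential subgroups of a `p`-group with a unique abelian subgroup of index `p`,
and the resulting structure of the `p`-group. -/

namespace Cfsg.Agent.Lead.AbIdx

open Cfsg Cfsg.FusionSystem
open Cfsg.Agent.Lead.CenterIdx (ZS)

variable {Ω : Type*} [Group Ω] {S : Subgroup Ω}
variable [Finite S] {p : ℕ} [hp : Fact p.Prime]

omit [Finite S] hp in
lemma setup_of_hyp (hna : ¬ IsMulCommutative ↥S) (A : Subgroup Ω)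
    (hA : A ≤ S ∧ IsMulCommutative ↥A ∧ (A.subgroupOf S).index = p) : Setup p S A :=
  { hAS := hA.1
    hab := fun a ha b hb => congrArg Subtype.val (hA.2.1.is_comm.comm ⟨a, ha⟩ ⟨b, hb⟩)
    hidx := hA.2.2
    hna := by
      by_contra hcon
      push Not at hcon
      exact hna ⟨⟨fun s t => Subtype.ext (hcon s s.2 t t.2)⟩⟩ }

omit [Finite S] hp in
/-- An essential subgroup other than `A` is not inside `A`. -/
lemma exists_not_mem_of_essential {A : Subgroup Ω} (h : Setup p S A) (F : FusionSystem S)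
    {P : Subgroup Ω} (hP : F.IsEssential p P) (hPA : P ≠ A) : ∃ x ∈ P, x ∉ A := by
  have hPS := hP.1.1
  have hcen : centralizerIn S P ≤ P := hP.1.2 P (Fusion.isConj_refl F hPS)
  by_contra hcon
  push Not at hcon
  have hle : P ≤ A := hcon
  have hAP : A ≤ P := by
    intro a ha
    apply hcen
    exact ⟨h.hAS ha, Subgroup.mem_centralizer_iff.mpr (fun r hr => h.hab r (hle hr) a ha)⟩
  exact hPA (le_antisymm hle hAP)

/-- The case analysis. -/
theorem essential_cases (hS : IsPGroup p S) (F : FusionSystem S) (hF : F.IsSaturated p)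
    {A : Subgroup Ω} (h : Setup p S A)
    (huniq : ∀ B : Subgroup Ω, B ≤ S → (∀ a ∈ B, ∀ b ∈ B, a * b = b * a) →
      (B.subgroupOf S).index = p → B = A)
    {P : Subgroup Ω} (hP : F.IsEssential p P) (hPA : P ≠ A) :
    ((∃ x ∈ S, x ∉ A ∧ P = ZS S ⊔ Subgroup.zpowers x) ∨
      (Z2 S ≤ A ∧ ∃ x ∈ S, x ∉ A ∧ P = Z2 S ⊔ Subgroup.zpowers x)) ∧
    (P.subgroupOf (S ⊓ Subgroup.normalizer (P : Set Ω))).index = p ∧ Out p S A := by
  obtain ⟨x, hxP, hxA⟩ := exists_not_mem_of_essential h F hP hPA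
  have hPS := hP.1.1
  have hcen : centralizerIn S P ≤ P := hP.1.2 P (Fusion.isConj_refl F hPS)
  have hZP : ZS S ≤ P := by
    intro y hy
    apply hcen
    rw [CenterIdx.mem_ZS] at hy
    exact ⟨hy.1, Subgroup.mem_centralizer_iff.mpr (fun r hr => hy.2 r (hPS hr))⟩
  by_cases hPab : ∀ a ∈ P, ∀ b ∈ P, a * b = b * a
  · have hs : HSetup p S A P x :=
      { setup := h, hPS := hPS, hZP := hZP, hPab := hPab, hxP := hxP, hxA := hxA }
    obtain ⟨hidx, hout⟩ := hs.abelian_case hS F hF hP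
    exact ⟨Or.inl ⟨x, hPS hxP, hxA, hs.eq_sup hS⟩, hidx, hout huniq⟩
  · push Not at hPab
    obtain ⟨hZ2A, hPeq, hidx, hout⟩ := nonabelian_case h hS F hF hP hPab hxP hxA
    exact ⟨Or.inr ⟨hZ2A, x, hPS hxP, hxA, hPeq⟩, hidx, hout⟩

omit [Finite S] hp in
lemma huniq_of_hyp {A : Subgroup Ω}
    (huniq : ∀ B : Subgroup Ω, B ≤ S → IsMulCommutative ↥B → (B.subgroupOf S).index = p → B = A) :
    ∀ B : Subgroup Ω, B ≤ S → (∀ a ∈ B, ∀ b ∈ B, a * b = b * a) →
      (B.subgroupOf S).index = p → B = A :=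
  fun B hBS hab hidx =>
    huniq B hBS ⟨⟨fun a b => Subtype.ext (hab a a.2 b b.2)⟩⟩ hidx

theorem s5254 (hS : IsPGroup p S) (F : Cfsg.FusionSystem S) (hF : F.IsSaturated p)
    (hna : ¬ IsMulCommutative ↥S) (A : Subgroup Ω)
    (hA : A ≤ S ∧ IsMulCommutative ↥A ∧ (A.subgroupOf S).index = p)
    (huniq : ∀ B : Subgroup Ω, B ≤ S → IsMulCommutative ↥B → (B.subgroupOf S).index = p → B = A)
    (P : Subgroup Ω) (hP : F.IsEssential p P) :
    (P = A ∨ (∃ x ∈ S, x ∉ A ∧
        P = (S ⊓ Subgroup.centralizer (S : Set Ω)) ⊔ Subgroup.zpowers x) ∨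
      (((upperCentralSeries ↥S 2).map S.subtype) ≤ A ∧ ∃ x ∈ S, x ∉ A ∧
        P = ((upperCentralSeries ↥S 2).map S.subtype) ⊔ Subgroup.zpowers x)) ∧
    (P.subgroupOf (S ⊓ Subgroup.normalizer (P : Set Ω))).index = p := by
  have h := setup_of_hyp hna A hA
  by_cases hPA : P = A
  · refine ⟨Or.inl hPA, ?_⟩
    rw [hPA]
    have hSN : S ≤ Subgroup.normalizer (A : Set Ω) := by
      intro s hs
      haveI : Finite ↥A := Fusion.finite_of_le h.hAS
      apply mem_normalizer_of_conj_mem_of_finite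
      intro y hy
      exact h.conj_mem hS hs hy
    rw [inf_eq_left.mpr hSN]
    exact h.hidx
  · obtain ⟨hc, hidx, -⟩ := essential_cases hS F hF h (huniq_of_hyp huniq) hP hPA
    refine ⟨Or.inr ?_, hidx⟩
    rcases hc with hc | hc
    · exact Or.inl hc
    · exact Or.inr hc

theorem s5257 (hS : IsPGroup p S) (F : Cfsg.FusionSystem S) (hF : F.IsSaturated p)
    (hna : ¬ IsMulCommutative ↥S) (A : Subgroup Ω)
    (hA : A ≤ S ∧ IsMulCommutative ↥A ∧ (A.subgroupOf S).index = p)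
    (huniq : ∀ B : Subgroup Ω, B ≤ S → IsMulCommutative ↥B → (B.subgroupOf S).index = p → B = A)
    (P : Subgroup Ω) (hP : F.IsEssential p P) (hPA : P ≠ A) :
    ((upperCentralSeries ↥S 2).map S.subtype) ≤ A ∧
    Nat.card ↥((S ⊓ Subgroup.centralizer (S : Set Ω)) ⊓ ((commutator ↥S).map S.subtype)) = p ∧
    (((S ⊓ Subgroup.centralizer (S : Set Ω)) ⊔ ((commutator ↥S).map S.subtype)).subgroupOf
      A).index = p ∧
    (((S ⊓ Subgroup.centralizer (S : Set Ω))).subgroupOf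
      ((upperCentralSeries ↥S 2).map S.subtype)).index = p ∧
    ∀ m : ℕ, ((S ⊓ Subgroup.centralizer (S : Set Ω)).subgroupOf S).index = p ^ m → 3 ≤ m →
      ¬ Subgroup.lowerCentralSeries S (m - 2) ≤ (S ⊓ Subgroup.centralizer (S : Set Ω)) := by
  have h := setup_of_hyp hna A hA
  obtain ⟨-, -, o⟩ := essential_cases hS F hF h (huniq_of_hyp huniq) hP hPA
  exact ⟨o.hle, o.card_inf h hS, o.index_sup h hS, o.index_ZS,
    fun m hm hm3 => o.max_class h hS m hm hm3⟩

end Cfsg.Agent.Lead.AbIdx
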