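import Mathlib
import Cfsg.Agent.Helper1.Basic
import Cfsg.Agent.Helper1.Hall
import Cfsg.Agent.Helper1.WielandtNilpHall
import Cfsg.Agent.Helper6.BurnsideSimple

set_option autoImplicit false

/-!
Groups in which a Sylow 2-subgroup has an abelian complement: solvability and inheritance
to subgroups and quotients.
-/

namespace Cfsg.Agent.Lead.AbelCompl

open scoped Pointwise

universe u

/-- `X` has an abelian Hall `2'`-subgroup. -/
def HasAH (X : Type*) [Group X] : Prop :=
  ∃ D : Subgroup X, (∀ a ∈ D, ∀ b ∈ D, a * b = b * a) ∧ Odd (Nat.card D) ∧ ∃ k : ℕ, D.index = 2 ^ k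

variable {X : Type u} [Group X] [Finite X]

theorem hasAH_of_complement (S : Sylow 2 X) (C : Subgroup X) (hC : IsMulCommutative ↥C)
    (hSC : Subgroup.IsComplement' (S : Subgroup X) C) : HasAH X := by
  have hmul := hSC.card_mul_card
  have hSi : (S : Subgroup X).index = Nat.card C := by
    have h1 := (S : Subgroup X).card_mul_index
    rw [← hmul] at h1
    exact Nat.eq_of_mul_eq_mul_left Nat.card_pos h1
  have hCi : C.index = Nat.card S := by
    have h1 := C.card_mul_index
    rw [← hmul, mul_comm] at h1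
    exact Nat.eq_of_mul_eq_mul_right Nat.card_pos h1
  refine ⟨C, ?_, ?_, ?_⟩
  · intro a ha b hb
    have := hC.is_comm.comm ⟨a, ha⟩ ⟨b, hb⟩
    exact congrArg Subtype.val this
  · rw [← Nat.not_even_iff_odd, even_iff_two_dvd, ← hSi]
    exact S.not_dvd_index
  · obtain ⟨n, hn⟩ := (IsPGroup.iff_card.1 S.isPGroup')
    exact ⟨n, by rw [hCi, hn]⟩

/-- From an abelian Hall `2'`-subgroup, a Sylow `2`-subgroup with abelian complement. -/
theorem complement_of_hasAH (h : HasAH X) :
    ∃ (P : Sylow 2 X) (D : Subgroup X), IsMulCommutative ↥D ∧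
      Subgroup.IsComplement' (P : Subgroup X) D := by
  obtain ⟨D, hDc, hDodd, k, hk⟩ := h
  obtain ⟨P⟩ : Nonempty (Sylow 2 X) := inferInstance
  refine ⟨P, D, ⟨⟨fun a b => Subtype.ext (hDc a a.2 b b.2)⟩⟩, ?_⟩
  obtain ⟨n, hn⟩ := (IsPGroup.iff_card.1 P.isPGroup')
  have hcop : Nat.Coprime (Nat.card (P : Subgroup X)) (Nat.card D) := by
    rw [hn]
    exact Nat.Coprime.pow_left _ (Nat.coprime_two_left.2 hDodd)
  apply Subgroup.isComplement'_of_coprime _ hcop
  -- |P| = 2^k
  have h1 := D.card_mul_index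
  rw [hk] at h1
  have h2 := (P : Subgroup X).card_mul_index
  have hPi : ¬ 2 ∣ (P : Subgroup X).index := P.not_dvd_index
  -- 2^n * index P = |D| * 2^k, with index P and |D| odd
  rw [hn, ← h1] at h2
  have hnk : n = k := by
    have hd1 : 2 ^ n ∣ 2 ^ k := by
      have : 2 ^ n ∣ Nat.card D * 2 ^ k := ⟨_, h2.symm⟩
      exact (Nat.Coprime.pow_left n (Nat.coprime_two_left.2 hDodd)).dvd_of_dvd_mul_left this
    have hd2 : 2 ^ k ∣ 2 ^ n := by
      have : 2 ^ k ∣ 2 ^ n * (P : Subgroup X).index := ⟨Nat.card D, by rw [h2, mul_comm]⟩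
      have hodd : Odd (P : Subgroup X).index := by
        rw [← Nat.not_even_iff_odd, even_iff_two_dvd]; exact hPi
      exact (Nat.Coprime.pow_left k (Nat.coprime_two_left.2 hodd)).dvd_of_dvd_mul_right this
    have h3 := (Nat.pow_dvd_pow_iff_le_right (by norm_num : 1 < 2)).1 hd1
    have h4 := (Nat.pow_dvd_pow_iff_le_right (by norm_num : 1 < 2)).1 hd2
    omega
  rw [hn, hnk, mul_comm]
  exact h1

/-- A divisor of a power of two is a power of two. -/
theorem exists_pow_of_dvd {m k : ℕ} (h : m ∣ 2 ^ k) : ∃ j : ℕ, m = 2 ^ j := by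
  obtain ⟨j, -, hj⟩ := (Nat.dvd_prime_pow Nat.prime_two).1 h
  exact ⟨j, hj⟩

/-- second isomorphism theorem, numerically: `|N : D ∩ N|` divides `|X : D|` for `N` normal. -/
theorem relIndex_dvd_index_of_normal_right (D N : Subgroup X) [N.Normal] :
    D.relIndex N ∣ D.index := by
  have h1 : D.relIndex N = D.relIndex (D ⊔ N) := by
    -- cardinal arithmetic
    have e1 : N.relIndex (D ⊔ N) * Nat.card N = Nat.card (D ⊔ N : Subgroup X) := by
      have := (N.subgroupOf (D ⊔ N)).index_mul_card
      rwa [Cfsg.Agent.Helper1.card_subgroupOf_of_le le_sup_right] at this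
    have e2 : N.relIndex D * Nat.card (N ⊓ D : Subgroup X) = Nat.card D := by
      have := (N.subgroupOf D).index_mul_card
      rwa [Cfsg.Agent.Helper1.card_subgroupOf] at this
    have e3 : D.relIndex N * Nat.card (D ⊓ N : Subgroup X) = Nat.card N := by
      have := (D.subgroupOf N).index_mul_card
      rwa [Cfsg.Agent.Helper1.card_subgroupOf] at this
    have e4 : D.relIndex (D ⊔ N) * Nat.card D = Nat.card (D ⊔ N : Subgroup X) := by
      have := (D.subgroupOf (D ⊔ N)).index_mul_card
      rwa [Cfsg.Agent.Helper1.card_subgroupOf_of_le le_sup_left] at this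
    have e5 : N.relIndex (D ⊔ N) = N.relIndex D := Subgroup.relIndex_sup_right D N
    rw [e5] at e1
    rw [inf_comm] at e2
    have hpos1 : 0 < N.relIndex D := by
      rcases Nat.eq_zero_or_pos (N.relIndex D) with h | h
      · rw [h, zero_mul] at e2
        exact absurd e2.symm (Nat.card_pos).ne'
      · exact h
    have hpos2 : 0 < Nat.card (D ⊓ N : Subgroup X) := Nat.card_pos
    -- relIndex D N * relD * cardInf = relD * cardN = card sup = relIndex D sup * card D
    --   = relIndex D sup * relD * cardInf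
    have : D.relIndex N * (N.relIndex D * Nat.card (D ⊓ N : Subgroup X)) =
        D.relIndex (D ⊔ N) * (N.relIndex D * Nat.card (D ⊓ N : Subgroup X)) := by
      rw [e2, e4, ← e1, ← e3]
      rw [← e2]
      ring
    exact Nat.eq_of_mul_eq_mul_right (Nat.mul_pos hpos1 hpos2) this
  rw [h1]
  exact Subgroup.relIndex_dvd_index_of_le le_sup_left

theorem hasAH_normal (h : HasAH X) (N : Subgroup X) [N.Normal] : HasAH N := by
  obtain ⟨D, hDc, hDodd, k, hk⟩ := h
  refine ⟨D.subgroupOf N, ?_, ?_, ?_⟩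
  · intro a ha b hb
    apply Subtype.ext
    exact hDc a ha b hb
  · have hdvd : Nat.card (D.subgroupOf N) ∣ Nat.card D := by
      rw [Cfsg.Agent.Helper1.card_subgroupOf]
      exact Subgroup.card_dvd_of_le inf_le_left
    exact Odd.of_dvd_nat hDodd hdvd
  · have h1 : (D.subgroupOf N).index ∣ 2 ^ k := by
      rw [← hk]
      exact relIndex_dvd_index_of_normal_right D N
    exact exists_pow_of_dvd h1

theorem hasAH_quotient (h : HasAH X) (N : Subgroup X) [N.Normal] : HasAH (X ⧸ N) := by
  obtain ⟨D, hDc, hDodd, k, hk⟩ := h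
  refine ⟨D.map (QuotientGroup.mk' N), ?_, ?_, ?_⟩
  · rintro _ ⟨a, ha, rfl⟩ _ ⟨b, hb, rfl⟩
    rw [← map_mul, ← map_mul, hDc a ha b hb]
  · have hdvd : Nat.card (D.map (QuotientGroup.mk' N)) ∣ Nat.card D :=
      Subgroup.card_map_dvd D (QuotientGroup.mk' N)
    exact Odd.of_dvd_nat hDodd hdvd
  · have h1 : (D.map (QuotientGroup.mk' N)).index ∣ 2 ^ k := by
      rw [← hk]
      exact Subgroup.index_map_dvd D (QuotientGroup.mk'_surjective N)
    exact exists_pow_of_dvd h1

/-- A simple group with an abelian Hall `2'`-subgroup has prime order. -/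
theorem prime_card_of_simple (h : HasAH X) [IsSimpleGroup X] : (Nat.card X).Prime := by
  obtain ⟨D, hDc, hDodd, k, hk⟩ := h
  by_cases hD : D = ⊥
  · -- `X` is a 2-group
    have hcard : Nat.card X = 2 ^ k := by
      rw [← hk, hD, Subgroup.index_bot]
    haveI : Fact (Nat.Prime 2) := ⟨Nat.prime_two⟩
    have hP : IsPGroup 2 X := IsPGroup.of_card hcard
    haveI : Nontrivial X := IsSimpleGroup.toNontrivial
    have hc := hP.center_nontrivial
    obtain ⟨⟨x, hx⟩, hx1⟩ := exists_ne (1 : Subgroup.center X)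
    have hx1' : x ≠ 1 := fun h => hx1 (Subtype.ext h)
    have hcent : Subgroup.centralizer ({x} : Set X) = ⊤ := by
      rw [eq_top_iff]
      intro g _
      rw [Subgroup.mem_centralizer_iff]
      intro y hy
      rw [Set.mem_singleton_iff] at hy
      rw [hy]
      exact (Subgroup.mem_center_iff.1 hx g).symm
    exact Cfsg.Agent.Helper6.prime_card_of_simple_of_class_prime_pow 2 0 Nat.prime_two x hx1'
      (by rw [hcent, Subgroup.index_top, pow_zero])
  · obtain ⟨x, hxD, hx1⟩ : ∃ x ∈ D, x ≠ 1 := by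
      obtain ⟨x, hx⟩ := (Subgroup.ne_bot_iff_exists_ne_one).1 hD
      exact ⟨(x : X), x.2, fun h => hx (Subtype.ext h)⟩
    have hle : D ≤ Subgroup.centralizer ({x} : Set X) := by
      intro d hd
      rw [Subgroup.mem_centralizer_iff]
      intro y hy
      rw [Set.mem_singleton_iff] at hy
      rw [hy]
      exact hDc x hxD d hd
    have hdvd : (Subgroup.centralizer ({x} : Set X)).index ∣ 2 ^ k := by
      rw [← hk]; exact Subgroup.index_dvd_of_le hle
    obtain ⟨j, hj⟩ := exists_pow_of_dvd hdvd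
    exact Cfsg.Agent.Helper6.prime_card_of_simple_of_class_prime_pow 2 j Nat.prime_two x hx1 hj

theorem solvable_aux : ∀ (n : ℕ) (X : Type u) [Group X] [Finite X], Nat.card X = n → HasAH X →
    Group.IsSolvable X := by
  intro n
  induction n using Nat.strong_induction_on with
  | _ n ih =>
  intro X _ _ hn h
  by_cases hsub : Subsingleton X
  · infer_instance
  rw [not_subsingleton_iff_nontrivial] at hsub
  by_cases hex : ∃ N : Subgroup X, N.Normal ∧ N ≠ ⊥ ∧ N ≠ ⊤
  · obtain ⟨N, hN, hNbot, hNtop⟩ := hex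
    haveI := hN
    have hNcard : Nat.card N < n := by
      rw [← hn]
      apply lt_of_le_of_ne (Subgroup.card_le_card_group N)
      intro h
      exact hNtop (Subgroup.card_eq_iff_eq_top N |>.mp h)
    have hQcard : Nat.card (X ⧸ N) < n := by
      rw [← hn, ← Subgroup.index_eq_card, ← N.index_mul_card]
      have h1 : 1 < Nat.card N := by
        rw [Finite.one_lt_card_iff_nontrivial]
        exact (Subgroup.nontrivial_iff_ne_bot N).mpr hNbot
      have h2 : 0 < N.index := Nat.pos_of_ne_zero Subgroup.index_ne_zero_of_finite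
      nlinarith
    have hN1 : Group.IsSolvable N := ih _ hNcard N rfl (hasAH_normal h N)
    have hN2 : Group.IsSolvable (X ⧸ N) := ih _ hQcard (X ⧸ N) rfl (hasAH_quotient h N)
    exact (Group.isSolvable_iff_subgroup_quotient N).mpr ⟨hN1, hN2⟩
  · push Not at hex
    haveI : IsSimpleGroup X :=
      { exists_pair_ne := exists_pair_ne X
        eq_bot_or_eq_top_of_normal := by
          intro N hN
          by_cases h : N = ⊥
          · exact Or.inl h
          · exact Or.inr (hex N hN h) }
    have hprime := prime_card_of_simple h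
    haveI : Fact (Nat.card X).Prime := ⟨hprime⟩
    haveI : IsCyclic X := isCyclic_of_prime_card rfl
    exact Group.isSolvable_of_comm (fun a b => IsCyclic.commGroup.mul_comm a b)

theorem solvable (h : HasAH X) : Group.IsSolvable X := solvable_aux _ X rfl h

theorem hasAH_subgroup (h : HasAH X) (L : Subgroup X) : HasAH L := by
  haveI hsolv : Group.IsSolvable X := solvable h
  obtain ⟨D, hDc, hDodd, k, hk⟩ := h
  have hHall := Cfsg.Agent.Helper1.hallProp_of_solvable (Nat.card L) L rfl
  have hLpos : Nat.card L ≠ 0 := Nat.card_pos.ne'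
  obtain ⟨j, m, hm, hjm⟩ := Nat.exists_eq_two_pow_mul_odd hLpos
  have hcop : Nat.Coprime m (2 ^ j) :=
    (Nat.Coprime.pow_left j (Nat.coprime_two_left.2 hm)).symm
  obtain ⟨-, hdom⟩ := hHall m (2 ^ j) (by rw [hjm, mul_comm]) hcop
  obtain ⟨E, hEcard, -⟩ := hdom ⊥ (by rw [Subgroup.card_bot]; exact Nat.coprime_one_left _)
  -- the image of `E` in `X` lies in a conjugate of `D`
  have hDnil : Group.IsNilpotent D := by
    letI : CommGroup D :=
      { (inferInstance : Group D) with mul_comm := fun a b => Subtype.ext (hDc a a.2 b b.2) }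
    infer_instance
  have hDhall : (Nat.card D).Coprime D.index := by
    rw [hk]
    exact (Nat.Coprime.pow_left k (Nat.coprime_two_left.2 hDodd)).symm
  have hE'card : Nat.card (E.map L.subtype) = m := by
    rw [Subgroup.card_map_of_injective L.subtype_injective, hEcard]
  have hprimes : ∀ p : ℕ, p.Prime → p ∣ Nat.card (E.map L.subtype) → p ∣ Nat.card D := by
    intro p hp hpd
    rw [hE'card] at hpd
    have hp2 : p ≠ 2 := by
      rintro rfl
      exact (Nat.not_even_iff_odd.2 hm) (even_iff_two_dvd.2 hpd)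
    have h1 : p ∣ Nat.card X := by
      have h2 : m ∣ Nat.card X := by
        rw [← hE'card]; exact Subgroup.card_subgroup_dvd_card _
      exact hpd.trans h2
    rw [← D.card_mul_index, hk] at h1
    rcases (Nat.Prime.dvd_mul hp).1 h1 with h3 | h3
    · exact h3
    · exact absurd ((Nat.prime_dvd_prime_iff_eq hp Nat.prime_two).1 (hp.dvd_of_dvd_pow h3)) hp2
  obtain ⟨x, hx⟩ := Cfsg.Agent.Helper1.wielandt_nilpotent_hall D (E.map L.subtype) hDnil hDhall
    hprimes
  refine ⟨E, ?_, by rw [hEcard]; exact hm, ⟨j, ?_⟩⟩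
  · intro a ha b hb
    have ha' : (a : X) ∈ MulAut.conj x • D := hx ⟨a, ha, rfl⟩
    have hb' : (b : X) ∈ MulAut.conj x • D := hx ⟨b, hb, rfl⟩
    obtain ⟨d₁, hd₁, h1⟩ := ha'
    obtain ⟨d₂, hd₂, h2⟩ := hb'
    apply Subtype.ext
    have h1' : x * d₁ * x⁻¹ = (a : X) := h1
    have h2' : x * d₂ * x⁻¹ = (b : X) := h2
    rw [Subgroup.coe_mul, Subgroup.coe_mul, ← h1', ← h2']
    have := hDc d₁ hd₁ d₂ hd₂
    calc x * d₁ * x⁻¹ * (x * d₂ * x⁻¹) = x * (d₁ * d₂) * x⁻¹ := by group
      _ = x * (d₂ * d₁) * x⁻¹ := by rw [this]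
      _ = x * d₂ * x⁻¹ * (x * d₁ * x⁻¹) := by group
  · have h1 := E.index_mul_card
    rw [hEcard, hjm] at h1
    exact Nat.eq_of_mul_eq_mul_right hm.pos h1

theorem main {H : Type u} [Group H] [Finite H]
    (S : Sylow 2 H) (C : Subgroup H) (hC : IsMulCommutative ↥C)
    (hSC : Subgroup.IsComplement' (S : Subgroup H) C) :
    Group.IsSolvable H ∧
    (∀ L : Subgroup H, ∃ (P : Sylow 2 ↥L) (D : Subgroup ↥L), IsMulCommutative ↥D ∧
      Subgroup.IsComplement' (P : Subgroup ↥L) D) ∧
    (∀ (N : Subgroup H) [N.Normal], ∃ (P : Sylow 2 (H ⧸ N)) (D : Subgroup (H ⧸ N)),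
      IsMulCommutative ↥D ∧ Subgroup.IsComplement' (P : Subgroup (H ⧸ N)) D) := by
  have h := hasAH_of_complement S C hC hSC
  refine ⟨solvable h, ?_, ?_⟩
  · intro L
    exact complement_of_hasAH (hasAH_subgroup h L)
  · intro N _
    exact complement_of_hasAH (hasAH_quotient h N)

end Cfsg.Agent.Lead.AbelCompl
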