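import Mathlib

set_option autoImplicit false

namespace Cfsg.Agent.Lead.AbelPermBound

/-- Homogeneous two-variable AM-GM: `(j+1) u^j v ≤ j u^(j+1) + v^(j+1)`. -/
theorem amgm_int (j : ℕ) (u v : ℤ) (hu : 0 ≤ u) (hv : 0 ≤ v) :
    ((j : ℤ) + 1) * u ^ j * v ≤ (j : ℤ) * u ^ (j + 1) + v ^ (j + 1) := by
  induction j with
  | zero => simp
  | succ j ih =>
    have h1 : 0 ≤ (u - v) * (u ^ (j + 1) - v ^ (j + 1)) := by
      rcases le_total u v with h | h
      · have : u ^ (j + 1) ≤ v ^ (j + 1) := pow_le_pow_left₀ hu h _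
        exact mul_nonneg_of_nonpos_of_nonpos (by linarith) (by linarith)
      · have : v ^ (j + 1) ≤ u ^ (j + 1) := pow_le_pow_left₀ hv h _
        exact mul_nonneg (by linarith) (by linarith)
    have h2 : 0 ≤ u * ((j : ℤ) * u ^ (j + 1) + v ^ (j + 1) - ((j : ℤ) + 1) * u ^ j * v) :=
      mul_nonneg hu (by linarith)
    have h3 : ((j + 1 : ℕ) : ℤ) * u ^ (j + 1 + 1) + v ^ (j + 1 + 1) -
        (((j + 1 : ℕ) : ℤ) + 1) * u ^ (j + 1) * v =
        u * ((j : ℤ) * u ^ (j + 1) + v ^ (j + 1) - ((j : ℤ) + 1) * u ^ j * v) +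
          (u - v) * (u ^ (j + 1) - v ^ (j + 1)) := by
      push_cast
      ring
    linarith

/-- One-step inequality: `(j+1)^(j+1) X^j y ≤ j^j (X+y)^(j+1)`. -/
theorem one_step (j X y : ℕ) : (j + 1) ^ (j + 1) * X ^ j * y ≤ j ^ j * (X + y) ^ (j + 1) := by
  rcases Nat.eq_zero_or_pos j with rfl | hj
  · simp
  · have h := amgm_int j (((j + 1) * X : ℕ) : ℤ) ((j * (X + y) : ℕ) : ℤ) (Int.natCast_nonneg _)
      (Int.natCast_nonneg _)
    have h' : (j + 1) * ((j + 1) * X) ^ j * (j * (X + y)) ≤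
        j * ((j + 1) * X) ^ (j + 1) + (j * (X + y)) ^ (j + 1) := by
      exact_mod_cast h
    have e1 : (j + 1) * ((j + 1) * X) ^ j * (j * (X + y)) =
        j * ((j + 1) * X) ^ (j + 1) + j * ((j + 1) ^ (j + 1) * X ^ j * y) := by
      rw [mul_pow, mul_pow]; ring
    have e2 : (j * (X + y)) ^ (j + 1) = j * (j ^ j * (X + y) ^ (j + 1)) := by
      rw [mul_pow]; ring
    rw [e1, e2] at h'
    have h3 : j * ((j + 1) ^ (j + 1) * X ^ j * y) ≤ j * (j ^ j * (X + y) ^ (j + 1)) := by omega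
    exact Nat.le_of_mul_le_mul_left h3 hj

/-- The multi-step inequality. -/
theorem multi_step (p : ℕ) (hp : 2 ≤ p) : ∀ (c : ℕ), 1 ≤ c → ∀ (k' N a : ℕ), c ≤ a →
    (k' + c) ^ (k' + c) * N ^ k' * p ^ a ≤ k' ^ k' * (N + p ^ a) ^ (k' + c) := by
  intro c hc
  induction c, hc using Nat.le_induction with
  | base =>
    intro k' N a _
    exact one_step k' N (p ^ a)
  | succ c hc ih =>
    intro k' N a hca
    have ha2 : 2 ≤ a := by omega
    have h1 := one_step k' N p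
    have h2 := ih (k' + 1) (N + p) (a - 1) (by omega)
    have hpa : p ^ a = p * p ^ (a - 1) := by
      rw [← pow_succ']; congr 1; omega
    have hsum : N + p + p ^ (a - 1) ≤ N + p ^ a := by
      rw [hpa]
      have h3 : 2 ≤ p ^ (a - 1) := by
        calc 2 ≤ p := hp
          _ = p ^ 1 := (pow_one p).symm
          _ ≤ p ^ (a - 1) := Nat.pow_le_pow_right (by omega) (by omega)
      nlinarith
    have e : k' + (c + 1) = k' + 1 + c := by ring
    rw [e]
    have hpos : 0 < (k' + 1) ^ (k' + 1) := pow_pos (by omega) _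
    apply Nat.le_of_mul_le_mul_left _ hpos
    calc (k' + 1) ^ (k' + 1) * ((k' + 1 + c) ^ (k' + 1 + c) * N ^ k' * p ^ a)
        = (k' + 1 + c) ^ (k' + 1 + c) * p ^ (a - 1) * ((k' + 1) ^ (k' + 1) * N ^ k' * p) := by
          rw [hpa]; ring
      _ ≤ (k' + 1 + c) ^ (k' + 1 + c) * p ^ (a - 1) * (k' ^ k' * (N + p) ^ (k' + 1)) :=
          Nat.mul_le_mul_left _ h1
      _ = k' ^ k' * ((k' + 1 + c) ^ (k' + 1 + c) * (N + p) ^ (k' + 1) * p ^ (a - 1)) := by ring
      _ ≤ k' ^ k' * ((k' + 1) ^ (k' + 1) * (N + p + p ^ (a - 1)) ^ (k' + 1 + c)) :=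
          Nat.mul_le_mul_left _ h2
      _ ≤ k' ^ k' * ((k' + 1) ^ (k' + 1) * (N + p ^ a) ^ (k' + 1 + c)) := by
          apply Nat.mul_le_mul_left
          apply Nat.mul_le_mul_left
          exact Nat.pow_le_pow_left hsum _
      _ = (k' + 1) ^ (k' + 1) * (k' ^ k' * (N + p ^ a) ^ (k' + 1 + c)) := by ring

end Cfsg.Agent.Lead.AbelPermBound
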