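import Mathlib
import Cfsg.Agent.Lead.AbelPermBoundA

set_option autoImplicit false

namespace Cfsg.Agent.Lead.AbelPermBound

universe u v

theorem card_omega {B : Type*} [CommGroup B] (p : ℕ) :
    Nat.card {x : B // x ^ p = 1} = Nat.card (powMonoidHom p : B →* B).ker :=
  Nat.card_congr (Equiv.subtypeEquivRight (fun x => by
    rw [MonoidHom.mem_ker, powMonoidHom_apply]))

theorem exists_omega_pow {B : Type*} [CommGroup B] [Finite B] (p : ℕ) [Fact p.Prime]
    (hB : IsPGroup p B) : ∃ k, Nat.card {x : B // x ^ p = 1} = p ^ k := by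
  rw [card_omega]
  exact IsPGroup.iff_card.mp (hB.to_subgroup _)

theorem self_pow_pos (k : ℕ) : 0 < k ^ k := by
  rcases Nat.eq_zero_or_pos k with rfl | h
  · simp
  · exact pow_pos h k

theorem key (p : ℕ) [hp : Fact p.Prime] : ∀ (n : ℕ) (A : Type u) [CommGroup A] [Finite A]
    (Ω : Type v) [Finite Ω] [MulAction A Ω],
    Nat.card Ω = n → IsPGroup p A → (∀ g : A, (∀ x : Ω, g • x = x) → g = 1) →
    ∀ k : ℕ, Nat.card {x : A // x ^ p = 1} = p ^ k → Nat.card A * k ^ k ≤ n ^ k := by
  intro n
  induction n using Nat.strong_induction_on with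
  | _ n ih =>
  intro A _ _ Ω _ _ hn hA hfaith k hk
  classical
  have hp2 : 2 ≤ p := hp.out.two_le
  by_cases htriv : ∀ (g : A) (x : Ω), g • x = x
  · have h1 : ∀ g : A, g = 1 := fun g => hfaith g (htriv g)
    have hsub : Subsingleton A := ⟨fun a b => (h1 a).trans (h1 b).symm⟩
    have hcard : Nat.card A = 1 := Nat.card_unique
    have hsub2 : Subsingleton {x : A // x ^ p = 1} := inferInstance
    have hne2 : Nonempty {x : A // x ^ p = 1} := ⟨⟨1, one_pow p⟩⟩
    have hc2 : Nat.card {x : A // x ^ p = 1} = 1 := Nat.card_unique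
    have hk0 : k = 0 := by
      rw [hc2] at hk
      rcases Nat.eq_zero_or_pos k with h | h
      · exact h
      · exfalso
        have : 2 ≤ p ^ k := le_trans hp2 (Nat.le_self_pow (by omega) p)
        omega
    subst hk0
    simp
  · push Not at htriv
    obtain ⟨g₀, ω, hgω⟩ := htriv
    obtain ⟨O, hOdef⟩ : ∃ O : Set Ω, O = MulAction.orbit A ω := ⟨_, rfl⟩
    obtain ⟨K, hKdef⟩ : ∃ K : Subgroup A, K = MulAction.stabilizer A ω := ⟨_, rfl⟩
    have hKO : ∀ g ∈ K, ∀ x ∈ O, g • x = x := by
      intro g hg x hx
      rw [hOdef] at hx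
      rw [hKdef, MulAction.mem_stabilizer_iff] at hg
      obtain ⟨h, rfl⟩ := hx
      show g • (h • ω) = h • ω
      rw [smul_smul, mul_comm, ← smul_smul, hg]
    -- the complement of the orbit as a sub-action
    let S : SubMulAction A Ω :=
      { carrier := Oᶜ
        smul_mem' := by
          intro g x hx hgx
          apply hx
          rw [hOdef] at hgx ⊢
          obtain ⟨a, ha⟩ := hgx
          refine ⟨g⁻¹ * a, ?_⟩
          show (g⁻¹ * a) • ω = x
          rw [mul_smul]
          have : a • ω = g • x := ha
          rw [this, inv_smul_smul] }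
    have hSmem : ∀ x : Ω, x ∈ S ↔ x ∉ O := fun x => Iff.rfl
    -- cardinalities
    have hb : K.index = O.ncard := by
      rw [hKdef, hOdef]; exact MulAction.index_stabilizer A ω
    have hAK : Nat.card K * O.ncard = Nat.card A := by
      rw [← hb]; exact Subgroup.card_mul_index K
    obtain ⟨mA, hmA⟩ := IsPGroup.iff_card.mp hA
    have hbdvd : O.ncard ∣ p ^ mA := by
      rw [← hmA, ← hAK]; exact dvd_mul_left _ _
    obtain ⟨a, -, hba⟩ := (Nat.dvd_prime_pow hp.out).mp hbdvd
    have hb1 : 1 < O.ncard := by
      rw [Set.one_lt_ncard_iff]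
      refine ⟨ω, g₀ • ω, ?_, ?_, fun h => hgω h.symm⟩
      · rw [hOdef]; exact MulAction.mem_orbit_self ω
      · rw [hOdef]; exact MulAction.mem_orbit ω g₀
    have ha1 : 1 ≤ a := by
      rcases Nat.eq_zero_or_pos a with h | h
      · rw [hba, h, pow_zero] at hb1; omega
      · exact h
    have hNcard : O.ncard + Nat.card S = n := by
      have h0 : Nat.card S = Oᶜ.ncard := Nat.card_coe_set_eq Oᶜ
      rw [← hn, ← Set.ncard_add_ncard_compl O, h0]
    set N := Nat.card S with hN
    have hNlt : N < n := by omega
    -- K acts faithfully on S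
    have hfaithK : ∀ g : K, (∀ x : S, g • x = x) → g = 1 := by
      intro g hg
      apply Subtype.ext
      apply hfaith
      intro x
      by_cases hx : x ∈ O
      · exact hKO g g.2 x hx
      · have := hg ⟨x, hx⟩
        exact congrArg Subtype.val this
    obtain ⟨k', hk'⟩ := exists_omega_pow p (hA.to_subgroup K)
    -- `k' ≤ k`
    let ι : {x : K // x ^ p = 1} → {x : A // x ^ p = 1} := fun x =>
      ⟨(x.1 : A), by
        have := congrArg Subtype.val x.2
        simpa using this⟩
    have hιinj : Function.Injective ι := by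
      intro x y hxy
      apply Subtype.ext
      apply Subtype.ext
      exact congrArg (fun z : {x : A // x ^ p = 1} => (z : A)) hxy
    have hk'k : k' ≤ k := by
      have h1 := Nat.card_le_card_of_injective ι hιinj
      rw [hk, hk'] at h1
      exact (Nat.pow_le_pow_iff_right hp.out.one_lt).mp h1
    rcases Nat.eq_or_lt_of_le hk'k with hkk | hkk
    · -- the orbit is redundant
      have hιsurj : Function.Surjective ι := by
        have hfin : Finite {x : A // x ^ p = 1} := inferInstance
        exact (Function.Injective.bijective_of_nat_card_le hιinj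
          (by rw [hk, hk', hkk])).2
      have hΩK : ∀ x : A, x ^ p = 1 → x ∈ K := by
        intro x hx
        obtain ⟨y, hy⟩ := hιsurj ⟨x, hx⟩
        have : (y.1 : A) = x := congrArg Subtype.val hy
        rw [← this]; exact y.1.2
      have hfaithA : ∀ g : A, (∀ x : S, g • x = x) → g = 1 := by
        intro g hg
        by_contra hne
        obtain ⟨j, hj⟩ := (IsPGroup.iff_orderOf.mp hA) g
        have hj1 : 1 ≤ j := by
          rcases Nat.eq_zero_or_pos j with h | h
          · rw [h, pow_zero, orderOf_eq_one_iff] at hj; exact absurd hj hne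
          · exact h
        have hpdvd : p ∣ orderOf g := by rw [hj]; exact dvd_pow_self p (by omega)
        have hord0 : orderOf g ≠ 0 := (orderOf_pos g).ne'
        set g' := g ^ (orderOf g / p) with hg'
        have hg'ord : orderOf g' = p := orderOf_pow_orderOf_div hord0 hpdvd
        have hg'p : g' ^ p = 1 := by rw [← hg'ord]; exact pow_orderOf_eq_one g'
        have hg'K := hΩK g' hg'p
        have hg'S : ∀ x : S, g' • x = x := by
          intro x
          rw [hg']
          have : ∀ m : ℕ, g ^ m • x = x := by
            intro m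
            induction m with
            | zero => simp
            | succ m ihm => rw [pow_succ, mul_smul, hg x, ihm]
          exact this _
        have hg'1 : g' = 1 := by
          apply hfaith
          intro x
          by_cases hx : x ∈ O
          · exact hKO g' hg'K x hx
          · exact congrArg Subtype.val (hg'S ⟨x, hx⟩)
        rw [hg'1, orderOf_one] at hg'ord
        exact hp.out.one_lt.ne hg'ord
      have h1 := ih N hNlt A S rfl hA hfaithA k hk
      exact h1.trans (Nat.pow_le_pow_left hNlt.le k)
    · -- main case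
      have hIH := ih N hNlt K S rfl (hA.to_subgroup K) hfaithK k' hk'
      -- `k ≤ k' + a`
      obtain ⟨H, hHdef⟩ : ∃ H : Subgroup A, H = (powMonoidHom p : A →* A).ker := ⟨_, rfl⟩
      have hHcard : Nat.card H = p ^ k := by rw [hHdef, ← card_omega, hk]
      have hmemH : ∀ x : A, x ∈ H ↔ x ^ p = 1 := by
        intro x
        rw [hHdef, MonoidHom.mem_ker, powMonoidHom_apply]
      let e : {x : K // x ^ p = 1} ≃ ↥(K.subgroupOf H) :=
        { toFun := fun x => ⟨⟨(x.1 : A), (hmemH _).mpr (by
            have := congrArg Subtype.val x.2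
            simpa using this)⟩, by rw [Subgroup.mem_subgroupOf]; exact x.1.2⟩
          invFun := fun y => ⟨⟨(y.1 : A), Subgroup.mem_subgroupOf.mp y.2⟩, by
            apply Subtype.ext
            have := (hmemH _).mp y.1.2
            simpa using this⟩
          left_inv := fun x => rfl
          right_inv := fun y => rfl }
      have hc1 : Nat.card (K.subgroupOf H) = p ^ k' := by
        rw [← Nat.card_congr e, hk']
      have hc2 := Subgroup.card_mul_index (K.subgroupOf H)
      have hKn : K.Normal := inferInstance
      have hc3 : K.relIndex H ∣ K.index := Subgroup.relIndex_dvd_index_of_normal K H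
      have hc4 : K.relIndex H ≤ p ^ a := by
        rw [← hba, ← hb]
        exact Nat.le_of_dvd (by rw [hb]; omega) hc3
      have hka : k ≤ k' + a := by
        have h5 : p ^ k ≤ p ^ (k' + a) := by
          rw [← hHcard, ← hc2, hc1, pow_add]
          exact Nat.mul_le_mul_left _ hc4
        exact (Nat.pow_le_pow_iff_right hp.out.one_lt).mp h5
      have hms := multi_step p hp2 (k - k') (by omega) k' N a (by omega)
      have e1 : k' + (k - k') = k := by omega
      rw [e1] at hms
      have e2 : N + p ^ a = n := by rw [← hba]; omega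
      rw [e2] at hms
      have hpos := self_pow_pos k'
      apply Nat.le_of_mul_le_mul_left _ hpos
      calc k' ^ k' * (Nat.card A * k ^ k)
          = (Nat.card K * k' ^ k') * (p ^ a * k ^ k) := by
            rw [← hAK, hba]; ring
        _ ≤ N ^ k' * (p ^ a * k ^ k) := Nat.mul_le_mul_right _ hIH
        _ = k ^ k * N ^ k' * p ^ a := by ring
        _ ≤ k' ^ k' * n ^ k := hms

theorem s3696 {Ω : Type*} [Fintype Ω] [DecidableEq Ω]
    (p : ℕ) (hp : p.Prime) (A : Subgroup (Equiv.Perm Ω)) (hA : IsPGroup p A)
    (hab : IsMulCommutative A)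
    (k : ℕ) (hk : Nat.card {x : A // x ^ p = 1} = p ^ k) :
    Nat.card A * k ^ k ≤ Fintype.card Ω ^ k := by
  haveI : Fact p.Prime := ⟨hp⟩
  letI : CommGroup A := { (inferInstance : Group A) with mul_comm := hab.is_comm.comm }
  have hfaith : ∀ g : A, (∀ x : Ω, g • x = x) → g = 1 := by
    intro g hg
    apply Subtype.ext
    apply Equiv.ext
    intro x
    exact hg x
  have := key p (Fintype.card Ω) A Ω (Nat.card_eq_fintype_card) hA hfaith k hk
  exact this

end Cfsg.Agent.Lead.AbelPermBound
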