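import Mathlib
import Cfsg.Prelude.Def_GeometricClasses
import Cfsg.Agent.Lead.AschMain
import Cfsg.Agent.Lead.AschArith
import Cfsg.Agent.Helper4.AschPerfect

/-!
# ASCH-PRIME: Aschbacher's theorem for `SL_n(F)`, `n` an odd prime (unconditional)
-/

set_option autoImplicit false

namespace Cfsg.Agent.Lead.Asch

open Cfsg Cfsg.Geo
open scoped MatrixGroups Matrix

variable {n : ℕ} {F : Type*} [Field F]

theorem perfectCase [Fintype F] (hn : n.Prime) : PerfectCase n F :=
  fun hNH hnz hns hall hmin hperf =>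
    Cfsg.Agent.Helper4.AschP.perfect_case hn hNH hnz hns hall hmin hperf

/-- Aschbacher's theorem for `SL_n(F)`, `n` an odd prime. -/
theorem asch_prime' [Fintype F] (hn : n.Prime) (hn2 : n ≠ 2) (H : Subgroup (GL (Fin n) F))
    (hH : IsMaximalIn (specialLinear (Fin n) F) H) :
    (∃ W : Submodule F (Fin n → F), W ≠ ⊥ ∧ W ≠ ⊤ ∧ H = subspaceStabilizer W ⊓ specialLinear (Fin n) F) ∨
    (5 ≤ Fintype.card F ∧ ∃ D : Fin n → Submodule F (Fin n → F), IsMDecomposition 1 D ∧
      H = decompositionStabilizer D ⊓ specialLinear (Fin n) F) ∨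
    (∃ K : Subalgebra F (Matrix (Fin n) (Fin n) F), IsFieldSubalgebra n K ∧
      H = subalgebraNormalizer K ⊓ specialLinear (Fin n) F) ∨
    (∃ (F₀ : Subfield F) (r : ℕ) (P : GL (Fin n) F), r.Prime ∧ Fintype.card F = Nat.card F₀ ^ r ∧
      H = subfieldSubgroup F₀ P ⊓ specialLinear (Fin n) F) ∨
    (∃ R : Subgroup (GL (Fin n) F), IsLinearSymplecticTypeData n R ∧
      H = subgroupNormalizer R ⊓ specialLinear (Fin n) F) ∨
    (Odd (Fintype.card F) ∧ ∃ Q : (Fin n → F) → F, IsNondegenerateQuadraticForm Q ∧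
      H = quadSimilarityGroup Q ⊓ specialLinear (Fin n) F) ∨
    (∃ (σ : F ≃+* F) (f : (Fin n → F) → (Fin n → F) → F), IsUnitaryForm σ f ∧
      H = similarityGroup f ⊓ specialLinear (Fin n) F) ∨
    InLinearResidualClass H :=
  asch_prime (perfectCase hn) hn hn2 H hH

end Cfsg.Agent.Lead.Asch
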