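import Mathlib
import Cfsg.Prelude.Def_GeometricClasses
import Cfsg.Agent.Lead.AschOFull
import Cfsg.Agent.Lead.AschOStd
import Cfsg.Agent.Helper2.AschOTr
import Cfsg.Agent.Helper7.AschNotOmB
import Cfsg.Agent.Helper1.AschONotSub

/-!
# ASCH-PRIME-O: Aschbacher's theorem for `Ω_n(q)`, `n = 2m + 1` an odd prime, `q` odd (unconditional, on the frozen index type)
-/

set_option autoImplicit false

namespace Cfsg.Agent.Lead.AschO

open Cfsg Cfsg.Geo Cfsg.Agent.Lead.Asch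
open scoped MatrixGroups Matrix

variable {n : ℕ} {F : Type*} [Field F]

theorem final_orth [Fintype F] {m : ℕ} (hm : 3 ≤ m) (hnm : n = 2 * m + 1) (hn : n.Prime)
    (hodd : Odd (Fintype.card F)) (H : Subgroup (GL (Unit ⊕ (Fin m ⊕ Fin m)) F))
    (hH : IsMaximalIn (omegaGL (quadFormOdd m F)) H) :
    (∃ W : Submodule F (Unit ⊕ (Fin m ⊕ Fin m) → F), W ≠ ⊥ ∧ IsTotallySingularQuad (quadFormOdd m F) W ∧
      H = subspaceStabilizer W ⊓ omegaGL (quadFormOdd m F)) ∨
    (∃ W : Submodule F (Unit ⊕ (Fin m ⊕ Fin m) → F), W ≠ ⊥ ∧ Even (Module.finrank F W) ∧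
      IsNondegenerateOn (QuadraticMap.polar (quadFormOdd m F)) W ∧
      ¬ (Fintype.card F = 3 ∧ Module.finrank F W = 2 ∧ IsPlusTypeOn (quadFormOdd m F) W) ∧
      H = subspaceStabilizer W ⊓ omegaGL (quadFormOdd m F)) ∨
    ((Fintype.card F).Prime ∧ ∃ D : Fin n → Submodule F (Unit ⊕ (Fin m ⊕ Fin m) → F),
      IsOrthogonalMDecomposition (quadFormOdd m F) 1 D ∧
      H = decompositionStabilizer D ⊓ omegaGL (quadFormOdd m F)) ∨
    (∃ (F₀ : Subfield F) (r : ℕ) (P : GL (Unit ⊕ (Fin m ⊕ Fin m)) F), r.Prime ∧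
      Fintype.card F = Nat.card F₀ ^ r ∧ IsQuadFormRationalStructure (quadFormOdd m F) F₀ P ∧
      H = subfieldSubgroup F₀ P ⊓ omegaGL (quadFormOdd m F)) ∨
    InOrthogonalResidualClass H := by
  classical
  have h2 : (2 : F) ≠ 0 := two_ne_zero_of_odd' hodd
  set Q := quadFormOdd m F with hQdef
  have hQ : IsNondegenerateQuadraticForm Q := quadFormOdd_isNondegenerateQuadraticForm h2
  have hdisc : DiscInt Q := quadFormOdd_discInt
  have hcard : Fintype.card (Unit ⊕ (Fin m ⊕ Fin m)) = n := by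
    simp only [Fintype.card_sum, Fintype.card_unit, Fintype.card_fin]
    omega
  let e : Unit ⊕ (Fin m ⊕ Fin m) ≃ Fin n := Fintype.equivFinOfCardEq hcard
  have hHI : H ≤ isometryGroup F Q := hH.1.le.trans (omegaGL_le_isometryGroup Q)
  have hcon : OConcl n Q H :=
    Cfsg.Agent.Helper2.AschO.oconcl_of_map e Q H
      (asch_prime_orth hn (by omega) hodd (reQ e Q) (Cfsg.Agent.Helper2.AschO.reQ_nondegenerate e Q hQ)
        (Cfsg.Agent.Helper2.AschO.reQ_discInt e Q hdisc) _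
        (Cfsg.Agent.Helper2.AschO.map_le_isometryGroup e Q hHI))
  have hfin : Module.finrank F (Unit ⊕ (Fin m ⊕ Fin m) → F) = 2 * m + 1 := by
    rw [Module.finrank_fintype_fun_eq_card, hcard, hnm]
  rcases hcon with ⟨W, h0, hts, hle⟩ | ⟨W, h0, hev, hnd, hex, hle⟩ | ⟨hq, D, hD, hle⟩ |
    ⟨F₀, r, P, hr, hc, hrat, hle⟩ | hres
  · refine Or.inl ⟨W, h0, hts, eq_inf_of_le' hH hle
      (Cfsg.Agent.Helper7.AschO.not_le_subspaceStabilizer_omega hm h2 W h0 ?_)⟩
    rintro rfl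
    have := hts (Pi.single (Sum.inl ()) 1) Submodule.mem_top
    rw [hQdef] at this
    unfold quadFormOdd at this
    simp at this
  · refine Or.inr (Or.inl ⟨W, h0, hev, hnd, hex,
      eq_inf_of_le' hH hle (Cfsg.Agent.Helper7.AschO.not_le_subspaceStabilizer_omega hm h2 W h0 ?_)⟩)
    rintro rfl
    rw [finrank_top, hfin] at hev
    exact (Nat.not_even_iff_odd.2 ⟨m, rfl⟩) hev
  · exact Or.inr (Or.inr (Or.inl ⟨hq, D, hD,
      eq_inf_of_le' hH hle
        (Cfsg.Agent.Helper7.AschO.not_le_decompositionStabilizer_omega hm h2 D hD.decomp.decomp)⟩))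
  · exact Or.inr (Or.inr (Or.inr (Or.inl ⟨F₀, r, P, hr, hc, hrat,
      eq_inf_of_le' hH hle
        (Cfsg.Agent.Helper1.AschO.not_le_subfieldSubgroup_omega hm h2 F₀
          (subfield_ne_top_of_card F₀ r hr hc) P)⟩)))
  · exact Or.inr (Or.inr (Or.inr (Or.inr hres)))

end Cfsg.Agent.Lead.AschO
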