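import Cfsg.Agent.Lead.AschOm12pMain
import Cfsg.Agent.Helper5.AschOm3X5
import Cfsg.Agent.Helper5.AschOm3X4

/-!
# ASCH-OM3: `Ω_12^+(q)` — the two slots filled.

`X4Stmt` comes from helper5's `tensor_O3_O4plus`, `X5Stmt` from helper5's `minus_of_tensor_sym_minus`.
-/

namespace Cfsg.Agent.Lead.AschOm
open Cfsg Cfsg.Geo
variable {F : Type*} [Field F] [Fintype F]

theorem x4Stmt : X4Stmt F := fun hodd Q hQ _ hHΩ e P f₁ f₂ h₁ h₂ hT hplus hle =>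
  Cfsg.Agent.Helper5.AschOm3.tensor_O3_O4plus hodd Q hQ hHΩ e P f₁ f₂ h₁ h₂ hT hplus hle

theorem x5Stmt : X5Stmt F := fun hodd Q hQ e P f₁ f₂ h₁ h₂ hT hminus =>
  Cfsg.Agent.Helper5.AschOm3.minus_of_tensor_sym_minus hodd Q hQ ⟨1, rfl⟩ ⟨2, rfl⟩ e P f₁ f₂ h₁ h₂ hT hminus

end Cfsg.Agent.Lead.AschOm
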