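import Mathlib
import Cfsg.Prelude.Def_GeometricClasses
import Cfsg.Agent.Lead.AschOmMain
import Cfsg.Agent.Lead.AschOm8A
import Cfsg.Agent.Lead.AschOmFinal
import Cfsg.Agent.Helper4.AschFC7G
import Cfsg.Agent.Helper3.AschOmE1S

/-!
ASCH-OM round 2, part 1 (lead): Aschbacher's theorem for `Ω_8^-(q)` (target S5826).
The only new pieces are E1 (helper3: `Helper3/AschOmE1S.plus_of_tensorWreath_two`) and E2
(`Lead/AschOm8A.plus_of_symplectic_type`); the assembly is `asch_om8`, the final statement `final8m`.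
-/

set_option autoImplicit false

namespace Cfsg.Agent.Lead.AschOm

open Cfsg Cfsg.Geo Cfsg.Agent.Lead.Asch Cfsg.Agent.Lead.AschO Cfsg.Agent.Lead.AschOm
open scoped MatrixGroups Matrix Kronecker commutatorElement

variable {n : ℕ} {F : Type*} [Field F] [Fintype F]

/-- The conclusion of Aschbacher's theorem for `Ω_8^-(q)` with `≤`. -/
def OmConcl8 (Q : (Fin 8 → F) → F) (H : Subgroup (GL (Fin 8) F)) : Prop :=
  (∃ W : Submodule F (Fin 8 → F), W ≠ ⊥ ∧ IsTotallySingularQuad Q W ∧ H ≤ subspaceStabilizer W) ∨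
  (Odd (Fintype.card F) ∧ ∃ W : Submodule F (Fin 8 → F), W ≠ ⊥ ∧ W ≠ ⊤ ∧ Odd (Module.finrank F W) ∧
    IsNondegenerateOn (QuadraticMap.polar Q) W ∧ H ≤ subspaceStabilizer W) ∨
  (∃ W : Submodule F (Fin 8 → F), Module.finrank F W = 2 ∧ IsNondegenerateOn (QuadraticMap.polar Q) W ∧
    ¬ IsPlusTypeOn Q W ∧ H ≤ subspaceStabilizer W) ∨
  (4 ≤ Fintype.card F ∧ ∃ W : Submodule F (Fin 8 → F), Module.finrank F W = 2 ∧
    IsNondegenerateOn (QuadraticMap.polar Q) W ∧ IsPlusTypeOn Q W ∧ H ≤ subspaceStabilizer W) ∨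
  (∃ W : Submodule F (Fin 8 → F), Module.finrank F W = 4 ∧ IsNondegenerateOn (QuadraticMap.polar Q) W ∧
    H ≤ subspaceStabilizer W) ∨
  (¬ Odd (Fintype.card F) ∧ ∃ v : Fin 8 → F, Q v ≠ 0 ∧ H ≤ subspaceStabilizer (Submodule.span F {v})) ∨
  (∃ K : Subalgebra F (Matrix (Fin 8) (Fin 8) F), IsFieldSubalgebra 2 K ∧ H ≤ subalgebraNormalizer K) ∨
  (∃ (F₀ : Subfield F) (r : ℕ) (P : GL (Fin 8) F) (ζ : F), r.Prime ∧ Odd r ∧
    Fintype.card F = Nat.card F₀ ^ r ∧ ζ ≠ 0 ∧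
    IsQuadFormRationalStructure (fun v : Fin 8 → F => ζ * Q v) F₀ P ∧ H ≤ subfieldSubgroup F₀ P) ∨
  InOrthogonalResidualClass H

/-- the reducible case in dimension eight -/
theorem reducible8 (Q : (Fin 8 → F) → F) (hQ : IsNondegenerateQuadraticForm Q)
    {H : Subgroup (GL (Fin 8) F)} (hHI : H ≤ isometryGroup F Q) (hred : ¬ ActsIrreducibly (matrixSet H)) :
    OmConcl8 Q H := by
  rcases Cfsg.Agent.Helper2.AschOm.orth_reducible_gen Q hQ hHI hred with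
    h | h | ⟨W, W', h0, h1, hnd, hnd', -, -, -, hdim, hle, -⟩
  · exact Or.inl h
  · exact Or.inr (Or.inr (Or.inr (Or.inr (Or.inr (Or.inl h)))))
  have hpos : 0 < Module.finrank F W := Module.finrank_pos_iff_exists_ne_zero.2 (by
    obtain ⟨w, hw, hw0⟩ := (Submodule.ne_bot_iff W).1 h0
    exact ⟨⟨w, hw⟩, fun h => hw0 (congrArg Subtype.val h)⟩)
  have oddcase : Odd (Module.finrank F W) → OmConcl8 Q H := by
    intro hoddW
    have hq : Odd (Fintype.card F) := by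
      by_contra hq
      have := Cfsg.Agent.Helper2.AschOm.even_finrank_of_nondegenerateOn hq Q hQ W hnd
      exact (Nat.not_even_iff_odd.2 hoddW) this
    exact Or.inr (Or.inl ⟨hq, W, h0, h1, hoddW, hnd, hle⟩)
  by_cases hoddW : Odd (Module.finrank F W)
  · exact oddcase hoddW
  rw [Nat.not_odd_iff_even] at hoddW
  obtain ⟨k, hk⟩ := hoddW
  have hk3 : k = 1 ∨ k = 2 := by omega
  rcases hk3 with rfl | rfl
  · have h2 : Module.finrank F W = 2 := by omega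
    by_cases hplus : IsPlusTypeOn Q W
    · by_cases hq : 4 ≤ Fintype.card F
      · exact Or.inr (Or.inr (Or.inr (Or.inl ⟨hq, W, h2, hnd, hplus, hle⟩)))
      · rcases Cfsg.Agent.Helper2.AschOm.plus_plane_small (by omega) Q hQ W h2 hnd hplus hHI hle with
          h | ⟨hq', W₁, hW₁, hnd₁, hle₁⟩
        · exact Or.inr (Or.inr (Or.inr (Or.inr (Or.inr (Or.inl h)))))
        · refine Or.inr (Or.inl ⟨hq', W₁, ?_, ?_, ⟨0, by omega⟩, hnd₁, hle₁⟩)
          · intro h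
            rw [h, finrank_bot] at hW₁
            omega
          · intro h
            rw [h, finrank_top, Module.finrank_fin_fun] at hW₁
            omega
    · exact Or.inr (Or.inr (Or.inl ⟨W, h2, hnd, hplus, hle⟩))
  · exact Or.inr (Or.inr (Or.inr (Or.inr (Or.inl ⟨W, by omega, hnd, hle⟩))))

/-- an isometric decomposition in dimension eight forces plus type -/
theorem decomp8 (Q : (Fin 8 → F) → F) (hQ : IsNondegenerateQuadraticForm Q)
    {t m : ℕ} (D : Fin t → Submodule F (Fin 8 → F)) (hD : IsOrthogonalMDecomposition Q m D) (htm : t * m = 8) :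
    IsPlusTypeOn Q ⊤ := by
  have ht2 : 2 ≤ t := hD.decomp.decomp.two_le
  have hm0 : 0 < m := hD.decomp.decomp.pos
  have hcases : (t = 8 ∧ m = 1) ∨ (t = 4 ∧ m = 2) ∨ (t = 2 ∧ m = 4) := by
    have ht : t ∣ 8 := ⟨m, htm.symm⟩
    have htle : t ≤ 8 := Nat.le_of_dvd (by norm_num) ht
    interval_cases t <;> omega
  have key : ∀ s : ℕ, t = 2 * s → Even (s * m) → IsPlusTypeOn Q ⊤ := by
    intro s hs hev
    obtain ⟨W, W', hW, horth, hinf, hsup, hiso, hdim⟩ :=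
      Cfsg.Agent.Helper2.AschOm.halves_of_even_blocks Q hQ hs D hD
    exact Cfsg.Agent.Helper8.AschOm.plus_of_isometric_halves Q hQ W W' hW horth hinf hsup hiso (hdim ▸ hev)
  rcases hcases with ⟨rfl, rfl⟩ | ⟨rfl, rfl⟩ | ⟨rfl, rfl⟩
  · exact key 4 rfl ⟨2, rfl⟩
  · exact key 2 rfl ⟨2, rfl⟩
  · exact key 1 rfl ⟨2, rfl⟩

/-- the tensor case in dimension eight -/
theorem tensor8 (Q : (Fin 8 → F) → F) (hQ : IsNondegenerateQuadraticForm Q) (hminus : ¬ IsPlusTypeOn Q ⊤)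
    {H : Subgroup (GL (Fin 8) F)} (hHI : H ≤ isometryGroup F Q) (hirr : ActsIrreducibly (matrixSet H))
    {n₁ n₂ : ℕ} (e : Fin 8 ≃ Fin n₁ × Fin n₂) (P : GL (Fin 8) F)
    (f₁ : (Fin n₁ → F) → (Fin n₁ → F) → F) (f₂ : (Fin n₂ → F) → (Fin n₂ → F) → F) (h1 : 2 ≤ n₁) (h2 : 2 ≤ n₂)
    (hty : (IsSymplecticForm f₁ ∧ IsSymplecticForm f₂) ∨
      (Odd (Fintype.card F) ∧ IsSymmetricForm f₁ ∧ IsSymmetricForm f₂))
    (hT : IsTensorFormStructure id (QuadraticMap.polar Q) f₁ f₂ e P)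
    (hle : H ≤ tensorProductSubgroup n₁ n₂ e P) : OmConcl8 Q H := by
  rcases hty with ⟨ha₁, ha₂⟩ | ⟨hodd, hs₁, hs₂⟩
  · exact absurd (Cfsg.Agent.Helper3.AschOm.plus_of_tensor_alt Q hQ hHI hirr e P f₁ f₂ ha₁ ha₂ hT hle) hminus
  have hcard : 8 = n₁ * n₂ := by
    have := Fintype.card_congr e
    simpa using this
  have main : ∀ {m₁ m₂ : ℕ} (e' : Fin 8 ≃ Fin m₁ × Fin m₂) (g₁ : (Fin m₁ → F) → (Fin m₁ → F) → F)
      (g₂ : (Fin m₂ → F) → (Fin m₂ → F) → F), 2 ≤ m₁ → m₁ ≤ m₂ → 8 = m₁ * m₂ → IsSymmetricForm g₁ →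
      IsSymmetricForm g₂ → IsTensorFormStructure id (QuadraticMap.polar Q) g₁ g₂ e' P →
      H ≤ tensorProductSubgroup m₁ m₂ e' P → OmConcl8 Q H := by
    intro m₁ m₂ e' g₁ g₂ hm1 hm12 hc hg₁ hg₂ hT' hle'
    have hm : m₁ = 2 ∧ m₂ = 4 := by
      have hd : m₁ ∣ 8 := ⟨m₂, hc⟩
      have hle8 : m₁ ≤ 8 := Nat.le_of_dvd (by norm_num) hd
      have : m₁ * m₁ ≤ 8 := by nlinarith
      have : m₁ ≤ 2 := by nlinarith
      interval_cases m₁
      omega
    obtain ⟨rfl, rfl⟩ := hm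
    rcases Cfsg.Agent.Helper3.AschOm.tensor_sym_two hodd Q hQ hHI e' P g₁ g₂ hg₁ hg₂ hT' hle' with hK | hp
    · exact Or.inr (Or.inr (Or.inr (Or.inr (Or.inr (Or.inr (Or.inl hK))))))
    · exact absurd hp hminus
  by_cases h12 : n₁ ≤ n₂
  · exact main e f₁ f₂ h1 h12 hcard hs₁ hs₂ hT hle
  · have hT' : IsTensorFormStructure id (QuadraticMap.polar Q) f₂ f₁
        (e.trans (Equiv.prodComm (Fin n₁) (Fin n₂))) P := by
      obtain ⟨c, hc0, hc⟩ := hT
      refine ⟨c, hc0, fun x y => ?_⟩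
      have hx : ∀ z : Fin n₂ × Fin n₁ → F,
          z ∘ (e.trans (Equiv.prodComm (Fin n₁) (Fin n₂))) = (z ∘ Prod.swap) ∘ e := by
        intro z
        funext i
        rfl
      rw [hx, hx, hc]
      unfold formOfGram
      rw [← Equiv.sum_comp (Equiv.prodComm (Fin n₂) (Fin n₁))]
      apply congrArg
      apply Finset.sum_congr rfl
      intro a _
      rw [← Equiv.sum_comp (Equiv.prodComm (Fin n₂) (Fin n₁))]
      apply Finset.sum_congr rfl
      intro b _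
      simp only [Equiv.prodComm_apply, Function.comp_apply, Prod.swap_swap, Matrix.kroneckerMap_apply,
        Prod.fst_swap, Prod.snd_swap, id]
      ring
    rw [Cfsg.Agent.Helper9.AschCompK.tensorProductSubgroup_swap] at hle
    exact main _ f₂ f₁ h2 (by omega) (by rw [hcard, mul_comm]) hs₂ hs₁ hT' hle

/-- Aschbacher's theorem for subgroups of the isometry group of a quadratic form of minus type in dimension eight,
generic form. -/
theorem asch_om8 (Q : (Fin 8 → F) → F) (hQ : IsNondegenerateQuadraticForm Q) (hminus : ¬ IsPlusTypeOn Q ⊤)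
    (H : Subgroup (GL (Fin 8) F)) (hHI : H ≤ isometryGroup F Q) : OmConcl8 Q H := by
  by_cases hirr : ActsIrreducibly (matrixSet H)
  swap
  · exact reducible8 Q hQ hHI hirr
  by_cases hall : ∀ M : Subgroup (GL (Fin 8) F), M ≤ H → Nzes H M →
      M ≤ scalars (Fin 8) F ∨ ActsAbsolutelyIrreducibly (matrixSet M)
  swap
  · push Not at hall
    obtain ⟨M, hMH, hMnz, hM1, hM2⟩ := hall
    rcases clifford_comp_orth (by norm_num) Q hQ hHI hirr hMH hMnz with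
      ⟨t, m, D, hD, htm, hle⟩ | ⟨m, D, hD, hm, hts, hle⟩ | ⟨r, K, hr, hrn, hK, hle⟩ |
      ⟨n₁, n₂, e, P, f₁, f₂, h1, h2, hty, hT, hle⟩ | h | h
    · exact absurd (decomp8 Q hQ D hD htm) hminus
    · exact absurd (plus_of_ts_pair Q hQ hHI hirr m (by omega) D hD hts hle) hminus
    · have hr2 : r = 2 := by
        have hle8 : r ≤ 8 := Nat.le_of_dvd (by norm_num) hrn
        have := hr.two_le
        interval_cases r <;> first | rfl | omega | (exfalso; revert hr; decide) | (exfalso; revert hrn; decide)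
      subst hr2
      exact Or.inr (Or.inr (Or.inr (Or.inr (Or.inr (Or.inr (Or.inl ⟨K, hK, hle⟩))))))
    · exact tensor8 Q hQ hminus hHI hirr e P f₁ f₂ h1 h2 hty hT hle
    · exact absurd h hM1
    · exact absurd h hM2
  have hHns : ¬ H ≤ scalars (Fin 8) F := not_le_scalars_of_irred (by norm_num) hirr
  obtain ⟨N, hNH, hNnz, hNns, hmin⟩ := exists_minimal hHns
  have hNabs : ActsAbsolutelyIrreducibly (matrixSet N) := (hall N hNH hNnz).resolve_left hNns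
  have hNI : N ≤ isometryGroup F Q := hNH.trans hHI
  by_cases hsub : ∃ F₀ : Subfield F, F₀ ≠ ⊤ ∧ RealisableOver F₀ (matrixSet N)
  · obtain ⟨F₀, h0, hr⟩ := hsub
    obtain ⟨F₁, r, Pm, ζ, hr, hc, hζ, hrat, hle⟩ :=
      Cfsg.Agent.Helper1.AschOm.subfield_orth_gen (by norm_num) Q hQ hNI hNnz hNabs F₀ h0 hr
    have hro : Odd r := by
      rcases hr.eq_two_or_odd' with rfl | h
      · exact absurd (Cfsg.Agent.Helper8.AschOm.plus_of_subfield_two ⟨4, rfl⟩ Q hQ F₁ hc Pm ζ hζ hrat) hminus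
      · exact h
    exact Or.inr (Or.inr (Or.inr (Or.inr (Or.inr (Or.inr (Or.inr (Or.inl
      ⟨F₁, r, Pm, ζ, hr, hro, hc, hζ, hrat, hle⟩)))))))
  by_cases hperf : ⁅N, N⁆ = N
  · have hiso : ∀ x ∈ N, ∀ u v : Fin 8 → F,
        QuadraticMap.polar Q ((x : Matrix (Fin 8) (Fin 8) F) *ᵥ u) ((x : Matrix (Fin 8) (Fin 8) F) *ᵥ v) =
          QuadraticMap.polar Q u v := fun x hx u v => polar_isometry (hNI hx) u v
    rcases Cfsg.Agent.Helper4.AschTI.perfect_case_form (by norm_num)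
        (Cfsg.Agent.Helper3.Asch.IsSesq.of_bilinear hQ.polar_bilinear) hQ.nondegenerate hNH hNnz hNns hall hmin
        hperf hiso with
      ⟨d, k, e, Pm, G₁, c, P₁, hd, hk, hc, hG, hform, hP₁perf, hP₁abs, hP₁inv, hle⟩ | ⟨hsimp, hnab, hcent⟩
    · exfalso
      apply hminus
      refine Cfsg.Agent.Helper3.AschOm2.plus_of_tensorWreath_two Q hQ hHI hirr e Pm G₁ c P₁ hd hk hc hG (fun x y => ?_) hP₁perf hP₁abs
        (fun u hu => ?_) hle
      · rw [hform x y]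
        rfl
      · have h := hP₁inv u hu
        have hmap : (u : Matrix (Fin d) (Fin d) F).map (RingEquiv.refl F) = (u : Matrix (Fin d) (Fin d) F) := by
          ext i j
          rfl
        rw [hmap] at h
        exact h
    refine Or.inr (Or.inr (Or.inr (Or.inr (Or.inr (Or.inr (Or.inr (Or.inr ⟨N, ?_, ?_⟩)))))))
    · exact
        { le := hNH
          normal := hNnz
          perfect := hperf
          simple := hsimp
          nonabelian := hnab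
          centralizer_scalar := hcent
          absIrred := hNabs
          no_subfield := fun F₀ h0 hr => hsub ⟨F₀, h0, hr⟩ }
    · rintro ⟨σ, f, hf, hfix⟩
      apply hsub
      refine Cfsg.Agent.Helper5.AschO.realisable_of_fixes_quad_unitary (by norm_num) hNabs σ f hf hfix Q hQ ?_
      intro s hs v
      rw [mem_matrixSet_iff] at hs
      obtain ⟨g, hg, rfl⟩ := hs
      exact mem_isometryGroup_iff.1 (hNI hg) v
  · exfalso
    have hcomm : ⁅N, N⁆ ≤ scalars (Fin 8) F := by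
      by_contra hc
      exact hperf (hmin _ (Subgroup.commutator_le_self N) (nzes_commutator hNnz) hc)
    exact hminus (plus_of_symplectic_type (by norm_num) ⟨2, rfl⟩ Q hQ hNI hNabs hcomm)

/-- S5826 -/
theorem final8m {F : Type*} [Field F] [Fintype F] (Q : (Fin 8 → F) → F) (hQ : Cfsg.Geo.IsNondegenerateQuadraticForm Q) (hminus : ¬ Cfsg.Geo.IsPlusTypeOn Q ⊤) (H : Subgroup (Matrix.GeneralLinearGroup (Fin 8) F)) (hH : Cfsg.Geo.IsMaximalIn (Cfsg.Geo.omegaGL Q) H) :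
    (∃ W : Submodule F (Fin 8 → F), W ≠ ⊥ ∧ Cfsg.Geo.IsTotallySingularQuad Q W ∧ H = Cfsg.Geo.subspaceStabilizer W ⊓ Cfsg.Geo.omegaGL Q) ∨
    (Odd (Fintype.card F) ∧ ∃ W : Submodule F (Fin 8 → F), W ≠ ⊥ ∧ W ≠ ⊤ ∧ Odd (Module.finrank F W) ∧ Cfsg.Geo.IsNondegenerateOn (QuadraticMap.polar Q) W ∧ H = Cfsg.Geo.subspaceStabilizer W ⊓ Cfsg.Geo.omegaGL Q) ∨
    (∃ W : Submodule F (Fin 8 → F), Module.finrank F W = 2 ∧ Cfsg.Geo.IsNondegenerateOn (QuadraticMap.polar Q) W ∧ ¬ Cfsg.Geo.IsPlusTypeOn Q W ∧ H = Cfsg.Geo.subspaceStabilizer W ⊓ Cfsg.Geo.omegaGL Q) ∨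
    (4 ≤ Fintype.card F ∧ ∃ W : Submodule F (Fin 8 → F), Module.finrank F W = 2 ∧ Cfsg.Geo.IsNondegenerateOn (QuadraticMap.polar Q) W ∧ Cfsg.Geo.IsPlusTypeOn Q W ∧ H = Cfsg.Geo.subspaceStabilizer W ⊓ Cfsg.Geo.omegaGL Q) ∨
    (∃ W : Submodule F (Fin 8 → F), Module.finrank F W = 4 ∧ Cfsg.Geo.IsNondegenerateOn (QuadraticMap.polar Q) W ∧ H = Cfsg.Geo.subspaceStabilizer W ⊓ Cfsg.Geo.omegaGL Q) ∨
    (¬ Odd (Fintype.card F) ∧ ∃ v : (Fin 8 → F), Q v ≠ 0 ∧ H = Cfsg.Geo.subspaceStabilizer (Submodule.span F {v}) ⊓ Cfsg.Geo.omegaGL Q) ∨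
    (∃ K : Subalgebra F (Matrix (Fin 8) (Fin 8) F), Cfsg.Geo.IsFieldSubalgebra 2 K ∧ H = Cfsg.Geo.subalgebraNormalizer K ⊓ Cfsg.Geo.omegaGL Q) ∨
    (∃ (F₀ : Subfield F) (r : ℕ) (P : Matrix.GeneralLinearGroup (Fin 8) F) (ζ : F), r.Prime ∧ Odd r ∧ Fintype.card F = Nat.card F₀ ^ r ∧ ζ ≠ 0 ∧ Cfsg.Geo.IsQuadFormRationalStructure (fun v : Fin 8 → F => ζ * Q v) F₀ P ∧ H = Cfsg.Geo.subfieldSubgroup F₀ P ⊓ Cfsg.Geo.omegaGL Q) ∨
    Cfsg.Geo.InOrthogonalResidualClass H := by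
  classical
  have hHI : H ≤ isometryGroup F Q := hH.1.le.trans (Cfsg.Agent.Lead.AschO.omegaGL_le_isometryGroup Q)
  have hsub : ∀ (W : Submodule F (Fin 8 → F)), W ≠ ⊥ → W ≠ ⊤ → H ≤ subspaceStabilizer W →
      H = subspaceStabilizer W ⊓ omegaGL Q := fun W h0 h1 hle =>
    eq_inf_of_le' hH hle
      (Cfsg.Agent.Helper7.AschOm.not_le_subspaceStabilizer_omega_gen (by norm_num) Q hQ W h0 h1)
  have hdim : ∀ (W : Submodule F (Fin 8 → F)) (k : ℕ), Module.finrank F W = k → 0 < k → k < 8 →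
      W ≠ ⊥ ∧ W ≠ ⊤ := by
    intro W k hk h0 h8
    constructor
    · rintro rfl
      rw [finrank_bot] at hk
      omega
    · rintro rfl
      rw [finrank_top, Module.finrank_fin_fun] at hk
      omega
  obtain ⟨v₀, hv₀⟩ := exists_ne_zero_of_nondegenerate (by norm_num) Q hQ
  rcases asch_om8 Q hQ hminus H hHI with ⟨W, h0, hts, hle⟩ | ⟨hq, W, h0, h1, ho, hnd, hle⟩ |
    ⟨W, h2, hnd, hp, hle⟩ | ⟨hq, W, h2, hnd, hp, hle⟩ | ⟨W, h4, hnd, hle⟩ |
    ⟨hq, v, hv, hle⟩ | ⟨K, hK, hle⟩ | ⟨F₀, r, P, ζ, hr, hro, hc, hζ, hrat, hle⟩ | hres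
  · refine Or.inl ⟨W, h0, hts, hsub W h0 ?_ hle⟩
    rintro rfl
    exact hv₀ (hts v₀ Submodule.mem_top)
  · exact Or.inr (Or.inl ⟨hq, W, h0, h1, ho, hnd, hsub W h0 h1 hle⟩)
  · obtain ⟨h0, h1⟩ := hdim W 2 h2 (by norm_num) (by norm_num)
    exact Or.inr (Or.inr (Or.inl ⟨W, h2, hnd, hp, hsub W h0 h1 hle⟩))
  · obtain ⟨h0, h1⟩ := hdim W 2 h2 (by norm_num) (by norm_num)
    exact Or.inr (Or.inr (Or.inr (Or.inl ⟨hq, W, h2, hnd, hp, hsub W h0 h1 hle⟩)))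
  · obtain ⟨h0, h1⟩ := hdim W 4 h4 (by norm_num) (by norm_num)
    exact Or.inr (Or.inr (Or.inr (Or.inr (Or.inl ⟨W, h4, hnd, hsub W h0 h1 hle⟩))))
  · have hv0 : v ≠ 0 := by
      rintro rfl
      apply hv
      have := hQ.smul 0 (0 : Fin 8 → F)
      simpa using this
    obtain ⟨h0, h1⟩ := hdim (Submodule.span F {v}) 1 (finrank_span_singleton hv0) (by norm_num) (by norm_num)
    exact Or.inr (Or.inr (Or.inr (Or.inr (Or.inr (Or.inl ⟨hq, v, hv, hsub _ h0 h1 hle⟩)))))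
  · exact Or.inr (Or.inr (Or.inr (Or.inr (Or.inr (Or.inr (Or.inl ⟨K, hK,
      eq_inf_of_le' hH hle
        (Cfsg.Agent.Helper8.AschOm.not_le_subalgebraNormalizer_omega_gen (by norm_num) Q hQ 2 (by norm_num) K hK)⟩))))))
  · exact Or.inr (Or.inr (Or.inr (Or.inr (Or.inr (Or.inr (Or.inr (Or.inl
      ⟨F₀, r, P, ζ, hr, hro, hc, hζ, hrat, eq_inf_of_le' hH hle
        (Cfsg.Agent.Helper1.AschOm.not_le_subfieldSubgroup_omega_gen (by norm_num) Q hQ F₀
          (subfield_ne_top_of_card F₀ r hr hc) P)⟩)))))))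
  · exact Or.inr (Or.inr (Or.inr (Or.inr (Or.inr (Or.inr (Or.inr (Or.inr hres)))))))

end Cfsg.Agent.Lead.AschOm
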