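import Mathlib
import Cfsg.Prelude.Def_GeometricClasses
import Cfsg.Agent.Helper3.AschOm3X

/-!
# ASCH-OM part 3 (lead): piece X3' `tensor_sym_two_pair'`: helper3's X3 with the adjoint data of the field of degree two
-/

set_option autoImplicit false
set_option linter.unusedSectionVars false

namespace Cfsg.Agent.Lead.AschOm

open Matrix Cfsg Cfsg.Geo Cfsg.Agent.Helper7.TensNM Cfsg.Agent.Helper7.TnSp Cfsg.Agent.Helper9.AschComp
open Cfsg.Agent.Helper3.AschOm Cfsg.Agent.Helper3.AschOm3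
open scoped MatrixGroups Kronecker

variable {n : ℕ} {F : Type*} [Field F] [Fintype F]

/-- `Jᵀ G = - G J` for a symmetric `G` -/
theorem Jm_transpose_mul (G : Matrix (Fin 2) (Fin 2) F) (hs : G 1 0 = G 0 1) :
    (Jm G)ᵀ * G = -(G * Jm G) := by
  ext i j
  fin_cases i <;> fin_cases j <;>
    simp [Jm, Matrix.mul_apply, Fin.sum_univ_two, hs] <;> ring

theorem mulVec_dot {κ : Type*} [Fintype κ] (A : Matrix κ κ F) (x w : κ → F) :
    (A *ᵥ x) ⬝ᵥ w = x ⬝ᵥ (Aᵀ *ᵥ w) := by
  rw [Matrix.dotProduct_mulVec, Matrix.vecMul_transpose]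

/-- adjoints of the matrices `P (z ⊗ 1) P⁻¹` for a tensor form structure -/
theorem polar_tensHom_adj {Q : (Fin n → F) → F} {n₁ n₂ : ℕ} (hn₂ : 0 < n₂) (e : Fin n ≃ Fin n₁ × Fin n₂)
    (P : GL (Fin n) F) {f₁ : (Fin n₁ → F) → (Fin n₁ → F) → F} {f₂ : (Fin n₂ → F) → (Fin n₂ → F) → F}
    (h₁ : IsBilinearForm f₁) (h₂ : IsBilinearForm f₂)
    (hT : IsTensorFormStructure id (QuadraticMap.polar Q) f₁ f₂ e P) (z z' : Matrix (Fin n₁) (Fin n₁) F)
    (hzz' : zᵀ * gramMatrix f₁ = gramMatrix f₁ * z') (u v : Fin n → F) :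
    QuadraticMap.polar Q (tensHom e P z *ᵥ u) v = QuadraticMap.polar Q u (tensHom e P z' *ᵥ v) := by
  obtain ⟨c, -, hc⟩ := hT
  have hform : ∀ x y : Fin n₁ × Fin n₂ → F,
      QuadraticMap.polar Q (Rm e P *ᵥ x) (Rm e P *ᵥ y) =
        c * (x ⬝ᵥ ((gramMatrix f₁ ⊗ₖ gramMatrix f₂) *ᵥ y)) := by
    intro x y
    rw [← mulVec_comp, ← mulVec_comp, hc, formOfGram_id]
  have hu : ∀ w : Fin n → F, w = Rm e P *ᵥ (Rm' e P *ᵥ w) := by
    intro w
    rw [Matrix.mulVec_mulVec, Rm_mul_Rm', Matrix.one_mulVec]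
  have hact : ∀ (y : Matrix (Fin n₁) (Fin n₁) F) (w : Fin n → F),
      tensHom e P y *ᵥ w = Rm e P *ᵥ ((y ⊗ₖ (1 : Matrix (Fin n₂) (Fin n₂) F)) *ᵥ (Rm' e P *ᵥ w)) := by
    intro y w
    rw [tensHom_eq_Rm, Matrix.mulVec_mulVec, Matrix.mulVec_mulVec, Matrix.mul_assoc]
  rw [hact z u, hact z' v]
  conv_lhs => rw [hu v]
  conv_rhs => rw [hu u]
  rw [hform, hform]
  generalize Rm' e P *ᵥ u = x
  generalize Rm' e P *ᵥ v = y
  have hT1 : (z ⊗ₖ (1 : Matrix (Fin n₂) (Fin n₂) F))ᵀ = zᵀ ⊗ₖ (1 : Matrix (Fin n₂) (Fin n₂) F) := by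
    rw [← Matrix.kroneckerMap_transpose, Matrix.transpose_one]
  have hmat : (z ⊗ₖ (1 : Matrix (Fin n₂) (Fin n₂) F))ᵀ * (gramMatrix f₁ ⊗ₖ gramMatrix f₂) =
      (gramMatrix f₁ ⊗ₖ gramMatrix f₂) * (z' ⊗ₖ (1 : Matrix (Fin n₂) (Fin n₂) F)) := by
    rw [hT1, ← Matrix.mul_kronecker_mul, ← Matrix.mul_kronecker_mul, hzz', Matrix.one_mul, Matrix.mul_one]
  rw [mulVec_dot, Matrix.mulVec_mulVec, Matrix.mulVec_mulVec, hmat]

/-- X3': symmetric ⊗ symmetric with a first factor of dimension two (`q` odd), with the adjoint data of the field. The proof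
is helper3's proof of `Helper3/AschOm3X.tensor_sym_two_pair` with the adjoint of `F + F J` added. -/
theorem tensor_sym_two_pair' (hodd : Odd (Fintype.card F)) (Q : (Fin n → F) → F) (hQ : IsNondegenerateQuadraticForm Q)
    {H : Subgroup (GL (Fin n) F)} (hHI : H ≤ isometryGroup F Q)
    {n₂ : ℕ} (hn₂ : 0 < n₂) (e : Fin n ≃ Fin 2 × Fin n₂) (P : GL (Fin n) F)
    (f₁ : (Fin 2 → F) → (Fin 2 → F) → F) (f₂ : (Fin n₂ → F) → (Fin n₂ → F) → F)
    (h₁ : IsSymmetricForm f₁) (h₂ : IsSymmetricForm f₂)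
    (hT : IsTensorFormStructure id (QuadraticMap.polar Q) f₁ f₂ e P)
    (hle : H ≤ tensorProductSubgroup 2 n₂ e P) :
    (∃ K : Subalgebra F (Matrix (Fin n) (Fin n) F), IsFieldSubalgebra 2 K ∧
      IsAdjointClosedFor (QuadraticMap.polar Q) K ∧ ¬ IsSelfAdjointFor (QuadraticMap.polar Q) K ∧
      H ≤ subalgebraNormalizer K) ∨
    (∃ D : Fin 2 → Submodule F (Fin n → F), IsMDecomposition n₂ D ∧ (∀ i, IsTotallySingularQuad Q (D i)) ∧
      H ≤ decompositionStabilizer D) := by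
  classical
  have h2F := two_ne_zero_of_odd_card' hodd
  have hn₂0 : n₂ ≠ 0 := by omega
  have : NeZero n₂ := ⟨hn₂0⟩
  have hb := h₁.bilinear
  by_cases hiso : ∃ x₀ : Fin 2 → F, x₀ ≠ 0 ∧ f₁ x₀ x₀ = 0
  · -- isotropic first factor
    right
    obtain ⟨x₀, hx₀, hx₀0⟩ := hiso
    obtain ⟨z, hz⟩ := (h₁.nondegenerate x₀ hx₀).2
    obtain ⟨tt, htt⟩ : ∃ tt : F, tt * (2 * f₁ x₀ z) = f₁ z z :=
      ⟨f₁ z z / (2 * f₁ x₀ z), div_mul_cancel₀ _ (mul_ne_zero h2F hz)⟩
    obtain ⟨y₀, hy₀def⟩ : ∃ y₀ : Fin 2 → F, y₀ = z + (-tt) • x₀ := ⟨_, rfl⟩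
    obtain ⟨β, hβdef⟩ : ∃ β : F, β = f₁ x₀ z := ⟨_, rfl⟩
    have hβ0 : β ≠ 0 := by rw [hβdef]; exact hz
    have hxy : f₁ x₀ y₀ = β := by
      rw [hy₀def, hb.add_right, hb.smul_right, hx₀0, mul_zero, add_zero, hβdef]
    have hyx : f₁ y₀ x₀ = β := by rw [h₁.symm, hxy]
    have hyy : f₁ y₀ y₀ = 0 := by
      rw [hy₀def]
      simp only [hb.add_left, hb.add_right, hb.smul_left, hb.smul_right, hx₀0, h₁.symm z x₀]
      linear_combination (-1) * htt
    obtain ⟨c, hc0, hc⟩ := hT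
    -- the frame matrix
    obtain ⟨U, hU⟩ : ∃ U : Matrix (Fin 2) (Fin 2) F, U = Matrix.of fun i j => if j = 0 then x₀ i else y₀ i :=
      ⟨_, rfl⟩
    have hUv : ∀ v : Fin 2 → F, U *ᵥ v = v 0 • x₀ + v 1 • y₀ := by
      intro v
      ext i
      rw [hU]
      simp [Matrix.mulVec, dotProduct, Fin.sum_univ_two]
      ring
    have hdet : U.det ≠ 0 := by
      intro hd
      obtain ⟨v, hv, hv0⟩ := Matrix.exists_mulVec_eq_zero_iff.mpr hd
      rw [hUv] at hv0
      have e1 : f₁ x₀ (v 0 • x₀ + v 1 • y₀) = 0 := by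
        rw [hv0]
        have := hb.smul_right 0 x₀ 0
        rw [zero_smul, zero_mul] at this
        exact this
      rw [hb.add_right, hb.smul_right, hb.smul_right, hx₀0, hxy, mul_zero, zero_add] at e1
      have e2 : f₁ (v 0 • x₀ + v 1 • y₀) y₀ = 0 := by
        rw [hv0]
        have := hb.smul_left 0 0 y₀
        rw [zero_smul, zero_mul] at this
        exact this
      rw [hb.add_left, hb.smul_left, hb.smul_left, hyy, hxy, mul_zero, add_zero] at e2
      apply hv
      ext i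
      fin_cases i
      · exact (mul_eq_zero.mp e2).resolve_right hβ0
      · exact (mul_eq_zero.mp e1).resolve_right hβ0
    obtain ⟨U', hU'⟩ : ∃ U' : Matrix (Fin 2) (Fin 2) F, U' = U⁻¹ := ⟨_, rfl⟩
    have hUU' : U * U' = 1 := by
      rw [hU']
      exact Matrix.mul_nonsing_inv U (isUnit_iff_ne_zero.mpr hdet)
    have hU'U : U' * U = 1 := by
      rw [hU']
      exact Matrix.nonsing_inv_mul U (isUnit_iff_ne_zero.mpr hdet)
    obtain ⟨R, hR⟩ : ∃ R, R = Rm e P * (U ⊗ₖ (1 : Matrix (Fin n₂) (Fin n₂) F)) := ⟨_, rfl⟩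
    obtain ⟨R', hR'⟩ : ∃ R', R' = (U' ⊗ₖ (1 : Matrix (Fin n₂) (Fin n₂) F)) * Rm' e P := ⟨_, rfl⟩
    have hRR' : R * R' = 1 := by
      rw [hR, hR', Matrix.mul_assoc, ← Matrix.mul_assoc (U ⊗ₖ 1), ← Matrix.mul_kronecker_mul, hUU', Matrix.one_mul,
        Matrix.one_kronecker_one, Matrix.one_mul, Rm_mul_Rm']
    have hR'R : R' * R = 1 := by
      rw [hR, hR', Matrix.mul_assoc, ← Matrix.mul_assoc (Rm' e P), Rm'_mul_Rm, Matrix.one_mul,
        ← Matrix.mul_kronecker_mul, hU'U, Matrix.one_mul, Matrix.one_kronecker_one]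
    have hRpt : ∀ (u : Fin 2 → F) (y : Fin n₂ → F), R *ᵥ pt u y = Rm e P *ᵥ pt (U *ᵥ u) y := by
      intro u y
      rw [hR, ← Matrix.mulVec_mulVec, kron_mulVec_pt, Matrix.one_mulVec]
    have hcol0 : U *ᵥ ev F (0 : Fin 2) = x₀ := by
      rw [hUv, ev_apply, ev_apply]
      simp
    have hcol1 : U *ᵥ ev F (1 : Fin 2) = y₀ := by
      rw [hUv, ev_apply, ev_apply]
      simp
    have hcolss : ∀ l : Fin 2, f₁ (U *ᵥ ev F l) (U *ᵥ ev F l) = 0 := by
      intro l
      fin_cases l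
      · show f₁ (U *ᵥ ev F (0 : Fin 2)) (U *ᵥ ev F (0 : Fin 2)) = 0
        rw [hcol0, hx₀0]
      · show f₁ (U *ᵥ ev F (1 : Fin 2)) (U *ᵥ ev F (1 : Fin 2)) = 0
        rw [hcol1, hyy]
    refine ⟨blk R, ?_, ?_, ?_⟩
    · have := Cfsg.Agent.Lead.AschCU.blk_isMDecomposition (R := R) (R' := R') hR'R hRR' (by simpa using hn₂)
      simpa using this
    · intro l v hv
      obtain ⟨y, rfl⟩ := mem_blk.mp hv
      rw [hRpt]
      have h1 := polar_pt e P hb h₂.bilinear hc (U *ᵥ ev F l) (U *ᵥ ev F l) y y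
      rw [hcolss l, zero_mul, mul_zero, polar_self' hQ] at h1
      rcases mul_eq_zero.mp h1 with h | h
      · exact absurd h h2F
      · exact h
    · intro g hg
      obtain ⟨a, b, hab⟩ := mem_tensor (hle hg)
      obtain ⟨ν, hν, hA⟩ := factor_similitude e P hb h₂.bilinear h₁.nondegenerate h₂.nondegenerate
        ⟨c, hc0, hc⟩ (hHI hg) _ _ hab
      have hsim := form_of_gram_sim hb hA
      have hgR : (g : Matrix (Fin n) (Fin n) F) =
          R * ((U' * (a : Matrix (Fin 2) (Fin 2) F) * U) ⊗ₖ (b : Matrix (Fin n₂) (Fin n₂) F)) * R' := by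
        rw [hR, hR']
        exact conj_of hUU' hab
      obtain ⟨B, hB⟩ : ∃ B, B = U' * (a : Matrix (Fin 2) (Fin 2) F) * U := ⟨_, rfl⟩
      rw [← hB] at hgR
      have hUB : U * B = (a : Matrix (Fin 2) (Fin 2) F) * U := by
        rw [hB, ← Matrix.mul_assoc, ← Matrix.mul_assoc, hUU', Matrix.one_mul]
      have hax : ∀ v : Fin 2 → F, (a : Matrix (Fin 2) (Fin 2) F) *ᵥ (U *ᵥ v) =
          (B *ᵥ v) 0 • x₀ + (B *ᵥ v) 1 • y₀ := by
        intro v
        rw [Matrix.mulVec_mulVec, ← hUB, ← Matrix.mulVec_mulVec, hUv]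
      have hBev : ∀ l k : Fin 2, (B *ᵥ ev F l) k = B k l := fun l k => Frame.mulVec_ev B l k
      have hform : ∀ l l' : Fin 2, f₁ ((a : Matrix (Fin 2) (Fin 2) F) *ᵥ (U *ᵥ ev F l))
          ((a : Matrix (Fin 2) (Fin 2) F) *ᵥ (U *ᵥ ev F l')) = β * (B 0 l * B 1 l' + B 1 l * B 0 l') := by
        intro l l'
        rw [hax, hax, hBev, hBev, hBev, hBev]
        simp only [hb.add_left, hb.add_right, hb.smul_left, hb.smul_right, hx₀0, hyy, hxy, hyx]
        ring
      have e00 := hform 0 0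
      have e11 := hform 1 1
      have e01 := hform 0 1
      rw [hsim, hcol0, hx₀0] at e00
      rw [hsim, hcol1, hyy] at e11
      rw [hsim, hcol0, hcol1, hxy] at e01
      have k00 : B 0 0 * B 1 0 = 0 := by
        have h3 : (2 * β) * (B 0 0 * B 1 0) = 0 := by linear_combination (-1) * e00
        exact (mul_eq_zero.mp h3).resolve_left (mul_ne_zero h2F hβ0)
      have k11 : B 0 1 * B 1 1 = 0 := by
        have h3 : (2 * β) * (B 0 1 * B 1 1) = 0 := by linear_combination (-1) * e11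
        exact (mul_eq_zero.mp h3).resolve_left (mul_ne_zero h2F hβ0)
      have k01 : B 0 0 * B 1 1 + B 1 0 * B 0 1 = ν := by
        have h3 : β * (B 0 0 * B 1 1 + B 1 0 * B 0 1 - ν) = 0 := by linear_combination (-1) * e01
        have := (mul_eq_zero.mp h3).resolve_left hβ0
        linear_combination this
      have hbb' : (b : Matrix (Fin n₂) (Fin n₂) F) * ((b⁻¹ : GL (Fin n₂) F) : Matrix (Fin n₂) (Fin n₂) F) = 1 := by
        rw [← Units.val_mul, mul_inv_cancel, Units.val_one]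
      rcases mul_eq_zero.mp k00 with h00 | h10
      · -- `B 0 0 = 0`: antidiagonal
        rw [h00, zero_mul, zero_add] at k01
        have h10 : B 1 0 ≠ 0 := by
          intro h
          rw [h, zero_mul] at k01
          exact hν k01.symm
        have h01 : B 0 1 ≠ 0 := by
          intro h
          rw [h, mul_zero] at k01
          exact hν k01.symm
        have h11 : B 1 1 = 0 := (mul_eq_zero.mp k11).resolve_left h01
        refine stab_of_mono hR'R hbb' hgR (Equiv.swap 0 1) ?_ ?_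
        · intro l k hk
          fin_cases l <;> fin_cases k
          · exact h00
          · exact absurd rfl hk
          · exact absurd rfl hk
          · exact h11
        · intro l
          fin_cases l
          · exact h10
          · exact h01
      · -- `B 1 0 = 0`: diagonal
        rw [h10, zero_mul, add_zero] at k01
        have h00 : B 0 0 ≠ 0 := by
          intro h
          rw [h, zero_mul] at k01
          exact hν k01.symm
        have h11 : B 1 1 ≠ 0 := by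
          intro h
          rw [h, mul_zero] at k01
          exact hν k01.symm
        have h01 : B 0 1 = 0 := (mul_eq_zero.mp k11).resolve_right h11
        refine stab_of_mono hR'R hbb' hgR 1 ?_ ?_
        · intro l k hk
          fin_cases l <;> fin_cases k
          · exact absurd rfl hk
          · exact h10
          · exact h01
          · exact absurd rfl hk
        · intro l
          fin_cases l
          · exact h00
          · exact h11
  · -- anisotropic first factor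
    push Not at hiso
    left
    obtain ⟨G, hG⟩ : ∃ G : Matrix (Fin 2) (Fin 2) F, G = gramMatrix f₁ := ⟨_, rfl⟩
    have hs : G 1 0 = G 0 1 := by
      rw [hG]
      exact h₁.symm _ _
    have haniso : ∀ v : Fin 2 → F, v ≠ 0 → v ⬝ᵥ (G *ᵥ v) ≠ 0 := by
      intro v hv
      rw [hG, ← eq_dot_gram f₁ h₁.bilinear]
      exact hiso v hv
    have hE : IsFieldSubalgebra 2 (K1 G hs) := K1_isField hs haniso
    have hadj : ∀ x y : F, ∀ u v : Fin n → F,
        QuadraticMap.polar Q (tensHom e P (x • (1 : Matrix (Fin 2) (Fin 2) F) + y • Jm G) *ᵥ u) v =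
          QuadraticMap.polar Q u (tensHom e P (x • (1 : Matrix (Fin 2) (Fin 2) F) + (-y) • Jm G) *ᵥ v) := by
      intro x y u v
      refine polar_tensHom_adj hn₂ e P h₁.bilinear h₂.bilinear hT _ _ ?_ u v
      rw [← hG, Matrix.transpose_add, Matrix.transpose_smul, Matrix.transpose_smul, Matrix.transpose_one,
        Matrix.add_mul, Matrix.mul_add, Matrix.smul_mul, Matrix.smul_mul, Matrix.mul_smul, Matrix.mul_smul,
        Matrix.one_mul, Matrix.mul_one, Jm_transpose_mul G hs]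
      module
    refine ⟨(K1 G hs).map (tensHom e P), isFieldSubalgebra_map hE _ (tensHom_injective hn₂ e P), ?_, ?_, ?_⟩
    · rintro _ ⟨z, ⟨x, y, rfl⟩, rfl⟩
      exact ⟨_, ⟨_, ⟨x, -y, rfl⟩, rfl⟩, hadj x y⟩
    · intro hsa
      have hJK : tensHom e P (Jm G) ∈ (K1 G hs).map (tensHom e P) :=
        ⟨_, ⟨0, 1, by rw [zero_smul, one_smul, zero_add]⟩, rfl⟩
      have h1 := hsa _ hJK
      have h2 := hadj 0 1
      simp only [zero_smul, one_smul, zero_add, neg_smul, map_neg, Matrix.neg_mulVec] at h2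
      have hpb := hQ.polar_bilinear
      have hzero : ∀ u v : Fin n → F, QuadraticMap.polar Q u (tensHom e P (Jm G) *ᵥ v) = 0 := by
        intro u v
        have h3 := h1 u v
        rw [h2 u v] at h3
        have hneg : QuadraticMap.polar Q u (-(tensHom e P (Jm G) *ᵥ v)) =
            -QuadraticMap.polar Q u (tensHom e P (Jm G) *ᵥ v) := by
          have := hpb.smul_right (-1) u (tensHom e P (Jm G) *ᵥ v)
          rw [neg_one_smul, neg_one_mul] at this
          exact this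
        rw [hneg] at h3
        have h4 : (2 : F) * QuadraticMap.polar Q u (tensHom e P (Jm G) *ᵥ v) = 0 := by linear_combination -h3
        exact (mul_eq_zero.mp h4).resolve_left h2F
      have hJ0 : tensHom e P (Jm G) = 0 := by
        have hv0 : ∀ v : Fin n → F, tensHom e P (Jm G) *ᵥ v = 0 := by
          intro v
          by_contra hne
          obtain ⟨w, hw⟩ := (hQ.nondegenerate _ hne).1
          exact hw (hzero w v)
        ext i j
        have := congrFun (hv0 (Pi.single j 1)) i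
        rw [Matrix.mulVec_single_one] at this
        exact this
      have hJm0 : Jm G = 0 := tensHom_injective hn₂ e P (by rw [hJ0, map_zero])
      have h10 := congrFun (congrFun hJm0 1) 0
      simp [Jm] at h10
      exact G00_ne_zero haniso h10
    apply le_subalgebraNormalizer_of_conj_mem
    rintro g hg _ ⟨z, hz, rfl⟩
    obtain ⟨a, b, hab⟩ := mem_tensor (hle hg)
    obtain ⟨ν, hν, hA⟩ := factor_similitude e P h₁.bilinear h₂.bilinear h₁.nondegenerate h₂.nondegenerate hT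
      (hHI hg) _ _ hab
    rw [← hG] at hA
    have hginv : ((g⁻¹ : GL (Fin n) F) : Matrix (Fin n) (Fin n) F) =
        Rm e P * (((a⁻¹ : GL (Fin 2) F) : Matrix (Fin 2) (Fin 2) F) ⊗ₖ
          ((b⁻¹ : GL (Fin n₂) F) : Matrix (Fin n₂) (Fin n₂) F)) * Rm' e P := by
      apply Units.inv_eq_of_mul_eq_one_right
      rw [hab, Rm_conj_mul, ← Matrix.mul_kronecker_mul, ← Units.val_mul, ← Units.val_mul, mul_inv_cancel,
        mul_inv_cancel, Units.val_one, Units.val_one, Matrix.one_kronecker_one, Matrix.mul_one, Rm_mul_Rm']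
    show (g : Matrix (Fin n) (Fin n) F) * tensHom e P z * ((g⁻¹ : GL (Fin n) F) : Matrix (Fin n) (Fin n) F) ∈ _
    have hconj : (g : Matrix (Fin n) (Fin n) F) * tensHom e P z *
        ((g⁻¹ : GL (Fin n) F) : Matrix (Fin n) (Fin n) F) =
        tensHom e P ((a : Matrix (Fin 2) (Fin 2) F) * z * ((a⁻¹ : GL (Fin 2) F) : Matrix (Fin 2) (Fin 2) F)) := by
      rw [hginv, hab, tensHom_eq_Rm, tensHom_eq_Rm, Rm_conj_mul, Rm_conj_mul, ← Matrix.mul_kronecker_mul,
        ← Matrix.mul_kronecker_mul, Matrix.mul_one, ← Units.val_mul, mul_inv_cancel, Units.val_one]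
    rw [hconj]
    exact ⟨_, K1_conj hs a hν hA hz, rfl⟩

end Cfsg.Agent.Lead.AschOm
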