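import Mathlib

/-!
# ASCH-OM part 3 (lead): piece D5-C3, abstract part: a quadratic form over `F` whose polar form is balanced for a finite
field extension `K` acting on the space comes from a `K`-valued quadratic form

`F` a finite field, `K` a finite field extension acting on `V`, `Q : V → F` a quadratic form whose polar form `B`
satisfies `B (k • u) v = B u (k • v)`. For a fixed non-zero `F`-linear functional `θ` on `K` there is a unique
`q : V → K` with `Q (k • v) = θ (k * k * q v)`; it is a `K`-quadratic form whose polar form `β` satisfies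
`B (k • u) v = θ (k * β u v)`.
-/

set_option autoImplicit false

namespace Cfsg.Agent.Lead.FieldQuad

open Module

variable {F K V : Type*} [Field F] [Field K] [Algebra F K]

/-- `c ↦ (l ↦ θ (l * c))` -/
noncomputable def dmap (θ : K →ₗ[F] F) : K →ₗ[F] Module.Dual F K where
  toFun c := θ.comp (LinearMap.mulRight F c)
  map_add' c c' := by
    ext l
    simp only [LinearMap.comp_apply, LinearMap.mulRight_apply, LinearMap.add_apply, mul_add, map_add]
  map_smul' a c := by
    ext l
    simp only [LinearMap.comp_apply, LinearMap.mulRight_apply, LinearMap.smul_apply, RingHom.id_apply,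
      mul_smul_comm, map_smul]

theorem dmap_apply (θ : K →ₗ[F] F) (c l : K) : dmap θ c l = θ (l * c) := rfl

theorem dmap_injective {θ : K →ₗ[F] F} (hθ : θ ≠ 0) : Function.Injective (dmap θ) := by
  rw [← LinearMap.ker_eq_bot, LinearMap.ker_eq_bot']
  intro c hc
  by_contra hc0
  apply hθ
  ext m
  have h := LinearMap.congr_fun hc (m * c⁻¹)
  rw [dmap_apply, mul_assoc, inv_mul_cancel₀ hc0, mul_one] at h
  rw [h]
  rfl

theorem dmap_surjective [FiniteDimensional F K] {θ : K →ₗ[F] F} (hθ : θ ≠ 0) : Function.Surjective (dmap θ) :=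
  (LinearMap.injective_iff_surjective_of_finrank_eq_finrank (Subspace.dual_finrank_eq).symm).1 (dmap_injective hθ)

/-- every functional on `K` is `l ↦ θ (l * c)` -/
theorem exists_dual_elt [FiniteDimensional F K] {θ : K →ₗ[F] F} (hθ : θ ≠ 0) (φ : K →ₗ[F] F) :
    ∃ c : K, ∀ l : K, φ l = θ (l * c) := by
  obtain ⟨c, hc⟩ := dmap_surjective hθ φ
  exact ⟨c, fun l => by rw [← hc, dmap_apply]⟩

theorem eq_of_forall_theta {θ : K →ₗ[F] F} (hθ : θ ≠ 0) {c c' : K} (h : ∀ l : K, θ (l * c) = θ (l * c')) :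
    c = c' := by
  apply dmap_injective hθ
  ext l
  exact h l

theorem exists_theta [FiniteDimensional F K] : ∃ θ : K →ₗ[F] F, θ ≠ 0 := by
  by_contra hcon
  push Not at hcon
  have h1 : (1 : K) = 0 := (Module.forall_dual_apply_eq_zero_iff F (1 : K)).1 (fun f => by
    rw [hcon f]
    rfl)
  exact one_ne_zero h1

theorem two_eq_zero_of (h2 : (2 : F) = 0) : (2 : K) = 0 := by
  have h := congrArg (algebraMap F K) h2
  rw [map_ofNat, map_zero] at h
  exact h

theorem exists_sqrt_of_two_eq_zero {L : Type*} [Field L] [Finite L] (h2 : (2 : L) = 0) (μ : L) : ∃ ρ : L, ρ * ρ = μ := by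
  have hchar : ringChar L = 2 := by
    have hdvd : ringChar L ∣ 2 := (ringChar.spec L 2).mp (by exact_mod_cast h2)
    have hprime : (ringChar L).Prime := CharP.char_is_prime L (ringChar L)
    exact (Nat.prime_dvd_prime_iff_eq hprime Nat.prime_two).mp hdvd
  letI : Fintype L := Fintype.ofFinite L
  obtain ⟨m, hm⟩ := FiniteField.isSquare_of_char_two hchar μ
  exact ⟨m, hm.symm⟩

/-- the squares lemma -/
theorem eq_zero_of_forall_sq [Finite K] {θ : K →ₗ[F] F} (hθ : θ ≠ 0) {c : K} (h : ∀ l : K, θ (l * l * c) = 0) :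
    c = 0 := by
  apply eq_of_forall_theta hθ (c' := 0)
  intro l
  rw [mul_zero, map_zero]
  by_cases h2 : (2 : F) = 0
  · -- every element is a square
    obtain ⟨m, hm⟩ := exists_sqrt_of_two_eq_zero (two_eq_zero_of (K := K) h2) l
    rw [← hm]
    exact h m
  · have h1 := h (l + 1)
    have h3 := h l
    have h4 := h 1
    have e : (l + 1) * (l + 1) * c = l * l * c + (2 : F) • (l * c) + 1 * 1 * c := by
      rw [Algebra.smul_def, map_ofNat]
      ring
    rw [e, map_add, map_add, h3, h4, map_smul, smul_eq_mul, zero_add, add_zero] at h1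
    exact (mul_eq_zero.mp h1).resolve_left h2

theorem eq_of_forall_sq [Finite K] {θ : K →ₗ[F] F} (hθ : θ ≠ 0) {c c' : K}
    (h : ∀ l : K, θ (l * l * c) = θ (l * l * c')) : c = c' := by
  rw [← sub_eq_zero]
  apply eq_zero_of_forall_sq hθ
  intro l
  rw [mul_sub, map_sub, h l, sub_self]

/-! ## the forms -/

section forms

variable [AddCommGroup V] [Module F V] [Module K V] [IsScalarTower F K V]

open QuadraticMap in
/-- a quadratic form over `F` whose polar form is balanced for the action of `K` -/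
structure BalQuad (K : Type*) [Field K] [Algebra F K] [Module K V] (Q : V → F) : Prop where
  smul : ∀ (a : F) (v : V), Q (a • v) = a * a * Q v
  add_left : ∀ u u' v : V, polar Q (u + u') v = polar Q u v + polar Q u' v
  smul_left : ∀ (a : F) (u v : V), polar Q (a • u) v = a * polar Q u v
  bal : ∀ (k : K) (u v : V), polar Q (k • u) v = polar Q u (k • v)

open QuadraticMap

omit [Module F V] in
theorem quad_add (Q : V → F) (x y : V) : Q (x + y) = Q x + Q y + polar Q x y := by
  unfold polar
  ring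

omit [IsScalarTower F K V] in
theorem BalQuad.diag {Q : V → F} (hQ : BalQuad K Q) (x : V) : polar Q x x = 2 * Q x := by
  unfold polar
  have : x + x = (2 : F) • x := (two_smul F x).symm
  rw [this, hQ.smul]
  ring

theorem exists_beta [FiniteDimensional F K] {θ : K →ₗ[F] F} (hθ : θ ≠ 0) {Q : V → F} (hQ : BalQuad K Q) (u v : V) :
    ∃ c : K, ∀ l : K, polar Q (l • u) v = θ (l * c) := by
  let φ : K →ₗ[F] F :=
    { toFun := fun l => polar Q (l • u) v
      map_add' := fun l l' => by rw [add_smul, hQ.add_left]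
      map_smul' := fun a l => by rw [smul_assoc, hQ.smul_left]; rfl }
  exact exists_dual_elt hθ φ

theorem exists_q_odd [FiniteDimensional F K] {θ : K →ₗ[F] F} (hθ : θ ≠ 0) {Q : V → F} (hQ : BalQuad K Q)
    (h2 : (2 : F) ≠ 0) (v : V) : ∃ c : K, ∀ l : K, Q (l • v) = θ (l * l * c) := by
  obtain ⟨c, hc⟩ := exists_beta hθ hQ v v
  refine ⟨(2⁻¹ : F) • c, fun l => ?_⟩
  rw [mul_smul_comm, map_smul, ← hc (l * l), mul_smul, hQ.bal, hQ.diag, smul_eq_mul, ← mul_assoc,
    inv_mul_cancel₀ h2, one_mul]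

theorem exists_q_two [Finite K] {θ : K →ₗ[F] F} (hθ : θ ≠ 0) {Q : V → F} (hQ : BalQuad K Q)
    (h2 : (2 : F) = 0) (v : V) : ∃ c : K, ∀ l : K, Q (l • v) = θ (l * l * c) := by
  classical
  have h2K : (2 : K) = 0 := two_eq_zero_of h2
  have : Finite F := Finite.of_injective _ (FaithfulSMul.algebraMap_injective F K)
  have sq_inj : ∀ x y : K, x * x = y * y → x = y := by
    intro x y h
    have e : (x - y) * (x - y) = x * x + y * y - 2 * (x * y) := by ring
    have e2 : y * y + y * y = 2 * (y * y) := by ring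
    rw [h, e2, h2K, zero_mul, zero_mul, sub_zero] at e
    exact sub_eq_zero.mp (mul_self_eq_zero.mp e)
  have hsqK : ∀ μ : K, ∃ ρ : K, ρ * ρ = μ := exists_sqrt_of_two_eq_zero h2K
  have hsqF : ∀ a : F, ∃ b : F, b * b = a := exists_sqrt_of_two_eq_zero h2
  choose σ hσ using hsqK
  have hdiag : ∀ x : V, polar Q x x = 0 := fun x => by rw [hQ.diag, h2, zero_mul]
  have hzero : ∀ ν : K, polar Q (ν • v) v = 0 := by
    intro ν
    rw [← hσ ν, mul_smul, hQ.bal]
    exact hdiag _
  have hσadd : ∀ μ μ' : K, σ (μ + μ') = σ μ + σ μ' := by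
    intro μ μ'
    apply sq_inj
    have e : (σ μ + σ μ') * (σ μ + σ μ') = σ μ * σ μ + σ μ' * σ μ' + 2 * (σ μ * σ μ') := by ring
    rw [hσ, e, hσ, hσ, h2K, zero_mul, add_zero]
  have hσsmul : ∀ (a b : F) (μ : K), b * b = a → σ (a • μ) = b • σ μ := by
    intro a b μ hab
    apply sq_inj
    rw [hσ, smul_mul_smul_comm, hσ, hab]
  let ψ : K →ₗ[F] F :=
    { toFun := fun μ => Q (σ μ • v)
      map_add' := fun μ μ' => by
        rw [hσadd, add_smul, quad_add Q, ← hQ.bal, ← mul_smul, hzero, add_zero]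
      map_smul' := fun a μ => by
        obtain ⟨b, hb⟩ := hsqF a
        rw [hσsmul a b μ hb, smul_assoc, hQ.smul, hb]
        rfl }
  obtain ⟨c, hc⟩ := exists_dual_elt hθ ψ
  refine ⟨c, fun l => ?_⟩
  have e : σ (l * l) = l := sq_inj _ _ (hσ _)
  rw [← hc (l * l)]
  change Q (l • v) = Q (σ (l * l) • v)
  rw [e]

theorem exists_q [Finite K] {θ : K →ₗ[F] F} (hθ : θ ≠ 0) {Q : V → F} (hQ : BalQuad K Q) (v : V) :
    ∃ c : K, ∀ l : K, Q (l • v) = θ (l * l * c) := by
  by_cases h2 : (2 : F) = 0
  · exact exists_q_two hθ hQ h2 v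
  · exact exists_q_odd hθ hQ h2 v

/-- **C3, abstract form.** -/
theorem exists_field_quad [Finite K] {Q : V → F} (hQ : BalQuad K Q) (hne : ∃ v, Q v ≠ 0) :
    ∃ (q : V → K) (β : V → V → K),
      (∀ u v, q (u + v) = q u + q v + β u v) ∧ (∀ (k : K) v, q (k • v) = k * k * q v) ∧
      (∀ u u' v, β (u + u') v = β u v + β u' v) ∧ (∀ (k : K) u v, β (k • u) v = k * β u v) ∧
      (∀ u v, β u v = β v u) ∧ (∃ v, q v ≠ 0) ∧
      (∀ g : V → V, (∀ (k : K) v, g (k • v) = k • g v) → (∀ v, Q (g v) = Q v) → ∀ v, q (g v) = q v) := by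
  obtain ⟨θ, hθ⟩ := exists_theta (F := F) (K := K)
  choose β hβ using fun u v => exists_beta hθ hQ u v
  choose q hq using fun v => exists_q hθ hQ v
  refine ⟨q, β, ?_, ?_, ?_, ?_, ?_, ?_, ?_⟩
  · intro u v
    apply eq_of_forall_sq hθ
    intro l
    rw [← hq, smul_add, quad_add Q, hq, hq, ← hQ.bal, ← mul_smul, hβ, mul_add, mul_add, map_add, map_add]
  · intro k v
    apply eq_of_forall_sq hθ
    intro l
    rw [← hq, ← mul_smul, hq]
    congr 1
    ring
  · intro u u' v
    apply eq_of_forall_theta hθ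
    intro l
    rw [← hβ, smul_add, hQ.add_left, hβ, hβ, mul_add, map_add]
  · intro k u v
    apply eq_of_forall_theta hθ
    intro l
    rw [← hβ, ← mul_smul, hβ, mul_assoc]
  · intro u v
    apply eq_of_forall_theta hθ
    intro l
    rw [← hβ, hQ.bal, polar_comm, hβ]
  · obtain ⟨v, hv⟩ := hne
    refine ⟨v, fun h0 => hv ?_⟩
    have := hq v 1
    rw [one_smul, h0, mul_zero, map_zero] at this
    exact this
  · intro g hg hgQ v
    apply eq_of_forall_sq hθ
    intro l
    rw [← hq, ← hg, hgQ, hq]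

end forms

end Cfsg.Agent.Lead.FieldQuad
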