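import Cfsg.Agent.Lead.AschOmG
import Cfsg.Agent.Helper7.FExA
import Cfsg.Prelude.Def_Classical

/-!
# ASCH-OM part 3 (lead): piece D5-C3, matrix form

For a self-adjoint field subalgebra `E` of the matrix algebra and a non-degenerate quadratic form `Q` on `F^n`, an
`E`-valued quadratic form on `F^n` (values written as matrices in `E`) invariant under every isometry of `Q` that commutes
with `E`.
-/

set_option autoImplicit false

namespace Cfsg.Agent.Lead.AschOm

open Cfsg Cfsg.Geo Matrix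

variable {F : Type*} [Field F] [Fintype F]

theorem exists_field_quadratic {n r : ℕ} (Q : (Fin n → F) → F) (hQ : IsNondegenerateQuadraticForm Q)
    (E : Subalgebra F (Matrix (Fin n) (Fin n) F)) (hE : IsFieldSubalgebra r E) (hn : 0 < n)
    (hsa : IsSelfAdjointFor (QuadraticMap.polar Q) E) :
    ∃ (qE : (Fin n → F) → Matrix (Fin n) (Fin n) F)
      (bE : (Fin n → F) → (Fin n → F) → Matrix (Fin n) (Fin n) F),
      (∀ v, qE v ∈ E) ∧ (∀ u v, bE u v ∈ E) ∧
      (∀ u v, qE (u + v) = qE u + qE v + bE u v) ∧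
      (∀ k ∈ E, ∀ v, qE (k *ᵥ v) = k * k * qE v) ∧
      (∀ u u' v, bE (u + u') v = bE u v + bE u' v) ∧
      (∀ k ∈ E, ∀ u v, bE (k *ᵥ u) v = k * bE u v) ∧
      (∀ u v, bE u v = bE v u) ∧
      (∃ v, qE v ≠ 0) ∧
      (∀ g ∈ isometryGroup F Q, (∀ k ∈ E, (g : Matrix (Fin n) (Fin n) F) * k = k * (g : Matrix (Fin n) (Fin n) F)) →
        ∀ v, qE ((g : Matrix (Fin n) (Fin n) F) *ᵥ v) = qE v) := by
  classical
  haveI : Nonempty (Fin n) := ⟨⟨0, hn⟩⟩
  letI := Cfsg.Agent.Helper7.FEx.fieldOfSub E hE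
  letI := Cfsg.Agent.Helper7.FEx.modOfSub E
  have key : ∀ (a : F) (k : E) (v : Fin n → F), (a • k) • v = a • (k • v) :=
    fun a k v => Cfsg.Agent.Helper7.FEx.smul_assoc' E a k v
  haveI : IsScalarTower F E (Fin n → F) := ⟨key⟩
  have hB : Cfsg.Agent.Lead.FieldQuad.BalQuad (F := F) (V := Fin n → F) E Q :=
    { smul := fun a v => by rw [hQ.smul, pow_two]
      add_left := hQ.polar_bilinear.add_left
      smul_left := hQ.polar_bilinear.smul_left
      bal := fun k u v => hsa k.1 k.2 u v }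
  have hne : ∃ v, Q v ≠ 0 := by
    by_contra hcon
    push Not at hcon
    have hv : (fun _ => 1 : Fin n → F) ≠ 0 := fun h => one_ne_zero (congrFun h ⟨0, hn⟩)
    obtain ⟨⟨x, hx⟩, -⟩ := hQ.nondegenerate _ hv
    apply hx
    unfold QuadraticMap.polar
    rw [hcon, hcon, hcon]
    ring
  obtain ⟨q, β, h1, h2, h3, h4, h5, h6, h7⟩ :=
    @Cfsg.Agent.Lead.FieldQuad.exists_field_quad F E (Fin n → F) _ _ _ _ _ _ ⟨key⟩ _ Q hB hne
  refine ⟨fun v => (q v : Matrix (Fin n) (Fin n) F), fun u v => (β u v : Matrix (Fin n) (Fin n) F),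
    fun v => (q v).2, fun u v => (β u v).2, ?_, ?_, ?_, ?_, ?_, ?_, ?_⟩
  · intro u v
    have := congrArg Subtype.val (h1 u v)
    exact this
  · intro k hk v
    have := congrArg Subtype.val (h2 ⟨k, hk⟩ v)
    exact this
  · intro u u' v
    have := congrArg Subtype.val (h3 u u' v)
    exact this
  · intro k hk u v
    have := congrArg Subtype.val (h4 ⟨k, hk⟩ u v)
    exact this
  · intro u v
    exact congrArg Subtype.val (h5 u v)
  · obtain ⟨v, hv⟩ := h6
    exact ⟨v, fun h => hv (Subtype.ext h)⟩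
  · intro g hg hcomm v
    have := h7 (fun w => (g : Matrix (Fin n) (Fin n) F) *ᵥ w) (fun k w => by
      change (g : Matrix (Fin n) (Fin n) F) *ᵥ (k.1 *ᵥ w) = k.1 *ᵥ ((g : Matrix (Fin n) (Fin n) F) *ᵥ w)
      rw [Matrix.mulVec_mulVec, Matrix.mulVec_mulVec, hcomm k.1 k.2]) (fun w => hg w w) v
    exact congrArg Subtype.val this

end Cfsg.Agent.Lead.AschOm
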