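import Mathlib
import Cfsg.Prelude
import Cfsg.Agent.Helper2.BG144e
import Cfsg.Agent.Helper4.BG10d
import Cfsg.Agent.Lead.BG127b
import Cfsg.Agent.Lead.BG12b
import Cfsg.Agent.S1374
import Cfsg.Agent.S1375

set_option autoImplicit false

/-!
Bender–Glauberman Lemma 14.13-type statement (second half of S1436): if two "bad" elements
`x, y` of `M_σ` have their centralizers in maximal subgroups `N`, `N'` which are conjugate in `G`,
then `N`, `N'` are already conjugate under `M`.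
-/

namespace Cfsg.Agent.Lead.BG1413

open Cfsg
open scoped Pointwise

universe u

variable {G : Type u} [Group G] [Finite G]

omit [Finite G] in
theorem smul_eq_map_conj (g : G) (H : Subgroup G) :
    MulAut.conj g • H = H.map (MulAut.conj g).toMonoidHom := rfl

/-- the data of S1375 for a given maximal `N ⊇ C_G(x)` -/
theorem compl_of_bad (hG : Cfsg.IsMinSimpleOddOrder G) {M : Subgroup G} (hM : IsCoatom M)
    {x : G} (hx : x ∈ Cfsg.sigmaCore M) (hx1 : x ≠ 1)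
    (hxM : ¬ Subgroup.centralizer ({x} : Set G) ≤ M) {N : Subgroup G} (hN : IsCoatom N)
    (hxN : Subgroup.centralizer ({x} : Set G) ≤ N) :
    Cfsg.IsComplIn (M ⊓ N) (Cfsg.sigmaCore N) N := by
  obtain ⟨N0, -, huniq, -, -, -, hc, -⟩ := Cfsg.Agent.S1375.result hG M hM x hx hx1 hxM
  have : N = N0 := huniq N hN hxN
  subst this
  exact hc

theorem conj_by_mem (hG : Cfsg.IsMinSimpleOddOrder G) {M : Subgroup G} (hM : IsCoatom M)
    {x : G} (hx : x ∈ Cfsg.sigmaCore M) (hx1 : x ≠ 1)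
    (hxM : ¬ Subgroup.centralizer ({x} : Set G) ≤ M) {N : Subgroup G} (hN : IsCoatom N)
    (hxN : Subgroup.centralizer ({x} : Set G) ≤ N)
    {y : G} {N' : Subgroup G} {g : G} (hy : y ∈ Cfsg.sigmaCore M) (hy1 : y ≠ 1)
    (hyM : ¬ Subgroup.centralizer ({y} : Set G) ≤ M) (hN' : IsCoatom N')
    (hyN' : Subgroup.centralizer ({y} : Set G) ≤ N')
    (hg : N'.map (MulAut.conj g).toMonoidHom = N) :
    ∃ m ∈ M, N'.map (MulAut.conj m).toMonoidHom = N := by
  classical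
  have hc1 := compl_of_bad hG hM hx hx1 hxM hN hxN
  have hc2 := compl_of_bad hG hM hy hy1 hyM hN' hyN'
  -- transport `hc2` by `g`
  have hinj : Function.Injective (MulAut.conj g).toMonoidHom := (MulAut.conj g).injective
  have hσ : (Cfsg.sigmaCore N').map (MulAut.conj g).toMonoidHom = Cfsg.sigmaCore N := by
    rw [← Cfsg.Agent.Helper2.BG144.sigmaCore_map_conj hG hN' g, hg]
  have hc2' : Cfsg.IsComplIn ((M ⊓ N').map (MulAut.conj g).toMonoidHom) (Cfsg.sigmaCore N) N := by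
    obtain ⟨h1, h2, h3, h4⟩ := hc2
    refine ⟨?_, Cfsg.Agent.Lead.BG12.sigmaCore_le, ?_, ?_⟩
    · rw [← hg]; exact Subgroup.map_mono h1
    · rw [← hσ, ← Subgroup.map_inf _ _ _ hinj, h3, Subgroup.map_bot]
    · intro n hn
      rw [← hg] at hn
      obtain ⟨n', hn', rfl⟩ := hn
      obtain ⟨a, ha, b, hb, hab⟩ := h4 n' hn'
      refine ⟨(MulAut.conj g).toMonoidHom a, Subgroup.mem_map_of_mem _ ha,
        (MulAut.conj g).toMonoidHom b, ?_, ?_⟩
      · rw [← hσ]; exact Subgroup.mem_map_of_mem _ hb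
      · rw [hab, map_mul]
  obtain ⟨n, hn, hnE⟩ := Cfsg.Agent.Lead.BG127.exists_conj_compl hG hN hc1 hc2'
  -- `c = n g`
  rw [smul_eq_map_conj] at hnE
  set c : G := n * g with hcdef
  -- `y' = c y c⁻¹`
  have hyC : y ∈ Subgroup.centralizer ({y} : Set G) := by
    rw [Subgroup.mem_centralizer_singleton_iff]
  have hyMN' : y ∈ M ⊓ N' := ⟨Cfsg.Agent.Lead.BG12.sigmaCore_le hy, hyN' hyC⟩
  have hy'MN : n * (g * y * g⁻¹) * n⁻¹ ∈ M ⊓ N := by
    rw [← hnE]
    refine ⟨g * y * g⁻¹, ⟨y, hyMN', ?_⟩, ?_⟩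
    · simp [MulAut.conj_apply]
    · simp [MulAut.conj_apply]
  have hy'eq : n * (g * y * g⁻¹) * n⁻¹ = c * y * c⁻¹ := by rw [hcdef]; group
  rw [hy'eq] at hy'MN
  have hy'1 : c * y * c⁻¹ ≠ 1 := by
    intro h
    apply hy1
    have : y = c⁻¹ * (c * y * c⁻¹) * c := by group
    rw [this, h]; group
  -- `y'` lies in `σCore M`
  have hy'σ : c * y * c⁻¹ ∈ Cfsg.sigmaCore M := by
    obtain ⟨-, hcop⟩ := Cfsg.Agent.Helper4.BG10.card_eq_relIndex_mul_card_sigmaCore hG hM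
    apply Cfsg.Agent.Lead.BG12.mem_of_pow_eq_one_of_coprime_relIndex
      (Cfsg.Agent.Lead.BG12.le_normalizer_sigmaCore M) hcop.symm hy'MN.1
    rw [conj_pow]
    have h1 : (⟨y, hy⟩ : ↥(Cfsg.sigmaCore M)) ^ Nat.card ↥(Cfsg.sigmaCore M) = 1 :=
      pow_card_eq_one'
    have h2 := congrArg Subtype.val h1
    rw [Subgroup.coe_pow, Subgroup.coe_one] at h2
    rw [h2]; group
  -- `y' ∈ M^c`
  have hy'Mc : c * y * c⁻¹ ∈ M.map (MulAut.conj c).toMonoidHom :=
    ⟨y, Cfsg.Agent.Lead.BG12.sigmaCore_le hy, by simp [MulAut.conj_apply]⟩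
  -- centralizer of `y'` lies in `N`
  have hCy' : Subgroup.centralizer ({c * y * c⁻¹} : Set G) ≤ N := by
    intro z hz
    rw [Subgroup.mem_centralizer_singleton_iff] at hz
    have hz' : c⁻¹ * z * c ∈ Subgroup.centralizer ({y} : Set G) := by
      rw [Subgroup.mem_centralizer_singleton_iff]
      have e1 : c⁻¹ * z * c * y = c⁻¹ * (z * (c * y * c⁻¹)) * c := by group
      have e2 : y * (c⁻¹ * z * c) = c⁻¹ * ((c * y * c⁻¹) * z) * c := by group
      rw [e1, e2, hz]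
    have h1 : c⁻¹ * z * c ∈ N' := hyN' hz'
    have h2 : g * (c⁻¹ * z * c) * g⁻¹ ∈ N := by
      rw [← hg]; exact ⟨_, h1, by simp [MulAut.conj_apply]⟩
    have h3 : n * (g * (c⁻¹ * z * c) * g⁻¹) * n⁻¹ ∈ N :=
      N.mul_mem (N.mul_mem hn h2) (N.inv_mem hn)
    have : n * (g * (c⁻¹ * z * c) * g⁻¹) * n⁻¹ = z := by rw [hcdef]; group
    rwa [this] at h3
  -- S1374 for `y'`
  obtain ⟨-, R, -, hRc, hRu⟩ := Cfsg.Agent.S1374.result hG M hM (c * y * c⁻¹) hy'σ hy'1
  obtain ⟨r, ⟨hrR, hrM⟩, -⟩ := hRu c hy'Mc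
  have hrN : r ∈ N := hCy' (hRc.2.1 hrR)
  -- `r⁻¹ c ∈ M`
  have hMbot : M ≠ ⊥ := by
    intro h
    have := Cfsg.Agent.Lead.BG12.sigmaCore_le hx
    rw [h, Subgroup.mem_bot] at this
    exact hx1 this
  have hNM : Subgroup.normalizer (M : Set G) = M :=
    Cfsg.Agent.Helper1.BGU.normalizer_eq_of_coatom hG hM Subgroup.le_normalizer hMbot hM.1
  have hm0 : r⁻¹ * c ∈ M := by
    have h3 := Cfsg.Agent.Helper2.BG144.mem_normalizer_of_map_eq hrM.symm
    rw [hNM] at h3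
    exact h3
  refine ⟨r⁻¹ * c, hm0, ?_⟩
  -- `N'^(r⁻¹ c) = N`
  have e1 : N'.map (MulAut.conj c).toMonoidHom = N := by
    rw [hcdef, ← Cfsg.Agent.Helper2.BG144.map_conj_map_conj, hg]
    ext z
    constructor
    · rintro ⟨w, hw, rfl⟩
      simp only [MulEquiv.coe_toMonoidHom, MulAut.conj_apply]
      exact N.mul_mem (N.mul_mem hn hw) (N.inv_mem hn)
    · intro hz
      refine ⟨n⁻¹ * z * n, N.mul_mem (N.mul_mem (N.inv_mem hn) hz) hn, ?_⟩
      simp only [MulEquiv.coe_toMonoidHom, MulAut.conj_apply]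
      group
  rw [← Cfsg.Agent.Helper2.BG144.map_conj_map_conj, e1]
  ext z
  constructor
  · rintro ⟨w, hw, rfl⟩
    simp only [MulEquiv.coe_toMonoidHom, MulAut.conj_apply]
    exact N.mul_mem (N.mul_mem (N.inv_mem hrN) hw) (N.inv_mem (N.inv_mem hrN))
  · intro hz
    refine ⟨r * z * r⁻¹, N.mul_mem (N.mul_mem hrN hz) (N.inv_mem hrN), ?_⟩
    simp only [MulEquiv.coe_toMonoidHom, MulAut.conj_apply]
    group

end Cfsg.Agent.Lead.BG1413
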