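import Mathlib
import Cfsg.Prelude
import Cfsg.Agent.Lead.BG14IIb
import Cfsg.Agent.Lead.BG123
import Cfsg.Agent.Helper1.BGPartC

set_option autoImplicit false
set_option linter.unusedSectionVars false
set_option linter.unusedVariables false
set_option linter.style.haveILetI false

/-!
Towards the kill of the non-regular configuration (Bender–Glauberman 14.7(f)-type counting):
partners of an `IsII2` maximal subgroup.
-/

namespace Cfsg.Agent.Lead.BG147

open Cfsg Cfsg.Agent.Helper1 Cfsg.Agent.Lead.BG12 Cfsg.Agent.Lead.BG14II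
open scoped commutatorElement Pointwise

universe u

variable {G : Type u} [Group G] [Finite G]

/-- A partner of `M` (relative to the complement `E`): a maximal subgroup `H` containing the
normalizer of a subgroup `X` of prime order of `E`. -/
structure Partner (E H X : Subgroup G) : Prop where
  coatom : IsCoatom H
  le : X ≤ E
  prime : (Nat.card X).Prime
  norm : Subgroup.normalizer (X : Set G) ≤ H

variable {M E H X : Subgroup G}

theorem Partner.mem_kappa (h : IsII2 M E) (c : Partner E H X) : Nat.card X ∈ Cfsg.kappa M :=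
  h.kappa _ c.prime (Subgroup.card_dvd_of_le c.le)

theorem Partner.sigma (hG : Cfsg.IsMinSimpleOddOrder G) (hM : IsCoatom M) (h : IsII2 M E)
    (c : Partner E H X) : Nat.card X ∈ Cfsg.sigma H ∧ X ≤ Cfsg.sigmaCore H := by
  haveI : Fact (Nat.card X).Prime := ⟨c.prime⟩
  exact Cfsg.Agent.Helper4.BG14.le_sigmaCore_of_mem_kappa' hG hM c.coatom (c.mem_kappa h)
    (c.le.trans h.compl.1) rfl c.norm

theorem Partner.not_conj (hG : Cfsg.IsMinSimpleOddOrder G) (hM : IsCoatom M) (h : IsII2 M E)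
    (c : Partner E H X) : ∀ g : G, H ≠ MulAut.conj g • M := by
  rintro g rfl
  haveI : Fact (Nat.card X).Prime := ⟨c.prime⟩
  have h1 := mem_sigma_of_mem_sigma_conj_smul hG c.coatom (c.sigma hG hM h).1
  exact (c.mem_kappa h).2.2.1 h1

theorem Partner.sigma_disjoint (hG : Cfsg.IsMinSimpleOddOrder G) (hM : IsCoatom M)
    (h : IsII2 M E) (c : Partner E H X) {q : ℕ} (hqM : q ∈ Cfsg.sigma M) :
    q ∉ Cfsg.sigma H := by
  intro hqH
  obtain ⟨g, hg⟩ := Cfsg.Agent.Helper1.BGPart.exists_conj_of_mem_sigma_inter hG hM c.coatom hqM hqH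
  exact c.not_conj hG hM h g hg

/-- `σ`-cores of maximal subgroups with disjoint `σ`'s meet trivially. -/
theorem sigmaCore_inf_sigmaCore_eq_bot {M H : Subgroup G}
    (hd : ∀ q : ℕ, q ∈ Cfsg.sigma M → q ∉ Cfsg.sigma H) :
    Cfsg.sigmaCore M ⊓ Cfsg.sigmaCore H = ⊥ := by
  rw [← Subgroup.card_eq_one]
  by_contra hne
  obtain ⟨q, hq, hqd⟩ := Nat.exists_prime_and_dvd hne
  exact hd q (mem_sigma_of_dvd_card_sigmaCore hq (hqd.trans (Subgroup.card_dvd_of_le inf_le_left)))
    (mem_sigma_of_dvd_card_sigmaCore hq (hqd.trans (Subgroup.card_dvd_of_le inf_le_right)))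

theorem Partner.Z_le (h : IsII2 M E) (c : Partner E H X) :
    E ⊔ (Cfsg.sigmaCore M ⊓ Subgroup.centralizer (E : Set G)) ≤ H :=
  sup_le ((h.normal X c.le c.prime).trans c.norm) ((h.fix_le_normalizer c.le).trans c.norm)

/-- `M ∩ H = E × C_{M_σ}(E)` for a partner `H`. -/
theorem Partner.inf_eq (hG : Cfsg.IsMinSimpleOddOrder G) (hM : IsCoatom M) (h : IsII2 M E)
    (c : Partner E H X) :
    M ⊓ H = E ⊔ (Cfsg.sigmaCore M ⊓ Subgroup.centralizer (E : Set G)) := by
  apply le_antisymm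
  · intro g hg
    obtain ⟨hgM, hgH⟩ := Subgroup.mem_inf.mp hg
    obtain ⟨a, ha, b, hb, rfl⟩ := h.compl.2.2.2 g hgM
    have haH : a ∈ H := c.Z_le h (Subgroup.mem_sup_left ha)
    have hbH : b ∈ H := by
      have : b = a⁻¹ * (a * b) := by group
      rw [this]
      exact H.mul_mem (H.inv_mem haH) hgH
    obtain ⟨hX1, -⟩ := h.ne_bot_of_prime c.le c.prime
    obtain ⟨x, hx⟩ := Subgroup.ne_bot_iff_exists_ne_one.mp hX1
    have hxX : (x : G) ∈ X := x.2
    have hx1 : (x : G) ≠ 1 := fun hh => hx (Subtype.ext hh)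
    have hxH : (x : G) ∈ Cfsg.sigmaCore H := (c.sigma hG hM h).2 hxX
    have hxE : (x : G) ∈ E := c.le hxX
    -- the commutator lies in `M_σ ∩ H_σ = 1`
    have hbn : b ∈ Subgroup.normalizer ((Cfsg.sigmaCore H : Subgroup G) : Set G) :=
      le_normalizer_sigmaCore H hbH
    have h1 : b * (x : G) * b⁻¹ ∈ Cfsg.sigmaCore H :=
      (Subgroup.mem_normalizer_iff.mp hbn _).mp hxH
    have h2 : b * (x : G) * b⁻¹ * (x : G)⁻¹ ∈ Cfsg.sigmaCore H :=
      (Cfsg.sigmaCore H).mul_mem h1 ((Cfsg.sigmaCore H).inv_mem hxH)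
    have hxn : (x : G) ∈ Subgroup.normalizer ((Cfsg.sigmaCore M : Subgroup G) : Set G) :=
      le_normalizer_sigmaCore M (h.compl.1 hxE)
    have h3 : (x : G) * b⁻¹ * (x : G)⁻¹ ∈ Cfsg.sigmaCore M :=
      (Subgroup.mem_normalizer_iff.mp hxn b⁻¹).mp ((Cfsg.sigmaCore M).inv_mem hb)
    have h4 : b * (x : G) * b⁻¹ * (x : G)⁻¹ ∈ Cfsg.sigmaCore M := by
      have : b * (x : G) * b⁻¹ * (x : G)⁻¹ = b * ((x : G) * b⁻¹ * (x : G)⁻¹) := by group
      rw [this]
      exact (Cfsg.sigmaCore M).mul_mem hb h3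
    have h5 : b * (x : G) * b⁻¹ * (x : G)⁻¹ ∈ Cfsg.sigmaCore M ⊓ Cfsg.sigmaCore H :=
      Subgroup.mem_inf.mpr ⟨h4, h2⟩
    rw [sigmaCore_inf_sigmaCore_eq_bot (fun q hq => c.sigma_disjoint hG hM h hq),
      Subgroup.mem_bot] at h5
    have h6 : b * (x : G) * b⁻¹ = x := mul_inv_eq_one.mp h5
    have h7 : b * (x : G) * b⁻¹ ∈ E := by rw [h6]; exact hxE
    exact Subgroup.mul_mem_sup ha (h.mem_fix hb hxE hx1 h7)
  · exact le_inf (sup_le h.compl.1 (inf_le_left.trans sigmaCore_le)) (c.Z_le h)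

/-- The partner for `X` is unique. -/
theorem Partner.unique (hG : Cfsg.IsMinSimpleOddOrder G) (hM : IsCoatom M) (h : IsII2 M E)
    {H' : Subgroup G} (c : Partner E H X) (c' : Partner E H' X) : H' = H := by
  by_contra hne
  haveI : Fact (Nat.card X).Prime := ⟨c.prime⟩
  have hXp : IsPGroup (Nat.card X) ↥X := IsPGroup.of_card (n := 1) (by rw [pow_one])
  obtain ⟨hX1, -⟩ := h.ne_bot_of_prime c.le c.prime
  have hXH : X ≤ H := (c.sigma hG hM h).2.trans sigmaCore_le
  have hXH' : X ≤ H' := (c'.sigma hG hM h).2.trans sigmaCore_le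
  have hCX : Subgroup.centralizer (X : Set G) ≤ H' :=
    (Subgroup.centralizer_le_normalizer _).trans c'.norm
  have hnc := not_conj_of_mem_sigma hG c.coatom c'.coatom hne hXp hX1 hXH hXH' hCX
    (c'.sigma hG hM h).1
  obtain ⟨g, hg⟩ := Cfsg.Agent.Helper1.BGPart.exists_conj_of_mem_sigma_inter hG c.coatom
    c'.coatom (c.sigma hG hM h).1 (c'.sigma hG hM h).1
  exact hnc g hg

end Cfsg.Agent.Lead.BG147
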