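import Mathlib
import Cfsg.Prelude
import Cfsg.Agent.Lead.BG147a

set_option autoImplicit false
set_option linter.unusedSectionVars false
set_option linter.unusedVariables false
set_option linter.style.haveILetI false

/-!
`(I8)`: for any maximal subgroup `M`, any Hall `κ(M)`-subgroup `K ≠ 1` and any subgroup `Z` of
prime order of `K* = C_{M_σ}(K)`: `M` is the unique maximal subgroup containing `C(Z)`.
-/

namespace Cfsg.Agent.Lead.BG147

open Cfsg Cfsg.Agent.Helper1 Cfsg.Agent.Lead.BG12 Cfsg.Agent.Lead.BG14II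
open scoped commutatorElement Pointwise

universe u

variable {G : Type u} [Group G] [Finite G]

theorem kstar_uniq_all (hG : Cfsg.IsMinSimpleOddOrder G)
    {M : Subgroup G} (hM : IsCoatom M) {K : Subgroup G}
    (hK : Cfsg.IsPiHallOf (Cfsg.kappa M) K M) (hK1 : K ≠ ⊥) {q : ℕ} [hq : Fact q.Prime]
    {Z : Subgroup G} (hZ : Z ≤ Cfsg.sigmaCore M ⊓ Subgroup.centralizer (K : Set G))
    (hZcard : Nat.card Z = q) (S : Sylow q ↥(Cfsg.sigmaCore M)) :
    (Subgroup.centralizer (Z : Set G) ≤ M ∧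
      ∀ L : Subgroup G, IsCoatom L → Subgroup.centralizer (Z : Set G) ≤ L → L = M) ∧
    Cfsg.InUniqueMaximal ((S : Subgroup ↥(Cfsg.sigmaCore M)).map (Cfsg.sigmaCore M).subtype) ∧
      (S : Subgroup ↥(Cfsg.sigmaCore M)).map (Cfsg.sigmaCore M).subtype ≤ M := by
  by_cases hκ : ∀ p : ℕ, p ∈ Cfsg.kappa M → p ∈ Cfsg.tau1 M
  · exact Cfsg.Agent.Helper4.BG14.kstar_uniq hG hM hK hK1 hκ hZ hZcard S
  · have h := isII2_of_not_regular hG hM hK hκ
    have hZσ : Z ≤ Cfsg.sigmaCore M := hZ.trans inf_le_left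
    have hqd : q ∣ Nat.card (Cfsg.sigmaCore M) := hZcard ▸ Subgroup.card_dvd_of_le hZσ
    have hqβ : q ∈ Cfsg.beta M := h.beta q hq.out hqd
    have hqσ : q ∈ Cfsg.sigma M := mem_sigma_of_dvd_card_sigmaCore hq.out hqd
    exact Cfsg.Agent.S1423.result hG M hM q hqσ Z (hZσ.trans sigmaCore_le) hZcard S (Or.inl hqβ)

end Cfsg.Agent.Lead.BG147
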