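import Mathlib
import Cfsg.Prelude
import Cfsg.Agent.Lead.BG152a
import Cfsg.Agent.Lead.BG108d
import Cfsg.Agent.Helper1.Rank2Struct2
import Cfsg.Agent.Helper1.InvCompl
import Cfsg.Agent.S1454
import Cfsg.Agent.S1429
import Cfsg.Agent.S1426

set_option autoImplicit false
set_option linter.unusedSectionVars false
set_option linter.unusedVariables false
set_option linter.style.haveILetI false

/-!
Bender–Glauberman, maximal subgroups `M = K U M_σ` with `K ≠ 1` and `U ≠ 1` (part b): no Sylow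
subgroup of `M_σ` is narrow, hence every prime divisor of `|M_σ|` lies in `β(M)` and `M_σ` meets
no conjugate `M^g`, `g ∉ M`.
-/

namespace Cfsg.Agent.Lead.BG152

open Cfsg Cfsg.Agent.Helper1 Cfsg.Agent.Lead.BG12 Cfsg.Agent.Helper4.BG15
open scoped commutatorElement Pointwise

universe u

variable {G : Type u} [Group G] [Finite G] {M K U : Subgroup G}

/-- A subgroup of order `r` or `r ^ 2`... : a proper subgroup `D` of an elementary abelian group
`V` of order at most `r ^ 2` has a complement. -/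
theorem exists_compl_of_card_le_sq {r : ℕ} [hr : Fact r.Prime] {V D : Subgroup G}
    (hVe : ∀ x ∈ V, x ^ r = 1) (hVcard : Nat.card V ≤ r ^ 2) (hDV : D ≤ V) (hne : D ≠ V) :
    ∃ W : Subgroup G, W ≤ V ∧ D ⊓ W = ⊥ ∧ D ⊔ W = V := by
  by_cases hD1 : D = ⊥
  · exact ⟨V, le_rfl, by rw [hD1, bot_inf_eq], by rw [hD1, bot_sup_eq]⟩
  -- `V` is an `r`-group
  have hVp : IsPGroup r ↥V := by
    intro x
    refine ⟨1, ?_⟩
    apply Subtype.ext
    simpa using hVe x x.2
  obtain ⟨n, hn⟩ := IsPGroup.iff_card.mp hVp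
  obtain ⟨m, hm⟩ := IsPGroup.iff_card.mp (hVp.to_le hDV)
  have hr1 := hr.out.one_lt
  have hn2 : n ≤ 2 := by
    rw [hn] at hVcard
    exact (Nat.pow_le_pow_iff_right hr1).mp hVcard
  have hm0 : m ≠ 0 := by
    rintro rfl
    rw [pow_zero] at hm
    exact hD1 (Subgroup.card_eq_one.mp hm)
  have hmn : m < n := by
    have hlt : Nat.card D < Nat.card V := by
      rcases lt_or_eq_of_le (Subgroup.card_le_of_le hDV) with h | h
      · exact h
      · exact absurd (Subgroup.eq_of_le_of_card_ge hDV h.ge) hne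
    rw [hn, hm] at hlt
    exact (Nat.pow_lt_pow_iff_right hr1).mp hlt
  have hm1 : m = 1 := by omega
  have hn2' : n = 2 := by omega
  subst hm1 hn2'
  rw [pow_one] at hm
  obtain ⟨w, hwV, hwD⟩ := SetLike.exists_of_lt (lt_of_le_of_ne hDV hne)
  have hw1 : w ≠ 1 := by
    rintro rfl
    exact hwD D.one_mem
  have hwr : w ^ r = 1 := hVe w hwV
  have hwo : orderOf w = r := orderOf_eq_prime hwr hw1
  set W : Subgroup G := Subgroup.zpowers w with hW
  have hWcard : Nat.card W = r := by rw [hW, Nat.card_zpowers, hwo]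
  have hWV : W ≤ V := by rw [hW, Subgroup.zpowers_le]; exact hwV
  have hDW : D ⊓ W = ⊥ := by
    by_contra hcon
    have h1 : Nat.card (D ⊓ W : Subgroup G) ∣ r := hWcard ▸ Subgroup.card_dvd_of_le inf_le_right
    rcases (Nat.dvd_prime hr.out).mp h1 with h | h
    · exact hcon (Subgroup.card_eq_one.mp h)
    · have h2 : D ⊓ W = W := Subgroup.eq_of_le_of_card_ge inf_le_right (by rw [h, hWcard])
      have : W ≤ D := h2 ▸ inf_le_left
      exact hwD (this (Subgroup.mem_zpowers w))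
  refine ⟨W, hWV, hDW, ?_⟩
  apply Subgroup.eq_of_le_of_card_ge (sup_le hDV hWV)
  have hcomm : W ≤ Subgroup.normalizer (D : Set G) → True := fun _ => trivial
  -- `|D ⊔ W| ≥ r ^ 2` by counting the product set
  have hinj : Function.Injective (fun x : ↥D × ↥W => ((x.1 : G) * (x.2 : G))) := by
    rintro ⟨a, b⟩ ⟨c, d⟩ h
    have h' : (a : G) * b = c * d := h
    have h1 : (c : G)⁻¹ * a = d * (b : G)⁻¹ := by
      have : (c : G)⁻¹ * (a * b) * (b : G)⁻¹ = (c : G)⁻¹ * (c * d) * (b : G)⁻¹ := by rw [h']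
      simpa [mul_assoc] using this
    have h2 : (c : G)⁻¹ * a ∈ D ⊓ W :=
      ⟨D.mul_mem (D.inv_mem c.2) a.2, h1 ▸ W.mul_mem d.2 (W.inv_mem b.2)⟩
    rw [hDW, Subgroup.mem_bot] at h2
    have hac : (a : G) = c := by
      have := congrArg (fun z => (c : G) * z) h2
      simpa using this
    have hbd : (b : G) = d := by
      rw [hac] at h'
      exact mul_left_cancel h'
    exact Prod.ext (Subtype.ext hac) (Subtype.ext hbd)
  have hmaps : ∀ x : ↥D × ↥W, ((x.1 : G) * (x.2 : G)) ∈ (D ⊔ W : Subgroup G) := fun x =>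
    Subgroup.mul_mem _ (Subgroup.mem_sup_left x.1.2) (Subgroup.mem_sup_right x.2.2)
  have hle : Nat.card (↥D × ↥W) ≤ Nat.card (D ⊔ W : Subgroup G) := by
    apply Nat.card_le_card_of_injective (fun x : ↥D × ↥W => (⟨_, hmaps x⟩ : ↥(D ⊔ W : Subgroup G)))
    intro x y h
    exact hinj (congrArg Subtype.val h)
  rw [Nat.card_prod, hm, hWcard] at hle
  rw [hn]
  calc r ^ 2 = r * r := sq r
    _ ≤ _ := hle

/-- A nontrivial narrow normal `q`-subgroup of `M` inside `M_σ` is impossible when `K ≠ 1` and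
`U ≠ 1`. -/
theorem false_of_narrow (hG : Cfsg.IsMinSimpleOddOrder G) (hM : IsCoatom M)
    (hKU : Cfsg.IsSigmaDecomposition M K U) (hK1 : K ≠ ⊥) (hU1 : U ≠ ⊥)
    {q : ℕ} [hq : Fact q.Prime] {Q : Subgroup G} (hQσ : Q ≤ Cfsg.sigmaCore M) (hQ1 : Q ≠ ⊥)
    (hQq : IsPGroup q ↥Q) (hQn : Cfsg.IsNarrow q ↥Q)
    (hMQ : M ≤ Subgroup.normalizer (Q : Set G)) : False := by
  have hsolvM : Group.IsSolvable ↥M := hG.2.2.2 M hM.1
  have hUab := decomp_U_abelian hG hM hKU hK1
  have hUhall := decomp_U_hall hG hM hKU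
  have hfpf := decomp_fpf hG hM hKU hK1
  have hUM : U ≤ M := decomp_U_le hKU
  have hKM : K ≤ M := decomp_K_le hKU
  have hUcomm : ∀ a ∈ U, ∀ b ∈ U, a * b = b * a := by
    intro a ha b hb
    exact congrArg Subtype.val (hUab.is_comm.comm (⟨a, ha⟩ : ↥U) ⟨b, hb⟩)
  -- a prime `r` of `U`
  have hcardU : Nat.card U ≠ 1 := fun h => hU1 (Subgroup.card_eq_one.mp h)
  obtain ⟨r, hr, hrd⟩ := Nat.exists_prime_and_dvd hcardU
  haveI : Fact r.Prime := ⟨hr⟩
  have hrπ := hUhall.2.1 r hr hrd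
  obtain ⟨Sr, hSrU⟩ := Cfsg.Agent.Helper4.BG147H.exists_sylow_map_le_of_hall hUhall hrπ
  have hrM : r ∣ Nat.card M := hrd.trans (Subgroup.card_dvd_of_le hUM)
  have hP1 : ¬ (∀ t : ℕ, t.Prime → t ∣ Nat.card M → t ∉ Cfsg.sigma M → t ∈ Cfsg.kappa M) :=
    fun h => hrπ.2.1 (h r hr hrM hrπ.2.2)
  obtain ⟨-, hcent, -⟩ := Cfsg.Agent.S1429.result hG M hM hP1 r hrM (by
    rintro (h | h)
    · exact hrπ.2.2 h
    · exact hrπ.2.1 h) Sr
  set V₀ : Subgroup G := Subgroup.closure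
    {x : G | x ∈ (Sr : Subgroup ↥M).map M.subtype ∧ x ^ r = 1} with hV₀
  -- the subgroup `V₁` generated by the elements of order dividing `r` of `U`
  set V₁ : Subgroup G := Subgroup.closure {x : G | x ∈ U ∧ x ^ r = 1} with hV₁
  have hV₀V₁ : V₀ ≤ V₁ := by
    rw [hV₀, hV₁]
    apply Subgroup.closure_mono
    rintro x ⟨hx1, hx2⟩
    exact ⟨hSrU hx1, hx2⟩
  have hV₁U : V₁ ≤ U := by
    rw [hV₁, Subgroup.closure_le]
    rintro x ⟨hx1, -⟩
    exact hx1
  have hV₁e : ∀ x ∈ V₁, x ^ r = 1 := by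
    intro x hx
    have key : ∀ y ∈ V₁, y ∈ U ∧ y ^ r = 1 := by
      intro y hy
      induction hy using Subgroup.closure_induction with
      | mem z hz => exact hz
      | one => exact ⟨U.one_mem, one_pow r⟩
      | mul a b _ _ iha ihb =>
        refine ⟨U.mul_mem iha.1 ihb.1, ?_⟩
        rw [(show Commute a b from hUcomm a iha.1 b ihb.1).mul_pow, iha.2, ihb.2, one_mul]
      | inv a _ iha =>
        exact ⟨U.inv_mem iha.1, by rw [inv_pow, iha.2, inv_one]⟩
    exact (key x hx).2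
  have hV₁ab : IsMulCommutative ↥V₁ := by
    refine ⟨⟨?_⟩⟩
    rintro ⟨a, ha⟩ ⟨b, hb⟩
    exact Subtype.ext (hUcomm a (hV₁U ha) b (hV₁U hb))
  have hV₁M : V₁ ≤ M := hV₁U.trans hUM
  have hV₁card : Nat.card V₁ ≤ r ^ 2 := by
    have hrank := pRankLE_of_not_mem_sigma hG hM hr hrπ.2.2
    have h1 := hrank (V₁.subgroupOf M) (by
      refine ⟨⟨?_⟩⟩
      rintro ⟨a, ha⟩ ⟨b, hb⟩
      apply Subtype.ext
      apply Subtype.ext
      exact hUcomm a (hV₁U (Subgroup.mem_subgroupOf.mp ha)) b (hV₁U (Subgroup.mem_subgroupOf.mp hb)))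
      (by
        intro a ha
        apply Subtype.ext
        simpa using hV₁e a (Subgroup.mem_subgroupOf.mp ha))
    rwa [Nat.card_congr (Subgroup.subgroupOfEquivOfLe hV₁M).toEquiv] at h1
  -- `K` normalizes `V₁`
  have hKV₁ : K ≤ Subgroup.normalizer (V₁ : Set G) := by
    intro k hk
    have hkU := hKU.normal hk
    have hconj : ∀ k' : G, k' ∈ Subgroup.normalizer (U : Set G) → ∀ x ∈ V₁, k' * x * k'⁻¹ ∈ V₁ := by
      intro k' hk' x hx
      have hle : V₁ ≤ V₁.comap (MulAut.conj k').toMonoidHom := by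
        rw [hV₁, Subgroup.closure_le]
        rintro y ⟨hy1, hy2⟩
        show (MulAut.conj k') y ∈ Subgroup.closure {x : G | x ∈ U ∧ x ^ r = 1}
        apply Subgroup.subset_closure
        refine ⟨(Subgroup.mem_normalizer_iff.mp hk' y).mp hy1, ?_⟩
        rw [MulAut.conj_apply, conj_pow, hy2, mul_one, mul_inv_cancel]
      exact hle hx
    rw [Subgroup.mem_normalizer_iff]
    intro x
    constructor
    · exact hconj k hkU x
    · intro hx
      have := hconj k⁻¹ (Subgroup.inv_mem _ hkU) _ hx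
      simpa [mul_assoc] using this
  -- `D = C_{V₁}(Q)` is a proper `K`-invariant subgroup
  set D : Subgroup G := V₁ ⊓ Subgroup.centralizer (Q : Set G) with hD
  have hDV₁ : D ≤ V₁ := inf_le_left
  have hDne : D ≠ V₁ := by
    intro h
    have h1 : V₁ ≤ Subgroup.centralizer (Q : Set G) := h ▸ inf_le_right
    have h2 : Q ≤ Cfsg.sigmaCore M ⊓ Subgroup.centralizer ((V₀ : Subgroup G) : Set G) := by
      refine le_inf hQσ ?_
      intro x hx
      rw [Subgroup.mem_centralizer_iff]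
      intro v hv
      have := (Subgroup.mem_centralizer_iff.mp (h1 (hV₀V₁ hv))) x hx
      exact this.symm
    rw [hcent] at h2
    exact hQ1 (le_bot_iff.mp h2)
  have hCQn : M ≤ Subgroup.normalizer ((Subgroup.centralizer (Q : Set G) : Subgroup G) : Set G) := by
    intro m hm
    have hmQ := hMQ hm
    have hconj : ∀ m' : G, m' ∈ Subgroup.normalizer (Q : Set G) →
        ∀ c ∈ Subgroup.centralizer (Q : Set G), m' * c * m'⁻¹ ∈ Subgroup.centralizer (Q : Set G) := by
      intro m' hm' c hc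
      rw [Subgroup.mem_centralizer_iff] at hc ⊢
      intro x hx
      have hx' : m'⁻¹ * x * m' ∈ Q := by
        have := (Subgroup.mem_normalizer_iff.mp (Subgroup.inv_mem _ hm') x).mp hx
        simpa using this
      have := hc _ hx'
      calc x * (m' * c * m'⁻¹) = m' * ((m'⁻¹ * x * m') * c) * m'⁻¹ := by group
        _ = m' * (c * (m'⁻¹ * x * m')) * m'⁻¹ := by rw [this]
        _ = m' * c * m'⁻¹ * x := by group
    rw [Subgroup.mem_normalizer_iff]
    intro c
    constructor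
    · exact hconj m hmQ c
    · intro hc
      have := hconj m⁻¹ (Subgroup.inv_mem _ hmQ) _ hc
      simpa [mul_assoc] using this
  have hKD : K ≤ Subgroup.normalizer (D : Set G) := by
    intro k hk
    rw [Subgroup.mem_normalizer_iff]
    intro x
    have h1 := Subgroup.mem_normalizer_iff.mp (hKV₁ hk) x
    have h2 := Subgroup.mem_normalizer_iff.mp (hCQn (hKM hk)) x
    exact ⟨fun hx => ⟨h1.mp hx.1, h2.mp hx.2⟩, fun hx => ⟨h1.mpr hx.1, h2.mpr hx.2⟩⟩
  -- a `K`-invariant complement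
  obtain ⟨W, hWV₁, hDW, hDWV⟩ := exists_compl_of_card_le_sq hV₁e hV₁card hDV₁ hDne
  have hcopKU : (Nat.card K).Coprime (Nat.card U) := by
    apply Nat.coprime_of_dvd
    intro t ht h1 h2
    exact (hUhall.2.1 t ht h2).2.1 (hKU.hall.2.1 t ht h1)
  have hcopKV₁ : (Nat.card K).Coprime (Nat.card V₁) :=
    Nat.Coprime.coprime_dvd_right (Subgroup.card_dvd_of_le hV₁U) hcopKU
  obtain ⟨V, hVV₁, hKV, hDV, hDVsup⟩ := Cfsg.Agent.Helper1.exists_invariant_complement V₁ K D hV₁ab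
    hKV₁ hcopKV₁ hDV₁ hKD W hWV₁ hDW hDWV
  have hV1 : V ≠ ⊥ := by
    intro h
    rw [h, sup_bot_eq] at hDVsup
    exact hDne hDVsup
  have hVU : V ≤ U := hVV₁.trans hV₁U
  have hVC : V ⊓ Subgroup.centralizer (Q : Set G) = ⊥ := by
    rw [eq_bot_iff]
    intro x hx
    have : x ∈ D ⊓ V := ⟨⟨hVV₁ hx.1, hx.2⟩, hx.1⟩
    rwa [hDV] at this
  -- the group `A = V K`
  set A : Subgroup G := V ⊔ K with hA
  have hAM : A ≤ M := sup_le (hVU.trans hUM) hKM
  have hAQ : A ≤ Subgroup.normalizer (Q : Set G) := hAM.trans hMQ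
  have hAsolv : Group.IsSolvable ↥A := Cfsg.Agent.Helper1.isSolvable_of_le hAM hsolvM
  have hAodd : Odd (Nat.card A) := Odd.of_dvd_nat hG.1 (Subgroup.card_subgroup_dvd_card A)
  have hfaith : A ⊓ Subgroup.centralizer (Q : Set G) = ⊥ := by
    rw [eq_bot_iff]
    intro a ha
    obtain ⟨v, hv, k, hk, rfl⟩ := mem_sup_of_le_normalizer hKV ha.1
    have hac : v * k ∈ Subgroup.centralizer (Q : Set G) := ha.2
    by_cases hk1 : k = 1
    · subst hk1
      rw [mul_one] at hac ⊢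
      have : v ∈ V ⊓ Subgroup.centralizer (Q : Set G) := ⟨hv, hac⟩
      rwa [hVC] at this
    · exfalso
      apply hV1
      rw [eq_bot_iff]
      intro w hw
      -- `[w, v k] ∈ V ∩ C(Q) = 1`
      have hwM : w ∈ M := hUM (hVU hw)
      have h1 : w * (v * k) * w⁻¹ * (v * k)⁻¹ ∈ Subgroup.centralizer (Q : Set G) :=
        Subgroup.mul_mem _ ((Subgroup.mem_normalizer_iff.mp (hCQn hwM) _).mp hac)
          (Subgroup.inv_mem _ hac)
      have hvw : v * w⁻¹ = w⁻¹ * v := hUcomm v (hVU hv) w⁻¹ (U.inv_mem (hVU hw))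
      have h2 : w * (v * k) * w⁻¹ * (v * k)⁻¹ = w * (k * w⁻¹ * k⁻¹) := by
        have hvk : v * (k * w⁻¹ * k⁻¹) = (k * w⁻¹ * k⁻¹) * v :=
          hUcomm v (hVU hv) _ (hVU ((Subgroup.mem_normalizer_iff.mp (hKV hk) _).mp (V.inv_mem hw)))
        calc w * (v * k) * w⁻¹ * (v * k)⁻¹ = w * (v * (k * w⁻¹ * k⁻¹)) * v⁻¹ := by group
          _ = w * ((k * w⁻¹ * k⁻¹) * v) * v⁻¹ := by rw [hvk]
          _ = w * (k * w⁻¹ * k⁻¹) := by group
      have h3 : w * (k * w⁻¹ * k⁻¹) ∈ V :=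
        V.mul_mem hw ((Subgroup.mem_normalizer_iff.mp (hKV hk) _).mp (V.inv_mem hw))
      have h4 : w * (k * w⁻¹ * k⁻¹) ∈ V ⊓ Subgroup.centralizer (Q : Set G) := ⟨h3, h2 ▸ h1⟩
      rw [hVC, Subgroup.mem_bot] at h4
      have h5 : k * w = w * k := by
        have : w * (k * w⁻¹ * k⁻¹) * (k * w) = 1 * (k * w) := by rw [h4]
        rw [one_mul] at this
        rw [← this]; group
      have h6' : w ∈ Subgroup.centralizer ({k} : Set G) := by
        rw [Subgroup.mem_centralizer_iff]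
        intro y hy
        rw [Set.mem_singleton_iff.mp hy]
        exact h5
      have h6 : w ∈ U ⊓ Subgroup.centralizer ({k} : Set G) := ⟨hVU hw, h6'⟩
      rwa [hfpf k hk hk1] at h6
  have hq2 : q ≠ 2 := by
    rintro rfl
    have hd : 2 ∣ Nat.card Q := by
      obtain ⟨n, hn⟩ := IsPGroup.iff_card.mp hQq
      have hn0 : n ≠ 0 := by
        rintro rfl
        rw [pow_zero] at hn
        exact hQ1 (Subgroup.card_eq_one.mp hn)
      rw [hn]
      exact dvd_pow_self 2 hn0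
    have hodd : Odd (Nat.card Q) := Odd.of_dvd_nat hG.1 (Subgroup.card_subgroup_dvd_card Q)
    exact (Nat.not_even_iff_odd.mpr hodd) (even_iff_two_dvd.mpr hd)
  obtain ⟨⟨hcomm, -⟩, -, -⟩ := Cfsg.Agent.S1454.result q hq2 Q A hQq hQn hAQ hAsolv hAodd hfaith
  -- `q ∤ |A|`
  have hqσ : q ∈ Cfsg.sigma M := by
    apply mem_sigma_of_dvd_card_sigmaCore hq.out
    have hd : q ∣ Nat.card Q := by
      obtain ⟨n, hn⟩ := IsPGroup.iff_card.mp hQq
      have hn0 : n ≠ 0 := by
        rintro rfl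
        rw [pow_zero] at hn
        exact hQ1 (Subgroup.card_eq_one.mp hn)
      rw [hn]
      exact dvd_pow_self q hn0
    exact hd.trans (Subgroup.card_dvd_of_le hQσ)
  have hqA : ¬ q ∣ Nat.card A := by
    intro hd
    have hVK : K ⊓ V = ⊥ := by
      apply inf_eq_bot_of_coprime_card
      exact Nat.Coprime.coprime_dvd_right (Subgroup.card_dvd_of_le hVU) hcopKU
    rw [hA, card_sup_of_le_normalizer hKV hVK] at hd
    rcases (Nat.Prime.dvd_mul hq.out).mp hd with h | h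
    · exact (hKU.hall.2.1 q hq.out h).2.2.1 hqσ
    · exact (hUhall.2.1 q hq.out (h.trans (Subgroup.card_dvd_of_le hVU))).2.2 hqσ
  have hcore : Cfsg.pCore q ↥A = ⊥ := by
    have hp := Cfsg.Agent.Helper1.pCore_isPGroup (G := ↥A) q
    obtain ⟨n, hn⟩ := IsPGroup.iff_card.mp hp
    have hn0 : n = 0 := by
      by_contra hn0
      apply hqA
      have : q ∣ Nat.card (Cfsg.pCore q ↥A) := by rw [hn]; exact dvd_pow_self q hn0
      exact this.trans (Subgroup.card_subgroup_dvd_card _)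
    rw [hn0, pow_zero] at hn
    exact Subgroup.card_eq_one.mp hn
  rw [hcore] at hcomm
  -- `A` is abelian: contradiction with the fixed-point-free action
  obtain ⟨⟨w, hwV⟩, hw1⟩ := (Subgroup.ne_bot_iff_exists_ne_one (H := V)).mp hV1
  obtain ⟨⟨k, hkK⟩, hk1⟩ := (Subgroup.ne_bot_iff_exists_ne_one (H := K)).mp hK1
  have hw1' : w ≠ 1 := fun h => hw1 (Subtype.ext h)
  have hk1' : k ≠ 1 := fun h => hk1 (Subtype.ext h)
  have hwA : w ∈ A := Subgroup.mem_sup_left hwV
  have hkA : k ∈ A := Subgroup.mem_sup_right hkK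
  have hc : ⁅(⟨w, hwA⟩ : ↥A), (⟨k, hkA⟩ : ↥A)⁆ ∈ commutator ↥A :=
    Subgroup.commutator_mem_commutator (Subgroup.mem_top _) (Subgroup.mem_top _)
  have hc1 := hcomm hc
  rw [Subgroup.mem_bot] at hc1
  have hc2 : w * k * w⁻¹ * k⁻¹ = 1 := by
    have := congrArg Subtype.val hc1
    simpa [commutatorElement_def] using this
  have hc3 : k * w = w * k := by
    have : w * k * w⁻¹ * k⁻¹ * (k * w) = 1 * (k * w) := by rw [hc2]
    rw [one_mul] at this
    rw [← this]; group
  have h6' : w ∈ Subgroup.centralizer ({k} : Set G) := by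
    rw [Subgroup.mem_centralizer_iff]
    intro y hy
    rw [Set.mem_singleton_iff.mp hy]
    exact hc3
  have h6 : w ∈ U ⊓ Subgroup.centralizer ({k} : Set G) := ⟨hVU hwV, h6'⟩
  rw [hfpf k hkK hk1'] at h6
  exact hw1' h6

end Cfsg.Agent.Lead.BG152
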