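import Mathlib
import Cfsg.Prelude
import Cfsg.Agent.Lead.BG152b
import Cfsg.Agent.S1431
import Cfsg.Agent.S1432

set_option autoImplicit false
set_option linter.unusedSectionVars false
set_option linter.unusedVariables false
set_option linter.style.haveILetI false

/-!
Bender–Glauberman, maximal subgroups `M = K U M_σ` with `K ≠ 1` and `U ≠ 1` (part c):
`π(M_σ) ⊆ β(M)`, and `F(M)` is a TI-subset of `G`.
-/

namespace Cfsg.Agent.Lead.BG152

open Cfsg Cfsg.Agent.Helper1 Cfsg.Agent.Lead.BG12 Cfsg.Agent.Helper4.BG15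
open scoped commutatorElement Pointwise

universe u

variable {G : Type u} [Group G] [Finite G] {M K U : Subgroup G}

/-- Every prime divisor of `|M_σ|` lies in `β(M)`. -/
theorem sigma_primes_beta (hG : Cfsg.IsMinSimpleOddOrder G) (hM : IsCoatom M)
    (hKU : Cfsg.IsSigmaDecomposition M K U) (hK1 : K ≠ ⊥) (hU1 : U ≠ ⊥)
    {q : ℕ} (hq : q.Prime) (hd : q ∣ Nat.card (Cfsg.sigmaCore M)) : q ∈ Cfsg.beta M := by
  by_contra hqβ
  haveI : Fact q.Prime := ⟨hq⟩
  have hqσ : q ∈ Cfsg.sigma M := mem_sigma_of_dvd_card_sigmaCore hq hd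
  have hqM : q ∣ Nat.card M := hd.trans (Subgroup.card_dvd_of_le sigmaCore_le)
  obtain ⟨S, hS⟩ : ∃ S : Sylow q ↥M, Cfsg.IsNarrow q ↥(S : Subgroup ↥M) := by
    by_cases hα : q ∈ Cfsg.alpha M
    · exact Cfsg.Agent.Lead.BG108.exists_sylow_isNarrow hG hM hα hqβ
    · have hr : Cfsg.PRankLE q 2 ↥M := Cfsg.Agent.Helper1.BGX.pRankLE_of_not_mem_alpha hq hα
      obtain ⟨S⟩ : Nonempty (Sylow q ↥M) := inferInstance
      exact ⟨S, Or.inl (Cfsg.Agent.Helper1.Rank2Struct.pRankLE_subgroup hr _)⟩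
  set Q : Subgroup G := (S : Subgroup ↥M).map M.subtype with hQ
  have hQM : Q ≤ M := Subgroup.map_subtype_le _
  have hQq : IsPGroup q ↥Q := S.2.map _
  have hQσ : Q ≤ Cfsg.sigmaCore M := le_sigmaCore' hG hM hqσ hQM hQq
  have hQ1 : Q ≠ ⊥ := by
    intro h
    have h1 : (S : Subgroup ↥M) = ⊥ := by
      rw [hQ] at h
      exact (Subgroup.map_eq_bot_iff_of_injective _ M.subtype_injective).mp h
    exact S.ne_bot_of_dvd_card hqM h1
  have hQn : Cfsg.IsNarrow q ↥Q :=
    Cfsg.Agent.Lead.BG108.isNarrow_of_mulEquiv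
      ((S : Subgroup ↥M).equivMapOfInjective M.subtype M.subtype_injective) hS
  have hnil := isNilpotent_sigmaCore_of_U_ne_bot hG hM hKU hU1
  have hcop : (Nat.card Q).Coprime (Q.relIndex (Cfsg.sigmaCore M)) := by
    obtain ⟨n, hn⟩ := IsPGroup.iff_card.mp hQq
    rw [hn]
    apply Nat.Coprime.pow_left
    rw [Nat.Prime.coprime_iff_not_dvd hq]
    intro h
    have h1 : Q.relIndex (Cfsg.sigmaCore M) ∣ Q.relIndex M :=
      ⟨_, (Subgroup.relIndex_mul_relIndex Q (Cfsg.sigmaCore M) M hQσ sigmaCore_le).symm⟩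
    have h2 : Q.relIndex M = (S : Subgroup ↥M).index := by
      rw [Subgroup.relIndex, hQ, Subgroup.subgroupOf,
        Subgroup.comap_map_eq_self_of_injective M.subtype_injective]
    exact S.not_dvd_index (h2 ▸ h.trans h1)
  have hMQ : M ≤ Subgroup.normalizer (Q : Set G) :=
    le_normalizer_of_hall_of_nilpotent_normal hnil (le_normalizer_sigmaCore M) hQσ hcop
  exact false_of_narrow hG hM hKU hK1 hU1 hQσ hQ1 hQq hQn hMQ

/-- A non-identity element of `F(M)` of prime order outside `σ(M)`: `M` is the only maximal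
subgroup containing its centralizer. -/
theorem uniq_of_mem_fittingOf (hG : Cfsg.IsMinSimpleOddOrder G) (hM : IsCoatom M)
    (hKU : Cfsg.IsSigmaDecomposition M K U) (hK1 : K ≠ ⊥) (hU1 : U ≠ ⊥)
    {y : G} (hy : y ∈ Cfsg.fittingOf M) {s : ℕ} (hs : s.Prime) (hys : orderOf y = s)
    (hsσ : s ∉ Cfsg.sigma M) :
    Subgroup.centralizer ({y} : Set G) ≤ M ∧
      ∀ L : Subgroup G, IsCoatom L → Subgroup.centralizer ({y} : Set G) ≤ L → L = M := by
  have hsolvM : Group.IsSolvable ↥M := hG.2.2.2 M hM.1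
  have hy1 : y ≠ 1 := by
    intro h
    rw [h, orderOf_one] at hys
    exact hs.one_lt.ne hys
  have hyM : y ∈ M := Cfsg.Agent.Helper1.BGV.fittingOf_le M hy
  have hnil := isNilpotent_sigmaCore_of_U_ne_bot hG hM hKU hU1
  have hσF : Cfsg.sigmaCore M ≤ Cfsg.fittingOf M :=
    Cfsg.Agent.Lead.BG127.le_fittingOf_of_normal_nilpotent sigmaCore_le (le_normalizer_sigmaCore M)
      hnil
  have hFnil : Group.IsNilpotent ↥(Cfsg.fittingOf M) := Cfsg.Agent.Helper1.BGV.fittingOf_isNilpotent M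
  -- `y` centralizes `M_σ`
  have hcomm : ∀ z ∈ Cfsg.sigmaCore M, z * y = y * z := by
    intro z hz
    apply commute_of_coprime_orderOf_of_mem hFnil (hσF hz) hy
    rw [hys]
    apply Nat.Coprime.symm
    rw [Nat.Prime.coprime_iff_not_dvd hs]
    intro h
    have h1 : orderOf z ∣ Nat.card (Cfsg.sigmaCore M) := by
      have := orderOf_dvd_natCard (⟨z, hz⟩ : ↥(Cfsg.sigmaCore M))
      rwa [Subgroup.orderOf_mk] at this
    exact hsσ (mem_sigma_of_dvd_card_sigmaCore hs (h.trans h1))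
  obtain ⟨⟨z, hzσ⟩, hz1⟩ := (Subgroup.ne_bot_iff_exists_ne_one (H := Cfsg.sigmaCore M)).mp
    (sigmaCore_ne_bot hG hM)
  have hz1' : z ≠ 1 := fun h => hz1 (Subtype.ext h)
  have hyC : y ∈ M ⊓ Subgroup.centralizer ({z} : Set G) := by
    refine ⟨hyM, ?_⟩
    show y ∈ Subgroup.centralizer ({z} : Set G)
    rw [Subgroup.mem_centralizer_iff]
    intro w hw
    rw [Set.mem_singleton_iff.mp hw]
    exact hcomm z hzσ
  have hσ' : ∀ p : ℕ, p.Prime → p ∣ orderOf y → p ∉ Cfsg.sigma M := by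
    intro p hp hpd
    rw [hys] at hpd
    rw [(Nat.prime_dvd_prime_iff_eq hp hs).mp hpd]
    exact hsσ
  rcases Cfsg.Agent.S1432.result hG M hM z hzσ hz1' y hyC hy1 hσ' with ⟨hκ, -⟩ | ⟨-, -, h⟩
  · -- `s ∈ κ(M)`: impossible
    exfalso
    have hsκ : s ∈ Cfsg.kappa M := hκ s hs (hys ▸ dvd_rfl)
    have hTM : Subgroup.zpowers y ≤ M := Subgroup.zpowers_le.mpr hyM
    obtain ⟨m, hm, hle⟩ := Cfsg.Agent.Helper1.BG147.exists_conj_ge_of_hall hsolvM hKU.hall hTM
      (by
        intro t ht htd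
        rw [Nat.card_zpowers, hys] at htd
        rw [(Nat.prime_dvd_prime_iff_eq ht hs).mp htd]
        exact hsκ)
    obtain ⟨k, hkK, hky⟩ := Subgroup.mem_map.mp (hle (Subgroup.mem_zpowers y))
    have hky' : m * k * m⁻¹ = y := hky
    have hk1 : k ≠ 1 := by
      rintro rfl
      apply hy1
      rw [← hky']; group
    -- `k` centralizes `M_σ`
    have hkc : Cfsg.sigmaCore M ≤ Subgroup.centralizer ({k} : Set G) := by
      intro w hw
      rw [Subgroup.mem_centralizer_iff]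
      intro k' hk'
      rw [Set.mem_singleton_iff.mp hk']
      have hw' : m * w * m⁻¹ ∈ Cfsg.sigmaCore M :=
        (Subgroup.mem_normalizer_iff.mp (le_normalizer_sigmaCore M hm) w).mp hw
      have h1 := hcomm _ hw'
      rw [← hky'] at h1
      have h2 : m * (w * k) * m⁻¹ = m * (k * w) * m⁻¹ := by
        calc m * (w * k) * m⁻¹ = (m * w * m⁻¹) * (m * k * m⁻¹) := by group
          _ = (m * k * m⁻¹) * (m * w * m⁻¹) := h1
          _ = m * (k * w) * m⁻¹ := by group
      exact (mul_left_cancel (mul_right_cancel h2)).symm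
    obtain ⟨h1430, -, -⟩ := Cfsg.Agent.S1430.result hG M hM K hKU.hall hK1
    have hKs : Cfsg.sigmaCore M ⊓ Subgroup.centralizer (K : Set G) = Cfsg.sigmaCore M := by
      rw [← h1430 k hkK hk1]
      exact inf_eq_left.mpr hkc
    obtain ⟨-, -, h3, -⟩ := Cfsg.Agent.S1431.result hG M hM K hKU.hall hK1
    have hcard : Nat.card ↥(Cfsg.sigmaCore M ⊓ Subgroup.centralizer (K : Set G)) ≠ 1 := by
      rw [hKs]
      intro h
      exact sigmaCore_ne_bot hG hM (Subgroup.card_eq_one.mp h)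
    obtain ⟨p, hp, hpd⟩ := Nat.exists_prime_and_dvd hcard
    haveI : Fact p.Prime := ⟨hp⟩
    obtain ⟨S⟩ : Nonempty (Sylow p ↥(Cfsg.sigmaCore M)) := inferInstance
    apply (h3 p hp hpd S).2.2
    rw [hKs]
    exact Subgroup.map_subtype_le _
  · exact h

/-- `F(M)` is a TI-subset of `G`. -/
theorem fittingOf_TI (hG : Cfsg.IsMinSimpleOddOrder G) (hM : IsCoatom M)
    (hKU : Cfsg.IsSigmaDecomposition M K U) (hK1 : K ≠ ⊥) (hU1 : U ≠ ⊥) :
    Cfsg.IsTISubset (Cfsg.fittingOf M : Set G) := by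
  intro g hg x hx hgx
  by_contra hx1
  have hgM : g ∉ M := fun h => hg (Cfsg.Agent.Helper1.BGV.le_normalizer_fittingOf M h)
  obtain ⟨s, hs, hord⟩ := Cfsg.Agent.Helper4.BG14.exists_prime_order_pow hx1
  set y := x ^ (orderOf x / s) with hy
  have hyF : y ∈ Cfsg.fittingOf M := Subgroup.pow_mem _ hx _
  have hgyF : g * y * g⁻¹ ∈ Cfsg.fittingOf M := by
    have h1 : g * y * g⁻¹ = (g * x * g⁻¹) ^ (orderOf x / s) := by rw [conj_pow]
    rw [h1]; exact Subgroup.pow_mem _ hgx _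
  have hy1 : y ≠ 1 := by
    intro h
    rw [h, orderOf_one] at hord
    exact hs.one_lt.ne hord
  haveI : Fact s.Prime := ⟨hs⟩
  have hyM : y ∈ M := Cfsg.Agent.Helper1.BGV.fittingOf_le M hyF
  by_cases hsσ : s ∈ Cfsg.sigma M
  · -- `y ∈ M_σ`; use fusion control and `C_G(y) ≤ M`
    have hyp : IsPGroup s ↥(Subgroup.zpowers y) := by
      rw [IsPGroup.iff_card, Nat.card_zpowers, hord]
      exact ⟨1, (pow_one s).symm⟩
    have hyσ : y ∈ Cfsg.sigmaCore M :=
      le_sigmaCore' hG hM hsσ (Subgroup.zpowers_le.mpr hyM) hyp (Subgroup.mem_zpowers y)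
    have hsd : s ∣ Nat.card (Cfsg.sigmaCore M) := by
      have := orderOf_dvd_natCard (⟨y, hyσ⟩ : ↥(Cfsg.sigmaCore M))
      rwa [Subgroup.orderOf_mk, hord] at this
    have hsβ := sigma_primes_beta hG hM hKU hK1 hU1 hs hsd
    have hnil := isNilpotent_sigmaCore_of_U_ne_bot hG hM hKU hU1
    have hFσ := fittingHallOf_eq_sigmaCore hG hM hnil
    obtain ⟨m, hm, hmeq⟩ := Cfsg.Agent.Helper2.BG144.fusion_control hG hM hyσ hy1
      (Cfsg.Agent.Helper1.BGV.fittingOf_le M hgyF)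
    have hC := centralizer_le_of_mem_fittingOf hG hM hs (hFσ ▸ hsd) hsβ hyF hs hord
    have hmg : m⁻¹ * g ∈ Subgroup.centralizer ({y} : Set G) := by
      rw [Subgroup.mem_centralizer_singleton_iff]
      have h1 : m⁻¹ * (g * y * g⁻¹) * m = y := by rw [hmeq]; group
      calc m⁻¹ * g * y = (m⁻¹ * (g * y * g⁻¹) * m) * (m⁻¹ * g) := by group
        _ = y * (m⁻¹ * g) := by rw [h1]
    have : g ∈ M := by
      have h1 := M.mul_mem hm (hC hmg)
      rwa [mul_inv_cancel_left] at h1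
    exact hgM this
  · -- `y` is a `σ(M)'`-element
    have hord' : orderOf (g * y * g⁻¹) = s := by
      have := MulEquiv.orderOf_eq (MulAut.conj g) y
      rw [MulAut.conj_apply] at this
      rw [this, hord]
    obtain ⟨-, hu⟩ := uniq_of_mem_fittingOf hG hM hKU hK1 hU1 hgyF hs hord' hsσ
    obtain ⟨hC, -⟩ := uniq_of_mem_fittingOf hG hM hKU hK1 hU1 hyF hs hord hsσ
    -- `C_G(g y g⁻¹) ≤ g M g⁻¹`
    have hcoatom : IsCoatom (M.map (MulAut.conj g).toMonoidHom) := by
      have e : M.map (MulAut.conj g).toMonoidHom = MulAut.conj g • M :=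
        (Subgroup.pointwise_smul_def (a := MulAut.conj g) M).symm
      rw [e]
      exact Cfsg.Agent.Helper1.BGU.isCoatom_conj_smul g hM
    have hle : Subgroup.centralizer ({g * y * g⁻¹} : Set G) ≤ M.map (MulAut.conj g).toMonoidHom := by
      intro c hc
      rw [Subgroup.mem_centralizer_singleton_iff] at hc
      have h1 : g⁻¹ * c * g ∈ Subgroup.centralizer ({y} : Set G) := by
        rw [Subgroup.mem_centralizer_singleton_iff]
        have : g⁻¹ * (c * (g * y * g⁻¹)) * g = g⁻¹ * ((g * y * g⁻¹) * c) * g := by rw [hc]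
        calc g⁻¹ * c * g * y = g⁻¹ * (c * (g * y * g⁻¹)) * g := by group
          _ = g⁻¹ * ((g * y * g⁻¹) * c) * g := this
          _ = y * (g⁻¹ * c * g) := by group
      refine Subgroup.mem_map.mpr ⟨g⁻¹ * c * g, hC h1, ?_⟩
      show g * (g⁻¹ * c * g) * g⁻¹ = c
      group
    have heq := hu _ hcoatom hle
    -- `g` normalizes `M`, so `g ∈ M`
    have hgN : g ∈ Subgroup.normalizer (M : Set G) := by
      rw [Subgroup.mem_normalizer_iff]
      intro w
      constructor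
      · intro hw
        rw [← heq]
        exact Subgroup.mem_map.mpr ⟨w, hw, rfl⟩
      · intro hw
        rw [← heq] at hw
        obtain ⟨w', hw', hww⟩ := Subgroup.mem_map.mp hw
        have hww' : g * w' * g⁻¹ = g * w * g⁻¹ := hww
        rw [← mul_left_cancel (mul_right_cancel hww')]
        exact hw'
    have hM1 : M ≠ ⊥ := by
      intro h
      apply sigmaCore_ne_bot hG hM
      exact le_bot_iff.mp (h ▸ (sigmaCore_le (M := M)))
    have hNM := Cfsg.Agent.Helper1.BGU.normalizer_eq_of_coatom hG hM Subgroup.le_normalizer hM1 hM.1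
    exact hgM (hNM ▸ hgN)

end Cfsg.Agent.Lead.BG152
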