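import Mathlib

set_option autoImplicit false

/-!
Baer's trick: a group of nilpotency class at most two in which every element has a canonical
square root `z ^ h` carries the abelian group structure `x + y = x * y * ⁅y, x⁆ ^ h`, preserved by
all automorphisms.
-/

namespace Cfsg.Agent.Lead

open scoped commutatorElement

universe u

/-- Hypotheses of Baer's construction: commutators are central and `z ↦ z ^ h` halves. -/
class BaerData (Γ : Type u) [Group Γ] (h : ℕ) : Prop where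
  central : ∀ a b c : Γ, Commute ⁅a, b⁆ c
  sqrt : ∀ z : Γ, z ^ (2 * h) = z

/-- The carrier of Baer's abelian group. -/
structure Baer (Γ : Type u) (h : ℕ) : Type u where
  /-- the underlying element -/
  val : Γ

namespace Baer

variable {Γ : Type u} [Group Γ] {h : ℕ}

theorem ext' {a b : Baer Γ h} (hab : a.val = b.val) : a = b := by
  cases a; cases b; simp_all

/-- The underlying operation. -/
def bop (h : ℕ) (x y : Γ) : Γ := x * y * ⁅y, x⁆ ^ h

/-- The underlying equivalence. -/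
def equivVal : Baer Γ h ≃ Γ where
  toFun := Baer.val
  invFun := Baer.mk
  left_inv _ := rfl
  right_inv _ := rfl

section axioms

variable (hcen : ∀ a b c : Γ, Commute ⁅a, b⁆ c)

include hcen in
theorem comm_mul_left (a b c : Γ) : ⁅a * b, c⁆ = ⁅a, c⁆ * ⁅b, c⁆ := by
  rw [commutatorElement_mul_left_eq_conj_mul]
  have h1 : a * ⁅b, c⁆ * a⁻¹ = ⁅b, c⁆ := by
    rw [← (hcen b c a).eq, mul_inv_cancel_right]
  rw [h1, (hcen b c ⁅a, c⁆).eq]

include hcen in
theorem comm_mul_right (a b c : Γ) : ⁅a, b * c⁆ = ⁅a, b⁆ * ⁅a, c⁆ := by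
  rw [commutatorElement_mul_right_eq_mul_conj]
  have h1 : b * ⁅a, c⁆ * b⁻¹ = ⁅a, c⁆ := by
    rw [← (hcen a c b).eq, mul_inv_cancel_right]
  calc ⁅a, b⁆ * b * ⁅a, c⁆ * b⁻¹ = ⁅a, b⁆ * (b * ⁅a, c⁆ * b⁻¹) := by simp only [mul_assoc]
    _ = ⁅a, b⁆ * ⁅a, c⁆ := by rw [h1]

theorem comm_cent_right {z : Γ} (hz : ∀ g, Commute z g) (a : Γ) : ⁅a, z⁆ = 1 :=
  commutatorElement_eq_one_iff_commute.2 (hz a).symm

theorem comm_cent_left {z : Γ} (hz : ∀ g, Commute z g) (a : Γ) : ⁅z, a⁆ = 1 :=
  commutatorElement_eq_one_iff_commute.2 (hz a)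

include hcen in
theorem cent_pow (a b : Γ) (n : ℕ) : ∀ g, Commute (⁅a, b⁆ ^ n) g :=
  fun g => (hcen a b g).pow_left n

include hcen in
theorem bop_comm (hsqrt : ∀ z : Γ, z ^ (2 * h) = z) (x y : Γ) : bop h x y = bop h y x := by
  unfold bop
  obtain ⟨c, hc⟩ : ∃ c, c = ⁅y, x⁆ := ⟨_, rfl⟩
  have hcc : ∀ g, Commute c g := by rw [hc]; exact hcen y x
  have hcx : ⁅x, y⁆ = c⁻¹ := by rw [hc, commutatorElement_inv]
  have hyx : y * x = x * y * c := by
    have : y * x = c * (x * y) := by rw [hc, commutatorElement_def]; group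
    rw [this, (hcc (x * y)).eq]
  have hsq : c ^ h * c ^ h = c := by rw [← pow_add, ← two_mul]; exact hsqrt c
  rw [hcx, ← hc, hyx, inv_pow, mul_assoc (x * y)]
  congr 1
  exact eq_mul_inv_of_mul_eq hsq

include hcen in
theorem bop_assoc (x y z : Γ) : bop h (bop h x y) z = bop h x (bop h y z) := by
  unfold bop
  obtain ⟨A, hA⟩ : ∃ A, A = ⁅y, x⁆ ^ h := ⟨_, rfl⟩
  obtain ⟨B, hBB⟩ : ∃ B, B = ⁅z, y⁆ ^ h := ⟨_, rfl⟩
  obtain ⟨D, hD⟩ : ∃ D, D = ⁅z, x⁆ ^ h := ⟨_, rfl⟩
  have hAc : ∀ g, Commute A g := by rw [hA]; exact cent_pow hcen y x h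
  have hBc : ∀ g, Commute B g := by rw [hBB]; exact cent_pow hcen z y h
  have hDc : ∀ g, Commute D g := by rw [hD]; exact cent_pow hcen z x h
  have e1 : ⁅z, x * y * A⁆ ^ h = D * B := by
    rw [comm_mul_right hcen, comm_mul_right hcen, comm_cent_right hAc, mul_one,
      (hcen z x ⁅z, y⁆).mul_pow, hD, hBB]
  have e2 : ⁅y * z * B, x⁆ ^ h = A * D := by
    rw [comm_mul_left hcen, comm_mul_left hcen, comm_cent_left hBc, mul_one,
      (hcen y x ⁅z, x⁆).mul_pow, hA, hD]
  rw [← hA, ← hBB, e1, e2]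
  calc x * y * A * z * (D * B) = x * y * (A * z) * (D * B) := by simp only [mul_assoc]
    _ = x * y * (z * A) * (D * B) := by rw [(hAc z).eq]
    _ = x * y * z * (A * D * B) := by simp only [mul_assoc]
    _ = x * y * z * (B * (A * D)) := by rw [(hBc (A * D)).eq]
    _ = x * (y * z * B) * (A * D) := by simp only [mul_assoc]

theorem bop_one_left (x : Γ) : bop h 1 x = x := by
  simp [bop]

theorem bop_inv_left (x : Γ) : bop h x⁻¹ x = 1 := by
  have : ⁅x, x⁻¹⁆ = 1 := by simp [commutatorElement_def]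
  simp [bop, this]

end axioms

instance instAddCommGroup [BaerData Γ h] : AddCommGroup (Baer Γ h) :=
  letI : Zero (Baer Γ h) := ⟨⟨1⟩⟩
  letI : Add (Baer Γ h) := ⟨fun x y => ⟨bop h x.val y.val⟩⟩
  letI : Neg (Baer Γ h) := ⟨fun x => ⟨x.val⁻¹⟩⟩
  { AddGroup.ofLeftAxioms (G := Baer Γ h)
      (fun a b c => ext' (bop_assoc (BaerData.central h) a.val b.val c.val))
      (fun a => ext' (bop_one_left a.val))
      (fun a => ext' (bop_inv_left a.val)) with
    add_comm := fun a b => ext' (bop_comm (BaerData.central h) (BaerData.sqrt) a.val b.val) }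

theorem val_zero [BaerData Γ h] : (0 : Baer Γ h).val = 1 := rfl
theorem val_add [BaerData Γ h] (a b : Baer Γ h) : (a + b).val = bop h a.val b.val := rfl
theorem val_neg [BaerData Γ h] (a : Baer Γ h) : (-a).val = a.val⁻¹ := rfl

theorem val_nsmul [BaerData Γ h] (n : ℕ) (a : Baer Γ h) : (n • a).val = a.val ^ n := by
  induction n with
  | zero => rw [zero_nsmul, pow_zero, val_zero]
  | succ n ih =>
    rw [succ_nsmul, val_add, ih, bop]
    have : ⁅a.val, a.val ^ n⁆ = 1 :=
      commutatorElement_eq_one_iff_commute.2 ((Commute.refl a.val).pow_right n)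
    rw [this, one_pow, mul_one, pow_succ]

/-- A group endomorphism induces an additive endomorphism of the Baer group. -/
def map [BaerData Γ h] (φ : Γ →* Γ) : Baer Γ h →+ Baer Γ h where
  toFun a := ⟨φ a.val⟩
  map_zero' := ext' (by rw [val_zero]; exact map_one φ)
  map_add' a b := ext' (by
    rw [val_add, val_add]
    simp only [bop, map_mul, map_pow, map_commutatorElement])

theorem map_val [BaerData Γ h] (φ : Γ →* Γ) (a : Baer Γ h) : (map φ a).val = φ a.val := rfl

theorem card_eq [Finite Γ] : Nat.card (Baer Γ h) = Nat.card Γ :=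
  Nat.card_congr equivVal

instance instFinite [Finite Γ] : Finite (Baer Γ h) := Finite.of_equiv Γ equivVal.symm

end Baer

end Cfsg.Agent.Lead
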