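import Mathlib
import Cfsg.Agent.Lead.Baer
import Cfsg.Agent.Helper1.FrattiniAct
import Cfsg.Agent.Helper1.Coprime
import Cfsg.Agent.Lead.Basic

set_option autoImplicit false

/-!
Thompson's strengthening of the `P × Q` lemma for odd primes, via Baer's trick.
-/

namespace Cfsg.Agent.Lead

open scoped commutatorElement Pointwise

universe u

variable {X : Type u} [Group X]

/-- The additive endomorphism of the Baer group of `G` induced by conjugation with an element
normalizing `G`. -/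
noncomputable def baerConj (G : Subgroup X) (h : ℕ) [BaerData ↥G h] (g : X)
    (hg : g ∈ Subgroup.normalizer (G : Set X)) : Baer ↥G h →+ Baer ↥G h :=
  Baer.map (Helper1.conjNormalizer G g hg).toMonoidHom

theorem baerConj_val (G : Subgroup X) (h : ℕ) [BaerData ↥G h] (g : X)
    (hg : g ∈ Subgroup.normalizer (G : Set X)) (a : Baer ↥G h) :
    (((baerConj G h g hg a).val : ↥G) : X) = g * a.val * g⁻¹ := rfl

theorem baerConj_congr (G : Subgroup X) (h : ℕ) [BaerData ↥G h] {g₁ g₂ : X} (e : g₁ = g₂)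
    (hg₁ : g₁ ∈ Subgroup.normalizer (G : Set X)) (hg₂ : g₂ ∈ Subgroup.normalizer (G : Set X))
    (a : Baer ↥G h) : baerConj G h g₁ hg₁ a = baerConj G h g₂ hg₂ a := by
  subst e; rfl

theorem baerConj_mul (G : Subgroup X) (h : ℕ) [BaerData ↥G h] (g₁ g₂ : X)
    (hg₁ : g₁ ∈ Subgroup.normalizer (G : Set X)) (hg₂ : g₂ ∈ Subgroup.normalizer (G : Set X))
    (a : Baer ↥G h) :
    baerConj G h (g₁ * g₂) (Subgroup.mul_mem _ hg₁ hg₂) a =
      baerConj G h g₁ hg₁ (baerConj G h g₂ hg₂ a) := by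
  apply Baer.ext'
  apply Subtype.ext
  rw [baerConj_val, baerConj_val, baerConj_val]
  group

theorem baerConj_one (G : Subgroup X) (h : ℕ) [BaerData ↥G h]
    (a : Baer ↥G h) : baerConj G h 1 (Subgroup.one_mem _) a = a := by
  apply Baer.ext'
  apply Subtype.ext
  rw [baerConj_val]
  group

theorem baerConj_eq_self_iff (G : Subgroup X) (h : ℕ) [BaerData ↥G h] (g : X)
    (hg : g ∈ Subgroup.normalizer (G : Set X)) (a : Baer ↥G h) :
    baerConj G h g hg a = a ↔ g * (a.val : X) = a.val * g := by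
  constructor
  · intro e
    have := congrArg (fun b : Baer ↥G h => ((b.val : ↥G) : X)) e
    simp only [baerConj_val] at this
    have h2 := congrArg (· * g) this
    simpa [mul_assoc] using h2
  · intro e
    apply Baer.ext'
    apply Subtype.ext
    rw [baerConj_val, e]
    group

/-- The class two case of Thompson's lemma. -/
theorem le_centralizer_of_class_two [Finite X] {p : ℕ} [Fact p.Prime] (hp : p ≠ 2)
    (P Q G : Subgroup X) (hP : IsPGroup p P) (hQ : (Nat.card Q).Coprime p)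
    (hPQ : P ≤ Subgroup.normalizer (Q : Set X)) (hG : IsPGroup p G)
    (hPG : P ≤ Subgroup.normalizer (G : Set X)) (hQG : Q ≤ Subgroup.normalizer (G : Set X))
    (hC : G ⊓ Subgroup.centralizer (P : Set X) ≤ Subgroup.centralizer (Q : Set X))
    (hcl : ∀ a ∈ G, ∀ b ∈ G, ∀ c ∈ G, Commute ⁅a, b⁆ c) :
    Q ≤ Subgroup.centralizer (G : Set X) := by
  classical
  have hpp : p.Prime := Fact.out
  obtain ⟨n, hn⟩ := IsPGroup.iff_card.1 hG
  have hodd : Odd (Nat.card G) := by
    rw [hn]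
    exact Odd.pow (hpp.odd_of_ne_two hp)
  obtain ⟨h, hh⟩ : ∃ h, 2 * h = Nat.card G + 1 := by
    obtain ⟨k, hk⟩ := hodd
    exact ⟨k + 1, by omega⟩
  haveI : BaerData ↥G h := by
    refine ⟨fun a b c => ?_, fun z => ?_⟩
    · have := hcl a a.2 b b.2 c c.2
      have h2 : ((⁅a, b⁆ : ↥G) : X) = ⁅(a : X), (b : X)⁆ := by
        simp [commutatorElement_def]
      apply Subtype.ext
      rw [Subgroup.coe_mul, Subgroup.coe_mul, h2]
      exact this.eq
    · rw [hh, pow_succ, pow_card_eq_one', one_mul]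
  haveI : Fintype ↥Q := Fintype.ofFinite _
  -- the trace of `Q`
  let σ : Baer ↥G h →+ Baer ↥G h := ∑ q : ↥Q, baerConj G h q.1 (hQG q.2)
  have hσ : ∀ a, σ a = ∑ q : ↥Q, baerConj G h q.1 (hQG q.2) a := by
    intro a
    simp only [σ, AddMonoidHom.finset_sum_apply]
  -- `σ ∘ q₀ = σ`
  have hσQ : ∀ (q₀ : X) (hq₀ : q₀ ∈ Q) (a : Baer ↥G h), σ (baerConj G h q₀ (hQG hq₀) a) = σ a := by
    intro q₀ hq₀ a
    rw [hσ, hσ]
    refine Fintype.sum_equiv (Equiv.mulRight (⟨q₀, hq₀⟩ : ↥Q)) _ _ (fun q => ?_)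
    rw [← baerConj_mul]
    rfl
  -- `σ` commutes with `P`
  have hσP : ∀ (u : X) (hu : u ∈ P) (a : Baer ↥G h),
      baerConj G h u (hPG hu) (σ a) = σ (baerConj G h u (hPG hu) a) := by
    intro u hu a
    rw [hσ, hσ, map_sum]
    refine Fintype.sum_equiv (Helper1.conjNormalizer Q u (hPQ hu)).toEquiv _ _ (fun q => ?_)
    rw [← baerConj_mul, ← baerConj_mul]
    apply baerConj_congr
    simp [Helper1.conjNormalizer_coe]
  by_contra hcon
  obtain ⟨q, hqQ, hq⟩ := SetLike.not_le_iff_exists.1 hcon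
  rw [Subgroup.mem_centralizer_iff] at hq
  push Not at hq
  obtain ⟨x, hxG, hx⟩ := hq
  -- the kernel of the trace is a nontrivial `P`-invariant subgroup
  let K : AddSubgroup (Baer ↥G h) := σ.ker
  have hKP : ∀ (u : X) (hu : u ∈ P) (a : Baer ↥G h), a ∈ K → baerConj G h u (hPG hu) a ∈ K := by
    intro u hu a ha
    rw [AddMonoidHom.mem_ker] at ha ⊢
    rw [← hσP u hu a, ha, map_zero]
  let b : Baer ↥G h := baerConj G h q (hQG hqQ) ⟨⟨x, hxG⟩⟩ - ⟨⟨x, hxG⟩⟩
  have hbK : b ∈ K := by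
    rw [AddMonoidHom.mem_ker, map_sub, hσQ q hqQ, sub_self]
  have hb0 : b ≠ 0 := by
    intro e
    rw [sub_eq_zero, baerConj_eq_self_iff] at e
    exact hx e.symm
  -- the action of `P` on `K`
  letI : MulAction ↥P ↥K :=
    { smul := fun u k => ⟨baerConj G h u.1 (hPG u.2) k.1, hKP u.1 u.2 k.1 k.2⟩
      one_smul := fun k => Subtype.ext (baerConj_one G h k.1)
      mul_smul := fun u v k => Subtype.ext (baerConj_mul G h u.1 v.1 (hPG u.2) (hPG v.2) k.1) }
  have hsmul : ∀ (u : ↥P) (k : ↥K), ((u • k : ↥K) : Baer ↥G h) = baerConj G h u.1 (hPG u.2) k.1 :=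
    fun _ _ => rfl
  have hKcard : p ∣ Nat.card ↥K := by
    have h1 : Nat.card ↥K ∣ p ^ n := by
      rw [← hn, ← Baer.card_eq (Γ := ↥G) (h := h)]
      exact AddSubgroup.card_addSubgroup_dvd_card K
    obtain ⟨j, -, hj⟩ := (Nat.dvd_prime_pow hpp).1 h1
    rcases Nat.eq_zero_or_pos j with hj0 | hj0
    · exfalso
      rw [hj0, pow_zero] at hj
      have hsub : Subsingleton ↥K := (Nat.card_eq_one_iff_unique.1 hj).1
      have := Subsingleton.elim (⟨b, hbK⟩ : ↥K) (0 : ↥K)
      exact hb0 (congrArg Subtype.val this)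
    · rw [hj]
      exact dvd_pow_self p hj0.ne'
  have h0fix : (0 : ↥K) ∈ MulAction.fixedPoints ↥P ↥K := by
    intro u
    apply Subtype.ext
    rw [hsmul]
    exact map_zero _
  obtain ⟨c, hcfix, hc0⟩ := hP.exists_fixed_point_of_prime_dvd_card_of_fixed_point ↥K hKcard h0fix
  -- `c` is centralized by `P`, hence by `Q`
  have hcP : ((c.1.val : ↥G) : X) ∈ G ⊓ Subgroup.centralizer (P : Set X) := by
    refine ⟨c.1.val.2, ?_⟩
    refine Subgroup.mem_centralizer_iff.2 ?_
    intro u hu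
    have := hcfix ⟨u, hu⟩
    have h2 := congrArg Subtype.val this
    rw [hsmul, baerConj_eq_self_iff] at h2
    exact h2
  have hcQ := hC hcP
  rw [Subgroup.mem_centralizer_iff] at hcQ
  have hσc : σ c.1 = Nat.card ↥Q • c.1 := by
    rw [hσ]
    have : ∀ q : ↥Q, baerConj G h q.1 (hQG q.2) c.1 = c.1 := by
      intro q
      rw [baerConj_eq_self_iff]
      exact hcQ q.1 q.2
    rw [Finset.sum_congr rfl (fun q _ => this q), Finset.sum_const, Finset.card_univ,
      Nat.card_eq_fintype_card]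
  have hc1 : σ c.1 = 0 := c.2
  rw [hσc] at hc1
  have hc2 := congrArg Baer.val hc1
  rw [Baer.val_nsmul, Baer.val_zero] at hc2
  have hc3 : c.1.val ^ Nat.card ↥G = 1 := pow_card_eq_one'
  have hc4 : c.1.val = 1 := by
    have h5 : orderOf c.1.val ∣ Nat.gcd (Nat.card ↥Q) (Nat.card ↥G) :=
      Nat.dvd_gcd (orderOf_dvd_of_pow_eq_one hc2) (orderOf_dvd_of_pow_eq_one hc3)
    have h6 : Nat.gcd (Nat.card ↥Q) (Nat.card ↥G) = 1 := by
      rw [hn]; exact Nat.Coprime.pow_right n hQ
    rw [h6, Nat.dvd_one, orderOf_eq_one_iff] at h5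
    exact h5
  apply hc0
  apply Subtype.ext
  apply Baer.ext'
  rw [hc4]
  rfl

/-- An element normalizing `H` and `K` normalizes `⁅H, K⁆`. -/
theorem mem_normalizer_commutator_of_mem {H K : Subgroup X} {g : X}
    (hH : g ∈ Subgroup.normalizer (H : Set X)) (hK : g ∈ Subgroup.normalizer (K : Set X)) :
    g ∈ Subgroup.normalizer ((⁅H, K⁆ : Subgroup X) : Set X) := by
  have e1 : H.map (MulAut.conj g).toMonoidHom = H := Helper1.conj_smul_eq_of_mem_normalizer hH
  have e2 : K.map (MulAut.conj g).toMonoidHom = K := Helper1.conj_smul_eq_of_mem_normalizer hK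
  apply Helper1.mem_normalizer_of_conj_smul_eq
  change (⁅H, K⁆).map (MulAut.conj g).toMonoidHom = ⁅H, K⁆
  rw [Subgroup.map_commutator, e1, e2]

/-- **Thompson's strengthening of the `P × Q` lemma for odd primes**, inductive form. -/
theorem le_centralizer_of_inf_centralizer_le_aux [Finite X] {p : ℕ} [Fact p.Prime] (hp : p ≠ 2)
    (P Q : Subgroup X) (hP : IsPGroup p P) (hQ : (Nat.card Q).Coprime p)
    (hPQ : P ≤ Subgroup.normalizer (Q : Set X)) :
    ∀ (n : ℕ) (G : Subgroup X), Nat.card G = n → IsPGroup p G →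
      P ≤ Subgroup.normalizer (G : Set X) → Q ≤ Subgroup.normalizer (G : Set X) →
      G ⊓ Subgroup.centralizer (P : Set X) ≤ Subgroup.centralizer (Q : Set X) →
      Q ≤ Subgroup.centralizer (G : Set X) := by
  intro n
  induction n using Nat.strong_induction_on with
  | _ n ih =>
  intro G hcard hG hPG hQG hC
  have hcop : (Nat.card Q).Coprime (Nat.card G) := by
    obtain ⟨k, hk⟩ := IsPGroup.iff_card.1 hG
    rw [hk]; exact Nat.Coprime.pow_right k hQ
  haveI hnil : Group.IsNilpotent ↥G := hG.isNilpotent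
  have hsolvG : Group.IsSolvable ↥G := inferInstance
  have hsolv : Group.IsSolvable Q ∨ Group.IsSolvable G := Or.inr hsolvG
  have h1 : ⁅G, Q⁆ ≤ G := Subgroup.le_normalizer_iff_commutator_le_left.1 hQG
  have hPn : P ≤ Subgroup.normalizer ((⁅G, Q⁆ : Subgroup X) : Set X) := fun u hu =>
    mem_normalizer_commutator_of_mem (hPG hu) (hPQ hu)
  have hQn : Q ≤ Subgroup.normalizer ((⁅G, Q⁆ : Subgroup X) : Set X) := fun u hu =>
    mem_normalizer_commutator_of_mem (hQG hu) (Subgroup.le_normalizer hu)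
  by_cases hGQ : ⁅G, Q⁆ = G
  · by_cases hbot : G = ⊥
    · rw [hbot]
      intro q _
      rw [Subgroup.mem_centralizer_iff]
      intro g hg
      rw [SetLike.mem_coe, Subgroup.mem_bot] at hg
      rw [hg, one_mul, mul_one]
    have hGG : ⁅G, G⁆ ≤ G := Subgroup.le_normalizer_iff_commutator_le_left.1 Subgroup.le_normalizer
    have hG' : ⁅G, G⁆ < G := by
      refine lt_of_le_of_ne hGG (fun e => ?_)
      haveI : Nontrivial ↥G := by
        rw [Subgroup.nontrivial_iff_ne_bot]; exact hbot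
      have h2 : _root_.commutator ↥G < ⊤ := Group.IsSolvable.commutator_lt_top_of_nontrivial ↥G
      have h3 : (_root_.commutator ↥G).map G.subtype = (⊤ : Subgroup ↥G).map G.subtype := by
        rw [Subgroup.map_subtype_commutator, e, ← MonoidHom.range_eq_map, Subgroup.range_subtype]
      exact h2.ne (Subgroup.map_injective G.subtype_injective h3)
    have hPn' : P ≤ Subgroup.normalizer ((⁅G, G⁆ : Subgroup X) : Set X) := fun u hu =>
      mem_normalizer_commutator_of_mem (hPG hu) (hPG hu)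
    have hQn' : Q ≤ Subgroup.normalizer ((⁅G, G⁆ : Subgroup X) : Set X) := fun u hu =>
      mem_normalizer_commutator_of_mem (hQG hu) (hQG hu)
    have hQG' : Q ≤ Subgroup.centralizer ((⁅G, G⁆ : Subgroup X) : Set X) :=
      ih _ (hcard ▸ card_lt_of_lt hG') ⁅G, G⁆ rfl (hG.to_le hGG) hPn' hQn'
        ((inf_le_inf_right _ hGG).trans hC)
    have hQG'' : ⁅Q, ⁅G, G⁆⁆ = ⊥ := Subgroup.commutator_eq_bot_iff_le_centralizer.2 hQG'
    have h3 : ⁅⁅G, Q⁆, ⁅G, G⁆⁆ = ⊥ := by
      apply Subgroup.commutator_commutator_eq_bot_of_rotate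
      · rw [hQG'']
        exact Subgroup.commutator_bot_left G
      · rw [eq_bot_iff, ← hQG'', Subgroup.commutator_comm Q]
        exact Subgroup.commutator_mono (Subgroup.commutator_mono hGG le_rfl) le_rfl
    rw [hGQ] at h3
    apply le_centralizer_of_class_two hp P Q G hP hQ hPQ hG hPG hQG hC
    intro a ha b hb c hc
    have h4 : ⁅c, ⁅a, b⁆⁆ ∈ ⁅G, ⁅G, G⁆⁆ :=
      Subgroup.commutator_mem_commutator hc (Subgroup.commutator_mem_commutator ha hb)
    rw [h3, Subgroup.mem_bot, commutatorElement_eq_one_iff_commute] at h4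
    exact h4.symm
  · have hlt : ⁅G, Q⁆ < G := lt_of_le_of_ne h1 hGQ
    have h2 : Q ≤ Subgroup.centralizer ((⁅G, Q⁆ : Subgroup X) : Set X) :=
      ih _ (hcard ▸ card_lt_of_lt hlt) ⁅G, Q⁆ rfl (hG.to_le h1) hPn hQn
        ((inf_le_inf_right _ h1).trans hC)
    have h3 : ⁅⁅G, Q⁆, Q⁆ = ⊥ := by
      rw [Subgroup.commutator_comm]
      exact Subgroup.commutator_eq_bot_iff_le_centralizer.2 h2
    rw [Helper1.coprime_commutator_commutator Q G hQG hcop hsolv] at h3
    rw [Subgroup.commutator_comm] at h3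
    exact Subgroup.commutator_eq_bot_iff_le_centralizer.1 h3

/-- **Thompson's strengthening of the `P × Q` lemma for odd primes.** -/
theorem le_centralizer_of_inf_centralizer_le [Finite X] {p : ℕ} [Fact p.Prime] (hp : p ≠ 2)
    (P Q G : Subgroup X) (hP : IsPGroup p P) (hQ : (Nat.card Q).Coprime p)
    (hPQ : P ≤ Subgroup.normalizer (Q : Set X)) (hG : IsPGroup p G)
    (hPG : P ≤ Subgroup.normalizer (G : Set X)) (hQG : Q ≤ Subgroup.normalizer (G : Set X))
    (hC : G ⊓ Subgroup.centralizer (P : Set X) ≤ Subgroup.centralizer (Q : Set X)) :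
    Q ≤ Subgroup.centralizer (G : Set X) :=
  le_centralizer_of_inf_centralizer_le_aux hp P Q hP hQ hPQ _ G rfl hG hPG hQG hC

end Cfsg.Agent.Lead
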