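import Mathlib

set_option autoImplicit false

/-!
# Two pieces for Blackburn's theorem (helper4's S3888)

* `iter_formula`: iterating an automorphism along a chain `x ↦ x x₁`, `x₁ ↦ x₁ x₂`, `x₂ ↦ x₂ x₃`, `x₃ ↦ x₃`.
* `lcs_ne_bot_of_card_centralizer`: Suzuki's lemma, a `p`-group with an element whose centralizer has order `p²`
  has maximal class.
-/

namespace Cfsg.Agent.Lead.Blk

set_option linter.unusedVariables false in
theorem iter_formula {C : Type*} [Group C] (σ : C ≃* C) (x x1 x2 x3 : C) (h1 : σ x = x * x1)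
    (h2 : σ x1 = x1 * x2) (h3 : σ x2 = x2 * x3) (h4 : σ x3 = x3) (c12 : Commute x1 x2)
    (c13 : Commute x1 x3) (c23 : Commute x2 x3) (k : ℕ) :
    (σ ^ k) x = x * x1 ^ k * x2 ^ (k.choose 2) * x3 ^ (k.choose 3) := by
  induction k with
  | zero => simp
  | succ k ih =>
    rw [pow_succ', MulAut.mul_apply, ih]
    simp only [map_mul, map_pow, h1, h2, h3, h4]
    rw [c12.mul_pow, c23.mul_pow]
    have e2 : (k + 1).choose 2 = k + k.choose 2 := by
      rw [Nat.choose_succ_succ' k 1]; simp
    have e3 : (k + 1).choose 3 = k.choose 2 + k.choose 3 := by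
      rw [Nat.choose_succ_succ' k 2]
    rw [e2, e3, pow_succ' x1 k, pow_add, pow_add]
    have a1 : Commute (x2 ^ k) (x2 ^ k.choose 2) := (Commute.refl x2).pow_pow _ _
    have a2 : Commute (x3 ^ k.choose 2) (x3 ^ k.choose 3) := (Commute.refl x3).pow_pow _ _
    have a3 : Commute (x2 ^ k.choose 2) (x3 ^ k.choose 2) := c23.pow_pow _ _
    simp only [mul_assoc]

open Subgroup

theorem card_eq_ker_mul_range {A B : Type*} [Group A] [Group B] (f : A →* B) :
    Nat.card A = Nat.card f.ker * Nat.card f.range := by
  rw [← Subgroup.index_ker, Subgroup.card_mul_index]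

theorem card_centralizer_quot_le {G : Type*} [Group G] [Finite G] (g : G) :
    Nat.card (centralizer ({(QuotientGroup.mk g : G ⧸ center G)} : Set (G ⧸ center G))) ≤
      Nat.card (centralizer ({g} : Set G)) := by
  classical
  set Z := center G
  set Cb := centralizer ({(QuotientGroup.mk g : G ⧸ Z)} : Set (G ⧸ Z)) with hCb
  set D : Subgroup G := Cb.comap (QuotientGroup.mk' Z) with hD
  have hmemD : ∀ x : G, x ∈ D ↔ x * g * x⁻¹ * g⁻¹ ∈ Z := by
    intro x
    rw [hD, mem_comap, hCb, mem_centralizer_singleton_iff]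
    simp only [QuotientGroup.mk'_apply]
    rw [← QuotientGroup.mk_mul, ← QuotientGroup.mk_mul, QuotientGroup.eq]
    constructor
    · intro h
      have h2 : ((x * g)⁻¹ * (g * x))⁻¹ ∈ Z := Z.inv_mem h
      have h3 : (x * g) * ((x * g)⁻¹ * (g * x))⁻¹ * (x * g)⁻¹ ∈ Z :=
        (inferInstance : Z.Normal).conj_mem _ h2 _
      have e : (x * g) * ((x * g)⁻¹ * (g * x))⁻¹ * (x * g)⁻¹ = x * g * x⁻¹ * g⁻¹ := by group
      rwa [e] at h3
    · intro h
      have h2 : (x * g * x⁻¹ * g⁻¹)⁻¹ ∈ Z := Z.inv_mem h
      have h3 : (x * g)⁻¹ * (x * g * x⁻¹ * g⁻¹)⁻¹ * ((x * g)⁻¹)⁻¹ ∈ Z :=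
        (inferInstance : Z.Normal).conj_mem _ h2 _
      have e : (x * g)⁻¹ * (x * g * x⁻¹ * g⁻¹)⁻¹ * ((x * g)⁻¹)⁻¹ = (x * g)⁻¹ * (g * x) := by group
      rwa [e] at h3
  let φ : D →* Z :=
    { toFun := fun x => ⟨(x : G) * g * (x : G)⁻¹ * g⁻¹, (hmemD x).1 x.2⟩
      map_one' := by ext; simp
      map_mul' := by
        intro x y
        ext
        have hy : (y : G) * g * (y : G)⁻¹ * g⁻¹ ∈ center G := (hmemD y).1 y.2
        have hc := mem_center_iff.1 hy
        simp only [Subgroup.coe_mul]
        have : (x : G) * (y : G) * g * ((x : G) * (y : G))⁻¹ * g⁻¹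
            = (x : G) * ((y : G) * g * (y : G)⁻¹ * g⁻¹) * (g * (x : G)⁻¹ * g⁻¹) := by group
        rw [this, mul_assoc (x : G), ← hc (g * (x : G)⁻¹ * g⁻¹)]
        group }
  have hker : φ.ker = (centralizer ({g} : Set G)).subgroupOf D := by
    ext x
    rw [MonoidHom.mem_ker, mem_subgroupOf, mem_centralizer_singleton_iff]
    simp only [φ, MonoidHom.coe_mk, OneHom.coe_mk]
    rw [Subtype.ext_iff]
    simp only [Subgroup.coe_one]
    constructor
    · intro h
      have := congrArg (fun t => t * g * (x : G)) h
      simpa [mul_assoc] using this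
    · intro h
      rw [h]; group
  have hCD : centralizer ({g} : Set G) ≤ D := by
    intro x hx
    rw [hmemD]
    rw [mem_centralizer_singleton_iff] at hx
    rw [hx]
    have : g * x * x⁻¹ * g⁻¹ = 1 := by group
    rw [this]; exact Z.one_mem
  have hZD : Z ≤ D := by
    intro z hz
    rw [hmemD]
    have := mem_center_iff.1 hz g
    rw [← this]
    have e : g * z * z⁻¹ * g⁻¹ = 1 := by group
    rw [e]; exact Z.one_mem
  -- |D| ≤ |C(g)| * |Z|
  have h1 : Nat.card D ≤ Nat.card (centralizer ({g} : Set G)) * Nat.card Z := by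
    rw [card_eq_ker_mul_range φ, hker]
    have e1 : Nat.card ((centralizer ({g} : Set G)).subgroupOf D) = Nat.card (centralizer ({g} : Set G)) :=
      Nat.card_congr (Subgroup.subgroupOfEquivOfLe hCD).toEquiv
    rw [e1]
    exact Nat.mul_le_mul_left _ (Subgroup.card_le_card_group _)
  -- |D| = |Cb| * |Z|
  have h2 : Nat.card D = Nat.card Z * Nat.card Cb := by
    let ψ : D →* (G ⧸ Z) := (QuotientGroup.mk' Z).comp D.subtype
    have hr : ψ.range = Cb := by
      rw [MonoidHom.range_comp, Subgroup.range_subtype, hD,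
        Subgroup.map_comap_eq_self_of_surjective (QuotientGroup.mk'_surjective Z)]
    have hk : ψ.ker = Z.subgroupOf D := by
      ext x
      rw [MonoidHom.mem_ker, mem_subgroupOf]
      simp only [ψ, MonoidHom.comp_apply, Subgroup.coe_subtype, QuotientGroup.mk'_apply,
        QuotientGroup.eq_one_iff]
    rw [card_eq_ker_mul_range ψ, hr, hk]
    congr 1
    exact Nat.card_congr (Subgroup.subgroupOfEquivOfLe hZD).toEquiv
  rw [h2, mul_comm] at h1
  exact Nat.le_of_mul_le_mul_right h1 Nat.card_pos

/-- **Suzuki's lemma**: a group of order `pⁿ` with an element whose centralizer has order `p²` has maximal class. -/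
theorem lcs_ne_bot_of_card_centralizer {G : Type*} [Group G] [Finite G] {p : ℕ} [Fact p.Prime] (n : ℕ)
    (hn : 2 ≤ n) (hG : Nat.card G = p ^ n) (g : G)
    (hg : Nat.card (Subgroup.centralizer ({g} : Set G)) = p ^ 2) :
    (⊤ : Subgroup G).lowerCentralSeries (n - 2) ≠ ⊥ := by
  have hp : p.Prime := Fact.out
  induction n, hn using Nat.le_induction generalizing G with
  | base =>
    intro h
    simp only [Nat.sub_self, Subgroup.lowerCentralSeries_zero] at h
    have h1 : Nat.card G = 1 := by
      rw [← Subgroup.card_top (G := G), h, Subgroup.card_bot]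
    rw [hG] at h1
    have := Nat.one_lt_pow (n := 2) (by norm_num) hp.one_lt
    omega
  | succ m hm ih =>
    have hPG : IsPGroup p G := IsPGroup.of_card hG
    have hnt : Nontrivial G := by
      rw [← Finite.one_lt_card_iff_nontrivial, hG]
      exact Nat.one_lt_pow (by omega) hp.one_lt
    set Z := Subgroup.center G with hZdef
    have hZnt : Nontrivial Z := hPG.center_nontrivial
    -- g is not central
    have hgZ : g ∉ Z := by
      intro hgz
      have : Subgroup.centralizer ({g} : Set G) = ⊤ := by
        rw [eq_top_iff]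
        intro x _
        rw [Subgroup.mem_centralizer_singleton_iff]
        exact (Subgroup.mem_center_iff.1 hgz x)
      rw [this, Subgroup.card_top, hG] at hg
      have := Nat.pow_right_injective hp.two_le hg
      omega
    -- Z < C(g)
    have hZC : Z ≤ Subgroup.centralizer ({g} : Set G) := by
      intro z hz
      rw [Subgroup.mem_centralizer_singleton_iff]
      exact (Subgroup.mem_center_iff.1 hz g).symm
    have hgC : g ∈ Subgroup.centralizer ({g} : Set G) := by
      rw [Subgroup.mem_centralizer_singleton_iff]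
    -- |Z| = p
    have hZcard : Nat.card Z = p := by
      have hdvd : Nat.card Z ∣ p ^ 2 := hg ▸ Subgroup.card_dvd_of_le hZC
      obtain ⟨j, hj, hjc⟩ := (Nat.dvd_prime_pow hp).1 hdvd
      have hj0 : j ≠ 0 := by
        rintro rfl
        rw [pow_zero] at hjc
        have := Finite.one_lt_card_iff_nontrivial.2 hZnt
        omega
      have hj2 : j ≠ 2 := by
        rintro rfl
        have : Z = Subgroup.centralizer ({g} : Set G) :=
          Subgroup.eq_of_le_of_card_ge hZC (by rw [hjc, hg])
        exact hgZ (this ▸ hgC)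
      have : j = 1 := by omega
      rw [hjc, this, pow_one]
    -- the quotient
    have hQcard : Nat.card (G ⧸ Z) = p ^ m := by
      have h := Subgroup.card_eq_card_quotient_mul_card_subgroup Z
      rw [hG, hZcard, pow_succ] at h
      exact (Nat.eq_of_mul_eq_mul_right hp.pos h).symm
    have hPQ : IsPGroup p (G ⧸ Z) := IsPGroup.of_card hQcard
    have hQnt : Nontrivial (G ⧸ Z) := by
      rw [← Finite.one_lt_card_iff_nontrivial, hQcard]
      exact Nat.one_lt_pow (by omega) hp.one_lt
    set gb : G ⧸ Z := QuotientGroup.mk g with hgb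
    set Cb := Subgroup.centralizer ({gb} : Set (G ⧸ Z)) with hCb
    have hle : Nat.card Cb ≤ p ^ 2 := hg ▸ card_centralizer_quot_le g
    have hCbcard : Nat.card Cb = p ^ 2 := by
      have hdvd : Nat.card Cb ∣ p ^ m := hQcard ▸ Subgroup.card_subgroup_dvd_card Cb
      obtain ⟨j, hj, hjc⟩ := (Nat.dvd_prime_pow hp).1 hdvd
      have hZb : Subgroup.center (G ⧸ Z) ≤ Cb := by
        intro z hz
        rw [hCb, Subgroup.mem_centralizer_singleton_iff]
        exact (Subgroup.mem_center_iff.1 hz gb).symm
      have hZbnt : Nontrivial (Subgroup.center (G ⧸ Z)) := hPQ.center_nontrivial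
      have hZb1 : 1 < Nat.card (Subgroup.center (G ⧸ Z)) := Finite.one_lt_card_iff_nontrivial.2 hZbnt
      have hj0 : j ≠ 0 := by
        rintro rfl
        rw [pow_zero] at hjc
        have := Subgroup.card_le_of_le hZb
        omega
      have hj1 : j ≠ 1 := by
        rintro rfl
        rw [pow_one] at hjc
        -- Cb has prime order, so its nontrivial subgroup Z(Ḡ) is everything, so ḡ central, Cb = ⊤
        have hdz : Nat.card (Subgroup.center (G ⧸ Z)) ∣ p := hjc ▸ Subgroup.card_dvd_of_le hZb
        have hzp : Nat.card (Subgroup.center (G ⧸ Z)) = p := by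
          rcases (Nat.dvd_prime hp).1 hdz with h | h
          · omega
          · exact h
        have heq : Subgroup.center (G ⧸ Z) = Cb :=
          Subgroup.eq_of_le_of_card_ge hZb (by rw [hzp, hjc])
        have hgbC : gb ∈ Cb := by
          rw [hCb, Subgroup.mem_centralizer_singleton_iff]
        have hgbZ : gb ∈ Subgroup.center (G ⧸ Z) := heq ▸ hgbC
        have htop : Cb = ⊤ := by
          rw [eq_top_iff]
          intro x _
          rw [hCb, Subgroup.mem_centralizer_singleton_iff]
          exact (Subgroup.mem_center_iff.1 hgbZ x)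
        rw [htop, Subgroup.card_top, hQcard] at hjc
        have : m = 1 := Nat.pow_right_injective hp.two_le (by simpa using hjc)
        omega
      have hj2 : j ≤ 2 := by
        rw [hjc] at hle
        exact (Nat.pow_le_pow_iff_right hp.one_lt).1 hle
      have : j = 2 := by omega
      rw [hjc, this]
    have key := ih hQcard gb hCbcard
    -- lift
    have hmap : ((⊤ : Subgroup G).lowerCentralSeries (m - 2)).map (QuotientGroup.mk' Z) =
        (⊤ : Subgroup (G ⧸ Z)).lowerCentralSeries (m - 2) := by
      rw [Subgroup.map_lowerCentralSeries]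
      congr 1
      rw [← MonoidHom.range_eq_map, MonoidHom.range_eq_top]
      exact QuotientGroup.mk'_surjective Z
    have hnle : ¬ (⊤ : Subgroup G).lowerCentralSeries (m - 2) ≤ Z := by
      intro hle2
      apply key
      rw [← hmap, eq_bot_iff]
      rintro _ ⟨x, hx, rfl⟩
      rw [Subgroup.mem_bot, QuotientGroup.mk'_apply, QuotientGroup.eq_one_iff]
      exact hle2 hx
    have e : m + 1 - 2 = (m - 2) + 1 := by omega
    rw [e, Subgroup.lowerCentralSeries_succ]
    intro hbot
    apply hnle
    rw [Subgroup.commutator_eq_bot_iff_le_centralizer] at hbot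
    intro x hx
    have := hbot hx
    rw [Subgroup.mem_centralizer_iff] at this
    rw [hZdef, Subgroup.mem_center_iff]
    intro y
    exact this y (Subgroup.mem_top y)

end Cfsg.Agent.Lead.Blk
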