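import Mathlib
import Cfsg.Agent.Helper4.ThreeSubgroups
import Cfsg.Agent.Lead.HallCommOld

set_option autoImplicit false

namespace Cfsg.Agent.Lead.LCSNormal

variable {G : Type*} [Group G]

/-- iterated commutator with the whole group -/
def iter (A : Subgroup G) : ℕ → Subgroup G
  | 0 => A
  | k + 1 => ⁅iter A k, ⊤⁆

theorem iter_normal (A : Subgroup G) [A.Normal] : ∀ k, (iter A k).Normal
  | 0 => by simpa [iter]
  | k + 1 => by
    haveI := iter_normal A k
    show (⁅iter A k, (⊤ : Subgroup G)⁆).Normal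
    infer_instance

theorem iter_succ_le (A : Subgroup G) [A.Normal] (k : ℕ) : iter A (k + 1) ≤ iter A k := by
  haveI := iter_normal A k
  exact Subgroup.commutator_le_left _ _

theorem iter_antitone (A : Subgroup G) [A.Normal] : Antitone (iter A) :=
  antitone_nat_of_succ_le (iter_succ_le A)

theorem iter_mono {A B : Subgroup G} (h : A ≤ B) : ∀ k, iter A k ≤ iter B k
  | 0 => h
  | k + 1 => Subgroup.commutator_mono (iter_mono h k) le_rfl

theorem iter_comm (A : Subgroup G) : ∀ k, iter ⁅A, (⊤ : Subgroup G)⁆ k = iter A (k + 1)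
  | 0 => rfl
  | k + 1 => by
    show ⁅iter ⁅A, (⊤ : Subgroup G)⁆ k, (⊤ : Subgroup G)⁆ = ⁅iter A (k + 1), ⊤⁆
    rw [iter_comm A k]

theorem iter_le_lcs (A : Subgroup G) : ∀ k, iter A k ≤ (⊤ : Subgroup G).lowerCentralSeries k
  | 0 => le_top
  | k + 1 => Subgroup.commutator_mono (iter_le_lcs A k) le_rfl

theorem le_of_le_commutator_sup [Group.IsNilpotent G] {A B : Subgroup G} [A.Normal] [B.Normal]
    (h : A ≤ ⁅A, (⊤ : Subgroup G)⁆ ⊔ B) : A ≤ B := by
  have key : ∀ j, A ≤ iter A j ⊔ B := by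
    intro j
    induction j with
    | zero => exact le_sup_left
    | succ j ih =>
      calc A ≤ ⁅A, (⊤ : Subgroup G)⁆ ⊔ B := h
        _ ≤ ⁅iter A j ⊔ B, (⊤ : Subgroup G) ⊔ B⁆ ⊔ B :=
          sup_le_sup_right (Subgroup.commutator_mono ih le_sup_left) B
        _ ≤ (⁅iter A j, (⊤ : Subgroup G)⁆ ⊔ B) ⊔ B :=
          sup_le_sup_right (Cfsg.Agent.Helper1.commutator_sup_normal_le _ _ _) B
        _ = iter A (j + 1) ⊔ B := by rw [sup_assoc, sup_idem]; rfl
  obtain ⟨n, hn⟩ := (Subgroup.nilpotent_iff_lowerCentralSeries (G := G)).1 inferInstance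
  have h1 := key n
  have h2 : iter A n = ⊥ := le_bot_iff.1 (hn ▸ iter_le_lcs A n)
  rw [h2, bot_sup_eq] at h1
  exact h1

theorem lcs_normal (N : Subgroup G) [N.Normal] : ∀ k, (N.lowerCentralSeries k).Normal
  | 0 => by simpa
  | k + 1 => by
    haveI := lcs_normal N k
    rw [Subgroup.lowerCentralSeries_succ]
    infer_instance

theorem iter_le_of_relIndex_le [Finite G] {p : ℕ} [Fact p.Prime] (hG : IsPGroup p G) :
    ∀ (k : ℕ) (A B : Subgroup G) [A.Normal] [B.Normal], B ≤ A → B.relIndex A ≤ p ^ k →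
      iter A k ≤ B := by
  haveI : Group.IsNilpotent G := hG.isNilpotent
  intro k
  induction k with
  | zero =>
    intro A B _ _ hBA hle
    have h0 : B.relIndex A ≠ 0 := Subgroup.index_ne_zero_of_finite
    have h1 : B.relIndex A = 1 := by
      rw [pow_zero] at hle
      omega
    exact Subgroup.relIndex_eq_one.1 h1
  | succ k ih =>
    intro A B _ _ hBA hle
    by_cases hAB : A ≤ B
    · exact le_trans (iter_antitone A (Nat.zero_le _)) hAB
    · have hA'A : ⁅A, (⊤ : Subgroup G)⁆ ⊔ B ≤ A := sup_le (Subgroup.commutator_le_left _ _) hBA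
      have hne : ¬ A ≤ ⁅A, (⊤ : Subgroup G)⁆ ⊔ B := fun h => hAB (le_of_le_commutator_sup h)
      have hmul := Subgroup.relIndex_mul_relIndex B (⁅A, (⊤ : Subgroup G)⁆ ⊔ B) A le_sup_right hA'A
      have hne1 : (⁅A, (⊤ : Subgroup G)⁆ ⊔ B).relIndex A ≠ 1 := fun h =>
        hne (Subgroup.relIndex_eq_one.1 h)
      have hdvd : (⁅A, (⊤ : Subgroup G)⁆ ⊔ B).relIndex A ∣ Nat.card A :=
        Subgroup.relIndex_dvd_card _ _
      obtain ⟨m, hm⟩ := (IsPGroup.iff_card.1 (hG.to_subgroup A))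
      rw [hm] at hdvd
      obtain ⟨j, hjm, hj⟩ := (Nat.dvd_prime_pow (Fact.out : p.Prime)).1 hdvd
      have hj0 : j ≠ 0 := by
        rintro rfl
        exact hne1 (by rw [hj, pow_zero])
      have hp : p ≤ (⁅A, (⊤ : Subgroup G)⁆ ⊔ B).relIndex A := by
        rw [hj]
        calc p = p ^ 1 := (pow_one p).symm
          _ ≤ p ^ j := Nat.pow_le_pow_right (Fact.out : p.Prime).pos (Nat.one_le_iff_ne_zero.2 hj0)
      have hle' : B.relIndex (⁅A, (⊤ : Subgroup G)⁆ ⊔ B) ≤ p ^ k := by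
        have h3 : B.relIndex (⁅A, (⊤ : Subgroup G)⁆ ⊔ B) * p ≤ p ^ k * p := by
          calc B.relIndex (⁅A, (⊤ : Subgroup G)⁆ ⊔ B) * p
              ≤ B.relIndex (⁅A, (⊤ : Subgroup G)⁆ ⊔ B) * (⁅A, (⊤ : Subgroup G)⁆ ⊔ B).relIndex A :=
                Nat.mul_le_mul_left _ hp
            _ = B.relIndex A := hmul
            _ ≤ p ^ (k + 1) := hle
            _ = p ^ k * p := pow_succ p k
        exact Nat.le_of_mul_le_mul_right h3 (Fact.out : p.Prime).pos
      have h4 := ih (⁅A, (⊤ : Subgroup G)⁆ ⊔ B) B le_sup_right hle'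
      calc iter A (k + 1) = iter ⁅A, (⊤ : Subgroup G)⁆ k := (iter_comm A k).symm
        _ ≤ iter (⁅A, (⊤ : Subgroup G)⁆ ⊔ B) k := iter_mono le_sup_left k
        _ ≤ B := h4

theorem s3781 [Finite G] {p : ℕ} [Fact p.Prime] (hG : IsPGroup p G) (n : ℕ) (hn : 1 ≤ n)
    (N : Subgroup G) [N.Normal] (hN : N ≤ (⊤ : Subgroup G).lowerCentralSeries (n - 1)) (i : ℕ)
    (hi : 1 < i) (hne : N.lowerCentralSeries i ≠ ⊥) :
    p ^ n ≤ (N.lowerCentralSeries i).relIndex (N.lowerCentralSeries (i - 1)) := by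
  haveI : Group.IsNilpotent G := hG.isNilpotent
  by_contra hlt
  push Not at hlt
  obtain ⟨i', rfl⟩ : ∃ i', i = i' + 1 := ⟨i - 1, by omega⟩
  simp only [Nat.add_sub_cancel] at hlt
  haveI hMn := lcs_normal N i'
  haveI hLn := lcs_normal N (i' + 1)
  have hLM : N.lowerCentralSeries (i' + 1) ≤ N.lowerCentralSeries i' :=
    Subgroup.lowerCentralSeries_antitone N (Nat.le_succ _)
  -- the index is a power of p
  have hdvd : (N.lowerCentralSeries (i' + 1)).relIndex (N.lowerCentralSeries i') ∣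
      Nat.card (N.lowerCentralSeries i') := Subgroup.relIndex_dvd_card _ _
  obtain ⟨m, hm⟩ := (IsPGroup.iff_card.1 (hG.to_subgroup (N.lowerCentralSeries i')))
  rw [hm] at hdvd
  obtain ⟨j, hjm, hj⟩ := (Nat.dvd_prime_pow (Fact.out : p.Prime)).1 hdvd
  have hjn : j ≤ n - 1 := by
    rw [hj] at hlt
    have := (Nat.pow_lt_pow_iff_right (Fact.out : p.Prime).one_lt).1 hlt
    omega
  have h1 : iter (N.lowerCentralSeries i') j ≤ N.lowerCentralSeries (i' + 1) :=
    iter_le_of_relIndex_le hG j _ _ hLM (le_of_eq hj)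
  have h2 : iter (N.lowerCentralSeries i') (n - 1) ≤ N.lowerCentralSeries (i' + 1) :=
    le_trans (iter_antitone _ hjn) h1
  have h3 : iter (N.lowerCentralSeries i') n ≤
      ⁅N.lowerCentralSeries (i' + 1), (⊤ : Subgroup G)⁆ := by
    obtain ⟨n', rfl⟩ : ∃ n', n = n' + 1 := ⟨n - 1, by omega⟩
    exact Subgroup.commutator_mono h2 le_rfl
  have h4 : ⁅N.lowerCentralSeries i', (⊤ : Subgroup G).lowerCentralSeries (n - 1)⁆ ≤
      iter (N.lowerCentralSeries i') n := by
    have := Cfsg.Agent.Helper4.commutator_lowerCentralSeries_le (iter (N.lowerCentralSeries i'))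
      (iter_normal _) ⊤ (fun _ => le_rfl) (n - 1) 0
    have e : 0 + (n - 1) + 1 = n := by omega
    rw [e] at this
    exact this
  have h5 : N.lowerCentralSeries (i' + 1) ≤ ⁅N.lowerCentralSeries (i' + 1), (⊤ : Subgroup G)⁆ := by
    calc N.lowerCentralSeries (i' + 1) = ⁅N.lowerCentralSeries i', N⁆ := Subgroup.lowerCentralSeries_succ N i'
      _ ≤ ⁅N.lowerCentralSeries i', (⊤ : Subgroup G).lowerCentralSeries (n - 1)⁆ :=
        Subgroup.commutator_mono le_rfl hN
      _ ≤ iter (N.lowerCentralSeries i') n := h4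
      _ ≤ _ := h3
  have h6 : N.lowerCentralSeries (i' + 1) ≤ ⊥ :=
    le_of_le_commutator_sup (B := ⊥) (by rw [sup_bot_eq]; exact h5)
  exact hne (le_bot_iff.1 h6)

end Cfsg.Agent.Lead.LCSNormal
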