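import Mathlib
import Cfsg.Agent.Lead.LCSNormal

set_option autoImplicit false

namespace Cfsg.Agent.Lead.Breadth

open scoped commutatorElement

variable {G : Type*} [Group G]

/-- lower central series of the whole group -/
abbrev lcs (G : Type*) [Group G] (t : ℕ) : Subgroup G := (⊤ : Subgroup G).lowerCentralSeries t

instance lcs_normal' (t : ℕ) : (lcs G t).Normal := by
  unfold lcs
  infer_instance

theorem lcs_succ (t : ℕ) : lcs G (t + 1) = ⁅lcs G t, (⊤ : Subgroup G)⁆ := rfl

/-- elements centralizing `γ_{t+1}/γ_{t+3}` -/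
def cent2 (G : Type*) [Group G] (t : ℕ) : Subgroup G where
  carrier := {x | ∀ g ∈ lcs G t, ⁅x, g⁆ ∈ lcs G (t + 2)}
  one_mem' := by
    intro g _
    rw [commutatorElement_one_left]
    exact one_mem _
  mul_mem' := by
    intro x y hx hy g hg
    have h : ⁅x * y, g⁆ = x * ⁅y, g⁆ * x⁻¹ * ⁅x, g⁆ := by
      simp only [commutatorElement_def]; group
    rw [h]
    exact mul_mem ((lcs_normal' (t + 2)).conj_mem _ (hy g hg) x) (hx g hg)
  inv_mem' := by
    intro x hx g hg
    have h : ⁅x⁻¹, g⁆ = x⁻¹ * ⁅x, g⁆⁻¹ * x⁻¹⁻¹ := by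
      simp only [commutatorElement_def]; group
    rw [h]
    exact (lcs_normal' (t + 2)).conj_mem _ (inv_mem (hx g hg)) x⁻¹

theorem mem_cent2 {t : ℕ} {x : G} :
    x ∈ cent2 G t ↔ ∀ g ∈ lcs G t, ⁅x, g⁆ ∈ lcs G (t + 2) := Iff.rfl

/-- strictness of the lower central series below the class -/
theorem lcs_succ_ne [Group.IsNilpotent G] {t : ℕ} (ht : lcs G t ≠ ⊥) : ¬ lcs G t ≤ lcs G (t + 1) := by
  intro h
  apply ht
  have h1 : lcs G t ≤ ⁅lcs G t, (⊤ : Subgroup G)⁆ ⊔ ⊥ := by
    rw [sup_bot_eq]; exact h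
  exact le_bot_iff.1 (Cfsg.Agent.Lead.LCSNormal.le_of_le_commutator_sup (B := ⊥) h1)

theorem cent2_ne_top [Group.IsNilpotent G] {t : ℕ} (ht : lcs G (t + 1) ≠ ⊥) : cent2 G t ≠ ⊤ := by
  intro h
  apply lcs_succ_ne ht
  rw [lcs_succ, Subgroup.commutator_comm, Subgroup.commutator_le]
  intro x _ g hg
  have hx : x ∈ cent2 G t := h ▸ Subgroup.mem_top x
  exact hx g hg

theorem index_ge_of_ne_top [Finite G] {p : ℕ} [Fact p.Prime] (hG : IsPGroup p G) {H : Subgroup G}
    (hH : H ≠ ⊤) : p ≤ H.index := by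
  obtain ⟨j, hj⟩ := hG.index H
  have hj0 : j ≠ 0 := by
    rintro rfl
    rw [pow_zero] at hj
    exact hH (Subgroup.index_eq_one.1 hj)
  rw [hj]
  calc p = p ^ 1 := (pow_one p).symm
    _ ≤ p ^ j := Nat.pow_le_pow_right (Fact.out : p.Prime).pos (Nat.one_le_iff_ne_zero.2 hj0)

theorem relIndex_ge_of_ne [Finite G] {p : ℕ} [Fact p.Prime] (hG : IsPGroup p G) {H K : Subgroup G}
    (hHK : ¬ K ≤ H) : p ≤ H.relIndex K := by
  have h1 : H.subgroupOf K ≠ ⊤ := by
    intro h
    exact hHK (Subgroup.subgroupOf_eq_top.1 h)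
  exact index_ge_of_ne_top (hG.to_subgroup K) h1

/-- the subgroups `C_G(x) γ_{t+1}` -/
def chain (x : G) (t : ℕ) : Subgroup G := Subgroup.centralizer ({x} : Set G) ⊔ lcs G t

theorem chain_succ_le (x : G) (t : ℕ) : chain x (t + 1) ≤ chain x t :=
  sup_le_sup_left (Subgroup.lowerCentralSeries_antitone _ (Nat.le_succ t)) _

theorem mem_cent2_of_chain_eq {x : G} {t : ℕ} (h : chain x t ≤ chain x (t + 1)) :
    x ∈ cent2 G t := by
  intro g hg
  have hg' : g ∈ chain x (t + 1) := h (Subgroup.mem_sup_right hg)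
  obtain ⟨c, hc, k, hk, rfl⟩ := Subgroup.mem_sup_of_normal_right.1 hg'
  have hcx : c * x = x * c := by
    have := Subgroup.mem_centralizer_iff.1 hc x (Set.mem_singleton x)
    exact this.symm
  have e : ⁅x, c * k⁆ = c * ⁅x, k⁆ * c⁻¹ := by
    simp only [commutatorElement_def]
    have h2 : x * (c * k) = c * (x * k) := by
      rw [← mul_assoc, ← hcx, mul_assoc]
    have h3 : x⁻¹ * (c * k)⁻¹ = x⁻¹ * k⁻¹ * c⁻¹ := by
      rw [mul_inv_rev, mul_assoc]
    calc x * (c * k) * x⁻¹ * (c * k)⁻¹ = x * (c * k) * (x⁻¹ * (c * k)⁻¹) := by group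
      _ = c * (x * k) * (x⁻¹ * k⁻¹ * c⁻¹) := by rw [h2, h3]
      _ = c * (x * k * x⁻¹ * k⁻¹) * c⁻¹ := by group
  rw [e]
  apply (lcs_normal' (t + 2)).conj_mem
  have : lcs G (t + 2) = ⁅(⊤ : Subgroup G), lcs G (t + 1)⁆ := by
    rw [lcs_succ, Subgroup.commutator_comm]
  rw [this]
  exact Subgroup.commutator_mem_commutator (Subgroup.mem_top x) hk

open Classical in
/-- indicator of `x ∉ cent2 t` -/
noncomputable def ind (t : ℕ) (x : G) : ℕ := if x ∈ cent2 G t then 0 else 1

theorem ind_one (t : ℕ) : ind t (1 : G) = 0 := by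
  unfold ind
  rw [if_pos (one_mem _)]

theorem pow_count_le_index [Finite G] {p : ℕ} [Fact p.Prime] (hG : IsPGroup p G) (x : G) :
    ∀ T : ℕ, p ^ (∑ t ∈ Finset.range T, ind t x) ≤ (chain x T).index := by
  intro T
  induction T with
  | zero =>
    simp only [Finset.range_zero, Finset.sum_empty, pow_zero]
    exact Nat.one_le_iff_ne_zero.2 Subgroup.index_ne_zero_of_finite
  | succ T ih =>
    rw [Finset.sum_range_succ]
    have hmul := Subgroup.relIndex_mul_index (chain_succ_le x T)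
    by_cases hx : x ∈ cent2 G T
    · have : ind T x = 0 := by unfold ind; rw [if_pos hx]
      rw [this, add_zero]
      refine le_trans ih ?_
      exact Nat.le_of_dvd (Nat.pos_of_ne_zero Subgroup.index_ne_zero_of_finite)
        (Subgroup.index_dvd_of_le (chain_succ_le x T))
    · have : ind T x = 1 := by unfold ind; rw [if_neg hx]
      rw [this, pow_succ]
      have h1 : p ≤ (chain x (T + 1)).relIndex (chain x T) :=
        relIndex_ge_of_ne hG (fun h => hx (mem_cent2_of_chain_eq h))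
      calc p ^ (∑ t ∈ Finset.range T, ind t x) * p ≤ (chain x T).index * (chain x (T + 1)).relIndex (chain x T) :=
            Nat.mul_le_mul ih h1
        _ = (chain x (T + 1)).index := by rw [mul_comm]; exact hmul

theorem count_le [Finite G] {p : ℕ} [Fact p.Prime] (hG : IsPGroup p G) (b : ℕ)
    (hb : ∀ x : G, (Subgroup.centralizer ({x} : Set G)).index ≤ p ^ b) (x : G) (T : ℕ) :
    ∑ t ∈ Finset.range T, ind t x ≤ b := by
  have h1 := pow_count_le_index hG x T
  have h2 : (chain x T).index ≤ (Subgroup.centralizer ({x} : Set G)).index :=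
    Nat.le_of_dvd (Nat.pos_of_ne_zero Subgroup.index_ne_zero_of_finite)
      (Subgroup.index_dvd_of_le le_sup_left)
  have h3 := le_trans (le_trans h1 h2) (hb x)
  exact (Nat.pow_le_pow_iff_right (Fact.out : p.Prime).one_lt).1 h3

theorem sum_ind_ge [Finite G] [Fintype G] {p : ℕ} [Fact p.Prime] (hG : IsPGroup p G) {t : ℕ}
    (ht : lcs G (t + 1) ≠ ⊥) : (p - 1) * Nat.card G ≤ p * ∑ x : G, ind t x := by
  haveI : Group.IsNilpotent G := hG.isNilpotent
  classical
  have h1 : ∑ x : G, ind t x + Nat.card (cent2 G t) = Nat.card G := by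
    have e1 : ∑ x : G, ind t x = (Finset.univ.filter (fun x : G => x ∉ cent2 G t)).card := by
      rw [Finset.card_filter]
      apply Finset.sum_congr rfl
      intro x _
      unfold ind
      by_cases hx : x ∈ cent2 G t
      · rw [if_pos hx, if_neg (not_not.2 hx)]
      · rw [if_neg hx, if_pos hx]
    have e2 : Nat.card (cent2 G t) = (Finset.univ.filter (fun x : G => x ∈ cent2 G t)).card := by
      rw [Nat.card_eq_fintype_card, Fintype.card_subtype]
    rw [e1, e2, add_comm, Finset.card_filter_add_card_filter_not, Finset.card_univ,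
      Nat.card_eq_fintype_card]
  have h2 : p ≤ (cent2 G t).index := index_ge_of_ne_top hG (cent2_ne_top ht)
  have h3 : Nat.card (cent2 G t) * (cent2 G t).index = Nat.card G :=
    Subgroup.card_mul_index _
  have h4 : p * Nat.card (cent2 G t) ≤ Nat.card G := by
    calc p * Nat.card (cent2 G t) = Nat.card (cent2 G t) * p := mul_comm _ _
      _ ≤ Nat.card (cent2 G t) * (cent2 G t).index := Nat.mul_le_mul_left _ h2
      _ = Nat.card G := h3
  have hp : 1 ≤ p := (Fact.out : p.Prime).pos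
  have h5 : p * ∑ x : G, ind t x + p * Nat.card (cent2 G t) = p * Nat.card G := by
    rw [← mul_add, h1]
  have h6 : (p - 1) * Nat.card G + Nat.card G = p * Nat.card G := by
    rw [← Nat.succ_mul, Nat.succ_eq_add_one, Nat.sub_add_cancel hp]
  omega

theorem main_ineq [Finite G] {p : ℕ} [Fact p.Prime] (hG : IsPGroup p G) (b : ℕ) (hb0 : b ≠ 0)
    (hb : ∀ x : G, (Subgroup.centralizer ({x} : Set G)).index ≤ p ^ b) :
    (Group.nilpotencyClass G - 1) * (p - 1) < b * p := by
  haveI : Group.IsNilpotent G := hG.isNilpotent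
  classical
  haveI : Fintype G := Fintype.ofFinite G
  obtain ⟨c, hc⟩ : ∃ c, c = Group.nilpotencyClass G := ⟨_, rfl⟩
  rw [← hc]
  have hlow : ∀ t ∈ Finset.range (c - 1), (p - 1) * Nat.card G ≤ p * ∑ x : G, ind t x := by
    intro t ht
    apply sum_ind_ge hG
    intro h
    have := (lowerCentralSeries_eq_bot_iff_nilpotencyClass_le (G := G)).1 h
    rw [Finset.mem_range] at ht
    omega
  have h1 : (c - 1) * ((p - 1) * Nat.card G) ≤ p * ∑ t ∈ Finset.range (c - 1), ∑ x : G, ind t x := by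
    rw [Finset.mul_sum]
    calc (c - 1) * ((p - 1) * Nat.card G) = ∑ _t ∈ Finset.range (c - 1), (p - 1) * Nat.card G := by
          rw [Finset.sum_const, Finset.card_range, smul_eq_mul]
      _ ≤ ∑ t ∈ Finset.range (c - 1), p * ∑ x : G, ind t x := Finset.sum_le_sum hlow
  have h2 : ∑ t ∈ Finset.range (c - 1), ∑ x : G, ind t x =
      ∑ x : G, ∑ t ∈ Finset.range (c - 1), ind t x := Finset.sum_comm
  have h3 : ∑ x : G, ∑ t ∈ Finset.range (c - 1), ind t x ≤ (Nat.card G - 1) * b := by
    have e : ∑ x : G, ∑ t ∈ Finset.range (c - 1), ind t x =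
        ∑ x ∈ (Finset.univ : Finset G).erase 1, ∑ t ∈ Finset.range (c - 1), ind t x := by
      symm
      apply Finset.sum_erase
      apply Finset.sum_eq_zero
      intro t _
      exact ind_one t
    rw [e]
    have := Finset.sum_le_card_nsmul ((Finset.univ : Finset G).erase 1)
      (fun x => ∑ t ∈ Finset.range (c - 1), ind t x) b (fun x _ => count_le hG b hb x (c - 1))
    rw [Finset.card_erase_of_mem (Finset.mem_univ _), Finset.card_univ, smul_eq_mul,
      ← Nat.card_eq_fintype_card] at this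
    exact this
  have hcard : 0 < Nat.card G := Nat.card_pos
  have hp : 0 < p := (Fact.out : p.Prime).pos
  have h4 : (c - 1) * ((p - 1) * Nat.card G) < p * (Nat.card G * b) := by
    calc (c - 1) * ((p - 1) * Nat.card G) ≤ p * ∑ t ∈ Finset.range (c - 1), ∑ x : G, ind t x := h1
      _ = p * ∑ x : G, ∑ t ∈ Finset.range (c - 1), ind t x := by rw [h2]
      _ ≤ p * ((Nat.card G - 1) * b) := Nat.mul_le_mul_left _ h3
      _ < p * (Nat.card G * b) := by
        apply Nat.mul_lt_mul_of_pos_left _ hp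
        apply Nat.mul_lt_mul_of_pos_right _ (Nat.pos_of_ne_zero hb0)
        omega
  have h5 : (c - 1) * (p - 1) * Nat.card G < b * p * Nat.card G := by
    calc (c - 1) * (p - 1) * Nat.card G = (c - 1) * ((p - 1) * Nat.card G) := by ring
      _ < p * (Nat.card G * b) := h4
      _ = b * p * Nat.card G := by ring
  exact Nat.lt_of_mul_lt_mul_right h5

theorem s3778 [Finite G] {p : ℕ} [Fact p.Prime] (hG : IsPGroup p G) (b : ℕ)
    (hb : ∀ x : G, (Subgroup.centralizer ({x} : Set G)).index ≤ p ^ b) :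
    ∃ c : ℕ, (⊤ : Subgroup G).lowerCentralSeries c = ⊥ ∧
      (b ≠ 0 → (c - 1) * (p - 1) < b * p ∧ c ≤ 2 * b) ∧ (b = 0 → c ≤ 1) := by
  haveI : Group.IsNilpotent G := hG.isNilpotent
  by_cases hb0 : b = 0
  · refine ⟨1, ?_, fun h => absurd hb0 h, fun _ => le_rfl⟩
    show ⁅(⊤ : Subgroup G), (⊤ : Subgroup G)⁆ = ⊥
    rw [Subgroup.commutator_eq_bot_iff_le_centralizer]
    intro x _
    rw [Subgroup.mem_centralizer_iff]
    intro y _
    have h1 := hb y
    rw [hb0, pow_zero] at h1
    have h2 : (Subgroup.centralizer ({y} : Set G)).index = 1 := by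
      have : (Subgroup.centralizer ({y} : Set G)).index ≠ 0 := Subgroup.index_ne_zero_of_finite
      omega
    have h3 : x ∈ Subgroup.centralizer ({y} : Set G) := by
      rw [Subgroup.index_eq_one.1 h2]; exact Subgroup.mem_top x
    exact Subgroup.mem_centralizer_iff.1 h3 y (Set.mem_singleton y)
  · refine ⟨Group.nilpotencyClass G, lowerCentralSeries_nilpotencyClass, fun _ => ?_,
      fun h => absurd h hb0⟩
    have h1 := main_ineq hG b hb0 hb
    refine ⟨h1, ?_⟩
    by_contra hlt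
    push Not at hlt
    have hp : 2 ≤ p := (Fact.out : p.Prime).two_le
    obtain ⟨c', hc'⟩ : ∃ c', Group.nilpotencyClass G - 1 = c' := ⟨_, rfl⟩
    obtain ⟨p', hp'⟩ : ∃ p', p = p' + 1 := ⟨p - 1, by omega⟩
    rw [hc', hp'] at h1
    simp only [Nat.add_sub_cancel] at h1
    have h2 : 2 * b ≤ c' := by omega
    have h3 : 1 ≤ p' := by omega
    nlinarith [Nat.mul_le_mul h2 h3, Nat.mul_le_mul_left b h3]

end Cfsg.Agent.Lead.Breadth
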