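import Mathlib

set_option autoImplicit false

namespace Cfsg.Agent.Lead.Brick

open Matrix

section general

theorem quot_center {G H : Type*} [Group G] [Group H] (ψ : H →* G)
    (h1 : ∀ h, ψ h ∈ Subgroup.center G → h = 1)
    (h2 : ∀ g, (∀ h, ∃ c ∈ Subgroup.center G, g * ψ h = c * (ψ h * g)) →
      g ∈ Subgroup.center G) :
    Function.Injective ((QuotientGroup.mk' (Subgroup.center G)).comp ψ) ∧
    Subgroup.centralizer
      (((QuotientGroup.mk' (Subgroup.center G)).comp ψ).range : Set (G ⧸ Subgroup.center G))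
        = ⊥ := by
  constructor
  · rw [injective_iff_map_eq_one]
    intro h hh
    apply h1
    exact (QuotientGroup.eq_one_iff _).1 hh
  · rw [eq_bot_iff]
    intro x hx
    obtain ⟨g, rfl⟩ := QuotientGroup.mk_surjective x
    rw [Subgroup.mem_bot, QuotientGroup.eq_one_iff]
    apply h2
    intro h
    have h3 := hx _ ⟨h, rfl⟩
    have h4 : ((g * ψ h : G) : G ⧸ Subgroup.center G) = ((ψ h * g : G) : G ⧸ Subgroup.center G) := by
      simpa using h3.symm
    rw [QuotientGroup.eq_iff_div_mem] at h4
    refine ⟨_, h4, ?_⟩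
    rw [div_eq_mul_inv, inv_mul_cancel_right]

/-- Reindexing isomorphism of special linear groups. -/
def slReindex {ι ι' R : Type*} [Fintype ι] [DecidableEq ι] [Fintype ι'] [DecidableEq ι']
    [CommRing R] (e : ι ≃ ι') : SpecialLinearGroup ι R ≃* SpecialLinearGroup ι' R where
  toFun A := ⟨Matrix.reindex e e A.1, by rw [Matrix.det_reindex_self]; exact A.2⟩
  invFun A := ⟨Matrix.reindex e.symm e.symm A.1, by rw [Matrix.det_reindex_self]; exact A.2⟩
  left_inv A := by
    apply Subtype.ext
    simp
  right_inv A := by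
    apply Subtype.ext
    simp
  map_mul' A B := by
    apply Subtype.ext
    show Matrix.reindex e e (A.1 * B.1) = Matrix.reindex e e A.1 * Matrix.reindex e e B.1
    simp only [Matrix.reindex_apply]
    rw [Matrix.submatrix_mul_equiv]

theorem transfer {G G' H : Type*} [Group G] [Group G'] [Group H] (E : G ≃* G') (ψ : H →* G)
    (h1 : ∀ h, ψ h ∈ Subgroup.center G → h = 1)
    (h2 : ∀ g, (∀ h, ∃ c ∈ Subgroup.center G, g * ψ h = c * (ψ h * g)) →
      g ∈ Subgroup.center G) :
    (∀ h, (E.toMonoidHom.comp ψ) h ∈ Subgroup.center G' → h = 1) ∧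
    (∀ g, (∀ h, ∃ c ∈ Subgroup.center G', g * (E.toMonoidHom.comp ψ) h
        = c * ((E.toMonoidHom.comp ψ) h * g)) → g ∈ Subgroup.center G') := by
  have key : ∀ x : G, E x ∈ Subgroup.center G' ↔ x ∈ Subgroup.center G := fun x =>
    MulEquivClass.apply_mem_center_iff E
  constructor
  · intro h hh
    apply h1
    exact (key _).1 hh
  · intro g hg
    obtain ⟨g0, rfl⟩ := E.surjective g
    rw [key]
    apply h2
    intro h
    obtain ⟨c, hc, hceq⟩ := hg h
    obtain ⟨c0, rfl⟩ := E.surjective c
    refine ⟨c0, (key _).1 hc, ?_⟩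
    apply E.injective
    simpa using hceq

end general

end Cfsg.Agent.Lead.Brick
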