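import Mathlib
import Cfsg.Agent.Lead.BrickA

set_option autoImplicit false

namespace Cfsg.Agent.Lead.Brick

open Matrix

/-- The group `(ZMod p)^3 ⋊ {±1}` (generalised dihedral). -/
@[ext] structure Hgrp (p : ℕ) where
  v : Fin 3 → ZMod p
  e : ℤˣ

/-- sign as a scalar -/
def sc (p : ℕ) (ε : ℤˣ) : ZMod p := ((ε : ℤ) : ZMod p)

theorem sc_one (p : ℕ) : sc p 1 = 1 := by simp [sc]

theorem sc_mul (p : ℕ) (a b : ℤˣ) : sc p (a * b) = sc p a * sc p b := by simp [sc]

theorem sc_neg_one (p : ℕ) : sc p (-1) = -1 := by simp [sc]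

theorem sc_inv_mul (p : ℕ) (a : ℤˣ) : sc p a⁻¹ * sc p a = 1 := by
  rw [← sc_mul, inv_mul_cancel, sc_one]

namespace Hgrp

variable {p : ℕ}

instance : Mul (Hgrp p) := ⟨fun a b => ⟨a.v + sc p a.e • b.v, a.e * b.e⟩⟩
instance : One (Hgrp p) := ⟨⟨0, 1⟩⟩
instance : Inv (Hgrp p) := ⟨fun a => ⟨- (sc p a.e⁻¹ • a.v), a.e⁻¹⟩⟩

@[simp] theorem mul_v (a b : Hgrp p) : (a * b).v = a.v + sc p a.e • b.v := rfl
@[simp] theorem mul_e (a b : Hgrp p) : (a * b).e = a.e * b.e := rfl
@[simp] theorem one_v : (1 : Hgrp p).v = 0 := rfl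
@[simp] theorem one_e : (1 : Hgrp p).e = 1 := rfl
@[simp] theorem inv_v (a : Hgrp p) : (a⁻¹).v = - (sc p a.e⁻¹ • a.v) := rfl
@[simp] theorem inv_e (a : Hgrp p) : (a⁻¹).e = a.e⁻¹ := rfl

instance : Group (Hgrp p) where
  mul_assoc a b c := by
    apply Hgrp.ext
    · simp only [mul_v, mul_e, sc_mul, smul_add, mul_smul, add_assoc]
    · simp only [mul_e, mul_assoc]
  one_mul a := by
    apply Hgrp.ext
    · simp [sc_one]
    · simp
  mul_one a := by
    apply Hgrp.ext
    · simp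
    · simp
  inv_mul_cancel a := by
    apply Hgrp.ext
    · simp
    · simp

/-- underlying product -/
def equivProd : Hgrp p ≃ (Fin 3 → ZMod p) × ℤˣ where
  toFun a := (a.v, a.e)
  invFun x := ⟨x.1, x.2⟩
  left_inv _ := rfl
  right_inv _ := rfl

instance [NeZero p] : Finite (Hgrp p) := Finite.of_equiv _ equivProd.symm

theorem card_eq [NeZero p] : Nat.card (Hgrp p) = 2 * p ^ 3 := by
  rw [Nat.card_congr equivProd, Nat.card_prod, Nat.card_fun, Nat.card_zmod]
  simp [Nat.card_eq_fintype_card, mul_comm]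

end Hgrp

section mats

variable (p : ℕ) [Fact p.Prime] (m : ℕ)

/-- inclusion -/
def X : Matrix (Fin (m + 1)) (Fin m) (ZMod p) :=
  Matrix.of fun i j => if i = Fin.castSucc j then 1 else 0

/-- shift -/
def Y : Matrix (Fin (m + 1)) (Fin m) (ZMod p) :=
  Matrix.of fun i j => if i = Fin.succ j then 1 else 0

/-- an extra independent map -/
def Z : Matrix (Fin (m + 1)) (Fin m) (ZMod p) :=
  Matrix.of fun i j => if j.val = 0 ∧ i.val = 2 then 1 else 0

/-- linear combination -/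
def N (v : Fin 3 → ZMod p) : Matrix (Fin (m + 1)) (Fin m) (ZMod p) :=
  v 0 • X p m + v 1 • Y p m + v 2 • Z p m

theorem N_add (v w : Fin 3 → ZMod p) : N p m (v + w) = N p m v + N p m w := by
  simp only [N, Pi.add_apply, add_smul]
  abel

theorem N_smul (c : ZMod p) (v : Fin 3 → ZMod p) : N p m (c • v) = c • N p m v := by
  simp only [N, Pi.smul_apply, smul_eq_mul, smul_add, mul_smul]

theorem N_zero : N p m 0 = 0 := by
  simp [N]

/-- unipotent part -/
def U (v : Fin 3 → ZMod p) : Matrix (Fin m ⊕ Fin (m + 1)) (Fin m ⊕ Fin (m + 1)) (ZMod p) :=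
  fromBlocks 1 0 (N p m v) 1

/-- sign part -/
def T (ε : ℤˣ) : Matrix (Fin m ⊕ Fin (m + 1)) (Fin m ⊕ Fin (m + 1)) (ZMod p) :=
  fromBlocks 1 0 0 (sc p ε • 1)

theorem U_zero : U p m 0 = 1 := by
  simp [U, N_zero, fromBlocks_one]

theorem T_one : T p m 1 = 1 := by
  simp [T, sc_one, fromBlocks_one]

theorem U_mul (v w : Fin 3 → ZMod p) : U p m v * U p m w = U p m (v + w) := by
  simp [U, fromBlocks_multiply, N_add, add_comm]

theorem T_mul (a b : ℤˣ) : T p m a * T p m b = T p m (a * b) := by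
  simp [T, fromBlocks_multiply, sc_mul, smul_smul, mul_comm]

theorem T_U (ε : ℤˣ) (w : Fin 3 → ZMod p) :
    T p m ε * U p m w = U p m (sc p ε • w) * T p m ε := by
  simp [T, U, fromBlocks_multiply, N_smul]

theorem det_U (v : Fin 3 → ZMod p) : (U p m v).det = 1 := by
  simp [U, det_fromBlocks_zero₁₂]

theorem det_T (hm : Even (m + 1)) (ε : ℤˣ) : (T p m ε).det = 1 := by
  rcases Int.units_eq_one_or ε with h | h
  · subst h
    simp [T_one]
  · subst h
    simp only [T, sc_neg_one, neg_smul, one_smul]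
    rw [det_fromBlocks_zero₁₂, det_one, one_mul, det_neg, det_one, mul_one, Fintype.card_fin,
      hm.neg_one_pow]

/-- the representation -/
def psi (hm : Even (m + 1)) :
    Hgrp p →* SpecialLinearGroup (Fin m ⊕ Fin (m + 1)) (ZMod p) where
  toFun a := ⟨U p m a.v * T p m a.e, by rw [det_mul, det_U, det_T p m hm, one_mul]⟩
  map_one' := by
    apply Subtype.ext
    simp [U_zero, T_one]
  map_mul' a b := by
    apply Subtype.ext
    show U p m (a * b).v * T p m (a * b).e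
      = (U p m a.v * T p m a.e) * (U p m b.v * T p m b.e)
    rw [Hgrp.mul_v, Hgrp.mul_e, ← U_mul, ← T_mul]
    rw [Matrix.mul_assoc (U p m a.v) (T p m a.e), ← Matrix.mul_assoc (T p m a.e), T_U]
    simp only [Matrix.mul_assoc]

theorem psi_coe (hm : Even (m + 1)) (a : Hgrp p) :
    ((psi p m hm a : SpecialLinearGroup (Fin m ⊕ Fin (m + 1)) (ZMod p)) :
      Matrix (Fin m ⊕ Fin (m + 1)) (Fin m ⊕ Fin (m + 1)) (ZMod p))
      = fromBlocks 1 0 (N p m a.v) (sc p a.e • 1) := by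
  show U p m a.v * T p m a.e = _
  simp [U, T, fromBlocks_multiply]

end mats

end Cfsg.Agent.Lead.Brick
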