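import Mathlib
import Cfsg.Agent.Lead.BrickB

set_option autoImplicit false

namespace Cfsg.Agent.Lead.Brick

open Matrix

theorem toeplitz {R : Type*} [Zero R] (m : ℕ) (d : ℕ → ℕ → R)
    (hT : ∀ x y, x < m → y < m → d (x + 1) (y + 1) = d x y)
    (hlast : ∀ y, y < m → d m y = 0)
    (hfirst : ∀ y, y < m → d 0 (y + 1) = 0) :
    ∀ x y, x ≤ m → y ≤ m → d x y = if x = y then d 0 0 else 0 := by
  have hlt : ∀ x y, x < y → y ≤ m → d x y = 0 := by
    intro x
    induction x with
    | zero =>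
      intro y hxy hy
      obtain ⟨y', rfl⟩ : ∃ y', y = y' + 1 := ⟨y - 1, by omega⟩
      exact hfirst y' (by omega)
    | succ x ih =>
      intro y hxy hy
      obtain ⟨y', rfl⟩ : ∃ y', y = y' + 1 := ⟨y - 1, by omega⟩
      rw [hT x y' (by omega) (by omega)]
      exact ih y' (by omega) (by omega)
  have hgt : ∀ k x y, m - x = k → y < x → x ≤ m → d x y = 0 := by
    intro k
    induction k with
    | zero =>
      intro x y hk hyx hx
      have : x = m := by omega
      subst this
      exact hlast y hyx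
    | succ k ih =>
      intro x y hk hyx hx
      rw [← hT x y (by omega) (by omega)]
      exact ih (x + 1) (y + 1) (by omega) (by omega) (by omega)
  have hdiag : ∀ x, x ≤ m → d x x = d 0 0 := by
    intro x
    induction x with
    | zero => intro _; rfl
    | succ x ih =>
      intro hx
      rw [hT x x (by omega) (by omega)]
      exact ih (by omega)
  intro x y hx hy
  split_ifs with h
  · subst h
    exact hdiag x hx
  · rcases lt_or_gt_of_ne h with h1 | h1
    · exact hlt x y h1 hy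
    · exact hgt (m - x) x y rfl h1 hx

section mats

variable (p : ℕ) [Fact p.Prime] (m : ℕ)

theorem mul_X (D : Matrix (Fin (m + 1)) (Fin (m + 1)) (ZMod p)) (i : Fin (m + 1)) (j : Fin m) :
    (D * X p m) i j = D i (Fin.castSucc j) := by
  simp [Matrix.mul_apply, X]

theorem mul_Y (D : Matrix (Fin (m + 1)) (Fin (m + 1)) (ZMod p)) (i : Fin (m + 1)) (j : Fin m) :
    (D * Y p m) i j = D i (Fin.succ j) := by
  simp [Matrix.mul_apply, Y]

theorem X_mul_castSucc (A : Matrix (Fin m) (Fin m) (ZMod p)) (k j : Fin m) :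
    (X p m * A) (Fin.castSucc k) j = A k j := by
  simp [Matrix.mul_apply, X, Fin.castSucc_inj]

theorem X_mul_last (A : Matrix (Fin m) (Fin m) (ZMod p)) (j : Fin m) :
    (X p m * A) (Fin.last m) j = 0 := by
  simp only [Matrix.mul_apply, X, Matrix.of_apply]
  apply Finset.sum_eq_zero
  intro k _
  rw [if_neg, zero_mul]
  exact (Fin.castSucc_lt_last k).ne'

theorem Y_mul_succ (A : Matrix (Fin m) (Fin m) (ZMod p)) (k j : Fin m) :
    (Y p m * A) (Fin.succ k) j = A k j := by
  simp [Matrix.mul_apply, Y, Fin.succ_inj]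

theorem Y_mul_zero (A : Matrix (Fin m) (Fin m) (ZMod p)) (j : Fin m) :
    (Y p m * A) 0 j = 0 := by
  simp only [Matrix.mul_apply, Y, Matrix.of_apply]
  apply Finset.sum_eq_zero
  intro k _
  rw [if_neg, zero_mul]
  exact (Fin.succ_ne_zero k).symm

/-- The Kronecker module is a brick. -/
theorem brick (hm : 1 ≤ m) (A : Matrix (Fin m) (Fin m) (ZMod p))
    (D : Matrix (Fin (m + 1)) (Fin (m + 1)) (ZMod p))
    (hX : D * X p m = X p m * A) (hY : D * Y p m = Y p m * A) :
    ∃ a : ZMod p, A = a • 1 ∧ D = a • 1 := by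
  have e1 : ∀ k j : Fin m, D (Fin.castSucc k) (Fin.castSucc j) = A k j := by
    intro k j
    rw [← mul_X p m D, hX, X_mul_castSucc]
  have e2 : ∀ j : Fin m, D (Fin.last m) (Fin.castSucc j) = 0 := by
    intro j
    rw [← mul_X p m D, hX, X_mul_last]
  have e3 : ∀ k j : Fin m, D (Fin.succ k) (Fin.succ j) = A k j := by
    intro k j
    rw [← mul_Y p m D, hY, Y_mul_succ]
  have e4 : ∀ j : Fin m, D 0 (Fin.succ j) = 0 := by
    intro j
    rw [← mul_Y p m D, hY, Y_mul_zero]
  obtain ⟨d, hd⟩ : ∃ d : ℕ → ℕ → ZMod p, d = fun x y =>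
    if h : x < m + 1 then (if h' : y < m + 1 then D ⟨x, h⟩ ⟨y, h'⟩ else 0) else 0 := ⟨_, rfl⟩
  have hdD : ∀ i j : Fin (m + 1), d i.val j.val = D i j := by
    intro i j
    rw [hd]
    simp [i.isLt, j.isLt]
  have key := toeplitz m d
    (by
      intro x y hx hy
      have h1 := hdD (Fin.succ ⟨x, hx⟩) (Fin.succ ⟨y, hy⟩)
      have h2 := hdD (Fin.castSucc ⟨x, hx⟩) (Fin.castSucc ⟨y, hy⟩)
      simp only [Fin.val_succ, Fin.val_castSucc] at h1 h2
      rw [h1, h2, e1, e3])
    (by
      intro y hy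
      have h1 := hdD (Fin.last m) (Fin.castSucc ⟨y, hy⟩)
      simp only [Fin.val_last, Fin.val_castSucc] at h1
      rw [h1, e2])
    (by
      intro y hy
      have h1 := hdD 0 (Fin.succ ⟨y, hy⟩)
      simp only [Fin.val_zero, Fin.val_succ] at h1
      rw [h1, e4])
  refine ⟨d 0 0, ?_, ?_⟩
  · ext k j
    rw [← e1, ← hdD, key _ _ (by simp only [Fin.val_castSucc]; omega) (by simp only [Fin.val_castSucc]; omega)]
    simp [Matrix.one_apply, Fin.ext_iff]
  · ext k j
    rw [← hdD, key _ _ (by omega) (by omega)]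
    simp [Matrix.one_apply, Fin.ext_iff]

theorem N_single0 : N p m (Pi.single 0 1) = X p m := by
  simp [N]

theorem N_single1 : N p m (Pi.single 1 1) = Y p m := by
  simp [N]

theorem two_ne_zero' (hp : p ≠ 2) : (2 : ZMod p) ≠ 0 := by
  intro h
  have h2 : ((2 : ℕ) : ZMod p) = 0 := by exact_mod_cast h
  rw [ZMod.natCast_eq_zero_iff] at h2
  have := Nat.le_of_dvd (by norm_num) h2
  have := (Fact.out : p.Prime).two_le
  omega

theorem sc_eq_one (hp : p ≠ 2) (ε : ℤˣ) (h : sc p ε = 1) : ε = 1 := by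
  rcases Int.units_eq_one_or ε with h1 | h1
  · exact h1
  · subst h1
    exfalso
    rw [sc_neg_one] at h
    apply two_ne_zero' p hp
    linear_combination -h

/-- faithfulness modulo scalars -/
theorem faithful (hp : p ≠ 2) (hm2 : 2 ≤ m) (hm : Even (m + 1)) (a : Hgrp p)
    (ha : psi p m hm a ∈ Subgroup.center (SpecialLinearGroup (Fin m ⊕ Fin (m + 1)) (ZMod p))) :
    a = 1 := by
  rw [Matrix.SpecialLinearGroup.mem_center_iff] at ha
  obtain ⟨r, -, hr⟩ := ha
  rw [psi_coe] at hr
  have h00 := congr_fun₂ hr (Sum.inl ⟨0, by omega⟩) (Sum.inl ⟨0, by omega⟩)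
  have hN : ∀ (i : Fin (m + 1)) (j : Fin m), N p m a.v i j = 0 := by
    intro i j
    have := congr_fun₂ hr (Sum.inr i) (Sum.inl j)
    simpa using this.symm
  have h11 := congr_fun₂ hr (Sum.inr 0) (Sum.inr 0)
  simp at h00 h11
  have hsc : sc p a.e = 1 := by rw [← h11, h00]
  have he := sc_eq_one p hp _ hsc
  have h0 := hN ⟨0, by omega⟩ ⟨0, by omega⟩
  have h1 := hN ⟨1, by omega⟩ ⟨0, by omega⟩
  have h2 := hN ⟨2, by omega⟩ ⟨0, by omega⟩
  simp [N, X, Y, Z, Fin.ext_iff] at h0 h1 h2
  apply Hgrp.ext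
  · funext i
    fin_cases i
    · simpa using h0
    · simpa using h1
    · simpa using h2
  · exact he

end mats

end Cfsg.Agent.Lead.Brick
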