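import Mathlib
import Cfsg.Agent.Lead.BrickC

set_option autoImplicit false

namespace Cfsg.Agent.Lead.Brick

open Matrix

section mats

variable (p : ℕ) [Fact p.Prime] (m : ℕ)

theorem central_eq_one (hp : p ≠ 2) (hm : Even (m + 1))
    (g c : SpecialLinearGroup (Fin m ⊕ Fin (m + 1)) (ZMod p)) (a : Hgrp p)
    (hc : c ∈ Subgroup.center (SpecialLinearGroup (Fin m ⊕ Fin (m + 1)) (ZMod p)))
    (h : g * psi p m hm a = c * (psi p m hm a * g)) : c = 1 := by
  have hK : a ^ (2 * p ^ 3) = 1 := by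
    rw [← Hgrp.card_eq]
    exact pow_card_eq_one'
  have hcomm : Commute c (psi p m hm a) := (Subgroup.mem_center_iff.1 hc (psi p m hm a)).symm
  have h1 : g * psi p m hm a * g⁻¹ = c * psi p m hm a := by
    rw [h]
    group
  have h2 : (c * psi p m hm a) ^ (2 * p ^ 3) = 1 := by
    rw [← h1, conj_pow, ← map_pow, hK, map_one]
    group
  rw [hcomm.mul_pow, ← map_pow, hK, map_one, mul_one] at h2
  obtain ⟨r, hr1, hr2⟩ := Matrix.SpecialLinearGroup.mem_center_iff.1 hc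
  have h3 : (c : Matrix (Fin m ⊕ Fin (m + 1)) (Fin m ⊕ Fin (m + 1)) (ZMod p)) ^ (2 * p ^ 3)
      = 1 := by
    have := congrArg (fun x : SpecialLinearGroup (Fin m ⊕ Fin (m + 1)) (ZMod p) =>
      (x : Matrix (Fin m ⊕ Fin (m + 1)) (Fin m ⊕ Fin (m + 1)) (ZMod p))) h2
    simpa using this
  rw [← hr2, ← map_pow] at h3
  have h4 := congr_fun₂ h3 (Sum.inr 0) (Sum.inr 0)
  simp only [Matrix.scalar_apply, Matrix.diagonal_apply_eq, Matrix.one_apply_eq] at h4
  have h5 : r ^ 2 = 1 := by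
    rw [← h4, mul_comm 2, pow_mul, ZMod.pow_card_pow]
  have h6 : r = 1 := by
    have : Fintype.card (Fin m ⊕ Fin (m + 1)) = m + (m + 1) := by simp
    rw [this] at hr1
    have h7 : r ^ (m + (m + 1)) = (r ^ 2) ^ m * r := by ring
    rw [h7, h5, one_pow, one_mul] at hr1
    exact hr1
  apply Subtype.ext
  rw [← hr2, h6]
  simp

theorem centralizer_trivial (hp : p ≠ 2) (hm2 : 2 ≤ m) (hm : Even (m + 1))
    (g : SpecialLinearGroup (Fin m ⊕ Fin (m + 1)) (ZMod p))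
    (hg : ∀ a : Hgrp p,
      ∃ c ∈ Subgroup.center (SpecialLinearGroup (Fin m ⊕ Fin (m + 1)) (ZMod p)),
        g * psi p m hm a = c * (psi p m hm a * g)) :
    g ∈ Subgroup.center (SpecialLinearGroup (Fin m ⊕ Fin (m + 1)) (ZMod p)) := by
  have hcomm : ∀ a, g * psi p m hm a = psi p m hm a * g := by
    intro a
    obtain ⟨c, hc, h⟩ := hg a
    rw [central_eq_one p m hp hm g c a hc h, one_mul] at h
    exact h
  have hM : ∀ a : Hgrp p,
      (g : Matrix (Fin m ⊕ Fin (m + 1)) (Fin m ⊕ Fin (m + 1)) (ZMod p))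
        * fromBlocks 1 0 (N p m a.v) (sc p a.e • 1)
      = fromBlocks 1 0 (N p m a.v) (sc p a.e • 1)
        * (g : Matrix (Fin m ⊕ Fin (m + 1)) (Fin m ⊕ Fin (m + 1)) (ZMod p)) := by
    intro a
    have h' : ((g * psi p m hm a : SpecialLinearGroup (Fin m ⊕ Fin (m + 1)) (ZMod p)) :
        Matrix (Fin m ⊕ Fin (m + 1)) (Fin m ⊕ Fin (m + 1)) (ZMod p))
        = ((psi p m hm a * g : SpecialLinearGroup (Fin m ⊕ Fin (m + 1)) (ZMod p)) :
        Matrix (Fin m ⊕ Fin (m + 1)) (Fin m ⊕ Fin (m + 1)) (ZMod p)) := by rw [hcomm a]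
    rw [Matrix.SpecialLinearGroup.coe_mul, Matrix.SpecialLinearGroup.coe_mul, psi_coe] at h'
    exact h'
  obtain ⟨A, B, C, D, hABCD⟩ : ∃ A B C D,
      (g : Matrix (Fin m ⊕ Fin (m + 1)) (Fin m ⊕ Fin (m + 1)) (ZMod p)) = fromBlocks A B C D :=
    ⟨_, _, _, _, (fromBlocks_toBlocks _).symm⟩
  have h2 := two_ne_zero' p hp
  have ht := hM ⟨0, -1⟩
  rw [hABCD] at ht
  simp only [N_zero, sc_neg_one, fromBlocks_multiply, neg_smul, one_smul, Matrix.mul_one,
    Matrix.mul_zero, Matrix.zero_mul, Matrix.one_mul, add_zero, zero_add, Matrix.mul_neg,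
    Matrix.neg_mul, fromBlocks_inj] at ht
  obtain ⟨-, hB, hC, -⟩ := ht
  have hB0 : B = 0 := by
    ext i j
    have := congr_fun₂ hB i j
    simp only [Matrix.neg_apply, Matrix.zero_apply] at this ⊢
    have h3 : (2 : ZMod p) * B i j = 0 := by linear_combination -this
    exact (mul_eq_zero.1 h3).resolve_left h2
  have hC0 : C = 0 := by
    ext i j
    have := congr_fun₂ hC i j
    simp only [Matrix.neg_apply, Matrix.zero_apply] at this ⊢
    have h3 : (2 : ZMod p) * C i j = 0 := by linear_combination this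
    exact (mul_eq_zero.1 h3).resolve_left h2
  subst hB0 hC0
  have hN : ∀ v : Fin 3 → ZMod p, D * N p m v = N p m v * A := by
    intro v
    have hv := hM ⟨v, 1⟩
    rw [hABCD] at hv
    simp only [sc_one, fromBlocks_multiply, one_smul, Matrix.mul_one,
      Matrix.mul_zero, Matrix.zero_mul, Matrix.one_mul, add_zero, zero_add,
      fromBlocks_inj] at hv
    exact hv.2.2.1
  have hX := hN (Pi.single 0 1)
  have hY := hN (Pi.single 1 1)
  rw [N_single0] at hX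
  rw [N_single1] at hY
  obtain ⟨a, hA, hD⟩ := brick p m (by omega) A D hX hY
  have hg1 : (g : Matrix (Fin m ⊕ Fin (m + 1)) (Fin m ⊕ Fin (m + 1)) (ZMod p)) = a • 1 := by
    rw [hABCD, hA, hD, ← fromBlocks_one, fromBlocks_smul]
    simp
  rw [Subgroup.mem_center_iff]
  intro x
  apply Subtype.ext
  show (x : Matrix (Fin m ⊕ Fin (m + 1)) (Fin m ⊕ Fin (m + 1)) (ZMod p))
      * (g : Matrix (Fin m ⊕ Fin (m + 1)) (Fin m ⊕ Fin (m + 1)) (ZMod p))
    = (g : Matrix (Fin m ⊕ Fin (m + 1)) (Fin m ⊕ Fin (m + 1)) (ZMod p))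
      * (x : Matrix (Fin m ⊕ Fin (m + 1)) (Fin m ⊕ Fin (m + 1)) (ZMod p))
  rw [hg1]
  simp

end mats

theorem main (p : ℕ) [Fact p.Prime] (hp : p ≠ 2) :
    ∃ (H : Type) (_ : Group H) (_ : Finite H), Nat.card H = 2 * p ^ 3 ∧
      ∀ N : ℕ, ∃ n, N ≤ n ∧ ∃ φ : H →* Matrix.ProjectiveSpecialLinearGroup (Fin n) (ZMod p),
        Function.Injective φ ∧ Subgroup.centralizer (φ.range :
          Set (Matrix.ProjectiveSpecialLinearGroup (Fin n) (ZMod p))) = ⊥ := by
  refine ⟨Hgrp p, inferInstance, inferInstance, Hgrp.card_eq, fun N => ?_⟩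
  obtain ⟨m, hm⟩ : ∃ m, m = 2 * N + 3 := ⟨_, rfl⟩
  have hmE : Even (m + 1) := ⟨N + 2, by omega⟩
  have hm2 : 2 ≤ m := by omega
  obtain ⟨t1, t2⟩ := transfer
    (slReindex (R := ZMod p) (finSumFinEquiv : Fin m ⊕ Fin (m + 1) ≃ Fin (m + (m + 1))))
    (psi p m hmE) (faithful p m hp hm2 hmE) (centralizer_trivial p m hp hm2 hmE)
  exact ⟨m + (m + 1), by omega, _, quot_center _ t1 t2⟩

end Cfsg.Agent.Lead.Brick
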