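import Mathlib
import Cfsg.Agent.Helper4.ClassSize

set_option autoImplicit false

/-! Cossey--Hawkes--Mann, part a: transfer of element counts along equal class-size data. -/

namespace Cfsg.Agent.Lead.CHM

open Subgroup

/-- class size of an element -/
noncomputable def cs {L : Type*} [Group L] (x : L) : ℕ := Nat.card (ConjClasses.mk x).carrier

theorem cs_eq_index {L : Type*} [Group L] (x : L) :
    cs x = (centralizer ({x} : Set L)).index :=
  (Cfsg.Agent.Helper4.index_centralizer_eq_card_carrier x).symm

theorem cs_le_card {L : Type*} [Group L] [Finite L] (x : L) : cs x ≤ Nat.card L := by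
  rw [cs_eq_index]
  exact Nat.le_of_dvd Nat.card_pos (Subgroup.index_dvd_card _)

theorem card_fiber {L : Type*} [Group L] [Finite L] (k : ℕ) :
    Nat.card {x : L // cs x = k} =
      k * Nat.card {C : ConjClasses L // Nat.card C.carrier = k} := by
  classical
  let α := {x : L // cs x = k}
  let β := {C : ConjClasses L // Nat.card C.carrier = k}
  let f : α → β := fun x => ⟨ConjClasses.mk x.1, x.2⟩
  have e := Equiv.sigmaFiberEquiv f
  haveI : Fintype β := Fintype.ofFinite β
  have hfib : ∀ b : β, Nat.card {a : α // f a = b} = k := by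
    intro b
    have hb : Nat.card b.1.carrier = k := b.2
    rw [← hb]
    apply Nat.card_congr
    refine
      { toFun := fun a => ⟨a.1.1, ?_⟩
        invFun := fun y => ⟨⟨y.1, ?_⟩, ?_⟩
        left_inv := fun a => by apply Subtype.ext; apply Subtype.ext; rfl
        right_inv := fun y => by apply Subtype.ext; rfl }
    · have h1 : f a.1 = b := a.2
      have h2 : ConjClasses.mk a.1.1 = b.1 := congrArg Subtype.val h1
      exact ConjClasses.mem_carrier_iff_mk_eq.mpr h2
    · have h2 : ConjClasses.mk y.1 = b.1 := ConjClasses.mem_carrier_iff_mk_eq.mp y.2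
      show Nat.card (ConjClasses.mk y.1).carrier = k
      rw [h2]; exact hb
    · apply Subtype.ext
      exact ConjClasses.mem_carrier_iff_mk_eq.mp y.2
  calc Nat.card α = Nat.card (Σ b : β, {a : α // f a = b}) := (Nat.card_congr e).symm
    _ = ∑ b : β, Nat.card {a : α // f a = b} := Nat.card_sigma
    _ = ∑ _b : β, k := Finset.sum_congr rfl (fun b _ => hfib b)
    _ = k * Nat.card β := by
        rw [Finset.sum_const, Finset.card_univ, Nat.card_eq_fintype_card, smul_eq_mul, mul_comm]

theorem card_pred {L : Type*} [Group L] [Finite L] (φ : ℕ → Prop) [DecidablePred φ] (N : ℕ)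
    (hN : Nat.card L ≤ N) :
    Nat.card {x : L // φ (cs x)} =
      ∑ k ∈ (Finset.range (N + 1)).filter (fun k => φ k) ,
        k * Nat.card {C : ConjClasses L // Nat.card C.carrier = k} := by
  haveI : Fintype L := Fintype.ofFinite L
  haveI : DecidableEq L := Classical.decEq L
  have h1 : Nat.card {x : L // φ (cs x)} = (Finset.univ.filter (fun x : L => φ (cs x))).card := by
    rw [Nat.card_eq_fintype_card, Fintype.card_subtype]
  rw [h1]
  have hmaps : Set.MapsTo (fun x : L => cs x) (Finset.univ.filter (fun x : L => φ (cs x)))
      ((Finset.range (N + 1)).filter (fun k => φ k)) := by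
    intro x hx
    have hx' : φ (cs x) := by simpa using hx
    simp only [Finset.coe_filter, Finset.mem_range, Set.mem_ofPred_eq]
    exact ⟨Nat.lt_succ_of_le ((cs_le_card x).trans hN), hx'⟩
  rw [Finset.card_eq_sum_card_fiberwise hmaps]
  apply Finset.sum_congr rfl
  intro k hk
  have hk' : φ k := (Finset.mem_filter.mp hk).2
  rw [← card_fiber k, Nat.card_eq_fintype_card, Fintype.card_subtype]
  congr 1
  ext x
  simp only [Finset.mem_filter, Finset.mem_univ, true_and]
  constructor
  · rintro ⟨_, h⟩; exact h
  · intro h; exact ⟨by rw [h]; exact hk', h⟩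

/-- Transfer: equal class-size data gives equal counts of elements with class size in any set. -/
theorem transfer {G H : Type*} [Group G] [Finite G] [Group H] [Finite H]
    (h : ∀ k : ℕ, Nat.card {C : ConjClasses G // Nat.card C.carrier = k} =
      Nat.card {C : ConjClasses H // Nat.card C.carrier = k}) (φ : ℕ → Prop) :
    Nat.card {x : G // φ (cs x)} = Nat.card {x : H // φ (cs x)} := by
  classical
  rw [card_pred φ (max (Nat.card G) (Nat.card H)) (le_max_left _ _),
    card_pred φ (max (Nat.card G) (Nat.card H)) (le_max_right _ _)]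
  apply Finset.sum_congr rfl
  intro k _
  rw [h k]

theorem card_eq_of_classData {G H : Type*} [Group G] [Finite G] [Group H] [Finite H]
    (h : ∀ k : ℕ, Nat.card {C : ConjClasses G // Nat.card C.carrier = k} =
      Nat.card {C : ConjClasses H // Nat.card C.carrier = k}) :
    Nat.card G = Nat.card H := by
  have := transfer h (fun _ => True)
  rw [Nat.card_congr (Equiv.subtypeUnivEquiv (fun _ => trivial)),
    Nat.card_congr (Equiv.subtypeUnivEquiv (fun _ => trivial))] at this
  exact this

theorem cs_eq_one_iff {L : Type*} [Group L] (x : L) : cs x = 1 ↔ x ∈ center L := by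
  rw [cs_eq_index, Subgroup.index_eq_one]
  constructor
  · intro h
    rw [Subgroup.mem_center_iff]
    intro g
    have hg : g ∈ centralizer ({x} : Set L) := by rw [h]; exact Subgroup.mem_top g
    rw [Subgroup.mem_centralizer_iff] at hg
    exact (hg x rfl).symm
  · intro h
    rw [eq_top_iff]
    intro g _
    rw [Subgroup.mem_centralizer_iff]
    intro y hy
    rw [Set.mem_singleton_iff] at hy
    subst hy
    exact (Subgroup.mem_center_iff.mp h g).symm

theorem card_center_eq_of_classData {G H : Type*} [Group G] [Finite G] [Group H] [Finite H]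
    (h : ∀ k : ℕ, Nat.card {C : ConjClasses G // Nat.card C.carrier = k} =
      Nat.card {C : ConjClasses H // Nat.card C.carrier = k}) :
    Nat.card (center G) = Nat.card (center H) := by
  have := transfer h (fun k => k = 1)
  rw [Nat.card_congr (Equiv.subtypeEquivRight (fun x : G => cs_eq_one_iff x)),
    Nat.card_congr (Equiv.subtypeEquivRight (fun x : H => cs_eq_one_iff x))] at this
  exact this

end Cfsg.Agent.Lead.CHM
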