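import Mathlib
import Cfsg.Agent.Lead.CHMa

set_option autoImplicit false

/-! Cossey--Hawkes--Mann, part b: elements of class size coprime to `p`; the nilpotent side. -/

namespace Cfsg.Agent.Lead.CHM

open Subgroup

variable {L : Type*} [Group L]

theorem le_centralizer_singleton_iff (Q : Subgroup L) (x : L) :
    Q ≤ centralizer ({x} : Set L) ↔ x ∈ centralizer (Q : Set L) := by
  constructor
  · intro h
    rw [Subgroup.mem_centralizer_iff]
    intro y hy
    have := h hy
    rw [Subgroup.mem_centralizer_iff] at this
    exact (this x rfl).symm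
  · intro h y hy
    rw [Subgroup.mem_centralizer_iff] at h ⊢
    intro z hz
    rw [Set.mem_singleton_iff] at hz
    subst hz
    exact (h y hy).symm

/-- An element has class size coprime to `p` iff it centralizes some Sylow `p`-subgroup. -/
theorem not_dvd_cs_iff [Finite L] (p : ℕ) [hp : Fact p.Prime] (x : L) :
    ¬ p ∣ cs x ↔ ∃ Q : Sylow p L, (Q : Subgroup L) ≤ centralizer ({x} : Set L) := by
  rw [cs_eq_index]
  constructor
  · intro hnd
    set C := centralizer ({x} : Set L) with hC
    have hmul : Nat.card C * C.index = Nat.card L := Subgroup.card_mul_index C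
    have hdvd : p ^ (Nat.card L).factorization p ∣ Nat.card C := by
      have h1 : p ^ (Nat.card L).factorization p ∣ Nat.card C * C.index := by
        rw [hmul]; exact Nat.ordProj_dvd _ _
      have hcop : Nat.Coprime (p ^ (Nat.card L).factorization p) C.index :=
        Nat.Coprime.pow_left _ ((Nat.Prime.coprime_iff_not_dvd hp.out).mpr hnd)
      exact hcop.dvd_of_dvd_mul_right h1
    obtain ⟨K, hK⟩ := Sylow.exists_subgroup_card_pow_prime p hdvd
    have hcard : Nat.card (K.map C.subtype) = p ^ (Nat.card L).factorization p := by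
      rw [Subgroup.card_map_of_injective C.subtype_injective, hK]
    refine ⟨Sylow.ofCard (K.map C.subtype) hcard, ?_⟩
    rw [Sylow.coe_ofCard]
    exact Subgroup.map_subtype_le K
  · rintro ⟨Q, hQ⟩ hdvd
    exact Q.not_dvd_index (hdvd.trans (Subgroup.index_dvd_of_le hQ))

theorem not_dvd_cs_iff' [Finite L] (p : ℕ) [hp : Fact p.Prime] (x : L) :
    ¬ p ∣ cs x ↔ ∃ Q : Sylow p L, x ∈ centralizer ((Q : Subgroup L) : Set L) := by
  rw [not_dvd_cs_iff]
  exact exists_congr (fun Q => le_centralizer_singleton_iff _ _)

/-- If a subgroup contains a Sylow `q`-subgroup for every prime `q`, it is everything. -/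
theorem eq_top_of_sylows_le [Finite L] (D : Subgroup L)
    (h : ∀ (q : ℕ) [Fact q.Prime], ∃ T : Sylow q L, (T : Subgroup L) ≤ D) : D = ⊤ := by
  apply Subgroup.eq_top_of_le_card
  apply Nat.le_of_dvd Nat.card_pos
  rw [Nat.dvd_iff_prime_pow_dvd_dvd]
  intro q k hq hk
  haveI : Fact q.Prime := ⟨hq⟩
  obtain ⟨T, hT⟩ := h q
  have h1 : q ^ k ∣ Nat.card T := T.pow_dvd_card_of_pow_dvd_card hk
  exact h1.trans (Subgroup.card_dvd_of_le hT)

section nilpotent

variable {H : Type*} [Group H] [Finite H]

omit [Finite H] in
theorem sylow_commute (hn : ∀ (q : ℕ) [Fact q.Prime] (T : Sylow q H), (T : Subgroup H).Normal)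
    {p q : ℕ} [Fact p.Prime] [Fact q.Prime] (hpq : p ≠ q) (S : Sylow p H) (T : Sylow q H)
    {x y : H} (hx : x ∈ S) (hy : y ∈ T) : x * y = y * x :=
  Subgroup.commute_of_normal_of_disjoint _ _ (hn p S) (hn q T)
    (IsPGroup.disjoint_of_ne p q hpq _ _ S.isPGroup' T.isPGroup') x y hx hy

theorem sylow_inf_centralizer_le_center
    (hn : ∀ (q : ℕ) [Fact q.Prime] (T : Sylow q H), (T : Subgroup H).Normal)
    {p : ℕ} [Fact p.Prime] (S : Sylow p H) :
    (S : Subgroup H) ⊓ centralizer ((S : Subgroup H) : Set H) ≤ center H := by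
  intro x hx
  obtain ⟨hxS, hxC⟩ := hx
  have hD : centralizer ({x} : Set H) = ⊤ := by
    apply eq_top_of_sylows_le
    intro q _
    by_cases hqp : q = p
    · subst hqp
      exact ⟨S, (le_centralizer_singleton_iff _ _).mpr hxC⟩
    · refine ⟨default, ?_⟩
      intro y hy
      rw [Subgroup.mem_centralizer_iff]
      intro z hz
      rw [Set.mem_singleton_iff] at hz
      subst hz
      exact sylow_commute hn (Ne.symm hqp) S default hxS hy
  rw [Subgroup.mem_center_iff]
  intro g
  have hg : g ∈ centralizer ({x} : Set H) := by rw [hD]; exact Subgroup.mem_top g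
  rw [Subgroup.mem_centralizer_iff] at hg
  exact (hg x rfl).symm

theorem card_centralizer_sylow
    (hn : ∀ (q : ℕ) [Fact q.Prime] (T : Sylow q H), (T : Subgroup H).Normal)
    {p : ℕ} [hp : Fact p.Prime] (S : Sylow p H) :
    Nat.card (centralizer ((S : Subgroup H) : Set H)) =
      ordProj[p] (Nat.card (center H)) * ordCompl[p] (Nat.card H) := by
  set C := centralizer ((S : Subgroup H) : Set H) with hC
  have hC0 : Nat.card C ≠ 0 := Nat.card_pos.ne'
  have hH0 : Nat.card H ≠ 0 := Nat.card_pos.ne'
  have hZ0 : Nat.card (center H) ≠ 0 := Nat.card_pos.ne'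
  have hb0 : ordProj[p] (Nat.card (center H)) * ordCompl[p] (Nat.card H) ≠ 0 := by
    apply Nat.mul_ne_zero
    · exact (Nat.ordProj_pos _ _).ne'
    · exact (Nat.ordCompl_pos _ hH0).ne'
  have hCH : Nat.card C ∣ Nat.card H := Subgroup.card_subgroup_dvd_card C
  have hZC : Nat.card (center H) ∣ Nat.card C :=
    Subgroup.card_dvd_of_le (Subgroup.center_le_centralizer _)
  apply Nat.eq_of_factorization_eq hC0 hb0
  intro q
  rw [Nat.factorization_mul (Nat.ordProj_pos _ _).ne' (Nat.ordCompl_pos _ hH0).ne',
    Nat.factorization_ordCompl, Nat.Prime.factorization_pow hp.out]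
  simp only [Finsupp.coe_add, Pi.add_apply]
  by_cases hq : q.Prime
  · haveI : Fact q.Prime := ⟨hq⟩
    by_cases hqp : q = p
    · subst hqp
      rw [Finsupp.single_eq_same, Finsupp.erase_same, add_zero]
      apply le_antisymm
      · -- a Sylow `q`-subgroup of `C` lies in `S ⊓ C ≤ Z(H)`
        obtain ⟨K, hK⟩ := Sylow.exists_subgroup_card_pow_prime q
          (Nat.ordProj_dvd (Nat.card C) q)
        have hcard : Nat.card (K.map C.subtype) = q ^ (Nat.card C).factorization q := by
          rw [Subgroup.card_map_of_injective C.subtype_injective, hK]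
        have hpg : IsPGroup q (K.map C.subtype) := IsPGroup.of_card hcard
        obtain ⟨Q, hQ⟩ := hpg.exists_le_sylow
        haveI : Unique (Sylow q H) := Sylow.unique_of_normal S (hn q S)
        have hQS : Q = S := Subsingleton.elim _ _
        have hle : K.map C.subtype ≤ center H := by
          refine le_trans (le_inf ?_ (Subgroup.map_subtype_le K))
            (sylow_inf_centralizer_le_center hn S)
          rw [← hQS]; exact hQ
        have hdvd : q ^ (Nat.card C).factorization q ∣ Nat.card (center H) := by
          rw [← hcard]; exact Subgroup.card_dvd_of_le hle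
        exact (hq.pow_dvd_iff_le_factorization hZ0).mp hdvd
      · exact (Nat.factorization_le_iff_dvd hZ0 hC0).mpr hZC q
    · rw [Finsupp.single_eq_of_ne (Ne.symm hqp |>.symm), Finsupp.erase_ne hqp, zero_add]
      apply le_antisymm
      · exact (Nat.factorization_le_iff_dvd hC0 hH0).mpr hCH q
      · have T : Sylow q H := default
        have hTC : (T : Subgroup H) ≤ C := by
          intro y hy
          rw [hC, Subgroup.mem_centralizer_iff]
          intro z hz
          exact sylow_commute hn (Ne.symm hqp) S T hz hy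
        have hdvd : q ^ (Nat.card H).factorization q ∣ Nat.card C := by
          rw [← T.card_eq_multiplicity]; exact Subgroup.card_dvd_of_le hTC
        exact (hq.pow_dvd_iff_le_factorization hC0).mp hdvd
  · rw [Nat.factorization_eq_zero_of_not_prime _ hq]
    have h1 : (Finsupp.single p ((Nat.card (center H)).factorization p)) q = 0 := by
      apply Finsupp.single_eq_of_ne
      rintro rfl
      exact hq hp.out
    have h2 : (Finsupp.erase p (Nat.card H).factorization) q = 0 := by
      rw [Finsupp.erase_ne (by rintro rfl; exact hq hp.out)]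
      exact Nat.factorization_eq_zero_of_not_prime _ hq
    rw [h1, h2]

/-- In a finite nilpotent group, the number of elements of class size coprime to `p`. -/
theorem nilpotent_count (hH : Group.IsNilpotent H) (p : ℕ) [hp : Fact p.Prime] :
    Nat.card {x : H // ¬ p ∣ cs x} =
      ordProj[p] (Nat.card (center H)) * ordCompl[p] (Nat.card H) := by
  have hn : ∀ (q : ℕ) [Fact q.Prime] (T : Sylow q H), (T : Subgroup H).Normal := by
    intro q hq T
    exact ((Group.isNilpotent_of_finite_tfae (G := H)).out 0 3 rfl rfl).mp hH q hq T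
  have S : Sylow p H := default
  rw [← card_centralizer_sylow hn S]
  apply Nat.card_congr
  refine Equiv.subtypeEquivRight (fun x => ?_)
  rw [not_dvd_cs_iff']
  haveI : Unique (Sylow p H) := Sylow.unique_of_normal S (hn p S)
  constructor
  · rintro ⟨Q, hQ⟩
    have hQS : Q = S := Subsingleton.elim _ _
    rw [← hQS]; exact hQ
  · intro h
    exact ⟨S, h⟩

end nilpotent

end Cfsg.Agent.Lead.CHM
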