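import Mathlib
import Cfsg.Agent.Lead.CHMb

set_option autoImplicit false

/-! Cossey--Hawkes--Mann, part c: the fixed-point congruence. -/

namespace Cfsg.Agent.Lead.CHM

open Subgroup
open scoped Pointwise

variable {G : Type*} [Group G]

theorem cs_conj (g x : G) : cs (g * x * g⁻¹) = cs x := by
  unfold cs
  have : ConjClasses.mk (g * x * g⁻¹) = ConjClasses.mk x := by
    rw [ConjClasses.mk_eq_mk_iff_isConj, isConj_comm, isConj_iff]
    exact ⟨g, rfl⟩
  rw [this]

theorem cs_mul_central (x : G) {z : G} (hz : z ∈ center G) : cs (x * z) = cs x := by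
  rw [cs_eq_index, cs_eq_index]
  congr 1
  ext g
  rw [Subgroup.mem_centralizer_iff, Subgroup.mem_centralizer_iff]
  have hzg : z * g = g * z := (Subgroup.mem_center_iff.mp hz g).symm
  constructor
  · intro h y hy
    rw [Set.mem_singleton_iff] at hy
    subst hy
    have h1 := h (y * z) rfl
    -- y * z * g = g * (y * z)
    have h2 : y * g * z = g * y * z := by
      calc y * g * z = y * (g * z) := by rw [mul_assoc]
        _ = y * (z * g) := by rw [hzg]
        _ = y * z * g := by rw [mul_assoc]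
        _ = g * (y * z) := h1
        _ = g * y * z := by rw [mul_assoc]
    exact mul_right_cancel h2
  · intro h y hy
    rw [Set.mem_singleton_iff] at hy
    subst hy
    have h1 := h x rfl
    calc x * z * g = x * (z * g) := by rw [mul_assoc]
      _ = x * (g * z) := by rw [hzg]
      _ = x * g * z := by rw [mul_assoc]
      _ = g * x * z := by rw [h1]
      _ = g * (x * z) := by rw [mul_assoc]

/-- Two Sylow subgroups inside a subgroup `D` are conjugate by an element of `D`. -/
theorem sylow_conj_in [Finite G] {p : ℕ} [Fact p.Prime] (P Q : Sylow p G) (D : Subgroup G)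
    (hP : (P : Subgroup G) ≤ D) (hQ : (Q : Subgroup G) ≤ D) :
    ∃ d ∈ D, ∀ u ∈ P, d⁻¹ * u * d ∈ Q := by
  obtain ⟨d, hd⟩ := MulAction.exists_smul_eq D (Q.subtype hQ) (P.subtype hP)
  rw [Sylow.smul_subtype] at hd
  have h2 : d • Q = P := Sylow.subtype_injective hd
  refine ⟨d.1, d.2, ?_⟩
  intro u hu
  have h3 : u ∈ ((d • Q : Sylow p G) : Subgroup G) := by rw [h2]; exact hu
  have h4 : u ∈ MulAut.conj (d : G) • (Q : Subgroup G) := h3
  rw [Subgroup.mem_smul_pointwise_iff_exists] at h4
  obtain ⟨s, hs, hsu⟩ := h4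
  have hsu' : (d : G) * s * (d : G)⁻¹ = u := hsu
  rw [← hsu']
  have : (d : G)⁻¹ * ((d : G) * s * (d : G)⁻¹) * (d : G) = s := by group
  rw [this]
  exact hs

section main

variable [Finite G] (p : ℕ) [hp : Fact p.Prime]

/-- the image of `E_{p'}` in `G / Z(G)` -/
def Fset : Set (G ⧸ center G) := {y | ∃ x : G, ¬ p ∣ cs x ∧ (x : G ⧸ center G) = y}

omit [Finite G] hp in
theorem mk_mem_Fset_iff (x : G) : (x : G ⧸ center G) ∈ Fset (G := G) p ↔ ¬ p ∣ cs x := by
  constructor
  · rintro ⟨x', hx', hxx⟩
    rw [QuotientGroup.eq] at hxx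
    have : x = x' * (x'⁻¹ * x) := by group
    rw [this, cs_mul_central _ hxx]
    exact hx'
  · intro h
    exact ⟨x, h, rfl⟩

omit [Finite G] hp in
theorem card_Epp_eq :
    Nat.card {x : G // ¬ p ∣ cs x} = Nat.card (center G) * Nat.card (Fset (G := G) p) := by
  rw [← QuotientGroup.card_preimage_mk]
  apply Nat.card_congr
  refine Equiv.subtypeEquivRight (fun x => ?_)
  rw [Set.mem_preimage, mk_mem_Fset_iff]

omit [Finite G] hp in
theorem Fset_conj (u : G) {y : G ⧸ center G} (hy : y ∈ Fset (G := G) p) :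
    (u : G ⧸ center G) * y * (u : G ⧸ center G)⁻¹ ∈ Fset (G := G) p := by
  obtain ⟨x, hx, rfl⟩ := hy
  refine ⟨u * x * u⁻¹, ?_, ?_⟩
  · rw [cs_conj]; exact hx
  · simp

/-- conjugation action of a subgroup on the image of `E_{p'}` in `G / Z(G)`. -/
@[reducible] def conjActF (P : Subgroup G) : MulAction P (Fset (G := G) p) where
  smul u y := ⟨(u.1 : G ⧸ center G) * y.1 * (u.1 : G ⧸ center G)⁻¹, Fset_conj p u.1 y.2⟩
  one_smul y := by
    apply Subtype.ext
    show (((1 : P) : G) : G ⧸ center G) * y.1 * (((1 : P) : G) : G ⧸ center G)⁻¹ = y.1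
    simp
  mul_smul u v y := by
    apply Subtype.ext
    show (((u * v : P) : G) : G ⧸ center G) * y.1 * (((u * v : P) : G) : G ⧸ center G)⁻¹ =
      (u.1 : G ⧸ center G) * ((v.1 : G ⧸ center G) * y.1 * (v.1 : G ⧸ center G)⁻¹) *
        (u.1 : G ⧸ center G)⁻¹
    simp [mul_assoc]

theorem fixed_iff (P : Sylow p G) (y : G ⧸ center G) :
    (y ∈ Fset (G := G) p ∧ ∀ u ∈ P, (u : G ⧸ center G) * y * (u : G ⧸ center G)⁻¹ = y) ↔
      y ∈ (centralizer ((P : Subgroup G) : Set G)).map (QuotientGroup.mk' (center G)) := by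
  constructor
  · rintro ⟨⟨x, hx, rfl⟩, hfix⟩
    obtain ⟨Q, hQ⟩ := (not_dvd_cs_iff p x).mp hx
    let D : Subgroup G :=
      (centralizer ({(x : G ⧸ center G)} : Set (G ⧸ center G))).comap
        (QuotientGroup.mk' (center G))
    have hmemD : ∀ g : G, g ∈ D ↔ (x : G ⧸ center G) * (g : G ⧸ center G) =
        (g : G ⧸ center G) * (x : G ⧸ center G) := by
      intro g
      show (QuotientGroup.mk' (center G) g) ∈ centralizer _ ↔ _
      rw [Subgroup.mem_centralizer_iff]
      constructor
      · intro h; exact h _ rfl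
      · intro h z hz
        rw [Set.mem_singleton_iff] at hz
        subst hz
        exact h
    have hPD : (P : Subgroup G) ≤ D := by
      intro u hu
      rw [hmemD]
      have := hfix u hu
      -- u x u⁻¹ = x
      have h2 : (u : G ⧸ center G) * (x : G ⧸ center G) =
          (x : G ⧸ center G) * (u : G ⧸ center G) := by
        calc (u : G ⧸ center G) * (x : G ⧸ center G)
            = (u : G ⧸ center G) * (x : G ⧸ center G) * (u : G ⧸ center G)⁻¹ *
                (u : G ⧸ center G) := by group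
          _ = (x : G ⧸ center G) * (u : G ⧸ center G) := by rw [this]
      exact h2.symm
    have hQD : (Q : Subgroup G) ≤ D := by
      intro g hg
      rw [hmemD]
      have hgx := hQ hg
      rw [Subgroup.mem_centralizer_iff] at hgx
      have h1 : x * g = g * x := hgx x rfl
      have := congrArg (fun t : G => (t : G ⧸ center G)) h1
      simpa using this
    obtain ⟨d, hdD, hd⟩ := sylow_conj_in P Q D hPD hQD
    refine ⟨d * x * d⁻¹, ?_, ?_⟩
    · -- d x d⁻¹ centralizes P
      rw [SetLike.mem_coe, Subgroup.mem_centralizer_iff]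
      intro u hu
      have hq := hQ (hd u hu)
      rw [Subgroup.mem_centralizer_iff] at hq
      have h1 : x * (d⁻¹ * u * d) = d⁻¹ * u * d * x := hq x rfl
      calc u * (d * x * d⁻¹) = d * (d⁻¹ * u * d * x) * d⁻¹ := by group
        _ = d * (x * (d⁻¹ * u * d)) * d⁻¹ := by rw [h1]
        _ = d * x * d⁻¹ * u := by group
    · have hdx := (hmemD d).mp hdD
      show ((d * x * d⁻¹ : G) : G ⧸ center G) = (x : G ⧸ center G)
      calc ((d * x * d⁻¹ : G) : G ⧸ center G)
          = (d : G ⧸ center G) * (x : G ⧸ center G) * (d : G ⧸ center G)⁻¹ := by simp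
        _ = (x : G ⧸ center G) * (d : G ⧸ center G) * (d : G ⧸ center G)⁻¹ := by rw [hdx]
        _ = (x : G ⧸ center G) := by group
  · rintro ⟨c, hc, rfl⟩
    rw [SetLike.mem_coe, Subgroup.mem_centralizer_iff] at hc
    constructor
    · show (c : G ⧸ center G) ∈ Fset (G := G) p
      rw [mk_mem_Fset_iff, not_dvd_cs_iff']
      refine ⟨P, ?_⟩
      rw [Subgroup.mem_centralizer_iff]
      exact hc
    · intro u hu
      have h1 : u * c = c * u := hc u hu
      show (u : G ⧸ center G) * (c : G ⧸ center G) * (u : G ⧸ center G)⁻¹ = (c : G ⧸ center G)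
      have := congrArg (fun t : G => (t : G ⧸ center G)) h1
      simp only [QuotientGroup.mk_mul] at this
      rw [this]; group

end main

end Cfsg.Agent.Lead.CHM
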