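import Mathlib
import Cfsg.Agent.Lead.CHMc

set_option autoImplicit false

/-! Cossey--Hawkes--Mann, part d: the centre of a Sylow subgroup is central; Sylow subgroups are
normal. -/

namespace Cfsg.Agent.Lead.CHM

open Subgroup
open scoped Pointwise

variable {G : Type*} [Group G] [Finite G] (p : ℕ) [hp : Fact p.Prime]

theorem card_fixedPoints (P : Sylow p G) :
    letI := conjActF p (P : Subgroup G)
    Nat.card (MulAction.fixedPoints (P : Subgroup G) (Fset (G := G) p)) =
      Nat.card ((centralizer ((P : Subgroup G) : Set G)).map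
        (QuotientGroup.mk' (center G))) := by
  letI := conjActF p (P : Subgroup G)
  apply Nat.card_congr
  refine
    { toFun := fun y => ⟨y.1.1, (fixed_iff p P y.1.1).mp ⟨y.1.2, fun u hu => ?_⟩⟩
      invFun := fun w => ⟨⟨w.1, ((fixed_iff p P w.1).mpr w.2).1⟩, fun u => ?_⟩
      left_inv := fun y => by apply Subtype.ext; apply Subtype.ext; rfl
      right_inv := fun w => by apply Subtype.ext; rfl }
  · have := y.2 ⟨u, hu⟩
    exact congrArg Subtype.val this
  · apply Subtype.ext
    exact ((fixed_iff p P w.1).mpr w.2).2 u.1 u.2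

/-- Key step: under the counting hypothesis, `Z(P) ≤ Z(G)`. -/
theorem sylow_inf_centralizer_le_center_of_count (P : Sylow p G)
    (hE : Nat.card {x : G // ¬ p ∣ cs x} =
      ordProj[p] (Nat.card (center G)) * ordCompl[p] (Nat.card G)) :
    (P : Subgroup G) ⊓ centralizer ((P : Subgroup G) : Set G) ≤ center G := by
  letI := conjActF p (P : Subgroup G)
  have hmod := P.isPGroup'.card_modEq_card_fixedPoints (Fset (G := G) p)
  rw [card_fixedPoints] at hmod
  have hF : ¬ p ∣ Nat.card (Fset (G := G) p) := by
    intro hdvd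
    have h1 := card_Epp_eq (G := G) p
    rw [hE] at h1
    have h2 : ordProj[p] (Nat.card (center G)) * p ∣
        Nat.card (center G) * Nat.card (Fset (G := G) p) :=
      Nat.mul_dvd_mul (Nat.ordProj_dvd _ _) hdvd
    rw [← h1] at h2
    have h3 : p ∣ ordCompl[p] (Nat.card G) :=
      Nat.dvd_of_mul_dvd_mul_left (Nat.ordProj_pos _ _) h2
    exact Nat.not_dvd_ordCompl hp.out Nat.card_pos.ne' h3
  have hC : ¬ p ∣ Nat.card ((centralizer ((P : Subgroup G) : Set G)).map
      (QuotientGroup.mk' (center G))) := by
    intro h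
    exact hF ((hmod.dvd_iff dvd_rfl).mpr h)
  have hle : ((P : Subgroup G) ⊓ centralizer ((P : Subgroup G) : Set G)).map
      (QuotientGroup.mk' (center G)) ≤
      (centralizer ((P : Subgroup G) : Set G)).map (QuotientGroup.mk' (center G)) :=
    Subgroup.map_mono inf_le_right
  have hpg : IsPGroup p (((P : Subgroup G) ⊓ centralizer ((P : Subgroup G) : Set G)).map
      (QuotientGroup.mk' (center G))) :=
    (P.isPGroup'.to_le inf_le_left).map _
  obtain ⟨k, hk⟩ := IsPGroup.iff_card.mp hpg
  have hk0 : k = 0 := by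
    by_contra hne
    apply hC
    have : p ∣ p ^ k := dvd_pow_self p hne
    rw [← hk] at this
    exact this.trans (Subgroup.card_dvd_of_le hle)
  rw [hk0, pow_zero] at hk
  have hbot := Subgroup.eq_bot_of_card_eq _ hk
  rw [Subgroup.map_eq_bot_iff, QuotientGroup.ker_mk'] at hbot
  exact hbot

theorem card_centralizer_le (P Q : Sylow p G) :
    Nat.card (centralizer ((Q : Subgroup G) : Set G)) ≤
      Nat.card (centralizer ((P : Subgroup G) : Set G)) := by
  obtain ⟨d, -, hd⟩ := sylow_conj_in P Q ⊤ le_top le_top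
  apply Nat.card_le_card_of_injective
    (fun c : centralizer ((Q : Subgroup G) : Set G) =>
      (⟨d * c.1 * d⁻¹, by
        rw [Subgroup.mem_centralizer_iff]
        intro u hu
        have hc := c.2
        rw [Subgroup.mem_centralizer_iff] at hc
        have h1 : d⁻¹ * u * d * c.1 = c.1 * (d⁻¹ * u * d) := hc _ (hd u hu)
        calc u * (d * c.1 * d⁻¹) = d * (d⁻¹ * u * d * c.1) * d⁻¹ := by group
          _ = d * (c.1 * (d⁻¹ * u * d)) * d⁻¹ := by rw [h1]
          _ = d * c.1 * d⁻¹ * u := by group⟩ :
        centralizer ((P : Subgroup G) : Set G)))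
  intro a b hab
  have h1 : d * a.1 * d⁻¹ = d * b.1 * d⁻¹ := congrArg Subtype.val hab
  apply Subtype.ext
  have h2 : d * a.1 = d * b.1 := mul_right_cancel h1
  exact mul_left_cancel h2

theorem card_centralizer_eq (P Q : Sylow p G) :
    Nat.card (centralizer ((Q : Subgroup G) : Set G)) =
      Nat.card (centralizer ((P : Subgroup G) : Set G)) :=
  le_antisymm (card_centralizer_le p P Q) (card_centralizer_le p Q P)

/-- Union bound for `E_{p'}`. -/
theorem card_Epp_add_le (P : Sylow p G) :
    Nat.card {x : G // ¬ p ∣ cs x} + Nat.card (Sylow p G) ≤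
      Nat.card (Sylow p G) * Nat.card (centralizer ((P : Subgroup G) : Set G)) + 1 := by
  classical
  haveI : Fintype G := Fintype.ofFinite G
  haveI : Fintype (Sylow p G) := Fintype.ofFinite _
  set c := Nat.card (centralizer ((P : Subgroup G) : Set G)) with hc
  have hc1 : 1 ≤ c := Nat.card_pos
  let B : Sylow p G → Finset G := fun Q =>
    (Finset.univ.filter (fun x : G => x ∈ centralizer ((Q : Subgroup G) : Set G))).erase 1
  have hB : ∀ Q, (B Q).card = c - 1 := by
    intro Q
    have h1 : (Finset.univ.filter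
        (fun x : G => x ∈ centralizer ((Q : Subgroup G) : Set G))).card = c := by
      rw [hc, ← card_centralizer_eq p P Q, Nat.card_eq_fintype_card, Fintype.card_subtype]
    show ((Finset.univ.filter
      (fun x : G => x ∈ centralizer ((Q : Subgroup G) : Set G))).erase 1).card = c - 1
    rw [Finset.card_erase_of_mem (by simp), h1]
  have hsub : Finset.univ.filter (fun x : G => ¬ p ∣ cs x) ⊆
      insert 1 (Finset.univ.biUnion B) := by
    intro x hx
    have hx' : ¬ p ∣ cs x := by simpa using hx
    by_cases hx1 : x = 1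
    · rw [hx1]; exact Finset.mem_insert_self _ _
    · apply Finset.mem_insert_of_mem
      obtain ⟨Q, hQ⟩ := (not_dvd_cs_iff' p x).mp hx'
      rw [Finset.mem_biUnion]
      refine ⟨Q, Finset.mem_univ _, ?_⟩
      show x ∈ (Finset.univ.filter
        (fun x : G => x ∈ centralizer ((Q : Subgroup G) : Set G))).erase 1
      rw [Finset.mem_erase]
      exact ⟨hx1, by simpa using hQ⟩
  have h1 : Nat.card {x : G // ¬ p ∣ cs x} =
      (Finset.univ.filter (fun x : G => ¬ p ∣ cs x)).card := by
    rw [Nat.card_eq_fintype_card, Fintype.card_subtype]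
  have h2 : (Finset.univ.filter (fun x : G => ¬ p ∣ cs x)).card ≤
      1 + Nat.card (Sylow p G) * (c - 1) := by
    calc (Finset.univ.filter (fun x : G => ¬ p ∣ cs x)).card
        ≤ (insert 1 (Finset.univ.biUnion B)).card := Finset.card_le_card hsub
      _ ≤ (Finset.univ.biUnion B).card + 1 := Finset.card_insert_le _ _
      _ ≤ (∑ Q : Sylow p G, (B Q).card) + 1 := by
          apply Nat.add_le_add_right
          exact Finset.card_biUnion_le
      _ = 1 + Nat.card (Sylow p G) * (c - 1) := by
          rw [Finset.sum_congr rfl (fun Q _ => hB Q), Finset.sum_const, Finset.card_univ,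
            smul_eq_mul, Nat.card_eq_fintype_card, add_comm]
  rw [h1]
  have hcc : Nat.card (Sylow p G) * (c - 1) + Nat.card (Sylow p G) =
      Nat.card (Sylow p G) * c := by
    have hc' : c = (c - 1) + 1 := by omega
    conv_rhs => rw [hc']
    ring
  calc (Finset.univ.filter (fun x : G => ¬ p ∣ cs x)).card + Nat.card (Sylow p G)
      ≤ 1 + Nat.card (Sylow p G) * (c - 1) + Nat.card (Sylow p G) := Nat.add_le_add_right h2 _
    _ = Nat.card (Sylow p G) * c + 1 := by rw [← hcc]; ring

/-- Lower bound for the normalizer. -/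
theorem sylow_count_mul_le (P : Sylow p G) :
    Nat.card (Sylow p G) * Nat.card (centralizer ((P : Subgroup G) : Set G)) * Nat.card P ≤
      Nat.card G *
        Nat.card ((P : Subgroup G) ⊓ centralizer ((P : Subgroup G) : Set G) : Subgroup G) := by
  set C := centralizer ((P : Subgroup G) : Set G) with hC
  have hCN : C ≤ normalizer ((P : Subgroup G) : Set G) := Subgroup.centralizer_le_normalizer _
  have hPN : (P : Subgroup G) ≤ normalizer ((P : Subgroup G) : Set G) := Subgroup.le_normalizer
  have hrel : (P : Subgroup G).relIndex C = (P : Subgroup G).relIndex (C ⊔ P) := by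
    haveI := Subgroup.normal_subgroupOf_of_le_normalizer hCN
    haveI := Subgroup.normal_subgroupOf_sup_of_le_normalizer hCN
    exact Nat.card_congr
      (QuotientGroup.quotientInfEquivProdNormalizerQuotient C (P : Subgroup G) hCN).toEquiv
  have h1 : Nat.card ((P : Subgroup G) ⊓ C : Subgroup G) * (P : Subgroup G).relIndex C =
      Nat.card C := by
    have := Subgroup.relIndex_mul_relIndex ⊥ ((P : Subgroup G) ⊓ C) C bot_le inf_le_right
    rw [Subgroup.relIndex_bot_left, Subgroup.relIndex_bot_left,
      Subgroup.inf_relIndex_right] at this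
    exact this
  have h2 : Nat.card P * (P : Subgroup G).relIndex (C ⊔ P) = Nat.card (C ⊔ P : Subgroup G) := by
    have := Subgroup.relIndex_mul_relIndex ⊥ (P : Subgroup G) (C ⊔ P) bot_le le_sup_right
    rw [Subgroup.relIndex_bot_left, Subgroup.relIndex_bot_left] at this
    exact this
  have h3 : Nat.card (C ⊔ P : Subgroup G) * Nat.card (Sylow p G) ≤ Nat.card G := by
    rw [P.card_eq_index_normalizer,
      ← Subgroup.card_mul_index (normalizer ((P : Subgroup G) : Set G))]
    apply Nat.mul_le_mul_right
    exact Nat.le_of_dvd Nat.card_pos (Subgroup.card_dvd_of_le (sup_le hCN hPN))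
  calc Nat.card (Sylow p G) * Nat.card C * Nat.card P
      = Nat.card (Sylow p G) *
          (Nat.card ((P : Subgroup G) ⊓ C : Subgroup G) * (P : Subgroup G).relIndex C) *
          Nat.card P := by rw [h1]
    _ = Nat.card ((P : Subgroup G) ⊓ C : Subgroup G) *
          ((Nat.card P * (P : Subgroup G).relIndex (C ⊔ P)) * Nat.card (Sylow p G)) := by
        rw [hrel]; ring
    _ = Nat.card ((P : Subgroup G) ⊓ C : Subgroup G) *
          (Nat.card (C ⊔ P : Subgroup G) * Nat.card (Sylow p G)) := by rw [h2]
    _ ≤ Nat.card ((P : Subgroup G) ⊓ C : Subgroup G) * Nat.card G :=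
        Nat.mul_le_mul_left _ h3
    _ = Nat.card G * Nat.card ((P : Subgroup G) ⊓ C : Subgroup G) := mul_comm _ _

/-- Under the counting hypothesis, every Sylow `p`-subgroup is normal. -/
theorem sylow_normal_of_count (P : Sylow p G)
    (hE : Nat.card {x : G // ¬ p ∣ cs x} =
      ordProj[p] (Nat.card (center G)) * ordCompl[p] (Nat.card G)) :
    (P : Subgroup G).Normal := by
  have hle := sylow_inf_centralizer_le_center_of_count p P hE
  set C := centralizer ((P : Subgroup G) : Set G) with hC
  set n := Nat.card (Sylow p G) with hn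
  -- |P ⊓ C| ≤ ordProj |Z|
  have hZ0 : Nat.card (center G) ≠ 0 := Nat.card_pos.ne'
  have hpc : Nat.card ((P : Subgroup G) ⊓ C : Subgroup G) ≤ ordProj[p] (Nat.card (center G)) := by
    have hpg : IsPGroup p ((P : Subgroup G) ⊓ C : Subgroup G) := P.isPGroup'.to_le inf_le_left
    obtain ⟨k, hk⟩ := IsPGroup.iff_card.mp hpg
    have hdvd : p ^ k ∣ Nat.card (center G) := by
      rw [← hk]; exact Subgroup.card_dvd_of_le hle
    rw [hk]
    exact Nat.le_of_dvd (Nat.ordProj_pos _ _)
      ((hp.out.pow_dvd_iff_dvd_ordProj hZ0).mp hdvd)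
  have hG : Nat.card G = Nat.card P * ordCompl[p] (Nat.card G) := by
    rw [P.card_eq_multiplicity, Nat.ordProj_mul_ordCompl_eq_self]
  have h1 := sylow_count_mul_le p P
  have h2 : n * Nat.card C * Nat.card P ≤ Nat.card {x : G // ¬ p ∣ cs x} * Nat.card P := by
    calc n * Nat.card C * Nat.card P
        ≤ Nat.card G * Nat.card ((P : Subgroup G) ⊓ C : Subgroup G) := h1
      _ ≤ Nat.card G * ordProj[p] (Nat.card (center G)) := Nat.mul_le_mul_left _ hpc
      _ = (Nat.card P * ordCompl[p] (Nat.card G)) * ordProj[p] (Nat.card (center G)) := by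
          rw [← hG]
      _ = Nat.card {x : G // ¬ p ∣ cs x} * Nat.card P := by rw [hE]; ring
  have h3 : n * Nat.card C ≤ Nat.card {x : G // ¬ p ∣ cs x} :=
    Nat.le_of_mul_le_mul_right h2 Nat.card_pos
  have h4 := card_Epp_add_le p P
  have hn1 : n ≤ 1 := by
    have : Nat.card {x : G // ¬ p ∣ cs x} + n ≤ Nat.card {x : G // ¬ p ∣ cs x} + 1 :=
      h4.trans (Nat.add_le_add_right h3 1)
    exact Nat.le_of_add_le_add_left this
  haveI : Subsingleton (Sylow p G) := by
    rw [← Finite.card_le_one_iff_subsingleton]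
    exact hn1
  exact Sylow.normal_of_subsingleton P

end Cfsg.Agent.Lead.CHM
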