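import Mathlib

/-!
# Quadratic maps between elementary abelian 2-groups via Chevalley–Warning
-/

namespace Cfsg.Agent.Lead.CW2

open MvPolynomial

section Poly

variable {V : Type*} [AddCommGroup V] [Module (ZMod 2) V]

theorem zmod2_cases (c : ZMod 2) : c = 0 ∨ c = 1 := by
  revert c; decide

theorem exists_poly {σ : Type*} [DecidableEq σ]
    (g : V → ZMod 2) (β : V → V → ZMod 2)
    (hg : ∀ u v, g (u + v) = g u + g v + β u v)
    (hβl : ∀ u u' v, β (u + u') v = β u v + β u' v)
    (hβr : ∀ u v v', β u (v + v') = β u v + β u v')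
    (e : σ → V) (s : Finset σ) :
    ∃ P : MvPolynomial σ (ZMod 2), P.totalDegree ≤ 2 ∧
      ∀ x : σ → ZMod 2, eval x P = g (∑ i ∈ s, x i • e i) := by
  have hβ00 : ∀ v, β 0 v = 0 := by
    intro v
    have h := hβl 0 0 v
    rw [add_zero] at h
    exact left_eq_add.mp h
  have hβ0r : ∀ u, β u 0 = 0 := by
    intro u
    have h := hβr u 0 0
    rw [add_zero] at h
    exact left_eq_add.mp h
  have hg0 : g 0 = 0 := by
    have h := hg 0 0
    rw [add_zero, hβ00, add_zero] at h
    exact left_eq_add.mp h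
  have hgs : ∀ (c : ZMod 2) (u : V), g (c • u) = c * g u := by
    intro c u
    rcases zmod2_cases c with rfl | rfl
    · simp [hg0]
    · simp
  have hβsl : ∀ (c : ZMod 2) (u v : V), β (c • u) v = c * β u v := by
    intro c u v
    rcases zmod2_cases c with rfl | rfl
    · simp [hβ00]
    · simp
  have hβsr : ∀ (c : ZMod 2) (u v : V), β u (c • v) = c * β u v := by
    intro c u v
    rcases zmod2_cases c with rfl | rfl
    · simp [hβ0r]
    · simp
  have hβsum : ∀ (u : V) (t : Finset σ) (w : σ → V), β u (∑ i ∈ t, w i) = ∑ i ∈ t, β u (w i) := by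
    intro u t w
    induction t using Finset.induction_on with
    | empty => simp [hβ0r]
    | insert a t ha ih => rw [Finset.sum_insert ha, Finset.sum_insert ha, hβr, ih]
  induction s using Finset.induction_on with
  | empty =>
    refine ⟨0, by simp, fun x => ?_⟩
    simp [hg0]
  | insert a s ha ih =>
    obtain ⟨P, hPd, hPe⟩ := ih
    refine ⟨C (g (e a)) * X a + P + ∑ i ∈ s, C (β (e a) (e i)) * X a * X i, ?_, fun x => ?_⟩
    · refine (totalDegree_add _ _).trans (max_le ((totalDegree_add _ _).trans (max_le ?_ hPd)) ?_)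
      · refine (totalDegree_mul _ _).trans ?_
        rw [totalDegree_C, totalDegree_X]
        norm_num
      · refine totalDegree_finsetSum_le fun i _ => ?_
        refine (totalDegree_mul _ _).trans ?_
        have h1 : (C (β (e a) (e i)) * X a : MvPolynomial σ (ZMod 2)).totalDegree ≤ 1 := by
          refine (totalDegree_mul _ _).trans ?_
          rw [totalDegree_C, totalDegree_X]
        rw [totalDegree_X]
        omega
    · rw [Finset.sum_insert ha, hg, hgs, hβsl, hβsum, ← hPe]
      simp only [map_add, map_mul, eval_C, eval_X, map_sum, hβsr, Finset.mul_sum]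
      congr 1
      · ring
      · refine Finset.sum_congr rfl fun i _ => ?_
        ring

end Poly

section Abstract

variable {V Y : Type*} [AddCommGroup V] [AddCommGroup Y] [Finite V] [Finite Y]

/-- Anisotropic quadratic maps between elementary abelian 2-groups: `|V| ≤ |Y|²`. -/
theorem cw2 (hV : ∀ v : V, v + v = 0) (hY : ∀ y : Y, y + y = 0)
    (Q : V → Y) (B : V → V → Y)
    (hQ : ∀ u v, Q (u + v) = Q u + Q v + B u v)
    (hBl : ∀ u u' v, B (u + u') v = B u v + B u' v)
    (h0 : ∀ v, Q v = 0 → v = 0) : Nat.card V ≤ Nat.card Y ^ 2 := by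
  classical
  have hBsymm : ∀ u v, B u v = B v u := by
    intro u v
    have h1 := hQ u v
    have h2 := hQ v u
    rw [add_comm v u, h1] at h2
    have h3 : B u v = Q v + Q u + B v u - (Q u + Q v) := by rw [← h2]; abel
    rw [h3]; abel
  have hBr : ∀ u v v', B u (v + v') = B u v + B u v' := by
    intro u v v'
    rw [hBsymm, hBl, hBsymm v u, hBsymm v' u]
  letI : Module (ZMod 2) V := AddCommGroup.zmodModule (n := 2) (by
    intro v; rw [two_nsmul]; exact hV v)
  letI : Module (ZMod 2) Y := AddCommGroup.zmodModule (n := 2) (by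
    intro v; rw [two_nsmul]; exact hY v)
  haveI : Fintype V := Fintype.ofFinite V
  haveI : Fintype Y := Fintype.ofFinite Y
  obtain ⟨n, hn⟩ : ∃ n, n = Module.finrank (ZMod 2) V := ⟨_, rfl⟩
  obtain ⟨m, hm⟩ : ∃ m, m = Module.finrank (ZMod 2) Y := ⟨_, rfl⟩
  have bV : Module.Basis (Fin n) (ZMod 2) V := hn ▸ Module.finBasis (ZMod 2) V
  have bY : Module.Basis (Fin m) (ZMod 2) Y := hm ▸ Module.finBasis (ZMod 2) Y
  have cV : Nat.card V = 2 ^ n := by
    rw [Nat.card_eq_fintype_card, Module.card_eq_pow_finrank (K := ZMod 2) (V := V), ZMod.card, hn]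
  have cY : Nat.card Y = 2 ^ m := by
    rw [Nat.card_eq_fintype_card, Module.card_eq_pow_finrank (K := ZMod 2) (V := Y), ZMod.card, hm]
  suffices h : n ≤ 2 * m by
    rw [cV, cY, ← pow_mul, mul_comm]
    exact Nat.pow_le_pow_right (by norm_num) h
  by_contra hlt
  push Not at hlt
  have hP : ∀ j : Fin m, ∃ P : MvPolynomial (Fin n) (ZMod 2), P.totalDegree ≤ 2 ∧
      ∀ x : Fin n → ZMod 2, eval x P = bY.repr (Q (∑ i ∈ Finset.univ, x i • bV i)) j := fun j =>
    exists_poly (fun v => bY.repr (Q v) j) (fun u v => bY.repr (B u v) j)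
      (fun u v => by simp [hQ]) (fun u u' v => by simp [hBl]) (fun u v v' => by simp [hBr])
      bV Finset.univ
  choose P hPd hPe using hP
  have hdvd := char_dvd_card_solutions_of_fintype_sum_lt (K := ZMod 2) (σ := Fin n) (ι := Fin m)
    2 (f := P) (by
      calc ∑ j, (P j).totalDegree ≤ ∑ _j : Fin m, 2 := Finset.sum_le_sum fun j _ => hPd j
        _ = 2 * m := by simp [mul_comm]
        _ < Fintype.card (Fin n) := by simpa using hlt)
  have hdvd' : 2 ∣ Nat.card {x : Fin n → ZMod 2 // ∀ j, eval x (P j) = 0} := by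
    rw [Nat.card_eq_fintype_card]
    convert hdvd
  have hone : Nat.card {x : Fin n → ZMod 2 // ∀ j, eval x (P j) = 0} = 1 := by
    rw [Nat.card_eq_fintype_card, Fintype.card_eq_one_iff]
    refine ⟨⟨0, fun j => ?_⟩, ?_⟩
    · rw [hPe]
      have hQ0 : Q 0 = 0 := by
        have h := hQ 0 0
        have hB0 : B 0 0 = 0 := by
          have h' := hBl 0 0 0
          rw [add_zero] at h'
          exact left_eq_add.mp h'
        rw [add_zero, hB0, add_zero] at h
        exact left_eq_add.mp h
      simp [hQ0]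
    · rintro ⟨x, hx⟩
      apply Subtype.ext
      have h1 : bY.repr (Q (∑ i ∈ Finset.univ, x i • bV i)) = 0 := by
        ext j
        rw [← hPe]
        exact hx j
      have h2 : Q (∑ i ∈ Finset.univ, x i • bV i) = 0 := by
        simpa using h1
      have h3 := h0 _ h2
      funext i
      exact (Fintype.linearIndependent_iff.1 bV.linearIndependent) x h3 i
  rw [hone] at hdvd'
  omega

/-- Version where the zeros of `Q` lie in a subgroup `U`: `|V| ≤ |U| |Y|²`. -/
theorem cw2U (hV : ∀ v : V, v + v = 0) (hY : ∀ y : Y, y + y = 0)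
    (Q : V → Y) (B : V → V → Y)
    (hQ : ∀ u v, Q (u + v) = Q u + Q v + B u v)
    (hBl : ∀ u u' v, B (u + u') v = B u v + B u' v)
    (U : AddSubgroup V) (h0 : ∀ v, Q v = 0 → v ∈ U) :
    Nat.card V ≤ Nat.card U * Nat.card Y ^ 2 := by
  classical
  letI : Module (ZMod 2) V := AddCommGroup.zmodModule (n := 2) (by
    intro v; rw [two_nsmul]; exact hV v)
  let U' : Submodule (ZMod 2) V :=
    { carrier := U
      add_mem' := fun ha hb => U.add_mem ha hb
      zero_mem' := U.zero_mem
      smul_mem' := fun c x hx => by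
        rcases zmod2_cases c with rfl | rfl
        · simpa using U.zero_mem
        · simpa using hx }
  obtain ⟨W, hW⟩ := Submodule.exists_isCompl U'
  have hcard : Nat.card V = Nat.card U * Nat.card W := by
    rw [← Nat.card_congr (Submodule.prodEquivOfIsCompl U' W hW).toEquiv, Nat.card_prod]
    rfl
  have hWb : Nat.card W ≤ Nat.card Y ^ 2 := by
    refine cw2 (V := W) (Y := Y) (fun w => Subtype.ext (hV w.1)) hY (fun w => Q w.1)
      (fun u v => B u.1 v.1) (fun u v => hQ u.1 v.1) (fun u u' v => hBl u.1 u'.1 v.1) ?_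
    intro w hw
    have h1 : w.1 ∈ U' := h0 _ hw
    have h2 : w.1 ∈ U' ⊓ W := ⟨h1, w.2⟩
    rw [hW.inf_eq_bot] at h2
    exact Subtype.ext ((Submodule.mem_bot _).1 h2)
  rw [hcard]
  exact Nat.mul_le_mul_left _ hWb

/-- If the polar form takes values in a subgroup `Y₀`, then `|V| ≤ |Y₀| |Y|`. -/
theorem cw2L (hV : ∀ v : V, v + v = 0) (hY : ∀ y : Y, y + y = 0)
    (Q : V → Y) (B : V → V → Y)
    (hQ : ∀ u v, Q (u + v) = Q u + Q v + B u v)
    (hBl : ∀ u u' v, B (u + u') v = B u v + B u' v)
    (h0 : ∀ v, Q v = 0 → v = 0)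
    (Y₀ : AddSubgroup Y) (hB : ∀ u v, B u v ∈ Y₀) :
    Nat.card V ≤ Nat.card Y₀ * Nat.card Y := by
  classical
  let φ : V →+ Y ⧸ Y₀ := AddMonoidHom.mk' (fun v => (QuotientAddGroup.mk (Q v) : Y ⧸ Y₀)) (by
    intro u v
    rw [hQ, QuotientAddGroup.mk_add, (QuotientAddGroup.eq_zero_iff _).2 (hB u v), add_zero,
      QuotientAddGroup.mk_add])
  have hker : ∀ k : φ.ker, Q k.1 ∈ Y₀ := by
    intro k
    have := k.2
    rw [AddMonoidHom.mem_ker] at this
    exact (QuotientAddGroup.eq_zero_iff _).1 this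
  have hK : Nat.card φ.ker ≤ Nat.card Y₀ ^ 2 := by
    refine cw2 (V := φ.ker) (Y := Y₀) (fun w => Subtype.ext (hV w.1)) (fun y => Subtype.ext (hY y.1))
      (fun k => ⟨Q k.1, hker k⟩) (fun u v => ⟨B u.1 v.1, hB _ _⟩)
      (fun u v => Subtype.ext (hQ u.1 v.1)) (fun u u' v => Subtype.ext (hBl u.1 u'.1 v.1)) ?_
    intro k hk
    exact Subtype.ext (h0 _ (congrArg Subtype.val hk))
  have h1 : Nat.card V = Nat.card (V ⧸ φ.ker) * Nat.card φ.ker :=
    AddSubgroup.card_eq_card_quotient_mul_card_addSubgroup _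
  have h2 : Nat.card (V ⧸ φ.ker) ≤ Nat.card (Y ⧸ Y₀) := by
    rw [Nat.card_congr (QuotientAddGroup.quotientKerEquivRange φ).toEquiv]
    exact Nat.card_le_card_of_injective _ Subtype.val_injective
  have h3 : Nat.card Y = Nat.card (Y ⧸ Y₀) * Nat.card Y₀ :=
    AddSubgroup.card_eq_card_quotient_mul_card_addSubgroup _
  calc Nat.card V = Nat.card (V ⧸ φ.ker) * Nat.card φ.ker := h1
    _ ≤ Nat.card (Y ⧸ Y₀) * Nat.card Y₀ ^ 2 := Nat.mul_le_mul h2 hK
    _ = Nat.card Y₀ * Nat.card Y := by rw [h3]; ring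

omit [Finite V] [Finite Y] in
theorem mem_zmultiples_two {A : Type*} [AddCommGroup A] (r : A) (hr : r + r = 0) (x : A) :
    x ∈ AddSubgroup.zmultiples r ↔ x = 0 ∨ x = r := by
  constructor
  · intro hx
    obtain ⟨k, rfl⟩ := AddSubgroup.mem_zmultiples_iff.1 hx
    rcases Int.even_or_odd' k with ⟨j, rfl | rfl⟩
    · left
      rw [mul_comm, mul_zsmul, two_zsmul, hr, zsmul_zero]
    · right
      rw [add_zsmul, mul_comm, mul_zsmul, two_zsmul, hr, zsmul_zero, zero_add, one_zsmul]
  · rintro (rfl | rfl)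
    · exact zero_mem _
    · exact AddSubgroup.mem_zmultiples _

/-- If the polar form has a nonzero radical vector then `|V| < |Y|²`. -/
theorem cw2R (hV : ∀ v : V, v + v = 0) (hY : ∀ y : Y, y + y = 0)
    (Q : V → Y) (B : V → V → Y)
    (hQ : ∀ u v, Q (u + v) = Q u + Q v + B u v)
    (hBl : ∀ u u' v, B (u + u') v = B u v + B u' v)
    (h0 : ∀ v, Q v = 0 → v = 0)
    (r : V) (hr : r ≠ 0) (hrB : ∀ v, B r v = 0) :
    Nat.card V < Nat.card Y ^ 2 := by
  classical
  have hBsymm : ∀ u v, B u v = B v u := by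
    intro u v
    have h1 := hQ u v
    have h2 := hQ v u
    rw [add_comm v u, h1] at h2
    have h3 : B u v = Q v + Q u + B v u - (Q u + Q v) := by rw [← h2]; abel
    rw [h3]; abel
  have hneg : ∀ y : Y, -y = y := fun y => neg_eq_of_add_eq_zero_left (hY y)
  have hnegV : ∀ v : V, -v = v := fun v => neg_eq_of_add_eq_zero_left (hV v)
  obtain ⟨c, hc⟩ : ∃ c, c = Q r := ⟨_, rfl⟩
  have hc0 : c ≠ 0 := fun h => hr (h0 r (hc ▸ h))
  have hQr : ∀ v, Q (v + r) = Q v + c := by
    intro v
    rw [hQ, hBsymm, hrB, add_zero, hc]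
  let R := AddSubgroup.zmultiples r
  let C := AddSubgroup.zmultiples c
  have hRmem : ∀ x, x ∈ R ↔ x = 0 ∨ x = r := mem_zmultiples_two r (hV r)
  have hCmem : ∀ x, x ∈ C ↔ x = 0 ∨ x = c := mem_zmultiples_two c (hY c)
  -- the induced map
  let Qb : V ⧸ R → Y ⧸ C := fun v => Quotient.liftOn' v (fun v => (QuotientAddGroup.mk (Q v) : Y ⧸ C))
    (by
      intro u v huv
      rw [QuotientAddGroup.leftRel_apply, hRmem] at huv
      rw [QuotientAddGroup.eq, hCmem]
      rcases huv with h | h
      · have : v = u := by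
          have := neg_add_eq_zero.1 h
          exact this.symm
        left
        rw [this]
        exact neg_add_cancel _
      · have : v = u + r := by rw [← h]; abel
        right
        rw [this, hQr]
        abel)
  have hQb : ∀ v, Qb (QuotientAddGroup.mk v) = QuotientAddGroup.mk (Q v) := fun v => rfl
  let Bb : V ⧸ R → V ⧸ R → Y ⧸ C := fun u v => Qb (u + v) - Qb u - Qb v
  have hBb : ∀ u v, Bb (QuotientAddGroup.mk u) (QuotientAddGroup.mk v) = QuotientAddGroup.mk (B u v) := by
    intro u v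
    change Qb (QuotientAddGroup.mk u + QuotientAddGroup.mk v) - Qb (QuotientAddGroup.mk u)
      - Qb (QuotientAddGroup.mk v) = _
    rw [← QuotientAddGroup.mk_add, hQb, hQb, hQb, hQ, QuotientAddGroup.mk_add,
      QuotientAddGroup.mk_add]
    abel
  have hVb : ∀ v : V ⧸ R, v + v = 0 := by
    intro v
    induction v using QuotientAddGroup.induction_on with
    | H v => rw [← QuotientAddGroup.mk_add, hV]; rfl
  have hYb : ∀ y : Y ⧸ C, y + y = 0 := by
    intro y
    induction y using QuotientAddGroup.induction_on with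
    | H y => rw [← QuotientAddGroup.mk_add, hY]; rfl
  have hmain : Nat.card (V ⧸ R) ≤ Nat.card (Y ⧸ C) ^ 2 := by
    refine cw2 hVb hYb Qb Bb (fun u v => by simp only [Bb]; abel) ?_ ?_
    · intro u u' v
      induction u using QuotientAddGroup.induction_on with
      | H u =>
      induction u' using QuotientAddGroup.induction_on with
      | H u' =>
      induction v using QuotientAddGroup.induction_on with
      | H v =>
      rw [← QuotientAddGroup.mk_add, hBb, hBb, hBb, hBl, QuotientAddGroup.mk_add]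
    · intro v hv
      induction v using QuotientAddGroup.induction_on with
      | H v =>
      rw [hQb, QuotientAddGroup.eq_zero_iff, hCmem] at hv
      rw [QuotientAddGroup.eq_zero_iff, hRmem]
      rcases hv with h | h
      · left; exact h0 v h
      · right
        have h1 : Q (v + r) = 0 := by rw [hQr, h]; exact hY c
        have h2 := h0 _ h1
        have h3 : v = -r := eq_neg_of_add_eq_zero_left h2
        rw [h3, hnegV]
  have cR : Nat.card R = 2 := by
    rw [Nat.card_zmultiples]
    exact addOrderOf_eq_prime (by rw [two_nsmul]; exact hV r) hr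
  have cC : Nat.card C = 2 := by
    rw [Nat.card_zmultiples]
    exact addOrderOf_eq_prime (by rw [two_nsmul]; exact hY c) hc0
  have h1 : Nat.card V = Nat.card (V ⧸ R) * Nat.card R :=
    AddSubgroup.card_eq_card_quotient_mul_card_addSubgroup _
  have h2 : Nat.card Y = Nat.card (Y ⧸ C) * Nat.card C :=
    AddSubgroup.card_eq_card_quotient_mul_card_addSubgroup _
  have hpos : 0 < Nat.card (V ⧸ R) := Nat.card_pos
  rw [h1, h2, cR, cC]
  nlinarith

end Abstract

section Mul

variable {V Y : Type*} [Group V] [Group Y] [Finite V] [Finite Y]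

omit [Finite V] in
theorem comm_of_sq (hV : ∀ v : V, v * v = 1) (a b : V) : a * b = b * a := by
  have ha : a⁻¹ = a := inv_eq_of_mul_eq_one_left (hV a)
  have hb : b⁻¹ = b := inv_eq_of_mul_eq_one_left (hV b)
  have hab : (a * b)⁻¹ = a * b := inv_eq_of_mul_eq_one_left (hV (a * b))
  rw [mul_inv_rev, ha, hb] at hab
  exact hab.symm

/-- Multiplicative packaging of `cw2U`, `cw2R`, `cw2L`. -/
theorem cw2M (hV : ∀ v : V, v * v = 1) (hY : ∀ y : Y, y * y = 1)
    (Q : V → Y) (B : V → V → Y)
    (hQ : ∀ u v, Q (u * v) = Q u * Q v * B u v)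
    (hBl : ∀ u u' v, B (u * u') v = B u v * B u' v)
    (U : Subgroup V) (hU : ∀ v, Q v = 1 → v ∈ U) :
    Nat.card V ≤ Nat.card U * Nat.card Y ^ 2 ∧
    (U = ⊥ → (∃ r, r ≠ 1 ∧ ∀ v, B r v = 1) → Nat.card V < Nat.card Y ^ 2) ∧
    (U = ⊥ → ∀ Y₀ : Subgroup Y, Y₀ ≠ ⊤ → (∀ u v, B u v ∈ Y₀) →
      Nat.card V < Nat.card Y ^ 2) := by
  letI iV : CommGroup V := { (inferInstance : Group V) with mul_comm := comm_of_sq hV }
  letI iY : CommGroup Y := { (inferInstance : Group Y) with mul_comm := comm_of_sq hY }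
  have hV' : ∀ v : Additive V, v + v = 0 := fun v => hV v.toMul
  have hY' : ∀ y : Additive Y, y + y = 0 := fun y => hY y.toMul
  let Q' : Additive V → Additive Y := fun v => Additive.ofMul (Q v.toMul)
  let B' : Additive V → Additive V → Additive Y := fun u v => Additive.ofMul (B u.toMul v.toMul)
  have hQ' : ∀ u v, Q' (u + v) = Q' u + Q' v + B' u v := fun u v => hQ u.toMul v.toMul
  have hBl' : ∀ u u' v, B' (u + u') v = B' u v + B' u' v := fun u u' v =>
    hBl u.toMul u'.toMul v.toMul
  refine ⟨?_, ?_, ?_⟩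
  · exact cw2U (V := Additive V) (Y := Additive Y) hV' hY' Q' B' hQ' hBl'
      (Subgroup.toAddSubgroup U) (fun v hv => hU v.toMul hv)
  · rintro rfl ⟨r, hr, hrB⟩
    have h0 : ∀ v, Q' v = 0 → v = 0 := fun v hv => by
      have h : v.toMul = 1 := (Subgroup.mem_bot).1 (hU v.toMul hv)
      exact h
    exact cw2R (V := Additive V) (Y := Additive Y) hV' hY' Q' B' hQ' hBl' h0
      (Additive.ofMul r) hr (fun v => hrB v.toMul)
  · rintro rfl Y₀ hY₀ hB
    have h0 : ∀ v, Q' v = 0 → v = 0 := fun v hv => by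
      have h : v.toMul = 1 := (Subgroup.mem_bot).1 (hU v.toMul hv)
      exact h
    have h1 := cw2L (V := Additive V) (Y := Additive Y) hV' hY' Q' B' hQ' hBl' h0
      (Subgroup.toAddSubgroup Y₀) (fun u v => hB u.toMul v.toMul)
    have h2 : Nat.card Y₀ < Nat.card Y := by
      by_contra hcon
      push Not at hcon
      exact hY₀ (Subgroup.eq_top_of_le_card _ hcon)
    have h3 : Nat.card (Subgroup.toAddSubgroup Y₀) = Nat.card Y₀ := rfl
    have h4 : Nat.card (Additive Y) = Nat.card Y := rfl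
    have h5 : Nat.card (Additive V) = Nat.card V := rfl
    rw [h3, h4, h5] at h1
    have hpos : 0 < Nat.card Y := Nat.card_pos
    calc Nat.card V ≤ Nat.card Y₀ * Nat.card Y := h1
      _ < Nat.card Y * Nat.card Y := Nat.mul_lt_mul_of_pos_right h2 hpos
      _ = Nat.card Y ^ 2 := (sq _).symm

end Mul

end Cfsg.Agent.Lead.CW2
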