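import Mathlib
import Cfsg.Agent.Lead.GrunFirst
import Cfsg.Agent.Helper1.PGroup
import Cfsg.Agent.Helper2.Quasisimple
import Cfsg.Agent.Helper2.DihedralIso

set_option autoImplicit false

/-!
# A simple group in which the centralizer of an involution `z` is a Sylow 2-subgroup with
Frattini subgroup `⟨z⟩` has dihedral Sylow 2-subgroups of order 8
-/

namespace Cfsg.Agent.Lead.CSD8

open scoped commutatorElement

variable {L : Type*} [Group L]

theorem mem_zpowers_two {z x : L} (hz : z * z = 1) (hx : x ∈ Subgroup.zpowers z) :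
    x = 1 ∨ x = z := by
  obtain ⟨k, rfl⟩ := Subgroup.mem_zpowers_iff.mp hx
  rcases Int.even_or_odd' k with ⟨m, hm | hm⟩
  · left
    rw [hm, zpow_mul, zpow_two, hz, one_zpow]
  · right
    rw [hm, zpow_add, zpow_mul, zpow_two, hz, one_zpow, one_mul, zpow_one]

/-- the local data: a subgroup `P` equal to the centralizer of the involution `z`, with
commutators and squares in `⟨z⟩` -/
structure Dat (P : Subgroup L) (z : L) : Prop where
  zsq : z * z = 1
  zne : z ≠ 1
  cent : ∀ x, x ∈ P ↔ x * z = z * x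
  comm : ∀ x ∈ P, ∀ y ∈ P, x * y = y * x ∨ x * y = z * (y * x)
  sq : ∀ x ∈ P, x * x = 1 ∨ x * x = z
  norm : ∀ n : L, (∀ x ∈ P, n * x * n⁻¹ ∈ P) → n * z * n⁻¹ = z

namespace Dat

variable {P : Subgroup L} {z : L}

theorem zmem (h : Dat P z) : z ∈ P := (h.cent z).mpr rfl

theorem zc (h : Dat P z) {x : L} (hx : x ∈ P) : x * z = z * x := (h.cent x).mp hx

/-- conjugates of `z` are involutions -/
theorem conj_sq (h : Dat P z) (g : L) : (g * z * g⁻¹) * (g * z * g⁻¹) = 1 := by
  have : (g * z * g⁻¹) * (g * z * g⁻¹) = g * (z * z) * g⁻¹ := by group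
  rw [this, h.zsq, mul_one, mul_inv_cancel]

theorem conj_ne_one (h : Dat P z) (g : L) : g * z * g⁻¹ ≠ 1 := by
  intro h1
  apply h.zne
  have : z = g⁻¹ * (g * z * g⁻¹) * g := by group
  rw [this, h1, mul_one, inv_mul_cancel]

/-- a member of `P` commuting with `g z g⁻¹` is conjugated into `P` by `g⁻¹` -/
theorem conj_mem (h : Dat P z) {g x : L} (hx : x * (g * z * g⁻¹) = (g * z * g⁻¹) * x) :
    g⁻¹ * x * g ∈ P := by
  rw [h.cent]
  calc g⁻¹ * x * g * z = g⁻¹ * (x * (g * z * g⁻¹)) * g := by group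
    _ = g⁻¹ * ((g * z * g⁻¹) * x) * g := by rw [hx]
    _ = z * (g⁻¹ * x * g) := by group

/-- a conjugate of `z` in `P` other than `z` is not central in `P` -/
theorem exists_not_commute [Finite L] (h : Dat P z) {g : L} (ht : g * z * g⁻¹ ∈ P)
    (hne : g * z * g⁻¹ ≠ z) : ∃ r ∈ P, r * (g * z * g⁻¹) ≠ (g * z * g⁻¹) * r := by
  by_contra hcon
  push Not at hcon
  apply hne
  have h1 : g⁻¹ * z * g⁻¹⁻¹ = z := by
    apply h.norm
    intro x hx
    rw [inv_inv]
    exact h.conj_mem (hcon x hx)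
  rw [inv_inv] at h1
  calc g * z * g⁻¹ = g * (g⁻¹ * z * g) * g⁻¹ := by rw [h1]
    _ = z := by group

/-- a conjugate of `z` in `P` other than `z` is moved to its product with `z` -/
theorem exists_conj_mul [Finite L] (h : Dat P z) {g : L} (ht : g * z * g⁻¹ ∈ P)
    (hne : g * z * g⁻¹ ≠ z) : ∃ r ∈ P, r * (g * z * g⁻¹) * r⁻¹ = z * (g * z * g⁻¹) := by
  obtain ⟨r, hr, hrt⟩ := h.exists_not_commute ht hne
  refine ⟨r, hr, ?_⟩
  rcases h.comm r hr _ ht with h1 | h1
  · exact absurd h1 hrt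
  · rw [h1]; group

/-- the product of two different commuting conjugates of `z` is a conjugate of `z` -/
theorem mul_conj [Finite L] (h : Dat P z) {g g' : L}
    (hc : (g * z * g⁻¹) * (g' * z * g'⁻¹) = (g' * z * g'⁻¹) * (g * z * g⁻¹))
    (hne : g * z * g⁻¹ ≠ g' * z * g'⁻¹) : ∃ k : L, (g * z * g⁻¹) * (g' * z * g'⁻¹) = k * z * k⁻¹ := by
  -- move to `z` and `t = g⁻¹ s' g`
  have e1 : g⁻¹ * (g' * z * g'⁻¹) * g = (g⁻¹ * g') * z * (g⁻¹ * g')⁻¹ := by group
  have ht : (g⁻¹ * g') * z * (g⁻¹ * g')⁻¹ ∈ P := by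
    rw [← e1]
    exact h.conj_mem hc.symm
  have hne' : (g⁻¹ * g') * z * (g⁻¹ * g')⁻¹ ≠ z := by
    intro h1
    apply hne
    rw [← e1] at h1
    calc g * z * g⁻¹ = g * (g⁻¹ * (g' * z * g'⁻¹) * g) * g⁻¹ := by rw [h1]
      _ = g' * z * g'⁻¹ := by group
  obtain ⟨r, _, hr⟩ := h.exists_conj_mul ht hne'
  refine ⟨g * r * (g⁻¹ * g'), ?_⟩
  calc (g * z * g⁻¹) * (g' * z * g'⁻¹)
      = g * (z * ((g⁻¹ * g') * z * (g⁻¹ * g')⁻¹)) * g⁻¹ := by group
    _ = g * (r * ((g⁻¹ * g') * z * (g⁻¹ * g')⁻¹) * r⁻¹) * g⁻¹ := by rw [hr]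
    _ = (g * r * (g⁻¹ * g')) * z * (g * r * (g⁻¹ * g'))⁻¹ := by group

/-- members of `P` commuting with a conjugate of `z` other than `z` commute and are involutions -/
theorem cent_elem (h : Dat P z) {g x y : L} (hne : g * z * g⁻¹ ≠ z) (hx : x ∈ P) (hy : y ∈ P)
    (hxt : x * (g * z * g⁻¹) = (g * z * g⁻¹) * x) (hyt : y * (g * z * g⁻¹) = (g * z * g⁻¹) * y) :
    x * y = y * x ∧ x * x = 1 := by
  have hx' := h.conj_mem hxt
  have hy' := h.conj_mem hyt
  constructor
  · rcases h.comm x hx y hy with h1 | h1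
    · exact h1
    · exfalso
      rcases h.comm _ hx' _ hy' with h2 | h2
      · have : x * y = y * x := by
          calc x * y = g * ((g⁻¹ * x * g) * (g⁻¹ * y * g)) * g⁻¹ := by group
            _ = g * ((g⁻¹ * y * g) * (g⁻¹ * x * g)) * g⁻¹ := by rw [h2]
            _ = y * x := by group
        rw [this] at h1
        have : z = 1 := by
          have := mul_right_cancel (a := 1) (b := y * x) (c := z) (by rw [one_mul]; exact h1)
          exact this.symm
        exact h.zne this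
      · have : x * y = (g * z * g⁻¹) * (y * x) := by
          calc x * y = g * ((g⁻¹ * x * g) * (g⁻¹ * y * g)) * g⁻¹ := by group
            _ = g * (z * ((g⁻¹ * y * g) * (g⁻¹ * x * g))) * g⁻¹ := by rw [h2]
            _ = (g * z * g⁻¹) * (y * x) := by group
        rw [this] at h1
        exact hne (mul_right_cancel h1)
  · rcases h.sq x hx with h1 | h1
    · exact h1
    · exfalso
      rcases h.sq _ hx' with h2 | h2
      · have : x * x = 1 := by
          calc x * x = g * ((g⁻¹ * x * g) * (g⁻¹ * x * g)) * g⁻¹ := by group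
            _ = 1 := by rw [h2]; group
        rw [this] at h1
        exact h.zne h1.symm
      · have : x * x = g * z * g⁻¹ := by
          calc x * x = g * ((g⁻¹ * x * g) * (g⁻¹ * x * g)) * g⁻¹ := by group
            _ = g * z * g⁻¹ := by rw [h2]
        rw [this] at h1
        exact hne h1

theorem conj_sq' (h : Dat P z) {t : L} (ht : ∃ g : L, t = g * z * g⁻¹) : t * t = 1 := by
  obtain ⟨g, rfl⟩ := ht; exact h.conj_sq g

theorem conj_ne_one' (h : Dat P z) {t : L} (ht : ∃ g : L, t = g * z * g⁻¹) : t ≠ 1 := by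
  obtain ⟨g, rfl⟩ := ht; exact h.conj_ne_one g

theorem exists_not_commute' [Finite L] (h : Dat P z) {t : L} (htc : ∃ g : L, t = g * z * g⁻¹)
    (ht : t ∈ P) (hne : t ≠ z) : ∃ r ∈ P, r * t ≠ t * r := by
  obtain ⟨g, rfl⟩ := htc; exact h.exists_not_commute ht hne

theorem mul_conj' [Finite L] (h : Dat P z) {s s' : L} (hs : ∃ g : L, s = g * z * g⁻¹)
    (hs' : ∃ g : L, s' = g * z * g⁻¹) (hc : s * s' = s' * s) (hne : s ≠ s') :
    ∃ k : L, s * s' = k * z * k⁻¹ := by
  obtain ⟨g, rfl⟩ := hs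
  obtain ⟨g', rfl⟩ := hs'
  exact h.mul_conj hc hne

theorem cent_elem' (h : Dat P z) {t x y : L} (htc : ∃ g : L, t = g * z * g⁻¹) (hne : t ≠ z)
    (hx : x ∈ P) (hy : y ∈ P) (hxt : x * t = t * x) (hyt : y * t = t * y) :
    x * y = y * x ∧ x * x = 1 := by
  obtain ⟨g, rfl⟩ := htc; exact h.cent_elem hne hx hy hxt hyt

/-- the key step: a conjugate `s` of `z` in `P` commuting with `a` is `a` or `z a` -/
theorem key [Finite L] (h : Dat P z) {s a b : L} (hsP : s ∈ P) (hsc : ∃ g : L, s = g * z * g⁻¹)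
    (hsz : s ≠ z) (haP : a ∈ P) (hbP : b ∈ P) (hac : ∃ g : L, a = g * z * g⁻¹)
    (haa : a * a = 1) (hab : a * b ≠ b * a) (habsq : (a * b) * (a * b) = z)
    (hsa : s * a = a * s) : s = a ∨ s = z * a := by
  by_cases hsa' : s = a
  · left; exact hsa'
  right
  have hsb : s * b ≠ b * s := by
    intro hsb
    have hc : (a * b) * s = s * (a * b) := by
      calc (a * b) * s = a * (b * s) := by group
        _ = a * (s * b) := by rw [hsb]
        _ = (a * s) * b := by group
        _ = (s * a) * b := by rw [hsa]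
        _ = s * (a * b) := by group
    have := (h.cent_elem' hsc hsz (P.mul_mem haP hbP) (P.mul_mem haP hbP) hc hc).2
    rw [habsq] at this
    exact h.zne this
  have hsb' : s * b = z * (b * s) := by
    rcases h.comm s hsP b hbP with h1 | h1
    · exact absurd h1 hsb
    · exact h1
  have hab' : a * b = z * (b * a) := by
    rcases h.comm a haP b hbP with h1 | h1
    · exact absurd h1 hab
    · exact h1
  obtain ⟨k, hk⟩ := h.mul_conj' hsc hac hsa hsa'
  have hcP : s * a ∈ P := P.mul_mem hsP haP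
  have hca : a * (s * a) = (s * a) * a := by
    calc a * (s * a) = (a * s) * a := by group
      _ = (s * a) * a := by rw [hsa]
  have hzs : s * z = z * s := h.zc hsP
  have hzb : b * z = z * b := h.zc hbP
  have hcb : b * (s * a) = (s * a) * b := by
    symm
    calc (s * a) * b = s * (a * b) := by group
      _ = s * (z * (b * a)) := by rw [hab']
      _ = (s * z) * (b * a) := by group
      _ = (z * s) * (b * a) := by rw [hzs]
      _ = z * (s * b) * a := by group
      _ = z * (z * (b * s)) * a := by rw [hsb']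
      _ = (z * z) * b * (s * a) := by group
      _ = b * (s * a) := by rw [h.zsq, one_mul]
  by_contra hne
  have hcz : s * a ≠ z := by
    intro hc
    apply hne
    calc s = (s * a) * a := by rw [mul_assoc, haa, mul_one]
      _ = z * a := by rw [hc]
  have := (h.cent_elem' ⟨k, hk⟩ hcz haP hbP hca hcb).1
  exact hab this

/-- the structure of `P`: it is generated by two involutions whose product has order `4` -/
theorem two_gen [Finite L] (h : Dat P z)
    (hgen : P ≤ Subgroup.closure {t | t ∈ P ∧ ∃ g : L, t = g * z * g⁻¹})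
    (hex : ∃ t : L, t ∈ P ∧ (∃ g : L, t = g * z * g⁻¹) ∧ t ≠ z) :
    ∃ t₁ t₂ : L, t₁ * t₁ = 1 ∧ t₂ * t₂ = 1 ∧ t₁ ≠ 1 ∧ t₂ ≠ 1 ∧ orderOf (t₁ * t₂) = 4 ∧
      P = Subgroup.closure {t₁, t₂} := by
  obtain ⟨t₁, ht₁P, ht₁c, ht₁z⟩ := hex
  obtain ⟨r₁, hr₁, hr₁t⟩ := h.exists_not_commute' ht₁c ht₁P ht₁z
  have hex2 : ∃ t₂, t₂ ∈ P ∧ (∃ g : L, t₂ = g * z * g⁻¹) ∧ t₁ * t₂ ≠ t₂ * t₁ := by
    by_contra hcon
    push Not at hcon
    have hle : Subgroup.closure {t | t ∈ P ∧ ∃ g : L, t = g * z * g⁻¹} ≤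
        Subgroup.centralizer {t₁} := by
      rw [Subgroup.closure_le]
      rintro t ⟨htP, htc⟩
      rw [SetLike.mem_coe, Subgroup.mem_centralizer_iff]
      intro x hx
      rw [Set.mem_singleton_iff] at hx
      subst hx
      exact hcon t htP htc
    have := hle (hgen hr₁)
    rw [Subgroup.mem_centralizer_iff] at this
    exact hr₁t (this t₁ rfl).symm
  obtain ⟨t₂, ht₂P, ht₂c, h12ne⟩ := hex2
  have ht₁sq := h.conj_sq' ht₁c
  have ht₂sq := h.conj_sq' ht₂c
  have h12 : t₁ * t₂ = z * (t₂ * t₁) := by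
    rcases h.comm t₁ ht₁P t₂ ht₂P with h1 | h1
    · exact absurd h1 h12ne
    · exact h1
  have hz1 : t₁ * z = z * t₁ := h.zc ht₁P
  have hz2 : t₂ * z = z * t₂ := h.zc ht₂P
  have hww : (t₁ * t₂) * (t₁ * t₂) = z := by
    calc (t₁ * t₂) * (t₁ * t₂) = (z * (t₂ * t₁)) * (t₁ * t₂) := by rw [← h12]
      _ = z * (t₂ * (t₁ * t₁) * t₂) := by group
      _ = z := by rw [ht₁sq, mul_one, ht₂sq, mul_one]
  have hww' : (t₂ * t₁) * (t₂ * t₁) = z := by
    calc (t₂ * t₁) * (t₂ * t₁) = t₂ * (t₁ * t₂) * t₁ := by group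
      _ = t₂ * (z * (t₂ * t₁)) * t₁ := by rw [← h12]
      _ = (t₂ * z) * t₂ * (t₁ * t₁) := by group
      _ = z := by rw [hz2, ht₁sq, mul_one, mul_assoc, ht₂sq, mul_one]
  have hord : orderOf (t₁ * t₂) = 4 := by
    have h2 : (t₁ * t₂) ^ 2 = z := by rw [pow_two]; exact hww
    have := orderOf_eq_prime_pow (x := t₁ * t₂) (p := 2) (n := 1)
      (by rw [pow_one, h2]; exact h.zne)
      (by
        have : (t₁ * t₂) ^ 2 ^ (1 + 1) = ((t₁ * t₂) ^ 2) ^ 2 := by rw [← pow_mul]; norm_num
        rw [this, h2, pow_two, h.zsq])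
    rw [this]; norm_num
  have h21ne : t₂ * t₁ ≠ t₁ * t₂ := fun h => h12ne h.symm
  have hclaim : ∀ s, s ∈ P → (∃ g : L, s = g * z * g⁻¹) →
      s = z ∨ s = t₁ ∨ s = z * t₁ ∨ s = t₂ ∨ s = z * t₂ := by
    intro s hsP hsc
    by_cases hsz : s = z
    · left; exact hsz
    by_cases h1 : s * t₁ = t₁ * s
    · rcases h.key hsP hsc hsz ht₁P ht₂P ht₁c ht₁sq h12ne hww h1 with h' | h'
      · right; left; exact h'
      · right; right; left; exact h'
    · by_cases h2 : s * t₂ = t₂ * s
      · rcases h.key hsP hsc hsz ht₂P ht₁P ht₂c ht₂sq h21ne hww' h2 with h' | h'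
        · right; right; right; left; exact h'
        · right; right; right; right; exact h'
      · exfalso
        have h1' : s * t₁ = z * (t₁ * s) := by
          rcases h.comm s hsP t₁ ht₁P with h' | h'
          · exact absurd h' h1
          · exact h'
        have h2' : s * t₂ = z * (t₂ * s) := by
          rcases h.comm s hsP t₂ ht₂P with h' | h'
          · exact absurd h' h2
          · exact h'
        have hc : (t₁ * t₂) * s = s * (t₁ * t₂) := by
          symm
          calc s * (t₁ * t₂) = (s * t₁) * t₂ := by group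
            _ = (z * (t₁ * s)) * t₂ := by rw [h1']
            _ = z * t₁ * (s * t₂) := by group
            _ = z * t₁ * (z * (t₂ * s)) := by rw [h2']
            _ = z * (t₁ * z) * (t₂ * s) := by group
            _ = z * (z * t₁) * (t₂ * s) := by rw [hz1]
            _ = (z * z) * (t₁ * t₂) * s := by group
            _ = (t₁ * t₂) * s := by rw [h.zsq, one_mul]
        have := (h.cent_elem' hsc hsz (P.mul_mem ht₁P ht₂P) (P.mul_mem ht₁P ht₂P) hc hc).2
        rw [hww] at this
        exact h.zne this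
  refine ⟨t₁, t₂, ht₁sq, ht₂sq, h.conj_ne_one' ht₁c, h.conj_ne_one' ht₂c, hord, ?_⟩
  apply le_antisymm
  · refine hgen.trans ?_
    rw [Subgroup.closure_le]
    rintro s ⟨hsP, hsc⟩
    have m1 : t₁ ∈ Subgroup.closure ({t₁, t₂} : Set L) :=
      Subgroup.subset_closure (Set.mem_insert _ _)
    have m2 : t₂ ∈ Subgroup.closure ({t₁, t₂} : Set L) :=
      Subgroup.subset_closure (Set.mem_insert_of_mem _ rfl)
    have mz : z ∈ Subgroup.closure ({t₁, t₂} : Set L) := by
      rw [← hww]
      exact Subgroup.mul_mem _ (Subgroup.mul_mem _ m1 m2) (Subgroup.mul_mem _ m1 m2)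
    rcases hclaim s hsP hsc with h' | h' | h' | h' | h' <;> rw [SetLike.mem_coe, h']
    · exact mz
    · exact m1
    · exact Subgroup.mul_mem _ mz m1
    · exact m2
    · exact Subgroup.mul_mem _ mz m2
  · rw [Subgroup.closure_le]
    intro s hs
    rcases hs with rfl | hs
    · exact ht₁P
    · rw [Set.mem_singleton_iff] at hs
      rw [hs]; exact ht₂P

end Dat

theorem main {L : Type*} [Group L] [Finite L] [IsSimpleGroup L] (hL : ¬ IsMulCommutative L)
    (z : L) (hz : orderOf z = 2) (R : Sylow 2 L)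
    (hR : (R : Subgroup L) = Subgroup.centralizer ({z} : Set L))
    (hΦ : (frattini ↥(R : Subgroup L)).map (R : Subgroup L).subtype = Subgroup.zpowers z) :
    Nonempty (↥(R : Subgroup L) ≃* DihedralGroup 4) := by
  haveI : Fact (Nat.Prime 2) := ⟨Nat.prime_two⟩
  obtain ⟨P, hP⟩ : ∃ P : Subgroup L, P = (R : Subgroup L) := ⟨_, rfl⟩
  rw [← hP] at hR hΦ ⊢
  have hzsq : z * z = 1 := by rw [← sq, ← hz]; exact pow_orderOf_eq_one z
  have hzne : z ≠ 1 := by intro h; rw [h, orderOf_one] at hz; omega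
  have hcent : ∀ x, x ∈ P ↔ x * z = z * x := by
    intro x
    rw [hR, Subgroup.mem_centralizer_iff]
    constructor
    · intro h; exact (h z rfl).symm
    · intro h y hy; rw [Set.mem_singleton_iff] at hy; subst hy; exact h.symm
  have hpg : IsPGroup 2 ↥P := by rw [hP]; exact R.isPGroup'
  have hfr : ∀ y : ↥P, y ∈ frattini ↥P → (y : L) = 1 ∨ (y : L) = z := by
    intro y hy
    have : (y : L) ∈ (frattini ↥P).map P.subtype := ⟨y, hy, rfl⟩
    rw [hΦ] at this
    exact mem_zpowers_two hzsq this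
  have hcomm : ∀ x ∈ P, ∀ y ∈ P, x * y = y * x ∨ x * y = z * (y * x) := by
    intro x hx y hy
    have h1 : ⁅(⟨x, hx⟩ : ↥P), ⟨y, hy⟩⁆ ∈ frattini ↥P := by
      apply Cfsg.Agent.Helper1.IsPGroup.commutator_le_frattini hpg
      rw [commutator_def]
      exact Subgroup.commutator_mem_commutator (Subgroup.mem_top _) (Subgroup.mem_top _)
    rcases hfr _ h1 with h2 | h2
    · left
      have h3 : x * y * x⁻¹ * y⁻¹ = 1 := h2
      calc x * y = (x * y * x⁻¹ * y⁻¹) * (y * x) := by group
        _ = y * x := by rw [h3, one_mul]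
    · right
      have h3 : x * y * x⁻¹ * y⁻¹ = z := h2
      calc x * y = (x * y * x⁻¹ * y⁻¹) * (y * x) := by group
        _ = z * (y * x) := by rw [h3]
  have hsq : ∀ x ∈ P, x * x = 1 ∨ x * x = z := by
    intro x hx
    have h1 : (⟨x, hx⟩ : ↥P) ^ 2 ∈ frattini ↥P :=
      Cfsg.Agent.Helper1.IsPGroup.pow_mem_frattini hpg _
    rcases hfr _ h1 with h2 | h2
    · left
      have : x ^ 2 = 1 := h2
      rwa [sq] at this
    · right
      have : x ^ 2 = z := h2
      rwa [sq] at this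
  have hnorm : ∀ n : L, (∀ x ∈ P, n * x * n⁻¹ ∈ P) → n * z * n⁻¹ = z := by
    intro n hn
    have hmap : P.map (MulAut.conj n).toMonoidHom = P := by
      apply Subgroup.eq_of_le_of_card_ge
      · rintro _ ⟨x, hx, rfl⟩
        exact hn x hx
      · rw [Subgroup.card_map_of_injective (MulAut.conj n).injective]
    let φ : ↥P ≃* ↥P := ((MulAut.conj n).subgroupMap P).trans (MulEquiv.subgroupCongr hmap)
    have hφ : ∀ y : ↥P, ((φ y : ↥P) : L) = n * y * n⁻¹ := fun y => rfl
    have hchar := Subgroup.characteristic_iff_map_eq.mp (frattini_characteristic (G := ↥P)) φ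
    have hzF : ∃ y : ↥P, y ∈ frattini ↥P ∧ (y : L) = z := by
      have : z ∈ (frattini ↥P).map P.subtype := by rw [hΦ]; exact Subgroup.mem_zpowers z
      obtain ⟨y, hy, hyz⟩ := this
      exact ⟨y, hy, hyz⟩
    obtain ⟨y, hy, hyz⟩ := hzF
    have h1 : φ y ∈ frattini ↥P := by
      rw [← hchar]; exact ⟨y, hy, rfl⟩
    rcases hfr _ h1 with h2 | h2
    · exfalso
      rw [hφ, hyz] at h2
      apply hzne
      calc z = n⁻¹ * (n * z * n⁻¹) * n := by group
        _ = 1 := by rw [h2]; group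
    · rw [hφ, hyz] at h2
      exact h2
  have hdat : Dat P z := ⟨hzsq, hzne, hcent, hcomm, hsq, hnorm⟩
  have hgrun := Cfsg.Agent.Lead.GrunFirst.main R
  have hcomL : commutator L = ⊤ :=
    Cfsg.Agent.Helper2.commutator_eq_top_of_simple_nonabelian inferInstance hL
  rw [hcomL, inf_top_eq, ← hP] at hgrun
  have hNP : Subgroup.normalizer (P : Set L) = P := by
    apply le_antisymm
    · intro n hn
      rw [hcent]
      have := hnorm n (fun x hx => (Subgroup.mem_normalizer_iff.mp hn x).mp hx)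
      calc n * z = (n * z * n⁻¹) * n := by group
        _ = z * n := by rw [this]
    · exact Subgroup.le_normalizer
  have hcomP : ⁅P, P⁆ ≤ Subgroup.zpowers z := by
    rw [Subgroup.commutator_le]
    intro a ha b hb
    rcases hcomm a ha b hb with h1 | h1
    · have : ⁅a, b⁆ = 1 := by rw [commutatorElement_eq_one_iff_mul_comm]; exact h1
      rw [this]; exact Subgroup.one_mem _
    · have : ⁅a, b⁆ = z := by
        rw [commutatorElement_def]
        calc a * b * a⁻¹ * b⁻¹ = (z * (b * a)) * a⁻¹ * b⁻¹ := by rw [h1]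
          _ = z := by group
      rw [this]; exact Subgroup.mem_zpowers z
  have hzin : z ∈ Subgroup.closure {t | t ∈ P ∧ ∃ g : L, t = g * z * g⁻¹} :=
    Subgroup.subset_closure ⟨hdat.zmem, 1, by group⟩
  have hgen : P ≤ Subgroup.closure {t | t ∈ P ∧ ∃ g : L, t = g * z * g⁻¹} := by
    refine hgrun.le.trans ?_
    apply sup_le
    · rw [hNP]
      exact inf_le_right.trans (hcomP.trans (Subgroup.zpowers_le.mpr hzin))
    · apply iSup_le
      intro g
      rintro x ⟨hxP, y, hy, rfl⟩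
      rcases mem_zpowers_two hzsq (hcomP hy) with h1 | h1
      · rw [h1, map_one]; exact Subgroup.one_mem _
      · rw [h1] at hxP ⊢
        exact Subgroup.subset_closure ⟨hxP, g, rfl⟩
  have hex : ∃ t : L, t ∈ P ∧ (∃ g : L, t = g * z * g⁻¹) ∧ t ≠ z := by
    by_contra hcon
    push Not at hcon
    have hPle : P ≤ Subgroup.zpowers z := by
      refine hgen.trans ?_
      rw [Subgroup.closure_le]
      rintro t ⟨htP, htc⟩
      rw [SetLike.mem_coe, hcon t htP htc]
      exact Subgroup.mem_zpowers z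
    have hFtop : frattini ↥P = ⊤ := by
      rw [eq_top_iff]
      intro y _
      have : (y : L) ∈ (frattini ↥P).map P.subtype := by rw [hΦ]; exact hPle y.2
      obtain ⟨y', hy', hyy⟩ := this
      have : y' = y := Subtype.ext hyy
      rw [← this]; exact hy'
    rcases eq_top_or_exists_le_coatom (⊥ : Subgroup ↥P) with h1 | ⟨M, hM, -⟩
    · have : (⟨z, hdat.zmem⟩ : ↥P) ∈ (⊥ : Subgroup ↥P) := by rw [h1]; exact Subgroup.mem_top _
      rw [Subgroup.mem_bot] at this
      exact hzne (congrArg Subtype.val this)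
    · have := frattini_le_coatom hM
      rw [hFtop, top_le_iff] at this
      exact hM.1 this
  obtain ⟨t₁, t₂, h1, h2, h3, h4, hord, hPeq⟩ := hdat.two_gen hgen hex
  obtain ⟨e⟩ := Cfsg.Agent.Helper2.closure_pair_invol_equiv_dihedral h1 h2 h3 h4
  rw [hord] at e
  exact ⟨(MulEquiv.subgroupCongr hPeq).trans e⟩

end Cfsg.Agent.Lead.CSD8
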