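import Mathlib
import Cfsg.Agent.Lead.CenterIdxD

set_option autoImplicit false

/-! Uniqueness of the inverting automorphism on the centre, and the odd case. -/

namespace Cfsg.Agent.Lead.CenterIdx

open Cfsg Cfsg.FusionSystem

variable {Ω : Type*} [Group Ω] {S : Subgroup Ω}

/-- The automorphisms of `S` fixing the centre pointwise. -/
def fixZ (S : Subgroup Ω) : Subgroup (MulAut ↥S) where
  carrier := {γ | ∀ x : ↥S, (x : Ω) ∈ ZS S → γ x = x}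
  one_mem' := fun _ _ => rfl
  mul_mem' := by
    intro a b ha hb x hx
    rw [MulAut.mul_apply, hb x hx, ha x hx]
  inv_mem' := by
    intro a ha x hx
    have := congrArg (a⁻¹ : MulAut ↥S) (ha x hx)
    rw [MulAut.inv_apply_self] at this
    exact this.symm

lemma mem_fixZ {γ : MulAut ↥S} : γ ∈ fixZ S ↔ ∀ x : ↥S, (x : Ω) ∈ ZS S → γ x = x := Iff.rfl

lemma conj_mem_fixZ (g : ↥S) : MulAut.conj g ∈ fixZ S := by
  intro x hx
  rw [mem_ZS] at hx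
  apply Subtype.ext
  show (g : Ω) * x * (g : Ω)⁻¹ = x
  rw [hx.2 g g.2, mul_inv_cancel_right]

lemma conj_fixZ (β : MulAut ↥S) {γ : MulAut ↥S} (hγ : γ ∈ fixZ S) : β * γ * β⁻¹ ∈ fixZ S := by
  intro x hx
  rw [MulAut.mul_apply, MulAut.mul_apply, hγ _ (aut_mem_ZS β⁻¹ hx), MulAut.apply_inv_self]

/-- `τ` inverts `z` and acts trivially on the centre modulo `⟨z⟩`. -/
structure IsTau (F : FusionSystem S) (z : ↥S) (τ : MulAut ↥S) : Prop where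
  mem : τ ∈ F.autGroup S
  inv : τ z = z⁻¹
  mod : ∀ x : ↥S, (x : Ω) ∈ ZS S → x⁻¹ * τ x ∈ Subgroup.zpowers z

lemma IsTau.inv_of_mem {F : FusionSystem S} {z : ↥S} {τ : MulAut ↥S} (h : IsTau F z τ) {c : ↥S}
    (hc : c ∈ Subgroup.zpowers z) : τ c = c⁻¹ := by
  obtain ⟨k, rfl⟩ := Subgroup.mem_zpowers_iff.mp hc
  rw [map_zpow, h.inv, inv_zpow]

variable [Finite S] {p : ℕ} [hp : Fact p.Prime]

/-- Two inverting automorphisms agree on the centre. -/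
lemma IsTau.unique {F : FusionSystem S} (hF : F.IsSaturated p) {z : ↥S} (hzZ : (z : Ω) ∈ ZS S)
    (hzp : z ^ p = 1) {τ₁ τ₂ : MulAut ↥S} (h₁ : IsTau F z τ₁) (h₂ : IsTau F z τ₂) :
    ∀ x : ↥S, (x : Ω) ∈ ZS S → τ₁ x = τ₂ x := by
  have hCZ : ∀ c : ↥S, c ∈ Subgroup.zpowers z → (c : Ω) ∈ ZS S := by
    intro c hc
    obtain ⟨k, rfl⟩ := Subgroup.mem_zpowers_iff.mp hc
    rw [Subgroup.coe_zpow]
    exact Subgroup.zpow_mem _ hzZ k
  have hCp : ∀ c : ↥S, c ∈ Subgroup.zpowers z → c ^ p = 1 := by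
    intro c hc
    obtain ⟨k, rfl⟩ := Subgroup.mem_zpowers_iff.mp hc
    rw [← zpow_natCast, ← zpow_mul, mul_comm, zpow_mul, zpow_natCast, hzp, one_zpow]
  have hδC : ∀ c : ↥S, c ∈ Subgroup.zpowers z → (τ₁ * τ₂) c = c := by
    intro c hc
    rw [MulAut.mul_apply, h₂.inv_of_mem hc, h₁.inv_of_mem (Subgroup.inv_mem _ hc), inv_inv]
  have hδ : ∀ x : ↥S, (x : Ω) ∈ ZS S →
      (τ₁ * τ₂) x = x * ((x⁻¹ * τ₁ x) * (x⁻¹ * τ₂ x)⁻¹) := by
    intro x hx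
    have e2 : τ₂ x = x * (x⁻¹ * τ₂ x) := by rw [mul_inv_cancel_left]
    rw [MulAut.mul_apply]
    conv_lhs => rw [e2]
    rw [map_mul, h₁.inv_of_mem (h₂.mod x hx)]
    have e1 : τ₁ x = x * (x⁻¹ * τ₁ x) := by rw [mul_inv_cancel_left]
    conv_lhs => rw [e1]
    rw [mul_assoc]
  have hpow : ∀ x : ↥S, (x : Ω) ∈ ZS S → ∀ n : ℕ,
      ((τ₁ * τ₂) ^ n) x = x * ((x⁻¹ * τ₁ x) * (x⁻¹ * τ₂ x)⁻¹) ^ n := by
    intro x hx n
    have hd : (x⁻¹ * τ₁ x) * (x⁻¹ * τ₂ x)⁻¹ ∈ Subgroup.zpowers z :=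
      Subgroup.mul_mem _ (h₁.mod x hx) (Subgroup.inv_mem _ (h₂.mod x hx))
    induction n with
    | zero => simp
    | succ n ih =>
      rw [pow_succ', MulAut.mul_apply, ih, map_mul, hδ x hx,
        hδC _ (Subgroup.pow_mem _ hd n), pow_succ', mul_assoc]
  have hmem : (τ₁ * τ₂) ^ p ∈ fixZ S := by
    intro x hx
    have hd : (x⁻¹ * τ₁ x) * (x⁻¹ * τ₂ x)⁻¹ ∈ Subgroup.zpowers z :=
      Subgroup.mul_mem _ (h₁.mod x hx) (Subgroup.inv_mem _ (h₂.mod x hx))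
    rw [hpow x hx p, hCp _ hd, mul_one]
  have hmem' : τ₁ * τ₂ ∈ fixZ S :=
    mem_of_pow_mem F hF (fixZ S) conj_mem_fixZ (fun β _ γ hγ => conj_fixZ β hγ)
      ((F.autGroup S).mul_mem h₁.mem h₂.mem) hmem
  intro x hx
  have h3 := hmem' x hx
  rw [hδ x hx] at h3
  have h4 : (x⁻¹ * τ₁ x) * (x⁻¹ * τ₂ x)⁻¹ = 1 := by
    have := mul_left_cancel (a := x) (b := (x⁻¹ * τ₁ x) * (x⁻¹ * τ₂ x)⁻¹) (c := 1)
      (by rw [h3, mul_one])
    exact this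
  have h5 : x⁻¹ * τ₁ x = x⁻¹ * τ₂ x := by
    rw [mul_inv_eq_one] at h4
    exact h4
  exact mul_left_cancel h5

end Cfsg.Agent.Lead.CenterIdx
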