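import Mathlib
import Cfsg.Agent.Lead.CenterIdxE

set_option autoImplicit false

/-! The odd case: `P₀ = 1`. -/

namespace Cfsg.Agent.Lead.CenterIdx

open Cfsg Cfsg.FusionSystem

variable {Ω : Type*} [Group Ω] {S : Subgroup Ω}

lemma mem_zpowers_coe {y w : ↥S} :
    y ∈ Subgroup.zpowers w ↔ (y : Ω) ∈ Subgroup.zpowers (w : Ω) := by
  simp only [Subgroup.mem_zpowers_iff, Subtype.ext_iff, Subgroup.coe_zpow]

variable [Finite S] {p : ℕ} [hp : Fact p.Prime] {F : FusionSystem S} {P : Subgroup Ω} {s : Ω}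
  {u : MulAut ↥P} {z : ↥P} {g : MulAut ↥P}

/-- The element `z` as an element of `S`. -/
def EData.zS (ed : EData p F P s u z g) : ↥S := ⟨(z : Ω), ed.setup.hPS z.2⟩

lemma EData.zS_coe (ed : EData p F P s u z g) : (ed.zS : Ω) = (z : Ω) := rfl

lemma EData.zS_pow (ed : EData p F P s u z g) : ed.zS ^ p = 1 := by
  apply Subtype.ext
  rw [Subgroup.coe_pow, ed.zS_coe, ed.z_pow]
  rfl

lemma EData.zS_ne_one (ed : EData p F P s u z g) : ed.zS ≠ 1 := by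
  intro h
  exact ed.z_ne_one (congrArg Subtype.val h)

/-- Commutators of `S` lie in `⟨z⟩`. -/
lemma EData.comm_mem (ed : EData p F P s u z g) (a b : ↥S) :
    a * b * a⁻¹ * b⁻¹ ∈ Subgroup.zpowers ed.zS := by
  rw [mem_zpowers_coe]
  exact ed.comm a a.2 b b.2

/-- Automorphisms of `S` preserve `⟨z⟩`. -/
lemma EData.aut_z_mem (ed : EData p F P s u z g) (γ : MulAut ↥S) :
    γ ed.zS ∈ Subgroup.zpowers ed.zS := by
  obtain ⟨a, ha, b, hb, hab⟩ := ed.hzc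
  have h1 : ed.zS = (⟨a, ha⟩ : ↥S) * ⟨b, hb⟩ * (⟨a, ha⟩ : ↥S)⁻¹ * (⟨b, hb⟩ : ↥S)⁻¹ :=
    Subtype.ext hab
  have h2 : γ ed.zS = γ ⟨a, ha⟩ * γ ⟨b, hb⟩ * (γ ⟨a, ha⟩)⁻¹ * (γ ⟨b, hb⟩)⁻¹ := by
    rw [h1, map_mul, map_mul, map_mul, map_inv, map_inv]
  rw [h2]
  exact ed.comm_mem _ _

lemma EData.aut_mem (ed : EData p F P s u z g) (γ : MulAut ↥S) {c : ↥S}
    (hc : c ∈ Subgroup.zpowers ed.zS) : γ c ∈ Subgroup.zpowers ed.zS := by
  obtain ⟨k, rfl⟩ := Subgroup.mem_zpowers_iff.mp hc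
  rw [map_zpow]
  exact Subgroup.zpow_mem _ (ed.aut_z_mem γ) k

/-- The shape of `τ` on the centre. -/
lemma EData.tau_apply (ed : EData p F P s u z g) {τ : MulAut ↥S}
    (hτz : τ ed.zS = ed.zS⁻¹) (hτfix : ∀ x : ↥S, (x : Ω) ∈ P0 P u g → τ x = x)
    {x : ↥S} (hx : (x : Ω) ∈ ZS S) :
    ∃ i : ℕ, ((x * ed.zS ^ i : ↥S) : Ω) ∈ P0 P u g ∧ τ x = x * ed.zS ^ i * ed.zS ^ i := by
  obtain ⟨i, hi⟩ := ed.exists_pow_mul_mem_P0 hx
  have hw : ((x * ed.zS ^ i : ↥S) : Ω) ∈ P0 P u g := by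
    rw [Subgroup.coe_mul, Subgroup.coe_pow]
    exact hi
  refine ⟨i, hw, ?_⟩
  have h1 := hτfix _ hw
  rw [map_mul, map_pow, hτz, inv_pow] at h1
  rw [← h1, inv_mul_cancel_right]

lemma EData.isTau (ed : EData p F P s u z g) {τ : MulAut ↥S} (hτ : τ ∈ F.autGroup S)
    (hτz : τ ed.zS = ed.zS⁻¹) (hτfix : ∀ x : ↥S, (x : Ω) ∈ P0 P u g → τ x = x) :
    IsTau F ed.zS τ where
  mem := hτ
  inv := hτz
  mod := by
    intro x hx
    obtain ⟨i, -, h2⟩ := ed.tau_apply hτz hτfix hx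
    rw [h2, mul_assoc, inv_mul_cancel_left]
    exact Subgroup.mul_mem _ (Subgroup.pow_mem _ (Subgroup.mem_zpowers _) i)
      (Subgroup.pow_mem _ (Subgroup.mem_zpowers _) i)

lemma EData.tau_fix_iff (ed : EData p F P s u z g) (hp2 : p ≠ 2) {τ : MulAut ↥S}
    (hτz : τ ed.zS = ed.zS⁻¹) (hτfix : ∀ x : ↥S, (x : Ω) ∈ P0 P u g → τ x = x)
    {x : ↥S} (hx : (x : Ω) ∈ ZS S) : τ x = x ↔ (x : Ω) ∈ P0 P u g := by
  constructor
  · intro h
    obtain ⟨i, h1, h2⟩ := ed.tau_apply hτz hτfix hx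
    rw [h, mul_assoc, left_eq_mul, ← pow_add] at h2
    have ho : orderOf ed.zS = p := orderOf_eq_prime ed.zS_pow ed.zS_ne_one
    have hdvd : p ∣ i + i := by
      rw [← ho]; exact orderOf_dvd_of_pow_eq_one h2
    have hcop : Nat.Coprime p 2 := by
      rw [Nat.coprime_primes hp.out Nat.prime_two]; exact hp2
    have hdvd' : p ∣ i := by
      rw [← two_mul] at hdvd
      exact hcop.dvd_of_dvd_mul_left hdvd
    obtain ⟨k, rfl⟩ := hdvd'
    rw [pow_mul, ed.zS_pow, one_pow, mul_one] at h1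
    exact h1
  · exact hτfix x

/-- In the odd case, `P₀ = 1`. -/
theorem EData.P0_eq_bot (ed : EData p F P s u z g) (hS : IsPGroup p S) (hF : F.IsSaturated p)
    (hcore : F.core = ⊥) (hZ : (Subgroup.center ↥S).index ≤ p ^ 2) (hp2 : p ≠ 2) :
    P0 P u g = ⊥ := by
  obtain ⟨τ, hτ, hτz', hτfix⟩ := ed.exists_tau
  have hτz : τ ed.zS = ed.zS⁻¹ := Subtype.ext hτz'
  have hT := ed.isTau hτ hτz hτfix
  have hzZ : (ed.zS : Ω) ∈ ZS S := ed.hzZ
  apply eq_bot_of_invariant hS F hF hcore (P0 P u g) (ed.P0_le_ZS.trans ZS_le)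
  · intro β hβ x hx
    have hxZ : (x : Ω) ∈ ZS S := ed.P0_le_ZS hx
    have hT' : IsTau F ed.zS (β * τ * β⁻¹) :=
      { mem := (F.autGroup S).mul_mem ((F.autGroup S).mul_mem hβ hτ) ((F.autGroup S).inv_mem hβ)
        inv := by
          rw [MulAut.mul_apply, MulAut.mul_apply, hT.inv_of_mem (ed.aut_z_mem β⁻¹), map_inv,
            MulAut.apply_inv_self]
        mod := by
          intro y hy
          have h1 := hT.mod (β⁻¹ y) (aut_mem_ZS β⁻¹ hy)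
          have h2 := ed.aut_mem β h1
          rw [map_mul, map_inv, MulAut.apply_inv_self] at h2
          exact h2 }
    have hu := IsTau.unique hF hzZ ed.zS_pow hT' hT (β x) (aut_mem_ZS β hxZ)
    rw [← ed.tau_fix_iff hp2 hτz hτfix (aut_mem_ZS β hxZ), ← hu, MulAut.mul_apply,
      MulAut.mul_apply, MulAut.inv_apply_self, hτfix x hx]
  · intro P' hP'
    obtain ⟨s', u', z', g', ed'⟩ := exists_EData hS F hF hZ hP'
    obtain ⟨τ', hτ', hτz'', hτfix'⟩ := ed'.exists_tau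
    have hτz2 : τ' ed'.zS = ed'.zS⁻¹ := Subtype.ext hτz''
    have hT2 := ed'.isTau hτ' hτz2 hτfix'
    have hmem1 : ed'.zS ∈ Subgroup.zpowers ed.zS := by
      obtain ⟨a, ha, b, hb, hab⟩ := ed'.hzc
      have h1 : ed'.zS = (⟨a, ha⟩ : ↥S) * ⟨b, hb⟩ * (⟨a, ha⟩ : ↥S)⁻¹ * (⟨b, hb⟩ : ↥S)⁻¹ :=
        Subtype.ext hab
      have h2 := ed.comm_mem ⟨a, ha⟩ ⟨b, hb⟩
      rwa [← h1] at h2
    have hmem2 : ed.zS ∈ Subgroup.zpowers ed'.zS := by
      obtain ⟨a, ha, b, hb, hab⟩ := ed.hzc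
      have h1 : ed.zS = (⟨a, ha⟩ : ↥S) * ⟨b, hb⟩ * (⟨a, ha⟩ : ↥S)⁻¹ * (⟨b, hb⟩ : ↥S)⁻¹ :=
        Subtype.ext hab
      have h2 := ed'.comm_mem ⟨a, ha⟩ ⟨b, hb⟩
      rwa [← h1] at h2
    have hzeq : Subgroup.zpowers ed'.zS = Subgroup.zpowers ed.zS :=
      le_antisymm (Subgroup.zpowers_le.mpr hmem1) (Subgroup.zpowers_le.mpr hmem2)
    have hT2' : IsTau F ed.zS τ' :=
      { mem := hτ'
        inv := hT2.inv_of_mem hmem2
        mod := by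
          intro y hy
          rw [← hzeq]
          exact hT2.mod y hy }
    have hu := IsTau.unique hF hzZ ed.zS_pow hT hT2'
    have hQ : P0 P u g = P0 P' u' g' := by
      ext x
      constructor
      · intro hx
        have hxZ := ed.P0_le_ZS hx
        have h1 := (ed.tau_fix_iff hp2 hτz hτfix (x := ⟨x, ZS_le hxZ⟩) hxZ).mpr hx
        rw [hu _ hxZ] at h1
        exact (ed'.tau_fix_iff hp2 hτz2 hτfix' (x := ⟨x, ZS_le hxZ⟩) hxZ).mp h1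
      · intro hx
        have hxZ := ed'.P0_le_ZS hx
        have h1 := (ed'.tau_fix_iff hp2 hτz2 hτfix' (x := ⟨x, ZS_le hxZ⟩) hxZ).mpr hx
        rw [← hu _ hxZ] at h1
        exact (ed.tau_fix_iff hp2 hτz hτfix (x := ⟨x, ZS_le hxZ⟩) hxZ).mp h1
    rw [hQ]
    exact ⟨ed'.P0_le, fun α hα x hx => ed'.P0_inv hα hx⟩

end Cfsg.Agent.Lead.CenterIdx
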