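import Mathlib
import Cfsg.Prelude.Def_Transfer
import Cfsg.Prelude.Def_TwoFusion
import Cfsg.Agent.Lead.EssPSq5
import Cfsg.Agent.Lead.SylowLemmas
import Cfsg.Agent.Helper1.Extraspecial
import Cfsg.Agent.Helper1.Card

set_option autoImplicit false

/-!
Extraspecial groups of order `p³` and exponent `p²` (`p` odd): the elements of order dividing `p`
form a subgroup of order `p²` that is self-centralizing.
-/

namespace Cfsg.Agent.Lead.ExtraPCube

open Cfsg
open scoped commutatorElement

universe u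

variable {Q : Type u} [Group Q] [Finite Q] {p : ℕ} [hp : Fact p.Prime]

theorem pow_mem_center (hE : IsExtraspecial p Q) (x : Q) : x ^ p ∈ Subgroup.center Q := by
  rw [← hE.1.2.1]
  exact Cfsg.Agent.Helper1.IsPGroup.pow_mem_frattini hE.1.1 x

theorem mul_pow_p (hp2 : p ≠ 2) (hE : IsExtraspecial p Q) (x y : Q) :
    (x * y) ^ p = x ^ p * y ^ p := by
  have h2 := Cfsg.Agent.Helper1.class_two_of_special hE.1
  apply Cfsg.Agent.Helper1.mul_pow_prime_of_class_two hp2 h2
  apply Cfsg.Agent.Helper1.special_center_pow hE.1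
  rw [← hE.1.2.2]
  exact Subgroup.commutator_mem_commutator (Subgroup.mem_top y) (Subgroup.mem_top x)

/-- the `p`-power homomorphism -/
def powHom (hp2 : p ≠ 2) (hE : IsExtraspecial p Q) : Q →* Subgroup.center Q where
  toFun x := ⟨x ^ p, pow_mem_center hE x⟩
  map_one' := by apply Subtype.ext; simp
  map_mul' x y := by apply Subtype.ext; exact mul_pow_p hp2 hE x y

/-- the subgroup of elements of order dividing `p` -/
def om (hp2 : p ≠ 2) (hE : IsExtraspecial p Q) : Subgroup Q := (powHom hp2 hE).ker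

theorem mem_om (hp2 : p ≠ 2) (hE : IsExtraspecial p Q) (x : Q) : x ∈ om hp2 hE ↔ x ^ p = 1 := by
  rw [om, MonoidHom.mem_ker]
  constructor
  · intro h
    exact congrArg Subtype.val h
  · intro h
    exact Subtype.ext h

theorem center_le_om (hp2 : p ≠ 2) (hE : IsExtraspecial p Q) : Subgroup.center Q ≤ om hp2 hE := by
  intro z hz
  rw [mem_om]
  exact Cfsg.Agent.Helper1.special_center_pow hE.1 z hz

theorem card_om (hp2 : p ≠ 2) (hE : IsExtraspecial p Q) (hcard : Nat.card Q = p ^ 3)
    (hexp : Monoid.exponent Q = p ^ 2) : Nat.card (om hp2 hE) = p ^ 2 := by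
  have hex : ∃ x₀ : Q, x₀ ^ p ≠ 1 := by
    by_contra hcon
    push Not at hcon
    have h1 : Monoid.exponent Q ∣ p := Monoid.exponent_dvd_of_forall_pow_eq_one hcon
    rw [hexp] at h1
    have h2 := Nat.le_of_dvd hp.out.pos h1
    have h3 := hp.out.two_le
    nlinarith
  obtain ⟨x₀, hx₀⟩ := hex
  haveI : Fact (Nat.card (Subgroup.center Q)).Prime := ⟨hE.2 ▸ hp.out⟩
  have hrange : (powHom hp2 hE).range = ⊤ := by
    rcases Subgroup.eq_bot_or_eq_top_of_prime_card (powHom hp2 hE).range with h | h
    · exfalso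
      apply hx₀
      have : powHom hp2 hE x₀ ∈ (powHom hp2 hE).range := ⟨x₀, rfl⟩
      rw [h, Subgroup.mem_bot] at this
      exact congrArg Subtype.val this
    · exact h
  have hidx : (om hp2 hE).index = p := by
    rw [om, Subgroup.index_ker, hrange, Subgroup.card_top, hE.2]
  have := Subgroup.card_mul_index (om hp2 hE)
  rw [hidx, hcard] at this
  have hpos := hp.out.pos
  have h3 : p ^ 3 = p ^ 2 * p := by ring
  rw [h3] at this
  exact Nat.eq_of_mul_eq_mul_right hpos this

theorem mem_om_of_centralizes (hp2 : p ≠ 2) (hE : IsExtraspecial p Q) (hcard : Nat.card Q = p ^ 3)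
    (hexp : Monoid.exponent Q = p ^ 2) (y : Q) (hy : ∀ v ∈ om hp2 hE, y * v = v * y) :
    y ∈ om hp2 hE := by
  by_contra hyn
  apply hyn
  apply center_le_om hp2 hE
  have hle : om hp2 hE ≤ Subgroup.centralizer {y} := by
    intro v hv
    rw [Subgroup.mem_centralizer_singleton_iff]
    exact (hy v hv).symm
  have hyC : y ∈ Subgroup.centralizer {y} := by
    rw [Subgroup.mem_centralizer_singleton_iff]
  have hdvd1 : Nat.card (om hp2 hE) ∣ Nat.card (Subgroup.centralizer {y}) :=
    Subgroup.card_dvd_of_le hle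
  have hdvd2 : Nat.card (Subgroup.centralizer {y}) ∣ p ^ 3 := by
    rw [← hcard]; exact Subgroup.card_subgroup_dvd_card _
  obtain ⟨k, hk3, hk⟩ := (Nat.dvd_prime_pow hp.out).1 hdvd2
  rw [card_om hp2 hE hcard hexp, hk] at hdvd1
  have hk2 : 2 ≤ k := (Nat.pow_dvd_pow_iff_le_right hp.out.one_lt).1 hdvd1
  have hkne : k ≠ 2 := by
    intro h2
    have : om hp2 hE = Subgroup.centralizer {y} := by
      apply Subgroup.eq_of_le_of_card_ge hle
      rw [card_om hp2 hE hcard hexp, hk, h2]
    rw [this] at hyn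
    exact hyn hyC
  have hk3' : k = 3 := by omega
  have htop : Subgroup.centralizer {y} = ⊤ := by
    rw [← Subgroup.card_eq_iff_eq_top, hk, hk3', hcard]
  rw [Subgroup.mem_center_iff]
  intro g
  have : g ∈ Subgroup.centralizer {y} := by rw [htop]; exact Subgroup.mem_top g
  rw [Subgroup.mem_centralizer_singleton_iff] at this
  exact this

theorem exists_not_mem_om (hp2 : p ≠ 2) (hE : IsExtraspecial p Q) (hcard : Nat.card Q = p ^ 3)
    (hexp : Monoid.exponent Q = p ^ 2) : ∃ y : Q, y ∉ om hp2 hE := by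
  by_contra hcon
  push Not at hcon
  have htop : om hp2 hE = ⊤ := by
    ext x; simp [hcon x]
  have := card_om hp2 hE hcard hexp
  rw [htop, Subgroup.card_top, hcard] at this
  have h2 := hp.out.two_le
  have : p ^ 3 = p ^ 2 * p := by ring
  nlinarith

end Cfsg.Agent.Lead.ExtraPCube
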