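import Mathlib
import Cfsg.Agent.Lead.CenterIdxF
import Cfsg.Agent.Lead.PCubeExtra
import Cfsg.Agent.Lead.ExtraPCube

set_option autoImplicit false

/-! Consequences of `P₀ = 1`: order `p³`, extraspecial, exponent `p` for odd `p`. -/

namespace Cfsg.Agent.Lead.CenterIdx

open Cfsg Cfsg.FusionSystem

universe u

variable {Ω : Type u} [Group Ω] {S : Subgroup Ω}

variable [Finite S] {p : ℕ} [hp : Fact p.Prime] {F : FusionSystem S} {P : Subgroup Ω} {s : Ω}
  {u : MulAut ↥P} {z : ↥P} {g : MulAut ↥P}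

lemma EData.ZS_eq (ed : EData p F P s u z g) (h0 : P0 P u g = ⊥) :
    ZS S = Subgroup.zpowers (z : Ω) := by
  apply le_antisymm
  · intro x hx
    obtain ⟨i, hi⟩ := ed.exists_pow_mul_mem_P0 hx
    rw [h0, Subgroup.mem_bot] at hi
    have : x = ((z : Ω) ^ i)⁻¹ := eq_inv_of_mul_eq_one_left hi
    rw [this]
    exact Subgroup.inv_mem _ (Subgroup.pow_mem _ (Subgroup.mem_zpowers _) i)
  · rw [Subgroup.zpowers_le]
    exact ed.hzZ

lemma EData.card_center (ed : EData p F P s u z g) (h0 : P0 P u g = ⊥) :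
    Nat.card (Subgroup.center ↥S) = p := by
  rw [← ZS_subgroupOf, Cfsg.Agent.Lead.card_subgroupOf_of_le ZS_le, ed.ZS_eq h0,
    Nat.card_zpowers, ed.orderOf_z]

lemma EData.card_S (ed : EData p F P s u z g) (hS : IsPGroup p S) (h0 : P0 P u g = ⊥) :
    Nat.card S = p ^ 3 := by
  have h1 := Subgroup.card_mul_index (Subgroup.center ↥S)
  rw [ed.card_center h0, (ed.setup.index hS).2.2] at h1
  rw [← h1]
  ring

lemma EData.not_comm (ed : EData p F P s u z g) (hS : IsPGroup p S) :
    ∃ a b : ↥S, a * b ≠ b * a := by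
  by_contra hcon
  push Not at hcon
  have h1 : Subgroup.center ↥S = ⊤ := by
    rw [eq_top_iff]
    intro x _
    rw [Subgroup.mem_center_iff]
    intro y
    exact hcon y x
  have h2 := (ed.setup.index hS).2.2
  rw [h1, Subgroup.index_top] at h2
  have := hp.out.one_lt
  nlinarith

lemma EData.isExtraspecial (ed : EData p F P s u z g) (hS : IsPGroup p S) (h0 : P0 P u g = ⊥) :
    IsExtraspecial p ↥S :=
  Cfsg.Agent.Lead.PCubeExtra.isExtraspecial_of_card_cube (ed.card_S hS h0) (ed.not_comm hS)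

/-- When `P₀ = 1`, the essential subgroup has exponent `p`. -/
lemma EData.pow_eq_one (ed : EData p F P s u z g) (h0 : P0 P u g = ⊥) {x : Ω} (hx : x ∈ P) :
    x ^ p = 1 := by
  obtain ⟨i, j, hij⟩ := ed.exists_decomp hx
  rw [h0, Subgroup.mem_bot, mul_assoc] at hij
  have h1 : x = ((z : Ω) ^ i * ((g z : ↥P) : Ω) ^ j)⁻¹ := eq_inv_of_mul_eq_one_left hij
  have hc : Commute ((z : Ω) ^ i) (((g z : ↥P) : Ω) ^ j) := by
    have := ed.ctx.hab (z ^ i) ((g z) ^ j)
    have h2 := congrArg Subtype.val this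
    rw [Subgroup.coe_mul, Subgroup.coe_mul, Subgroup.coe_pow, Subgroup.coe_pow] at h2
    exact h2
  have hgz : ((g z : ↥P) : Ω) ^ p = 1 := by
    have := congrArg Subtype.val ed.res.gz_pow
    rwa [Subgroup.coe_pow] at this
  rw [h1, inv_pow, hc.mul_pow, ← pow_mul, ← pow_mul, mul_comm i, mul_comm j, pow_mul, pow_mul,
    ed.z_pow, hgz, one_pow, one_pow, mul_one, inv_one]

lemma EData.card_P (ed : EData p F P s u z g) (hS : IsPGroup p S) (h0 : P0 P u g = ⊥) :
    Nat.card (P.subgroupOf S) = p ^ 2 := by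
  have h1 := Subgroup.card_mul_index (P.subgroupOf S)
  rw [(ed.setup.index hS).1, ed.card_S hS h0] at h1
  have hpos := hp.out.pos
  have h3 : p ^ 3 = p ^ 2 * p := by ring
  rw [h3] at h1
  exact Nat.eq_of_mul_eq_mul_right hpos h1

/-- The order of the subgroup of elements of order dividing `p`. -/
theorem card_om' {Q : Type u} [Group Q] [Finite Q] (hp2 : p ≠ 2) (hE : IsExtraspecial p Q)
    (hcard : Nat.card Q = p ^ 3) (hex : ∃ x₀ : Q, x₀ ^ p ≠ 1) :
    Nat.card (Cfsg.Agent.Lead.ExtraPCube.om hp2 hE) = p ^ 2 := by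
  obtain ⟨x₀, hx₀⟩ := hex
  haveI : Fact (Nat.card (Subgroup.center Q)).Prime := ⟨hE.2 ▸ hp.out⟩
  have hrange : (Cfsg.Agent.Lead.ExtraPCube.powHom hp2 hE).range = ⊤ := by
    rcases Subgroup.eq_bot_or_eq_top_of_prime_card
      (Cfsg.Agent.Lead.ExtraPCube.powHom hp2 hE).range with h | h
    · exfalso
      apply hx₀
      have : Cfsg.Agent.Lead.ExtraPCube.powHom hp2 hE x₀ ∈
          (Cfsg.Agent.Lead.ExtraPCube.powHom hp2 hE).range := ⟨x₀, rfl⟩
      rw [h, Subgroup.mem_bot] at this
      exact congrArg Subtype.val this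
    · exact h
  have hidx : (Cfsg.Agent.Lead.ExtraPCube.om hp2 hE).index = p := by
    rw [Cfsg.Agent.Lead.ExtraPCube.om, Subgroup.index_ker, hrange, Subgroup.card_top, hE.2]
  have := Subgroup.card_mul_index (Cfsg.Agent.Lead.ExtraPCube.om hp2 hE)
  rw [hidx, hcard] at this
  have hpos := hp.out.pos
  have h3 : p ^ 3 = p ^ 2 * p := by ring
  rw [h3] at this
  exact Nat.eq_of_mul_eq_mul_right hpos this

/-- In the odd case `S` has exponent `p`. -/
theorem EData.exponent (ed : EData p F P s u z g) (hS : IsPGroup p S) (hF : F.IsSaturated p)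
    (hcore : F.core = ⊥) (hZ : (Subgroup.center ↥S).index ≤ p ^ 2) (hp2 : p ≠ 2) :
    Monoid.exponent ↥S = p := by
  have h0 := ed.P0_eq_bot hS hF hcore hZ hp2
  have hE := ed.isExtraspecial hS h0
  have hcard := ed.card_S hS h0
  have hall : ∀ x : ↥S, x ^ p = 1 := by
    by_contra hcon
    push Not at hcon
    have hom := card_om' hp2 hE hcard hcon
    -- every essential subgroup equals `om`
    have hPom : ∀ P' : Subgroup Ω, F.IsEssential p P' →
        P'.subgroupOf S = Cfsg.Agent.Lead.ExtraPCube.om hp2 hE := by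
      intro P' hP'
      obtain ⟨s', u', z', g', ed'⟩ := exists_EData hS F hF hZ hP'
      have h0' := ed'.P0_eq_bot hS hF hcore hZ hp2
      apply Subgroup.eq_of_le_of_card_ge
      · intro x hx
        rw [Subgroup.mem_subgroupOf] at hx
        rw [Cfsg.Agent.Lead.ExtraPCube.mem_om]
        apply Subtype.ext
        rw [Subgroup.coe_pow]
        exact ed'.pow_eq_one h0' hx
      · rw [hom, ed'.card_P hS h0']
    obtain ⟨P₁, hP₁⟩ := exists_essential hS F hF hcore (by
      intro hbot
      have := ed.z_ne_one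
      apply this
      have h1 : (z : Ω) ∈ S := ed.setup.hPS z.2
      rw [hbot, Subgroup.mem_bot] at h1
      exact h1)
    have hP₁S : P₁ ≤ S := hP₁.1.1
    have hbot : P₁ = ⊥ := by
      apply eq_bot_of_invariant hS F hF hcore P₁ hP₁S
      · intro β _ x hx
        have h1 : x ∈ P₁.subgroupOf S := by rw [Subgroup.mem_subgroupOf]; exact hx
        rw [hPom P₁ hP₁, Cfsg.Agent.Lead.ExtraPCube.mem_om] at h1
        have h2 : β x ∈ Cfsg.Agent.Lead.ExtraPCube.om hp2 hE := by
          rw [Cfsg.Agent.Lead.ExtraPCube.mem_om, ← map_pow, h1, map_one]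
        rw [← hPom P₁ hP₁, Subgroup.mem_subgroupOf] at h2
        exact h2
      · intro P' hP'
        have heq : P' = P₁ := by
          have h1 : P'.subgroupOf S = P₁.subgroupOf S := by rw [hPom P' hP', hPom P₁ hP₁]
          ext x
          constructor
          · intro hx
            have : (⟨x, hP'.1.1 hx⟩ : ↥S) ∈ P'.subgroupOf S := by
              rw [Subgroup.mem_subgroupOf]; exact hx
            rw [h1, Subgroup.mem_subgroupOf] at this
            exact this
          · intro hx
            have : (⟨x, hP₁S hx⟩ : ↥S) ∈ P₁.subgroupOf S := by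
              rw [Subgroup.mem_subgroupOf]; exact hx
            rw [← h1, Subgroup.mem_subgroupOf] at this
            exact this
        refine ⟨heq ▸ le_rfl, fun α _ x _ => ?_⟩
        rw [← heq]
        exact (α x).2
    obtain ⟨s', u', z', g', ed'⟩ := exists_EData hS F hF hZ hP₁
    apply ed'.z_ne_one
    have h1 : ∀ y ∈ P₁, y = 1 := by
      intro y hy
      rw [hbot, Subgroup.mem_bot] at hy
      exact hy
    exact h1 _ z'.2
  have hdvd : Monoid.exponent ↥S ∣ p := Monoid.exponent_dvd_of_forall_pow_eq_one hall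
  rcases (Nat.dvd_prime hp.out).mp hdvd with h1 | h1
  · exfalso
    rw [Monoid.exp_eq_one_iff] at h1
    obtain ⟨a, b, hab⟩ := ed.not_comm hS
    exact hab (by rw [Subsingleton.elim a 1, Subsingleton.elim b 1])
  · exact h1

end Cfsg.Agent.Lead.CenterIdx
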