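import Mathlib
import Cfsg.Agent.Lead.CenterIdxG

set_option autoImplicit false

/-! The case `p = 2`: the centre is elementary abelian. -/

namespace Cfsg.Agent.Lead.CenterIdx

open Cfsg Cfsg.FusionSystem

variable {Ω : Type*} [Group Ω] {S : Subgroup Ω}

/-- The squares of the central elements of `S`. -/
def sqZ (S : Subgroup Ω) : Subgroup Ω where
  carrier := {y | ∃ ζ ∈ ZS S, ζ ^ 2 = y}
  one_mem' := ⟨1, Subgroup.one_mem _, one_pow 2⟩
  mul_mem' := by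
    rintro _ _ ⟨ζ, hζ, rfl⟩ ⟨ζ', hζ', rfl⟩
    refine ⟨ζ * ζ', Subgroup.mul_mem _ hζ hζ', ?_⟩
    have hc : Commute ζ ζ' := ((mem_ZS.mp hζ').2 ζ (mem_ZS.mp hζ).1)
    exact hc.mul_pow 2
  inv_mem' := by
    rintro _ ⟨ζ, hζ, rfl⟩
    exact ⟨ζ⁻¹, Subgroup.inv_mem _ hζ, inv_pow ζ 2⟩

lemma mem_sqZ {y : Ω} : y ∈ sqZ S ↔ ∃ ζ ∈ ZS S, ζ ^ 2 = y := Iff.rfl

lemma sqZ_le : sqZ S ≤ ZS S := by
  rintro _ ⟨ζ, hζ, rfl⟩
  exact Subgroup.pow_mem _ hζ 2

variable [Finite S] {p : ℕ} [hp : Fact p.Prime] {F : FusionSystem S} {P : Subgroup Ω} {s : Ω}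
  {u : MulAut ↥P} {z : ↥P} {g : MulAut ↥P}

lemma EData.a_sq (ed : EData p F P s u z g) (hp2 : p = 2) : ((g z : ↥P) : Ω) ^ 2 = 1 := by
  have := congrArg Subtype.val ed.res.gz_pow
  rw [Subgroup.coe_pow, hp2] at this
  exact this

lemma EData.z_sq (ed : EData p F P s u z g) (hp2 : p = 2) : (z : Ω) ^ 2 = 1 := by
  have := ed.z_pow
  rwa [hp2] at this

lemma EData.a_not_mem_ZS (ed : EData p F P s u z g) : ((g z : ↥P) : Ω) ∉ ZS S := by
  intro h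
  exact ed.res.pair1 ((ed.fix_iff _).mpr h)

/-- Every element of `P` is central or becomes central after multiplication by `a`. -/
lemma EData.mem_or (ed : EData p F P s u z g) (hp2 : p = 2) {x : Ω} (hx : x ∈ P) :
    x ∈ ZS S ∨ x * ((g z : ↥P) : Ω) ∈ ZS S := by
  obtain ⟨j, hj⟩ := ed.res.decomp_u ⟨x, hx⟩
  have h1 := (ed.fix_iff _).mp hj
  rw [Subgroup.coe_mul, Subgroup.coe_pow] at h1
  rcases Nat.even_or_odd' j with ⟨k, rfl | rfl⟩
  · left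
    rw [pow_mul, ed.a_sq hp2, one_pow, mul_one] at h1
    exact h1
  · right
    rw [pow_succ, pow_mul, ed.a_sq hp2, one_pow, one_mul] at h1
    exact h1

lemma EData.a_inv (ed : EData p F P s u z g) (hp2 : p = 2) :
    (((g z : ↥P) : Ω))⁻¹ = ((g z : ↥P) : Ω) := by
  rw [inv_eq_iff_mul_eq_one, ← pow_two, ed.a_sq hp2]

/-- Squares of elements of `P` are squares of central elements. -/
lemma EData.sq_mem (ed : EData p F P s u z g) (hp2 : p = 2) {x : Ω} (hx : x ∈ P) :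
    x ^ 2 ∈ sqZ S := by
  rcases ed.mem_or hp2 hx with h | h
  · exact ⟨x, h, rfl⟩
  · refine ⟨x * ((g z : ↥P) : Ω), h, ?_⟩
    have hc : Commute x ((g z : ↥P) : Ω) := by
      have := ed.ctx.hab ⟨x, hx⟩ (g z)
      exact congrArg Subtype.val this
    rw [hc.mul_pow, ed.a_sq hp2, mul_one]

/-- For `p = 2` the centre of `S` is elementary abelian. -/
theorem sq_eq_one (hS : IsPGroup p S) (hF : F.IsSaturated p) (hcore : F.core = ⊥)
    (hZ : (Subgroup.center ↥S).index ≤ p ^ 2) (hp2 : p = 2) {ζ : Ω} (hζ : ζ ∈ ZS S) :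
    ζ ^ 2 = 1 := by
  have hbot : sqZ S = ⊥ := by
    apply eq_bot_of_invariant hS F hF hcore (sqZ S) (sqZ_le.trans ZS_le)
    · rintro β _ x ⟨ζ, hζ, hx⟩
      refine ⟨((β ⟨ζ, ZS_le hζ⟩ : ↥S) : Ω), aut_mem_ZS β hζ, ?_⟩
      rw [← Subgroup.coe_pow, ← map_pow]
      congr 2
      exact Subtype.ext hx
    · intro P' hP'
      obtain ⟨s', u', z', g', ed'⟩ := exists_EData hS F hF hZ hP'
      refine ⟨sqZ_le.trans ed'.setup.ZS_le, ?_⟩
      rintro α _ x ⟨ζ, hζ, hx⟩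
      have h1 : x = (⟨ζ, ed'.setup.ZS_le hζ⟩ : ↥P') ^ 2 := Subtype.ext hx.symm
      rw [h1, map_pow, Subgroup.coe_pow]
      exact ed'.sq_mem hp2 (α _).2
  have h1 : ζ ^ 2 ∈ sqZ S := ⟨ζ, hζ, rfl⟩
  rw [hbot, Subgroup.mem_bot] at h1
  exact h1

end Cfsg.Agent.Lead.CenterIdx
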