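import Mathlib

set_option autoImplicit false

/-! An abstract lemma on automorphism groups with odd outer part acting on a `2`-group whose
central quotient is a four-group. -/

namespace Cfsg.Agent.Lead.CenterIdx.TwoB

variable {G₀ : Type*} [Group G₀]

/-- The automorphisms acting trivially modulo the centre. -/
def modC (G₀ : Type*) [Group G₀] : Subgroup (MulAut G₀) where
  carrier := {γ | ∀ x, x⁻¹ * γ x ∈ Subgroup.center G₀}
  one_mem' := by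
    intro x
    simp
  mul_mem' := by
    intro a b ha hb x
    have : x⁻¹ * (a * b) x = (x⁻¹ * b x) * ((b x)⁻¹ * a (b x)) := by
      rw [MulAut.mul_apply]; group
    rw [this]
    exact Subgroup.mul_mem _ (hb x) (ha (b x))
  inv_mem' := by
    intro a ha x
    have h1 := ha (a⁻¹ x)
    rw [MulAut.apply_inv_self] at h1
    have := Subgroup.inv_mem _ h1
    rwa [mul_inv_rev, inv_inv] at this

lemma mem_modC {γ : MulAut G₀} : γ ∈ modC G₀ ↔ ∀ x, x⁻¹ * γ x ∈ Subgroup.center G₀ := Iff.rfl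

lemma aut_center (γ : MulAut G₀) {ζ : G₀} (hζ : ζ ∈ Subgroup.center G₀) :
    γ ζ ∈ Subgroup.center G₀ := by
  rw [Subgroup.mem_center_iff] at hζ ⊢
  intro y
  have h1 := congrArg γ (hζ (γ⁻¹ y))
  rw [map_mul, map_mul, MulAut.apply_inv_self] at h1
  exact h1

/-- The hypotheses. -/
structure TwoSetup (Pc : Subgroup G₀) (a : G₀) : Prop where
  hZP : Subgroup.center G₀ ≤ Pc
  haP : a ∈ Pc
  haZ : a ∉ Subgroup.center G₀
  ha2 : a * a = 1
  hor : ∀ x ∈ Pc, x ∈ Subgroup.center G₀ ∨ x * a ∈ Subgroup.center G₀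
  hZ2 : ∀ ζ ∈ Subgroup.center G₀, ζ * ζ = 1
  hS : ∀ s₀, s₀ ∉ Pc → ∀ x, x ∈ Pc ∨ s₀⁻¹ * x ∈ Pc
  hsq : ∀ x ∈ Pc, x * x ∈ Subgroup.center G₀
  hcen : ∀ s₀, s₀ ∉ Pc → ∀ x ∈ Pc, s₀ * x = x * s₀ → x ∈ Subgroup.center G₀
  hex : ∃ s₀, s₀ ∉ Pc

variable {Pc : Subgroup G₀} {a : G₀}

lemma TwoSetup.a_inv (h : TwoSetup Pc a) : a⁻¹ = a := inv_eq_of_mul_eq_one_right h.ha2

/-- An automorphism fixing `a` modulo the centre acts trivially on `Pc` modulo the centre. -/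
lemma TwoSetup.step1 (h : TwoSetup Pc a) (γ : MulAut G₀)
    (hγa : a⁻¹ * γ a ∈ Subgroup.center G₀) {y : G₀} (hy : y ∈ Pc) :
    y⁻¹ * γ y ∈ Subgroup.center G₀ := by
  rcases h.hor y hy with h1 | h1
  · exact Subgroup.mul_mem _ (Subgroup.inv_mem _ h1) (aut_center γ h1)
  · have hy' : y = (y * a) * a := by rw [mul_assoc, h.ha2, mul_one]
    have hw : (y * a)⁻¹ * γ (y * a) ∈ Subgroup.center G₀ :=
      Subgroup.mul_mem _ (Subgroup.inv_mem _ h1) (aut_center γ h1)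
    have e : y⁻¹ * γ y = ((y * a)⁻¹ * γ (y * a)) * (a⁻¹ * γ a) := by
      have hc := (Subgroup.mem_center_iff.mp hw) a⁻¹
      conv_lhs => rw [hy']
      rw [map_mul γ (y * a) a, mul_inv_rev]
      calc a⁻¹ * (y * a)⁻¹ * (γ (y * a) * γ a)
          = (a⁻¹ * ((y * a)⁻¹ * γ (y * a))) * γ a := by group
        _ = (((y * a)⁻¹ * γ (y * a)) * a⁻¹) * γ a := by rw [hc]
        _ = _ := by group
    rw [e]
    exact Subgroup.mul_mem _ hw hγa

lemma TwoSetup.step2 (h : TwoSetup Pc a) (γ : MulAut G₀)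
    (hγa : a⁻¹ * γ a ∈ Subgroup.center G₀) {y : G₀} (hy : y ∈ Pc) : γ y ∈ Pc := by
  have h1 := h.hZP (h.step1 γ hγa hy)
  have h2 := Pc.mul_mem hy h1
  rwa [mul_inv_cancel_left] at h2

lemma TwoSetup.step3 (h : TwoSetup Pc a) (γ : MulAut G₀)
    (hγa : a⁻¹ * γ a ∈ Subgroup.center G₀) : a⁻¹ * γ⁻¹ a ∈ Subgroup.center G₀ := by
  have h1 := aut_center γ⁻¹ hγa
  rw [map_mul, map_inv, MulAut.inv_apply_self] at h1
  have h2 := Subgroup.inv_mem _ h1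
  rwa [mul_inv_rev, inv_inv] at h2

/-- Trivial action modulo the centre can be checked on `Pc` and one element outside. -/
lemma TwoSetup.modC_of_gen (h : TwoSetup Pc a) (δ : MulAut G₀) {s₀ : G₀} (hs₀ : s₀ ∉ Pc)
    (hs : s₀⁻¹ * δ s₀ ∈ Subgroup.center G₀)
    (hP : ∀ y ∈ Pc, y⁻¹ * δ y ∈ Subgroup.center G₀) : δ ∈ modC G₀ := by
  intro x
  rcases h.hS s₀ hs₀ x with hx | hx
  · exact hP x hx
  · have hx' : x = s₀ * (s₀⁻¹ * x) := by rw [mul_inv_cancel_left]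
    have e : x⁻¹ * δ x = (s₀⁻¹ * δ s₀) * ((s₀⁻¹ * x)⁻¹ * δ (s₀⁻¹ * x)) := by
      have hc := (Subgroup.mem_center_iff.mp hs) (s₀⁻¹ * x)⁻¹
      conv_lhs => rw [hx']
      rw [map_mul δ s₀ (s₀⁻¹ * x), mul_inv_rev]
      calc (s₀⁻¹ * x)⁻¹ * s₀⁻¹ * (δ s₀ * δ (s₀⁻¹ * x))
          = ((s₀⁻¹ * x)⁻¹ * (s₀⁻¹ * δ s₀)) * δ (s₀⁻¹ * x) := by group
        _ = ((s₀⁻¹ * δ s₀) * (s₀⁻¹ * x)⁻¹) * δ (s₀⁻¹ * x) := by rw [hc]
        _ = _ := by group
    rw [e]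
    exact Subgroup.mul_mem _ hs (hP _ hx)

/-- An automorphism in `𝔊` fixing `a` modulo the centre acts trivially modulo the centre. -/
lemma TwoSetup.step4 (h : TwoSetup Pc a) (𝔊 : Subgroup (MulAut G₀))
    (hO : ∀ β ∈ 𝔊, β * β ∈ modC G₀ → β ∈ modC G₀) {γ : MulAut G₀} (hγ : γ ∈ 𝔊)
    (hγa : a⁻¹ * γ a ∈ Subgroup.center G₀) : γ ∈ modC G₀ := by
  apply hO γ hγ
  obtain ⟨s₀, hs₀⟩ := h.hex
  have hγs : γ s₀ ∉ Pc := by
    intro hmem
    have := h.step2 γ⁻¹ (h.step3 γ hγa) hmem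
    rw [MulAut.inv_apply_self] at this
    exact hs₀ this
  have hy₁ : s₀⁻¹ * γ s₀ ∈ Pc := by
    rcases h.hS s₀ hs₀ (γ s₀) with h1 | h1
    · exact absurd h1 hγs
    · exact h1
  have hPγγ : ∀ y ∈ Pc, y⁻¹ * (γ * γ) y ∈ Subgroup.center G₀ := by
    intro y hy
    have hc := h.step1 γ hγa hy
    have e : y⁻¹ * (γ * γ) y = (y⁻¹ * γ y) * γ (y⁻¹ * γ y) := by
      rw [MulAut.mul_apply, map_mul γ y⁻¹ (γ y), map_inv]
      group
    rw [e]
    exact Subgroup.mul_mem _ hc (aut_center γ hc)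
  apply h.modC_of_gen (γ * γ) hs₀ _ hPγγ
  have hc₁ := h.step1 γ hγa hy₁
  have e : s₀⁻¹ * (γ * γ) s₀ =
      ((s₀⁻¹ * γ s₀) * (s₀⁻¹ * γ s₀)) * ((s₀⁻¹ * γ s₀)⁻¹ * γ (s₀⁻¹ * γ s₀)) := by
    rw [MulAut.mul_apply]
    have e1 : γ (γ s₀) = γ s₀ * γ (s₀⁻¹ * γ s₀) := by
      rw [map_mul γ s₀⁻¹ (γ s₀), map_inv, mul_inv_cancel_left]
    rw [e1]
    group
  rw [e]
  exact Subgroup.mul_mem _ (h.hsq _ hy₁) hc₁

lemma key_alg {a b ζ : G₀} (e1 : b * ζ = ζ * b) (e2 : a * b * ζ = ζ * (a * b))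
    (hζ2 : ζ * ζ = 1) (ha : a * a = 1)
    (hb : b * b = 1) (hc : (b * ζ * a) * (b * ζ * a) = 1) : b * a = a * b := by
  have h1 : b * ζ * a * (b * ζ * a) = (ζ * ζ) * (b * a * (b * a)) := by
    calc b * ζ * a * (b * ζ * a) = (b * ζ) * ((a * b * ζ) * a) := by group
      _ = (ζ * b) * ((ζ * (a * b)) * a) := by rw [e1, e2]
      _ = ζ * (b * ζ) * (a * b * a) := by group
      _ = ζ * (ζ * b) * (a * b * a) := by rw [e1]
      _ = (ζ * ζ) * (b * a * (b * a)) := by group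
  rw [h1, hζ2, one_mul] at hc
  have h2 : (b * a)⁻¹ = b * a := inv_eq_of_mul_eq_one_right hc
  rw [mul_inv_rev, inv_eq_of_mul_eq_one_right ha, inv_eq_of_mul_eq_one_right hb] at h2
  exact h2.symm

/-- Every automorphism in `𝔊` fixes `a` modulo the centre. -/
lemma TwoSetup.step5 (h : TwoSetup Pc a) (𝔊 : Subgroup (MulAut G₀))
    (hO : ∀ β ∈ 𝔊, β * β ∈ modC G₀ → β ∈ modC G₀) {β : MulAut G₀} (hβ : β ∈ 𝔊) :
    a⁻¹ * β a ∈ Subgroup.center G₀ := by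
  by_contra hcon
  have hb2 : β a * β a = 1 := by rw [← map_mul, h.ha2, map_one]
  have hbZ : β a ∉ Subgroup.center G₀ := by
    intro hb
    have := aut_center β⁻¹ hb
    rw [MulAut.inv_apply_self] at this
    exact h.haZ this
  have hbP : β a ∉ Pc := by
    intro hb
    rcases h.hor _ hb with h1 | h1
    · exact hbZ h1
    · apply hcon
      have hc := (Subgroup.mem_center_iff.mp h1) a⁻¹
      have e : a⁻¹ * β a = β a * a := by
        calc a⁻¹ * β a = a⁻¹ * (β a * a) * a⁻¹ := by group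
          _ = (β a * a) * a⁻¹ * a⁻¹ := by rw [hc]
          _ = β a * a := by rw [h.a_inv, mul_assoc, mul_assoc, h.ha2, mul_one]
      rw [e]
      exact h1
  have hcZ : β (β a) ∉ Subgroup.center G₀ := by
    intro hc
    have := aut_center β⁻¹ hc
    rw [MulAut.inv_apply_self] at this
    exact hbZ this
  have hc2 : β (β a) * β (β a) = 1 := by rw [← map_mul, hb2, map_one]
  -- `β (β a) ∈ Pc`
  have hcP : β (β a) ∈ Pc := by
    by_contra hcP
    have hy₁ : (β a)⁻¹ * β (β a) ∈ Pc := by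
      rcases h.hS (β a) hbP (β (β a)) with h1 | h1
      · exact absurd h1 hcP
      · exact h1
    rcases h.hor _ hy₁ with h1 | h1
    · apply hcon
      have h2 := aut_center β⁻¹ h1
      rw [map_mul, map_inv, MulAut.inv_apply_self, MulAut.inv_apply_self] at h2
      exact h2
    · apply h.haZ
      apply h.hcen (β a) hbP a h.haP
      have ec : β (β a) = β a * ((β a)⁻¹ * β (β a) * a) * a := by
        rw [mul_assoc ((β a)⁻¹) _ a, mul_assoc (β a) _ a, mul_assoc, mul_assoc, h.ha2, mul_one,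
          mul_inv_cancel_left]
      rw [ec] at hc2
      exact key_alg (Subgroup.mem_center_iff.mp h1 _) (Subgroup.mem_center_iff.mp h1 _)
        (h.hZ2 _ h1) h.ha2 hb2 hc2
  have hca : β (β a) * a ∈ Subgroup.center G₀ := by
    rcases h.hor _ hcP with h1 | h1
    · exact absurd h1 hcZ
    · exact h1
  have hββ : a⁻¹ * (β * β) a ∈ Subgroup.center G₀ := by
    have hc := (Subgroup.mem_center_iff.mp hca) a⁻¹
    have e : a⁻¹ * (β * β) a = β (β a) * a := by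
      rw [MulAut.mul_apply]
      calc a⁻¹ * β (β a) = a⁻¹ * (β (β a) * a) * a⁻¹ := by group
        _ = (β (β a) * a) * a⁻¹ * a⁻¹ := by rw [hc]
        _ = β (β a) * a := by rw [h.a_inv, mul_assoc, mul_assoc, h.ha2, mul_one]
    rw [e]
    exact hca
  have h1 := h.step4 𝔊 hO (𝔊.mul_mem hβ hβ) hββ
  have h2 := hO β hβ h1
  exact hcon (h2 a)

/-- Every automorphism in `𝔊` stabilizes `Pc`. -/
theorem TwoSetup.stab (h : TwoSetup Pc a) (𝔊 : Subgroup (MulAut G₀))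
    (hO : ∀ β ∈ 𝔊, β * β ∈ modC G₀ → β ∈ modC G₀) {β : MulAut G₀} (hβ : β ∈ 𝔊) {y : G₀}
    (hy : y ∈ Pc) : β y ∈ Pc :=
  h.step2 β (h.step5 𝔊 hO hβ) hy

end Cfsg.Agent.Lead.CenterIdx.TwoB
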