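import Mathlib
import Cfsg.Agent.Lead.CenterIdxH
import Cfsg.Agent.Lead.CenterIdxI
import Cfsg.Agent.Lead.FusionRestrict

set_option autoImplicit false

/-! The case `p = 2`: `Aut_F(S)` stabilizes every essential subgroup. -/

namespace Cfsg.Agent.Lead.CenterIdx

open Cfsg Cfsg.FusionSystem

variable {Ω : Type*} [Group Ω] {S : Subgroup Ω}

lemma mem_center_iff_coe {x : ↥S} : x ∈ Subgroup.center ↥S ↔ (x : Ω) ∈ ZS S := by
  rw [← ZS_subgroupOf, Subgroup.mem_subgroupOf]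

variable [Finite S] {p : ℕ} [hp : Fact p.Prime] {F : FusionSystem S} {P : Subgroup Ω} {s : Ω}
  {u : MulAut ↥P} {z : ↥P} {g : MulAut ↥P}

/-- The element `a = g z` as an element of `S`. -/
def EData.aS (ed : EData p F P s u z g) : ↥S := ⟨((g z : ↥P) : Ω), ed.setup.hPS (g z).2⟩

lemma EData.twoSetup (ed : EData p F P s u z g) (hS : IsPGroup p S) (hF : F.IsSaturated p)
    (hcore : F.core = ⊥) (hZ : (Subgroup.center ↥S).index ≤ p ^ 2) (hp2 : p = 2) :
    TwoB.TwoSetup (P.subgroupOf S) ed.aS where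
  hZP := by
    intro x hx
    rw [mem_center_iff_coe] at hx
    rw [Subgroup.mem_subgroupOf]
    exact ed.setup.ZS_le hx
  haP := by
    rw [Subgroup.mem_subgroupOf]
    exact (g z).2
  haZ := by
    rw [mem_center_iff_coe]
    exact ed.a_not_mem_ZS
  ha2 := by
    apply Subtype.ext
    have := ed.a_sq hp2
    rw [pow_two] at this
    exact this
  hor := by
    intro x hx
    rw [Subgroup.mem_subgroupOf] at hx
    rw [mem_center_iff_coe, mem_center_iff_coe]
    exact ed.mem_or hp2 hx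
  hZ2 := by
    intro ζ hζ
    rw [mem_center_iff_coe] at hζ
    apply Subtype.ext
    have := sq_eq_one hS hF hcore hZ hp2 hζ
    rw [pow_two] at this
    exact this
  hS := by
    intro s₀ hs₀ x
    rw [Subgroup.mem_subgroupOf] at hs₀
    rw [Subgroup.mem_subgroupOf, Subgroup.mem_subgroupOf]
    obtain ⟨i, y, hy, hxy⟩ := ed.setup.exists_pow_mul hS s₀.2 hs₀ x.2
    have hs2 : (s₀ : Ω) ^ 2 ∈ P := by
      have := ed.setup.pow_mem hS s₀.2
      rwa [hp2] at this
    rcases Nat.even_or_odd' i with ⟨k, rfl | rfl⟩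
    · left
      rw [hxy, pow_mul]
      exact P.mul_mem (P.pow_mem hs2 k) hy
    · right
      have : ((s₀⁻¹ * x : ↥S) : Ω) = ((s₀ : Ω) ^ 2) ^ k * y := by
        rw [Subgroup.coe_mul, Subgroup.coe_inv, hxy, pow_succ', pow_mul]
        group
      rw [this]
      exact P.mul_mem (P.pow_mem hs2 k) hy
  hsq := by
    intro x hx
    rw [Subgroup.mem_subgroupOf] at hx
    rw [mem_center_iff_coe]
    have := ed.setup.pow_mem_ZS hS hx
    rw [hp2, pow_two] at this
    exact this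
  hcen := by
    intro s₀ hs₀ x hx hsx
    rw [Subgroup.mem_subgroupOf] at hs₀ hx
    rw [mem_center_iff_coe]
    exact (ed.setup.mem_ZS_iff hS s₀.2 hs₀ hx).mpr (congrArg Subtype.val hsx)
  hex := by
    obtain ⟨s₀, hs₀, hs₀P⟩ := ed.setup.exists_not_mem
    exact ⟨⟨s₀, hs₀⟩, by rw [Subgroup.mem_subgroupOf]; exact hs₀P⟩

/-- The odd index lemma for `modC`. -/
lemma modC_of_sq (ed : EData p F P s u z g) (hS : IsPGroup p S) (hF : F.IsSaturated p)
    (hp2 : p = 2) : ∀ β ∈ F.autGroup S, β * β ∈ TwoB.modC ↥S → β ∈ TwoB.modC ↥S := by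
  intro β hβ hββ
  apply mem_of_pow_mem F hF (TwoB.modC ↥S) _ _ hβ
  · rw [hp2, pow_two]; exact hββ
  · intro g₀ x
    rw [mem_center_iff_coe]
    have := ed.setup.commutator_mem_ZS hS _ (S.inv_mem x.2) _ g₀.2
    rw [inv_inv] at this
    have e : ((x⁻¹ * (MulAut.conj g₀) x : ↥S) : Ω) = (x : Ω)⁻¹ * g₀ * x * (g₀ : Ω)⁻¹ := by
      show (x : Ω)⁻¹ * (g₀ * x * (g₀ : Ω)⁻¹) = _
      group
    rw [e]
    exact this
  · intro β' _ γ hγ x
    have h1 := TwoB.aut_center β' (hγ (β'⁻¹ x))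
    rw [map_mul, map_inv, MulAut.apply_inv_self] at h1
    exact h1

/-- `Aut_F(S)` stabilizes the essential subgroup. -/
theorem EData.stab (ed : EData p F P s u z g) (hS : IsPGroup p S) (hF : F.IsSaturated p)
    (hcore : F.core = ⊥) (hZ : (Subgroup.center ↥S).index ≤ p ^ 2) (hp2 : p = 2)
    {β : MulAut ↥S} (hβ : β ∈ F.autGroup S) {x : ↥S} (hx : (x : Ω) ∈ P) :
    ((β x : ↥S) : Ω) ∈ P := by
  have h1 := (ed.twoSetup hS hF hcore hZ hp2).stab (F.autGroup S) (modC_of_sq ed hS hF hp2) hβ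
    (y := x) (by rw [Subgroup.mem_subgroupOf]; exact hx)
  rwa [Subgroup.mem_subgroupOf] at h1

/-- Restriction of an element of `Aut_F(S)` to the essential subgroup. -/
theorem EData.restrict (ed : EData p F P s u z g) (hS : IsPGroup p S) (hF : F.IsSaturated p)
    (hcore : F.core = ⊥) (hZ : (Subgroup.center ↥S).index ≤ p ^ 2) (hp2 : p = 2)
    {β : MulAut ↥S} (hβ : β ∈ F.autGroup S) :
    ∃ α ∈ F.autGroup P, ∀ x : ↥P, ((α x : ↥P) : Ω) = ((β ⟨x, ed.setup.hPS x.2⟩ : ↥S) : Ω) := by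
  haveI := ed.finite
  exact Fusion.exists_restrict_aut F le_rfl ed.setup.hPS β hβ
    (fun x hx => ed.stab hS hF hcore hZ hp2 hβ hx)

end Cfsg.Agent.Lead.CenterIdx
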