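import Mathlib
import Cfsg.Agent.Lead.CenterIdxJ

set_option autoImplicit false

/-! The case `p = 2`: the subgroups `W` and invariance under `Aut_F(S)`. -/

namespace Cfsg.Agent.Lead.CenterIdx

open Cfsg Cfsg.FusionSystem

variable {Ω : Type*} [Group Ω] {S : Subgroup Ω}

/-- The subgroup `⟨z, g z⟩` inside the ambient group. -/
def WW (P : Subgroup Ω) (z : ↥P) (g : MulAut ↥P) : Subgroup Ω :=
  (Subgroup.zpowers z ⊔ Subgroup.zpowers (g z)).map P.subtype

lemma pow_two_cases {M : Type*} [Monoid M] {y : M} (hy : y ^ 2 = 1) (n : ℕ) :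
    y ^ n = 1 ∨ y ^ n = y := by
  rcases Nat.even_or_odd' n with ⟨k, rfl | rfl⟩
  · left; rw [pow_mul, hy, one_pow]
  · right; rw [pow_succ, pow_mul, hy, one_pow, one_mul]

variable [Finite S] {p : ℕ} [hp : Fact p.Prime] {F : FusionSystem S} {P : Subgroup Ω} {s : Ω}
  {u : MulAut ↥P} {z : ↥P} {g : MulAut ↥P}

lemma EData.WW_le (_ed : EData p F P s u z g) : WW P z g ≤ P := by
  rintro _ ⟨x, -, rfl⟩
  exact x.2

lemma EData.z_mem_WW (_ed : EData p F P s u z g) : (z : Ω) ∈ WW P z g :=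
  ⟨z, le_sup_left (α := Subgroup ↥P) (Subgroup.mem_zpowers z), rfl⟩

lemma EData.a_mem_WW (_ed : EData p F P s u z g) : ((g z : ↥P) : Ω) ∈ WW P z g :=
  ⟨g z, le_sup_right (α := Subgroup ↥P) (Subgroup.mem_zpowers (g z)), rfl⟩

lemma EData.coe_mem_WW (_ed : EData p F P s u z g) {x : ↥P} :
    (x : Ω) ∈ WW P z g ↔ x ∈ Subgroup.zpowers z ⊔ Subgroup.zpowers (g z) := by
  constructor
  · rintro ⟨y, hy, hyx⟩
    have : y = x := Subtype.ext hyx
    rw [← this]; exact hy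
  · intro h
    exact ⟨x, h, rfl⟩

/-- Elements of `W` are products of powers of `z` and `a`. -/
lemma EData.exists_of_mem_WW (ed : EData p F P s u z g) {x : Ω} (hx : x ∈ WW P z g) :
    ∃ i j : ℕ, x = (z : Ω) ^ i * ((g z : ↥P) : Ω) ^ j := by
  haveI := ed.finite
  obtain ⟨y, hy, rfl⟩ := hx
  letI : CommGroup ↥P := { (inferInstance : Group ↥P) with mul_comm := ed.ctx.hab }
  obtain ⟨c, hc, d, hd, rfl⟩ := Subgroup.mem_sup.mp hy
  obtain ⟨i, rfl⟩ := mem_powers_iff_mem_zpowers.mpr hc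
  obtain ⟨j, rfl⟩ := mem_powers_iff_mem_zpowers.mpr hd
  exact ⟨i, j, rfl⟩

/-- `W` is invariant under `Aut_F(P)`. -/
lemma EData.WW_inv (ed : EData p F P s u z g) {α : MulAut ↥P} (hα : α ∈ F.autGroup P) {x : ↥P}
    (hx : (x : Ω) ∈ WW P z g) : ((α x : ↥P) : Ω) ∈ WW P z g := by
  rw [ed.coe_mem_WW] at hx ⊢
  exact ed.res.mapW α hα x hx

/-- `W` is invariant under `Aut_F(S)`. -/
lemma EData.G_WW (ed : EData p F P s u z g) (hS : IsPGroup p S) (hF : F.IsSaturated p)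
    (hcore : F.core = ⊥) (hZ : (Subgroup.center ↥S).index ≤ p ^ 2) (hp2 : p = 2)
    {β : MulAut ↥S} (hβ : β ∈ F.autGroup S) {x : ↥S} (hx : (x : Ω) ∈ WW P z g) :
    ((β x : ↥S) : Ω) ∈ WW P z g := by
  obtain ⟨α, hα, hαx⟩ := ed.restrict hS hF hcore hZ hp2 hβ
  have hxP : (x : Ω) ∈ P := ed.WW_le hx
  have h1 := ed.WW_inv hα (x := ⟨x, hxP⟩) hx
  rw [hαx] at h1
  exact h1

/-- `P₀` is invariant under `Aut_F(S)`. -/
lemma EData.G_P0 (ed : EData p F P s u z g) (hS : IsPGroup p S) (hF : F.IsSaturated p)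
    (hcore : F.core = ⊥) (hZ : (Subgroup.center ↥S).index ≤ p ^ 2) (hp2 : p = 2)
    {β : MulAut ↥S} (hβ : β ∈ F.autGroup S) {x : ↥S} (hx : (x : Ω) ∈ P0 P u g) :
    ((β x : ↥S) : Ω) ∈ P0 P u g := by
  obtain ⟨α, hα, hαx⟩ := ed.restrict hS hF hcore hZ hp2 hβ
  have hxP : (x : Ω) ∈ P := ed.P0_le hx
  have h1 := ed.P0_inv hα (x := ⟨x, hxP⟩) hx
  rw [hαx] at h1
  exact h1

/-- Two essential subgroups one of which contains the other are equal. -/
lemma Setup.eq_of_le {P P' : Subgroup Ω} (h : Setup p S P) (h' : Setup p S P')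
    (hS : IsPGroup p S) (hle : P ≤ P') : P = P' := by
  have hpr : (P.relIndex S).Prime := by
    have : P.relIndex S = p := (h.index hS).1
    rw [this]; exact hp.out
  rcases le_or_le_of_relIndex_prime hle h'.hPS hpr with h1 | h1
  · exact le_antisymm hle h1
  · exact absurd (le_antisymm h'.hPS h1) h'.hne

/-- An essential subgroup is contained in any subgroup containing the centre and `a`. -/
lemma EData.le_of_a_mem (ed : EData p F P s u z g) (hp2 : p = 2) {R : Subgroup Ω}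
    (hZR : ZS S ≤ R) (ha : ((g z : ↥P) : Ω) ∈ R) : P ≤ R := by
  intro x hx
  rcases ed.mem_or hp2 hx with h | h
  · exact hZR h
  · have := R.mul_mem (hZR h) (R.inv_mem ha)
    rwa [mul_inv_cancel_right] at this

end Cfsg.Agent.Lead.CenterIdx
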