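import Mathlib
import Cfsg.Agent.Lead.CenterIdxK

set_option autoImplicit false

/-! The case `p = 2`: the intersection of the subgroups `P₀` is trivial. -/

namespace Cfsg.Agent.Lead.CenterIdx

open Cfsg Cfsg.FusionSystem

variable {Ω : Type*} [Group Ω] {S : Subgroup Ω}

/-- The central elements all of whose images under `Aut_F(P)`, `P` essential, are central. -/
def QQ (p : ℕ) (F : FusionSystem S) : Subgroup Ω where
  carrier := {x | x ∈ ZS S ∧ ∀ P' : Subgroup Ω, F.IsEssential p P' →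
    ∃ hx : x ∈ P', ∀ γ ∈ F.autGroup P', ((γ ⟨x, hx⟩ : ↥P') : Ω) ∈ ZS S}
  one_mem' := by
    refine ⟨Subgroup.one_mem _, fun P' _ => ⟨P'.one_mem, fun γ _ => ?_⟩⟩
    have : (⟨1, P'.one_mem⟩ : ↥P') = 1 := rfl
    rw [this, map_one]
    exact Subgroup.one_mem _
  mul_mem' := by
    rintro a b ⟨ha, ha'⟩ ⟨hb, hb'⟩
    refine ⟨Subgroup.mul_mem _ ha hb, fun P' hP' => ?_⟩
    obtain ⟨hax, haγ⟩ := ha' P' hP'
    obtain ⟨hbx, hbγ⟩ := hb' P' hP'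
    refine ⟨P'.mul_mem hax hbx, fun γ hγ => ?_⟩
    have : (⟨a * b, P'.mul_mem hax hbx⟩ : ↥P') = ⟨a, hax⟩ * ⟨b, hbx⟩ := rfl
    rw [this, map_mul, Subgroup.coe_mul]
    exact Subgroup.mul_mem _ (haγ γ hγ) (hbγ γ hγ)
  inv_mem' := by
    rintro a ⟨ha, ha'⟩
    refine ⟨Subgroup.inv_mem _ ha, fun P' hP' => ?_⟩
    obtain ⟨hax, haγ⟩ := ha' P' hP'
    refine ⟨P'.inv_mem hax, fun γ hγ => ?_⟩
    have : (⟨a⁻¹, P'.inv_mem hax⟩ : ↥P') = (⟨a, hax⟩ : ↥P')⁻¹ := rfl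
    rw [this, map_inv, Subgroup.coe_inv]
    exact Subgroup.inv_mem _ (haγ γ hγ)

lemma mem_QQ {p : ℕ} {F : FusionSystem S} {x : Ω} : x ∈ QQ p F ↔ x ∈ ZS S ∧
    ∀ P' : Subgroup Ω, F.IsEssential p P' →
      ∃ hx : x ∈ P', ∀ γ ∈ F.autGroup P', ((γ ⟨x, hx⟩ : ↥P') : Ω) ∈ ZS S := Iff.rfl

variable [Finite S] {p : ℕ} [hp : Fact p.Prime] {F : FusionSystem S} {P : Subgroup Ω} {s : Ω}
  {u : MulAut ↥P} {z : ↥P} {g : MulAut ↥P}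

/-- Elements of `QQ` lie in `P₀`. -/
lemma EData.QQ_le_P0 (ed : EData p F P s u z g) (hP : F.IsEssential p P) : QQ p F ≤ P0 P u g := by
  intro x hx
  obtain ⟨hxZ, hx'⟩ := mem_QQ.mp hx
  obtain ⟨hxP, hγ⟩ := hx' P hP
  rw [mem_P0]
  refine ⟨hxP, (ed.fix_iff _).mpr hxZ, ?_⟩
  have h1 := hγ g⁻¹ ((F.autGroup P).inv_mem ed.hg)
  have h2 := (ed.fix_iff _).mpr h1
  rw [MulAut.mul_apply, MulAut.mul_apply, h2, MulAut.apply_inv_self]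

/-- `QQ` is invariant under `Aut_F(S)`. -/
lemma QQ_G_inv (hS : IsPGroup p S) (hF : F.IsSaturated p)
    (hcore : F.core = ⊥) (hZ : (Subgroup.center ↥S).index ≤ p ^ 2) (hp2 : p = 2)
    {β : MulAut ↥S} (hβ : β ∈ F.autGroup S) {x : ↥S} (hx : (x : Ω) ∈ QQ p F) :
    ((β x : ↥S) : Ω) ∈ QQ p F := by
  obtain ⟨hxZ, hx'⟩ := mem_QQ.mp hx
  rw [mem_QQ]
  refine ⟨aut_mem_ZS β hxZ, fun P' hP' => ?_⟩
  obtain ⟨s', u', z', g', ed'⟩ := exists_EData hS F hF hZ hP'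
  obtain ⟨hxP, hγ⟩ := hx' P' hP'
  obtain ⟨α, hα, hαx⟩ := ed'.restrict hS hF hcore hZ hp2 hβ
  have hβx : ((β x : ↥S) : Ω) ∈ P' := ed'.stab hS hF hcore hZ hp2 hβ hxP
  refine ⟨hβx, fun γ hγ' => ?_⟩
  have h1 := hγ (γ * α) ((F.autGroup P').mul_mem hγ' hα)
  rw [MulAut.mul_apply] at h1
  have h2 : α ⟨(x : Ω), hxP⟩ = ⟨((β x : ↥S) : Ω), hβx⟩ := Subtype.ext (hαx _)
  rw [h2] at h1
  exact h1

/-- `QQ` is trivial. -/
theorem QQ_eq_bot (hS : IsPGroup p S) (hF : F.IsSaturated p)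
    (hcore : F.core = ⊥) (hZ : (Subgroup.center ↥S).index ≤ p ^ 2) (hp2 : p = 2) :
    QQ p F = ⊥ := by
  apply eq_bot_of_invariant hS F hF hcore (QQ p F)
  · intro x hx
    exact ZS_le (mem_QQ.mp hx).1
  · intro β hβ x hx
    exact QQ_G_inv hS hF hcore hZ hp2 hβ hx
  · intro P' hP'
    obtain ⟨s', u', z', g', ed'⟩ := exists_EData hS F hF hZ hP'
    refine ⟨(ed'.QQ_le_P0 hP').trans ed'.P0_le, fun α hα x hx => ?_⟩
    obtain ⟨k, hk, n, hn, hαkn, hnu, hkfix, -⟩ := ed'.res.frattini α hα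
    obtain ⟨ν, hν, hνx⟩ := ed'.ext n hn hnu
    have h1 : ((ν ⟨x, ed'.setup.hPS x.2⟩ : ↥S) : Ω) ∈ QQ p F :=
      QQ_G_inv hS hF hcore hZ hp2 hν (x := ⟨x, ed'.setup.hPS x.2⟩) hx
    rw [hνx x] at h1
    have h2 := ed'.QQ_le_P0 hP' h1
    rw [coe_mem_P0] at h2
    have h3 : α x = n x := by
      rw [hαkn, MulAut.mul_apply, hkfix _ h2.1 h2.2]
    rw [h3]
    exact h1

end Cfsg.Agent.Lead.CenterIdx
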