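import Mathlib
import Cfsg.Agent.Lead.CenterIdxL
import Cfsg.Agent.Lead.FusionExtT

set_option autoImplicit false

/-! The case `p = 2`: structure with two essential subgroups. -/

namespace Cfsg.Agent.Lead.CenterIdx

open Cfsg Cfsg.FusionSystem

variable {Ω : Type*} [Group Ω] {S : Subgroup Ω}

variable [Finite S] {p : ℕ} [hp : Fact p.Prime] {F : FusionSystem S} {P : Subgroup Ω} {s : Ω}
  {u : MulAut ↥P} {z : ↥P} {g : MulAut ↥P}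

/-- Every element of `S` lies in `P` or in the coset `s₀ P`. -/
lemma EData.mem_or_S (ed : EData p F P s u z g) (hS : IsPGroup p S) (hp2 : p = 2) {s₀ : Ω}
    (hs₀ : s₀ ∈ S) (hs₀P : s₀ ∉ P) {x : Ω} (hx : x ∈ S) : x ∈ P ∨ s₀⁻¹ * x ∈ P := by
  obtain ⟨i, y, hy, hxy⟩ := ed.setup.exists_pow_mul hS hs₀ hs₀P hx
  have hs2 : s₀ ^ 2 ∈ P := by
    have := ed.setup.pow_mem hS hs₀
    rwa [hp2] at this
  rcases Nat.even_or_odd' i with ⟨k, rfl | rfl⟩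
  · left
    rw [hxy, pow_mul]
    exact P.mul_mem (P.pow_mem hs2 k) hy
  · right
    have : s₀⁻¹ * x = (s₀ ^ 2) ^ k * y := by
      rw [hxy, pow_succ', pow_mul]
      group
    rw [this]
    exact P.mul_mem (P.pow_mem hs2 k) hy

/-- Every element of `P` is a central element times an element of `W`. -/
lemma EData.exists_mul_W (ed : EData p F P s u z g) (hp2 : p = 2) {y : Ω} (hy : y ∈ P) :
    ∃ ζ ∈ ZS S, ∃ d ∈ WW P z g, y = ζ * d := by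
  rcases ed.mem_or hp2 hy with h | h
  · exact ⟨y, h, 1, Subgroup.one_mem _, (mul_one y).symm⟩
  · exact ⟨y * ((g z : ↥P) : Ω), h, (((g z : ↥P) : Ω))⁻¹, Subgroup.inv_mem _ ed.a_mem_WW,
      by rw [mul_inv_cancel_right]⟩

/-- The focal computation on an essential subgroup. -/
lemma EData.ess_case (ed : EData p F P s u z g) (D : Subgroup Ω) (hWD : WW P z g ≤ D)
    (hS_case : ∀ β ∈ F.autGroup S, ∀ x : ↥S, (x : Ω)⁻¹ * ((β x : ↥S) : Ω) ∈ D)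
    {α : MulAut ↥P} (hα : α ∈ F.autGroup P) (x : ↥P) : (x : Ω)⁻¹ * ((α x : ↥P) : Ω) ∈ D := by
  obtain ⟨k, hk, n, hn, hαkn, hnu, -, hkW⟩ := ed.res.frattini α hα
  obtain ⟨ν, hν, hνx⟩ := ed.ext n hn hnu
  have h1 := hS_case ν hν ⟨x, ed.setup.hPS x.2⟩
  rw [hνx x] at h1
  have h2 : (((n x)⁻¹ * k (n x) : ↥P) : Ω) ∈ WW P z g := (ed.coe_mem_WW).mpr (hkW (n x))
  have h3 := D.mul_mem h1 (hWD h2)
  have e : (x : Ω)⁻¹ * ((α x : ↥P) : Ω) =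
      (x : Ω)⁻¹ * ((n x : ↥P) : Ω) * (((n x)⁻¹ * k (n x) : ↥P) : Ω) := by
    rw [hαkn, MulAut.mul_apply, Subgroup.coe_mul, Subgroup.coe_inv]
    group
  rw [e]
  exact h3

/-- With two distinct essential subgroups, there is no further one. -/
lemma only_two {P₁ P₂ : Subgroup Ω} {s₁ s₂ : Ω} {u₁ : MulAut ↥P₁} {z₁ : ↥P₁} {g₁ : MulAut ↥P₁}
    {u₂ : MulAut ↥P₂} {z₂ : ↥P₂} {g₂ : MulAut ↥P₂}
    (ed₁ : EData p F P₁ s₁ u₁ z₁ g₁) (ed₂ : EData p F P₂ s₂ u₂ z₂ g₂)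
    (hS : IsPGroup p S) (hF : F.IsSaturated p) (hcore : F.core = ⊥)
    (hZ : (Subgroup.center ↥S).index ≤ p ^ 2) (hp2 : p = 2)
    (ha₂ : ((g₂ z₂ : ↥P₂) : Ω) ∉ P₁) {P₃ : Subgroup Ω} (hP₃ : F.IsEssential p P₃) :
    P₃ = P₁ ∨ P₃ = P₂ := by
  obtain ⟨s₃, u₃, z₃, g₃, ed₃⟩ := exists_EData hS F hF hZ hP₃
  have ha₂S : ((g₂ z₂ : ↥P₂) : Ω) ∈ S := ed₂.setup.hPS (g₂ z₂).2
  have ha₃S : ((g₃ z₃ : ↥P₃) : Ω) ∈ S := ed₃.setup.hPS (g₃ z₃).2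
  rcases ed₁.mem_or_S hS hp2 ha₂S ha₂ ha₃S with h | h
  · left
    exact Setup.eq_of_le ed₃.setup ed₁.setup hS (ed₃.le_of_a_mem hp2 ed₁.setup.ZS_le h)
  · rcases ed₁.mem_or hp2 h with h1 | h1
    · right
      apply Setup.eq_of_le ed₃.setup ed₂.setup hS
      apply ed₃.le_of_a_mem hp2 ed₂.setup.ZS_le
      have := P₂.mul_mem (g₂ z₂).2 (ed₂.setup.ZS_le h1)
      rwa [mul_inv_cancel_left] at this
    · exfalso
      apply ed₁.a_not_mem_ZS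
      rw [ed₁.setup.mem_ZS_iff hS ha₂S ha₂ (g₁ z₁).2]
      have hζ := mem_ZS.mp h1
      have ha1 : ((g₁ z₁ : ↥P₁) : Ω) * ((g₁ z₁ : ↥P₁) : Ω) = 1 := by
        rw [← pow_two]; exact ed₁.a_sq hp2
      have ha2 : ((g₂ z₂ : ↥P₂) : Ω) * ((g₂ z₂ : ↥P₂) : Ω) = 1 := by
        rw [← pow_two]; exact ed₂.a_sq hp2
      have ha3 : ((g₃ z₃ : ↥P₃) : Ω) * ((g₃ z₃ : ↥P₃) : Ω) = 1 := by
        rw [← pow_two]; exact ed₃.a_sq hp2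
      have hζ2 : (((g₂ z₂ : ↥P₂) : Ω)⁻¹ * ((g₃ z₃ : ↥P₃) : Ω) * ((g₁ z₁ : ↥P₁) : Ω)) *
          (((g₂ z₂ : ↥P₂) : Ω)⁻¹ * ((g₃ z₃ : ↥P₃) : Ω) * ((g₁ z₁ : ↥P₁) : Ω)) = 1 := by
        rw [← pow_two]
        exact sq_eq_one hS hF hcore hZ hp2 h1
      have ec : ((g₃ z₃ : ↥P₃) : Ω) = ((g₂ z₂ : ↥P₂) : Ω) *
          (((g₂ z₂ : ↥P₂) : Ω)⁻¹ * ((g₃ z₃ : ↥P₃) : Ω) * ((g₁ z₁ : ↥P₁) : Ω)) *
          ((g₁ z₁ : ↥P₁) : Ω) := by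
        rw [mul_assoc (((g₂ z₂ : ↥P₂) : Ω)⁻¹) _ _, mul_assoc ((g₂ z₂ : ↥P₂) : Ω) _ _,
          mul_assoc, mul_assoc, ha1, mul_one, mul_inv_cancel_left]
      rw [ec] at ha3
      exact TwoB.key_alg (hζ.2 _ ha₂S)
        (hζ.2 _ (S.mul_mem (ed₁.setup.hPS (g₁ z₁).2) ha₂S)) hζ2 ha1 ha2 ha3

end Cfsg.Agent.Lead.CenterIdx
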