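import Mathlib
import Cfsg.Agent.Lead.CenterIdxM
import Cfsg.Agent.Lead.FusionFocal

set_option autoImplicit false

/-! The case `p = 2`: `P₀ = 1`. -/

namespace Cfsg.Agent.Lead.CenterIdx

open Cfsg Cfsg.FusionSystem

variable {Ω : Type*} [Group Ω] {S : Subgroup Ω}

variable [Finite S] {p : ℕ} [hp : Fact p.Prime] {F : FusionSystem S}

/-- The hyperfocal subgroup lies in any subgroup containing all `x⁻¹ φ(x)`. -/
lemma hyperfocal_le_of_forall (hS : IsPGroup p S) (hF : F.IsSaturated p) (D : Subgroup Ω)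
    (hD : ∀ (P : Subgroup Ω) (φ : P →* Ω), φ ∈ F.Hom P → ∀ x : P, (x : Ω)⁻¹ * φ x ∈ D) :
    F.hyperfocalSubgroup p ≤ D := by
  have h1 : F.hyperfocalSubgroup p ≤ F.focalSubgroup := by
    rw [Fusion.focal_eq p hS F hF]
    exact le_sup_left
  refine h1.trans ?_
  unfold FusionSystem.focalSubgroup
  rw [Subgroup.closure_le]
  rintro y ⟨P, φ, x, hφ, rfl⟩
  exact hD P φ hφ x

/-- The focal subgroup computation by Alperin's theorem. -/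
lemma forall_of_alperin (hS : IsPGroup p S) (hF : F.IsSaturated p) (D : Subgroup Ω)
    (hconj : ∀ a ∈ S, ∀ b ∈ S, a * b * a⁻¹ * b⁻¹ ∈ D)
    (hbase : ∀ P : Subgroup Ω, (P = S ∨ F.IsEssential p P) → ∀ α ∈ F.autGroup P, ∀ x : ↥P,
      (x : Ω)⁻¹ * ((α x : ↥P) : Ω) ∈ D)
    (P : Subgroup Ω) (φ : P →* Ω) (hφ : φ ∈ F.Hom P) : ∀ x : P, (x : Ω)⁻¹ * φ x ∈ D := by
  have key := Fusion.pred_of_alperin_ind p hS F hF
    (fun P φ => ∀ x : P, (x : Ω)⁻¹ * φ x ∈ D) ?_ ?_ ?_ ?_ hφ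
  · exact key
  · intro P g hPS hg x
    have h1 : (x : Ω)⁻¹ * conjHom P g x = (x : Ω)⁻¹ * g * ((x : Ω)⁻¹)⁻¹ * g⁻¹ := by
      show (x : Ω)⁻¹ * (g * x * g⁻¹) = _
      group
    rw [h1]
    exact hconj _ (S.inv_mem (hPS x.2)) g hg
  · intro P Q φ ψ h _ _ hPφ hPψ x
    have h1 : (x : Ω)⁻¹ * (ψ.comp (φ.codRestrict Q h)) x =
        ((x : Ω)⁻¹ * φ x) * ((φ x)⁻¹ * ψ ⟨φ x, h x⟩) := by
      show (x : Ω)⁻¹ * ψ ⟨φ x, h x⟩ = _
      group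
    rw [h1]
    exact Subgroup.mul_mem _ (hPφ x) (hPψ ⟨φ x, h x⟩)
  · intro P φ ψ _ hPφ _ hinv
    rintro ⟨_, x, rfl⟩
    rw [hinv x]
    have := Subgroup.inv_mem _ (hPφ x)
    rwa [mul_inv_rev, inv_inv] at this
  · intro P hP _ α hα x
    exact hbase P hP α hα x

/-- In the case `p = 2`, `P₀ = 1`. -/
theorem EData.P0_eq_bot_two {P₁ : Subgroup Ω} {s₁ : Ω} {u₁ : MulAut ↥P₁} {z₁ : ↥P₁}
    {g₁ : MulAut ↥P₁} (ed₁ : EData p F P₁ s₁ u₁ z₁ g₁) (hP₁ : F.IsEssential p P₁)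
    (hS : IsPGroup p S) (hF : F.IsSaturated p) (hcore : F.core = ⊥)
    (hZ : (Subgroup.center ↥S).index ≤ p ^ 2) (hp2 : p = 2)
    (hhyp : F.hyperfocalSubgroup p = S) : P0 P₁ u₁ g₁ = ⊥ := by
  by_contra hne
  obtain ⟨c, hc0, hc1⟩ : ∃ c ∈ P0 P₁ u₁ g₁, c ≠ 1 := by
    by_contra hcon
    push Not at hcon
    apply hne
    rw [eq_bot_iff]
    intro x hx
    rw [Subgroup.mem_bot]
    exact hcon x hx
  have hcZ : c ∈ ZS S := ed₁.P0_le_ZS hc0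
  have hQ := QQ_eq_bot (F := F) hS hF hcore hZ hp2
  have hcQ : c ∉ QQ p F := by
    rw [hQ, Subgroup.mem_bot]; exact hc1
  rw [mem_QQ] at hcQ
  push Not at hcQ
  obtain ⟨P₂, hP₂, hγ₂⟩ := hcQ hcZ
  obtain ⟨s₂, u₂, z₂, g₂, ed₂⟩ := exists_EData hS F hF hZ hP₂
  have hcP₂ : c ∈ P₂ := ed₂.setup.ZS_le hcZ
  obtain ⟨γ₂, hγ₂A, hγ₂c⟩ := hγ₂ hcP₂
  have hc2 : c ∉ P0 P₂ u₂ g₂ := by
    intro h
    exact hγ₂c (ed₂.P0_le_ZS (ed₂.P0_inv hγ₂A (x := ⟨c, hcP₂⟩) h))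
  have hne12 : P₂ ≠ P₁ := by
    intro heq
    have key : ∀ (P' : Subgroup Ω) (_ : P' = P₁) (γ : MulAut ↥P') (_ : γ ∈ F.autGroup P')
        (hx : c ∈ P'), ((γ ⟨c, hx⟩ : ↥P') : Ω) ∈ ZS S := by
      rintro P' rfl γ hγ hx
      exact ed₁.P0_le_ZS (ed₁.P0_inv hγ (x := ⟨c, hx⟩) hc0)
    exact hγ₂c (key P₂ heq γ₂ hγ₂A hcP₂)
  have ha₂ : ((g₂ z₂ : ↥P₂) : Ω) ∉ P₁ := by
    intro h
    exact hne12 (Setup.eq_of_le ed₂.setup ed₁.setup hS (ed₂.le_of_a_mem hp2 ed₁.setup.ZS_le h))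
  have ha₁ : ((g₁ z₁ : ↥P₁) : Ω) ∉ P₂ := by
    intro h
    exact hne12 (Setup.eq_of_le ed₁.setup ed₂.setup hS
      (ed₁.le_of_a_mem hp2 ed₂.setup.ZS_le h)).symm
  have hE : ∀ P₃ : Subgroup Ω, F.IsEssential p P₃ → P₃ = P₁ ∨ P₃ = P₂ :=
    fun P₃ hP₃ => only_two ed₁ ed₂ hS hF hcore hZ hp2 ha₂ hP₃
  -- the intersection of the two `P₀` is trivial
  have hint : ∀ x, x ∈ P0 P₁ u₁ g₁ → x ∈ P0 P₂ u₂ g₂ → x = 1 := by
    intro x hx1 hx2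
    have hxQ : x ∈ QQ p F := by
      rw [mem_QQ]
      refine ⟨ed₁.P0_le_ZS hx1, fun P₃ hP₃ => ?_⟩
      rcases hE P₃ hP₃ with h | h
      · subst h
        exact ⟨ed₁.P0_le hx1, fun γ hγ => ed₁.P0_le_ZS (ed₁.P0_inv hγ (x := ⟨x, ed₁.P0_le hx1⟩) hx1)⟩
      · subst h
        exact ⟨ed₂.P0_le hx2, fun γ hγ => ed₂.P0_le_ZS (ed₂.P0_inv hγ (x := ⟨x, ed₂.P0_le hx2⟩) hx2)⟩
    rw [hQ, Subgroup.mem_bot] at hxQ
    exact hxQ
  -- elements of the first `P₀` times `z₂` lie in the second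
  have hshift : ∀ c' ∈ P0 P₁ u₁ g₁, c' ≠ 1 → c' * (z₂ : Ω) ∈ P0 P₂ u₂ g₂ := by
    intro c' hc' hc'1
    obtain ⟨i, hi⟩ := ed₂.exists_pow_mul_mem_P0 (ed₁.P0_le_ZS hc')
    rcases pow_two_cases (ed₂.z_sq hp2) i with h | h
    · rw [h, mul_one] at hi
      exact absurd (hint c' hc' hi) hc'1
    · rw [h] at hi
      exact hi
  have huniq : ∀ c' ∈ P0 P₁ u₁ g₁, c' = 1 ∨ c' = c := by
    intro c' hc'
    by_cases h1 : c' = 1
    · left; exact h1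
    · right
      have h2 := hshift c' hc' h1
      have h3 := hshift c hc0 hc1
      have h4 := Subgroup.mul_mem _ h2 (Subgroup.inv_mem _ h3)
      have e : c' * (z₂ : Ω) * (c * (z₂ : Ω))⁻¹ = c' * c⁻¹ := by group
      rw [e] at h4
      have h5 := hint _ (Subgroup.mul_mem _ hc' (Subgroup.inv_mem _ hc0)) h4
      exact mul_inv_eq_one.mp h5
  -- `Aut_F(S)` fixes the centre pointwise
  have hz₁S2 : ed₁.zS ^ 2 = 1 := by
    apply Subtype.ext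
    rw [Subgroup.coe_pow, ed₁.zS_coe, ed₁.z_sq hp2]
    rfl
  have hfixz : ∀ β ∈ F.autGroup S, β ed₁.zS = ed₁.zS := by
    intro β _
    obtain ⟨n, hn'⟩ := mem_powers_iff_mem_zpowers.mpr (ed₁.aut_z_mem β)
    have hn : ed₁.zS ^ n = β ed₁.zS := hn'
    rcases pow_two_cases hz₁S2 n with h | h
    · exfalso
      rw [h] at hn
      apply ed₁.zS_ne_one
      have := congrArg (β⁻¹ : MulAut ↥S) hn
      rw [map_one, MulAut.inv_apply_self] at this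
      exact this.symm
    · rw [h] at hn
      exact hn.symm
  have hfixP0 : ∀ β ∈ F.autGroup S, ∀ x : ↥S, (x : Ω) ∈ P0 P₁ u₁ g₁ → β x = x := by
    intro β hβ x hx
    have h1 := ed₁.G_P0 hS hF hcore hZ hp2 hβ hx
    rcases huniq _ hx with h | h
    · have : x = 1 := Subtype.ext h
      rw [this, map_one]
    · rcases huniq _ h1 with h' | h'
      · exfalso
        apply hc1
        have h2 : β x = 1 := Subtype.ext h'
        have h3 := congrArg (β⁻¹ : MulAut ↥S) h2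
        rw [map_one, MulAut.inv_apply_self] at h3
        rw [← h, h3]
        rfl
      · exact Subtype.ext (h'.trans h.symm)
  have hfixZ : ∀ β ∈ F.autGroup S, ∀ x : ↥S, (x : Ω) ∈ ZS S → β x = x := by
    intro β hβ x hx
    obtain ⟨i, hi⟩ := ed₁.exists_pow_mul_mem_P0 hx
    have h1 : ((x * ed₁.zS ^ i : ↥S) : Ω) ∈ P0 P₁ u₁ g₁ := by
      rw [Subgroup.coe_mul, Subgroup.coe_pow]; exact hi
    have h2 := hfixP0 β hβ _ h1
    rw [map_mul, map_pow, hfixz β hβ] at h2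
    exact mul_right_cancel h2
  -- the subgroup `D`
  have hD_G : ∀ β ∈ F.autGroup S, ∀ x : ↥S, (x : Ω) ∈ WW P₁ z₁ g₁ ⊔ WW P₂ z₂ g₂ →
      ((β x : ↥S) : Ω) ∈ WW P₁ z₁ g₁ ⊔ WW P₂ z₂ g₂ := by
    intro β hβ x hx
    have hle : WW P₁ z₁ g₁ ⊔ WW P₂ z₂ g₂ ≤
        (((WW P₁ z₁ g₁ ⊔ WW P₂ z₂ g₂).subgroupOf S).comap β.toMonoidHom).map S.subtype := by
      apply sup_le
      · intro y hy
        have hyS : y ∈ S := ed₁.setup.hPS (ed₁.WW_le hy)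
        refine ⟨⟨y, hyS⟩, ?_, rfl⟩
        rw [SetLike.mem_coe, Subgroup.mem_comap, Subgroup.mem_subgroupOf]
        exact le_sup_left (α := Subgroup Ω)
          (ed₁.G_WW hS hF hcore hZ hp2 hβ (x := ⟨y, hyS⟩) hy)
      · intro y hy
        have hyS : y ∈ S := ed₂.setup.hPS (ed₂.WW_le hy)
        refine ⟨⟨y, hyS⟩, ?_, rfl⟩
        rw [SetLike.mem_coe, Subgroup.mem_comap, Subgroup.mem_subgroupOf]
        exact le_sup_right (α := Subgroup Ω)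
          (ed₂.G_WW hS hF hcore hZ hp2 hβ (x := ⟨y, hyS⟩) hy)
    obtain ⟨y, hy, hyx⟩ := hle hx
    rw [SetLike.mem_coe, Subgroup.mem_comap, Subgroup.mem_subgroupOf] at hy
    have : y = x := Subtype.ext hyx
    rw [← this]
    exact hy
  have ha₂S : ((g₂ z₂ : ↥P₂) : Ω) ∈ S := ed₂.setup.hPS (g₂ z₂).2
  have hSD : ∀ x ∈ S, ∃ ζ ∈ ZS S, ∃ d ∈ WW P₁ z₁ g₁ ⊔ WW P₂ z₂ g₂, x = ζ * d := by
    intro x hx
    rcases ed₁.mem_or_S hS hp2 ha₂S ha₂ hx with h | h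
    · obtain ⟨ζ, hζ, d, hd, rfl⟩ := ed₁.exists_mul_W hp2 h
      exact ⟨ζ, hζ, d, le_sup_left (α := Subgroup Ω) hd, rfl⟩
    · obtain ⟨ζ, hζ, d, hd, hxd⟩ := ed₁.exists_mul_W hp2 h
      refine ⟨ζ, hζ, ((g₂ z₂ : ↥P₂) : Ω) * d, ?_, ?_⟩
      · exact Subgroup.mul_mem _ (le_sup_right (α := Subgroup Ω) ed₂.a_mem_WW)
          (le_sup_left (α := Subgroup Ω) hd)
      · have h1 : x = ((g₂ z₂ : ↥P₂) : Ω) * (ζ * d) := by
          rw [← hxd, mul_inv_cancel_left]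
        rw [h1, ← mul_assoc, (mem_ZS.mp hζ).2 _ ha₂S, mul_assoc]
  have hS_case : ∀ β ∈ F.autGroup S, ∀ x : ↥S,
      (x : Ω)⁻¹ * ((β x : ↥S) : Ω) ∈ WW P₁ z₁ g₁ ⊔ WW P₂ z₂ g₂ := by
    intro β hβ x
    obtain ⟨ζ, hζ, d, hd, hxd⟩ := hSD x x.2
    have hdS : d ∈ S := by
      have := S.mul_mem (S.inv_mem (ZS_le hζ)) x.2
      rwa [hxd, inv_mul_cancel_left] at this
    have hx' : x = (⟨ζ, ZS_le hζ⟩ : ↥S) * ⟨d, hdS⟩ := Subtype.ext hxd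
    have h1 := hfixZ β hβ ⟨ζ, ZS_le hζ⟩ hζ
    have h2 := hD_G β hβ ⟨d, hdS⟩ hd
    have e : (x : Ω)⁻¹ * ((β x : ↥S) : Ω) = d⁻¹ * ((β ⟨d, hdS⟩ : ↥S) : Ω) := by
      rw [hx', map_mul, h1, Subgroup.coe_mul, Subgroup.coe_mul]
      show (ζ * d)⁻¹ * (ζ * _) = _
      group
    rw [e]
    exact Subgroup.mul_mem _ (Subgroup.inv_mem _ hd) h2
  -- the focal subgroup lies in `D`
  have hz₂mem : (z₂ : Ω) ∈ Subgroup.zpowers (z₁ : Ω) := by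
    obtain ⟨a, ha, b, hb, hab⟩ := ed₂.hzc
    rw [hab]
    exact ed₁.comm a ha b hb
  have hfoc : F.hyperfocalSubgroup p ≤ WW P₁ z₁ g₁ ⊔ WW P₂ z₂ g₂ := by
    apply hyperfocal_le_of_forall hS hF
    apply forall_of_alperin hS hF
    · intro a ha b hb
      have h1 := ed₁.comm a ha b hb
      have h2 : Subgroup.zpowers (z₁ : Ω) ≤ WW P₁ z₁ g₁ := by
        rw [Subgroup.zpowers_le]; exact ed₁.z_mem_WW
      exact le_sup_left (α := Subgroup Ω) (h2 h1)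
    · intro P hP α hα x
      rcases hP with h | hP
      · subst h
        exact hS_case α hα x
      · rcases hE P hP with h | h
        · subst h
          exact ed₁.ess_case _ le_sup_left hS_case hα x
        · subst h
          exact ed₂.ess_case _ le_sup_right hS_case hα x
  -- but `c` does not lie in `D`
  have hcD : c ∈ WW P₁ z₁ g₁ ⊔ WW P₂ z₂ g₂ := by
    apply hfoc
    rw [hhyp]
    exact ZS_le hcZ
  haveI hnorm : ((WW P₂ z₂ g₂).subgroupOf S).Normal := by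
    constructor
    intro n hn g₀
    rw [Subgroup.mem_subgroupOf] at hn ⊢
    have h1 := ed₂.comm g₀ g₀.2 n n.2
    have h2 : Subgroup.zpowers (z₂ : Ω) ≤ WW P₂ z₂ g₂ := by
      rw [Subgroup.zpowers_le]; exact ed₂.z_mem_WW
    have h3 := Subgroup.mul_mem _ (h2 h1) hn
    have e : (g₀ : Ω) * n * (g₀ : Ω)⁻¹ * (n : Ω)⁻¹ * n = ((g₀ * n * g₀⁻¹ : ↥S) : Ω) := by
      rw [inv_mul_cancel_right]; rfl
    rw [e] at h3
    exact h3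
  have hW₁S : WW P₁ z₁ g₁ ≤ S := ed₁.WW_le.trans ed₁.setup.hPS
  have hW₂S : WW P₂ z₂ g₂ ≤ S := ed₂.WW_le.trans ed₂.setup.hPS
  have hcD' : (⟨c, ZS_le hcZ⟩ : ↥S) ∈ (WW P₁ z₁ g₁).subgroupOf S ⊔ (WW P₂ z₂ g₂).subgroupOf S := by
    rw [← Subgroup.subgroupOf_sup hW₁S hW₂S, Subgroup.mem_subgroupOf]
    exact hcD
  rw [Subgroup.mem_sup_of_normal_right] at hcD'
  obtain ⟨w₁, hw₁, w₂, hw₂, hw⟩ := hcD'
  rw [Subgroup.mem_subgroupOf] at hw₁ hw₂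
  have hwc : (w₁ : Ω) * (w₂ : Ω) = c := congrArg Subtype.val hw
  obtain ⟨i₂, j₂, hw₂'⟩ := ed₂.exists_of_mem_WW hw₂
  obtain ⟨i₁, j₁, hw₁'⟩ := ed₁.exists_of_mem_WW hw₁
  -- `w₂ ∈ P₁`, hence `w₂` is a power of `z₂`
  have hw₂P₁ : (w₂ : Ω) ∈ P₁ := by
    have h1 : (w₂ : Ω) = (w₁ : Ω)⁻¹ * c := by rw [← hwc, inv_mul_cancel_left]
    rw [h1]
    exact P₁.mul_mem (P₁.inv_mem (ed₁.WW_le hw₁)) (ed₁.setup.ZS_le hcZ)
  have hz₂Z : ∀ n : ℕ, (z₂ : Ω) ^ n ∈ ZS S := fun n => Subgroup.pow_mem _ ed₂.hzZ n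
  have hz₁Z : ∀ n : ℕ, (z₁ : Ω) ^ n ∈ ZS S := fun n => Subgroup.pow_mem _ ed₁.hzZ n
  have hw₂z : (w₂ : Ω) = (z₂ : Ω) ^ i₂ := by
    rcases pow_two_cases (ed₂.a_sq hp2) j₂ with h | h
    · rw [hw₂', h, mul_one]
    · exfalso
      apply ha₂
      rw [h] at hw₂'
      have h1 : ((g₂ z₂ : ↥P₂) : Ω) = ((z₂ : Ω) ^ i₂)⁻¹ * w₂ := by
        rw [hw₂', inv_mul_cancel_left]
      rw [h1]
      exact P₁.mul_mem (P₁.inv_mem (ed₁.setup.ZS_le (hz₂Z i₂))) hw₂P₁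
  have hw₁Z : (w₁ : Ω) ∈ ZS S := by
    have h1 : (w₁ : Ω) = c * ((z₂ : Ω) ^ i₂)⁻¹ := by
      rw [← hwc, hw₂z, mul_inv_cancel_right]
    rw [h1]
    exact Subgroup.mul_mem _ hcZ (Subgroup.inv_mem _ (hz₂Z i₂))
  have hw₁z : (w₁ : Ω) = (z₁ : Ω) ^ i₁ := by
    rcases pow_two_cases (ed₁.a_sq hp2) j₁ with h | h
    · rw [hw₁', h, mul_one]
    · exfalso
      apply ed₁.a_not_mem_ZS
      rw [h] at hw₁'
      have h1 : ((g₁ z₁ : ↥P₁) : Ω) = ((z₁ : Ω) ^ i₁)⁻¹ * w₁ := by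
        rw [hw₁', inv_mul_cancel_left]
      rw [h1]
      exact Subgroup.mul_mem _ (Subgroup.inv_mem _ (hz₁Z i₁)) hw₁Z
  have hcz : c ∈ Subgroup.zpowers (z₁ : Ω) := by
    rw [← hwc, hw₁z, hw₂z]
    exact Subgroup.mul_mem _ (Subgroup.pow_mem _ (Subgroup.mem_zpowers _) i₁)
      (Subgroup.pow_mem _ hz₂mem i₂)
  haveI := ed₁.finite
  have hcz' : (⟨c, ed₁.setup.ZS_le hcZ⟩ : ↥P₁) ∈ Subgroup.zpowers z₁ := by
    rw [mem_zpowers_coe]; exact hcz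
  obtain ⟨m, hm⟩ := mem_powers_iff_mem_zpowers.mpr hcz'
  have hm' : (z₁ : Ω) ^ m = c := by
    have h1 : z₁ ^ m = ⟨c, ed₁.setup.ZS_le hcZ⟩ := hm
    have h2 := congrArg Subtype.val h1
    rwa [Subgroup.coe_pow] at h2
  apply hc1
  rw [← hm']
  apply ed₁.pow_mem_P0
  rw [hm']
  exact hc0

end Cfsg.Agent.Lead.CenterIdx
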