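import Mathlib
import Cfsg.Agent.Lead.CenterIdxN
import Cfsg.Agent.Helper8.Dihedral8

set_option autoImplicit false

/-! Saturated fusion systems with `O_p(F) = 1`, `hyp(F) = S` and `|S : Z(S)| ≤ p²`. -/

namespace Cfsg.Agent.Lead.CenterIdx

open Cfsg Cfsg.FusionSystem

theorem main {Ω : Type*} [Group Ω] {S : Subgroup Ω} [Finite S] (p : ℕ) [Fact p.Prime]
    (hS : IsPGroup p ↥S) (F : Cfsg.FusionSystem S) (hF : F.IsSaturated p) (hS1 : S ≠ ⊥)
    (hcore : F.core = ⊥) (hhyp : F.hyperfocalSubgroup p = S)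
    (hZ : (Subgroup.center ↥S).index ≤ p ^ 2) :
    Cfsg.IsExtraspecial p ↥S ∧ Nat.card S = p ^ 3 ∧ (p ≠ 2 → Monoid.exponent ↥S = p) ∧
      (p = 2 → Nonempty (↥S ≃* DihedralGroup 4)) := by
  obtain ⟨P, hP⟩ := exists_essential hS F hF hcore hS1
  obtain ⟨s, u, z, g, ed⟩ := exists_EData hS F hF hZ hP
  have h0 : P0 P u g = ⊥ := by
    by_cases hp2 : p = 2
    · exact ed.P0_eq_bot_two hP hS hF hcore hZ hp2 hhyp
    · exact ed.P0_eq_bot hS hF hcore hZ hp2
  refine ⟨ed.isExtraspecial hS h0, ed.card_S hS h0,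
    fun hp2 => ed.exponent hS hF hcore hZ hp2, fun hp2 => ?_⟩
  have hcard : Nat.card S = 8 := by
    rw [ed.card_S hS h0, hp2]
    norm_num
  apply Cfsg.Agent.Helper8.Dihedral8.exists_mulEquiv hcard ed.aS ⟨s, ed.hsS⟩
  · apply Subtype.ext
    have := ed.a_sq hp2
    rw [pow_two] at this
    exact this
  · intro h
    apply ed.res.pair1
    apply Subtype.ext
    rw [ed.hu]
    exact congrArg Subtype.val h

end Cfsg.Agent.Lead.CenterIdx
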