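import Mathlib
import Cfsg.Agent.Lead.ClassCountA

/-!
Commuting pairs in a split extension `X = V ⋊ G` with `V` abelian and `(|V|, |G|) = 1`.
-/

set_option autoImplicit false

namespace Cfsg.Agent.Lead.ClassCountB

open Cfsg.Agent.Lead.ClassCountA

universe u

variable {X : Type u} [Group X]

/-- The conjugation automorphism of `V` induced by `g`. -/
abbrev cj (V : Subgroup X) [V.Normal] (g : X) : MulAut ↥V := MulAut.conjNormal g

theorem cj_coe (V : Subgroup X) [V.Normal] (g : X) (v : ↥V) :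
    ((cj V g v : ↥V) : X) = g * v * g⁻¹ := MulAut.conjNormal_apply g v

theorem decomp_unique (V G : Subgroup X) (hGV : Subgroup.IsComplement' V G) {v w : ↥V} {g h : ↥G}
    (heq : (v : X) * g = w * h) : v = w ∧ g = h := by
  have hinj := (Subgroup.isComplement'_def.1 hGV).1
  have := @hinj (v, g) (w, h) heq
  exact ⟨congrArg Prod.fst this, congrArg Prod.snd this⟩

theorem commute_iff (V G : Subgroup X) [V.Normal] (hGV : Subgroup.IsComplement' V G)
    (hab : ∀ a ∈ V, ∀ b ∈ V, a * b = b * a) (v w : ↥V) (g h : ↥G) :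
    Commute ((v : X) * g) ((w : X) * h) ↔
      (Commute g h ∧ v * cj V g w = w * cj V h v) := by
  have h1 : (v : X) * g * (w * h) = ((v * cj V g w : ↥V) : X) * ((g * h : ↥G) : X) := by
    rw [Subgroup.coe_mul, Subgroup.coe_mul, cj_coe]; group
  have h2 : (w : X) * h * (v * g) = ((w * cj V h v : ↥V) : X) * ((h * g : ↥G) : X) := by
    rw [Subgroup.coe_mul, Subgroup.coe_mul, cj_coe]; group
  constructor
  · intro hc
    have h3 : ((v * cj V g w : ↥V) : X) * ((g * h : ↥G) : X) =
        ((w * cj V h v : ↥V) : X) * ((h * g : ↥G) : X) := by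
      rw [← h1, ← h2]; exact hc.eq
    obtain ⟨h4, h5⟩ := decomp_unique V G hGV h3
    exact ⟨h5, h4⟩
  · rintro ⟨hc, hv⟩
    change (v : X) * g * (w * h) = (w : X) * h * (v * g)
    rw [h1, h2, hv, hc.eq]

/-- Inner count: pairs `(v, w)` for a fixed commuting pair `(g, h)`. -/
theorem card_inner [Finite X] (V G : Subgroup X) [V.Normal]
    (hab : ∀ a ∈ V, ∀ b ∈ V, a * b = b * a) (hcop : (Nat.card V).Coprime (Nat.card G))
    (g h : ↥G) (hgh : Commute g h) :
    Nat.card {vw : ↥V × ↥V // vw.1 * cj V g vw.2 = vw.2 * cj V h vw.1} =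
      Nat.card V * Nat.card {w : ↥V // cj V g w = w ∧ cj V h w = w} := by
  letI : CommGroup ↥V :=
    { (inferInstance : Group ↥V) with
      mul_comm := fun a b => Subtype.ext (hab a a.2 b b.2) }
  have hαβ : cj V (h : X) * cj V (g : X) = cj V (g : X) * cj V (h : X) := by
    unfold cj
    rw [← map_mul, ← map_mul, ← Subgroup.coe_mul, ← Subgroup.coe_mul, hgh.eq]
  have hn : cj V (h : X) ^ Nat.card G = 1 := by
    unfold cj
    rw [← map_pow, ← Subgroup.coe_pow, pow_card_eq_one', Subgroup.coe_one, map_one]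
  have h1 := card_pairs (W := ↥V) (cj V (h : X)) (cj V (g : X)) hαβ (Nat.card G) hn hcop.symm
  rw [h1]
  congr 1
  apply Nat.card_congr
  apply Equiv.subtypeEquivRight
  intro w
  exact and_comm

/-- Commuting pairs of `X` in terms of commuting pairs of `G`. -/
theorem card_comm_pairs [Finite X] (V G : Subgroup X) [V.Normal]
    (hGV : Subgroup.IsComplement' V G)
    (hab : ∀ a ∈ V, ∀ b ∈ V, a * b = b * a) (hcop : (Nat.card V).Coprime (Nat.card G)) :
    Nat.card {q : X × X // Commute q.1 q.2} =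
      Nat.card V * Nat.card (Σ gh : {q : ↥G × ↥G // Commute q.1 q.2},
        {w : ↥V // cj V (gh.1.1 : X) w = w ∧ cj V (gh.1.2 : X) w = w}) := by
  classical
  obtain ⟨e, he⟩ : ∃ e : ↥V × ↥G ≃ X, ∀ p, e p = (p.1 : X) * p.2 :=
    ⟨Equiv.ofBijective _ (Subgroup.isComplement'_def.1 hGV), fun p => rfl⟩
  have h1 : Nat.card {q : X × X // Commute q.1 q.2} =
      Nat.card (Σ gh : {q : ↥G × ↥G // Commute q.1 q.2},
        {vw : ↥V × ↥V // vw.1 * cj V (gh.1.1 : X) vw.2 = vw.2 * cj V (gh.1.2 : X) vw.1}) := by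
    apply Nat.card_congr
    refine Equiv.trans ?_ (Equiv.subtypeProdEquivSigmaSubtype
      (fun (gh : {q : ↥G × ↥G // Commute q.1 q.2}) (vw : ↥V × ↥V) =>
        vw.1 * cj V (gh.1.1 : X) vw.2 = vw.2 * cj V (gh.1.2 : X) vw.1))
    refine
      { toFun := fun q =>
          ⟨(⟨((e.symm q.1.1).2, (e.symm q.1.2).2), ?_⟩, ((e.symm q.1.1).1, (e.symm q.1.2).1)), ?_⟩
        invFun := fun s => ⟨(e (s.1.2.1, s.1.1.1.1), e (s.1.2.2, s.1.1.1.2)), ?_⟩
        left_inv := ?_
        right_inv := ?_ }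
    · have hq := q.2
      have e1 : q.1.1 = ((e.symm q.1.1).1 : X) * (e.symm q.1.1).2 := by
        rw [← he, Equiv.apply_symm_apply]
      have e2 : q.1.2 = ((e.symm q.1.2).1 : X) * (e.symm q.1.2).2 := by
        rw [← he, Equiv.apply_symm_apply]
      rw [e1, e2] at hq
      exact ((commute_iff V G hGV hab _ _ _ _).1 hq).1
    · have hq := q.2
      have e1 : q.1.1 = ((e.symm q.1.1).1 : X) * (e.symm q.1.1).2 := by
        rw [← he, Equiv.apply_symm_apply]
      have e2 : q.1.2 = ((e.symm q.1.2).1 : X) * (e.symm q.1.2).2 := by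
        rw [← he, Equiv.apply_symm_apply]
      rw [e1, e2] at hq
      exact ((commute_iff V G hGV hab _ _ _ _).1 hq).2
    · change Commute (e (s.1.2.1, s.1.1.1.1)) (e (s.1.2.2, s.1.1.1.2))
      rw [he, he]
      exact (commute_iff V G hGV hab _ _ _ _).2 ⟨s.1.1.2, s.2⟩
    · intro q
      apply Subtype.ext
      apply Prod.ext
      · change e ((e.symm q.1.1).1, (e.symm q.1.1).2) = q.1.1
        exact Equiv.apply_symm_apply e _
      · change e ((e.symm q.1.2).1, (e.symm q.1.2).2) = q.1.2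
        exact Equiv.apply_symm_apply e _
    · rintro ⟨⟨⟨⟨g, h⟩, hgh⟩, ⟨v, w⟩⟩, hvw⟩
      apply Subtype.ext
      apply Prod.ext
      · apply Subtype.ext
        apply Prod.ext
        · change (e.symm (e (v, g))).2 = g
          rw [Equiv.symm_apply_apply]
        · change (e.symm (e (w, h))).2 = h
          rw [Equiv.symm_apply_apply]
      · apply Prod.ext
        · change (e.symm (e (v, g))).1 = v
          rw [Equiv.symm_apply_apply]
        · change (e.symm (e (w, h))).1 = w
          rw [Equiv.symm_apply_apply]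
  rw [h1]
  haveI : Fintype {q : ↥G × ↥G // Commute q.1 q.2} := Fintype.ofFinite _
  rw [Nat.card_sigma, Nat.card_sigma, Finset.mul_sum]
  apply Finset.sum_congr rfl
  intro gh _
  exact card_inner V G hab hcop gh.1.1 gh.1.2 gh.2

end Cfsg.Agent.Lead.ClassCountB
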