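import Mathlib
import Cfsg.Agent.Lead.ClassCountB

/-!
Class number of a coprime split extension with abelian kernel: `k(VG) = ∑ₛ k(C_G(s))`.
-/

set_option autoImplicit false

namespace Cfsg.Agent.Lead.ClassCountC

open Cfsg.Agent.Lead.ClassCountB

universe u

variable {X : Type u} [Group X]

/-- Double counting. -/
theorem card_sigma_swap (V G : Subgroup X) [V.Normal] :
    Nat.card (Σ gh : {q : ↥G × ↥G // Commute q.1 q.2},
        {w : ↥V // cj V (gh.1.1 : X) w = w ∧ cj V (gh.1.2 : X) w = w}) =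
    Nat.card (Σ w : ↥V, {gh : {q : ↥G × ↥G // Commute q.1 q.2} //
        cj V (gh.1.1 : X) w = w ∧ cj V (gh.1.2 : X) w = w}) := by
  apply Nat.card_congr
  refine (Equiv.subtypeProdEquivSigmaSubtype
    (fun (gh : {q : ↥G × ↥G // Commute q.1 q.2}) (w : ↥V) =>
      cj V (gh.1.1 : X) w = w ∧ cj V (gh.1.2 : X) w = w)).symm.trans ?_
  refine Equiv.trans ?_ (Equiv.subtypeProdEquivSigmaSubtype
    (fun (w : ↥V) (gh : {q : ↥G × ↥G // Commute q.1 q.2}) =>
      cj V (gh.1.1 : X) w = w ∧ cj V (gh.1.2 : X) w = w))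
  exact (Equiv.prodComm _ _).subtypeEquiv (fun _ => Iff.rfl)

/-- Pairs fixing `s` are the commuting pairs of `C_G(s)`. -/
theorem card_fix_eq (V G : Subgroup X) [V.Normal] (s : ↥V) :
    Nat.card {gh : {q : ↥G × ↥G // Commute q.1 q.2} //
        cj V (gh.1.1 : X) s = s ∧ cj V (gh.1.2 : X) s = s} =
    Nat.card (ConjClasses ↥(G ⊓ Subgroup.centralizer ({(s : X)} : Set X))) *
      Nat.card ↥(G ⊓ Subgroup.centralizer ({(s : X)} : Set X)) := by
  rw [← card_comm_eq_card_conjClasses_mul_card]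
  have hfix : ∀ g : X, cj V g s = s ↔ g ∈ Subgroup.centralizer ({(s : X)} : Set X) := by
    intro g
    rw [Subgroup.mem_centralizer_singleton_iff, ← Subtype.coe_inj, cj_coe]
    constructor
    · intro h
      have := congrArg (fun z => z * g) h
      simpa [mul_assoc] using this
    · intro h
      rw [h]; simp
  apply Nat.card_congr
  refine
    { toFun := fun gh => ⟨(⟨gh.1.1.1, Subgroup.mem_inf.2 ⟨gh.1.1.1.2, (hfix _).1 gh.2.1⟩⟩,
          ⟨gh.1.1.2, Subgroup.mem_inf.2 ⟨gh.1.1.2.2, (hfix _).1 gh.2.2⟩⟩), ?_⟩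
      invFun := fun q => ⟨⟨(⟨q.1.1, (Subgroup.mem_inf.1 q.1.1.2).1⟩,
          ⟨q.1.2, (Subgroup.mem_inf.1 q.1.2.2).1⟩), ?_⟩, ?_⟩
      left_inv := fun gh => rfl
      right_inv := fun q => rfl }
  · have h1 := gh.1.2
    apply Subtype.ext
    have h2 := congrArg Subtype.val h1.eq
    simpa using h2
  · have h1 := q.2
    apply Subtype.ext
    have h2 := congrArg Subtype.val h1.eq
    simpa using h2
  · exact ⟨(hfix _).2 (Subgroup.mem_inf.1 q.1.1.2).2, (hfix _).2 (Subgroup.mem_inf.1 q.1.2.2).2⟩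

/-- The fixing-pair count is constant on `G`-orbits. -/
theorem card_fix_conj (V G : Subgroup X) [V.Normal] (w : ↥V) (t : ↥G) :
    Nat.card {gh : {q : ↥G × ↥G // Commute q.1 q.2} //
        cj V (gh.1.1 : X) (cj V (t : X) w) = cj V (t : X) w ∧
        cj V (gh.1.2 : X) (cj V (t : X) w) = cj V (t : X) w} =
    Nat.card {gh : {q : ↥G × ↥G // Commute q.1 q.2} //
        cj V (gh.1.1 : X) w = w ∧ cj V (gh.1.2 : X) w = w} := by
  have hkey : ∀ g : ↥G, cj V ((t⁻¹ * g * t : ↥G) : X) w = w ↔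
      cj V (g : X) (cj V (t : X) w) = cj V (t : X) w := by
    intro g
    have h1 : cj V ((t⁻¹ * g * t : ↥G) : X) w =
        cj V ((t : X)⁻¹) (cj V (g : X) (cj V (t : X) w)) := by
      unfold cj
      rw [Subgroup.coe_mul, Subgroup.coe_mul, Subgroup.coe_inv, map_mul, map_mul]
      rfl
    rw [h1]
    constructor
    · intro h
      have h2 := congrArg (cj V (t : X)) h
      unfold cj at h2 ⊢
      rw [← MulAut.mul_apply, ← map_mul, mul_inv_cancel, map_one, MulAut.one_apply] at h2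
      exact h2
    · intro h
      rw [h]
      unfold cj
      rw [← MulAut.mul_apply, ← map_mul, inv_mul_cancel, map_one, MulAut.one_apply]
  apply Nat.card_congr
  refine
    { toFun := fun gh => ⟨⟨(t⁻¹ * gh.1.1.1 * t, t⁻¹ * gh.1.1.2 * t), ?_⟩, ?_⟩
      invFun := fun gh => ⟨⟨(t * gh.1.1.1 * t⁻¹, t * gh.1.1.2 * t⁻¹), ?_⟩, ?_⟩
      left_inv := ?_
      right_inv := ?_ }
  · have h1 : Commute gh.1.1.1 gh.1.1.2 := gh.1.2
    change (t⁻¹ * gh.1.1.1 * t) * (t⁻¹ * gh.1.1.2 * t) = (t⁻¹ * gh.1.1.2 * t) * (t⁻¹ * gh.1.1.1 * t)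
    have e1 : (t⁻¹ * gh.1.1.1 * t) * (t⁻¹ * gh.1.1.2 * t) = t⁻¹ * (gh.1.1.1 * gh.1.1.2) * t := by
      group
    have e2 : (t⁻¹ * gh.1.1.2 * t) * (t⁻¹ * gh.1.1.1 * t) = t⁻¹ * (gh.1.1.2 * gh.1.1.1) * t := by
      group
    rw [e1, e2, h1.eq]
  · exact ⟨(hkey _).2 gh.2.1, (hkey _).2 gh.2.2⟩
  · have h1 : Commute gh.1.1.1 gh.1.1.2 := gh.1.2
    change (t * gh.1.1.1 * t⁻¹) * (t * gh.1.1.2 * t⁻¹) = (t * gh.1.1.2 * t⁻¹) * (t * gh.1.1.1 * t⁻¹)
    have e1 : (t * gh.1.1.1 * t⁻¹) * (t * gh.1.1.2 * t⁻¹) = t * (gh.1.1.1 * gh.1.1.2) * t⁻¹ := by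
      group
    have e2 : (t * gh.1.1.2 * t⁻¹) * (t * gh.1.1.1 * t⁻¹) = t * (gh.1.1.2 * gh.1.1.1) * t⁻¹ := by
      group
    rw [e1, e2, h1.eq]
  · refine ⟨(hkey _).1 ?_, (hkey _).1 ?_⟩
    · have e : t⁻¹ * (t * gh.1.1.1 * t⁻¹) * t = gh.1.1.1 := by group
      rw [e]; exact gh.2.1
    · have e : t⁻¹ * (t * gh.1.1.2 * t⁻¹) * t = gh.1.1.2 := by group
      rw [e]; exact gh.2.2
  · intro gh
    apply Subtype.ext
    apply Subtype.ext
    apply Prod.ext
    · change t * (t⁻¹ * gh.1.1.1 * t) * t⁻¹ = gh.1.1.1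
      group
    · change t * (t⁻¹ * gh.1.1.2 * t) * t⁻¹ = gh.1.1.2
      group
  · intro gh
    apply Subtype.ext
    apply Subtype.ext
    apply Prod.ext
    · change t⁻¹ * (t * gh.1.1.1 * t⁻¹) * t = gh.1.1.1
      group
    · change t⁻¹ * (t * gh.1.1.2 * t⁻¹) * t = gh.1.1.2
      group

/-- Orbit–stabilizer for the conjugation action of `G` on `V`. -/
theorem card_orbit_mul [Finite X] (V G : Subgroup X) [V.Normal] (s : ↥V) :
    Nat.card {w : ↥V // ∃ t : ↥G, cj V (t : X) s = w} *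
      Nat.card ↥(G ⊓ Subgroup.centralizer ({(s : X)} : Set X)) = Nat.card G := by
  letI : MulAction ↥G ↥V :=
    MulAction.compHom ↥V ((MulAut.conjNormal (H := V)).comp G.subtype)
  have hsmul : ∀ (t : ↥G) (w : ↥V), t • w = cj V (t : X) w := fun t w => rfl
  have h1 := Subgroup.card_eq_card_quotient_mul_card_subgroup (MulAction.stabilizer ↥G s)
  rw [← Nat.card_congr (MulAction.orbitEquivQuotientStabilizer ↥G s)] at h1
  rw [h1]
  congr 1
  apply Nat.card_congr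
  refine
    { toFun := fun c => ⟨⟨c.1, (Subgroup.mem_inf.1 c.2).1⟩, ?_⟩
      invFun := fun c => ⟨c.1.1, Subgroup.mem_inf.2 ⟨c.1.2, ?_⟩⟩
      left_inv := fun c => rfl
      right_inv := fun c => rfl }
  · rw [MulAction.mem_stabilizer_iff, hsmul, ← Subtype.coe_inj, cj_coe]
    have h2 := (Subgroup.mem_centralizer_singleton_iff.1 (Subgroup.mem_inf.1 c.2).2)
    rw [h2]; simp
  · have h2 := c.2
    rw [MulAction.mem_stabilizer_iff, hsmul, ← Subtype.coe_inj, cj_coe] at h2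
    rw [Subgroup.mem_centralizer_singleton_iff]
    have := congrArg (fun z => z * (c.1 : X)) h2
    simpa [mul_assoc] using this

theorem s4956 [Finite X] (V : Subgroup X) [V.Normal]
    (hab : ∀ a ∈ V, ∀ b ∈ V, a * b = b * a) (G : Subgroup X)
    (hGV : Subgroup.IsComplement' V G) (hcop : (Nat.card V).Coprime (Nat.card G)) (S : Finset X)
    (hSV : ∀ s ∈ S, s ∈ V) (hrep : ∀ v ∈ V, ∃! s, s ∈ S ∧ ∃ g ∈ G, g * v * g⁻¹ = s) :
    Nat.card (ConjClasses X) =
      ∑ s ∈ S, Nat.card (ConjClasses ↥(G ⊓ Subgroup.centralizer ({s} : Set X))) := by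
  classical
  haveI : Fintype ↥V := Fintype.ofFinite _
  -- the representative map
  obtain ⟨r, hr⟩ : ∃ r : ↥V → X, ∀ w : ↥V, (r w ∈ S ∧ ∃ g ∈ G, g * (w : X) * g⁻¹ = r w) ∧
      ∀ y, (y ∈ S ∧ ∃ g ∈ G, g * (w : X) * g⁻¹ = y) → y = r w :=
    ⟨fun w => Classical.choose (hrep w w.2), fun w => Classical.choose_spec (hrep w w.2)⟩
  -- abbreviation for the fixing-pair count
  obtain ⟨Φ, hΦ⟩ : ∃ Φ : ↥V → ℕ, ∀ w, Φ w = Nat.card {gh : {q : ↥G × ↥G // Commute q.1 q.2} //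
        cj V (gh.1.1 : X) w = w ∧ cj V (gh.1.2 : X) w = w} := ⟨_, fun _ => rfl⟩
  have h1 := card_comm_eq_card_conjClasses_mul_card X
  rw [card_comm_pairs V G hGV hab hcop, card_sigma_swap, Nat.card_sigma] at h1
  have h2 : ∑ w : ↥V, Nat.card {gh : {q : ↥G × ↥G // Commute q.1 q.2} //
        cj V (gh.1.1 : X) w = w ∧ cj V (gh.1.2 : X) w = w} = ∑ w : ↥V, Φ w :=
    Finset.sum_congr rfl (fun w _ => (hΦ w).symm)
  rw [h2] at h1
  -- fiberwise sum over the representatives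
  have h3 : ∑ w : ↥V, Φ w = ∑ s ∈ S, ∑ w ∈ Finset.univ.filter (fun w : ↥V => r w = s), Φ w :=
    (Finset.sum_fiberwise_of_maps_to (fun w _ => (hr w).1.1) Φ).symm
  have h4 : ∀ s ∈ S, ∑ w ∈ Finset.univ.filter (fun w : ↥V => r w = s), Φ w =
      Nat.card (ConjClasses ↥(G ⊓ Subgroup.centralizer ({s} : Set X))) * Nat.card G := by
    intro s hs
    have horb : ∀ w : ↥V, r w = s ↔ ∃ t : ↥G, cj V (t : X) ⟨s, hSV s hs⟩ = w := by
      intro w
      constructor
      · intro hw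
        obtain ⟨g, hg, hgw⟩ := (hr w).1.2
        refine ⟨⟨g⁻¹, G.inv_mem hg⟩, ?_⟩
        apply Subtype.ext
        rw [cj_coe]
        change g⁻¹ * s * g⁻¹⁻¹ = w
        rw [← hw, ← hgw]; group
      · rintro ⟨t, ht⟩
        symm
        apply (hr w).2
        refine ⟨hs, (t : X)⁻¹, G.inv_mem t.2, ?_⟩
        rw [← ht, cj_coe]
        change (t : X)⁻¹ * ((t : X) * s * (t : X)⁻¹) * (t : X)⁻¹⁻¹ = s
        group
    have hconst : ∀ w ∈ Finset.univ.filter (fun w : ↥V => r w = s), Φ w = Φ ⟨s, hSV s hs⟩ := by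
      intro w hw
      rw [Finset.mem_filter] at hw
      obtain ⟨t, ht⟩ := (horb w).1 hw.2
      rw [← ht, hΦ, hΦ]
      exact card_fix_conj V G _ t
    rw [Finset.sum_const_nat hconst]
    have hcardf : (Finset.univ.filter (fun w : ↥V => r w = s)).card =
        Nat.card {w : ↥V // ∃ t : ↥G, cj V (t : X) ⟨s, hSV s hs⟩ = w} := by
      rw [Nat.card_eq_fintype_card, Fintype.card_subtype]
      refine congrArg Finset.card (Finset.filter_congr ?_)
      intro w _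
      exact horb w
    rw [hcardf, hΦ, card_fix_eq V G ⟨s, hSV s hs⟩]
    have h5 := card_orbit_mul V G ⟨s, hSV s hs⟩
    calc Nat.card {w : ↥V // ∃ t : ↥G, cj V (t : X) ⟨s, hSV s hs⟩ = w} *
          (Nat.card (ConjClasses ↥(G ⊓ Subgroup.centralizer ({s} : Set X))) *
            Nat.card ↥(G ⊓ Subgroup.centralizer ({s} : Set X)))
        = Nat.card (ConjClasses ↥(G ⊓ Subgroup.centralizer ({s} : Set X))) *
          (Nat.card {w : ↥V // ∃ t : ↥G, cj V (t : X) ⟨s, hSV s hs⟩ = w} *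
            Nat.card ↥(G ⊓ Subgroup.centralizer ({s} : Set X))) := by ring
      _ = _ := by rw [h5]
  rw [h3, Finset.sum_congr rfl h4, ← Finset.sum_mul, ← hGV.card_mul_card] at h1
  have hpos : 0 < Nat.card V * Nat.card G := Nat.mul_pos Nat.card_pos Nat.card_pos
  have h6 : (∑ s ∈ S, Nat.card (ConjClasses ↥(G ⊓ Subgroup.centralizer ({s} : Set X)))) *
      (Nat.card V * Nat.card G) = Nat.card (ConjClasses X) * (Nat.card V * Nat.card G) := by
    rw [← h1]; ring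
  exact (Nat.eq_of_mul_eq_mul_right hpos h6).symm

end Cfsg.Agent.Lead.ClassCountC
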