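import Mathlib

set_option autoImplicit false

namespace Cfsg.Agent.Lead

/-- A `p`-group `T` of automorphisms of a group `A` stabilising a nontrivial finite `p`-subgroup `J`
has a nontrivial fixed point in `J`. -/
theorem exists_fixed_point_in_subgroup {A : Type*} [Group A] (p : ℕ) [Fact p.Prime]
    (T : Subgroup (MulAut A)) (hT : IsPGroup p T) [Finite T] (J : Subgroup A) [Finite J]
    (hJp : IsPGroup p J) (hJ : J ≠ ⊥) (hinv : ∀ g ∈ T, ∀ a ∈ J, g a ∈ J) :
    ∃ a ∈ J, a ≠ 1 ∧ ∀ g ∈ T, g a = a := by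
  classical
  let S : SubMulAction T A :=
    { carrier := (J : Set A)
      smul_mem' := by
        intro g a ha
        exact hinv g.1 g.2 a ha }
  have hfin : Finite S := by
    change Finite (J : Set A)
    infer_instance
  have hcard : Nat.card S = Nat.card J := rfl
  have hdvd : p ∣ Nat.card S := by
    rw [hcard]
    obtain ⟨n, hn⟩ := IsPGroup.iff_card.mp hJp
    have hn0 : n ≠ 0 := by
      rintro rfl
      apply hJ
      rw [pow_zero] at hn
      exact Subgroup.card_eq_one.mp hn
    rw [hn]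
    exact dvd_pow_self p hn0
  have hone : (⟨1, J.one_mem⟩ : S) ∈ MulAction.fixedPoints T S := by
    intro g
    apply Subtype.ext
    change (g : MulAut A) (1 : A) = 1
    exact map_one _
  obtain ⟨b, hb, hne⟩ := hT.exists_fixed_point_of_prime_dvd_card_of_fixed_point S hdvd hone
  refine ⟨b.1, b.2, ?_, ?_⟩
  · intro h
    apply hne
    apply Subtype.ext
    exact h.symm
  · intro g hg
    have := hb ⟨g, hg⟩
    exact congrArg Subtype.val this

/-- Version for a single automorphism of `p`-power order. -/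
theorem exists_fixed_point_in_subgroup_of_orderOf {A : Type*} [Group A] (p : ℕ) [Fact p.Prime]
    (t : MulAut A) (ht : ∃ k : ℕ, orderOf t = p ^ k) (J : Subgroup A) [Finite J]
    (hJp : IsPGroup p J) (hJ : J ≠ ⊥) (hinv : ∀ a ∈ J, t a ∈ J) :
    ∃ a ∈ J, a ≠ 1 ∧ t a = a := by
  obtain ⟨k, hk⟩ := ht
  have hpos : 0 < orderOf t := by rw [hk]; exact pow_pos (Fact.out (p := p.Prime)).pos k
  have hcard : Nat.card (Subgroup.zpowers t) = p ^ k := by rw [Nat.card_zpowers, hk]
  have hTfin : Finite (Subgroup.zpowers t) := by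
    apply Nat.finite_of_card_ne_zero
    rw [hcard]
    exact pow_ne_zero _ (Fact.out (p := p.Prime)).ne_zero
  have hTp : IsPGroup p (Subgroup.zpowers t) := IsPGroup.of_card hcard
  have hinv' : ∀ g ∈ Subgroup.zpowers t, ∀ a ∈ J, g a ∈ J := by
    intro g hg
    have hfo : IsOfFinOrder t := orderOf_pos_iff.mp hpos
    rw [← hfo.mem_powers_iff_mem_zpowers] at hg
    obtain ⟨n, rfl⟩ := hg
    change ∀ a ∈ J, (t ^ n) a ∈ J
    induction n with
    | zero => intro a ha; simpa using ha
    | succ n ih =>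
      intro a ha
      rw [pow_succ]
      exact ih _ (hinv a ha)
  obtain ⟨a, haJ, hne, hfix⟩ := exists_fixed_point_in_subgroup p (Subgroup.zpowers t) hTp J hJp hJ hinv'
  exact ⟨a, haJ, hne, hfix t (Subgroup.mem_zpowers t)⟩

end Cfsg.Agent.Lead
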