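import Mathlib
import Cfsg.Agent.S1780
import Cfsg.Agent.Lead.ConjAutDef

set_option autoImplicit false

namespace Cfsg.Agent.Lead

open scoped IsMulCommutative in
/-- Internal form of S1780: if `d` of 2-power order normalizes the finite abelian 2-subgroup `C`
and every element of `C` centralized by `d²` is centralized by `d`, then `d` centralizes `C`. -/
theorem conj_trivial_of_fix_sq {G : Type*} [Group G] (C : Subgroup G) [Finite C]
    (hC2 : IsPGroup 2 C) (hCa : IsMulCommutative C) (d : G) (hd : ∃ k : ℕ, orderOf d = 2 ^ k)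
    (hdN : d ∈ Subgroup.normalizer (C : Set G))
    (h : ∀ c ∈ C, d * (d * c * d⁻¹) * d⁻¹ = c → d * c * d⁻¹ = c) : ∀ c ∈ C, d * c * d⁻¹ = c := by
  obtain ⟨k, hk⟩ := hd
  have hord : ∃ j : ℕ, orderOf (conjAut C d hdN) = 2 ^ j := by
    have := orderOf_conjAut_dvd C d hdN
    rw [hk] at this
    obtain ⟨j, _, hj⟩ := (Nat.dvd_prime_pow Nat.prime_two).mp this
    exact ⟨j, hj⟩
  have := Cfsg.Agent.S1780.result (A := C) hC2 (conjAut C d hdN) hord (by
    intro a ha
    apply Subtype.ext
    apply h a.1 a.2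
    exact congrArg Subtype.val ha)
  intro c hc
  exact congrArg Subtype.val (this ⟨c, hc⟩)

end Cfsg.Agent.Lead
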