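import Mathlib
import Cfsg.Agent.Helper1.NormalEA2

set_option autoImplicit false

/-!
A `p`-group (`p` odd) acting faithfully on an elementary abelian `q`-group such that all
stabilizers of nonzero vectors have the same order is cyclic and acts semiregularly.
-/

namespace Cfsg.Agent.Lead.ConstStab

variable {P E : Type*} [Group P] [AddCommGroup E] [DistribMulAction P E]

/-- The norm (trace) map `e ↦ ∑_{k<n} x^k • e`. -/
noncomputable def nrm (x : P) (n : ℕ) : E →+ E :=
  ∑ k ∈ Finset.range n, DistribMulAction.toAddMonoidHom E (x ^ k)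

theorem nrm_apply (x : P) (n : ℕ) (e : E) :
    nrm x n e = ∑ k ∈ Finset.range n, x ^ k • e := by
  simp [nrm, AddMonoidHom.finset_sum_apply]

theorem pow_smul_of_fixed {x : P} {e : E} (h : x • e = e) (k : ℕ) : x ^ k • e = e := by
  have : x ∈ MulAction.stabilizer P e := h
  exact Subgroup.pow_mem _ this k

theorem smul_nrm {x : P} {n : ℕ} (hx : x ^ n = 1) (e : E) : x • nrm x n e = nrm x n e := by
  rw [nrm_apply, Finset.smul_sum]
  have h1 : ∀ k, x • x ^ k • e = x ^ (k + 1) • e := by
    intro k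
    rw [smul_smul, pow_succ']
  simp_rw [h1]
  have h2 := Finset.sum_range_succ (fun k => x ^ k • e) n
  have h3 := Finset.sum_range_succ' (fun k => x ^ k • e) n
  rw [h2] at h3
  simp only [hx, pow_zero, one_smul] at h3
  exact (add_right_cancel h3).symm

theorem nrm_of_fixed {x : P} {e : E} (h : x • e = e) (n : ℕ) : nrm x n e = n • e := by
  rw [nrm_apply]
  simp [pow_smul_of_fixed h]

theorem smul_nrm_comm {v x : P} (hvx : Commute v x) (n : ℕ) (e : E) :
    v • nrm x n e = nrm x n (v • e) := by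
  rw [nrm_apply, nrm_apply, Finset.smul_sum]
  refine Finset.sum_congr rfl fun k _ => ?_
  rw [smul_smul, smul_smul, (hvx.pow_right k).eq]

theorem eq_zero_of_coprime {p q : ℕ} (hp : p.Prime) (hq : q.Prime) (hpq : p ≠ q) {e : E}
    (h1 : p • e = 0) (h2 : q • e = 0) : e = 0 := by
  have d1 : addOrderOf e ∣ p := addOrderOf_dvd_of_nsmul_eq_zero h1
  have d2 : addOrderOf e ∣ q := addOrderOf_dvd_of_nsmul_eq_zero h2
  have hc : Nat.Coprime p q := (Nat.coprime_primes hp hq).2 hpq
  have : addOrderOf e ∣ 1 := by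
    have := Nat.dvd_gcd d1 d2
    rwa [hc] at this
  exact AddMonoid.addOrderOf_eq_one_iff.1 (Nat.dvd_one.1 this)

/-- If `x ^ p = 1`, `p` prime, and a subgroup contains a nontrivial power of `x`, it contains `x`. -/
theorem mem_of_zpow_mem {G : Type*} [Group G] (S : Subgroup G) {x : G} {p : ℕ} (hp : p.Prime)
    (hx : x ^ p = 1) (i : ℤ) (hi : x ^ i ∈ S) (hne : x ^ i ≠ 1) : x ∈ S := by
  have hnd : ¬ (p : ℤ) ∣ i := by
    rintro ⟨m, rfl⟩
    apply hne
    rw [zpow_mul, zpow_natCast, hx, one_zpow]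
  have hcop : IsCoprime i (p : ℤ) := by
    have hpi : Prime (p : ℤ) := Nat.prime_iff_prime_int.1 hp
    have h2 : IsCoprime (p : ℤ) i := (Irreducible.coprime_iff_not_dvd hpi.irreducible).2 hnd
    exact h2.symm
  obtain ⟨a, b, hab⟩ := hcop
  have : x = (x ^ i) ^ a := by
    calc x = x ^ (1 : ℤ) := (zpow_one x).symm
      _ = x ^ (a * i + b * p) := by rw [hab]
      _ = (x ^ i) ^ a := by
        rw [zpow_add, mul_comm a i, zpow_mul, mul_comm b (p : ℤ), zpow_mul, zpow_natCast, hx,
          one_zpow, mul_one]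
  rw [this]
  exact Subgroup.zpow_mem _ hi a

theorem mem_of_pow_mem {G : Type*} [Group G] (S : Subgroup G) {x : G} {p : ℕ} (hp : p.Prime)
    (hx : x ^ p = 1) (i : ℕ) (hi : x ^ i ∈ S) (hne : x ^ i ≠ 1) : x ∈ S := by
  apply mem_of_zpow_mem S hp hx (i : ℤ)
  · rwa [zpow_natCast]
  · rwa [zpow_natCast]

section main

variable [Finite P] [FaithfulSMul P E] {p q : ℕ}

/-- Step A: a central element of order `p` fixes only `0`. -/
theorem fix_central (hp : p.Prime) (hq : q.Prime) (hpq : p ≠ q) (hE : ∀ e : E, q • e = 0)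
    (hconst : ∀ a b : E, a ≠ 0 → b ≠ 0 →
      Nat.card (MulAction.stabilizer P a) = Nat.card (MulAction.stabilizer P b))
    {z : P} (hzc : ∀ g : P, g * z = z * g) (hzp : z ^ p = 1) (hz1 : z ≠ 1) :
    ∀ a : E, z • a = a → a = 0 := by
  intro a hza
  by_contra ha0
  have hex : ∃ e : E, z • e ≠ e := by
    by_contra hcon
    push Not at hcon
    apply hz1
    apply FaithfulSMul.eq_of_smul_eq_smul (α := E)
    intro e
    rw [hcon e, one_smul]
  obtain ⟨e, he⟩ := hex
  obtain ⟨b, hb⟩ : ∃ b, b = e - z • e := ⟨_, rfl⟩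
  have hb0 : b ≠ 0 := by
    rw [hb]
    intro h
    exact he (sub_eq_zero.1 h).symm
  have hnb : nrm z p b = 0 := by
    rw [hb, map_sub, ← smul_nrm_comm (Commute.refl z), smul_nrm hzp, sub_self]
  have hzb : z • b ≠ b := by
    intro h
    have h1 := nrm_of_fixed h p
    rw [hnb] at h1
    exact hb0 (eq_zero_of_coprime hp hq hpq h1.symm (hE b))
  have hab0 : a + b ≠ 0 := by
    intro h
    have hb' : b = -a := by
      rw [eq_neg_iff_add_eq_zero, add_comm]; exact h
    apply hzb
    rw [hb', smul_neg, hza]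
  have hle : MulAction.stabilizer P (a + b) ≤ MulAction.stabilizer P a := by
    intro h hh
    have hh' : h • (a + b) = a + b := hh
    have h1 : nrm z p (h • (a + b)) = nrm z p (a + b) := by rw [hh']
    rw [← smul_nrm_comm (hzc h), map_add, hnb, add_zero, nrm_of_fixed hza, smul_comm] at h1
    have h2 : p • (h • a - a) = 0 := by
      rw [smul_sub, h1, sub_self]
    have h3 := eq_zero_of_coprime hp hq hpq h2 (hE _)
    exact sub_eq_zero.1 h3
  have hcard := hconst (a + b) a hab0 ha0
  have heq : MulAction.stabilizer P (a + b) = MulAction.stabilizer P a :=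
    Subgroup.eq_of_le_of_card_ge hle hcard.ge
  have hz : z ∈ MulAction.stabilizer P (a + b) := by
    rw [heq]; exact hza
  have hz' : z • (a + b) = a + b := hz
  rw [smul_add, hza] at hz'
  exact hzb (add_left_cancel hz')

/-- The sum formula: `∑_j N_{x z^j}(e) = p • e` when `z` fixes only `0`. -/
theorem sum_formula (hp : p.Prime) {x z : P} (hxz : Commute x z) (hzp : z ^ p = 1) (hz1 : z ≠ 1)
    (hfix : ∀ a : E, z • a = a → a = 0) (e : E) :
    ∑ j ∈ Finset.range p, nrm (x * z ^ j) p e = p • e := by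
  have h1 : ∀ j, nrm (x * z ^ j) p e = ∑ k ∈ Finset.range p, x ^ k • (z ^ k) ^ j • e := by
    intro j
    rw [nrm_apply]
    refine Finset.sum_congr rfl fun k _ => ?_
    rw [(hxz.pow_right j).mul_pow, smul_smul, ← pow_mul, ← pow_mul, mul_comm j k]
  simp_rw [h1]
  rw [Finset.sum_comm]
  have h2 : ∀ k, ∑ j ∈ Finset.range p, x ^ k • (z ^ k) ^ j • e = x ^ k • nrm (z ^ k) p e := by
    intro k
    rw [nrm_apply, Finset.smul_sum]
  simp_rw [h2]
  rw [Finset.sum_eq_single 0]
  · rw [pow_zero, pow_zero, one_smul]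
    exact nrm_of_fixed (one_smul P e) p
  · intro k hk hk0
    have hkp : k < p := Finset.mem_range.1 hk
    have hzk1 : z ^ k ≠ 1 := by
      haveI : Fact p.Prime := ⟨hp⟩
      have ho : orderOf z = p := orderOf_eq_prime hzp hz1
      exact pow_ne_one_of_lt_orderOf hk0 (by rw [ho]; exact hkp)
    have hzkp : (z ^ k) ^ p = 1 := by
      rw [← pow_mul, mul_comm, pow_mul, hzp, one_pow]
    have hf := smul_nrm hzkp e
    have hmem : z ^ k ∈ MulAction.stabilizer P (nrm (z ^ k) p e) := hf
    have hz := mem_of_pow_mem _ hp hzp k hmem hzk1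
    rw [hfix _ hz, smul_zero]
  · intro h0
    exact absurd (Finset.mem_range.2 hp.pos) h0

end main

/-- Structure of a group of order `p²` and exponent `p` with a central element `z`. -/
theorem struct {G : Type*} [Group G] [Finite G] {p : ℕ} (hp : p.Prime) (V : Subgroup G)
    (hVe : ∀ a ∈ V, a ^ p = 1) (hcard : Nat.card V = p ^ 2) {z : G} (hzV : z ∈ V)
    (hzc : ∀ g : G, g * z = z * g) (hz1 : z ≠ 1) {x : G} (hxV : x ∈ V)
    (hxz : x ∉ Subgroup.zpowers z) : ∀ v ∈ V, ∃ i j : ℤ, v = x ^ i * z ^ j := by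
  haveI : Fact p.Prime := ⟨hp⟩
  have hzp : z ^ p = 1 := hVe z hzV
  have hoz : Nat.card (Subgroup.zpowers z) = p := by
    rw [Nat.card_zpowers, orderOf_eq_prime hzp hz1]
  haveI hzn : (Subgroup.zpowers z).Normal := by
    constructor
    intro n hn g
    obtain ⟨k, rfl⟩ := Subgroup.mem_zpowers_iff.1 hn
    have hc : Commute g (z ^ k) := Commute.zpow_right (hzc g) k
    rw [hc.eq, mul_inv_cancel_right]
    exact Subgroup.zpow_mem_zpowers z k
  obtain ⟨W, hW⟩ : ∃ W, W = Subgroup.zpowers x ⊔ Subgroup.zpowers z := ⟨_, rfl⟩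
  have hWV : W ≤ V := by
    rw [hW]
    exact sup_le (Subgroup.zpowers_le.2 hxV) (Subgroup.zpowers_le.2 hzV)
  have hzW : Subgroup.zpowers z ≤ W := by rw [hW]; exact le_sup_right
  have hxW : x ∈ W := by
    rw [hW]; exact (le_sup_left : Subgroup.zpowers x ≤ _) (Subgroup.mem_zpowers x)
  have hd : Nat.card W ∣ p ^ 2 := by
    rw [← hcard]; exact Subgroup.card_dvd_of_le hWV
  obtain ⟨m, hm, hWm⟩ := (Nat.dvd_prime_pow hp).1 hd
  have hpW : p ∣ Nat.card W := by
    rw [← hoz]; exact Subgroup.card_dvd_of_le hzW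
  have hWne : Nat.card W ≠ p := by
    intro h
    have : Subgroup.zpowers z = W := Subgroup.eq_of_le_of_card_ge hzW (by rw [hoz, h])
    exact hxz (this ▸ hxW)
  have hm2 : m = 2 := by
    rcases (by omega : m = 0 ∨ m = 1 ∨ m = 2) with h | h | h
    · rw [h, pow_zero] at hWm
      rw [hWm] at hpW
      exact absurd (Nat.dvd_one.1 hpW) hp.one_lt.ne'
    · rw [h, pow_one] at hWm
      exact absurd hWm hWne
    · exact h
  have hWeq : W = V := Subgroup.eq_of_le_of_card_ge hWV (by rw [hWm, hm2, hcard])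
  intro v hv
  rw [← hWeq, hW, Subgroup.mem_sup_of_normal_right] at hv
  obtain ⟨a, ha, b, hb, rfl⟩ := hv
  obtain ⟨i, rfl⟩ := Subgroup.mem_zpowers_iff.1 ha
  obtain ⟨j, rfl⟩ := Subgroup.mem_zpowers_iff.1 hb
  exact ⟨i, j, rfl⟩

section main2

variable [Finite P] [FaithfulSMul P E] {p q : ℕ}

theorem dich (hp : p.Prime) (V : Subgroup P)
    (hVe : ∀ a ∈ V, a ^ p = 1) (hcard : Nat.card V = p ^ 2) {z : P} (hzV : z ∈ V)
    (hzc : ∀ g : P, g * z = z * g) (hz1 : z ≠ 1) (hfix : ∀ a : E, z • a = a → a = 0)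
    {x : P} (hxV : x ∈ V) (hxz : x ∉ Subgroup.zpowers z) :
    ∀ v ∈ V, v ≠ 1 → (∀ e : E, v • e = e → x • e = e) ∨
      (∀ e : E, x • e = e → v • e = e → e = 0) := by
  intro v hv hv1
  obtain ⟨i, j, rfl⟩ := struct hp V hVe hcard hzV hzc hz1 hxV hxz v hv
  by_cases hzj : z ^ j = 1
  · left
    rw [hzj, mul_one] at hv1 ⊢
    intro e he
    have hmem : x ^ i ∈ MulAction.stabilizer P e := he
    exact mem_of_zpow_mem _ hp (hVe x hxV) i hmem hv1
  · right
    intro e hxe hve
    have h1 : x ^ i ∈ MulAction.stabilizer P e :=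
      Subgroup.zpow_mem _ (show x ∈ MulAction.stabilizer P e from hxe) i
    have h2 : x ^ i * z ^ j ∈ MulAction.stabilizer P e := hve
    have h3 : z ^ j ∈ MulAction.stabilizer P e := by
      have := Subgroup.mul_mem _ (Subgroup.inv_mem _ h1) h2
      rwa [inv_mul_cancel_left] at this
    exact hfix e (mem_of_zpow_mem _ hp (hVe z hzV) j h3 hzj)

theorem nrm_eq_zero_of_disjoint {x v : P} (hxp : x ^ p = 1) (hvx : Commute v x) {e : E}
    (hve : v • e = e) (hdis : ∀ e : E, x • e = e → v • e = e → e = 0) : nrm x p e = 0 := by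
  apply hdis
  · exact smul_nrm hxp e
  · rw [smul_nrm_comm hvx, hve]

theorem mem_of_sq_mem {G : Type*} [Group G] {p : ℕ} (hp : p.Prime) (hp2 : p ≠ 2)
    (hG : IsPGroup p G) (S : Subgroup G) {h : G} (hh : h ^ 2 ∈ S) : h ∈ S := by
  obtain ⟨k, hk⟩ := hG h
  have hodd : Odd (p ^ k) := (hp.odd_of_ne_two hp2).pow
  obtain ⟨m, hm⟩ := hodd
  have : h = (h ^ 2) ^ (m + 1) := by
    rw [← pow_mul, show 2 * (m + 1) = (2 * m + 1) + 1 by ring, ← hm, pow_succ, hk, one_mul]
  rw [this]
  exact Subgroup.pow_mem _ hh _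

theorem no_normal_sq (hp : p.Prime) (hp2 : p ≠ 2) (hq : q.Prime) (hpq : p ≠ q)
    (hE : ∀ e : E, q • e = 0)
    (hconst : ∀ a b : E, a ≠ 0 → b ≠ 0 →
      Nat.card (MulAction.stabilizer P a) = Nat.card (MulAction.stabilizer P b))
    (hP : IsPGroup p P) (V : Subgroup P) [hVn : V.Normal]
    (hVc : ∀ a ∈ V, ∀ b ∈ V, a * b = b * a) (hVe : ∀ a ∈ V, a ^ p = 1)
    (hcard : Nat.card V = p ^ 2) : False := by
  haveI : Fact p.Prime := ⟨hp⟩
  have hVne : V ≠ ⊥ := by
    intro h
    rw [h, Subgroup.card_bot] at hcard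
    have := hp.one_lt
    nlinarith
  obtain ⟨z, hzV, hz1, hzc⟩ := Cfsg.Agent.Helper5.exists_ne_one_mem_center_of_normal hP V hVne
  have hzp : z ^ p = 1 := hVe z hzV
  have hfix : ∀ a : E, z • a = a → a = 0 := fix_central hp hq hpq hE hconst hzc hzp hz1
  have hoz : Nat.card (Subgroup.zpowers z) = p := by
    rw [Nat.card_zpowers, orderOf_eq_prime hzp hz1]
  obtain ⟨x₀, hx₀V, hx₀z⟩ : ∃ x ∈ V, x ∉ Subgroup.zpowers z := by
    by_contra hcon
    push Not at hcon
    have hle : V ≤ Subgroup.zpowers z := hcon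
    have := Subgroup.card_le_of_le hle
    rw [hoz, hcard] at this
    have := hp.one_lt
    nlinarith
  -- first fixed vector
  obtain ⟨j₁, -, a, ha0, hxa⟩ : ∃ j ∈ Finset.range p, ∃ a : E, a ≠ 0 ∧ (x₀ * z ^ j) • a = a := by
    by_contra hcon
    push Not at hcon
    apply hx₀z
    have hall : ∀ e : E, e = 0 := by
      intro e
      have hs := sum_formula hp (hzc x₀) hzp hz1 hfix e
      rw [Finset.sum_eq_zero] at hs
      · exact eq_zero_of_coprime hp hq hpq hs.symm (hE e)
      · intro j hj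
        by_contra hne
        have hpw : (x₀ * z ^ j) ^ p = 1 := hVe _ (V.mul_mem hx₀V (V.pow_mem hzV j))
        exact hcon j hj _ hne (smul_nrm hpw e)
    have hx1 : x₀ = 1 := by
      apply FaithfulSMul.eq_of_smul_eq_smul (α := E)
      intro e
      rw [hall e, smul_zero, smul_zero]
    rw [hx1]
    exact Subgroup.one_mem _
  obtain ⟨x, hx⟩ : ∃ x, x = x₀ * z ^ j₁ := ⟨_, rfl⟩
  rw [← hx] at hxa
  have hxV : x ∈ V := by rw [hx]; exact V.mul_mem hx₀V (V.pow_mem hzV j₁)
  have hxz : x ∉ Subgroup.zpowers z := by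
    intro h
    apply hx₀z
    have : x₀ = x * (z ^ j₁)⁻¹ := by rw [hx, mul_inv_cancel_right]
    rw [this]
    exact Subgroup.mul_mem _ h (Subgroup.inv_mem _ (Subgroup.pow_mem _ (Subgroup.mem_zpowers z) _))
  have hxp : x ^ p = 1 := hVe x hxV
  -- second fixed vector
  obtain ⟨j, hj, hj0, b, hb0, hyb⟩ : ∃ j ∈ Finset.range p, j ≠ 0 ∧ ∃ b : E, b ≠ 0 ∧
      (x * z ^ j) • b = b := by
    by_contra hcon
    push Not at hcon
    apply hxz
    have hall : ∀ e : E, x • e = e := by
      intro e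
      have hs := sum_formula hp (hzc x) hzp hz1 hfix e
      rw [Finset.sum_eq_single 0] at hs
      · rw [pow_zero, mul_one] at hs
        have h1 := smul_nrm hxp e
        rw [hs, smul_comm] at h1
        have h2 : p • (x • e - e) = 0 := by rw [smul_sub, h1, sub_self]
        exact sub_eq_zero.1 (eq_zero_of_coprime hp hq hpq h2 (hE _))
      · intro j hj hj0
        by_contra hne
        have hpw : (x * z ^ j) ^ p = 1 := hVe _ (V.mul_mem hxV (V.pow_mem hzV j))
        exact hcon j hj hj0 _ hne (smul_nrm hpw e)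
      · intro h0
        exact absurd (Finset.mem_range.2 hp.pos) h0
    have hx1 : x = 1 := by
      apply FaithfulSMul.eq_of_smul_eq_smul (α := E)
      intro e
      rw [hall e, one_smul]
    rw [hx1]
    exact Subgroup.one_mem _
  obtain ⟨y, hy⟩ : ∃ y, y = x * z ^ j := ⟨_, rfl⟩
  rw [← hy] at hyb
  have hyV : y ∈ V := by rw [hy]; exact V.mul_mem hxV (V.pow_mem hzV j)
  have hzj1 : z ^ j ≠ 1 := by
    have ho : orderOf z = p := orderOf_eq_prime hzp hz1
    exact pow_ne_one_of_lt_orderOf hj0 (by rw [ho]; exact Finset.mem_range.1 hj)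
  have hxy : ∀ e : E, x • e = e → y • e = e → e = 0 := by
    intro e hxe hye
    have h1 : x ∈ MulAction.stabilizer P e := hxe
    have h2 : x * z ^ j ∈ MulAction.stabilizer P e := by rw [← hy]; exact hye
    have h3 : z ^ j ∈ MulAction.stabilizer P e := by
      have := Subgroup.mul_mem _ (Subgroup.inv_mem _ h1) h2
      rwa [inv_mul_cancel_left] at this
    exact hfix e (mem_of_pow_mem _ hp hzp j h3 hzj1)
  have hx1 : x ≠ 1 := fun h => hxz (h ▸ Subgroup.one_mem _)
  have hy1 : y ≠ 1 := by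
    intro h
    apply hxz
    have : x = (z ^ j)⁻¹ := by
      rw [eq_inv_iff_mul_eq_one, ← hy, h]
    rw [this]
    exact Subgroup.inv_mem _ (Subgroup.pow_mem _ (Subgroup.mem_zpowers z) _)
  have hab0 : a + b ≠ 0 := by
    intro h
    have hb' : b = -a := by
      rw [eq_neg_iff_add_eq_zero, add_comm]; exact h
    apply hb0
    apply hxy b _ hyb
    rw [hb', smul_neg, hxa]
  have hNa : nrm x p a = p • a := nrm_of_fixed hxa p
  have hNb : nrm x p b = 0 :=
    nrm_eq_zero_of_disjoint hxp (hVc y hyV x hxV) hyb hxy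
  have hle : MulAction.stabilizer P (a + b) ≤ MulAction.stabilizer P a := by
    intro h hh
    have hh' : h • (a + b) = a + b := hh
    have hsum : h • a + h • b = a + b := by rw [← smul_add]; exact hh'
    have hx'V : h * x * h⁻¹ ∈ V := hVn.conj_mem x hxV h
    have hy'V : h * y * h⁻¹ ∈ V := hVn.conj_mem y hyV h
    have hx'1 : h * x * h⁻¹ ≠ 1 := by
      intro h1
      apply hx1
      have := congrArg (fun t => h⁻¹ * t * h) h1
      simpa [mul_assoc] using this
    have hy'1 : h * y * h⁻¹ ≠ 1 := by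
      intro h1
      apply hy1
      have := congrArg (fun t => h⁻¹ * t * h) h1
      simpa [mul_assoc] using this
    have hx'a : (h * x * h⁻¹) • (h • a) = h • a := by
      rw [smul_smul, inv_mul_cancel_right, mul_smul, hxa]
    have hy'b : (h * y * h⁻¹) • (h • b) = h • b := by
      rw [smul_smul, inv_mul_cancel_right, mul_smul, hyb]
    have hN : nrm x p (h • a) + nrm x p (h • b) = p • a := by
      rw [← map_add, hsum, map_add, hNa, hNb, add_zero]
    have hd1 := dich hp V hVe hcard hzV hzc hz1 hfix hxV hxz _ hx'V hx'1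
    have hd2 := dich hp V hVe hcard hzV hzc hz1 hfix hxV hxz _ hy'V hy'1
    rcases hd1 with hin1 | hout1 <;> rcases hd2 with hin2 | hout2
    · exfalso
      have h1 := hin1 _ hx'a
      have h2 := hin2 _ hy'b
      have h3 : x • (a + b) = a + b := by
        rw [← hsum, smul_add, h1, h2]
      rw [smul_add, hxa] at h3
      apply hb0
      exact hxy b (add_left_cancel h3) hyb
    · have h1 := hin1 _ hx'a
      have h2 : nrm x p (h • b) = 0 :=
        nrm_eq_zero_of_disjoint hxp (hVc _ hy'V x hxV) hy'b hout2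
      rw [h2, add_zero, nrm_of_fixed h1] at hN
      have h3 : p • (h • a - a) = 0 := by rw [smul_sub, hN, sub_self]
      exact sub_eq_zero.1 (eq_zero_of_coprime hp hq hpq h3 (hE _))
    · have h1 := hin2 _ hy'b
      have h2 : nrm x p (h • a) = 0 :=
        nrm_eq_zero_of_disjoint hxp (hVc _ hx'V x hxV) hx'a hout1
      rw [h2, zero_add, nrm_of_fixed h1] at hN
      have h3 : p • (h • b - a) = 0 := by rw [smul_sub, hN, sub_self]
      have h4 : h • b = a := sub_eq_zero.1 (eq_zero_of_coprime hp hq hpq h3 (hE _))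
      have h5 : h • a = b := by
        rw [h4] at hsum
        exact add_right_cancel (by rw [hsum, add_comm])
      have h6 : h ^ 2 ∈ MulAction.stabilizer P a := by
        show h ^ 2 • a = a
        rw [pow_two, mul_smul, h5, h4]
      exact mem_of_sq_mem hp hp2 hP _ h6
    · exfalso
      have h1 : nrm x p (h • a) = 0 :=
        nrm_eq_zero_of_disjoint hxp (hVc _ hx'V x hxV) hx'a hout1
      have h2 : nrm x p (h • b) = 0 :=
        nrm_eq_zero_of_disjoint hxp (hVc _ hy'V x hxV) hy'b hout2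
      rw [h1, h2, add_zero] at hN
      exact ha0 (eq_zero_of_coprime hp hq hpq hN.symm (hE _))
  have hcardeq := hconst (a + b) a hab0 ha0
  have heq : MulAction.stabilizer P (a + b) = MulAction.stabilizer P a :=
    Subgroup.eq_of_le_of_card_ge hle hcardeq.ge
  have hxm : x ∈ MulAction.stabilizer P (a + b) := by
    rw [heq]; exact hxa
  have hxm' : x • (a + b) = a + b := hxm
  rw [smul_add, hxa] at hxm'
  exact hb0 (hxy b (add_left_cancel hxm') hyb)

theorem trivial_of_eq [Finite E] (hp : p.Prime) (hP : IsPGroup p P) (hE : ∀ e : E, p • e = 0)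
    (hconst : ∀ a b : E, a ≠ 0 → b ≠ 0 →
      Nat.card (MulAction.stabilizer P a) = Nat.card (MulAction.stabilizer P b)) :
    ∀ g : P, g = 1 := by
  haveI : Fact p.Prime := ⟨hp⟩
  intro g
  apply FaithfulSMul.eq_of_smul_eq_smul (α := E)
  intro e
  rw [one_smul]
  by_cases hE0 : ∀ e : E, e = 0
  · rw [hE0 e, smul_zero]
  · push Not at hE0
    obtain ⟨e₀, he₀⟩ := hE0
    have hdvd : p ∣ Nat.card E := by
      have h1 : addOrderOf e₀ ∣ p := addOrderOf_dvd_of_nsmul_eq_zero (hE e₀)
      have h2 : addOrderOf e₀ = p := by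
        rcases (Nat.dvd_prime hp).1 h1 with h | h
        · exact absurd (AddMonoid.addOrderOf_eq_one_iff.1 h) he₀
        · exact h
      rw [← h2]
      exact addOrderOf_dvd_natCard e₀
    have h0 : (0 : E) ∈ MulAction.fixedPoints P E := fun g => smul_zero g
    obtain ⟨b, hb, hb0⟩ := hP.exists_fixed_point_of_prime_dvd_card_of_fixed_point E hdvd h0
    have hbtop : MulAction.stabilizer P b = ⊤ := by
      rw [eq_top_iff]
      intro h _
      exact hb h
    by_cases he : e = 0
    · rw [he, smul_zero]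
    · have hc := hconst e b he (Ne.symm hb0)
      rw [hbtop, Subgroup.card_top] at hc
      have htop : MulAction.stabilizer P e = ⊤ := (Subgroup.card_eq_iff_eq_top _).1 hc
      have : g ∈ MulAction.stabilizer P e := by rw [htop]; trivial
      exact this

theorem main [Finite E] (hp : p.Prime) (hp2 : p ≠ 2) (hP : IsPGroup p P) (hq : q.Prime)
    (hE : ∀ e : E, q • e = 0)
    (hconst : ∀ a b : E, a ≠ 0 → b ≠ 0 →
      Nat.card (MulAction.stabilizer P a) = Nat.card (MulAction.stabilizer P b)) :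
    IsCyclic P ∧ ∀ g : P, g ≠ 1 → ∀ a : E, g • a = a → a = 0 := by
  haveI : Fact p.Prime := ⟨hp⟩
  by_cases hpq : p = q
  · have htriv := trivial_of_eq hp hP (by rw [hpq]; exact hE) hconst
    haveI : Subsingleton P := ⟨fun a b => by rw [htriv a, htriv b]⟩
    exact ⟨isCyclic_of_subsingleton, fun g hg => absurd (htriv g) hg⟩
  · have hcyc : IsCyclic P := by
      by_contra hnc
      obtain ⟨A, hAn, hAe, hAc⟩ := Cfsg.Agent.Helper1.exists_normal_elementary_p2_top hp2 hP hnc
      haveI := hAn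
      refine no_normal_sq hp hp2 hq hpq hE hconst hP A ?_ hAe.2 hAc
      intro a ha b hb
      haveI := hAe.1
      have := (IsMulCommutative.is_comm (M := A)).comm ⟨a, ha⟩ ⟨b, hb⟩
      exact congrArg Subtype.val this
    refine ⟨hcyc, ?_⟩
    intro g hg a hga
    haveI := hcyc
    have hcomm : ∀ a b : P, a * b = b * a := fun a b =>
      (IsCyclic.isMulCommutative (α := P)).is_comm.comm a b
    obtain ⟨k, hk⟩ := (IsPGroup.iff_orderOf.1 hP) g
    have hk0 : k ≠ 0 := by
      intro h0
      rw [h0, pow_zero, orderOf_eq_one_iff] at hk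
      exact hg hk
    obtain ⟨g', hg'⟩ : ∃ g', g' = g ^ p ^ (k - 1) := ⟨_, rfl⟩
    have hg'p : g' ^ p = 1 := by
      rw [hg', ← pow_mul, ← pow_succ, show k - 1 + 1 = k by omega, ← hk, pow_orderOf_eq_one]
    have hg'1 : g' ≠ 1 := by
      rw [hg']
      apply pow_ne_one_of_lt_orderOf (pow_ne_zero _ hp.ne_zero)
      rw [hk]
      exact Nat.pow_lt_pow_right hp.one_lt (by omega)
    have hfix := fix_central hp hq hpq hE hconst (fun h => hcomm h g') hg'p hg'1
    apply hfix a
    rw [hg']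
    exact pow_smul_of_fixed hga _

end main2

end Cfsg.Agent.Lead.ConstStab
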