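import Mathlib
import Cfsg.Agent.Helper5.PResidual
import Cfsg.Prelude.Def_Transfer

set_option autoImplicit false

namespace Cfsg.Agent.Lead

open scoped commutatorElement

open scoped IsMulCommutative in
/-- A subgroup `H` of index prime to `p` controlling fusion of its `p`-elements has the same
largest abelian `p`-quotient: `O^p(G) G' ∩ H = O^p(H) H'`. -/
theorem pResidual_commutator_inf_of_controls {G : Type*} [Group G] [Finite G] {p : ℕ}
    [Fact p.Prime] (H : Subgroup G) (hidx : Nat.Coprime p H.index)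
    (hfus : ∀ g ∈ H, (∃ k : ℕ, orderOf g = p ^ k) → ∀ a : G, a * g * a⁻¹ ∈ H →
      ∃ h ∈ H, h * g * h⁻¹ = a * g * a⁻¹) :
    (Cfsg.pResidual p G ⊔ commutator G) ⊓ H =
      (Cfsg.pResidual p ↥H ⊔ commutator ↥H).map H.subtype := by
  have hpp : p.Prime := Fact.out
  apply le_antisymm
  · -- a Sylow `p`-subgroup of `H` is Sylow in `G`
    let Q : Sylow p H := default
    have hQp : IsPGroup p ((Q : Subgroup H).map H.subtype) := Q.2.map _
    obtain ⟨P, hQP⟩ := hQp.exists_le_sylow
    have hPQ : (Q : Subgroup H).map H.subtype = (P : Subgroup G) := by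
      apply Subgroup.eq_of_le_of_card_ge hQP
      rw [Subgroup.card_map_of_injective H.subtype_injective, P.card_eq_multiplicity,
        Q.card_eq_multiplicity]
      have h1 : Nat.card G = Nat.card H * H.index := (H.card_mul_index).symm
      have hH0 : Nat.card H ≠ 0 := Nat.card_pos.ne'
      have hi0 : H.index ≠ 0 := Subgroup.index_ne_zero_of_finite
      rw [h1, Nat.factorization_mul hH0 hi0]
      have h2 : (H.index).factorization p = 0 :=
        Nat.factorization_eq_zero_of_not_dvd ((hpp.coprime_iff_not_dvd).mp hidx)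
      simp [h2]
    have hPH : (P : Subgroup G) ≤ H := by rw [← hPQ]; exact Subgroup.map_subtype_le _
    have hQt : IsPGroup p (↥(P : Subgroup G) ⧸ (P : Subgroup G).focalSubgroupOf) :=
      P.2.to_quotient _
    -- `O^p(G) G' ≤ ker V`
    have hker : Cfsg.pResidual p G ⊔ commutator G ≤ (P : Subgroup G).transferFocal.ker := by
      apply sup_le
      · unfold Cfsg.pResidual
        rw [Subgroup.closure_le]
        intro g hg
        rw [SetLike.mem_coe, MonoidHom.mem_ker]
        obtain ⟨j, hj⟩ := hQt ((P : Subgroup G).transferFocal g)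
        have h1 : orderOf ((P : Subgroup G).transferFocal g) ∣ p ^ j :=
          orderOf_dvd_of_pow_eq_one hj
        have h2 : orderOf ((P : Subgroup G).transferFocal g) ∣ orderOf g := orderOf_map_dvd _ g
        have h3 : (orderOf g).Coprime (p ^ j) := Nat.Coprime.pow_right j hg
        have h4 : orderOf ((P : Subgroup G).transferFocal g) = 1 :=
          Nat.eq_one_of_dvd_coprimes h3 h2 h1
        exact orderOf_eq_one_iff.mp h4
      · exact Abelianization.commutator_subset_ker _
    -- the focal subgroup of `P` in `G` lies in `H'`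
    have hfoc : (P : Subgroup G).focalSubgroup ≤ (commutator ↥H).map H.subtype := by
      rw [Subgroup.focalSubgroup_def, Subgroup.closure_le]
      rintro g ⟨hgP, x, hxP, u, rfl⟩
      have hxH : x ∈ H := hPH hxP
      have hx1 : x⁻¹ ∈ H := H.inv_mem hxH
      have hxord : ∃ k : ℕ, orderOf x⁻¹ = p ^ k := by
        have := P.2 ⟨x, hxP⟩
        obtain ⟨k, hk⟩ := this
        have h1 : x ^ p ^ k = 1 := by
          have := congrArg Subtype.val hk
          simpa using this
        have h2 : orderOf x ∣ p ^ k := orderOf_dvd_of_pow_eq_one h1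
        obtain ⟨m, -, hm⟩ := (Nat.dvd_prime_pow hpp).mp h2
        exact ⟨m, by rw [orderOf_inv, hm]⟩
      have hconj : u * x⁻¹ * u⁻¹ ∈ H := by
        have : u * x⁻¹ * u⁻¹ = x⁻¹ * ⁅x, u⁆ := by
          rw [commutatorElement_def]; group
        rw [this]
        exact H.mul_mem hx1 (hPH hgP)
      obtain ⟨h, hhH, hh⟩ := hfus x⁻¹ hx1 hxord u hconj
      have hcomm : ⁅x, u⁆ = ⁅x, h⁆ := by
        rw [commutatorElement_def, commutatorElement_def]
        calc x * u * x⁻¹ * u⁻¹ = x * (u * x⁻¹ * u⁻¹) := by group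
          _ = x * (h * x⁻¹ * h⁻¹) := by rw [hh]
          _ = x * h * x⁻¹ * h⁻¹ := by group
      rw [hcomm]
      refine ⟨⁅(⟨x, hxH⟩ : H), ⟨h, hhH⟩⁆, ?_, rfl⟩
      rw [SetLike.mem_coe, commutator_def]
      exact Subgroup.commutator_mem_commutator (Subgroup.mem_top _) (Subgroup.mem_top _)
    rintro g ⟨hgA, hgH⟩
    rw [SetLike.mem_coe] at hgA hgH
    have htop := Cfsg.Agent.Helper5.pResidual_sup_sylow Q
    have hmem : (⟨g, hgH⟩ : H) ∈ Cfsg.pResidual p ↥H ⊔ (Q : Subgroup H) := by
      rw [htop]; exact Subgroup.mem_top _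
    have hcoe := Subgroup.normal_mul (Cfsg.pResidual p ↥H) (Q : Subgroup H)
    have hmem' : (⟨g, hgH⟩ : H) ∈ ((Cfsg.pResidual p ↥H ⊔ (Q : Subgroup H) : Subgroup H) : Set H) :=
      hmem
    rw [hcoe] at hmem'
    obtain ⟨r, hr, x, hx, hrx⟩ := Set.mem_mul.mp hmem'
    rw [SetLike.mem_coe] at hr hx
    -- `r ∈ O^p(G)`
    have hrG : (r : G) ∈ Cfsg.pResidual p G := by
      have h1 : (r : G) ∈ (Cfsg.pResidual p ↥H).map H.subtype := ⟨r, hr, rfl⟩
      rw [Cfsg.Agent.Helper5.map_subtype_pResidual] at h1
      have h2 : Subgroup.closure {g : G | g ∈ H ∧ (orderOf g).Coprime p} ≤ Cfsg.pResidual p G := by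
        unfold Cfsg.pResidual
        apply Subgroup.closure_mono
        rintro y ⟨-, hy⟩
        exact hy
      exact h2 h1
    have hxP : (x : G) ∈ (P : Subgroup G) := by
      rw [← hPQ]; exact ⟨x, hx, rfl⟩
    have hgrx : g = (r : G) * (x : G) := by
      have := congrArg Subtype.val hrx
      simpa using this.symm
    have hxA : (x : G) ∈ Cfsg.pResidual p G ⊔ commutator G := by
      have : (x : G) = (r : G)⁻¹ * g := by rw [hgrx]; group
      rw [this]
      exact Subgroup.mul_mem _ (Subgroup.inv_mem _ (Subgroup.mem_sup_left hrG)) hgA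
    have hxfoc : (x : G) ∈ (P : Subgroup G).focalSubgroup := by
      rw [← Subgroup.ker_transferFocal_inf_eq_focalSubgroup P]
      exact ⟨hker hxA, hxP⟩
    obtain ⟨c, hc, hcx⟩ := hfoc hxfoc
    have hcx' : c = x := Subtype.ext hcx
    refine ⟨r * x, ?_, ?_⟩
    · rw [SetLike.mem_coe]
      exact Subgroup.mul_mem _ (Subgroup.mem_sup_left hr) (Subgroup.mem_sup_right (hcx' ▸ hc))
    · rw [hgrx]; rfl
  · apply le_inf
    · rw [Subgroup.map_sup]
      apply sup_le
      · rw [Cfsg.Agent.Helper5.map_subtype_pResidual]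
        apply le_trans _ le_sup_left
        unfold Cfsg.pResidual
        apply Subgroup.closure_mono
        rintro y ⟨-, hy⟩
        exact hy
      · apply le_trans _ le_sup_right
        rw [commutator_def, commutator_def, Subgroup.map_commutator]
        exact Subgroup.commutator_mono le_top le_top
    · exact Subgroup.map_subtype_le _

end Cfsg.Agent.Lead
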