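import Mathlib
import Cfsg.Agent.Helper1.Coprime
import Cfsg.Agent.Helper1.SylowInt
import Cfsg.Agent.Helper1.AbelianAct
import Cfsg.Agent.Lead.BaerCoprime

set_option autoImplicit false

/-!
Coprime action: if `C_K(A)` has prime index `p` in `K` then `[K, A]` has order `p`.
-/

namespace Cfsg.Agent.Lead

open scoped commutatorElement Pointwise

universe u

variable {X : Type u} [Group X]

theorem card_mul_relIndex_of_le [Finite X] {H K : Subgroup X} (h : H ≤ K) :
    Nat.card H * H.relIndex K = Nat.card K := by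
  rw [Subgroup.relIndex, ← Helper1.card_subgroupOf_of_le h, Subgroup.card_mul_index]

/-- Under coprime action, if `C_K(A)` has prime index `p` in `K`, then `|[K, A]| = p`. -/
theorem card_commutator_eq_prime_of_relIndex [Finite X] (A K : Subgroup X)
    (hAK : A ≤ Subgroup.normalizer (K : Set X))
    (hcop : (Nat.card A).Coprime (Nat.card K)) (hsolv : Group.IsSolvable A ∨ Group.IsSolvable K)
    (p : ℕ) (hp : p.Prime) (hidx : (K ⊓ Subgroup.centralizer (A : Set X)).relIndex K = p) :
    Nat.card (⁅K, A⁆ : Subgroup X) = p := by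
  haveI : Fact p.Prime := ⟨hp⟩
  obtain ⟨CA, hCA⟩ : ∃ CA : Subgroup X, CA = Subgroup.centralizer (A : Set X) := ⟨_, rfl⟩
  rw [← hCA] at hidx
  have hidx' : CA.relIndex K = p := by rw [← hidx, Subgroup.inf_relIndex_left]
  have hcardK : Nat.card (K ⊓ CA : Subgroup X) * p = Nat.card K := by
    rw [← hidx]; exact card_mul_relIndex_of_le inf_le_left
  -- an invariant Sylow subgroup
  obtain ⟨P, hPA⟩ := Helper1.exists_invariant_sylow (p := p) A K hAK hcop hsolv
  obtain ⟨S, hS⟩ : ∃ S : Subgroup X, S = (P : Subgroup K).map K.subtype := ⟨_, rfl⟩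
  rw [← hS] at hPA
  have hSK : S ≤ K := by rw [hS]; exact Subgroup.map_subtype_le _
  have hSp : IsPGroup p S := by rw [hS]; exact P.isPGroup'.map _
  have hSC : ¬ S ≤ CA := by
    intro hle
    have h2 : Nat.card S ∣ Nat.card (K ⊓ CA : Subgroup X) :=
      Subgroup.card_dvd_of_le (le_inf hSK hle)
    have h3 : Nat.card S = p ^ (Nat.card K).factorization p := by
      rw [hS, Helper1.card_map_subtype]; exact P.card_eq_multiplicity
    have h4 : p ^ ((Nat.card K).factorization p + 1) ∣ Nat.card K := by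
      rw [pow_succ, ← h3, ← hcardK]; exact Nat.mul_dvd_mul_right h2 p
    exact Nat.pow_succ_factorization_not_dvd Nat.card_pos.ne' hp h4
  -- a minimal invariant subgroup not centralized by `A`
  let 𝒯 : Set (Subgroup X) := {T | T ≤ S ∧ A ≤ Subgroup.normalizer (T : Set X) ∧ ¬ T ≤ CA}
  have hS𝒯 : S ∈ 𝒯 := ⟨le_rfl, hPA, hSC⟩
  obtain ⟨T, -, hTmin⟩ := (Set.toFinite 𝒯).exists_le_minimal hS𝒯
  obtain ⟨hTS, hAT, hTC⟩ : T ∈ 𝒯 := hTmin.prop
  have hmin : ∀ M : Subgroup X, M ≤ T → A ≤ Subgroup.normalizer (M : Set X) → M ≠ T → M ≤ CA := by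
    intro M hMT hAM hne
    by_contra hM
    have hM𝒯 : M ∈ 𝒯 := ⟨hMT.trans hTS, hAM, hM⟩
    exact hne (le_antisymm hMT (hTmin.le_of_le hM𝒯 hMT))
  have hTp : IsPGroup p T := hSp.to_le hTS
  have hTK : T ≤ K := hTS.trans hSK
  have hcopT : (Nat.card A).Coprime (Nat.card T) :=
    hcop.coprime_dvd_right (Subgroup.card_dvd_of_le hTK)
  haveI hTnil : Group.IsNilpotent ↥T := hTp.isNilpotent
  have hTsolv : Group.IsSolvable ↥T := inferInstance
  have hsolvT : Group.IsSolvable A ∨ Group.IsSolvable T := Or.inr hTsolv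
  have hTbot : T ≠ ⊥ := by
    intro h; apply hTC; rw [h]; exact bot_le
  -- `[T, A] = T`
  have hTA : ⁅T, A⁆ = T := by
    by_contra hne
    have hle : ⁅T, A⁆ ≤ T := Subgroup.le_normalizer_iff_commutator_le_left.1 hAT
    have h1 := hmin ⁅T, A⁆ hle (Subgroup.normalizer_commutator_ge_right T A) hne
    have h2 : ⁅⁅T, A⁆, A⁆ = ⊥ := by
      rw [Subgroup.commutator_eq_bot_iff_le_centralizer, ← hCA]; exact h1
    rw [Helper1.coprime_commutator_commutator A T hAT hcopT hsolvT,
      Subgroup.commutator_eq_bot_iff_le_centralizer, ← hCA] at h2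
    exact hTC h2
  -- the derived subgroup is centralized by `A`
  have hGG : ⁅T, T⁆ ≤ T := Subgroup.le_normalizer_iff_commutator_le_left.1 Subgroup.le_normalizer
  have hT' : ⁅T, T⁆ ≤ CA := by
    apply hmin _ hGG (fun u hu => mem_normalizer_commutator_of_mem (hAT hu) (hAT hu))
    intro e
    haveI : Nontrivial ↥T := by
      rw [Subgroup.nontrivial_iff_ne_bot]; exact hTbot
    have h2 : _root_.commutator ↥T < ⊤ := Group.IsSolvable.commutator_lt_top_of_nontrivial ↥T
    have h3 : (_root_.commutator ↥T).map T.subtype = (⊤ : Subgroup ↥T).map T.subtype := by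
      rw [Subgroup.map_subtype_commutator, e, ← MonoidHom.range_eq_map, Subgroup.range_subtype]
    exact h2.ne (Subgroup.map_injective T.subtype_injective h3)
  -- `C_T(A)` is central in `T`
  have hCTc : ⁅T, T ⊓ CA⁆ = ⊥ := by
    have h3 : ⁅⁅A, T⁆, T ⊓ CA⁆ = ⊥ := by
      apply Subgroup.commutator_commutator_eq_bot_of_rotate
      · rw [Subgroup.commutator_eq_bot_iff_le_centralizer, ← hCA]
        exact (Subgroup.commutator_mono le_rfl inf_le_left).trans hT'
      · have : ⁅T ⊓ CA, A⁆ = ⊥ := by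
          rw [Subgroup.commutator_eq_bot_iff_le_centralizer, ← hCA]; exact inf_le_right
        rw [this]
        exact Subgroup.commutator_bot_left T
    rwa [Subgroup.commutator_comm A T, hTA] at h3
  have hcent : ∀ c ∈ T ⊓ CA, ∀ t ∈ T, c * t = t * c := by
    intro c hc t ht
    have := Subgroup.commutator_eq_bot_iff_le_centralizer.1 hCTc ht
    exact Subgroup.mem_centralizer_iff.1 this c hc
  -- the index of `C_T(A)` in `T` is `p`
  have hrel : (T ⊓ CA).relIndex T = p := by
    rw [Subgroup.inf_relIndex_left]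
    have h1 : CA.relIndex T ≤ p := by
      rw [← hidx']
      exact Subgroup.relIndex_le_of_le_right hTK (by rw [hidx']; exact hp.ne_zero)
    have h2 : CA.relIndex T ∣ Nat.card T := Subgroup.relIndex_dvd_card _ _
    obtain ⟨j, hj⟩ := IsPGroup.iff_card.1 hTp
    rw [hj] at h2
    obtain ⟨i, -, hi⟩ := (Nat.dvd_prime_pow hp).1 h2
    rcases Nat.lt_or_ge i 1 with hi0 | hi1
    · exfalso
      have : i = 0 := by omega
      rw [this, pow_zero, Subgroup.relIndex_eq_one] at hi
      exact hTC hi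
    · rcases Nat.lt_or_ge 1 i with hi2 | hi2
      · exfalso
        have : p ^ 2 ≤ p ^ i := Nat.pow_le_pow_right hp.pos hi2
        rw [← hi] at this
        have h3 : p < p ^ 2 := by
          have := hp.one_lt
          nlinarith
        omega
      · have : i = 1 := le_antisymm hi2 hi1
        rw [hi, this, pow_one]
  -- `T` is abelian
  obtain ⟨t₀, ht₀T, ht₀C⟩ := SetLike.not_le_iff_exists.1 hTC
  have hTab : ∀ x ∈ T, ∀ y ∈ T, x * y = y * x := by
    have hzT : Subgroup.zpowers t₀ ≤ T := by rw [Subgroup.zpowers_le]; exact ht₀T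
    have hDT : Subgroup.zpowers t₀ ⊔ (T ⊓ CA) ≤ T := sup_le hzT inf_le_left
    have hmul := Subgroup.relIndex_mul_relIndex (T ⊓ CA) (Subgroup.zpowers t₀ ⊔ (T ⊓ CA)) T
      le_sup_right hDT
    rw [hrel] at hmul
    have h1 : (T ⊓ CA).relIndex (Subgroup.zpowers t₀ ⊔ (T ⊓ CA)) ≠ 1 := by
      rw [Ne, Subgroup.relIndex_eq_one]
      intro h
      exact ht₀C (h (Subgroup.mem_sup_left (Subgroup.mem_zpowers t₀))).2
    have h2 : (T ⊓ CA).relIndex (Subgroup.zpowers t₀ ⊔ (T ⊓ CA)) = p :=
      ((Nat.dvd_prime hp).1 (Dvd.intro _ hmul)).resolve_left h1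
    rw [h2] at hmul
    have h3 : (Subgroup.zpowers t₀ ⊔ (T ⊓ CA)).relIndex T = 1 := by
      have : p * (Subgroup.zpowers t₀ ⊔ (T ⊓ CA)).relIndex T = p * 1 := by rw [hmul, mul_one]
      exact Nat.eq_of_mul_eq_mul_left hp.pos this
    rw [Subgroup.relIndex_eq_one] at h3
    have hnorm : T ⊓ CA ≤ Subgroup.normalizer ((Subgroup.zpowers t₀ : Subgroup X) : Set X) := by
      intro c hc
      apply Subgroup.centralizer_le_normalizer
      rw [Subgroup.mem_centralizer_iff]
      intro g hg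
      exact (hcent c hc g (hzT hg)).symm
    intro x hx y hy
    obtain ⟨n, hn, c, hc, rfl⟩ := Helper1.mem_sup_of_le_normalizer hnorm (h3 hx)
    obtain ⟨n', hn', c', hc', rfl⟩ := Helper1.mem_sup_of_le_normalizer hnorm (h3 hy)
    have e1 : Commute n n' := by
      obtain ⟨i, rfl⟩ := Subgroup.mem_zpowers_iff.1 hn
      obtain ⟨j, rfl⟩ := Subgroup.mem_zpowers_iff.1 hn'
      exact (Commute.refl t₀).zpow_zpow i j
    have e2 : Commute n c' := (hcent c' hc' n (hzT hn)).symm
    have e3 : Commute c n' := hcent c hc n' (hzT hn')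
    have e4 : Commute c c' := hcent c hc c' hc'.1
    exact ((e1.mul_right e2).mul_left (e3.mul_right e4)).eq
  haveI : IsMulCommutative T := ⟨⟨fun a b => Subtype.ext (hTab a a.2 b b.2)⟩⟩
  -- `C_T(A) = 1` and `|T| = p`
  have hCT : T ⊓ CA = ⊥ := by
    have := Helper1.centralizer_inf_commutator_eq_bot A T hAT hcopT
    rw [hTA, ← hCA] at this
    rwa [inf_eq_left.2 inf_le_left] at this
  have hTcard : Nat.card T = p := by
    rw [hCT, Subgroup.relIndex_bot_left] at hrel
    exact hrel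
  -- `K = T C_K(A)`
  have hcompl : Subgroup.IsComplement' (T.subgroupOf K) ((K ⊓ CA).subgroupOf K) := by
    apply Subgroup.isComplement'_of_card_mul_and_disjoint
    · rw [Helper1.card_subgroupOf_of_le hTK, Helper1.card_subgroupOf_of_le inf_le_left, hTcard,
        mul_comm, hcardK]
    · rw [disjoint_iff]
      have e : T.subgroupOf K ⊓ (K ⊓ CA).subgroupOf K = (T ⊓ (K ⊓ CA)).subgroupOf K :=
        (Subgroup.comap_inf T (K ⊓ CA) K.subtype).symm
      have : T ⊓ (K ⊓ CA) = ⊥ := by
        rw [eq_bot_iff, ← hCT]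
        exact le_inf inf_le_left (inf_le_right.trans inf_le_right)
      rw [e, this]
      exact Subgroup.bot_subgroupOf K
  have hKle : ⁅K, A⁆ ≤ T := by
    rw [Subgroup.commutator_le]
    intro k hk a ha
    obtain ⟨⟨τ, c⟩, hτc⟩ := (hcompl.existsUnique ⟨k, hk⟩).exists
    have hτT : (τ : K).1 ∈ T := τ.2
    have hcC : (c : K).1 ∈ K ⊓ CA := c.2
    have hk' : k = (τ : K).1 * (c : K).1 := by
      have := congrArg Subtype.val hτc
      simpa using this.symm
    have hca : (c : K).1 * a = a * (c : K).1 := by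
      have h1 : (c : K).1 ∈ Subgroup.centralizer (A : Set X) := by rw [← hCA]; exact hcC.2
      exact (Subgroup.mem_centralizer_iff.1 h1 a ha).symm
    have hconj : a * ((τ : K).1)⁻¹ * a⁻¹ ∈ T :=
      (Subgroup.mem_normalizer_iff.1 (hAT ha) _).1 (T.inv_mem hτT)
    have e : ⁅k, a⁆ = (τ : K).1 * (a * ((τ : K).1)⁻¹ * a⁻¹) := by
      rw [hk', commutatorElement_def]
      have : (τ : K).1 * (c : K).1 * a * ((τ : K).1 * (c : K).1)⁻¹ * a⁻¹ =
          (τ : K).1 * ((c : K).1 * a) * ((c : K).1)⁻¹ * ((τ : K).1)⁻¹ * a⁻¹ := by group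
      rw [this, hca]
      group
    rw [e]
    exact T.mul_mem hτT hconj
  have hne : (⁅K, A⁆ : Subgroup X) ≠ ⊥ := by
    intro h
    rw [Subgroup.commutator_eq_bot_iff_le_centralizer, ← hCA] at h
    rw [← Subgroup.relIndex_eq_one, hidx'] at h
    exact hp.one_lt.ne' h
  have hdvd : Nat.card (⁅K, A⁆ : Subgroup X) ∣ p := by
    rw [← hTcard]; exact Subgroup.card_dvd_of_le hKle
  rcases (Nat.dvd_prime hp).1 hdvd with h | h
  · exfalso
    exact hne ((Subgroup.card_eq_one).1 h)
  · exact h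

end Cfsg.Agent.Lead
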