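import Mathlib

/-!
S4016 (cyclic Sylow `p`-subgroup, abelian `p'`-subgroups): pure lemmas.
-/

set_option autoImplicit false

namespace Cfsg.Agent.Lead.CycSyl

/-- An automorphism of order prime to `p` of a cyclic `p`-group which fixes a non-identity
element is trivial. -/
theorem cyc_aut_trivial {P : Type*} [Group P] [Finite P] [IsCyclic P] {p : ℕ} [hp : Fact p.Prime]
    (hP : IsPGroup p P) (β : P ≃* P) (m : ℕ) (hm : m.Coprime p) (hβ : β ^ m = 1)
    (u : P) (hu : u ≠ 1) (hfix : β u = u) : ∀ x : P, β x = x := by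
  obtain ⟨g, hg⟩ := IsCyclic.exists_generator (α := P)
  obtain ⟨j, hj⟩ : ∃ j : ℤ, g ^ j = β g := Subgroup.mem_zpowers_iff.1 (hg (β g))
  have hβx : ∀ x : P, β x = x ^ j := by
    intro x
    obtain ⟨i, rfl⟩ := Subgroup.mem_zpowers_iff.1 (hg x)
    rw [map_zpow, ← hj, ← zpow_mul, ← zpow_mul, mul_comm]
  have hβpow : ∀ (k : ℕ) (x : P), (β ^ k) x = x ^ (j ^ k) := by
    intro k
    induction k with
    | zero => intro x; simp
    | succ k ih =>
      intro x
      rw [pow_succ', MulAut.mul_apply, ih, hβx, ← zpow_mul, pow_succ]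
  obtain ⟨a, ha⟩ := IsPGroup.iff_card.1 hP
  have hog : orderOf g = p ^ a := by
    rw [← ha]; exact orderOf_eq_card_of_forall_mem_zpowers hg
  -- `n ∣ j ^ m - 1`
  have h1 : ((p ^ a : ℕ) : ℤ) ∣ j ^ m - 1 := by
    rw [← hog, orderOf_dvd_iff_zpow_eq_one, zpow_sub, zpow_one, ← hβpow m g, hβ]
    simp
  -- `p ∣ j - 1`
  have h2 : (p : ℤ) ∣ j - 1 := by
    have h3 : (orderOf u : ℤ) ∣ j - 1 := by
      rw [orderOf_dvd_iff_zpow_eq_one, zpow_sub, zpow_one, ← hβx u, hfix]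
      simp
    obtain ⟨c, hc⟩ := (IsPGroup.iff_orderOf.1 hP) u
    have hc0 : c ≠ 0 := by
      rintro rfl
      rw [pow_zero, orderOf_eq_one_iff] at hc
      exact hu hc
    have h4 : (p : ℤ) ∣ (orderOf u : ℤ) := by
      rw [hc]; exact_mod_cast dvd_pow_self p hc0
    exact dvd_trans h4 h3
  have ha0 : a ≠ 0 := by
    rintro rfl
    rw [pow_zero] at ha
    have : Subsingleton P := (Nat.card_eq_one_iff_unique.1 ha).1
    exact hu (Subsingleton.elim _ _)
  have h5 : ((p ^ a : ℕ) : ℤ) ∣ j ^ p ^ (a - 1) - 1 := by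
    have := dvd_sub_pow_of_dvd_sub (R := ℤ) (p := p) (a := j) (b := 1) h2 (a - 1)
    rw [one_pow, Nat.sub_add_cancel (Nat.one_le_iff_ne_zero.2 ha0)] at this
    exact_mod_cast this
  -- work in `ZMod (p ^ a)`
  have hJ1 : ((j : ZMod (p ^ a))) ^ m = 1 := by
    have := (ZMod.intCast_zmod_eq_zero_iff_dvd (j ^ m - 1) (p ^ a)).2 h1
    push_cast at this
    exact sub_eq_zero.1 this
  have hJ2 : ((j : ZMod (p ^ a))) ^ p ^ (a - 1) = 1 := by
    have := (ZMod.intCast_zmod_eq_zero_iff_dvd (j ^ p ^ (a - 1) - 1) (p ^ a)).2 h5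
    push_cast at this
    exact sub_eq_zero.1 this
  have hJ : (j : ZMod (p ^ a)) = 1 := by
    have d1 : orderOf (j : ZMod (p ^ a)) ∣ m := orderOf_dvd_of_pow_eq_one hJ1
    have d2 : orderOf (j : ZMod (p ^ a)) ∣ p ^ (a - 1) := orderOf_dvd_of_pow_eq_one hJ2
    have d3 : orderOf (j : ZMod (p ^ a)) = 1 :=
      Nat.eq_one_of_dvd_coprimes (Nat.Coprime.pow_right _ hm) d1 d2
    exact orderOf_eq_one_iff.1 d3
  have h6 : ((p ^ a : ℕ) : ℤ) ∣ j - 1 := by
    rw [← ZMod.intCast_zmod_eq_zero_iff_dvd]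
    push_cast
    rw [hJ, sub_self]
  intro x
  rw [hβx x]
  have h7 : (orderOf x : ℤ) ∣ j - 1 := by
    have : orderOf x ∣ p ^ a := by rw [← ha]; exact orderOf_dvd_natCard x
    exact dvd_trans (by exact_mod_cast this) h6
  rw [orderOf_dvd_iff_zpow_eq_one, zpow_sub, zpow_one, mul_inv_eq_one] at h7
  exact h7

/-- the `p`-part and the `p'`-part of an element. -/
theorem exists_parts {G : Type*} [Group G] [Finite G] (x : G) (p : ℕ) [hp : Fact p.Prime] :
    ∃ y z : G, y ∈ Subgroup.zpowers x ∧ z ∈ Subgroup.zpowers x ∧ x = y * z ∧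
      (∃ i : ℕ, y ^ p ^ i = 1) ∧ (orderOf z).Coprime p := by
  obtain ⟨i, m', hm', ho⟩ :=
    Nat.exists_eq_pow_mul_and_not_dvd (orderOf_pos x).ne' p hp.out.ne_one
  have hcop : Nat.Coprime (p ^ i) m' :=
    Nat.Coprime.pow_left _ ((Nat.Prime.coprime_iff_not_dvd hp.out).2 hm')
  have hb : (p ^ i : ℤ) * Nat.gcdA (p ^ i) m' + (m' : ℤ) * Nat.gcdB (p ^ i) m' = 1 := by
    have := Nat.gcd_eq_gcd_ab (p ^ i) m'
    rw [hcop] at this
    push_cast at this
    exact this.symm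
  set a := Nat.gcdA (p ^ i) m'
  set b := Nat.gcdB (p ^ i) m'
  refine ⟨(x ^ m') ^ b, (x ^ p ^ i) ^ a, ?_, ?_, ?_, ⟨i, ?_⟩, ?_⟩
  · exact Subgroup.zpow_mem _ (Subgroup.pow_mem _ (Subgroup.mem_zpowers x) _) _
  · exact Subgroup.zpow_mem _ (Subgroup.pow_mem _ (Subgroup.mem_zpowers x) _) _
  · rw [← zpow_natCast x m', ← zpow_natCast x (p ^ i), ← zpow_mul, ← zpow_mul, ← zpow_add]
    have : (m' : ℤ) * b + ((p ^ i : ℕ) : ℤ) * a = 1 := by
      push_cast; rw [add_comm]; exact hb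
    rw [this, zpow_one]
  · rw [← zpow_natCast ((x ^ m') ^ b), ← zpow_mul, mul_comm, zpow_mul, zpow_natCast, ← pow_mul,
      mul_comm, ← ho, pow_orderOf_eq_one, one_zpow]
  · have h1 : orderOf ((x ^ p ^ i) ^ a) ∣ m' := by
      apply orderOf_dvd_of_pow_eq_one
      rw [← zpow_natCast ((x ^ p ^ i) ^ a), ← zpow_mul, mul_comm, zpow_mul, zpow_natCast, ← pow_mul,
        ← ho, pow_orderOf_eq_one, one_zpow]
    exact Nat.Coprime.coprime_dvd_left h1 ((Nat.Prime.coprime_iff_not_dvd hp.out).2 hm').symm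

/-- to centralise (or more generally lie in a subgroup), it is enough that both parts do. -/
theorem mem_of_parts {G : Type*} [Group G] [Finite G] (x : G) (p : ℕ) [hp : Fact p.Prime]
    (S : Subgroup G)
    (h1 : ∀ y ∈ Subgroup.zpowers x, (∃ i : ℕ, y ^ p ^ i = 1) → y ∈ S)
    (h2 : ∀ z ∈ Subgroup.zpowers x, (orderOf z).Coprime p → z ∈ S) : x ∈ S := by
  obtain ⟨y, z, hy, hz, rfl, hyp, hzp⟩ := exists_parts x p
  exact S.mul_mem (h1 y hy hyp) (h2 z hz hzp)

/-- an element of `p`-power order and of order prime to `p` is trivial. -/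
theorem eq_one_of_ppow_of_coprime {G : Type*} [Group G] {p : ℕ} {x : G} {i : ℕ}
    (h1 : x ^ p ^ i = 1) (h2 : (orderOf x).Coprime p) : x = 1 := by
  have d1 : orderOf x ∣ p ^ i := orderOf_dvd_of_pow_eq_one h1
  have d2 : orderOf x = 1 :=
    Nat.eq_one_of_dvd_coprimes (Nat.Coprime.pow_right i h2) (dvd_refl _) d1
  exact orderOf_eq_one_iff.1 d2

end Cfsg.Agent.Lead.CycSyl
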