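import Mathlib
import Cfsg.Prelude.Def_Transfer
import Cfsg.Agent.Lead.CycSylA
import Cfsg.Agent.Lead.ConjAutDef
import Cfsg.Agent.Lead.S3fGp
import Cfsg.Agent.Helper1.Card
import Cfsg.Agent.Helper1.Glauberman
import Cfsg.Agent.Helper1.NormalPCompl

/-!
S4016: the minimal counterexample, first reductions.
-/

set_option autoImplicit false
set_option linter.unusedSectionVars false

namespace Cfsg.Agent.Lead.CycSyl

open Classical

variable {G : Type*} [Group G] [Finite G] {p : ℕ} [hp : Fact p.Prime]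

/-- internal form of the conclusion of the theorem for a subgroup `M`. -/
def IHsub (p : ℕ) (M : Subgroup G) : Prop :=
  (∃ T : Subgroup G, T ≤ M ∧ M ≤ Subgroup.normalizer (T : Set G) ∧ ¬ p ∣ Nat.card T ∧
      ∀ x ∈ M, (orderOf x).Coprime p → x ∈ T) ∨
  (∃ R : Subgroup G, R ≤ M ∧ M ≤ Subgroup.normalizer (R : Set G) ∧ IsPGroup p R ∧
      ∀ x ∈ M, (∃ j : ℕ, x ^ p ^ j = 1) → x ∈ R)

/-- a minimal counterexample, with a complement `B` of `P` in `N_G(P)`. -/
structure MC (P : Sylow p G) (B : Subgroup G) : Prop where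
  hcyc : IsCyclic P
  hab : ∀ H : Subgroup G, ¬ p ∣ Nat.card H → IsMulCommutative H
  hnpc : ¬ Cfsg.HasNormalPComplement p G
  hPn : ¬ (P : Subgroup G).Normal
  ih : ∀ M : Subgroup G, M ≠ ⊤ → IHsub p M
  ihq : ∀ K0 : Subgroup G, K0.Normal → K0 ≠ ⊥ → ¬ p ∣ Nat.card K0 →
    ((P : Subgroup G) ⊔ K0).Normal
  hBN : B ≤ Subgroup.normalizer ((P : Subgroup G) : Set G)
  hBp : ¬ p ∣ Nat.card B
  hPB : (P : Subgroup G) ⊔ B = Subgroup.normalizer ((P : Subgroup G) : Set G)

/-- a subgroup of order prime to `p` meets a `p`-group trivially. -/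
theorem inf_eq_bot_of_pgroup {R T : Subgroup G} (hR : IsPGroup p R) (hT : ¬ p ∣ Nat.card T) :
    R ⊓ T = ⊥ := by
  rw [Subgroup.eq_bot_iff_forall]
  rintro x ⟨hxR, hxT⟩
  obtain ⟨j, hj⟩ := (IsPGroup.iff_orderOf.1 hR) ⟨x, hxR⟩
  rw [Subgroup.orderOf_mk] at hj
  have h1 : orderOf x ∣ Nat.card T := by
    have := orderOf_dvd_natCard (⟨x, hxT⟩ : T)
    rwa [Subgroup.orderOf_mk] at this
  by_cases hj0 : j = 0
  · rw [hj0, pow_zero] at hj
    exact orderOf_eq_one_iff.1 hj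
  · exfalso
    apply hT
    exact dvd_trans (hj ▸ dvd_pow_self p hj0) h1

theorem coprime_orderOf_of_mem {T : Subgroup G} (hT : ¬ p ∣ Nat.card T) {x : G} (hx : x ∈ T) :
    (orderOf x).Coprime p := by
  have h1 : orderOf x ∣ Nat.card T := by
    have := orderOf_dvd_natCard (⟨x, hx⟩ : T)
    rwa [Subgroup.orderOf_mk] at this
  exact Nat.Coprime.coprime_dvd_left h1 ((Nat.Prime.coprime_iff_not_dvd hp.out).2 hT).symm

theorem ppow_of_mem {R : Subgroup G} (hR : IsPGroup p R) {x : G} (hx : x ∈ R) :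
    ∃ j : ℕ, x ^ p ^ j = 1 := by
  obtain ⟨j, hj⟩ := hR ⟨x, hx⟩
  exact ⟨j, by simpa using congrArg Subtype.val hj⟩

/-- a `p`-element normalising the Sylow `p`-subgroup `P` lies in `P`. -/
theorem mem_sylow_of_ppow (P : Sylow p G) {x : G}
    (hxN : x ∈ Subgroup.normalizer ((P : Subgroup G) : Set G)) {j : ℕ} (hx : x ^ p ^ j = 1) :
    x ∈ (P : Subgroup G) := by
  have hz : IsPGroup p (Subgroup.zpowers x) := by
    rw [IsPGroup.iff_orderOf]
    rintro ⟨y, hy⟩
    obtain ⟨i, rfl⟩ := Subgroup.mem_zpowers_iff.1 hy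
    have h1 : (x ^ i) ^ (p ^ j) = 1 := by
      rw [← zpow_natCast, ← zpow_mul, mul_comm, zpow_mul, zpow_natCast, hx, one_zpow]
    have h2 : orderOf (x ^ i) ∣ p ^ j := orderOf_dvd_of_pow_eq_one h1
    obtain ⟨k, _, hk⟩ := (Nat.dvd_prime_pow hp.out).1 h2
    exact ⟨k, by rw [← hk]; exact Subgroup.orderOf_mk _ hy⟩
  have hle : Subgroup.zpowers x ≤ Subgroup.normalizer ((P : Subgroup G) : Set G) := by
    rw [Subgroup.zpowers_le]; exact hxN
  have h1 : IsPGroup p ((Subgroup.zpowers x ⊔ (P : Subgroup G) : Subgroup G)) :=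
    IsPGroup.to_sup_of_normal_right' hz P.2 hle
  have h2 : (P : Subgroup G) = Subgroup.zpowers x ⊔ (P : Subgroup G) :=
    (P.3 h1 le_sup_right).symm
  rw [h2]
  exact Subgroup.mem_sup_left (Subgroup.mem_zpowers x)

/-- a `p`-subgroup containing the Sylow `p`-subgroup `P` is `P`. -/
theorem eq_sylow_of_le (P : Sylow p G) {R : Subgroup G} (hR : IsPGroup p R)
    (h : (P : Subgroup G) ≤ R) : R = P := P.3 hR h

/-- if the elements of `T` are characterised inside the normal subgroup `M` by a property of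
their order, then `T` is normal. -/
theorem normal_of_order_char {M T : Subgroup G} (hM : M.Normal) (φ : ℕ → Prop)
    (hT : ∀ x, x ∈ T ↔ x ∈ M ∧ φ (orderOf x)) : T.Normal := by
  constructor
  intro x hx g
  rw [hT] at hx ⊢
  refine ⟨hM.conj_mem x hx.1 g, ?_⟩
  have : orderOf (g * x * g⁻¹) = orderOf x := by
    have : g * x * g⁻¹ = MulAut.conj g x := by simp
    rw [this, MulEquiv.orderOf_eq]
  rw [this]; exact hx.2

namespace MC

variable {P : Sylow p G} {B : Subgroup G} (h : MC P B)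
include h

theorem P_comm {x y : G} (hx : x ∈ (P : Subgroup G)) (hy : y ∈ (P : Subgroup G)) :
    x * y = y * x := by
  have := h.hcyc
  obtain ⟨g, hg⟩ := IsCyclic.exists_generator (α := P)
  obtain ⟨i, hi⟩ := Subgroup.mem_zpowers_iff.1 (hg ⟨x, hx⟩)
  obtain ⟨j, hj⟩ := Subgroup.mem_zpowers_iff.1 (hg ⟨y, hy⟩)
  have h1 : (⟨x, hx⟩ : P) * ⟨y, hy⟩ = ⟨y, hy⟩ * ⟨x, hx⟩ := by
    rw [← hi, ← hj, ← zpow_add, ← zpow_add, add_comm]
  exact congrArg Subtype.val h1

theorem P_ne_bot : (P : Subgroup G) ≠ ⊥ := by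
  intro h1
  apply h.hPn
  rw [h1]
  infer_instance

theorem P_le_N : (P : Subgroup G) ≤ Subgroup.normalizer ((P : Subgroup G) : Set G) :=
  Subgroup.le_normalizer

theorem PB_disj : (P : Subgroup G) ⊓ B = ⊥ := inf_eq_bot_of_pgroup P.2 h.hBp

theorem mem_N {g : G} (hg : g ∈ Subgroup.normalizer ((P : Subgroup G) : Set G)) :
    ∃ x ∈ (P : Subgroup G), ∃ b ∈ B, g = x * b := by
  rw [← h.hPB] at hg
  exact Cfsg.Agent.Helper1.mem_sup_of_le_normalizer h.hBN hg

theorem B_coprime {b : G} (hb : b ∈ B) : (orderOf b).Coprime p :=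
  coprime_orderOf_of_mem h.hBp hb

theorem B_comm {b c : G} (hb : b ∈ B) (hc : c ∈ B) : b * c = c * b := by
  have := (h.hab B h.hBp).is_comm.comm (⟨b, hb⟩ : B) ⟨c, hc⟩
  exact congrArg Subtype.val this

/-- the cyclic lemma inside `G`: a `p'`-element of `N_G(P)` fixing a non-trivial element of `P`
centralises `P`. -/
theorem cent_of_fix {b : G} (hbN : b ∈ Subgroup.normalizer ((P : Subgroup G) : Set G))
    (hb : (orderOf b).Coprime p) {u : G} (hu : u ∈ (P : Subgroup G)) (hu1 : u ≠ 1)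
    (hfix : b * u * b⁻¹ = u) : ∀ x ∈ (P : Subgroup G), b * x * b⁻¹ = x := by
  have := h.hcyc
  set β := Cfsg.Agent.Lead.conjAut (P : Subgroup G) b hbN with hβ
  have hβm : β ^ (orderOf b) = 1 := by
    ext c
    rw [hβ, Cfsg.Agent.Lead.conjAut_pow_apply, pow_orderOf_eq_one]
    simp
  have hPg : IsPGroup p (P : Subgroup G) := P.2
  have key := cyc_aut_trivial (P := (P : Subgroup G)) hPg β (orderOf b) hb hβm ⟨u, hu⟩
    (fun h1 => hu1 (congrArg Subtype.val h1)) (Subtype.ext hfix)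
  intro x hx
  have := congrArg Subtype.val (key ⟨x, hx⟩)
  simpa [hβ] using this

/-- some element of `B` does not centralise `P` (Burnside). -/
theorem exists_b0 : ∃ b₀ ∈ B, ∃ x ∈ (P : Subgroup G), b₀ * x * b₀⁻¹ ≠ x := by
  by_contra hcon
  push Not at hcon
  apply h.hnpc
  apply Cfsg.Agent.Helper1.hasNormalPComplement_of_normalizer_le_centralizer P
  intro g hg
  obtain ⟨x, hx, b, hb, rfl⟩ := h.mem_N hg
  rw [Subgroup.mem_centralizer_iff]
  intro y hy
  have h1 := hcon b hb y hy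
  have h2 := h.P_comm hx hy
  calc y * (x * b) = (y * x) * b := by group
    _ = (x * y) * b := by rw [h2]
    _ = x * (b * y * b⁻¹) * b := by rw [h1]
    _ = x * b * y := by group

/-- an element of `B` not centralising `P` acts without fixed points on `P`. -/
theorem fpf {b : G} (hb : b ∈ B) {x : G} (hx : x ∈ (P : Subgroup G)) (hbx : b * x * b⁻¹ ≠ x)
    {u : G} (hu : u ∈ (P : Subgroup G)) (hfix : b * u * b⁻¹ = u) : u = 1 := by
  by_contra hu1
  exact hbx (h.cent_of_fix (h.hBN hb) (h.B_coprime hb) hu hu1 hfix x hx)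

/-- `P` is covered by the commutators with an element of `B` not centralising it. -/
theorem exists_comm {b : G} (hb : b ∈ B) {x : G} (hx : x ∈ (P : Subgroup G))
    (hbx : b * x * b⁻¹ ≠ x) {y : G} (hy : y ∈ (P : Subgroup G)) :
    ∃ u ∈ (P : Subgroup G), y = u⁻¹ * (b * u * b⁻¹) := by
  have hbN := h.hBN hb
  let f : ↥(P : Subgroup G) → ↥(P : Subgroup G) := fun u =>
    ⟨(u : G)⁻¹ * (b * u * b⁻¹), (P : Subgroup G).mul_mem ((P : Subgroup G).inv_mem u.2)
      ((Subgroup.mem_normalizer_iff.1 hbN u).1 u.2)⟩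
  have hf : Function.Injective f := by
    intro u v huv
    have h1 : (u : G)⁻¹ * (b * u * b⁻¹) = (v : G)⁻¹ * (b * v * b⁻¹) := congrArg Subtype.val huv
    have hw : (u : G) * (v : G)⁻¹ ∈ (P : Subgroup G) :=
      (P : Subgroup G).mul_mem u.2 ((P : Subgroup G).inv_mem v.2)
    have hbv : b * (v : G)⁻¹ * b⁻¹ ∈ (P : Subgroup G) :=
      (Subgroup.mem_normalizer_iff.1 hbN _).1 ((P : Subgroup G).inv_mem v.2)
    have h2 : b * ((u : G) * (v : G)⁻¹) * b⁻¹ = (u : G) * (v : G)⁻¹ := by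
      have e1 : b * u * b⁻¹ = (u : G) * ((v : G)⁻¹ * (b * v * b⁻¹)) := by
        rw [← h1]; group
      calc b * ((u : G) * (v : G)⁻¹) * b⁻¹ = (b * u * b⁻¹) * (b * (v : G)⁻¹ * b⁻¹) := by group
        _ = (u : G) * ((v : G)⁻¹ * (b * v * b⁻¹)) * (b * (v : G)⁻¹ * b⁻¹) := by rw [e1]
        _ = (u : G) * (v : G)⁻¹ := by group
    have h3 := h.fpf hb hx hbx hw h2
    apply Subtype.ext
    calc (u : G) = (u : G) * (v : G)⁻¹ * v := by group
      _ = v := by rw [h3, one_mul]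
  have hsurj : Function.Surjective f := Finite.injective_iff_surjective.1 hf
  obtain ⟨u, hu⟩ := hsurj ⟨y, hy⟩
  exact ⟨u, u.2, (congrArg Subtype.val hu).symm⟩

end MC

end Cfsg.Agent.Lead.CycSyl
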