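import Mathlib
import Cfsg.Agent.Lead.CycSylB

/-!
S4016: `O_{p'}(G) = 1`, `O_p(G) = 1`, `N_G(P)` is maximal, `P` is a TI-subgroup.
-/

set_option autoImplicit false
set_option linter.unusedSectionVars false

namespace Cfsg.Agent.Lead.CycSyl

open Classical

variable {G : Type*} [Group G] [Finite G] {p : ℕ} [hp : Fact p.Prime]

theorem orderOf_conj'' (g x : G) : orderOf (g * x * g⁻¹) = orderOf x := by
  have : g * x * g⁻¹ = MulAut.conj g x := by simp
  rw [this, MulEquiv.orderOf_eq]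

theorem conj_pow' (g x : G) (n : ℕ) : g * x ^ n * g⁻¹ = (g * x * g⁻¹) ^ n := by
  have : g * x ^ n * g⁻¹ = MulAut.conj g (x ^ n) := by simp
  rw [this, map_pow]; simp

theorem conj_zpow' (g x : G) (n : ℤ) : g * x ^ n * g⁻¹ = (g * x * g⁻¹) ^ n := by
  have : g * x ^ n * g⁻¹ = MulAut.conj g (x ^ n) := by simp
  rw [this, map_zpow]; simp

namespace MC

variable {P : Sylow p G} {B : Subgroup G} (h : MC P B)
include h

/-- a subgroup of order prime to `p` centralises a normal subgroup of order prime to `p`. -/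
theorem comm_of_coprime_normal {K0 X : Subgroup G} (hK0 : K0.Normal) (hK0p : ¬ p ∣ Nat.card K0)
    (hX : ¬ p ∣ Nat.card X) {x k : G} (hx : x ∈ X) (hk : k ∈ K0) : x * k = k * x := by
  have hA : X ≤ Subgroup.normalizer (K0 : Set G) := by
    rw [Subgroup.normalizer_eq_top]; exact le_top
  have hcard := Cfsg.Agent.Helper1.card_sup_mul_card_inf hA
  have h1 : ¬ p ∣ Nat.card (K0 ⊔ X : Subgroup G) := by
    intro h2
    have h3 : p ∣ Nat.card K0 * Nat.card X := by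
      rw [← hcard]; exact dvd_mul_of_dvd_left h2 _
    rcases (Nat.Prime.dvd_mul hp.out).1 h3 with h4 | h4
    · exact hK0p h4
    · exact hX h4
  have hc := h.hab _ h1
  have hxm : x ∈ K0 ⊔ X := Subgroup.mem_sup_right hx
  have hkm : k ∈ K0 ⊔ X := Subgroup.mem_sup_left hk
  have := hc.is_comm.comm (⟨x, hxm⟩ : (K0 ⊔ X : Subgroup G)) ⟨k, hkm⟩
  exact congrArg Subtype.val this

/-- **Step 1**: `O_{p'}(G) = 1`. -/
theorem Opp_trivial (K0 : Subgroup G) (hK0 : K0.Normal) (hK0p : ¬ p ∣ Nat.card K0) : K0 = ⊥ := by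
  by_contra hne
  have hn := h.ihq K0 hK0 hne hK0p
  obtain ⟨b₀, hb₀, x₀, hx₀, hbx⟩ := h.exists_b0
  -- `P` centralises `K0`
  have hPK : ∀ y ∈ (P : Subgroup G), ∀ k ∈ K0, y * k = k * y := by
    intro y hy k hk
    obtain ⟨u, hu, rfl⟩ := h.exists_comm hb₀ hx₀ hbx hy
    have h1 : ∀ k' ∈ K0, b₀ * k' = k' * b₀ := fun k' hk' =>
      h.comm_of_coprime_normal hK0 hK0p h.hBp hb₀ hk'
    have h2 : u * k * u⁻¹ ∈ K0 := hK0.conj_mem k hk u
    have h3 := h1 _ h2
    have h4 := h1 k hk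
    have h5 : b₀⁻¹ * k = k * b₀⁻¹ := by
      calc b₀⁻¹ * k = b₀⁻¹ * (k * b₀) * b₀⁻¹ := by group
        _ = b₀⁻¹ * (b₀ * k) * b₀⁻¹ := by rw [h4]
        _ = k * b₀⁻¹ := by group
    calc u⁻¹ * (b₀ * u * b₀⁻¹) * k = u⁻¹ * b₀ * u * (b₀⁻¹ * k) := by group
      _ = u⁻¹ * b₀ * u * (k * b₀⁻¹) := by rw [h5]
      _ = u⁻¹ * (b₀ * (u * k * u⁻¹)) * u * b₀⁻¹ := by group
      _ = u⁻¹ * ((u * k * u⁻¹) * b₀) * u * b₀⁻¹ := by rw [h3]
      _ = k * (u⁻¹ * (b₀ * u * b₀⁻¹)) := by group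
  -- hence `P` is normal
  apply h.hPn
  constructor
  intro x hx g
  have hK0N : K0 ≤ Subgroup.normalizer ((P : Subgroup G) : Set G) := by
    intro k hk
    apply Cfsg.Agent.Lead.S3F.mem_normalizer_of_conj_mem
    intro y hy
    have := hPK y hy k hk
    have e : k * y * k⁻¹ = y := by rw [← this]; group
    rw [e]; exact hy
  have hmem : g * x * g⁻¹ ∈ (P : Subgroup G) ⊔ K0 :=
    hn.conj_mem x (Subgroup.mem_sup_left hx) g
  obtain ⟨x', hx', k', hk', hxk⟩ := Cfsg.Agent.Helper1.mem_sup_of_le_normalizer hK0N hmem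
  obtain ⟨a, ha⟩ := ppow_of_mem P.2 hx
  obtain ⟨a', ha'⟩ := ppow_of_mem P.2 hx'
  have hcomm : Commute x' k' := hPK x' hx' k' hk'
  have h1 : (x' * k') ^ (p ^ (a + a')) = 1 := by
    rw [← hxk, ← conj_pow', pow_add, pow_mul, ha, one_pow]; group
  rw [hcomm.mul_pow] at h1
  have h2 : x' ^ (p ^ (a + a')) = 1 := by
    rw [add_comm, pow_add, pow_mul, ha', one_pow]
  rw [h2, one_mul] at h1
  have h3 : k' = 1 := eq_one_of_ppow_of_coprime h1 (coprime_orderOf_of_mem hK0p hk')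
  rw [hxk, h3, mul_one]
  exact hx'

/-- no proper normal subgroup contains `P`. -/
theorem no_normal_ge (C : Subgroup G) (hC : C.Normal) (hne : C ≠ ⊤)
    (hPC : (P : Subgroup G) ≤ C) : False := by
  rcases h.ih C hne with ⟨T, hTC, -, hTp, hT⟩ | ⟨R, hRC, -, hRp, hR⟩
  · have hTn : T.Normal := by
      apply normal_of_order_char hC (fun o => o.Coprime p)
      intro x
      exact ⟨fun hx => ⟨hTC hx, coprime_orderOf_of_mem hTp hx⟩, fun hx => hT x hx.1 hx.2⟩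
    have hTbot := h.Opp_trivial T hTn hTp
    have hCp : IsPGroup p C := by
      rintro ⟨x, hx⟩
      obtain ⟨y, z, hy, hz, hxyz, ⟨i, hi⟩, hzp⟩ := exists_parts x p
      have hzC : z ∈ C := (Subgroup.zpowers_le.2 hx) hz
      have hz1 : z = 1 := by
        have := hT z hzC hzp
        rwa [hTbot, Subgroup.mem_bot] at this
      refine ⟨i, ?_⟩
      apply Subtype.ext
      rw [hz1, mul_one] at hxyz
      simp only [SubmonoidClass.mk_pow, Subgroup.coe_one]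
      rw [hxyz]; exact hi
    apply h.hPn
    rw [← eq_sylow_of_le P hCp hPC]
    exact hC
  · have hPR : (P : Subgroup G) ≤ R := fun x hx => hR x (hPC hx) (ppow_of_mem P.2 hx)
    have hRP := eq_sylow_of_le P hRp hPR
    apply h.hPn
    apply normal_of_order_char hC (fun o => ∃ j : ℕ, o ∣ p ^ j)
    intro x
    constructor
    · intro hx
      obtain ⟨j, hj⟩ := ppow_of_mem P.2 hx
      exact ⟨hPC hx, j, orderOf_dvd_of_pow_eq_one hj⟩
    · rintro ⟨hxC, j, hj⟩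
      rw [← hRP]
      exact hR x hxC ⟨j, orderOf_dvd_iff_pow_eq_one.1 hj⟩

/-- **Step 2**: `O_p(G) = 1`. -/
theorem Op_trivial (R : Subgroup G) (hR : R.Normal) (hRp : IsPGroup p R) : R = ⊥ := by
  by_contra hne
  have hRP : R ≤ (P : Subgroup G) := by
    have h1 : IsPGroup p ((R ⊔ (P : Subgroup G) : Subgroup G)) :=
      IsPGroup.to_sup_of_normal_left hRp P.2
    have h2 := eq_sylow_of_le P h1 le_sup_right
    rw [← h2]; exact le_sup_left
  have hCn : (Subgroup.centralizer (R : Set G)).Normal := Subgroup.normal_centralizer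
  apply h.no_normal_ge _ hCn
  · intro htop
    obtain ⟨u, hu, hu1⟩ : ∃ u ∈ R, u ≠ 1 := by
      by_contra hcon
      push Not at hcon
      exact hne ((Subgroup.eq_bot_iff_forall R).2 hcon)
    obtain ⟨b₀, hb₀, x₀, hx₀, hbx⟩ := h.exists_b0
    have hb : b₀ ∈ Subgroup.centralizer (R : Set G) := by rw [htop]; trivial
    have h1 : b₀ * u * b₀⁻¹ = u := by
      rw [Subgroup.mem_centralizer_iff] at hb
      rw [← hb u hu]; group
    exact hu1 (h.fpf hb₀ hx₀ hbx (hRP hu) h1)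
  · intro x hx
    rw [Subgroup.mem_centralizer_iff]
    intro r hr
    exact h.P_comm (hRP hr) hx

/-- `N_G(P)` is a maximal subgroup. -/
theorem N_max (M : Subgroup G) (hNM : Subgroup.normalizer ((P : Subgroup G) : Set G) ≤ M)
    (hne : M ≠ ⊤) : M ≤ Subgroup.normalizer ((P : Subgroup G) : Set G) := by
  have hPM : (P : Subgroup G) ≤ M := h.P_le_N.trans hNM
  rcases h.ih M hne with ⟨T, hTM, hMT, hTp, hT⟩ | ⟨R, hRM, hMR, hRp, hR⟩
  · exfalso
    obtain ⟨b₀, hb₀, x₀, hx₀, hbx⟩ := h.exists_b0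
    apply hbx
    have hbT : b₀ ∈ T := hT b₀ (hNM (h.hBN hb₀)) (h.B_coprime hb₀)
    have h1 : x₀ * b₀ * x₀⁻¹ ∈ T := (Subgroup.mem_normalizer_iff.1 (hMT (hPM hx₀)) b₀).1 hbT
    have h2 : x₀ * b₀ * x₀⁻¹ * b₀⁻¹ ∈ T := T.mul_mem h1 (T.inv_mem hbT)
    have h3 : b₀ * x₀⁻¹ * b₀⁻¹ ∈ (P : Subgroup G) :=
      (Subgroup.mem_normalizer_iff.1 (h.hBN hb₀) _).1 ((P : Subgroup G).inv_mem hx₀)
    have h4 : x₀ * b₀ * x₀⁻¹ * b₀⁻¹ ∈ (P : Subgroup G) := by
      have : x₀ * b₀ * x₀⁻¹ * b₀⁻¹ = x₀ * (b₀ * x₀⁻¹ * b₀⁻¹) := by group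
      rw [this]; exact (P : Subgroup G).mul_mem hx₀ h3
    have h5 : x₀ * b₀ * x₀⁻¹ * b₀⁻¹ ∈ (P : Subgroup G) ⊓ T := ⟨h4, h2⟩
    rw [inf_eq_bot_of_pgroup P.2 hTp, Subgroup.mem_bot] at h5
    calc b₀ * x₀ * b₀⁻¹ = (x₀ * b₀ * x₀⁻¹ * b₀⁻¹)⁻¹ * x₀ := by group
      _ = x₀ := by rw [h5]; group
  · have hPR : (P : Subgroup G) ≤ R := fun x hx => hR x (hPM hx) (ppow_of_mem P.2 hx)
    have hRP := eq_sylow_of_le P hRp hPR
    rw [← hRP]; exact hMR

/-- `N_G(P)` is a proper subgroup. -/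
theorem N_ne_top : Subgroup.normalizer ((P : Subgroup G) : Set G) ≠ ⊤ := by
  intro htop
  apply h.hPn
  exact Subgroup.normalizer_eq_top_iff.1 htop

/-- `N_G(P)` is self-normalising. -/
theorem N_self_norm {g : G}
    (hg : g ∈ Subgroup.normalizer ((Subgroup.normalizer ((P : Subgroup G) : Set G) : Subgroup G) :
      Set G)) : g ∈ Subgroup.normalizer ((P : Subgroup G) : Set G) := by
  set N := Subgroup.normalizer ((P : Subgroup G) : Set G) with hN
  have h1 : N ≤ Subgroup.normalizer (N : Set G) := Subgroup.le_normalizer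
  have h2 : Subgroup.normalizer (N : Set G) ≠ ⊤ := by
    intro htop
    have hNn : N.Normal := Subgroup.normalizer_eq_top_iff.1 htop
    exact h.no_normal_ge N hNn h.N_ne_top h.P_le_N
  exact h.N_max _ h1 h2 hg

end MC

end Cfsg.Agent.Lead.CycSyl
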