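import Mathlib
import Cfsg.Agent.Lead.CycSylC

/-!
S4016: `N_G(Ω₁(P)) = N_G(P)`, `P` is a TI-subgroup, centralisers of `p`-elements.
-/

set_option autoImplicit false
set_option linter.unusedSectionVars false

namespace Cfsg.Agent.Lead.CycSyl

open Classical

variable {G : Type*} [Group G] [Finite G] {p : ℕ} [hp : Fact p.Prime]

/-- in a group, a non-identity element of a subgroup `⟨z⟩` of prime order generates it. -/
theorem gen_of_ne_one {z w : G} (hz : orderOf z = p) (hw : w ∈ Subgroup.zpowers z) (hw1 : w ≠ 1) :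
    z ∈ Subgroup.zpowers w := by
  obtain ⟨i, rfl⟩ := Subgroup.mem_zpowers_iff.1 hw
  have hpi : ¬ (p : ℤ) ∣ i := by
    intro hd
    apply hw1
    have hd' : (orderOf z : ℤ) ∣ i := by rw [hz]; exact hd
    exact (orderOf_dvd_iff_zpow_eq_one).1 hd'
  have hcop : IsCoprime (p : ℤ) i :=
    ((Nat.prime_iff_prime_int.1 hp.out).coprime_iff_not_dvd).2 hpi
  obtain ⟨a, b, hab⟩ := hcop
  rw [Subgroup.mem_zpowers_iff]
  refine ⟨b, ?_⟩
  have hzp : z ^ p = 1 := by
    have := pow_orderOf_eq_one z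
    rwa [hz] at this
  have h1 : z ^ (a * (p : ℤ)) = 1 := by
    rw [mul_comm, zpow_mul, zpow_natCast, hzp, one_zpow]
  calc (z ^ i) ^ b = z ^ (b * i) := by rw [← zpow_mul, mul_comm]
    _ = z ^ (a * (p : ℤ)) * z ^ (b * i) := by rw [h1, one_mul]
    _ = z ^ (a * (p : ℤ) + b * i) := by rw [zpow_add]
    _ = z := by rw [hab, zpow_one]

namespace MC

variable {P : Sylow p G} {B : Subgroup G} (h : MC P B)
include h

theorem card_P_pos : ∃ a : ℕ, a ≠ 0 ∧ Nat.card (P : Subgroup G) = p ^ a := by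
  obtain ⟨a, ha⟩ := IsPGroup.iff_card.1 P.2
  refine ⟨a, ?_, ha⟩
  rintro rfl
  rw [pow_zero] at ha
  apply h.P_ne_bot
  exact (Subgroup.card_eq_one).1 ha

theorem exists_z0 : ∃ z₀ ∈ (P : Subgroup G), orderOf z₀ = p := by
  obtain ⟨a, ha0, ha⟩ := h.card_P_pos
  have hdvd : p ∣ Nat.card (P : Subgroup G) := by rw [ha]; exact dvd_pow_self p ha0
  obtain ⟨z, hz⟩ := exists_prime_orderOf_dvd_card' p hdvd
  exact ⟨z.1, z.2, (Subgroup.orderOf_coe z).trans hz⟩

variable {z₀ : G} (hz₀P : z₀ ∈ (P : Subgroup G)) (hz₀ : orderOf z₀ = p)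
include hz₀P hz₀

/-- `⟨z₀⟩ = Ω₁(P)`. -/
theorem mem_Z {w : G} (hw : w ∈ (P : Subgroup G)) (hwp : w ^ p = 1) :
    w ∈ Subgroup.zpowers z₀ := by
  have := h.hcyc
  have : Fintype (P : Subgroup G) := Fintype.ofFinite _
  let z' : (P : Subgroup G) := ⟨z₀, hz₀P⟩
  have hz' : orderOf z' = p := (Subgroup.orderOf_mk _ _).trans hz₀
  have hz'p : z' ^ p = 1 := by
    have := pow_orderOf_eq_one z'
    rwa [hz'] at this
  set T : Finset (P : Subgroup G) := Finset.univ.filter (fun a => a ^ p = 1) with hT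
  set Z' : Finset (P : Subgroup G) := Finset.univ.filter (fun a => a ∈ Subgroup.zpowers z') with hZ'
  have hTle : T.card ≤ p := IsCyclic.card_pow_eq_one_le hp.out.pos
  have hsub : Z' ⊆ T := by
    intro a ha
    simp only [hZ', hT, Finset.mem_filter, Finset.mem_univ, true_and] at ha ⊢
    obtain ⟨i, rfl⟩ := Subgroup.mem_zpowers_iff.1 ha
    rw [← zpow_natCast, ← zpow_mul, mul_comm, zpow_mul, zpow_natCast, hz'p, one_zpow]
  have hZcard : Z'.card = p := by
    have h1 : Z'.card = Nat.card (Subgroup.zpowers z') := by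
      rw [Nat.card_eq_fintype_card, Fintype.card_subtype]
    rw [h1, Nat.card_zpowers, hz']
  have heq : Z' = T := Finset.eq_of_subset_of_card_le hsub (by rw [hZcard]; exact hTle)
  have hwT : (⟨w, hw⟩ : (P : Subgroup G)) ∈ T := by
    simp only [hT, Finset.mem_filter, Finset.mem_univ, true_and]
    exact Subtype.ext hwp
  rw [← heq] at hwT
  simp only [hZ', Finset.mem_filter, Finset.mem_univ, true_and] at hwT
  obtain ⟨i, hi⟩ := Subgroup.mem_zpowers_iff.1 hwT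
  rw [Subgroup.mem_zpowers_iff]
  refine ⟨i, ?_⟩
  have := congrArg Subtype.val hi
  simpa [z'] using this

/-- an element conjugating `z₀` into `P` normalises `⟨z₀⟩`. -/
theorem mem_normZ_of_conj {g : G} (hg : g * z₀ * g⁻¹ ∈ (P : Subgroup G)) :
    g ∈ Subgroup.normalizer ((Subgroup.zpowers z₀ : Subgroup G) : Set G) := by
  apply Cfsg.Agent.Lead.S3F.mem_normalizer_of_conj_mem
  intro x hx
  obtain ⟨i, rfl⟩ := Subgroup.mem_zpowers_iff.1 hx
  rw [conj_zpow']
  apply Subgroup.zpow_mem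
  apply h.mem_Z hz₀P hz₀ hg
  have hzp : z₀ ^ p = 1 := by
    have := pow_orderOf_eq_one z₀
    rwa [hz₀] at this
  rw [← conj_pow', hzp]; group

theorem N_le_normZ : Subgroup.normalizer ((P : Subgroup G) : Set G) ≤
    Subgroup.normalizer ((Subgroup.zpowers z₀ : Subgroup G) : Set G) := by
  intro g hg
  apply h.mem_normZ_of_conj hz₀P hz₀
  exact (Subgroup.mem_normalizer_iff.1 hg z₀).1 hz₀P

theorem z0_ne_one : z₀ ≠ 1 := by
  intro h1
  rw [h1, orderOf_one] at hz₀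
  exact hp.out.one_lt.ne hz₀

theorem normZ_le_N : Subgroup.normalizer ((Subgroup.zpowers z₀ : Subgroup G) : Set G) ≤
    Subgroup.normalizer ((P : Subgroup G) : Set G) := by
  apply h.N_max _ (h.N_le_normZ hz₀P hz₀)
  intro htop
  have hn : (Subgroup.zpowers z₀).Normal := Subgroup.normalizer_eq_top_iff.1 htop
  have hpg : IsPGroup p (Subgroup.zpowers z₀) := by
    apply IsPGroup.of_card (n := 1)
    rw [Nat.card_zpowers, hz₀, pow_one]
  have := h.Op_trivial _ hn hpg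
  apply h.z0_ne_one hz₀P hz₀
  have h1 : z₀ ∈ Subgroup.zpowers z₀ := Subgroup.mem_zpowers z₀
  rwa [this, Subgroup.mem_bot] at h1

/-- **`P` is a TI-subgroup with normaliser `N`.** -/
theorem TI {g : G} (hg : ∃ u ∈ (P : Subgroup G), u ≠ 1 ∧ g * u * g⁻¹ ∈ (P : Subgroup G)) :
    g ∈ Subgroup.normalizer ((P : Subgroup G) : Set G) := by
  obtain ⟨u, hu, hu1, hgu⟩ := hg
  apply h.normZ_le_N hz₀P hz₀
  -- an element of order `p` in `⟨u⟩`
  obtain ⟨c, hc⟩ := (IsPGroup.iff_orderOf.1 P.2) ⟨u, hu⟩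
  rw [Subgroup.orderOf_mk] at hc
  have hc0 : c ≠ 0 := by
    rintro rfl
    rw [pow_zero, orderOf_eq_one_iff] at hc
    exact hu1 hc
  obtain ⟨c', rfl⟩ := Nat.exists_eq_succ_of_ne_zero hc0
  set w := u ^ p ^ c' with hw
  have hwp : w ^ p = 1 := by
    have := pow_orderOf_eq_one u
    rw [hc, pow_succ, pow_mul] at this
    exact this
  have hw1 : w ≠ 1 := by
    intro h1
    have h2 : orderOf u ∣ p ^ c' := orderOf_dvd_of_pow_eq_one h1
    rw [hc] at h2
    have h3 : p ^ (c' + 1) ≤ p ^ c' := Nat.le_of_dvd (pow_pos hp.out.pos _) h2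
    have h4 : p ^ c' < p ^ (c' + 1) := Nat.pow_lt_pow_right hp.out.one_lt (Nat.lt_succ_self _)
    omega
  have hwP : w ∈ (P : Subgroup G) := (P : Subgroup G).pow_mem hu _
  have hwZ : w ∈ Subgroup.zpowers z₀ := h.mem_Z hz₀P hz₀ hwP hwp
  have hgw : g * w * g⁻¹ ∈ (P : Subgroup G) := by
    rw [hw, conj_pow']; exact (P : Subgroup G).pow_mem hgu _
  have hgwZ : g * w * g⁻¹ ∈ Subgroup.zpowers z₀ := by
    apply h.mem_Z hz₀P hz₀ hgw
    rw [← conj_pow', hwp]; group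
  obtain ⟨i, hi⟩ := Subgroup.mem_zpowers_iff.1 (gen_of_ne_one hz₀ hwZ hw1)
  apply h.mem_normZ_of_conj hz₀P hz₀
  rw [← hi, conj_zpow']
  exact (P : Subgroup G).zpow_mem hgw _

/-- centralisers of non-trivial elements of `P`. -/
theorem cent_struct {u c : G} (hu : u ∈ (P : Subgroup G)) (hu1 : u ≠ 1) (hcu : c * u = u * c) :
    ∃ x ∈ (P : Subgroup G), ∃ k ∈ B, (∀ y ∈ (P : Subgroup G), k * y * k⁻¹ = y) ∧ c = x * k := by
  have hcN : c ∈ Subgroup.normalizer ((P : Subgroup G) : Set G) := by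
    apply h.TI hz₀P hz₀
    refine ⟨u, hu, hu1, ?_⟩
    rw [hcu]; simpa using hu
  obtain ⟨x, hx, b, hb, rfl⟩ := h.mem_N hcN
  refine ⟨x, hx, b, hb, ?_, rfl⟩
  have hxu := h.P_comm hx hu
  have hbu : b * u * b⁻¹ = u := by
    calc b * u * b⁻¹ = x⁻¹ * (x * b * u) * b⁻¹ := by group
      _ = x⁻¹ * (u * (x * b)) * b⁻¹ := by rw [hcu]
      _ = x⁻¹ * (u * x) * b * b⁻¹ := by group
      _ = x⁻¹ * (x * u) * b * b⁻¹ := by rw [hxu]
      _ = u := by group
  exact h.cent_of_fix (h.hBN hb) (h.B_coprime hb) hu hu1 hbu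

end MC

end Cfsg.Agent.Lead.CycSyl
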