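import Mathlib
import Cfsg.Agent.Lead.CycSylD
import Cfsg.Agent.Helper1.Transfer1

/-!
S4016: for every Sylow `q`-subgroup `Q`, `q ≠ p`, some `p`-element normalises `Q` without
centralising it.
-/

set_option autoImplicit false
set_option linter.unusedSectionVars false

namespace Cfsg.Agent.Lead.CycSyl

open Classical

variable {G : Type*} [Group G] [Finite G] {p : ℕ} [hp : Fact p.Prime]

theorem not_dvd_card_sylow {q : ℕ} [hq : Fact q.Prime] (hqp : q ≠ p) (Q : Sylow q G) :
    ¬ p ∣ Nat.card (Q : Subgroup G) := by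
  obtain ⟨b, hb⟩ := IsPGroup.iff_card.1 Q.2
  rw [hb]
  intro hd
  have := (Nat.prime_dvd_prime_iff_eq hp.out hq.out).1 (hp.out.dvd_of_dvd_pow hd)
  exact hqp this.symm

namespace MC

variable {P : Sylow p G} {B : Subgroup G} (h : MC P B)
include h

/-- a subgroup of order prime to `p` normalising a subgroup of order prime to `p` centralises it. -/
theorem comm_of_coprime_normalizes {K0 X : Subgroup G}
    (hA : X ≤ Subgroup.normalizer (K0 : Set G)) (hK0p : ¬ p ∣ Nat.card K0)
    (hX : ¬ p ∣ Nat.card X) {x k : G} (hx : x ∈ X) (hk : k ∈ K0) : x * k = k * x := by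
  have hcard := Cfsg.Agent.Helper1.card_sup_mul_card_inf hA
  have h1 : ¬ p ∣ Nat.card (K0 ⊔ X : Subgroup G) := by
    intro h2
    have h3 : p ∣ Nat.card K0 * Nat.card X := by
      rw [← hcard]; exact dvd_mul_of_dvd_left h2 _
    rcases (Nat.Prime.dvd_mul hp.out).1 h3 with h4 | h4
    · exact hK0p h4
    · exact hX h4
  have hc := h.hab _ h1
  have hxm : x ∈ K0 ⊔ X := Subgroup.mem_sup_right hx
  have hkm : k ∈ K0 ⊔ X := Subgroup.mem_sup_left hk
  have := hc.is_comm.comm (⟨x, hxm⟩ : (K0 ⊔ X : Subgroup G)) ⟨k, hkm⟩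
  exact congrArg Subtype.val this

/-- a `p'`-element normalising a `p'`-subgroup centralises it. -/
theorem comm_of_coprime_elt {K0 : Subgroup G} {z : G}
    (hz : z ∈ Subgroup.normalizer (K0 : Set G)) (hK0p : ¬ p ∣ Nat.card K0)
    (hzp : (orderOf z).Coprime p) {k : G} (hk : k ∈ K0) : z * k = k * z := by
  have hA : Subgroup.zpowers z ≤ Subgroup.normalizer (K0 : Set G) := by
    rw [Subgroup.zpowers_le]; exact hz
  have hX : ¬ p ∣ Nat.card (Subgroup.zpowers z) := by
    rw [Nat.card_zpowers]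
    exact (Nat.Prime.coprime_iff_not_dvd hp.out).1 hzp.symm
  exact h.comm_of_coprime_normalizes hA hK0p hX (Subgroup.mem_zpowers z) hk

variable {q : ℕ} [hq : Fact q.Prime] (hqp : q ≠ p) (Q : Sylow q G) (hQ : (Q : Subgroup G) ≠ ⊥)
include hqp hQ

theorem Q_comm {x y : G} (hx : x ∈ (Q : Subgroup G)) (hy : y ∈ (Q : Subgroup G)) :
    x * y = y * x := by
  have := (h.hab Q (not_dvd_card_sylow hqp Q)).is_comm.comm (⟨x, hx⟩ : (Q : Subgroup G)) ⟨y, hy⟩
  exact congrArg Subtype.val this

theorem normQ_ne_top : Subgroup.normalizer ((Q : Subgroup G) : Set G) ≠ ⊤ := by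
  intro htop
  have hn : (Q : Subgroup G).Normal := Subgroup.normalizer_eq_top_iff.1 htop
  exact hQ (h.Opp_trivial _ hn (not_dvd_card_sylow hqp Q))

theorem no_q_complement : ¬ Cfsg.HasNormalPComplement q G := by
  intro hc
  obtain ⟨G1, hG1n, hG1⟩ := (Cfsg.Agent.Helper1.hasNormalPComplement_iff Q).1 hc
  have hidx : G1.index = Nat.card (Q : Subgroup G) := hG1.symm.index_eq_card
  have hne : G1 ≠ ⊤ := by
    intro htop
    rw [htop, Subgroup.index_top] at hidx
    exact hQ (Subgroup.card_eq_one.1 hidx.symm)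
  apply h.no_normal_ge G1 hG1n hne
  intro x hx
  rw [Cfsg.Agent.Helper1.mem_normal_complement_sylow_iff Q G1 hG1]
  obtain ⟨j, hj⟩ := (IsPGroup.iff_orderOf.1 P.2) ⟨x, hx⟩
  rw [Subgroup.orderOf_mk] at hj
  rw [hj]
  apply Nat.Coprime.pow_left
  exact (Nat.coprime_primes hp.out hq.out).2 (fun h1 => hqp h1.symm)

theorem normQ_not_le_cent : ¬ Subgroup.normalizer ((Q : Subgroup G) : Set G) ≤
    Subgroup.centralizer ((Q : Subgroup G) : Set G) := fun hle =>
  h.no_q_complement hqp Q hQ
    (Cfsg.Agent.Helper1.hasNormalPComplement_of_normalizer_le_centralizer Q hle)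

/-- **F5**: a `p`-element normalising but not centralising `Q`. -/
theorem exists_v : ∃ v : G, v ∈ Subgroup.normalizer ((Q : Subgroup G) : Set G) ∧
    (∃ j : ℕ, v ^ p ^ j = 1) ∧ v ∉ Subgroup.centralizer ((Q : Subgroup G) : Set G) := by
  have hQp := not_dvd_card_sylow (p := p) hqp Q
  set L := Subgroup.normalizer ((Q : Subgroup G) : Set G) with hL
  have hQL : (Q : Subgroup G) ≤ L := Subgroup.le_normalizer
  rcases h.ih L (h.normQ_ne_top hqp Q hQ) with ⟨T, hTL, hLT, hTp, hT⟩ | ⟨R, hRL, hLR, hRp, hR⟩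
  · by_contra hall
    push Not at hall
    apply h.normQ_not_le_cent hqp Q hQ
    intro x hx
    have hzx : Subgroup.zpowers x ≤ L := Subgroup.zpowers_le.2 hx
    apply mem_of_parts x p
    · intro y hy hyp
      exact hall y (hzx hy) hyp
    · intro z hz hzp
      have hzT : z ∈ T := hT z (hzx hz) hzp
      rw [Subgroup.mem_centralizer_iff]
      intro s hs
      have hsT : s ∈ T := hT s (hQL hs) (coprime_orderOf_of_mem hQp hs)
      have := (h.hab T hTp).is_comm.comm (⟨s, hsT⟩ : T) ⟨z, hzT⟩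
      exact congrArg Subtype.val this
  · exfalso
    apply h.normQ_not_le_cent hqp Q hQ
    intro x hx
    have hzx : Subgroup.zpowers x ≤ L := Subgroup.zpowers_le.2 hx
    apply mem_of_parts x p
    · intro y hy hyp
      have hyR : y ∈ R := hR y (hzx hy) hyp
      have hyL : y ∈ L := hzx hy
      rw [Subgroup.mem_centralizer_iff]
      intro s hs
      have h1 : y * s * y⁻¹ ∈ (Q : Subgroup G) := (Subgroup.mem_normalizer_iff.1 hyL s).1 hs
      have h2 : s * y⁻¹ * s⁻¹ ∈ R :=
        (Subgroup.mem_normalizer_iff.1 (hLR (hQL hs)) _).1 (R.inv_mem hyR)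
      have h3 : y * s * y⁻¹ * s⁻¹ ∈ R ⊓ (Q : Subgroup G) := by
        constructor
        · have : y * s * y⁻¹ * s⁻¹ = y * (s * y⁻¹ * s⁻¹) := by group
          rw [this]; exact R.mul_mem hyR h2
        · exact (Q : Subgroup G).mul_mem h1 ((Q : Subgroup G).inv_mem hs)
      rw [inf_eq_bot_of_pgroup hRp hQp, Subgroup.mem_bot] at h3
      calc s * y = (y * s * y⁻¹ * s⁻¹)⁻¹ * y * s := by group
        _ = y * s := by rw [h3]; group
    · intro z hz hzp
      rw [Subgroup.mem_centralizer_iff]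
      intro s hs
      exact (h.comm_of_coprime_elt (hzx hz) hQp hzp hs).symm

end MC

end Cfsg.Agent.Lead.CycSyl
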