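import Mathlib
import Cfsg.Agent.Helper1.Card

/-!
S4016, residual case `p = 3`: structure of `N = N_G(P) = P ⋊ Q`, `Q` a four-group.
-/

set_option autoImplicit false
set_option linter.unusedSectionVars false

namespace Cfsg.Agent.Lead.ResK4

open Classical

variable {G : Type*} [Group G] [Finite G]

/-- the hypotheses of the residual configuration. -/
structure Res (P : Sylow 3 G) (Q : Sylow 2 G) (k : G) : Prop where
  hP1 : (P : Subgroup G) ≠ ⊥
  hab : ∀ H : Subgroup G, ¬ 3 ∣ Nat.card H → IsMulCommutative H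
  hTI : ∀ g : G, (∃ u ∈ (P : Subgroup G), u ≠ 1 ∧ g * u * g⁻¹ ∈ (P : Subgroup G)) →
    g ∈ Subgroup.normalizer ((P : Subgroup G) : Set G)
  hk : orderOf k = 2
  hCk : Subgroup.centralizer {k} = Subgroup.normalizer ((P : Subgroup G) : Set G)
  hQ4 : Nat.card Q = 4
  hkQ : k ∈ (Q : Subgroup G)
  hQN : (Q : Subgroup G) ≤ Subgroup.normalizer ((P : Subgroup G) : Set G)
  hNcard : Nat.card (Subgroup.normalizer ((P : Subgroup G) : Set G)) = 4 * Nat.card P
  hinv : ∀ s ∈ (Q : Subgroup G), s ≠ 1 → s ≠ k → ∀ x ∈ (P : Subgroup G), s * x * s⁻¹ = x⁻¹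
  hconj : ∀ s ∈ (Q : Subgroup G), s ≠ 1 → ∃ g : G, g * k * g⁻¹ = s

namespace Res

variable {P : Sylow 3 G} {Q : Sylow 2 G} {k : G} (h : Res P Q k)
include h

theorem kk : k * k = 1 := by
  have := pow_orderOf_eq_one k
  rwa [h.hk, pow_two] at this

theorem k_ne_one : k ≠ 1 := by
  intro hk1
  have := h.hk
  rw [hk1, orderOf_one] at this
  omega

theorem k_inv : k⁻¹ = k := inv_eq_of_mul_eq_one_left h.kk

/-- elements of `P` of order dividing `2` are trivial. -/
theorem P_sq {x : G} (hx : x ∈ (P : Subgroup G)) (hxx : x * x = 1) : x = 1 := by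
  obtain ⟨n, hn⟩ := (IsPGroup.iff_orderOf.1 P.isPGroup') ⟨x, hx⟩
  have h1 : orderOf x = 3 ^ n := by
    rw [← hn]; exact (Subgroup.orderOf_mk x hx).symm
  have h2 : orderOf x ∣ 2 := by
    apply orderOf_dvd_of_pow_eq_one
    rw [pow_two, hxx]
  rw [h1] at h2
  have h3 : n = 0 := by
    by_contra hn0
    have : 3 ∣ 2 := dvd_trans (dvd_pow_self 3 hn0) h2
    omega
  rw [h3, pow_zero] at h1
  exact orderOf_eq_one_iff.1 h1

/-- all elements of `Q` are involutions or trivial. -/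
theorem Q_sq {q : G} (hq : q ∈ (Q : Subgroup G)) : q * q = 1 := by
  by_cases hq1 : q = 1
  · rw [hq1, one_mul]
  · obtain ⟨g, rfl⟩ := h.hconj q hq hq1
    calc g * k * g⁻¹ * (g * k * g⁻¹) = g * (k * k) * g⁻¹ := by group
      _ = 1 := by rw [h.kk]; group

theorem Q_inv {q : G} (hq : q ∈ (Q : Subgroup G)) : q⁻¹ = q :=
  inv_eq_of_mul_eq_one_left (h.Q_sq hq)

theorem Q_comm {q r : G} (hq : q ∈ (Q : Subgroup G)) (hr : r ∈ (Q : Subgroup G)) :
    q * r = r * q := by
  have h1 := h.Q_sq ((Q : Subgroup G).mul_mem hq hr)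
  calc q * r = (q * r)⁻¹ := (inv_eq_of_mul_eq_one_left h1).symm
    _ = r⁻¹ * q⁻¹ := by group
    _ = r * q := by rw [h.Q_inv hq, h.Q_inv hr]

theorem PQ_disj : (Q : Subgroup G) ⊓ (P : Subgroup G) = ⊥ := by
  rw [Subgroup.eq_bot_iff_forall]
  rintro x ⟨hxQ, hxP⟩
  exact h.P_sq hxP (h.Q_sq hxQ)

theorem k_not_mem_P : k ∉ (P : Subgroup G) := fun hkP => h.k_ne_one (h.P_sq hkP h.kk)

theorem P_le_N : (P : Subgroup G) ≤ Subgroup.normalizer ((P : Subgroup G) : Set G) :=
  Subgroup.le_normalizer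

/-- `k` centralises `P`. -/
theorem k_comm {x : G} (hx : x ∈ (P : Subgroup G)) : x * k = k * x := by
  have h1 : x ∈ Subgroup.centralizer ({k} : Set G) := by
    rw [h.hCk]; exact h.P_le_N hx
  rw [Subgroup.mem_centralizer_iff] at h1
  exact (h1 k rfl).symm

/-- `N = P Q`. -/
theorem N_eq : (P : Subgroup G) ⊔ (Q : Subgroup G) =
    Subgroup.normalizer ((P : Subgroup G) : Set G) := by
  have hle : (P : Subgroup G) ⊔ (Q : Subgroup G) ≤
      Subgroup.normalizer ((P : Subgroup G) : Set G) := sup_le h.P_le_N h.hQN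
  have hc : Nat.card ((P : Subgroup G) ⊔ (Q : Subgroup G) : Subgroup G) =
      Nat.card (Subgroup.normalizer ((P : Subgroup G) : Set G)) := by
    rw [Cfsg.Agent.Helper1.card_sup_of_le_normalizer h.hQN h.PQ_disj, h.hNcard]
    have : Nat.card (Q : Subgroup G) = 4 := h.hQ4
    rw [this]
  exact Subgroup.eq_of_le_of_card_ge hle (le_of_eq hc.symm)

theorem mem_N {g : G} (hg : g ∈ Subgroup.normalizer ((P : Subgroup G) : Set G)) :
    ∃ x ∈ (P : Subgroup G), ∃ q ∈ (Q : Subgroup G), g = x * q := by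
  rw [← h.N_eq] at hg
  exact Cfsg.Agent.Helper1.mem_sup_of_le_normalizer h.hQN hg

/-- there is an element of `Q` other than `1, k`. -/
theorem exists_s : ∃ s ∈ (Q : Subgroup G), s ≠ 1 ∧ s ≠ k := by
  by_contra hcon
  push Not at hcon
  have hsub : ((Q : Subgroup G) : Set G) ⊆ ({1, k} : Set G) := by
    intro s hs
    by_cases hs1 : s = 1
    · left; exact hs1
    · right; exact hcon s hs hs1
  have hfin : ({1, k} : Set G).Finite := Set.toFinite _
  have h1 : Nat.card (Q : Subgroup G) ≤ Nat.card ({1, k} : Set G) :=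
    Nat.card_mono hfin hsub
  have h2 : Nat.card ({1, k} : Set G) ≤ 2 := by
    rw [Nat.card_coe_set_eq]
    exact (Set.ncard_insert_le _ _).trans (by rw [Set.ncard_singleton])
  have h3 : Nat.card (Q : Subgroup G) = 4 := h.hQ4
  omega

/-- `P` is abelian. -/
theorem P_comm {x y : G} (hx : x ∈ (P : Subgroup G)) (hy : y ∈ (P : Subgroup G)) :
    x * y = y * x := by
  obtain ⟨s, hs, hs1, hsk⟩ := h.exists_s
  have h1 := h.hinv s hs hs1 hsk (x * y) ((P : Subgroup G).mul_mem hx hy)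
  have h2 := h.hinv s hs hs1 hsk x hx
  have h3 := h.hinv s hs hs1 hsk y hy
  have h4 : s * (x * y) * s⁻¹ = (s * x * s⁻¹) * (s * y * s⁻¹) := by group
  rw [h4, h2, h3] at h1
  have h5 : (x⁻¹ * y⁻¹)⁻¹ = ((x * y)⁻¹)⁻¹ := by rw [h1]
  rw [inv_inv] at h5
  rw [← h5]; group

/-- the elements `x q` with `q ∈ Q ∖ {1, k}` invert `P`. -/
theorem inverts {x q : G} (hx : x ∈ (P : Subgroup G)) (hq : q ∈ (Q : Subgroup G)) (hq1 : q ≠ 1)
    (hqk : q ≠ k) {u : G} (hu : u ∈ (P : Subgroup G)) : (x * q) * u * (x * q)⁻¹ = u⁻¹ := by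
  have h1 := h.hinv q hq hq1 hqk u hu
  calc (x * q) * u * (x * q)⁻¹ = x * (q * u * q⁻¹) * x⁻¹ := by group
    _ = x * u⁻¹ * x⁻¹ := by rw [h1]
    _ = u⁻¹ * x * x⁻¹ := by rw [h.P_comm hx ((P : Subgroup G).inv_mem hu)]
    _ = u⁻¹ := by group

/-- the involutions of `N`. -/
theorem inv_N {z : G} (hz : z ∈ Subgroup.normalizer ((P : Subgroup G) : Set G)) (hzz : z * z = 1) :
    z = 1 ∨ z = k ∨ ∃ x ∈ (P : Subgroup G), ∃ q ∈ (Q : Subgroup G), q ≠ 1 ∧ q ≠ k ∧ z = x * q := by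
  obtain ⟨x, hx, q, hq, rfl⟩ := h.mem_N hz
  by_cases hq1 : q = 1
  · subst hq1
    left
    rw [mul_one] at hzz ⊢
    exact h.P_sq hx hzz
  by_cases hqk : q = k
  · subst hqk
    right; left
    have h1 : x * q * (x * q) = x * x := by
      calc x * q * (x * q) = x * (q * x) * q := by group
        _ = x * (x * q) * q := by rw [h.k_comm hx]
        _ = x * x * (q * q) := by group
        _ = x * x := by rw [h.kk, mul_one]
    rw [h1] at hzz
    rw [h.P_sq hx hzz, one_mul]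
  · right; right
    exact ⟨x, hx, q, hq, hq1, hqk, rfl⟩

/-- an involution commuting with a non-trivial element of `P` is `k`. -/
theorem eq_k_of_comm {u z : G} (hu : u ∈ (P : Subgroup G)) (hu1 : u ≠ 1) (hzz : z * z = 1)
    (hz1 : z ≠ 1) (hzu : z * u = u * z) : z = k := by
  have hzN : z ∈ Subgroup.normalizer ((P : Subgroup G) : Set G) := by
    apply h.hTI
    refine ⟨u, hu, hu1, ?_⟩
    rw [hzu]
    simpa using hu
  rcases h.inv_N hzN hzz with h1 | h1 | ⟨x, hx, q, hq, hq1, hqk, rfl⟩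
  · exact absurd h1 hz1
  · exact h1
  · exfalso
    have h2 := h.inverts hx hq hq1 hqk hu
    have h3 : (x * q) * u * (x * q)⁻¹ = u := by
      rw [hzu]; group
    rw [h3] at h2
    apply hu1
    apply h.P_sq hu
    calc u * u = u * u⁻¹ := by rw [← h2]
      _ = 1 := mul_inv_cancel u

/-- an element inverting a non-trivial element of `P` lies in `N`, so commutes with `k`. -/
theorem comm_k_of_inverts {u a : G} (hu : u ∈ (P : Subgroup G)) (hu1 : u ≠ 1)
    (hau : a * u * a⁻¹ = u⁻¹) : a * k = k * a := by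
  have haN : a ∈ Subgroup.normalizer ((P : Subgroup G) : Set G) := by
    apply h.hTI
    refine ⟨u, hu, hu1, ?_⟩
    rw [hau]
    exact (P : Subgroup G).inv_mem hu
  rw [← h.hCk, Subgroup.mem_centralizer_iff] at haN
  exact (haN k rfl).symm

/-- a non-trivial element of `P` is not its own inverse. -/
theorem ne_inv {u : G} (hu : u ∈ (P : Subgroup G)) (hu1 : u ≠ 1) : u ≠ u⁻¹ := by
  intro h1
  apply hu1
  apply h.P_sq hu
  calc u * u = u * u⁻¹ := by rw [← h1]
    _ = 1 := mul_inv_cancel u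

end Res

end Cfsg.Agent.Lead.ResK4
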