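import Mathlib
import Cfsg.Agent.Lead.ResK4A
import Cfsg.Agent.Lead.S3fGp

/-!
S4016, residual case `p = 3`: conjugacy, the dihedral `3'`-subgroups, common neighbours.
-/

set_option autoImplicit false
set_option linter.unusedSectionVars false

namespace Cfsg.Agent.Lead.ResK4

open Classical

variable {G : Type*} [Group G] [Finite G]

/-- an element of `p`-power order is conjugate into a given Sylow `p`-subgroup. -/
theorem exists_conj_mem_sylow {p : ℕ} [Fact p.Prime] (S : Sylow p G) (x : G) (e : ℕ)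
    (hx : x ^ (p ^ e) = 1) : ∃ g : G, g⁻¹ * x * g ∈ (S : Subgroup G) := by
  have hpg : IsPGroup p (Subgroup.zpowers x) := by
    rw [IsPGroup.iff_orderOf]
    rintro ⟨y, hy⟩
    obtain ⟨i, rfl⟩ := Subgroup.mem_zpowers_iff.1 hy
    have h1 : (x ^ i) ^ (p ^ e) = 1 := by
      rw [← zpow_natCast, ← zpow_mul, mul_comm, zpow_mul, zpow_natCast, hx, one_zpow]
    have h2 : orderOf (x ^ i) ∣ p ^ e := orderOf_dvd_of_pow_eq_one h1
    obtain ⟨j, _, hj⟩ := (Nat.dvd_prime_pow (Fact.out : p.Prime)).1 h2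
    refine ⟨j, ?_⟩
    rw [← hj]
    exact Subgroup.orderOf_mk _ hy
  obtain ⟨S', hS'⟩ := hpg.exists_le_sylow
  obtain ⟨g, hg⟩ := MulAction.exists_smul_eq G S S'
  have h1 : x ∈ (S' : Subgroup G) := hS' (Subgroup.mem_zpowers x)
  rw [← hg, Sylow.smul_def, Sylow.pointwise_smul_def,
    Subgroup.mem_pointwise_smul_iff_inv_smul_mem] at h1
  refine ⟨g, ?_⟩
  have h2 : (MulAut.conj g)⁻¹ • x = g⁻¹ * x * g := by
    rw [← map_inv, MulAut.smul_def, MulAut.conj_apply, inv_inv]
  rwa [h2] at h1

theorem orderOf_conj' (g x : G) : orderOf (g * x * g⁻¹) = orderOf x := by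
  have : g * x * g⁻¹ = MulAut.conj g x := by simp
  rw [this, MulEquiv.orderOf_eq]

/-- an involution inverting an element `y` of order prime to `3` centralises it, when all
`3'`-subgroups are abelian; so `y² = 1`. -/
theorem sq_of_inverted (hab : ∀ H : Subgroup G, ¬ 3 ∣ Nat.card H → IsMulCommutative H)
    {a y : G} (ha : a * a = 1) (hy : ¬ 3 ∣ orderOf y) (hay : a * y * a⁻¹ = y⁻¹) : y * y = 1 := by
  have hanorm : a ∈ Subgroup.normalizer ((Subgroup.zpowers y : Subgroup G) : Set G) := by
    apply Cfsg.Agent.Lead.S3F.mem_normalizer_of_conj_mem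
    intro z hz
    obtain ⟨i, rfl⟩ := Subgroup.mem_zpowers_iff.1 hz
    have h1 : a * y ^ i * a⁻¹ = (a * y * a⁻¹) ^ i := by
      have : a * y ^ i * a⁻¹ = MulAut.conj a (y ^ i) := by simp
      rw [this, map_zpow]; simp
    rw [h1, hay]
    exact Subgroup.zpow_mem _ (Subgroup.inv_mem _ (Subgroup.mem_zpowers y)) i
  have hA : Subgroup.zpowers a ≤ Subgroup.normalizer ((Subgroup.zpowers y : Subgroup G) : Set G) := by
    rw [Subgroup.zpowers_le]; exact hanorm
  set H : Subgroup G := Subgroup.zpowers y ⊔ Subgroup.zpowers a with hH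
  have hcard := Cfsg.Agent.Helper1.card_sup_mul_card_inf hA
  rw [Nat.card_zpowers, Nat.card_zpowers] at hcard
  have ha2 : orderOf a ∣ 2 := by
    apply orderOf_dvd_of_pow_eq_one
    rw [pow_two, ha]
  have h3 : ¬ 3 ∣ Nat.card H := by
    intro h3
    have h4 : 3 ∣ orderOf y * orderOf a := by
      rw [← hcard]; exact dvd_mul_of_dvd_left h3 _
    rcases (Nat.Prime.dvd_mul Nat.prime_three).1 h4 with h5 | h5
    · exact hy h5
    · have : 3 ∣ 2 := dvd_trans h5 ha2
      omega
  have hcomm := hab H h3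
  have hyH : y ∈ H := (le_sup_left : Subgroup.zpowers y ≤ H) (Subgroup.mem_zpowers y)
  have haH : a ∈ H := (le_sup_right : Subgroup.zpowers a ≤ H) (Subgroup.mem_zpowers a)
  have h5 : a * y = y * a := by
    have := hcomm.is_comm.comm (⟨a, haH⟩ : H) ⟨y, hyH⟩
    exact congrArg Subtype.val this
  have h6 : y⁻¹ = y := by
    rw [← hay, h5]; group
  calc y * y = y⁻¹ * y := by rw [h6]
    _ = 1 := inv_mul_cancel y

namespace Res

variable {P : Sylow 3 G} {Q : Sylow 2 G} {k : G} (h : Res P Q k)
include h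

/-- all involutions are conjugate to `k`. -/
theorem all_conj {a : G} (ha : orderOf a = 2) : ∃ g : G, g * k * g⁻¹ = a := by
  have haa : a ^ (2 ^ 1) = 1 := by
    rw [pow_one, ← ha]; exact pow_orderOf_eq_one a
  obtain ⟨g, hg⟩ := exists_conj_mem_sylow Q a 1 haa
  have hne : g⁻¹ * a * g ≠ 1 := by
    intro h1
    have h2 : a = 1 := by
      calc a = g * (g⁻¹ * a * g) * g⁻¹ := by group
        _ = 1 := by rw [h1]; group
    rw [h2, orderOf_one] at ha
    omega
  obtain ⟨g', hg'⟩ := h.hconj _ hg hne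
  refine ⟨g * g', ?_⟩
  calc g * g' * k * (g * g')⁻¹ = g * (g' * k * g'⁻¹) * g⁻¹ := by group
    _ = a := by rw [hg']; group

/-- two elements of `Q` outside `{1, k}` are equal or differ by `k`. -/
theorem Q_four {q q' : G} (hq : q ∈ (Q : Subgroup G)) (hq' : q' ∈ (Q : Subgroup G))
    (hq1 : q ≠ 1) (hqk : q ≠ k) (hq'1 : q' ≠ 1) (hq'k : q' ≠ k) (hne : q' ≠ q) : q' = q * k := by
  by_contra hcon
  have hk1 := h.k_ne_one
  have hqk1 : q * k ≠ 1 := by
    intro h1
    apply hqk
    have := eq_inv_of_mul_eq_one_left h1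
    rwa [h.k_inv] at this
  have hqkk : q * k ≠ k := by
    intro h1
    apply hq1
    simpa using h1
  have hqkq : q * k ≠ q := by
    intro h1
    apply hk1
    simpa using h1
  let S : Finset G := {1, k, q, q * k, q'}
  have hS : S.card = 5 := by
    have e1 : (1 : G) ∉ ({k, q, q * k, q'} : Finset G) := by
      simp only [Finset.mem_insert, Finset.mem_singleton, not_or]
      exact ⟨hk1.symm, hq1.symm, hqk1.symm, hq'1.symm⟩
    have e2 : k ∉ ({q, q * k, q'} : Finset G) := by
      simp only [Finset.mem_insert, Finset.mem_singleton, not_or]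
      exact ⟨hqk.symm, hqkk.symm, hq'k.symm⟩
    have e3 : q ∉ ({q * k, q'} : Finset G) := by
      simp only [Finset.mem_insert, Finset.mem_singleton, not_or]
      exact ⟨hqkq.symm, hne.symm⟩
    have e4 : q * k ∉ ({q'} : Finset G) := by
      simp only [Finset.mem_singleton]
      exact fun h1 => hcon h1.symm
    show (insert 1 (insert k (insert q (insert (q * k) ({q'} : Finset G))))).card = 5
    rw [Finset.card_insert_of_notMem e1, Finset.card_insert_of_notMem e2,
      Finset.card_insert_of_notMem e3, Finset.card_insert_of_notMem e4, Finset.card_singleton]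
  have hsub : (S : Set G) ⊆ ((Q : Subgroup G) : Set G) := by
    intro z hz
    simp only [S, Finset.coe_insert, Finset.coe_singleton, Set.mem_insert_iff,
      Set.mem_singleton_iff] at hz
    rcases hz with rfl | rfl | rfl | rfl | rfl
    · exact (Q : Subgroup G).one_mem
    · exact h.hkQ
    · exact hq
    · exact (Q : Subgroup G).mul_mem hq h.hkQ
    · exact hq'
  have h1 : Nat.card (S : Set G) ≤ Nat.card ((Q : Subgroup G) : Set G) :=
    Nat.card_mono (Set.toFinite _) hsub
  have h2 : Nat.card (S : Set G) = 5 := by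
    rw [Nat.card_coe_set_eq, Set.ncard_coe_finset, hS]
  have h3 : Nat.card ((Q : Subgroup G) : Set G) = 4 := h.hQ4
  omega

end Res

end Cfsg.Agent.Lead.ResK4
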