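import Mathlib
import Cfsg.Agent.Lead.CycSylE
import Cfsg.Agent.Lead.ResK4B

/-!
S4016: the case `C_G(P) = P`.
-/

set_option autoImplicit false
set_option linter.unusedSectionVars false

namespace Cfsg.Agent.Lead.CycSyl

open Classical

variable {G : Type*} [Group G] [Finite G] {p : ℕ} [hp : Fact p.Prime]

/-- if all the Sylow `q`-subgroups, `q ≠ p`, have order `≡ 1 mod p`, so does the `p'`-part of
the group order. -/
theorem ordCompl_modEq_one (n : ℕ) (hn : n ≠ 0)
    (hq : ∀ q : ℕ, q.Prime → q ≠ p → q ∣ n → q ^ n.factorization q ≡ 1 [MOD p]) :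
    n / p ^ n.factorization p ≡ 1 [MOD p] := by
  have h0 : n / p ^ n.factorization p ≠ 0 := (Nat.ordCompl_pos p hn).ne'
  have h1 := Nat.prod_factorization_pow_eq_self h0
  rw [Nat.factorization_ordCompl] at h1
  rw [← h1, Finsupp.prod]
  apply Finset.prod_induction _ (fun x => x ≡ 1 [MOD p])
  · intro a b ha hb
    simpa using ha.mul hb
  · exact Nat.ModEq.refl 1
  · intro q hqs
    rw [Finsupp.support_erase, Finset.mem_erase, Nat.support_factorization,
      Nat.mem_primeFactors] at hqs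
    rw [Finsupp.erase_ne hqs.1]
    exact hq q hqs.2.1 hqs.1 hqs.2.2.1

namespace MC

variable {P : Sylow p G} {B : Subgroup G} (h : MC P B)
include h

variable {z₀ : G} (hz₀P : z₀ ∈ (P : Subgroup G)) (hz₀ : orderOf z₀ = p)
  (hK : ∀ k ∈ B, (∀ y ∈ (P : Subgroup G), k * y * k⁻¹ = y) → k = 1)
include hz₀P hz₀ hK

/-- when `K = 1`, an element commuting with a non-trivial `p`-element is a `p`-element. -/
theorem ppow_of_comm {v x : G} {j : ℕ} (hv : v ^ p ^ j = 1) (hv1 : v ≠ 1) (hxv : x * v = v * x) :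
    ∃ i : ℕ, x ^ p ^ i = 1 := by
  obtain ⟨g, hg⟩ := Cfsg.Agent.Lead.ResK4.exists_conj_mem_sylow P v j hv
  set u := g⁻¹ * v * g with hu
  have hu1 : u ≠ 1 := by
    intro h1
    apply hv1
    calc v = g * u * g⁻¹ := by rw [hu]; group
      _ = 1 := by rw [h1]; group
  have hcu : (g⁻¹ * x * g) * u = u * (g⁻¹ * x * g) := by
    rw [hu]
    calc g⁻¹ * x * g * (g⁻¹ * v * g) = g⁻¹ * (x * v) * g := by group
      _ = g⁻¹ * (v * x) * g := by rw [hxv]
      _ = g⁻¹ * v * g * (g⁻¹ * x * g) := by group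
  obtain ⟨y, hy, k, hk, hkc, hyk⟩ := h.cent_struct hz₀P hz₀ hg hu1 hcu
  have hk1 := hK k hk hkc
  rw [hk1, mul_one] at hyk
  obtain ⟨i, hi⟩ := ppow_of_mem P.2 hy
  refine ⟨i, ?_⟩
  have h2 : x = g * y * g⁻¹ := by rw [← hyk]; group
  rw [h2, ← conj_pow', hi]; group

/-- when `K = 1`, Sylow `q`-subgroups have order `≡ 1 mod p`. -/
theorem card_sylow_modEq {q : ℕ} [hq : Fact q.Prime] (hqp : q ≠ p) (Q : Sylow q G) :
    Nat.card (Q : Subgroup G) ≡ 1 [MOD p] := by
  by_cases hQ : (Q : Subgroup G) = ⊥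
  · rw [hQ, Subgroup.card_bot]
  obtain ⟨v, hvN, ⟨j, hvj⟩, hvC⟩ := h.exists_v hqp Q hQ
  have hv1 : v ≠ 1 := by
    rintro rfl
    exact hvC (Subgroup.one_mem _)
  have hV : Subgroup.zpowers v ≤ Subgroup.normalizer ((Q : Subgroup G) : Set G) := by
    rw [Subgroup.zpowers_le]; exact hvN
  have hVp : IsPGroup p (Subgroup.zpowers v) := by
    rw [IsPGroup.iff_orderOf]
    rintro ⟨y, hy⟩
    obtain ⟨i, rfl⟩ := Subgroup.mem_zpowers_iff.1 hy
    have h1 : (v ^ i) ^ (p ^ j) = 1 := by
      rw [← zpow_natCast, ← zpow_mul, mul_comm, zpow_mul, zpow_natCast, hvj, one_zpow]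
    have h2 : orderOf (v ^ i) ∣ p ^ j := orderOf_dvd_of_pow_eq_one h1
    obtain ⟨k, _, hk⟩ := (Nat.dvd_prime_pow hp.out).1 h2
    exact ⟨k, by rw [← hk]; exact Subgroup.orderOf_mk _ hy⟩
  letI : MulAction (Subgroup.zpowers v) (Q : Subgroup G) :=
    MulAction.compHom _ ((Cfsg.Agent.Lead.conjAutHom (Q : Subgroup G)).comp (Subgroup.inclusion hV))
  have hsmul : ∀ (w : Subgroup.zpowers v) (x : (Q : Subgroup G)),
      ((w • x : (Q : Subgroup G)) : G) = (w : G) * x * (w : G)⁻¹ := fun w x => rfl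
  have hmod := hVp.card_modEq_card_fixedPoints (Q : Subgroup G)
  have hfix : MulAction.fixedPoints (Subgroup.zpowers v) (Q : Subgroup G) = {1} := by
    ext x
    rw [MulAction.mem_fixedPoints, Set.mem_singleton_iff]
    constructor
    · intro hx
      have h1 := congrArg Subtype.val (hx ⟨v, Subgroup.mem_zpowers v⟩)
      rw [hsmul] at h1
      have h2 : (x : G) * v = v * x := by
        have h1' : v * (x : G) * v⁻¹ = x := h1
        calc (x : G) * v = v * x * v⁻¹ * v := by rw [h1']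
          _ = v * x := by group
      obtain ⟨i, hi⟩ := h.ppow_of_comm hz₀P hz₀ hK hvj hv1 h2
      apply Subtype.ext
      exact eq_one_of_ppow_of_coprime hi
        (coprime_orderOf_of_mem (not_dvd_card_sylow hqp Q) x.2)
    · rintro rfl w
      apply Subtype.ext
      rw [hsmul]
      simp
  rw [hfix] at hmod
  have : Nat.card (({1} : Set (Q : Subgroup G))) = 1 := by
    rw [Nat.card_coe_set_eq, Set.ncard_singleton]
  rw [this] at hmod
  exact hmod

/-- **the case `K = 1` is impossible.** -/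
theorem false_of_K_trivial : False := by
  obtain ⟨b₀, hb₀, x₀, hx₀, hbx⟩ := h.exists_b0
  set N := Subgroup.normalizer ((P : Subgroup G) : Set G) with hN
  have hcardN : Nat.card N = Nat.card B * Nat.card (P : Subgroup G) := by
    rw [hN, ← h.hPB]
    apply Cfsg.Agent.Helper1.card_sup_of_le_normalizer h.hBN
    rw [inf_comm]; exact h.PB_disj
  have hidx : N.index ≡ 1 [MOD p] := by
    have h1 := card_sylow_modEq_one p G
    rwa [Sylow.card_eq_index_normalizer P] at h1
  have hG : Nat.card G = N.index * Nat.card B * Nat.card (P : Subgroup G) := by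
    rw [← N.index_mul_card, hcardN, mul_assoc]
  -- the p'-part of `|G|`
  have hn0 : Nat.card G ≠ 0 := Nat.card_pos.ne'
  have hPcard : Nat.card (P : Subgroup G) = p ^ (Nat.card G).factorization p :=
    P.card_eq_multiplicity
  have hcompl : Nat.card G / p ^ (Nat.card G).factorization p = N.index * Nat.card B := by
    rw [← hPcard]
    apply Nat.div_eq_of_eq_mul_left Nat.card_pos
    exact hG
  have hmod : Nat.card G / p ^ (Nat.card G).factorization p ≡ 1 [MOD p] := by
    apply ordCompl_modEq_one _ hn0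
    intro q hqprime hqp hqdvd
    haveI : Fact q.Prime := ⟨hqprime⟩
    obtain ⟨Q⟩ : Nonempty (Sylow q G) := inferInstance
    rw [← Q.card_eq_multiplicity]
    exact h.card_sylow_modEq hz₀P hz₀ hK hqp Q
  rw [hcompl] at hmod
  have hB1 : Nat.card B ≡ 1 [MOD p] := by
    have h2 : N.index * Nat.card B ≡ 1 * Nat.card B [MOD p] := hidx.mul_right _
    rw [one_mul] at h2
    exact h2.symm.trans hmod
  -- `1 < |B| < p`
  have hBgt : 1 < Nat.card B := by
    rw [Finite.one_lt_card_iff_nontrivial]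
    refine ⟨⟨⟨b₀, hb₀⟩, 1, ?_⟩⟩
    intro h1
    have : b₀ = 1 := congrArg Subtype.val h1
    apply hbx
    rw [this]; group
  have hBlt : Nat.card B < p := by
    -- `B` embeds into `⟨z₀⟩ ∖ {1}`
    let f : B → {z : Subgroup.zpowers z₀ // z ≠ 1} := fun b =>
      ⟨⟨(b : G) * z₀ * (b : G)⁻¹, by
        have hbn := h.N_le_normZ hz₀P hz₀ (h.hBN b.2)
        exact (Subgroup.mem_normalizer_iff.1 hbn z₀).1 (Subgroup.mem_zpowers z₀)⟩, by
        intro h1
        have h2 : (b : G) * z₀ * (b : G)⁻¹ = 1 := congrArg Subtype.val h1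
        apply h.z0_ne_one hz₀P hz₀
        calc z₀ = (b : G)⁻¹ * ((b : G) * z₀ * (b : G)⁻¹) * b := by group
          _ = 1 := by rw [h2]; group⟩
    have hf : Function.Injective f := by
      intro b c hbc
      have h1 : (b : G) * z₀ * (b : G)⁻¹ = (c : G) * z₀ * (c : G)⁻¹ := by
        have := congrArg (fun t : {z : Subgroup.zpowers z₀ // z ≠ 1} => ((t : Subgroup.zpowers z₀) : G)) hbc
        exact this
      have hcb : (c : G)⁻¹ * b ∈ B := B.mul_mem (B.inv_mem c.2) b.2
      have h2 : ((c : G)⁻¹ * b) * z₀ * ((c : G)⁻¹ * b)⁻¹ = z₀ := by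
        calc ((c : G)⁻¹ * b) * z₀ * ((c : G)⁻¹ * b)⁻¹
            = (c : G)⁻¹ * ((b : G) * z₀ * (b : G)⁻¹) * c := by group
          _ = (c : G)⁻¹ * ((c : G) * z₀ * (c : G)⁻¹) * c := by rw [h1]
          _ = z₀ := by group
      have h3 := h.cent_of_fix (h.hBN hcb) (h.B_coprime hcb) hz₀P (h.z0_ne_one hz₀P hz₀) h2
      have h4 := hK _ hcb h3
      apply Subtype.ext
      calc (b : G) = c * ((c : G)⁻¹ * b) := by group
        _ = c := by rw [h4, mul_one]
    have h1 : Nat.card B ≤ Nat.card {z : Subgroup.zpowers z₀ // z ≠ 1} :=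
      Nat.card_le_card_of_injective f hf
    have h2 : Nat.card {z : Subgroup.zpowers z₀ // z ≠ 1} = p - 1 := by
      have hcz : Nat.card (Subgroup.zpowers z₀) = p := by
        rw [Nat.card_zpowers z₀, hz₀]
      have hset : Nat.card {z : Subgroup.zpowers z₀ // z ≠ 1} =
          (({1} : Set (Subgroup.zpowers z₀))ᶜ).ncard := by
        rw [← Nat.card_coe_set_eq]
        rfl
      rw [hset, Set.ncard_compl, Set.ncard_singleton, hcz]
    have := hp.out.one_lt
    omega
  have h5 : Nat.card B % p = 1 % p := hB1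
  rw [Nat.mod_eq_of_lt hBlt, Nat.mod_eq_of_lt hp.out.one_lt] at h5
  omega

end MC

end Cfsg.Agent.Lead.CycSyl
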