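import Mathlib
import Cfsg.Agent.Lead.CycSylF

/-!
S4016: the case `C_B(P) ≠ 1`, part one: centralisers of elements of `K = C_B(P)`.
-/

set_option autoImplicit false
set_option linter.unusedSectionVars false

namespace Cfsg.Agent.Lead.CycSyl

open Classical

variable {G : Type*} [Group G] [Finite G] {p : ℕ} [hp : Fact p.Prime]

namespace MC

variable {P : Sylow p G} {B : Subgroup G} (h : MC P B)
include h

/-- (7a) the centraliser of a non-trivial element of `K = C_B(P)` is `N_G(P)`. -/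
theorem cent_eq_N {k : G} (hk : k ∈ B) (hk1 : k ≠ 1)
    (hkc : ∀ y ∈ (P : Subgroup G), k * y * k⁻¹ = y) :
    Subgroup.centralizer ({k} : Set G) = Subgroup.normalizer ((P : Subgroup G) : Set G) := by
  have hNC : Subgroup.normalizer ((P : Subgroup G) : Set G) ≤
      Subgroup.centralizer ({k} : Set G) := by
    intro g hg
    obtain ⟨x, hx, b, hb, rfl⟩ := h.mem_N hg
    rw [Subgroup.mem_centralizer_iff]
    intro y hy
    rw [Set.mem_singleton_iff] at hy
    subst hy
    have h1 : y * x = x * y := by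
      have := hkc x hx
      calc y * x = (y * x * y⁻¹) * y := by group
        _ = x * y := by rw [this]
    have h2 := h.B_comm hk hb
    calc y * (x * b) = (y * x) * b := by group
      _ = x * (y * b) := by rw [h1]; group
      _ = x * b * y := by rw [h2]; group
  apply le_antisymm _ hNC
  apply h.N_max _ hNC
  intro htop
  have hcen : ∀ g : G, g * k = k * g := by
    intro g
    have hg : g ∈ Subgroup.centralizer ({k} : Set G) := by rw [htop]; trivial
    exact ((Subgroup.mem_centralizer_iff.1 hg) k rfl).symm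
  have hn : (Subgroup.zpowers k).Normal := by
    constructor
    intro x hx g
    obtain ⟨i, hi⟩ := Subgroup.mem_zpowers_iff.1 hx
    have h3 : g * x * g⁻¹ = x := by
      rw [← hi, conj_zpow']
      congr 1
      rw [hcen g]; group
    rw [h3]; exact hx
  have hcard : ¬ p ∣ Nat.card (Subgroup.zpowers k) := by
    rw [Nat.card_zpowers]
    exact (Nat.Prime.coprime_iff_not_dvd hp.out).1 (h.B_coprime hk).symm
  have hbot := h.Opp_trivial _ hn hcard
  apply hk1
  have hmem : k ∈ Subgroup.zpowers k := Subgroup.mem_zpowers k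
  rw [hbot, Subgroup.mem_bot] at hmem
  exact hmem

variable {z₀ : G} (hz₀P : z₀ ∈ (P : Subgroup G)) (hz₀ : orderOf z₀ = p)
include hz₀P hz₀

/-- a `p'`-element commuting with a non-trivial element of `P` lies in `K = C_B(P)`. -/
theorem mem_B_of_comm {c u : G} (hu : u ∈ (P : Subgroup G)) (hu1 : u ≠ 1) (hcu : c * u = u * c)
    (hc : (orderOf c).Coprime p) : c ∈ B ∧ ∀ y ∈ (P : Subgroup G), c * y * c⁻¹ = y := by
  obtain ⟨x, hx, k, hk, hkc, hck⟩ := h.cent_struct hz₀P hz₀ hu hu1 hcu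
  have hxk : x * k = k * x := by
    have := hkc x hx
    calc x * k = (k * x * k⁻¹) * k := by rw [this]
      _ = k * x := by group
  set m := orderOf c with hm
  have h1 : x ^ m * k ^ m = 1 := by
    have h2 : (x * k) ^ m = x ^ m * k ^ m := Commute.mul_pow hxk m
    rw [← h2, ← hck]
    exact pow_orderOf_eq_one _
  have h2 : x ^ m ∈ (P : Subgroup G) ⊓ B := by
    refine ⟨pow_mem hx m, ?_⟩
    have h3 : x ^ m = (k ^ m)⁻¹ := eq_inv_of_mul_eq_one_left h1
    rw [h3]; exact B.inv_mem (B.pow_mem hk m)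
  rw [h.PB_disj, Subgroup.mem_bot] at h2
  have hx1 : x = 1 := by
    obtain ⟨i, hi⟩ := ppow_of_mem P.2 hx
    apply eq_one_of_ppow_of_coprime hi
    exact Nat.Coprime.coprime_dvd_left (orderOf_dvd_of_pow_eq_one h2) hc
  rw [hx1, one_mul] at hck
  rw [hck]
  exact ⟨hk, hkc⟩

variable {q : ℕ} [hq : Fact q.Prime] (hqp : q ≠ p) (Q : Sylow q G)
  (hQN : (Q : Subgroup G) ≤ Subgroup.normalizer ((P : Subgroup G) : Set G))
include hqp hQN

/-- (7c) a `p`-element `w` of `N_G(Q)` conjugating a non-trivial element of `K ∩ Q` into `K`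
centralises `Q`. -/
theorem cent_Q_of_conj {w : G}
    (hwQ : w ∈ Subgroup.normalizer ((Q : Subgroup G) : Set G)) {j : ℕ} (hwp : w ^ p ^ j = 1)
    {z : G} (hz : z ∈ (Q : Subgroup G)) (hz1 : z ≠ 1) (hzc : z * z₀ = z₀ * z)
    (hwz : (w * z * w⁻¹) * z₀ = z₀ * (w * z * w⁻¹)) :
    ∀ x ∈ (Q : Subgroup G), w * x = x * w := by
  have hQp := not_dvd_card_sylow (p := p) hqp Q
  have hz' : w * z * w⁻¹ ∈ (Q : Subgroup G) := (Subgroup.mem_normalizer_iff.1 hwQ z).1 hz
  have hz'1 : w * z * w⁻¹ ≠ 1 := by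
    intro h1
    apply hz1
    calc z = w⁻¹ * (w * z * w⁻¹) * w := by group
      _ = 1 := by rw [h1]; group
  have hz0 := h.z0_ne_one hz₀P hz₀
  obtain ⟨hzB, hzP⟩ := h.mem_B_of_comm hz₀P hz₀ hz₀P hz0 hzc (coprime_orderOf_of_mem hQp hz)
  obtain ⟨hz'B, hz'P⟩ :=
    h.mem_B_of_comm hz₀P hz₀ hz₀P hz0 hwz (coprime_orderOf_of_mem hQp hz')
  have hC1 := h.cent_eq_N hzB hz1 hzP
  have hC2 := h.cent_eq_N hz'B hz'1 hz'P
  have hwNN : w ∈ Subgroup.normalizer
      ((Subgroup.normalizer ((P : Subgroup G) : Set G) : Subgroup G) : Set G) := by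
    apply Cfsg.Agent.Lead.S3F.mem_normalizer_of_conj_mem
    intro n hn
    rw [← hC2, Subgroup.mem_centralizer_iff]
    intro y hy
    rw [Set.mem_singleton_iff] at hy; subst hy
    rw [← hC1, Subgroup.mem_centralizer_iff] at hn
    have h2 := hn z rfl
    calc w * z * w⁻¹ * (w * n * w⁻¹) = w * (z * n) * w⁻¹ := by group
      _ = w * (n * z) * w⁻¹ := by rw [h2]
      _ = w * n * w⁻¹ * (w * z * w⁻¹) := by group
  have hwN := h.N_self_norm hwNN
  have hwP := mem_sylow_of_ppow P hwN hwp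
  intro x hx
  have hc1 : w * x * w⁻¹ * x⁻¹ ∈ (Q : Subgroup G) :=
    (Q : Subgroup G).mul_mem ((Subgroup.mem_normalizer_iff.1 hwQ x).1 hx)
      ((Q : Subgroup G).inv_mem hx)
  have hc2 : w * x * w⁻¹ * x⁻¹ ∈ (P : Subgroup G) := by
    have h3 : x * w⁻¹ * x⁻¹ ∈ (P : Subgroup G) :=
      (Subgroup.mem_normalizer_iff.1 (hQN hx) w⁻¹).1 ((P : Subgroup G).inv_mem hwP)
    have h4 := (P : Subgroup G).mul_mem hwP h3
    have e : w * x * w⁻¹ * x⁻¹ = w * (x * w⁻¹ * x⁻¹) := by group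
    rw [e]; exact h4
  have hbot : (P : Subgroup G) ⊓ (Q : Subgroup G) = ⊥ := inf_eq_bot_of_pgroup P.2 hQp
  have h5 : w * x * w⁻¹ * x⁻¹ ∈ (P : Subgroup G) ⊓ (Q : Subgroup G) := ⟨hc2, hc1⟩
  rw [hbot, Subgroup.mem_bot] at h5
  calc w * x = (w * x * w⁻¹ * x⁻¹) * x * w := by group
    _ = x * w := by rw [h5, one_mul]

end MC

end Cfsg.Agent.Lead.CycSyl
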