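import Mathlib
import Cfsg.Agent.Lead.CycSylG

/-!
S4016: the case `C_B(P) ≠ 1`, part two: counting in a Sylow `q`-subgroup; `q = 2`, `p = 3`.
-/

set_option autoImplicit false
set_option linter.unusedSectionVars false

namespace Cfsg.Agent.Lead.CycSyl

open Classical

/-- a finite group embedded (as a set) in the square of a cyclic group has at most `q ^ 2`
solutions of `x ^ q = 1`. -/
theorem card_omega_le {Q A : Type*} [Group Q] [Finite Q] [Group A] [Finite A] [IsCyclic A]
    (Φ : Q → A × A) (hΦ : Function.Injective Φ) (q : ℕ) (hq : 0 < q)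
    (hpow : ∀ x : Q, x ^ q = 1 → (Φ x).1 ^ q = 1 ∧ (Φ x).2 ^ q = 1) :
    Nat.card {x : Q // x ^ q = 1} ≤ q * q := by
  have : Fintype A := Fintype.ofFinite A
  have hA : Nat.card {a : A // a ^ q = 1} ≤ q := by
    rw [Nat.card_eq_fintype_card, Fintype.card_subtype]
    exact IsCyclic.card_pow_eq_one_le hq
  let f : {x : Q // x ^ q = 1} → {a : A // a ^ q = 1} × {a : A // a ^ q = 1} := fun x =>
    (⟨(Φ x.1).1, (hpow x.1 x.2).1⟩, ⟨(Φ x.1).2, (hpow x.1 x.2).2⟩)
  have hf : Function.Injective f := by
    intro x y hxy
    apply Subtype.ext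
    apply hΦ
    have h1 : (Φ x.1).1 = (Φ y.1).1 := congrArg (fun t => (t.1 : A)) hxy
    have h2 : (Φ x.1).2 = (Φ y.1).2 := congrArg (fun t => (t.2 : A)) hxy
    exact Prod.ext h1 h2
  calc Nat.card {x : Q // x ^ q = 1}
      ≤ Nat.card ({a : A // a ^ q = 1} × {a : A // a ^ q = 1}) :=
        Nat.card_le_card_of_injective f hf
    _ = Nat.card {a : A // a ^ q = 1} * Nat.card {a : A // a ^ q = 1} := Nat.card_prod _ _
    _ ≤ q * q := Nat.mul_le_mul hA hA

/-- a family of `p * (q - 1)` distinct non-trivial solutions of `x ^ q = 1`. -/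
theorem le_card_omega {Q : Type*} [Group Q] [Finite Q] (p q : ℕ)
    (ψ : Fin p × Fin (q - 1) → Q) (hψ : Function.Injective ψ)
    (h1 : ∀ t, ψ t ≠ 1) (hq : ∀ t, ψ t ^ q = 1) :
    p * (q - 1) + 1 ≤ Nat.card {x : Q // x ^ q = 1} := by
  let f : Option (Fin p × Fin (q - 1)) → {x : Q // x ^ q = 1} := fun o =>
    match o with
    | none => ⟨1, one_pow q⟩
    | some t => ⟨ψ t, hq t⟩
  have hf : Function.Injective f := by
    intro a b hab
    cases a with
    | none =>
      cases b with
      | none => rfl
      | some t =>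
        exfalso
        have : (1 : Q) = ψ t := congrArg Subtype.val hab
        exact h1 t this.symm
    | some s =>
      cases b with
      | none =>
        exfalso
        have : ψ s = (1 : Q) := congrArg Subtype.val hab
        exact h1 s this
      | some t =>
        have : ψ s = ψ t := congrArg Subtype.val hab
        rw [hψ this]
  have h2 := Nat.card_le_card_of_injective f hf
  have h3 : Nat.card (Option (Fin p × Fin (q - 1))) = p * (q - 1) + 1 := by
    rw [Nat.card_eq_fintype_card, Fintype.card_option, Fintype.card_prod, Fintype.card_fin,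
      Fintype.card_fin]
  rw [h3] at h2
  exact h2

/-- if the family fills the group, every non-trivial element is in it. -/
theorem surj_of_card {Q : Type*} [Group Q] [Finite Q] (p q : ℕ)
    (ψ : Fin p × Fin (q - 1) → Q) (hψ : Function.Injective ψ)
    (h1 : ∀ t, ψ t ≠ 1) (hcard : Nat.card Q ≤ p * (q - 1) + 1) :
    ∀ s : Q, s ≠ 1 → ∃ t, ψ t = s := by
  let f : Option (Fin p × Fin (q - 1)) → Q := fun o =>
    match o with
    | none => 1
    | some t => ψ t
  have hf : Function.Injective f := by
    intro a b hab
    cases a with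
    | none =>
      cases b with
      | none => rfl
      | some t =>
        exfalso
        have : (1 : Q) = ψ t := hab
        exact h1 t this.symm
    | some s =>
      cases b with
      | none =>
        exfalso
        have : ψ s = (1 : Q) := hab
        exact h1 s this
      | some t =>
        have : ψ s = ψ t := hab
        rw [hψ this]
  have h3 : Nat.card (Option (Fin p × Fin (q - 1))) = p * (q - 1) + 1 := by
    rw [Nat.card_eq_fintype_card, Fintype.card_option, Fintype.card_prod, Fintype.card_fin,
      Fintype.card_fin]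
  have hb : Function.Bijective f := hf.bijective_of_nat_card_le (by rw [h3]; exact hcard)
  intro s hs
  obtain ⟨o, ho⟩ := hb.2 s
  cases o with
  | none => exact absurd ho.symm hs
  | some t => exact ⟨t, ho⟩

/-- in a group of order two, the non-trivial element is unique. -/
theorem eq_of_ne_one_of_card_two {A : Type*} [Group A] (hA : Nat.card A = 2) {a b : A}
    (ha : a ≠ 1) (hb : b ≠ 1) : a = b := by
  by_contra hab
  have : Finite A := Nat.finite_of_card_ne_zero (by omega)
  have : Fintype A := Fintype.ofFinite A
  have h1 : ({1, a, b} : Finset A).card = 3 := by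
    rw [Finset.card_insert_of_notMem, Finset.card_insert_of_notMem, Finset.card_singleton]
    · simpa using hab
    · simp only [Finset.mem_insert, Finset.mem_singleton, not_or]
      exact ⟨ha.symm, hb.symm⟩
  have h2 := Finset.card_le_univ ({1, a, b} : Finset A)
  rw [h1, ← Nat.card_eq_fintype_card, hA] at h2
  omega

/-- the arithmetic at the end of (7e). -/
theorem arith_qp {p q : ℕ} (hp : p.Prime) (hq : q.Prime) (h1 : p * (q - 1) + 1 ≤ q * q)
    (h2 : q ∣ p - 1) : q = 2 ∧ p = 3 := by
  have hq2 := hq.two_le
  have hp2 := hp.two_le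
  have h3 : q ≤ p - 1 := Nat.le_of_dvd (by omega) h2
  obtain ⟨r, rfl⟩ : ∃ r, q = r + 1 := ⟨q - 1, by omega⟩
  have h4 : p * r ≤ (r + 2) * r := by
    have : (r + 1) * (r + 1) = (r + 2) * r + 1 := by ring
    have h5 : r + 1 - 1 = r := by omega
    rw [h5] at h1
    omega
  have h5 : p ≤ r + 2 := Nat.le_of_mul_le_mul_right h4 (by omega)
  have h6 : p = r + 2 := by omega
  subst h6
  rcases hq.eq_two_or_odd with h7 | h7
  · constructor
    · exact h7
    · omega
  · exfalso
    rcases hp.eq_two_or_odd with h8 | h8
    · omega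
    · omega

end Cfsg.Agent.Lead.CycSyl
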