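import Mathlib
import Cfsg.Agent.Lead.CycSylH

/-!
S4016: the case `C_B(P) ≠ 1`, part three: `q = 2` and `p = 3`.
-/

set_option autoImplicit false
set_option linter.unusedSectionVars false

namespace Cfsg.Agent.Lead.CycSyl

open Classical

theorem isCyclic_mulAut_of_prime_card {Z : Type*} [Group Z] [Finite Z] {p : ℕ} [hp : Fact p.Prime]
    (hZ : Nat.card Z = p) : IsCyclic (MulAut Z) := by
  have hc : IsCyclic Z := isCyclic_of_prime_card hZ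
  have e := IsCyclic.mulAutMulEquiv Z
  have h2 : IsCyclic (ZMod (Nat.card Z))ˣ := by
    rw [hZ]; infer_instance
  exact isCyclic_of_surjective e.symm e.symm.surjective

theorem card_mulAut_of_prime_card {Z : Type*} [Group Z] [Finite Z] {p : ℕ} [hp : Fact p.Prime]
    (hZ : Nat.card Z = p) : Nat.card (MulAut Z) = p - 1 := by
  have hc : IsCyclic Z := isCyclic_of_prime_card hZ
  rw [IsCyclic.card_mulAut Z, hZ, Nat.totient_prime hp.out]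

variable {G : Type*} [Group G] [Finite G] {p : ℕ} [hp : Fact p.Prime]

namespace MC

variable {P : Sylow p G} {B : Subgroup G} (h : MC P B)
include h

variable {z₀ : G} (hz₀P : z₀ ∈ (P : Subgroup G)) (hz₀ : orderOf z₀ = p)
include hz₀P hz₀

variable {q : ℕ} [hq : Fact q.Prime] (hqp : q ≠ p) (Q : Sylow q G)
  (hQN : (Q : Subgroup G) ≤ Subgroup.normalizer ((P : Subgroup G) : Set G))
include hqp hQN

variable {v : G} (hvQ : v ∈ Subgroup.normalizer ((Q : Subgroup G) : Set G)) {j : ℕ}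
  (hvp : v ^ p ^ j = 1) (hvC : v ∉ Subgroup.centralizer ((Q : Subgroup G) : Set G))
include hvQ hvp hvC

theorem not_comm_pow {i : ℕ} (hi0 : 0 < i) (hip : i < p) :
    ¬ ∀ x ∈ (Q : Subgroup G), v ^ i * x = x * v ^ i := by
  intro hall
  apply hvC
  have hcop : Nat.Coprime i (orderOf v) := by
    have h1 : orderOf v ∣ p ^ j := orderOf_dvd_of_pow_eq_one hvp
    have h2 : Nat.Coprime i p := by
      rw [Nat.coprime_comm, Nat.Prime.coprime_iff_not_dvd hp.out]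
      intro hd
      have := Nat.le_of_dvd hi0 hd
      omega
    exact Nat.Coprime.coprime_dvd_right h1 (Nat.Coprime.pow_right j h2)
  obtain ⟨m, hm⟩ := exists_pow_eq_self_of_coprime hcop
  rw [Subgroup.mem_centralizer_iff]
  intro x hx
  have h3 : Commute (v ^ i) x := hall x hx
  have h4 : Commute ((v ^ i) ^ m) x := h3.pow_left m
  rw [hm] at h4
  exact h4.eq.symm

/-- a non-trivial element of `K ∩ Q` is moved out of `K` by `v ^ i`, `0 < i < p`. -/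
theorem not_comm_conj {i : ℕ} (hi0 : 0 < i) (hip : i < p) {z : G} (hz : z ∈ (Q : Subgroup G))
    (hz1 : z ≠ 1) (hzc : z * z₀ = z₀ * z) :
    ¬ ((v ^ i * z * (v ^ i)⁻¹) * z₀ = z₀ * (v ^ i * z * (v ^ i)⁻¹)) := by
  intro hc
  apply h.not_comm_pow hz₀P hz₀ hqp Q hQN hvQ hvp hvC hi0 hip
  have hw : v ^ i ∈ Subgroup.normalizer ((Q : Subgroup G) : Set G) := pow_mem hvQ i
  have hwp : (v ^ i) ^ p ^ j = 1 := by
    rw [← pow_mul, mul_comm, pow_mul, hvp, one_pow]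
  exact h.cent_Q_of_conj hz₀P hz₀ hqp Q hQN hw hwp hz hz1 hzc hc

theorem eq_one_of_comm_conj {z : G} (hz : z ∈ (Q : Subgroup G)) (hzc : z * z₀ = z₀ * z)
    (hvz : (v * z * v⁻¹) * z₀ = z₀ * (v * z * v⁻¹)) : z = 1 := by
  by_contra hz1
  have hp1 : 1 < p := hp.out.one_lt
  apply h.not_comm_conj hz₀P hz₀ hqp Q hQN hvQ hvp hvC (i := 1) one_pos hp1 hz hz1 hzc
  rw [pow_one]
  exact hvz

variable {k₁ : G} (hk₁Q : k₁ ∈ (Q : Subgroup G)) (hk₁c : k₁ * z₀ = z₀ * k₁)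
  (hk₁q : orderOf k₁ = q)
include hk₁Q hk₁c hk₁q

theorem k1_pow_comm (a : ℕ) : k₁ ^ a * z₀ = z₀ * k₁ ^ a := by
  have h1 : Commute k₁ z₀ := hk₁c
  exact (h1.pow_left a).eq

theorem k1_pow_ne_one {a : ℕ} (ha0 : 0 < a) (haq : a < q) : k₁ ^ a ≠ 1 := by
  apply pow_ne_one_of_lt_orderOf ha0.ne'
  rw [hk₁q]; exact haq

theorem conj_inj_aux {i i' a a' : ℕ} (hii : i ≤ i') (hi' : i' < p) (ha'0 : 0 < a') (ha' : a' < q)
    (he : v ^ i * k₁ ^ a * (v ^ i)⁻¹ = v ^ i' * k₁ ^ a' * (v ^ i')⁻¹) : i = i' := by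
  obtain ⟨d, rfl⟩ : ∃ d, i' = i + d := ⟨i' - i, by omega⟩
  by_contra hne
  have hd0 : 0 < d := by omega
  have hdp : d < p := by omega
  have h1 : k₁ ^ a = v ^ d * k₁ ^ a' * (v ^ d)⁻¹ := by
    have h2 : v ^ (i + d) = v ^ i * v ^ d := pow_add v i d
    rw [h2] at he
    calc k₁ ^ a = (v ^ i)⁻¹ * (v ^ i * k₁ ^ a * (v ^ i)⁻¹) * v ^ i := by group
      _ = (v ^ i)⁻¹ * (v ^ i * v ^ d * k₁ ^ a' * (v ^ i * v ^ d)⁻¹) * v ^ i := by rw [he]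
      _ = v ^ d * k₁ ^ a' * (v ^ d)⁻¹ := by group
  apply h.not_comm_conj hz₀P hz₀ hqp Q hQN hvQ hvp hvC hd0 hdp
    ((Q : Subgroup G).pow_mem hk₁Q a')
    (h.k1_pow_ne_one hz₀P hz₀ hqp Q hQN hvQ hvp hvC hk₁Q hk₁c hk₁q ha'0 ha')
    (h.k1_pow_comm hz₀P hz₀ hqp Q hQN hvQ hvp hvC hk₁Q hk₁c hk₁q a')
  rw [← h1]
  exact h.k1_pow_comm hz₀P hz₀ hqp Q hQN hvQ hvp hvC hk₁Q hk₁c hk₁q a

theorem conj_inj {i i' a a' : ℕ} (hi : i < p) (hi' : i' < p) (ha0 : 0 < a) (ha : a < q)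
    (ha'0 : 0 < a') (ha' : a' < q)
    (he : v ^ i * k₁ ^ a * (v ^ i)⁻¹ = v ^ i' * k₁ ^ a' * (v ^ i')⁻¹) : i = i' ∧ a = a' := by
  have hii : i = i' := by
    rcases le_total i i' with h1 | h1
    · exact h.conj_inj_aux hz₀P hz₀ hqp Q hQN hvQ hvp hvC hk₁Q hk₁c hk₁q h1 hi' ha'0 ha' he
    · exact (h.conj_inj_aux hz₀P hz₀ hqp Q hQN hvQ hvp hvC hk₁Q hk₁c hk₁q h1 hi ha0 ha
        he.symm).symm
  refine ⟨hii, ?_⟩
  subst hii
  have h1 : k₁ ^ a = k₁ ^ a' := by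
    calc k₁ ^ a = (v ^ i)⁻¹ * (v ^ i * k₁ ^ a * (v ^ i)⁻¹) * v ^ i := by group
      _ = (v ^ i)⁻¹ * (v ^ i * k₁ ^ a' * (v ^ i)⁻¹) * v ^ i := by rw [he]
      _ = k₁ ^ a' := by group
  apply pow_injOn_Iio_orderOf (x := k₁)
  · rw [Set.mem_Iio, hk₁q]; exact ha
  · rw [Set.mem_Iio, hk₁q]; exact ha'
  · exact h1

/-- the family of conjugates `v ^ i k₁ ^ a v ^ (-i)`. -/
theorem exists_psi : ∃ ψ : Fin p × Fin (q - 1) → (Q : Subgroup G), Function.Injective ψ ∧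
    (∀ t, ψ t ≠ 1) ∧ (∀ t, ψ t ^ q = 1) ∧
    (∀ t, ((ψ t : (Q : Subgroup G)) : G) =
      v ^ (t.1 : ℕ) * k₁ ^ ((t.2 : ℕ) + 1) * (v ^ (t.1 : ℕ))⁻¹) := by
  have hmem : ∀ (i a : ℕ), v ^ i * k₁ ^ a * (v ^ i)⁻¹ ∈ (Q : Subgroup G) := fun i a =>
    (Subgroup.mem_normalizer_iff.1 (pow_mem hvQ i) _).1 ((Q : Subgroup G).pow_mem hk₁Q a)
  let ψ : Fin p × Fin (q - 1) → (Q : Subgroup G) := fun t =>
    ⟨v ^ (t.1 : ℕ) * k₁ ^ ((t.2 : ℕ) + 1) * (v ^ (t.1 : ℕ))⁻¹, hmem _ _⟩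
  refine ⟨ψ, ?_, ?_, ?_, fun t => rfl⟩
  · intro s t hst
    have h1 : v ^ (s.1 : ℕ) * k₁ ^ ((s.2 : ℕ) + 1) * (v ^ (s.1 : ℕ))⁻¹ =
        v ^ (t.1 : ℕ) * k₁ ^ ((t.2 : ℕ) + 1) * (v ^ (t.1 : ℕ))⁻¹ := congrArg Subtype.val hst
    have hs2 := s.2.2
    have ht2 := t.2.2
    obtain ⟨h2, h3⟩ := h.conj_inj hz₀P hz₀ hqp Q hQN hvQ hvp hvC hk₁Q hk₁c hk₁q s.1.2 t.1.2
      (Nat.succ_pos _) (by omega) (Nat.succ_pos _) (by omega) h1
    apply Prod.ext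
    · exact Fin.ext h2
    · apply Fin.ext; omega
  · intro t ht
    have h1 : v ^ (t.1 : ℕ) * k₁ ^ ((t.2 : ℕ) + 1) * (v ^ (t.1 : ℕ))⁻¹ = 1 :=
      congrArg Subtype.val ht
    have ht2 := t.2.2
    apply h.k1_pow_ne_one hz₀P hz₀ hqp Q hQN hvQ hvp hvC hk₁Q hk₁c hk₁q
      (a := (t.2 : ℕ) + 1) (Nat.succ_pos _) (by omega)
    calc k₁ ^ ((t.2 : ℕ) + 1)
        = (v ^ (t.1 : ℕ))⁻¹ * (v ^ (t.1 : ℕ) * k₁ ^ ((t.2 : ℕ) + 1) * (v ^ (t.1 : ℕ))⁻¹) *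
            v ^ (t.1 : ℕ) := by group
      _ = 1 := by rw [h1]; group
  · intro t
    apply Subtype.ext
    change (v ^ (t.1 : ℕ) * k₁ ^ ((t.2 : ℕ) + 1) * (v ^ (t.1 : ℕ))⁻¹) ^ q = 1
    have hkq : k₁ ^ q = 1 := by
      have := pow_orderOf_eq_one k₁
      rwa [hk₁q] at this
    rw [← conj_pow', ← pow_mul, mul_comm, pow_mul, hkq, one_pow]
    group

/-- at least `p (q - 1) + 1` solutions of `x ^ q = 1` in `Q`. -/
theorem card_omega_ge : p * (q - 1) + 1 ≤ Nat.card {x : (Q : Subgroup G) // x ^ q = 1} := by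
  obtain ⟨ψ, h1, h2, h3, -⟩ :=
    h.exists_psi hz₀P hz₀ hqp Q hQN hvQ hvp hvC hk₁Q hk₁c hk₁q
  exact le_card_omega p q ψ h1 h2 h3

end MC

end Cfsg.Agent.Lead.CycSyl
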