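import Mathlib
import Cfsg.Agent.Lead.CycSylI

/-!
S4016: the case `C_B(P) ≠ 1`, part four: the pair of characters, `q = 2` and `p = 3`.
-/

set_option autoImplicit false
set_option linter.unusedSectionVars false

namespace Cfsg.Agent.Lead.CycSyl

open Classical

variable {G : Type*} [Group G] [Finite G] {p : ℕ} [hp : Fact p.Prime]

/-- an element commuting with `z` gives the trivial automorphism of `⟨z⟩`. -/
theorem conjAut_eq_one_of_comm {z x : G}
    (hx : x ∈ Subgroup.normalizer ((Subgroup.zpowers z : Subgroup G) : Set G))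
    (hc : x * z = z * x) : Cfsg.Agent.Lead.conjAut (Subgroup.zpowers z) x hx = 1 := by
  ext c
  obtain ⟨i, hi⟩ := Subgroup.mem_zpowers_iff.1 c.2
  rw [Cfsg.Agent.Lead.conjAut_apply, MulAut.one_apply, ← hi]
  have h1 : Commute x z := hc
  have h2 : Commute x (z ^ i) := h1.zpow_right i
  calc x * z ^ i * x⁻¹ = z ^ i * x * x⁻¹ := by rw [h2.eq]
    _ = z ^ i := by group

theorem comm_of_conjAut_eq_one {z x : G}
    (hx : x ∈ Subgroup.normalizer ((Subgroup.zpowers z : Subgroup G) : Set G))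
    (hc : Cfsg.Agent.Lead.conjAut (Subgroup.zpowers z) x hx = 1) : x * z = z * x := by
  have h1 := congrArg (fun α : MulAut (Subgroup.zpowers z) =>
    ((α ⟨z, Subgroup.mem_zpowers z⟩ : Subgroup.zpowers z) : G)) hc
  simp only [Cfsg.Agent.Lead.conjAut_apply, MulAut.one_apply] at h1
  calc x * z = (x * z * x⁻¹) * x := by group
    _ = z * x := by rw [h1]

theorem conjAut_pow_eq_one {z x : G}
    (hx : x ∈ Subgroup.normalizer ((Subgroup.zpowers z : Subgroup G) : Set G))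
    {n : ℕ} (hn : x ^ n = 1) : (Cfsg.Agent.Lead.conjAut (Subgroup.zpowers z) x hx) ^ n = 1 := by
  ext c
  rw [Cfsg.Agent.Lead.conjAut_pow_apply, hn, MulAut.one_apply]
  simp

namespace MC

variable {P : Sylow p G} {B : Subgroup G} (h : MC P B)
include h

variable {z₀ : G} (hz₀P : z₀ ∈ (P : Subgroup G)) (hz₀ : orderOf z₀ = p)
include hz₀P hz₀

theorem card_Z : Nat.card (Subgroup.zpowers z₀) = p := by
  rw [Nat.card_zpowers, hz₀]

variable {q : ℕ} [hq : Fact q.Prime] (hqp : q ≠ p) (Q : Sylow q G)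
  (hQN : (Q : Subgroup G) ≤ Subgroup.normalizer ((P : Subgroup G) : Set G))
include hqp hQN

variable {v : G} (hvQ : v ∈ Subgroup.normalizer ((Q : Subgroup G) : Set G)) {j : ℕ}
  (hvp : v ^ p ^ j = 1) (hvC : v ∉ Subgroup.centralizer ((Q : Subgroup G) : Set G))
include hvQ hvp hvC

/-- the pair of characters `Q → Aut ⟨z₀⟩ × Aut ⟨z₀⟩`. -/
theorem exists_Phi : ∃ Φ : ↥(Q : Subgroup G) →
      MulAut (Subgroup.zpowers z₀) × MulAut (Subgroup.zpowers z₀),
    Function.Injective Φ ∧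
    (∀ (x : (Q : Subgroup G)) (n : ℕ), x ^ n = 1 → (Φ x).1 ^ n = 1 ∧ (Φ x).2 ^ n = 1) ∧
    (∀ x : (Q : Subgroup G), (x : G) * z₀ = z₀ * x → (Φ x).1 = 1) := by
  have hNZ := h.N_le_normZ hz₀P hz₀
  have hc : ∀ x : (Q : Subgroup G), v * (x : G) * v⁻¹ ∈ (Q : Subgroup G) := fun x =>
    (Subgroup.mem_normalizer_iff.1 hvQ _).1 x.2
  let Φ : ↥(Q : Subgroup G) → MulAut (Subgroup.zpowers z₀) × MulAut (Subgroup.zpowers z₀) :=
    fun x => (Cfsg.Agent.Lead.conjAut (Subgroup.zpowers z₀) (x : G) (hNZ (hQN x.2)),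
      Cfsg.Agent.Lead.conjAut (Subgroup.zpowers z₀) (v * (x : G) * v⁻¹) (hNZ (hQN (hc x))))
  refine ⟨Φ, ?_, ?_, ?_⟩
  · intro x y hxy
    have h1 : Cfsg.Agent.Lead.conjAut (Subgroup.zpowers z₀) (x : G) (hNZ (hQN x.2)) =
        Cfsg.Agent.Lead.conjAut (Subgroup.zpowers z₀) (y : G) (hNZ (hQN y.2)) :=
      congrArg Prod.fst hxy
    have h2 : Cfsg.Agent.Lead.conjAut (Subgroup.zpowers z₀) (v * (x : G) * v⁻¹)
          (hNZ (hQN (hc x))) =
        Cfsg.Agent.Lead.conjAut (Subgroup.zpowers z₀) (v * (y : G) * v⁻¹)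
          (hNZ (hQN (hc y))) :=
      congrArg Prod.snd hxy
    have e1 := congrArg (fun α : MulAut (Subgroup.zpowers z₀) =>
      ((α ⟨z₀, Subgroup.mem_zpowers z₀⟩ : Subgroup.zpowers z₀) : G)) h1
    have e2 := congrArg (fun α : MulAut (Subgroup.zpowers z₀) =>
      ((α ⟨z₀, Subgroup.mem_zpowers z₀⟩ : Subgroup.zpowers z₀) : G)) h2
    simp only [Cfsg.Agent.Lead.conjAut_apply] at e1 e2
    set z : G := (y : G)⁻¹ * x with hz
    have hzQ : z ∈ (Q : Subgroup G) := (Q : Subgroup G).mul_mem ((Q : Subgroup G).inv_mem y.2) x.2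
    have hzc : z * z₀ = z₀ * z := by
      calc z * z₀ = (y : G)⁻¹ * ((x : G) * z₀ * (x : G)⁻¹) * x := by rw [hz]; group
        _ = (y : G)⁻¹ * ((y : G) * z₀ * (y : G)⁻¹) * x := by rw [e1]
        _ = z₀ * z := by rw [hz]; group
    have hvz : (v * z * v⁻¹) * z₀ = z₀ * (v * z * v⁻¹) := by
      calc (v * z * v⁻¹) * z₀
          = (v * (y : G) * v⁻¹)⁻¹ * ((v * (x : G) * v⁻¹) * z₀ * (v * (x : G) * v⁻¹)⁻¹) *
              (v * (x : G) * v⁻¹) := by rw [hz]; group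
        _ = (v * (y : G) * v⁻¹)⁻¹ * ((v * (y : G) * v⁻¹) * z₀ * (v * (y : G) * v⁻¹)⁻¹) *
              (v * (x : G) * v⁻¹) := by rw [e2]
        _ = z₀ * (v * z * v⁻¹) := by rw [hz]; group
    have hz1 := h.eq_one_of_comm_conj hz₀P hz₀ hqp Q hQN hvQ hvp hvC hzQ hzc hvz
    apply Subtype.ext
    calc (x : G) = y * z := by rw [hz]; group
      _ = y := by rw [hz1, mul_one]
  · intro x n hxn
    have hxn' : (x : G) ^ n = 1 := by
      have := congrArg Subtype.val hxn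
      simpa using this
    constructor
    · exact conjAut_pow_eq_one (hNZ (hQN x.2)) hxn'
    · apply conjAut_pow_eq_one (hNZ (hQN (hc x)))
      rw [← conj_pow', hxn']; group
  · intro x hx
    exact conjAut_eq_one_of_comm (hNZ (hQN x.2)) hx

theorem isCyclic_A : IsCyclic (MulAut (Subgroup.zpowers z₀)) :=
  isCyclic_mulAut_of_prime_card (h.card_Z hz₀P hz₀)

theorem card_A : Nat.card (MulAut (Subgroup.zpowers z₀)) = p - 1 :=
  card_mulAut_of_prime_card (h.card_Z hz₀P hz₀)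

theorem card_omega_le' : Nat.card {x : (Q : Subgroup G) // x ^ q = 1} ≤ q * q := by
  obtain ⟨Φ, hΦ, hpow, -⟩ := h.exists_Phi hz₀P hz₀ hqp Q hQN hvQ hvp hvC
  have := h.isCyclic_A hz₀P hz₀ hqp Q hQN hvQ hvp hvC
  exact card_omega_le Φ hΦ q hq.out.pos (fun x hx => hpow x q hx)

theorem card_Q_le : Nat.card (Q : Subgroup G) ≤ (p - 1) * (p - 1) := by
  obtain ⟨Φ, hΦ, -, -⟩ := h.exists_Phi hz₀P hz₀ hqp Q hQN hvQ hvp hvC
  have h1 := Nat.card_le_card_of_injective Φ hΦ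
  rw [Nat.card_prod, h.card_A hz₀P hz₀ hqp Q hQN hvQ hvp hvC] at h1
  exact h1

variable {k₁ : G} (hk₁Q : k₁ ∈ (Q : Subgroup G)) (hk₁c : k₁ * z₀ = z₀ * k₁)
  (hk₁q : orderOf k₁ = q)
include hk₁Q hk₁c hk₁q

theorem k1_ne_one : k₁ ≠ 1 := by
  intro h1
  rw [h1, orderOf_one] at hk₁q
  exact hq.out.one_lt.ne hk₁q

theorem q_dvd : q ∣ p - 1 := by
  have hNZ := h.N_le_normZ hz₀P hz₀
  set s := v * k₁ * v⁻¹ with hs
  have hsQ : s ∈ (Q : Subgroup G) := (Subgroup.mem_normalizer_iff.1 hvQ _).1 hk₁Q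
  have hsn : ¬ (s * z₀ = z₀ * s) := by
    intro hc
    exact h.k1_ne_one hz₀P hz₀ hqp Q hQN hvQ hvp hvC hk₁Q hk₁c hk₁q
      (h.eq_one_of_comm_conj hz₀P hz₀ hqp Q hQN hvQ hvp hvC hk₁Q hk₁c hc)
  set α := Cfsg.Agent.Lead.conjAut (Subgroup.zpowers z₀) s (hNZ (hQN hsQ)) with hα
  have hα1 : α ≠ 1 := fun h1 => hsn (comm_of_conjAut_eq_one _ h1)
  have hos : orderOf s = q := by rw [hs, orderOf_conj'', hk₁q]
  have hd : orderOf α ∣ q := by
    have := Cfsg.Agent.Lead.orderOf_conjAut_dvd (Subgroup.zpowers z₀) s (hNZ (hQN hsQ))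
    rwa [hos] at this
  have hoα : orderOf α = q := by
    rcases (Nat.dvd_prime hq.out).1 hd with h1 | h1
    · exact absurd (orderOf_eq_one_iff.1 h1) hα1
    · exact h1
  have := orderOf_dvd_natCard α
  rwa [hoα, h.card_A hz₀P hz₀ hqp Q hQN hvQ hvp hvC] at this

/-- (7e) `q = 2` and `p = 3`. -/
theorem qp : q = 2 ∧ p = 3 := by
  apply arith_qp hp.out hq.out
  · exact (h.card_omega_ge hz₀P hz₀ hqp Q hQN hvQ hvp hvC hk₁Q hk₁c hk₁q).trans
      (h.card_omega_le' hz₀P hz₀ hqp Q hQN hvQ hvp hvC)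
  · exact h.q_dvd hz₀P hz₀ hqp Q hQN hvQ hvp hvC hk₁Q hk₁c hk₁q

end MC

end Cfsg.Agent.Lead.CycSyl
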