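import Mathlib

/-!
The regular case of the friendship theorem, in relational form: a finite regular graph of degree
at least `3` in which any two distinct vertices have exactly one common neighbour does not exist.
-/

set_option autoImplicit false

namespace Cfsg.Agent.Lead.FriendReg

open scoped BigOperators
open Matrix

theorem false_of_regular {V : Type*} [Fintype V] [DecidableEq V] [Nonempty V]
    (adj : V → V → Prop) [DecidableRel adj] (hsymm : ∀ a b, adj a b → adj b a)
    (hirr : ∀ a, ¬ adj a a)
    (d : ℕ) (hd : 3 ≤ d) (hreg : ∀ a, (Finset.univ.filter (fun c => adj a c)).card = d)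
    (hfr : ∀ a b, a ≠ b → (Finset.univ.filter (fun c => adj a c ∧ adj b c)).card = 1) : False := by
  obtain ⟨r, hr, hrd⟩ := Nat.exists_prime_and_dvd (show d - 1 ≠ 1 by omega)
  have : Fact r.Prime := ⟨hr⟩
  have hd1 : ((d : ℕ) : ZMod r) = 1 := by
    have h1 : d = (d - 1) + 1 := by omega
    rw [h1, Nat.cast_add, (ZMod.natCast_eq_zero_iff _ _).2 hrd]
    simp
  set A : Matrix V V (ZMod r) := Matrix.of fun a b => if adj a b then 1 else 0 with hA
  set J : Matrix V V (ZMod r) := Matrix.of fun _ _ => 1 with hJ
  have hAA : A * A = J := by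
    ext a b
    rw [Matrix.mul_apply]
    have h1 : ∀ c, A a c * A c b = if (adj a c ∧ adj b c) then (1 : ZMod r) else 0 := by
      intro c
      simp only [hA, Matrix.of_apply]
      by_cases h1 : adj a c
      · by_cases h2 : adj c b
        · have h3 : adj b c := hsymm _ _ h2
          simp [h1, h2, h3]
        · have h3 : ¬ adj b c := fun h => h2 (hsymm _ _ h)
          simp [h1, h2, h3]
      · simp [h1]
    rw [Finset.sum_congr rfl (fun c _ => h1 c), Finset.sum_boole]
    by_cases hab : a = b
    · subst hab
      have : (Finset.univ.filter (fun c => adj a c ∧ adj a c)) =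
          (Finset.univ.filter (fun c => adj a c)) := by
        ext c; simp
      rw [this, hreg a, hd1]
      simp [hJ]
    · rw [hfr a b hab]
      simp [hJ]
  have hAJ : A * J = J := by
    ext a b
    rw [Matrix.mul_apply]
    have h1 : ∀ c, A a c * J c b = if adj a c then (1 : ZMod r) else 0 := by
      intro c
      simp [hA, hJ]
    rw [Finset.sum_congr rfl (fun c _ => h1 c), Finset.sum_boole, hreg a, hd1]
    simp [hJ]
  have hpow : ∀ n : ℕ, A ^ (n + 2) = J := by
    intro n
    induction n with
    | zero => rw [zero_add, pow_two, hAA]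
    | succ n ih =>
      rw [show n + 1 + 2 = (n + 2) + 1 by ring, pow_succ', ih, hAJ]
  have htrA : Matrix.trace A = 0 := by
    rw [Matrix.trace]
    apply Finset.sum_eq_zero
    intro a _
    simp [hA, hirr a]
  have htrJ : Matrix.trace J = (Fintype.card V : ZMod r) := by
    rw [Matrix.trace]
    simp [hJ]
  have hJJ : J * J = (Fintype.card V : ZMod r) • J := by
    ext a b
    rw [Matrix.mul_apply]
    simp [hJ]
  have hcard : (Fintype.card V : ZMod r) = 1 := by
    have h4 : A ^ 4 = J := hpow 2
    have h4' : A ^ 4 = J * J := by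
      rw [show 4 = 2 + 2 by norm_num, pow_add, hpow 0]
    rw [h4, hJJ] at h4'
    obtain ⟨a⟩ := ‹Nonempty V›
    have := congrFun (congrFun h4' a) a
    simp [hJ] at this
    exact this.symm
  have hr2 : 2 ≤ r := hr.two_le
  have hAr : A ^ r = J := by
    have h := hpow (r - 2)
    rwa [Nat.sub_add_cancel hr2] at h
  have h := ZMod.trace_pow_card A
  rw [hAr, htrJ, htrA, hcard, zero_pow hr.ne_zero] at h
  exact one_ne_zero h
end Cfsg.Agent.Lead.FriendReg
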