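import Mathlib
import Cfsg.Agent.Lead.ResK4B

/-!
S4016, residual case `p = 3`: two distinct involutions have exactly one common neighbour in the
commuting graph of involutions.
-/

set_option autoImplicit false
set_option linter.unusedSectionVars false

namespace Cfsg.Agent.Lead.ResK4

open Classical

variable {G : Type*} [Group G] [Finite G]

/-- `z` is a common neighbour of `a` and `b`. -/
def CN (a b z : G) : Prop :=
  orderOf z = 2 ∧ z ≠ a ∧ z ≠ b ∧ z * a = a * z ∧ z * b = b * z

theorem sq_of_two {a : G} (ha : orderOf a = 2) : a * a = 1 := by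
  have := pow_orderOf_eq_one a
  rwa [ha, pow_two] at this

theorem inv_of_two {a : G} (ha : orderOf a = 2) : a⁻¹ = a :=
  inv_eq_of_mul_eq_one_left (sq_of_two ha)

theorem ne_one_of_two {a : G} (ha : orderOf a = 2) : a ≠ 1 := by
  intro h1
  rw [h1, orderOf_one] at ha
  omega

theorem two_of_sq {a : G} (haa : a * a = 1) (ha1 : a ≠ 1) : orderOf a = 2 := by
  apply orderOf_eq_prime
  · rw [pow_two, haa]
  · exact ha1

theorem conj_eq_iff {g a b : G} : g⁻¹ * a * g = b ↔ a = g * b * g⁻¹ := by
  constructor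
  · intro h; rw [← h]; group
  · intro h; rw [h]; group

namespace Res

variable {P : Sylow 3 G} {Q : Sylow 2 G} {k : G} (h : Res P Q k)
include h

/-- the involutions commuting with `k`, other than `k`. -/
theorem inv_comm_k {b : G} (hb : orderOf b = 2) (hbk : b ≠ k) (hc : b * k = k * b) :
    ∃ x ∈ (P : Subgroup G), ∃ q ∈ (Q : Subgroup G), q ≠ 1 ∧ q ≠ k ∧ b = x * q := by
  have hbN : b ∈ Subgroup.normalizer ((P : Subgroup G) : Set G) := by
    rw [← h.hCk, Subgroup.mem_centralizer_iff]
    intro z hz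
    rw [Set.mem_singleton_iff] at hz
    rw [hz]; exact hc.symm
  rcases h.inv_N hbN (sq_of_two hb) with h1 | h1 | h1
  · exact absurd h1 (ne_one_of_two hb)
  · exact absurd h1 hbk
  · exact h1

/-- the common neighbours of `k` and an involution `b` commuting with `k`. -/
theorem common_k {b z : G} (hb : orderOf b = 2) (hbk : b ≠ k) (hc : b * k = k * b)
    (hz : CN k b z) : z = b * k := by
  obtain ⟨hz2, hzk, hzb, hzck, hzcb⟩ := hz
  obtain ⟨x, hx, q, hq, hq1, hqk, rfl⟩ := h.inv_comm_k hb hbk hc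
  obtain ⟨x', hx', q', hq', hq'1, hq'k, rfl⟩ := h.inv_comm_k hz2 hzk hzck
  -- commutation gives `x' = x`
  have e1 : x' * q' * (x * q) = x' * x⁻¹ * (q' * q) := by
    have := h.hinv q' hq' hq'1 hq'k x hx
    calc x' * q' * (x * q) = x' * (q' * x * q'⁻¹) * (q' * q) := by group
      _ = x' * x⁻¹ * (q' * q) := by rw [this]
  have e2 : x * q * (x' * q') = x * x'⁻¹ * (q' * q) := by
    have := h.hinv q hq hq1 hqk x' hx'
    calc x * q * (x' * q') = x * (q * x' * q⁻¹) * (q * q') := by group
      _ = x * x'⁻¹ * (q * q') := by rw [this]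
      _ = x * x'⁻¹ * (q' * q) := by rw [h.Q_comm hq hq']
  rw [e1, e2] at hzcb
  have e3 : x' * x⁻¹ = x * x'⁻¹ := mul_right_cancel hzcb
  have e4 : (x' * x⁻¹) * (x' * x⁻¹) = 1 := by
    nth_rewrite 1 [e3]
    group
  have e5 : x' * x⁻¹ = 1 :=
    h.P_sq ((P : Subgroup G).mul_mem hx' ((P : Subgroup G).inv_mem hx)) e4
  have e6 : x' = x := by
    have := mul_inv_eq_one.1 e5
    exact this
  subst e6
  have hne : q' ≠ q := by
    intro h1
    apply hzb
    rw [h1]
  rw [h.Q_four hq hq' hq1 hqk hq'1 hq'k hne]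
  group

/-- commuting case. -/
theorem common_comm {a b : G} (ha : orderOf a = 2) (hb : orderOf b = 2) (hne : a ≠ b)
    (hc : a * b = b * a) : CN a b (a * b) ∧ ∀ z, CN a b z → z = a * b := by
  have haa := sq_of_two ha
  have hbb := sq_of_two hb
  have ha1 := ne_one_of_two ha
  have hb1 := ne_one_of_two hb
  constructor
  · refine ⟨?_, ?_, ?_, ?_, ?_⟩
    · apply two_of_sq
      · calc a * b * (a * b) = a * (b * a) * b := by group
          _ = a * (a * b) * b := by rw [hc]
          _ = (a * a) * (b * b) := by group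
          _ = 1 := by rw [haa, hbb, one_mul]
      · intro h1
        apply hne
        have := eq_inv_of_mul_eq_one_left h1
        rwa [inv_of_two hb] at this
    · intro h1
      apply hb1
      simpa using h1
    · intro h1
      apply ha1
      simpa using h1
    · calc a * b * a = a * (b * a) := by group
        _ = a * (a * b) := by rw [hc]
    · calc a * b * b = (b * a) * b := by rw [hc]
        _ = b * (a * b) := by group
  · intro z hz
    obtain ⟨hz2, hza, hzb, hzca, hzcb⟩ := hz
    obtain ⟨g, rfl⟩ := h.all_conj ha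
    -- conjugate back
    set b' := g⁻¹ * b * g with hb'
    set w := g⁻¹ * z * g with hw
    have hb'2 : orderOf b' = 2 := by
      have : b' = g⁻¹ * b * g⁻¹⁻¹ := by rw [inv_inv]
      rw [this, orderOf_conj', hb]
    have hw2 : orderOf w = 2 := by
      have : w = g⁻¹ * z * g⁻¹⁻¹ := by rw [inv_inv]
      rw [this, orderOf_conj', hz2]
    have hb'k : b' ≠ k := by
      intro h1
      apply hne
      rw [hb', conj_eq_iff] at h1
      exact h1.symm
    have hb'c : b' * k = k * b' := by
      have : b' * k = g⁻¹ * (b * (g * k * g⁻¹)) * g := by rw [hb']; group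
      rw [this, ← hc, hb']; group
    have hwcn : CN k b' w := by
      refine ⟨hw2, ?_, ?_, ?_, ?_⟩
      · intro h1
        apply hza
        rw [hw, conj_eq_iff] at h1
        exact h1
      · intro h1
        apply hzb
        have : g * w * g⁻¹ = g * b' * g⁻¹ := by rw [h1]
        rw [hw, hb'] at this
        calc z = g * (g⁻¹ * z * g) * g⁻¹ := by group
          _ = g * (g⁻¹ * b * g) * g⁻¹ := this
          _ = b := by group
      · have : w * k = g⁻¹ * (z * (g * k * g⁻¹)) * g := by rw [hw]; group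
        rw [this, hzca, hw]; group
      · have : w * b' = g⁻¹ * (z * b) * g := by rw [hw, hb']; group
        rw [this, hzcb, hw, hb']; group
    have hfin := h.common_k hb'2 hb'k hb'c hwcn
    calc z = g * w * g⁻¹ := by rw [hw]; group
      _ = g * (b' * k) * g⁻¹ := by rw [hfin]
      _ = b * (g * k * g⁻¹) := by rw [hb']; group
      _ = g * k * g⁻¹ * b := hc.symm

/-- non-commuting case. -/
theorem common_noncomm {a b : G} (ha : orderOf a = 2) (hb : orderOf b = 2)
    (hnc : a * b ≠ b * a) : ∃ z₀, CN a b z₀ ∧ ∀ z, CN a b z → z = z₀ := by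
  have haa := sq_of_two ha
  have hbb := sq_of_two hb
  have hai := inv_of_two ha
  have hbi := inv_of_two hb
  set x := a * b with hx
  have hxi : x⁻¹ = b * a := by rw [hx, mul_inv_rev, hai, hbi]
  have hax : a * x * a⁻¹ = x⁻¹ := by
    rw [hxi, hx, hai]
    calc a * (a * b) * a = (a * a) * b * a := by group
      _ = b * a := by rw [haa, one_mul]
  have hbx : b * x * b⁻¹ = x⁻¹ := by
    rw [hxi, hx, hbi]
    calc b * (a * b) * b = b * a * (b * b) := by group
      _ = b * a := by rw [hbb, mul_one]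
  have hconjpow : ∀ (c : G) (n : ℕ), c * x * c⁻¹ = x⁻¹ → c * x ^ n * c⁻¹ = (x ^ n)⁻¹ := by
    intro c n hcx
    have : c * x ^ n * c⁻¹ = MulAut.conj c (x ^ n) := by simp
    rw [this, map_pow]
    have h2 : MulAut.conj c x = x⁻¹ := by simpa using hcx
    rw [h2, inv_pow]
  obtain ⟨e, m, hm, ho⟩ := Nat.exists_eq_pow_mul_and_not_dvd (orderOf_pos x).ne' 3 (by norm_num)
  set y := x ^ (3 ^ e) with hy
  have hyo : orderOf y = m := by
    rw [hy, orderOf_pow_of_dvd (pow_ne_zero _ (by norm_num)) ⟨m, ho⟩, ho,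
      Nat.mul_div_cancel_left _ (pow_pos (by norm_num) e)]
  have hyy : y * y = 1 :=
    sq_of_inverted h.hab haa (by rw [hyo]; exact hm) (hconjpow a _ hax)
  set x3 := x * x with hx3
  have hx3pow : x3 ^ (3 ^ e) = 1 := by
    rw [hx3, ← pow_two, ← pow_mul, mul_comm, pow_mul, ← hy, pow_two, hyy]
  have hx3ne : x3 ≠ 1 := by
    intro h1
    apply hnc
    have h2 : x = x⁻¹ := eq_inv_of_mul_eq_one_left h1
    rw [hxi] at h2
    exact h2
  have hax3 : a * x3 * a⁻¹ = x3⁻¹ := by
    have := hconjpow a 2 hax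
    rwa [pow_two] at this
  have hbx3 : b * x3 * b⁻¹ = x3⁻¹ := by
    have := hconjpow b 2 hbx
    rwa [pow_two] at this
  obtain ⟨t, ht⟩ := exists_conj_mem_sylow P x3 e hx3pow
  set u := t⁻¹ * x3 * t with hu
  have hu1 : u ≠ 1 := by
    intro h1
    apply hx3ne
    rw [hu, conj_eq_iff] at h1
    rw [h1]; group
  have hx3u : x3 = t * u * t⁻¹ := by rw [hu]; group
  set z₀ := t * k * t⁻¹ with hz₀
  have hz₀2 : orderOf z₀ = 2 := by rw [hz₀, orderOf_conj', h.hk]
  have hz₀x3 : z₀ * x3 = x3 * z₀ := by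
    rw [hz₀, hx3u]
    calc t * k * t⁻¹ * (t * u * t⁻¹) = t * (k * u) * t⁻¹ := by group
      _ = t * (u * k) * t⁻¹ := by rw [h.k_comm ht]
      _ = t * u * t⁻¹ * (t * k * t⁻¹) := by group
  -- a general element inverting `x3` commutes with `z₀` and differs from it
  have key : ∀ c : G, c * x3 * c⁻¹ = x3⁻¹ → z₀ * c = c * z₀ ∧ z₀ ≠ c := by
    intro c hc
    have hcu : (t⁻¹ * c * t) * u * (t⁻¹ * c * t)⁻¹ = u⁻¹ := by
      rw [hu]
      calc t⁻¹ * c * t * (t⁻¹ * x3 * t) * (t⁻¹ * c * t)⁻¹ = t⁻¹ * (c * x3 * c⁻¹) * t := by group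
        _ = (t⁻¹ * x3 * t)⁻¹ := by rw [hc]; group
    have h1 := h.comm_k_of_inverts ht hu1 hcu
    constructor
    · rw [hz₀]
      calc t * k * t⁻¹ * c = t * (k * (t⁻¹ * c * t)) * t⁻¹ := by group
        _ = t * ((t⁻¹ * c * t) * k) * t⁻¹ := by rw [h1]
        _ = c * (t * k * t⁻¹) := by group
    · intro h2
      rw [← h2] at hc
      have h3 : z₀ * x3 * z₀⁻¹ = x3 := by rw [hz₀x3]; group
      rw [h3] at hc
      have h4 : u = u⁻¹ := by
        rw [hu]
        nth_rewrite 1 [hc]
        group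
      exact h.ne_inv ht hu1 h4
  refine ⟨z₀, ⟨hz₀2, (key a hax3).2, (key b hbx3).2, (key a hax3).1, (key b hbx3).1⟩, ?_⟩
  intro z hz
  obtain ⟨hz2, -, -, hzca, hzcb⟩ := hz
  have hzx : z * x = x * z := by
    rw [hx]
    calc z * (a * b) = (z * a) * b := by group
      _ = (a * z) * b := by rw [hzca]
      _ = a * (z * b) := by group
      _ = a * (b * z) := by rw [hzcb]
      _ = a * b * z := by group
  have hzx3 : z * x3 = x3 * z := by
    rw [hx3]
    calc z * (x * x) = (z * x) * x := by group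
      _ = (x * z) * x := by rw [hzx]
      _ = x * (z * x) := by group
      _ = x * (x * z) := by rw [hzx]
      _ = x * x * z := by group
  set w := t⁻¹ * z * t with hw
  have hww : w * w = 1 := by
    rw [hw]
    calc t⁻¹ * z * t * (t⁻¹ * z * t) = t⁻¹ * (z * z) * t := by group
      _ = 1 := by rw [sq_of_two hz2]; group
  have hw1 : w ≠ 1 := by
    intro h1
    apply ne_one_of_two hz2
    rw [hw, conj_eq_iff] at h1
    rw [h1]; group
  have hwu : w * u = u * w := by
    rw [hw, hu]
    calc t⁻¹ * z * t * (t⁻¹ * x3 * t) = t⁻¹ * (z * x3) * t := by group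
      _ = t⁻¹ * (x3 * z) * t := by rw [hzx3]
      _ = t⁻¹ * x3 * t * (t⁻¹ * z * t) := by group
  have hwk := h.eq_k_of_comm ht hu1 hww hw1 hwu
  rw [hz₀, ← hwk, hw]; group

end Res

end Cfsg.Agent.Lead.ResK4
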