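import Mathlib
import Cfsg.Agent.Lead.ResK4C
import Cfsg.Agent.Lead.FriendReg

/-!
S4016, residual case `p = 3`: the commuting graph on involutions would be a regular friendship
graph of degree at least `3`.
-/

set_option autoImplicit false
set_option linter.unusedSectionVars false

namespace Cfsg.Agent.Lead.ResK4

open Classical

variable {G : Type*} [Group G] [Finite G]

/-- the involutions. -/
abbrev Inv (G : Type*) [Group G] : Type _ := {t : G // orderOf t = 2}

noncomputable instance : Fintype (Inv G) := Fintype.ofFinite _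

/-- commuting distinct involutions. -/
def adj (a b : Inv G) : Prop := a ≠ b ∧ a.1 * b.1 = b.1 * a.1

/-- conjugation on involutions. -/
def conjInv (g : G) : Inv G ≃ Inv G where
  toFun a := ⟨g * a.1 * g⁻¹, by rw [orderOf_conj', a.2]⟩
  invFun a := ⟨g⁻¹ * a.1 * g, by
    have : g⁻¹ * a.1 * g = g⁻¹ * a.1 * g⁻¹⁻¹ := by rw [inv_inv]
    rw [this, orderOf_conj', a.2]⟩
  left_inv a := by apply Subtype.ext; simp only []; group
  right_inv a := by apply Subtype.ext; simp only []; group

theorem adj_conjInv (g : G) (a b : Inv G) : adj (conjInv g a) (conjInv g b) ↔ adj a b := by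
  unfold adj
  constructor
  · rintro ⟨h1, h2⟩
    refine ⟨fun h => h1 (by rw [h]), ?_⟩
    have h3 : g * a.1 * g⁻¹ * (g * b.1 * g⁻¹) = g * b.1 * g⁻¹ * (g * a.1 * g⁻¹) := h2
    calc a.1 * b.1 = g⁻¹ * (g * a.1 * g⁻¹ * (g * b.1 * g⁻¹)) * g := by group
      _ = g⁻¹ * (g * b.1 * g⁻¹ * (g * a.1 * g⁻¹)) * g := by rw [h3]
      _ = b.1 * a.1 := by group
  · rintro ⟨h1, h2⟩
    refine ⟨fun h => h1 ((conjInv g).injective h), ?_⟩
    show g * a.1 * g⁻¹ * (g * b.1 * g⁻¹) = g * b.1 * g⁻¹ * (g * a.1 * g⁻¹)
    calc g * a.1 * g⁻¹ * (g * b.1 * g⁻¹) = g * (a.1 * b.1) * g⁻¹ := by group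
      _ = g * (b.1 * a.1) * g⁻¹ := by rw [h2]
      _ = g * b.1 * g⁻¹ * (g * a.1 * g⁻¹) := by group

/-- **The residual case of S4016 is impossible.** -/
theorem false_of_residual (P : Sylow 3 G) (hP1 : (P : Subgroup G) ≠ ⊥)
    (hab : ∀ H : Subgroup G, ¬ 3 ∣ Nat.card H → IsMulCommutative H)
    (hTI : ∀ g : G, (∃ u ∈ (P : Subgroup G), u ≠ 1 ∧ g * u * g⁻¹ ∈ (P : Subgroup G)) →
      g ∈ Subgroup.normalizer ((P : Subgroup G) : Set G))
    (k : G) (hk : orderOf k = 2)
    (hCk : Subgroup.centralizer {k} = Subgroup.normalizer ((P : Subgroup G) : Set G))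
    (Q : Sylow 2 G) (hQ4 : Nat.card Q = 4) (hkQ : k ∈ (Q : Subgroup G))
    (hQN : (Q : Subgroup G) ≤ Subgroup.normalizer ((P : Subgroup G) : Set G))
    (hNcard : Nat.card (Subgroup.normalizer ((P : Subgroup G) : Set G)) = 4 * Nat.card P)
    (hinv : ∀ s ∈ (Q : Subgroup G), s ≠ 1 → s ≠ k → ∀ x ∈ (P : Subgroup G), s * x * s⁻¹ = x⁻¹)
    (hconj : ∀ s ∈ (Q : Subgroup G), s ≠ 1 → ∃ g : G, g * k * g⁻¹ = s) : False := by
  have h : Res P Q k := ⟨hP1, hab, hTI, hk, hCk, hQ4, hkQ, hQN, hNcard, hinv, hconj⟩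
  let k₀ : Inv G := ⟨k, hk⟩
  have : Nonempty (Inv G) := ⟨k₀⟩
  set d : ℕ := (Finset.univ.filter (fun c : Inv G => adj k₀ c)).card with hd
  -- regularity
  have hreg : ∀ a : Inv G, (Finset.univ.filter (fun c : Inv G => adj a c)).card = d := by
    intro a
    obtain ⟨g, hg⟩ := h.all_conj a.2
    have ha : a = conjInv g k₀ := Subtype.ext hg.symm
    rw [hd]
    symm
    apply Finset.card_equiv (conjInv g)
    intro c
    simp only [Finset.mem_filter, Finset.mem_univ, true_and]
    rw [ha, adj_conjInv]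
  -- degree at least three
  have hd3 : 3 ≤ d := by
    obtain ⟨s, hs, hs1, hsk⟩ := h.exists_s
    obtain ⟨x, hx, hx1⟩ : ∃ x ∈ (P : Subgroup G), x ≠ 1 := by
      by_contra hcon
      push Not at hcon
      apply hP1
      rw [Subgroup.eq_bot_iff_forall]
      exact hcon
    have hss := h.Q_sq hs
    have hsc : s * k = k * s := h.Q_comm hs h.hkQ
    have hskQ : s * k ∈ (Q : Subgroup G) := (Q : Subgroup G).mul_mem hs h.hkQ
    have hsk1 : s * k ≠ 1 := by
      intro h1
      apply hsk
      have := eq_inv_of_mul_eq_one_left h1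
      rwa [h.k_inv] at this
    have hskk : s * k ≠ k := by
      intro h1; apply hs1; simpa using h1
    have hxs_sq : x * s * (x * s) = 1 := by
      have h1 := h.hinv s hs hs1 hsk x hx
      calc x * s * (x * s) = x * (s * x * s⁻¹) * (s * s) := by group
        _ = 1 := by rw [h1, hss]; group
    have hxs1 : x * s ≠ 1 := by
      intro h1
      have h2 : s = x⁻¹ := by
        have := eq_inv_of_mul_eq_one_right h1
        exact this
      apply hs1
      apply h.P_sq _ hss
      rw [h2]; exact (P : Subgroup G).inv_mem hx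
    have hxsk : x * s ≠ k := by
      intro h1
      have h2 : x = k * s := by
        calc x = x * s * s⁻¹ := by group
          _ = k * s := by rw [h1, h.Q_inv hs]
      apply hx1
      apply h.P_sq hx
      rw [h2]
      exact h.Q_sq ((Q : Subgroup G).mul_mem h.hkQ hs)
    let v1 : Inv G := ⟨s, two_of_sq hss hs1⟩
    let v2 : Inv G := ⟨s * k, two_of_sq (h.Q_sq hskQ) hsk1⟩
    let v3 : Inv G := ⟨x * s, two_of_sq hxs_sq hxs1⟩
    have a1 : adj k₀ v1 := by
      refine ⟨fun h1 => hsk (congrArg Subtype.val h1).symm, ?_⟩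
      exact hsc.symm
    have a2 : adj k₀ v2 := by
      refine ⟨fun h1 => hskk (congrArg Subtype.val h1).symm, ?_⟩
      show k * (s * k) = s * k * k
      rw [← mul_assoc, ← hsc]
    have a3 : adj k₀ v3 := by
      refine ⟨fun h1 => hxsk (congrArg Subtype.val h1).symm, ?_⟩
      show k * (x * s) = x * s * k
      calc k * (x * s) = (k * x) * s := by group
        _ = (x * k) * s := by rw [h.k_comm hx]
        _ = x * (k * s) := by group
        _ = x * (s * k) := by rw [hsc]
        _ = x * s * k := by group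
    have n12 : v1 ≠ v2 := by
      intro h1
      have h2 : s = s * k := congrArg Subtype.val h1
      apply h.k_ne_one
      have : s * 1 = s * k := by rw [mul_one]; exact h2
      exact (mul_left_cancel this).symm
    have n13 : v1 ≠ v3 := by
      intro h1
      have h2 : s = x * s := congrArg Subtype.val h1
      apply hx1
      have : 1 * s = x * s := by rw [one_mul]; exact h2
      exact (mul_right_cancel this).symm
    have n23 : v2 ≠ v3 := by
      intro h1
      have h2 : s * k = x * s := congrArg Subtype.val h1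
      have h3 : x = k := by
        calc x = x * s * s⁻¹ := by group
          _ = s * k * s⁻¹ := by rw [h2]
          _ = k * s * s⁻¹ := by rw [hsc]
          _ = k := by group
      exact h.k_not_mem_P (h3 ▸ hx)
    have hsub : ({v1, v2, v3} : Finset (Inv G)) ⊆
        Finset.univ.filter (fun c : Inv G => adj k₀ c) := by
      intro c hc
      simp only [Finset.mem_insert, Finset.mem_singleton] at hc
      simp only [Finset.mem_filter, Finset.mem_univ, true_and]
      rcases hc with rfl | rfl | rfl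
      · exact a1
      · exact a2
      · exact a3
    have hc3 : ({v1, v2, v3} : Finset (Inv G)).card = 3 := by
      rw [Finset.card_insert_of_notMem, Finset.card_insert_of_notMem, Finset.card_singleton]
      · simp only [Finset.mem_singleton]; exact n23
      · simp only [Finset.mem_insert, Finset.mem_singleton, not_or]; exact ⟨n12, n13⟩
    rw [hd, ← hc3]
    exact Finset.card_le_card hsub
  -- friendship
  have hfr : ∀ a b : Inv G, a ≠ b →
      (Finset.univ.filter (fun c : Inv G => adj a c ∧ adj b c)).card = 1 := by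
    intro a b hne
    have hne' : a.1 ≠ b.1 := fun h1 => hne (Subtype.ext h1)
    have hex : ∃ z₀ : G, CN a.1 b.1 z₀ ∧ ∀ z, CN a.1 b.1 z → z = z₀ := by
      by_cases hc : a.1 * b.1 = b.1 * a.1
      · exact ⟨_, h.common_comm a.2 b.2 hne' hc⟩
      · exact h.common_noncomm a.2 b.2 hc
    obtain ⟨z₀, hz₀, huniq⟩ := hex
    rw [Finset.card_eq_one]
    refine ⟨⟨z₀, hz₀.1⟩, ?_⟩
    ext c
    simp only [Finset.mem_filter, Finset.mem_univ, true_and, Finset.mem_singleton]
    constructor
    · rintro ⟨⟨h1, h2⟩, ⟨h3, h4⟩⟩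
      apply Subtype.ext
      apply huniq
      refine ⟨c.2, ?_, ?_, h2.symm, h4.symm⟩
      · intro h5; exact h1 (Subtype.ext h5.symm)
      · intro h5; exact h3 (Subtype.ext h5.symm)
    · rintro rfl
      obtain ⟨-, h1, h2, h3, h4⟩ := hz₀
      refine ⟨⟨?_, h3.symm⟩, ⟨?_, h4.symm⟩⟩
      · intro h5; exact h1 (congrArg Subtype.val h5).symm
      · intro h5; exact h2 (congrArg Subtype.val h5).symm
  exact Cfsg.Agent.Lead.FriendReg.false_of_regular (V := Inv G) adj
    (fun a b hab' => ⟨fun h1 => hab'.1 h1.symm, hab'.2.symm⟩) (fun a ha => ha.1 rfl)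
    d hd3 hreg hfr

end Cfsg.Agent.Lead.ResK4
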