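import Mathlib
import Cfsg.Agent.Lead.CycSylJ
import Cfsg.Agent.Lead.ResK4

/-!
S4016: the case `C_B(P) ≠ 1`, part five: reduction to the residual configuration.
-/

set_option autoImplicit false
set_option linter.unusedSectionVars false

namespace Cfsg.Agent.Lead.CycSyl

open Classical

variable {G : Type*} [Group G] [Finite G] {p : ℕ} [hp : Fact p.Prime]

namespace MC

variable {P : Sylow p G} {B : Subgroup G} (h : MC P B)
include h

variable {z₀ : G} (hz₀P : z₀ ∈ (P : Subgroup G)) (hz₀ : orderOf z₀ = p)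
include hz₀P hz₀

theorem comm_z0_of_cent {k : G} (hkc : ∀ y ∈ (P : Subgroup G), k * y * k⁻¹ = y) :
    k * z₀ = z₀ * k := by
  have := hkc z₀ hz₀P
  calc k * z₀ = (k * z₀ * k⁻¹) * k := by group
    _ = z₀ * k := by rw [this]

/-- a Sylow subgroup containing a non-trivial element of `K` lies in `N_G(P)`. -/
theorem sylow_le_N {k : G} (hkB : k ∈ B) (hk1 : k ≠ 1)
    (hkc : ∀ y ∈ (P : Subgroup G), k * y * k⁻¹ = y) {r : ℕ} [hr : Fact r.Prime] (hrp : r ≠ p)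
    (Q : Sylow r G) (hkQ : k ∈ (Q : Subgroup G)) :
    (Q : Subgroup G) ≠ ⊥ ∧
      (Q : Subgroup G) ≤ Subgroup.normalizer ((P : Subgroup G) : Set G) := by
  have hQ1 : (Q : Subgroup G) ≠ ⊥ := by
    intro e
    rw [e, Subgroup.mem_bot] at hkQ
    exact hk1 hkQ
  refine ⟨hQ1, ?_⟩
  rw [← h.cent_eq_N hkB hk1 hkc]
  intro x hx
  rw [Subgroup.mem_centralizer_iff]
  intro y hy
  rw [Set.mem_singleton_iff] at hy
  subst hy
  exact h.Q_comm hrp Q hQ1 hkQ hx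

/-- an element of `K` of prime order `r` forces `r = 2`, `p = 3`. -/
theorem prime_eq_two {k : G} (hkB : k ∈ B) (hkc : ∀ y ∈ (P : Subgroup G), k * y * k⁻¹ = y)
    {r : ℕ} (hr : r.Prime) (hk : orderOf k = r) : r = 2 ∧ p = 3 := by
  have : Fact r.Prime := ⟨hr⟩
  have hrp : r ≠ p := by
    intro e
    have h1 := h.B_coprime hkB
    rw [hk, e] at h1
    exact hp.out.one_lt.ne' ((Nat.coprime_self p).1 h1)
  have hk1 : k ≠ 1 := by
    intro e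
    rw [e, orderOf_one] at hk
    exact hr.one_lt.ne hk
  have hzp : IsPGroup r (Subgroup.zpowers k) :=
    IsPGroup.of_card (n := 1) (by rw [Nat.card_zpowers, hk, pow_one])
  obtain ⟨Q, hQ⟩ := hzp.exists_le_sylow
  have hkQ : k ∈ (Q : Subgroup G) := hQ (Subgroup.mem_zpowers k)
  obtain ⟨hQ1, hQN⟩ := h.sylow_le_N hz₀P hz₀ hkB hk1 hkc hrp Q hkQ
  obtain ⟨v, hvQ, ⟨j, hvp⟩, hvC⟩ := h.exists_v hrp Q hQ1
  exact h.qp hz₀P hz₀ hrp Q hQN hvQ hvp hvC hkQ (h.comm_z0_of_cent hz₀P hz₀ hkc) hk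

/-- when `p = 3`, `B` is a `2`-group. -/
theorem B_two_group (hp3 : p = 3) {b : G} (hb : b ∈ B) : ∃ j : ℕ, b ^ 2 ^ j = 1 := by
  have hNZ := h.N_le_normZ hz₀P hz₀
  have hcA : Nat.card (MulAut (Subgroup.zpowers z₀)) = 2 := by
    rw [card_mulAut_of_prime_card (h.card_Z hz₀P hz₀), hp3]
  have hprime : ∀ r : ℕ, r.Prime → r ∣ orderOf b → r = 2 := by
    intro r hr hrd
    by_contra hr2
    set b' := b ^ (orderOf b / r) with hb'
    have hb'B : b' ∈ B := B.pow_mem hb _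
    have hob' : orderOf b' = r := orderOf_pow_orderOf_div (orderOf_pos b).ne' hrd
    set b'' := b' ^ 2 with hb''
    have hb''B : b'' ∈ B := B.pow_mem hb'B _
    have hcop : Nat.Coprime r 2 := by
      rw [Nat.coprime_primes hr Nat.prime_two]; exact hr2
    have hob'' : orderOf b'' = r := by
      rw [hb'', Nat.Coprime.orderOf_pow (by rw [hob']; exact hcop), hob']
    have hb'N := hNZ (h.hBN hb'B)
    have h1 : (Cfsg.Agent.Lead.conjAut (Subgroup.zpowers z₀) b' hb'N) ^ 2 = 1 := by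
      rw [← hcA]; exact pow_card_eq_one'
    have h2 : b'' * z₀ * b''⁻¹ = z₀ := by
      have h3 := congrArg (fun α : MulAut (Subgroup.zpowers z₀) =>
        ((α ⟨z₀, Subgroup.mem_zpowers z₀⟩ : Subgroup.zpowers z₀) : G)) h1
      simp only [Cfsg.Agent.Lead.conjAut_pow_apply, MulAut.one_apply] at h3
      exact h3
    have hb''c := h.cent_of_fix (h.hBN hb''B) (h.B_coprime hb''B) hz₀P
      (h.z0_ne_one hz₀P hz₀) h2
    exact hr2 (h.prime_eq_two hz₀P hz₀ hb''B hb''c hr hob'').1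
  have h2 : orderOf b = 2 ^ (orderOf b).primeFactorsList.length :=
    Nat.eq_prime_pow_of_unique_prime_dvd (orderOf_pos b).ne' (fun {d} hd hdd => hprime d hd hdd)
  exact ⟨_, by rw [← h2]; exact pow_orderOf_eq_one b⟩

/-! ### the residual configuration -/

variable (hp3 : p = 3) (Q : Sylow 2 G)
  (hQN : (Q : Subgroup G) ≤ Subgroup.normalizer ((P : Subgroup G) : Set G))
include hp3 hQN

variable {v : G} (hvQ : v ∈ Subgroup.normalizer ((Q : Subgroup G) : Set G)) {j : ℕ}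
  (hvp : v ^ p ^ j = 1) (hvC : v ∉ Subgroup.centralizer ((Q : Subgroup G) : Set G))
include hvQ hvp hvC

variable {k₁ : G} (hk₁Q : k₁ ∈ (Q : Subgroup G)) (hk₁c : k₁ * z₀ = z₀ * k₁)
  (hk₁q : orderOf k₁ = 2)
include hk₁Q hk₁c hk₁q

theorem two_ne_p : (2 : ℕ) ≠ p := by omega

theorem card_omega4 : 4 ≤ Nat.card {x : (Q : Subgroup G) // x ^ 2 = 1} := by
  have h2p := h.two_ne_p hz₀P hz₀ hp3 Q hQN hvQ hvp hvC hk₁Q hk₁c hk₁q
  have h1 := h.card_omega_ge hz₀P hz₀ h2p Q hQN hvQ hvp hvC hk₁Q hk₁c hk₁q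
  rw [hp3] at h1
  exact h1

theorem card_Q4 : Nat.card (Q : Subgroup G) = 4 := by
  have h2p := h.two_ne_p hz₀P hz₀ hp3 Q hQN hvQ hvp hvC hk₁Q hk₁c hk₁q
  have h1 := h.card_omega4 hz₀P hz₀ hp3 Q hQN hvQ hvp hvC hk₁Q hk₁c hk₁q
  have h2 : Nat.card {x : (Q : Subgroup G) // x ^ 2 = 1} ≤ Nat.card (Q : Subgroup G) :=
    Nat.card_le_card_of_injective Subtype.val Subtype.val_injective
  have h3 := h.card_Q_le hz₀P hz₀ h2p Q hQN hvQ hvp hvC
  rw [hp3] at h3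
  omega

theorem sq_eq_one {x : G} (hx : x ∈ (Q : Subgroup G)) : x * x = 1 := by
  have h1 := h.card_omega4 hz₀P hz₀ hp3 Q hQN hvQ hvp hvC hk₁Q hk₁c hk₁q
  have h4 := h.card_Q4 hz₀P hz₀ hp3 Q hQN hvQ hvp hvC hk₁Q hk₁c hk₁q
  have hb : Function.Bijective
      (Subtype.val : {x : (Q : Subgroup G) // x ^ 2 = 1} → (Q : Subgroup G)) :=
    Subtype.val_injective.bijective_of_nat_card_le (by rw [h4]; exact h1)
  obtain ⟨y, hy⟩ := hb.2 ⟨x, hx⟩
  have h5 : (⟨x, hx⟩ : (Q : Subgroup G)) ^ 2 = 1 := by rw [← hy]; exact y.2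
  have h6 : x ^ 2 = 1 := by
    have := congrArg Subtype.val h5
    simpa using this
  rw [← pow_two]; exact h6

theorem not_comm_of_ne {s : G} (hs : s ∈ (Q : Subgroup G)) (hs1 : s ≠ 1) (hsk : s ≠ k₁) :
    ¬ (s * z₀ = z₀ * s) := by
  intro hc
  have h2p := h.two_ne_p hz₀P hz₀ hp3 Q hQN hvQ hvp hvC hk₁Q hk₁c hk₁q
  obtain ⟨Φ, hΦ, hpow, hone⟩ := h.exists_Phi hz₀P hz₀ h2p Q hQN hvQ hvp hvC
  have hcA : Nat.card (MulAut (Subgroup.zpowers z₀)) = 2 := by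
    rw [card_mulAut_of_prime_card (h.card_Z hz₀P hz₀), hp3]
  have hΦ1 : Φ 1 = (1, 1) := by
    have := hpow 1 1 (pow_one 1)
    rw [pow_one, pow_one] at this
    exact Prod.ext this.1 this.2
  have hk1 : k₁ ≠ 1 := by
    intro e
    rw [e, orderOf_one] at hk₁q
    omega
  have hne : ∀ x : (Q : Subgroup G), x ≠ 1 → (x : G) * z₀ = z₀ * x → (Φ x).2 ≠ 1 := by
    intro x hx1 hxc h2
    apply hx1
    apply hΦ
    rw [hΦ1]
    exact Prod.ext (hone x hxc) h2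
  have hs' : (⟨s, hs⟩ : (Q : Subgroup G)) ≠ 1 := fun e => hs1 (congrArg Subtype.val e)
  have hk' : (⟨k₁, hk₁Q⟩ : (Q : Subgroup G)) ≠ 1 := fun e => hk1 (congrArg Subtype.val e)
  have e2 := eq_of_ne_one_of_card_two hcA (hne ⟨s, hs⟩ hs' hc) (hne ⟨k₁, hk₁Q⟩ hk' hk₁c)
  have e1 : (Φ ⟨s, hs⟩).1 = (Φ ⟨k₁, hk₁Q⟩).1 := by
    rw [hone ⟨s, hs⟩ hc, hone ⟨k₁, hk₁Q⟩ hk₁c]
  have := hΦ (Prod.ext e1 e2)
  exact hsk (congrArg Subtype.val this)

theorem inverts {s : G} (hs : s ∈ (Q : Subgroup G)) (hs1 : s ≠ 1) (hsk : s ≠ k₁) :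
    ∀ x ∈ (P : Subgroup G), s * x * s⁻¹ = x⁻¹ := by
  have hnc := h.not_comm_of_ne hz₀P hz₀ hp3 Q hQN hvQ hvp hvC hk₁Q hk₁c hk₁q hs hs1 hsk
  have hss := h.sq_eq_one hz₀P hz₀ hp3 Q hQN hvQ hvp hvC hk₁Q hk₁c hk₁q hs
  have hsN := hQN hs
  have h2p := h.two_ne_p hz₀P hz₀ hp3 Q hQN hvQ hvp hvC hk₁Q hk₁c hk₁q
  have hscop : (orderOf s).Coprime p :=
    coprime_orderOf_of_mem (not_dvd_card_sylow h2p Q) hs
  apply Cfsg.Agent.Lead.S3F.inverts_of_fpf (P : Subgroup G) s hss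
  · intro x hx
    exact (Subgroup.mem_normalizer_iff.1 hsN x).1 hx
  · intro x hx hfix
    by_contra hx1
    apply hnc
    have := h.cent_of_fix hsN hscop hx hx1 hfix z₀ hz₀P
    calc s * z₀ = (s * z₀ * s⁻¹) * s := by group
      _ = z₀ * s := by rw [this]

theorem all_conj {s : G} (hs : s ∈ (Q : Subgroup G)) (hs1 : s ≠ 1) :
    ∃ g : G, g * k₁ * g⁻¹ = s := by
  have h2p := h.two_ne_p hz₀P hz₀ hp3 Q hQN hvQ hvp hvC hk₁Q hk₁c hk₁q
  have h4 := h.card_Q4 hz₀P hz₀ hp3 Q hQN hvQ hvp hvC hk₁Q hk₁c hk₁q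
  obtain ⟨ψ, hψ, hψ1, -, hψv⟩ :=
    h.exists_psi hz₀P hz₀ h2p Q hQN hvQ hvp hvC hk₁Q hk₁c hk₁q
  have hs' : (⟨s, hs⟩ : (Q : Subgroup G)) ≠ 1 := fun e => hs1 (congrArg Subtype.val e)
  obtain ⟨t, ht⟩ := surj_of_card p 2 ψ hψ hψ1 (by rw [h4, hp3]) ⟨s, hs⟩ hs'
  have h5 := hψv t
  rw [ht] at h5
  have ht2 : (t.2 : ℕ) = 0 := by
    have := t.2.2
    omega
  rw [ht2, zero_add, pow_one] at h5
  exact ⟨v ^ (t.1 : ℕ), h5.symm⟩

theorem card_N4 (hBQ : B ≤ (Q : Subgroup G)) :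
    Nat.card (Subgroup.normalizer ((P : Subgroup G) : Set G)) =
      4 * Nat.card (P : Subgroup G) := by
  have h4 := h.card_Q4 hz₀P hz₀ hp3 Q hQN hvQ hvp hvC hk₁Q hk₁c hk₁q
  have hcardN : Nat.card (Subgroup.normalizer ((P : Subgroup G) : Set G)) =
      Nat.card B * Nat.card (P : Subgroup G) := by
    rw [← h.hPB]
    apply Cfsg.Agent.Helper1.card_sup_of_le_normalizer h.hBN
    rw [inf_comm]; exact h.PB_disj
  have h1 : Nat.card B ∣ 4 := by rw [← h4]; exact Subgroup.card_dvd_of_le hBQ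
  have h2 : 4 ∣ Nat.card B * Nat.card (P : Subgroup G) := by
    rw [← hcardN, ← h4]; exact Subgroup.card_dvd_of_le hQN
  obtain ⟨a, -, ha⟩ := h.card_P_pos
  have h3 : Nat.Coprime 4 (Nat.card (P : Subgroup G)) := by
    rw [ha, hp3]; exact Nat.Coprime.pow_right a (by norm_num)
  have h5 : 4 ∣ Nat.card B := h3.dvd_of_dvd_mul_right h2
  have h6 : Nat.card B = 4 := Nat.dvd_antisymm h1 h5
  rw [hcardN, h6]

end MC

end Cfsg.Agent.Lead.CycSyl
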