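import Mathlib
import Cfsg.Agent.Lead.CycSylK

/-!
S4016: the case `C_B(P) ≠ 1` is impossible; hence no minimal counterexample.
-/

set_option autoImplicit false
set_option linter.unusedSectionVars false

namespace Cfsg.Agent.Lead.CycSyl

open Classical

variable {G : Type*} [Group G] [Finite G] {p : ℕ} [hp : Fact p.Prime]

namespace MC

variable {P : Sylow p G} {B : Subgroup G} (h : MC P B)
include h

variable {z₀ : G} (hz₀P : z₀ ∈ (P : Subgroup G)) (hz₀ : orderOf z₀ = p)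
include hz₀P hz₀

/-- **the case `K ≠ 1` is impossible.** -/
theorem false_of_K_nontrivial {k : G} (hkB : k ∈ B) (hk1 : k ≠ 1)
    (hkc : ∀ y ∈ (P : Subgroup G), k * y * k⁻¹ = y) : False := by
  have ho1 : orderOf k ≠ 1 := fun e => hk1 (orderOf_eq_one_iff.1 e)
  set r := (orderOf k).minFac with hr
  have hrp : r.Prime := Nat.minFac_prime ho1
  have hrd : r ∣ orderOf k := Nat.minFac_dvd _
  set k₁ := k ^ (orderOf k / r) with hk₁
  have hk₁B : k₁ ∈ B := B.pow_mem hkB _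
  have hk₁o : orderOf k₁ = r := orderOf_pow_orderOf_div (orderOf_pos k).ne' hrd
  have hk₁c : ∀ y ∈ (P : Subgroup G), k₁ * y * k₁⁻¹ = y := by
    intro y hy
    have h1 : Commute k y := by
      have := hkc y hy
      calc k * y = (k * y * k⁻¹) * k := by group
        _ = y * k := by rw [this]
    have h2 : Commute k₁ y := h1.pow_left _
    calc k₁ * y * k₁⁻¹ = y * k₁ * k₁⁻¹ := by rw [h2.eq]
      _ = y := by group
  obtain ⟨hr2, hp3⟩ := h.prime_eq_two hz₀P hz₀ hk₁B hk₁c hrp hk₁o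
  rw [hr2] at hk₁o
  have hk₁1 : k₁ ≠ 1 := by
    intro e
    rw [e, orderOf_one] at hk₁o
    omega
  have hB2 : IsPGroup 2 B := by
    intro b
    obtain ⟨j, hj⟩ := h.B_two_group hz₀P hz₀ hp3 b.2
    exact ⟨j, Subtype.ext (by simpa using hj)⟩
  obtain ⟨Q, hBQ⟩ := hB2.exists_le_sylow
  have h2p : (2 : ℕ) ≠ p := by omega
  have hk₁Q : k₁ ∈ (Q : Subgroup G) := hBQ hk₁B
  obtain ⟨hQ1, hQN⟩ := h.sylow_le_N hz₀P hz₀ hk₁B hk₁1 hk₁c h2p Q hk₁Q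
  obtain ⟨v, hvQ, ⟨j, hvp⟩, hvC⟩ := h.exists_v h2p Q hQ1
  have hk₁z := h.comm_z0_of_cent hz₀P hz₀ hk₁c
  have hQ4 := h.card_Q4 hz₀P hz₀ hp3 Q hQN hvQ hvp hvC hk₁Q hk₁z hk₁o
  have hNcard := h.card_N4 hz₀P hz₀ hp3 Q hQN hvQ hvp hvC hk₁Q hk₁z hk₁o hBQ
  have hinv : ∀ s ∈ (Q : Subgroup G), s ≠ 1 → s ≠ k₁ →
      ∀ x ∈ (P : Subgroup G), s * x * s⁻¹ = x⁻¹ := fun s hs hs1 hsk =>
    h.inverts hz₀P hz₀ hp3 Q hQN hvQ hvp hvC hk₁Q hk₁z hk₁o hs hs1 hsk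
  have hconj : ∀ s ∈ (Q : Subgroup G), s ≠ 1 → ∃ g : G, g * k₁ * g⁻¹ = s := fun s hs hs1 =>
    h.all_conj hz₀P hz₀ hp3 Q hQN hvQ hvp hvC hk₁Q hk₁z hk₁o hs hs1
  have hCk := h.cent_eq_N hk₁B hk₁1 hk₁c
  have hTI : ∀ g : G, (∃ u ∈ (P : Subgroup G), u ≠ 1 ∧ g * u * g⁻¹ ∈ (P : Subgroup G)) →
      g ∈ Subgroup.normalizer ((P : Subgroup G) : Set G) := fun g hg => h.TI hz₀P hz₀ hg
  have hab := h.hab
  have hP1 := h.P_ne_bot
  clear_value k₁ r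
  subst hp3
  exact Cfsg.Agent.Lead.ResK4.false_of_residual P hP1 hab hTI k₁ hk₁o hCk Q hQ4 hk₁Q hQN
    hNcard hinv hconj

/-- **there is no minimal counterexample.** -/
theorem absurd : False := by
  by_cases hK : ∀ k ∈ B, (∀ y ∈ (P : Subgroup G), k * y * k⁻¹ = y) → k = 1
  · exact h.false_of_K_trivial hz₀P hz₀ hK
  · push Not at hK
    obtain ⟨k, hkB, hkc, hk1⟩ := hK
    exact h.false_of_K_nontrivial hz₀P hz₀ hkB hk1 hkc

end MC

theorem MC.false {P : Sylow p G} {B : Subgroup G} (h : MC P B) : False := by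
  obtain ⟨z₀, hz₀P, hz₀⟩ := h.exists_z0
  exact h.absurd hz₀P hz₀

end Cfsg.Agent.Lead.CycSyl
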