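import Mathlib
import Cfsg.Agent.Lead.CycSylL
import Cfsg.Agent.Helper1.Transfer1
import Cfsg.Agent.Helper1.FrobPCompl2
import Cfsg.Agent.Helper1.SplitResidual

/-!
S4016: the induction.
-/

set_option autoImplicit false
set_option linter.unusedSectionVars false

namespace Cfsg.Agent.Lead.CycSyl

open Classical

universe u

/-- a `p`-group embedded in a group with cyclic Sylow `p`-subgroups is cyclic. -/
theorem cyclic_of_pgroup {G : Type*} [Group G] [Finite G] {p : ℕ} [hp : Fact p.Prime]
    (P : Sylow p G) (hcyc : IsCyclic P) {H : Type*} [Group H] (f : H →* G)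
    (hf : Function.Injective f) (hH : IsPGroup p H) : IsCyclic H := by
  have hr : IsPGroup p f.range :=
    IsPGroup.of_surjective hH f.rangeRestrict f.rangeRestrict_surjective
  obtain ⟨Q, hQ⟩ := hr.exists_le_sylow
  obtain ⟨g, hg⟩ := MulAction.exists_smul_eq G P Q
  have e := P.equivSMul g
  have hQc : IsCyclic (Q : Subgroup G) := by
    subst hg
    exact isCyclic_of_surjective e e.surjective
  let φ : H →* (Q : Subgroup G) := (Subgroup.inclusion hQ).comp f.rangeRestrict
  have hφ : Function.Injective φ :=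
    (Subgroup.inclusion_injective hQ).comp (f.rangeRestrict_injective_iff.2 hf)
  exact isCyclic_of_injective φ hφ

theorem main_aux (n : ℕ) : ∀ (G : Type u) [Group G] [Finite G] (p : ℕ) [Fact p.Prime]
    (P : Sylow p G), Nat.card G = n → IsCyclic P →
    (∀ H : Subgroup G, ¬ p ∣ Nat.card H → IsMulCommutative H) →
    Cfsg.HasNormalPComplement p G ∨ (P : Subgroup G).Normal := by
  induction n using Nat.strong_induction_on with
  | _ n IH =>
  intro G _ _ p hp P hn hcyc hab
  by_contra hcon
  push Not at hcon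
  obtain ⟨hnpc, hPn⟩ := hcon
  -- the complement `B`
  have hPN : (P : Subgroup G) ≤ Subgroup.normalizer ((P : Subgroup G) : Set G) :=
    Subgroup.le_normalizer
  have hreldvd : (P : Subgroup G).relIndex (Subgroup.normalizer ((P : Subgroup G) : Set G)) ∣
      (P : Subgroup G).index := Dvd.intro _ (Subgroup.relIndex_mul_index hPN)
  have hcop : (Nat.card (P : Subgroup G)).Coprime
      ((P : Subgroup G).relIndex (Subgroup.normalizer ((P : Subgroup G) : Set G))) :=
    Nat.Coprime.coprime_dvd_right hreldvd P.card_coprime_index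
  obtain ⟨B, hBN, -, hPB, hBcard⟩ := Cfsg.Agent.Helper1.exists_complement_internal'
    (Subgroup.normalizer ((P : Subgroup G) : Set G)) (P : Subgroup G) hPN le_rfl hcop
  have hBp : ¬ p ∣ Nat.card B := by
    rw [hBcard]
    intro hd
    exact P.not_dvd_index (hd.trans hreldvd)
  -- subgroups
  have hih : ∀ M : Subgroup G, M ≠ ⊤ → IHsub p M := by
    intro M hM
    have hlt : Nat.card M < n := by
      rw [← hn]
      exact lt_of_le_of_ne (Subgroup.card_le_card_group M)
        (fun e => hM (Subgroup.eq_top_of_card_eq M e))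
    obtain ⟨PM⟩ : Nonempty (Sylow p M) := inferInstance
    have hcycM : IsCyclic PM :=
      cyclic_of_pgroup P hcyc (M.subtype.comp (PM : Subgroup M).subtype)
        (M.subtype_injective.comp (PM : Subgroup M).subtype_injective) PM.2
    have habM : ∀ H : Subgroup M, ¬ p ∣ Nat.card H → IsMulCommutative H := by
      intro H hH
      have h1 : ¬ p ∣ Nat.card (H.map M.subtype) := by
        rwa [Subgroup.card_map_of_injective M.subtype_injective]
      have h2 := hab _ h1
      refine ⟨⟨fun a b => ?_⟩⟩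
      have h3 := h2.is_comm.comm ⟨((a : M) : G), Subgroup.mem_map_of_mem _ a.2⟩
        ⟨((b : M) : G), Subgroup.mem_map_of_mem _ b.2⟩
      have h4 : ((a : M) : G) * ((b : M) : G) = ((b : M) : G) * ((a : M) : G) :=
        congrArg Subtype.val h3
      apply Subtype.ext
      apply Subtype.ext
      exact h4
    have hnorm_map : ∀ T' : Subgroup M, T'.Normal →
        M ≤ Subgroup.normalizer ((T'.map M.subtype : Subgroup G) : Set G) := by
      intro T' hT'n m hm
      apply Cfsg.Agent.Lead.S3F.mem_normalizer_of_conj_mem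
      rintro x ⟨y, hy, rfl⟩
      refine ⟨⟨m, hm⟩ * y * ⟨m, hm⟩⁻¹, hT'n.conj_mem y hy _, ?_⟩
      simp
    rcases IH _ hlt M p PM rfl hcycM habM with hc | hnorm
    · left
      obtain ⟨T', hT'n, hT'⟩ := (Cfsg.Agent.Helper1.hasNormalPComplement_iff PM).1 hc
      refine ⟨T'.map M.subtype, Subgroup.map_subtype_le T', hnorm_map T' hT'n, ?_, ?_⟩
      · rw [Subgroup.card_map_of_injective M.subtype_injective, ← hT'.index_eq_card]
        exact PM.not_dvd_index
      · intro x hx hcopx
        have hmem : (⟨x, hx⟩ : M) ∈ T' := by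
          rw [Cfsg.Agent.Helper1.mem_normal_complement_sylow_iff PM T' hT' ⟨x, hx⟩]
          rwa [Subgroup.orderOf_mk]
        exact ⟨⟨x, hx⟩, hmem, rfl⟩
    · right
      refine ⟨(PM : Subgroup M).map M.subtype, Subgroup.map_subtype_le _,
        hnorm_map _ hnorm, PM.2.map _, ?_⟩
      rintro x hx ⟨j, hj⟩
      have hxN : (⟨x, hx⟩ : M) ∈ Subgroup.normalizer ((PM : Subgroup M) : Set M) := by
        rw [Subgroup.normalizer_eq_top_iff.2 hnorm]; trivial
      have hmem := mem_sylow_of_ppow PM hxN (j := j) (Subtype.ext (by simpa using hj))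
      exact ⟨⟨x, hx⟩, hmem, rfl⟩
  -- quotients
  have hihq : ∀ K0 : Subgroup G, K0.Normal → K0 ≠ ⊥ → ¬ p ∣ Nat.card K0 →
      ((P : Subgroup G) ⊔ K0).Normal := by
    intro K0 hK0n hK0 hK0p
    have hsurj := QuotientGroup.mk'_surjective K0
    have hcardG : Nat.card G = Nat.card (G ⧸ K0) * Nat.card K0 :=
      Subgroup.card_eq_card_quotient_mul_card_subgroup K0
    have hK1 : 1 < Nat.card K0 := (Subgroup.one_lt_card_iff_ne_bot K0).2 hK0
    have hlt : Nat.card (G ⧸ K0) < n := by
      rw [← hn, hcardG]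
      have : 0 < Nat.card (G ⧸ K0) := Nat.card_pos
      nlinarith
    let Pbar : Sylow p (G ⧸ K0) := P.mapSurjective hsurj
    have hcycbar : IsCyclic Pbar := by
      have := hcyc
      exact isCyclic_of_surjective ((QuotientGroup.mk' K0).subgroupMap (P : Subgroup G))
        ((QuotientGroup.mk' K0).subgroupMap_surjective _)
    have hcomap : ∀ Hb : Subgroup (G ⧸ K0),
        Nat.card (Hb.comap (QuotientGroup.mk' K0)) = Nat.card Hb * Nat.card K0 := by
      intro Hb
      have h1 := Subgroup.index_comap_of_surjective Hb hsurj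
      have h2 := (Hb.comap (QuotientGroup.mk' K0)).card_mul_index
      have h3 := Hb.card_mul_index
      rw [h1] at h2
      have hpos : 0 < Hb.index := Nat.pos_of_ne_zero Hb.index_ne_zero_of_finite
      apply Nat.eq_of_mul_eq_mul_right hpos
      rw [h2, hcardG, ← h3]; ring
    have habbar : ∀ H : Subgroup (G ⧸ K0), ¬ p ∣ Nat.card H → IsMulCommutative H := by
      intro Hb hHb
      have h1 : ¬ p ∣ Nat.card (Hb.comap (QuotientGroup.mk' K0)) := by
        rw [hcomap]; exact Nat.Prime.not_dvd_mul hp.out hHb hK0p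
      have h2 := hab _ h1
      refine ⟨⟨fun a b => ?_⟩⟩
      obtain ⟨a', ha'⟩ := hsurj a.1
      obtain ⟨b', hb'⟩ := hsurj b.1
      have ha'm : a' ∈ Hb.comap (QuotientGroup.mk' K0) := by
        rw [Subgroup.mem_comap, ha']; exact a.2
      have hb'm : b' ∈ Hb.comap (QuotientGroup.mk' K0) := by
        rw [Subgroup.mem_comap, hb']; exact b.2
      have h3 := h2.is_comm.comm ⟨a', ha'm⟩ ⟨b', hb'm⟩
      have h4 : a' * b' = b' * a' := congrArg Subtype.val h3
      apply Subtype.ext
      change a.1 * b.1 = b.1 * a.1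
      rw [← ha', ← hb', ← map_mul, ← map_mul, h4]
    rcases IH _ hlt (G ⧸ K0) p Pbar rfl hcycbar habbar with hc | hnorm
    · exfalso
      apply hnpc
      obtain ⟨Lb, hLbn, hLb⟩ := (Cfsg.Agent.Helper1.hasNormalPComplement_iff Pbar).1 hc
      set L := Lb.comap (QuotientGroup.mk' K0) with hL
      have hLn : L.Normal := hLbn.comap _
      have hLcard : Nat.card L = Nat.card Lb * Nat.card K0 := hcomap Lb
      have hLbcop : ¬ p ∣ Nat.card Lb := by
        rw [← hLb.index_eq_card]; exact Pbar.not_dvd_index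
      have hcopL : Nat.Coprime (Nat.card L) p := by
        rw [hLcard]
        exact Nat.Coprime.mul_left ((Nat.Prime.coprime_iff_not_dvd hp.out).2 hLbcop).symm
          ((Nat.Prime.coprime_iff_not_dvd hp.out).2 hK0p).symm
      obtain ⟨a, ha⟩ := IsPGroup.iff_card.1 Pbar.2
      have hidx : L.index = p ^ a := by
        rw [hL, Subgroup.index_comap_of_surjective Lb hsurj, hLb.symm.index_eq_card, ha]
      exact ⟨P, L, hLn,
        Cfsg.Agent.Helper1.isComplement'_sylow_of_coprime_of_index_ppow L P hcopL hidx⟩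
    · have h1 : ((Pbar : Subgroup (G ⧸ K0)).comap (QuotientGroup.mk' K0)).Normal :=
        hnorm.comap _
      have h2 : (Pbar : Subgroup (G ⧸ K0)).comap (QuotientGroup.mk' K0) =
          (P : Subgroup G) ⊔ K0 := by
        rw [Sylow.coe_mapSurjective, Subgroup.comap_map_eq, QuotientGroup.ker_mk']
      rwa [h2] at h1
  exact MC.false (⟨hcyc, hab, hnpc, hPn, hih, hihq, hBN, hBp, hPB⟩ : MC P B)

/-- **S4016.** -/
theorem main {G : Type u} [Group G] [Finite G] {p : ℕ} [Fact p.Prime] (P : Sylow p G)
    (hcyc : IsCyclic P) (hab : ∀ H : Subgroup G, ¬ p ∣ Nat.card H → IsMulCommutative H) :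
    Cfsg.HasNormalPComplement p G ∨ (P : Subgroup G).Normal :=
  main_aux (Nat.card G) G p P rfl hcyc hab

end Cfsg.Agent.Lead.CycSyl
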