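import Mathlib
import Cfsg.Prelude.Def_PLocal
import Cfsg.Prelude.Def_Local
import Cfsg.Agent.Helper1.OddQuadratic3
import Cfsg.Agent.Helper1.FrattiniAct
import Cfsg.Agent.Helper1.PGroup

set_option autoImplicit false

/-!
A solvable group of odd order whose Sylow `p`-subgroup has cyclic derived subgroup has
`p`-length one.
-/

namespace Cfsg.Agent.Lead.CyclicDerivedPLen

universe u
open scoped commutatorElement Pointwise
open Cfsg.Agent.Helper1 Cfsg.Agent.Helper1.OddGL2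

/-- a `p`-element normalizing a cyclic group of exponent `p` centralizes it -/
theorem centralizes_cyclic_exp_p {H : Type*} [Group H] {p : ℕ} [hp : Fact p.Prime] (W : Subgroup H)
    (hWc : IsCyclic W) (hexp : ∀ w ∈ W, w ^ p = 1) (x : H) (hxW : ∀ w ∈ W, x * w * x⁻¹ ∈ W)
    (k : ℕ) (hx : x ^ (p ^ k) = 1) : ∀ w ∈ W, x * w * x⁻¹ = w := by
  obtain ⟨g, hg⟩ := hWc.exists_generator
  obtain ⟨w₀, hw₀⟩ : ∃ w₀ : H, w₀ = (g : H) := ⟨_, rfl⟩
  have hw₀W : w₀ ∈ W := hw₀ ▸ g.2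
  have hgen : ∀ w ∈ W, ∃ i : ℤ, w = w₀ ^ i := by
    intro w hw
    obtain ⟨i, hi⟩ := Subgroup.mem_zpowers_iff.1 (hg ⟨w, hw⟩)
    refine ⟨i, ?_⟩
    have := congrArg Subtype.val hi
    rw [Subgroup.coe_zpow] at this
    rw [hw₀]; exact this.symm
  have key : x * w₀ * x⁻¹ = w₀ := by
    by_cases h1 : w₀ = 1
    · rw [h1]; group
    have hord : orderOf w₀ = p := orderOf_eq_prime (hexp w₀ hw₀W) h1
    obtain ⟨z, hz⟩ := hgen _ (hxW w₀ hw₀W)
    obtain ⟨j, hj⟩ : ∃ j : ℕ, x * w₀ * x⁻¹ = w₀ ^ j := by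
      refine ⟨(z % (p : ℤ)).toNat, ?_⟩
      have h2 : (0 : ℤ) ≤ z % (p : ℤ) := Int.emod_nonneg z (by exact_mod_cast hp.out.ne_zero)
      rw [hz, ← zpow_natCast, Int.toNat_of_nonneg h2, ← hord, zpow_mod_orderOf]
    have hpow : ∀ n : ℕ, x ^ n * w₀ * (x ^ n)⁻¹ = w₀ ^ (j ^ n) := by
      intro n
      induction n with
      | zero => simp
      | succ n ih =>
        calc x ^ (n + 1) * w₀ * (x ^ (n + 1))⁻¹ = x * (x ^ n * w₀ * (x ^ n)⁻¹) * x⁻¹ := by
              rw [pow_succ']; group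
          _ = x * w₀ ^ (j ^ n) * x⁻¹ := by rw [ih]
          _ = (x * w₀ * x⁻¹) ^ (j ^ n) := by rw [conj_pow]
          _ = w₀ ^ (j ^ (n + 1)) := by rw [hj, ← pow_mul, pow_succ']
    have h3 := hpow (p ^ k)
    rw [hx] at h3
    have h4 : w₀ ^ (j ^ (p ^ k)) = w₀ ^ 1 := by
      rw [← h3]; simp
    rw [pow_eq_pow_iff_modEq, hord] at h4
    have h5 : ((j ^ (p ^ k) : ℕ) : ZMod p) = ((1 : ℕ) : ZMod p) :=
      (ZMod.natCast_eq_natCast_iff _ _ _).2 h4
    rw [Nat.cast_pow, ZMod.pow_card_pow, Nat.cast_one] at h5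
    have h6 : j ≡ 1 [MOD p] := by
      rw [← ZMod.natCast_eq_natCast_iff, h5, Nat.cast_one]
    rw [hj]
    have h7 : w₀ ^ j = w₀ ^ 1 := by
      rw [pow_eq_pow_iff_modEq, hord]; exact h6
    rw [h7, pow_one]
  intro w hw
  obtain ⟨i, rfl⟩ := hgen w hw
  rw [← conj_zpow, key]

theorem sup_normal_of_cyclic_commutator {G : Type u} [Group G] [Finite G] [hsol : Group.IsSolvable G]
    (hodd : Odd (Nat.card G)) (p : ℕ) [hp : Fact p.Prime] (S : Sylow p G)
    (hS : IsCyclic (commutator (S : Subgroup G))) :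
    (Cfsg.pPrimeCore p G ⊔ (S : Subgroup G)).Normal := by
  by_cases hp2 : p = 2
  · have h1 : Nat.card (S : Subgroup G) = 1 := by
      obtain ⟨k, hk⟩ := IsPGroup.iff_card.1 S.2
      have hdvd : Nat.card (S : Subgroup G) ∣ Nat.card G := Subgroup.card_subgroup_dvd_card _
      have hoddS : Odd (Nat.card (S : Subgroup G)) := Odd.of_dvd_nat hodd hdvd
      rw [hk, hp2] at hoddS ⊢
      rcases Nat.eq_zero_or_pos k with h0 | hpos
      · rw [h0, pow_zero]
      · exfalso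
        have : Even (2 ^ k) := (Nat.even_pow' hpos.ne').2 even_two
        exact (Nat.not_even_iff_odd.2 hoddS) this
    have h2 : (S : Subgroup G) = ⊥ := Subgroup.card_eq_one.1 h1
    rw [h2, sup_bot_eq]
    infer_instance
  obtain ⟨K, hK⟩ : ∃ K, K = Cfsg.pPrimeCore p G := ⟨_, rfl⟩
  haveI hKn : K.Normal := hK ▸ inferInstance
  rw [← hK]
  obtain ⟨π, hπ⟩ : ∃ π : G →* G ⧸ K, π = QuotientGroup.mk' K := ⟨_, rfl⟩
  have hπs : Function.Surjective π := hπ ▸ QuotientGroup.mk'_surjective _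
  have hπker : π.ker = K := by rw [hπ, QuotientGroup.ker_mk']
  haveI hsol' : Group.IsSolvable (G ⧸ K) := Group.isSolvable_of_surjective hπs
  have hodd' : Odd (Nat.card (G ⧸ K)) := Odd.of_dvd_nat hodd (Subgroup.card_quotient_dvd_card _)
  have hKb : Cfsg.pPrimeCore p (G ⧸ K) = ⊥ := by
    subst hK; exact pPrimeCore_quotient_pPrimeCore p
  have hcent := centralizer_pCore_le (G := G ⧸ K) p hKb
  obtain ⟨Q, hQ⟩ : ∃ Q, Q = Cfsg.pCore p (G ⧸ K) := ⟨_, rfl⟩
  rw [← hQ] at hcent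
  haveI hQn : Q.Normal := by
    haveI := Cfsg.Agent.Helper3.pCore_characteristic p (G ⧸ K)
    rw [hQ]; exact Subgroup.normal_of_characteristic _
  have hQp : IsPGroup p Q := hQ ▸ pCore_isPGroup p
  have hQS : Q ≤ (S : Subgroup G).map π := by
    have := pCore_le_sylow (S.mapSurjective hπs)
    rw [Sylow.coe_mapSurjective] at this
    rw [hQ]; exact this
  -- the Frattini subgroup of `Q`
  obtain ⟨Φ, hΦ⟩ : ∃ Φ, Φ = (frattini Q).map Q.subtype := ⟨_, rfl⟩
  have hΦQ : Φ ≤ Q := hΦ ▸ Subgroup.map_subtype_le _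
  haveI hΦn : Φ.Normal := by
    have h1 := le_normalizer_map_of_characteristic Q (frattini Q)
    rw [Subgroup.normalizer_eq_top, top_le_iff] at h1
    rw [hΦ]
    exact Subgroup.normalizer_eq_top_iff.1 h1
  have hΦp : IsPGroup p Φ := hQp.to_le hΦQ
  obtain ⟨π₂, hπ₂⟩ : ∃ π₂ : G ⧸ K →* (G ⧸ K) ⧸ Φ, π₂ = QuotientGroup.mk' Φ := ⟨_, rfl⟩
  have hπ₂s : Function.Surjective π₂ := hπ₂ ▸ QuotientGroup.mk'_surjective _
  have hπ₂ker : π₂.ker = Φ := by rw [hπ₂, QuotientGroup.ker_mk']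
  haveI hsol'' : Group.IsSolvable ((G ⧸ K) ⧸ Φ) := Group.isSolvable_of_surjective hπ₂s
  have hodd'' : Odd (Nat.card ((G ⧸ K) ⧸ Φ)) :=
    Odd.of_dvd_nat hodd' (Subgroup.card_quotient_dvd_card _)
  obtain ⟨Qt, hQt⟩ : ∃ Qt, Qt = Q.map π₂ := ⟨_, rfl⟩
  haveI hQtn : Qt.Normal := hQt ▸ Subgroup.Normal.map hQn π₂ hπ₂s
  have hQtp : IsPGroup p Qt := hQt ▸ hQp.map π₂
  -- `Qt` has exponent `p`
  have hQtexp : ∀ w ∈ Qt, w ^ p = 1 := by
    intro w hw
    rw [hQt] at hw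
    obtain ⟨q, hq, rfl⟩ := hw
    rw [← map_pow, ← MonoidHom.mem_ker, hπ₂ker, hΦ]
    have h1 := Cfsg.Agent.Helper1.IsPGroup.pow_mem_frattini hQp ⟨q, hq⟩
    exact ⟨_, h1, rfl⟩
  -- the centralizer of `Qt` is a `p`-group
  have hCp : IsPGroup p (Subgroup.centralizer (Qt : Set ((G ⧸ K) ⧸ Φ))) := by
    rintro ⟨ct, hct⟩
    obtain ⟨c, rfl⟩ := hπ₂s ct
    obtain ⟨k, m, hm, hkm⟩ := Nat.exists_eq_pow_mul_and_not_dvd (orderOf_pos c).ne' p hp.out.ne_one
    refine ⟨k, ?_⟩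
    apply Subtype.ext
    show (π₂ c) ^ (p ^ k) = 1
    rw [← map_pow]
    obtain ⟨d, hd⟩ : ∃ d, d = c ^ (p ^ k) := ⟨_, rfl⟩
    rw [← hd]
    have hdord : orderOf d = m := by
      rw [hd, orderOf_pow' c (pow_ne_zero k hp.out.ne_zero), hkm, Nat.gcd_mul_right_left,
        Nat.mul_div_cancel_left _ (pow_pos hp.out.pos k)]
    have hmcop : m.Coprime p := ((Nat.Prime.coprime_iff_not_dvd hp.out).2 hm).symm
    have hdcen : π₂ d ∈ Subgroup.centralizer (Qt : Set ((G ⧸ K) ⧸ Φ)) := by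
      rw [hd, map_pow]; exact Subgroup.pow_mem _ hct _
    have hA : Subgroup.zpowers d ≤ Subgroup.centralizer (Q : Set (G ⧸ K)) := by
      apply frattini_coprime_trivial (Subgroup.zpowers d) Q
      · rw [Subgroup.normalizer_eq_top]; exact le_top
      · rw [Nat.card_zpowers, hdord]
        obtain ⟨i, hi⟩ := IsPGroup.iff_card.1 (hQp.to_le (Subgroup.map_subtype_le (frattini Q)))
        have hcard : Nat.card (frattini Q) = Nat.card ((frattini Q).map Q.subtype) :=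
          (Subgroup.card_map_of_injective Q.subtype_injective).symm
        rw [hcard, hi]
        exact Nat.Coprime.pow_right i hmcop
      · intro a ha q hq
        rw [← hΦ, ← hπ₂ker, MonoidHom.mem_ker]
        obtain ⟨i, rfl⟩ := Subgroup.mem_zpowers_iff.1 ha
        have hqt : π₂ q ∈ Qt := hQt ▸ Subgroup.mem_map_of_mem π₂ hq
        have hcomm : π₂ q * π₂ (d ^ i) = π₂ (d ^ i) * π₂ q := by
          have h1 : π₂ (d ^ i) ∈ Subgroup.centralizer (Qt : Set ((G ⧸ K) ⧸ Φ)) := by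
            rw [map_zpow]; exact Subgroup.zpow_mem _ hdcen i
          exact Subgroup.mem_centralizer_iff.1 h1 _ hqt
        rw [map_mul, map_mul, map_mul, map_inv, map_inv, ← hcomm]
        group
    have hdQ : d ∈ Q := hcent (hA (Subgroup.mem_zpowers d))
    obtain ⟨i, hi⟩ := (IsPGroup.iff_orderOf.1 hQp) ⟨d, hdQ⟩
    rw [Subgroup.orderOf_mk, hdord] at hi
    have hm1 : m = 1 := by
      have h1 : m.Coprime (p ^ i) := Nat.Coprime.pow_right i hmcop
      rw [← hi] at h1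
      exact (Nat.coprime_self m).1 h1
    have hd1 : d = 1 := by
      rw [← orderOf_eq_one_iff, hdord, hm1]
    rw [hd1, map_one]
  -- the main point: `S` maps into `Q`
  have hSQ : (S : Subgroup G).map π ≤ Q := by
    rintro _ ⟨s, hs, rfl⟩
    obtain ⟨ψ, hψ⟩ : ∃ ψ : G →* (G ⧸ K) ⧸ Φ, ψ = π₂.comp π := ⟨_, rfl⟩
    obtain ⟨xt, hxt⟩ : ∃ xt, xt = ψ s := ⟨_, rfl⟩
    obtain ⟨D, hD⟩ : ∃ D, D = (commutator (S : Subgroup G)).map (ψ.comp (S : Subgroup G).subtype) :=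
      ⟨_, rfl⟩
    haveI hDc : IsCyclic D := by
      rw [hD]
      exact isCyclic_of_surjective
        ((ψ.comp (S : Subgroup G).subtype).subgroupMap (commutator (S : Subgroup G)))
        (MonoidHom.subgroupMap_surjective _ _)
    obtain ⟨W, hW⟩ : ∃ W, W = ⁅Qt, Subgroup.zpowers xt⁆ := ⟨_, rfl⟩
    have hQtS : ∀ w ∈ Qt, ∃ q' ∈ (S : Subgroup G), ψ q' = w := by
      intro w hw
      rw [hQt] at hw
      obtain ⟨q, hq, rfl⟩ := hw
      obtain ⟨q', hq', rfl⟩ := hQS hq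
      exact ⟨q', hq', by rw [hψ]; rfl⟩
    have hWD : W ≤ D := by
      rw [hW, Subgroup.commutator_le]
      intro g₁ hg₁ g₂ hg₂
      obtain ⟨q', hq', rfl⟩ := hQtS g₁ hg₁
      obtain ⟨i, rfl⟩ := Subgroup.mem_zpowers_iff.1 hg₂
      rw [hxt, ← map_zpow, ← map_commutatorElement, hD]
      refine ⟨⁅(⟨q', hq'⟩ : (S : Subgroup G)), ⟨s ^ i, Subgroup.zpow_mem _ hs i⟩⁆, ?_, rfl⟩
      rw [commutator_def]
      exact Subgroup.commutator_mem_commutator (Subgroup.mem_top _) (Subgroup.mem_top _)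
    have hWQt : W ≤ Qt := hW ▸ Subgroup.commutator_le_left Qt _
    haveI hWc : IsCyclic W := Subgroup.isCyclic_of_le hWD
    have hWexp : ∀ w ∈ W, w ^ p = 1 := fun w hw => hQtexp w (hWQt hw)
    have hxtW : ∀ w ∈ W, xt * w * xt⁻¹ ∈ W := by
      have h1 : Qt.map (MulAut.conj xt).toMonoidHom = Qt := by
        have := Subgroup.Normal.conj_smul_eq_self xt Qt
        rwa [Subgroup.pointwise_smul_def] at this
      have h2 : (Subgroup.zpowers xt).map (MulAut.conj xt).toMonoidHom = Subgroup.zpowers xt := by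
        rw [MonoidHom.map_zpowers]
        congr 1
        show xt * xt * xt⁻¹ = xt
        group
      have h3 : W.map (MulAut.conj xt).toMonoidHom = W := by
        rw [hW, Subgroup.map_commutator, h1, h2]
      intro w hw
      rw [← h3]
      exact ⟨w, hw, rfl⟩
    obtain ⟨k, hk⟩ := S.2 ⟨s, hs⟩
    have hxtk : xt ^ (p ^ k) = 1 := by
      have h1 : s ^ (p ^ k) = 1 := by
        have := congrArg Subtype.val hk
        simpa using this
      rw [hxt, ← map_pow, h1, map_one]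
    have hcen := centralizes_cyclic_exp_p W hWc hWexp xt hxtW k hxtk
    have hquad : ⁅⁅Qt, Subgroup.zpowers xt⁆, Subgroup.zpowers xt⁆ = ⊥ := by
      rw [← hW, Subgroup.commutator_eq_bot_iff_le_centralizer]
      intro w hw
      rw [Subgroup.mem_centralizer_iff]
      intro h hh
      obtain ⟨i, rfl⟩ := Subgroup.mem_zpowers_iff.1 hh
      have h1 : Commute xt w := by
        show xt * w = w * xt
        calc xt * w = (xt * w * xt⁻¹) * xt := by group
          _ = w * xt := by rw [hcen w hw]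
      exact (h1.zpow_left i).eq
    have hmem : xt ∈ Cfsg.pCore p ((G ⧸ K) ⧸ Φ) :=
      mem_pCore_of_quadratic hp2 hsol'' hodd'' Qt hQtp hCp xt hquad
    -- pull back
    have hNp : IsPGroup p ((Cfsg.pCore p ((G ⧸ K) ⧸ Φ)).comap π₂) := by
      apply (pCore_isPGroup p).comap_of_ker_isPGroup
      rw [hπ₂ker]; exact hΦp
    haveI hNn : ((Cfsg.pCore p ((G ⧸ K) ⧸ Φ)).comap π₂).Normal := by
      haveI := Cfsg.Agent.Helper3.pCore_characteristic p ((G ⧸ K) ⧸ Φ)
      haveI : (Cfsg.pCore p ((G ⧸ K) ⧸ Φ)).Normal := Subgroup.normal_of_characteristic _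
      infer_instance
    have hle : (Cfsg.pCore p ((G ⧸ K) ⧸ Φ)).comap π₂ ≤ Q := hQ ▸ le_pCore hNn hNp
    apply hle
    rw [Subgroup.mem_comap]
    rw [hxt, hψ] at hmem
    exact hmem
  have heq : (S : Subgroup G).map π = Q := le_antisymm hSQ hQS
  have hnorm : ((S : Subgroup G).map π).Normal := by rw [heq]; exact hQn
  have h3 : ((S : Subgroup G).map π).comap π = K ⊔ (S : Subgroup G) := by
    rw [Subgroup.comap_map_eq, hπker, sup_comm]
  rw [← h3]
  exact hnorm.comap π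

end Cfsg.Agent.Lead.CyclicDerivedPLen
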