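import Mathlib
import Cfsg.Agent.Lead.DicksonA
import Cfsg.Agent.Lead.A5Pres
import Cfsg.Agent.Helper8.PSL2Basic
import Cfsg.Agent.Helper7.LinearCard

set_option autoImplicit false

/-! # Dickson's theorem for `SL₂`, part Q: the exceptional group of order 120 -/

namespace Cfsg.Agent.Lead.DicksonQ

open Matrix Cfsg.Agent.Lead.DicksonA
open scoped MatrixGroups

open Cfsg.Agent.S3377 in
/-- the subgroup generated by `x`, `y` with `x³ = y⁵ = (xy)² = 1`, `x ≠ 1`, has order 60 -/
theorem card_closure_A5 {G : Type*} [Group G] (x y : G) (hx : x ^ 3 = 1) (hy : y ^ 5 = 1)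
    (hxy : (x * y) ^ 2 = 1) (hne : x ≠ 1) :
    Nat.card (Subgroup.closure ({x, y} : Set G)) = 60 := by
  obtain ⟨e⟩ := Cfsg.Agent.S3377.result
  haveI : IsSimpleGroup (alternatingGroup (Fin 5)) := alternatingGroup.isSimpleGroup (by simp)
  haveI : IsSimpleGroup (PresentedGroup rels) := (MulEquiv.isSimpleGroup_congr e).mpr inferInstance
  have hrel : ∀ r ∈ rels, FreeGroup.lift (![x, y] : Fin 2 → G) r = 1 := by
    intro r hr
    simp only [rels, Set.mem_insert_iff, Set.mem_singleton_iff] at hr
    rcases hr with rfl | rfl | rfl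
    · rw [map_pow, FreeGroup.lift_apply_of]; exact hx
    · rw [map_pow, FreeGroup.lift_apply_of]; exact hy
    · rw [map_pow, map_mul, FreeGroup.lift_apply_of, FreeGroup.lift_apply_of]; exact hxy
  let ψ : PresentedGroup rels →* G := PresentedGroup.toGroup hrel
  have hψ0 : ψ (PresentedGroup.of (0 : Fin 2)) = x := PresentedGroup.toGroup.of hrel
  have hψ1 : ψ (PresentedGroup.of (1 : Fin 2)) = y := PresentedGroup.toGroup.of hrel
  have hinj : Function.Injective ψ := by
    rw [← MonoidHom.ker_eq_bot_iff]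
    rcases Subgroup.Normal.eq_bot_or_eq_top (MonoidHom.normal_ker ψ) with h | h
    · exact h
    · exfalso
      have h1 : PresentedGroup.of (0 : Fin 2) ∈ ψ.ker := by rw [h]; exact Subgroup.mem_top _
      rw [MonoidHom.mem_ker, hψ0] at h1
      exact hne h1
  have hrange : ψ.range = Subgroup.closure ({x, y} : Set G) := by
    rw [MonoidHom.range_eq_map, ← PresentedGroup.closure_range_of, MonoidHom.map_closure]
    congr 1
    ext g
    constructor
    · rintro ⟨_, ⟨i, rfl⟩, rfl⟩
      fin_cases i
      · left; exact hψ0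
      · right; exact hψ1
    · rintro (rfl | rfl)
      · exact ⟨_, ⟨0, rfl⟩, hψ0⟩
      · exact ⟨_, ⟨1, rfl⟩, hψ1⟩
  rw [← hrange, Nat.card_congr (MonoidHom.ofInjective hinj).symm.toEquiv, Nat.card_congr e.toEquiv]
  have h1 := two_mul_card_alternatingGroup (α := Fin 5)
  rw [Nat.card_eq_fintype_card]
  rw [Fintype.card_perm, Fintype.card_fin] at h1
  have h2 : Nat.factorial 5 = 120 := by decide
  rw [h2] at h1
  omega

open Cfsg.Agent.Helper8.SL2C in
/-- Part B: over the field with nine elements, `uu 1` and `ll λ` with `λ² = -1` generate a group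
of order 120 -/
theorem partB {F : Type*} [Field F] [Fintype F] (lam : F)
    (hcard : Fintype.card F = 9) (hl : lam ^ 2 = -1) :
    Nat.card (Subgroup.closure ({uu 1, ll lam} : Set SL(2, F))) = 120 := by
  have h3 : (3 : F) = 0 := by
    have h9 := Nat.cast_card_eq_zero F
    rw [hcard] at h9
    have : (3 : F) * 3 = 0 := by
      have : ((9 : ℕ) : F) = 3 * 3 := by norm_num
      rw [← this]; exact h9
    exact mul_self_eq_zero.1 this
  obtain ⟨D, hD⟩ : ∃ D : SL(2, F), D = uu 1 * ll lam := ⟨_, rfl⟩
  have hD5 : D * D * D * D * D = -1 := by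
    rw [hD]
    apply ext4
    · simp only [mul_00, mul_01, mul_10, mul_11, ll_00, ll_01, ll_10, ll_11, uu_00, uu_01, uu_10,
        uu_11, neg_00]
      simp only [Matrix.SpecialLinearGroup.coe_one, Matrix.one_apply_eq]
      linear_combination ((26) + (27) * lam + (9) * lam ^ 2 + (1) * lam ^ 3) * hl +
        ((-8) + (-4) * lam) * h3
    · simp only [mul_00, mul_01, mul_10, mul_11, ll_00, ll_01, ll_10, ll_11, uu_00, uu_01, uu_10,
        uu_11, neg_01]
      simp only [Matrix.SpecialLinearGroup.coe_one, ne_eq, zero_ne_one, not_false_eq_true,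
        Matrix.one_apply_ne]
      linear_combination ((20) + (8) * lam + (1) * lam ^ 2) * hl + ((-5) + (4) * lam) * h3
    · simp only [mul_00, mul_01, mul_10, mul_11, ll_00, ll_01, ll_10, ll_11, uu_00, uu_01, uu_10,
        uu_11, neg_10]
      simp only [Matrix.SpecialLinearGroup.coe_one, ne_eq, one_ne_zero, not_false_eq_true,
        Matrix.one_apply_ne]
      linear_combination ((12) + (20) * lam + (8) * lam ^ 2 + (1) * lam ^ 3) * hl +
        ((-4) + (-5) * lam) * h3
    · simp only [mul_00, mul_01, mul_10, mul_11, ll_00, ll_01, ll_10, ll_11, uu_00, uu_01, uu_10,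
        uu_11, neg_11]
      simp only [Matrix.SpecialLinearGroup.coe_one, Matrix.one_apply_eq]
      linear_combination ((14) + (7) * lam + (1) * lam ^ 2) * hl + ((-4) + (1) * lam) * h3
  have hBDD : (uu 1 * (D * D)) * (uu 1 * (D * D)) = -1 := by
    rw [hD]
    apply ext4
    · simp only [mul_00, mul_01, mul_10, mul_11, ll_00, ll_01, ll_10, ll_11, uu_00, uu_01, uu_10,
        uu_11, neg_00]
      simp only [Matrix.SpecialLinearGroup.coe_one, Matrix.one_apply_eq]
      linear_combination ((32) + (22) * lam + (4) * lam ^ 2) * hl + ((-10) + (-2) * lam) * h3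
    · simp only [mul_00, mul_01, mul_10, mul_11, ll_00, ll_01, ll_10, ll_11, uu_00, uu_01, uu_10,
        uu_11, neg_01]
      simp only [Matrix.SpecialLinearGroup.coe_one, ne_eq, zero_ne_one, not_false_eq_true,
        Matrix.one_apply_ne]
      linear_combination ((18) + (4) * lam) * hl + ((-4) + (6) * lam) * h3
    · simp only [mul_00, mul_01, mul_10, mul_11, ll_00, ll_01, ll_10, ll_11, uu_00, uu_01, uu_10,
        uu_11, neg_10]
      simp only [Matrix.SpecialLinearGroup.coe_one, ne_eq, one_ne_zero, not_false_eq_true,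
        Matrix.one_apply_ne]
      linear_combination ((12) + (10) * lam + (2) * lam ^ 2) * hl + ((-4) + (-2) * lam) * h3
    · simp only [mul_00, mul_01, mul_10, mul_11, ll_00, ll_01, ll_10, ll_11, uu_00, uu_01, uu_10,
        uu_11, neg_11]
      simp only [Matrix.SpecialLinearGroup.coe_one, Matrix.one_apply_eq]
      linear_combination ((8) + (2) * lam) * hl + ((-2) + (2) * lam) * h3
  -- the projective images
  have hx : (pmk (uu (1 : F))) ^ 3 = 1 := by
    rw [pmk_pow, uu_pow]
    have : ((3 : ℕ) : F) * 1 = 0 := by push_cast; rw [h3]; ring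
    rw [this, uu_zero]; rfl
  have hD10 : (D * D) ^ 5 = 1 := by
    have : (D * D) ^ 5 = (D * D * D * D * D) * (D * D * D * D * D) := by
      simp only [pow_succ, pow_zero, one_mul, mul_assoc]
    rw [this, hD5]; simp
  have hy : (pmk (D * D)) ^ 5 = 1 := by rw [pmk_pow, hD10]; rfl
  have hxy : (pmk (uu 1) * pmk (D * D)) ^ 2 = 1 := by
    rw [pmk_mul, pmk_pow, pow_two, hBDD, pmk_eq_one_iff]; right; rfl
  have hne : pmk (uu (1 : F)) ≠ 1 := by
    rw [Ne, pmk_eq_one_iff]
    rintro (h | h)
    · have := congrArg (fun g : SL(2, F) => g.1 0 1) h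
      simp at this
    · have := congrArg (fun g : SL(2, F) => g.1 0 1) h
      simp at this
  have h60 := card_closure_A5 _ _ hx hy hxy hne
  obtain ⟨L₀, hL₀⟩ : ∃ L₀, L₀ = Subgroup.closure ({uu 1, ll lam} : Set SL(2, F)) := ⟨_, rfl⟩
  rw [← hL₀]
  let π : SL(2, F) →* Matrix.ProjectiveSpecialLinearGroup (Fin 2) F :=
    QuotientGroup.mk' (Subgroup.center SL(2, F))
  have hπ : ∀ g, π g = pmk g := fun _ => rfl
  have hmap : L₀.map π = Subgroup.closure {pmk (uu 1), pmk (D * D)} := by
    rw [hL₀, MonoidHom.map_closure, Set.image_pair]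
    apply le_antisymm
    · rw [Subgroup.closure_le]
      rintro g (rfl | rfl)
      · exact Subgroup.subset_closure (by simp [hπ])
      · have : π (ll lam) = (pmk (uu 1))⁻¹ * (pmk (D * D)) ^ 3 := by
          rw [hπ, pmk_pow, pmk_inv, pmk_mul, pmk_eq_iff]
          right
          have h6 : (D * D) ^ 3 = (D * D * D * D * D) * D := by
            simp only [pow_succ, pow_zero, one_mul, mul_assoc]
          rw [h6, hD5, hD]
          simp
        rw [this]
        exact Subgroup.mul_mem _ (Subgroup.inv_mem _ (Subgroup.subset_closure (by simp)))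
          (Subgroup.pow_mem _ (Subgroup.subset_closure (by simp)) _)
    · rw [Subgroup.closure_le]
      rintro g (rfl | rfl)
      · exact Subgroup.subset_closure (by simp [hπ])
      · have : pmk (D * D) = (π (uu 1) * π (ll lam)) ^ 2 := by rw [hD, pow_two]; rfl
        rw [this]
        exact Subgroup.pow_mem _ (Subgroup.mul_mem _ (Subgroup.subset_closure (by simp))
          (Subgroup.subset_closure (by simp))) _
  have hker : π.ker = Subgroup.center SL(2, F) := QuotientGroup.ker_mk' _
  have hcen : Subgroup.center SL(2, F) ≤ L₀ := by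
    intro g hg
    rw [mem_center_iff'] at hg
    rcases hg with rfl | rfl
    · exact L₀.one_mem
    · have hu : uu (1 : F) ∈ L₀ := by rw [hL₀]; exact Subgroup.subset_closure (by simp)
      have hl' : ll lam ∈ L₀ := by rw [hL₀]; exact Subgroup.subset_closure (by simp)
      have hDm : D ∈ L₀ := by rw [hD]; exact L₀.mul_mem hu hl'
      rw [← hD5]
      exact L₀.mul_mem (L₀.mul_mem (L₀.mul_mem (L₀.mul_mem hDm hDm) hDm) hDm) hDm
  have h1 := Subgroup.relIndex_ker π (K := L₀)
  have h2 := (π.ker.subgroupOf L₀).card_mul_index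
  have h4 : Nat.card (π.ker.subgroupOf L₀) = 2 := by
    rw [hker, Nat.card_congr (Subgroup.subgroupOfEquivOfLe hcen).toEquiv,
      Cfsg.Agent.Helper7.card_center_SL 2 (by norm_num), hcard]
    rfl
  rw [← h2, h4]
  change 2 * π.ker.relIndex L₀ = 120
  rw [h1, hmap, h60]

end Cfsg.Agent.Lead.DicksonQ
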