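import Mathlib
import Cfsg.Agent.Lead.DicksonP
import Cfsg.Agent.Lead.DicksonQ

set_option autoImplicit false

/-! # Dickson's theorem for `SL₂`, part R: the generation statement -/

namespace Cfsg.Agent.Lead.DicksonR

open Matrix Cfsg.Agent.Lead.DicksonA Cfsg.Agent.Lead.DicksonP Cfsg.Agent.Lead.DicksonQ
open scoped MatrixGroups

variable {F : Type*} [Field F]

theorem ww_ll_ww (s : F) : ww * ll s * ww⁻¹ = uu (-s) := by
  apply ext4 <;> simp [mul_00, mul_01, mul_10, mul_11, inv_00, inv_01, inv_10, inv_11]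

theorem gen_set_eq (lam : F) :
    {g : SL(2, F) | (g : Matrix (Fin 2) (Fin 2) F) = !![1, 0; 1, 1] ∨
      (g : Matrix (Fin 2) (Fin 2) F) = !![1, lam; 0, 1]} = {ll 1, uu lam} := by
  ext g
  simp only [Set.mem_setOf_eq, Set.mem_insert_iff, Set.mem_singleton_iff]
  constructor
  · rintro (h | h)
    · left; exact Subtype.ext h
    · right; exact Subtype.ext h
  · rintro (rfl | rfl)
    · left; rfl
    · right; rfl

theorem closure_conj (lam : F) :
    Subgroup.closure ({ll 1, uu lam} : Set SL(2, F)) =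
      (Subgroup.closure ({uu 1, ll lam} : Set SL(2, F))).map (MulAut.conj ww).toMonoidHom := by
  rw [MonoidHom.map_closure, Set.image_pair]
  have e1 : (MulAut.conj (ww : SL(2, F))).toMonoidHom (uu 1) = (ll 1)⁻¹ := by
    show (ww : SL(2, F)) * uu (1 : F) * ww⁻¹ = (ll (1 : F))⁻¹
    rw [ww_uu_ww, ll_inv]
  have e2 : (MulAut.conj (ww : SL(2, F))).toMonoidHom (ll lam) = (uu lam)⁻¹ := by
    show (ww : SL(2, F)) * ll lam * ww⁻¹ = (uu lam)⁻¹
    rw [ww_ll_ww, uu_inv]
  rw [e1, e2]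
  apply le_antisymm
  · rw [Subgroup.closure_le]
    rintro g (rfl | rfl)
    · have := Subgroup.inv_mem _ (Subgroup.subset_closure
        (show (ll (1 : F))⁻¹ ∈ ({(ll 1)⁻¹, (uu lam)⁻¹} : Set SL(2, F)) by simp))
      rwa [inv_inv] at this
    · have := Subgroup.inv_mem _ (Subgroup.subset_closure
        (show (uu lam)⁻¹ ∈ ({(ll 1)⁻¹, (uu lam)⁻¹} : Set SL(2, F)) by simp))
      rwa [inv_inv] at this
  · rw [Subgroup.closure_le]
    rintro g (rfl | rfl)
    · exact Subgroup.inv_mem _ (Subgroup.subset_closure (by simp))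
    · exact Subgroup.inv_mem _ (Subgroup.subset_closure (by simp))

theorem s0801 [Fintype F] (h2 : (2 : F) ≠ 0) (lam : F) (hlam : lam ≠ 0)
    (hgen : Subfield.closure ({lam} : Set F) = ⊤) :
    (Subgroup.closure {g : SL(2, F) | (g : Matrix (Fin 2) (Fin 2) F) = !![1, 0; 1, 1] ∨
        (g : Matrix (Fin 2) (Fin 2) F) = !![1, lam; 0, 1]} = ⊤ ∧
      ¬ (Fintype.card F = 9 ∧ lam ^ 2 = -1)) ∨
    (Fintype.card F = 9 ∧ lam ^ 2 = -1 ∧
      Nat.card ↥(Subgroup.closure {g : SL(2, F) |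
        (g : Matrix (Fin 2) (Fin 2) F) = !![1, 0; 1, 1] ∨
        (g : Matrix (Fin 2) (Fin 2) F) = !![1, lam; 0, 1]}) = 120) := by
  rw [gen_set_eq, closure_conj]
  by_cases hex : Fintype.card F = 9 ∧ lam ^ 2 = -1
  · right
    refine ⟨hex.1, hex.2, ?_⟩
    rw [← Nat.card_congr ((Subgroup.closure ({uu 1, ll lam} : Set SL(2, F))).equivMapOfInjective
      (MulAut.conj ww).toMonoidHom (MulAut.conj (ww : SL(2, F))).injective).toEquiv]
    exact partB lam hex.1 hex.2
  · left
    refine ⟨?_, hex⟩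
    rw [partA h2 lam hlam hgen hex]
    exact Subgroup.map_top_of_surjective _ (MulAut.conj (ww : SL(2, F))).surjective

end Cfsg.Agent.Lead.DicksonR
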