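import Mathlib
import Cfsg.Agent.S0016
import Cfsg.Agent.Lead.Ab2GL2
import Cfsg.Agent.Lead.DicksonL

set_option autoImplicit false

/-! # Sylow `2`-subgroups of subgroups of `SL₂(q)` with several Sylow `p`-subgroups -/

namespace Cfsg.Agent.Lead.DicksonSylTwo

open Matrix Cfsg.Agent.Lead.DicksonA Cfsg.Agent.Lead.DicksonJ Cfsg.Agent.Lead.Ab2GL2
open scoped MatrixGroups

/-- `SL₂(p)` has non-abelian `2`-subgroups -/
theorem not_ab2_SL2 (p : ℕ) [hp : Fact p.Prime] (hp2 : p ≠ 2) : ¬ Ab2 SL(2, ZMod p) := by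
  intro hab
  obtain ⟨X, hXdef⟩ : ∃ X : GL (Fin 2) (ZMod p),
      X = Matrix.SpecialLinearGroup.toGL (uu (1 : ZMod p)) := ⟨_, rfl⟩
  obtain ⟨Y, hYdef⟩ : ∃ Y : GL (Fin 2) (ZMod p),
      Y = Matrix.SpecialLinearGroup.toGL (ll (1 : ZMod p)) := ⟨_, rfl⟩
  have hX : (X : Matrix (Fin 2) (Fin 2) (ZMod p)) = !![1, 1; 0, 1] := by
    rw [hXdef]; rfl
  have hY : (Y : Matrix (Fin 2) (Fin 2) (ZMod p)) = !![1, 0; 1, 1] := by
    rw [hYdef]; rfl
  have hcl : Subgroup.closure {X, Y} =
      (⊤ : Subgroup SL(2, ZMod p)).map Matrix.SpecialLinearGroup.toGL := by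
    rw [← closure_eq_top p, MonoidHom.map_closure, Set.image_pair, hXdef, hYdef]
  have e : Subgroup.closure {X, Y} ≃* SL(2, ZMod p) :=
    (MulEquiv.subgroupCongr hcl).trans
      (((⊤ : Subgroup SL(2, ZMod p)).equivMapOfInjective _
        Matrix.SpecialLinearGroup.toGL_injective).symm.trans Subgroup.topEquiv)
  have hab' : Ab2 (Subgroup.closure {X, Y}) := hab.of_injective e.toMonoidHom e.injective
  exact two_transvections_ab2 hp2 X Y 1 one_ne_zero hX hY hab'

/-- an element of `SL₂(F)`, `F` of characteristic not two, squaring to one is `±1` -/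
theorem sq_eq_one {F : Type*} [Field F] (h2 : (2 : F) ≠ 0) (g : SL(2, F)) (hg : g * g = 1) :
    g = 1 ∨ g = -1 := by
  by_cases h1 : g = 1
  · exact Or.inl h1
  · right
    have h3 : g.1 * g.1 = 1 := by
      have := congrArg Subtype.val hg
      simpa using this
    have h4 : g.1 ≠ 1 := fun h => h1 (Subtype.ext (by simpa using h))
    have h5 := involution_eq_neg_one h2 g.1 h3 h4 g.2
    apply Subtype.ext
    rw [h5]
    simp

theorem dickson_sylow_two {F : Type*} [Field F] [Fintype F] (p : ℕ) [Fact p.Prime] [CharP F p]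
    (hp : p ≠ 2) (H : Subgroup SL(2, F)) (hH : 1 < Nat.card (Sylow p H)) (S : Sylow 2 H) :
    ∃ k : ℕ, 1 ≤ k ∧ Nonempty ((S : Subgroup H) ≃* QuaternionGroup (2 ^ k)) := by
  have h2 : (2 : F) ≠ 0 := by
    intro h
    have h3 : ((2 : ℕ) : F) = 0 := by exact_mod_cast h
    rw [CharP.cast_eq_zero_iff F p] at h3
    exact hp ((Nat.prime_dvd_prime_iff_eq (Fact.out : p.Prime) Nat.prime_two).1 h3)
  obtain ⟨K, hKH, ⟨e⟩⟩ := Cfsg.Agent.Lead.DicksonL.dickson p hp H hH
  -- `S` is not commutative
  have hnc : ¬ IsMulCommutative (S : Subgroup H) := by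
    intro hc
    have hab : Ab2 H := ab2_of_sylow S hc
    apply not_ab2_SL2 p hp
    exact hab.of_injective ((Subgroup.inclusion hKH).comp e.symm.toMonoidHom)
      ((Subgroup.inclusion_injective hKH).comp e.symm.injective)
  -- unique subgroup of order two
  have hS2 : IsPGroup 2 (S : Subgroup H) := S.isPGroup'
  have hsub : ∀ A : Subgroup (S : Subgroup H), Nat.card A = 2 →
      ∀ a ∈ A, a = 1 ∨ ((a : H) : SL(2, F)) = -1 := by
    intro A hA a ha
    have h3 : (⟨a, ha⟩ : A) ^ 2 = 1 := by
      have := pow_card_eq_one' (G := A) (x := ⟨a, ha⟩)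
      rwa [hA] at this
    have h4 : ((a : H) : SL(2, F)) * ((a : H) : SL(2, F)) = 1 := by
      have h5 := congrArg (fun x : A => (((x : (S : Subgroup H)) : H) : SL(2, F))) h3
      simpa [pow_two] using h5
    rcases sq_eq_one h2 _ h4 with h | h
    · left
      apply Subtype.ext
      apply Subtype.ext
      simpa using h
    · exact Or.inr h
  have huniq : ∀ A B : Subgroup (S : Subgroup H), Nat.card A = 2 → Nat.card B = 2 → A = B := by
    have key : ∀ A B : Subgroup (S : Subgroup H), Nat.card A = 2 → Nat.card B = 2 → A ≤ B := by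
      intro A B hA hB a ha
      rcases hsub A hA a ha with rfl | h
      · exact B.one_mem
      · -- `B` has a non-identity element, which is `-1`
        have hBne : ∃ b ∈ B, b ≠ 1 := by
          by_contra hcon
          push Not at hcon
          have : B = ⊥ := by
            rw [eq_bot_iff]
            intro b hb
            rw [Subgroup.mem_bot]; exact hcon b hb
          rw [this] at hB
          simp at hB
        obtain ⟨b, hb, hb1⟩ := hBne
        rcases hsub B hB b hb with h' | h'
        · exact absurd h' hb1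
        · have : a = b := by
            apply Subtype.ext
            apply Subtype.ext
            rw [h, h']
          rw [this]; exact hb
    intro A B hA hB
    exact le_antisymm (key A B hA hB) (key B A hB hA)
  rcases Cfsg.Agent.S0016.result 2 hS2 huniq with hcyc | ⟨_, n, ⟨f⟩⟩
  · exfalso
    apply hnc
    exact ⟨⟨fun a b => (IsCyclic.commGroup (α := (S : Subgroup H))).mul_comm a b⟩⟩
  · refine ⟨n, ?_, ⟨f⟩⟩
    by_contra hn
    have hn0 : n = 0 := by omega
    subst hn0
    apply hnc
    have hcard : Nat.card (S : Subgroup H) = 2 ^ 2 := by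
      rw [Nat.card_congr f.toEquiv, pow_zero, Nat.card_eq_fintype_card, QuaternionGroup.card]; norm_num
    haveI : Fact (Nat.Prime 2) := ⟨Nat.prime_two⟩
    exact ⟨⟨fun a b => (IsPGroup.commGroupOfCardEqPrimeSq (p := 2) hcard).mul_comm a b⟩⟩

end Cfsg.Agent.Lead.DicksonSylTwo
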