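import Mathlib
import Cfsg.Prelude.Def_Local
import Cfsg.Agent.S4408
import Cfsg.Agent.Helper2.GenHyper
import Cfsg.Agent.Helper2.DihedralIso
import Cfsg.Agent.Helper2.Signalizer1

set_option autoImplicit false

/-!
An elementary abelian `2`-group acting faithfully on a solvable group of odd order: a dual family
of commuting dihedral subgroups.
-/

namespace Cfsg.Agent.Lead
namespace DihedralFamily

/-- An involution normalizing a group of prime order centralizes or inverts it. -/
theorem conj_eq_or_inv {S : Type*} [Group S] [Finite S] (a ℓ : S) (ha : a * a = 1) (r : ℕ)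
    [Fact r.Prime] (hℓ : ℓ ^ r = 1) (hn : a * ℓ * a⁻¹ ∈ Subgroup.zpowers ℓ) :
    a * ℓ * a⁻¹ = ℓ ∨ a * ℓ * a⁻¹ = ℓ⁻¹ := by
  have hainv : a⁻¹ = a := inv_eq_of_mul_eq_one_left ha
  by_cases hc : ℓ * (a * ℓ * a⁻¹) = 1
  · right
    exact (eq_inv_of_mul_eq_one_right hc)
  · left
    have hcm : ℓ * (a * ℓ * a⁻¹) ∈ Subgroup.zpowers ℓ :=
      Subgroup.mul_mem _ (Subgroup.mem_zpowers ℓ) hn
    have hℓc := Cfsg.Agent.Helper2.mem_zpowers_of_mem_zpowers_prime hℓ hcm hc
    -- a commutes with c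
    have hcomm : (a * ℓ * a⁻¹) * ℓ = ℓ * (a * ℓ * a⁻¹) := by
      obtain ⟨k, hk⟩ := Subgroup.mem_zpowers_iff.1 hn
      rw [← hk]
      exact (Commute.zpow_left (Commute.refl ℓ) k).eq
    have hac : a * (ℓ * (a * ℓ * a⁻¹)) * a⁻¹ = ℓ * (a * ℓ * a⁻¹) := by
      calc a * (ℓ * (a * ℓ * a⁻¹)) * a⁻¹ = (a * ℓ * a⁻¹) * ((a * a) * ℓ * (a⁻¹ * a⁻¹)) := by group
        _ = (a * ℓ * a⁻¹) * ℓ := by rw [hainv, ha, one_mul, mul_one]
        _ = ℓ * (a * ℓ * a⁻¹) := hcomm
    obtain ⟨m, hm⟩ := Subgroup.mem_zpowers_iff.1 hℓc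
    have : a * ℓ * a⁻¹ = (a * (ℓ * (a * ℓ * a⁻¹)) * a⁻¹) ^ m := by
      rw [conj_zpow, hm]
    rw [this, hac, hm]


theorem exists_dual_family {S : Type*} [Group S] [Finite S] [Group.IsSolvable S]
    (hF : Odd (Nat.card ↥(Cfsg.fittingSubgroup S))) (A : Subgroup S)
    (hA : Cfsg.IsElementaryAbelian 2 A) (d : ℕ) (hd : 1 ≤ d) (hAd : Nat.card ↥A = 2 ^ d) :
    ∃ (a ℓ : Fin d → S), (∀ i, a i ∈ A ∧ a i ≠ 1 ∧ Odd (orderOf (ℓ i)) ∧ 3 ≤ orderOf (ℓ i) ∧
        a i * ℓ i * (a i)⁻¹ = (ℓ i)⁻¹) ∧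
      (∀ i j, i ≠ j → a i * ℓ j = ℓ j * a i ∧ ℓ i * ℓ j = ℓ j * ℓ i) ∧
      (⨆ i, Subgroup.zpowers (a i)) = A := by
  classical
  obtain ⟨f, hfp, hfF, hfI, hfcomm, hfcard, hfC⟩ := Cfsg.Agent.S4408.result hF A hA d hd hAd
  have hA2 : ∀ x ∈ A, x * x = 1 := fun x hx => by
    have := hA.2 x hx
    rwa [pow_two] at this
  have hAcomm : ∀ x ∈ A, ∀ y ∈ A, x * y = y * x := fun x hx y hy =>
    congrArg Subtype.val (hA.1.is_comm.comm ⟨x, hx⟩ ⟨y, hy⟩)
  -- generators
  have hex : ∀ i, ∃ x ∈ f i, x ≠ 1 := by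
    intro i
    have h1 : 1 < Nat.card (f i) := (hfp i).one_lt
    have h2 : f i ≠ ⊥ := by
      intro h
      rw [h, Subgroup.card_bot] at h1
      omega
    exact (Subgroup.ne_bot_iff_exists_ne_one).1 h2 |>.elim (fun x hx => ⟨x.1, x.2, fun h => hx (Subtype.ext h)⟩)
  choose ℓ hℓmem hℓne using hex
  have hℓpow : ∀ i, ℓ i ^ Nat.card (f i) = 1 := by
    intro i
    have := pow_card_eq_one' (G := f i) (x := ⟨ℓ i, hℓmem i⟩)
    exact congrArg Subtype.val this
  have hℓord : ∀ i, orderOf (ℓ i) = Nat.card (f i) := by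
    intro i
    have h1 : orderOf (ℓ i) ∣ Nat.card (f i) := orderOf_dvd_of_pow_eq_one (hℓpow i)
    rcases (Nat.dvd_prime (hfp i)).1 h1 with h | h
    · exact absurd (orderOf_eq_one_iff.1 h) (hℓne i)
    · exact h
  have hzp : ∀ i, Subgroup.zpowers (ℓ i) = f i := by
    intro i
    apply Subgroup.eq_of_le_of_card_ge
    · rw [Subgroup.zpowers_le]; exact hℓmem i
    · rw [Nat.card_zpowers, hℓord]
  have hodd : ∀ i, Odd (orderOf (ℓ i)) := by
    intro i
    rw [hℓord]
    exact Odd.of_dvd_nat hF (Subgroup.card_dvd_of_le (hfF i))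
  have h3 : ∀ i, 3 ≤ orderOf (ℓ i) := by
    intro i
    have h1 := hodd i
    have h2 : (orderOf (ℓ i)).Prime := by rw [hℓord]; exact hfp i
    have h4 := h2.two_le
    obtain ⟨k, hk⟩ := h1
    omega
  have hne_inv : ∀ i, ℓ i ≠ (ℓ i)⁻¹ := by
    intro i h
    have h1 : ℓ i ^ 2 = 1 := by
      rw [pow_two]
      nth_rw 1 [h]
      exact inv_mul_cancel _
    have h2 : orderOf (ℓ i) ∣ 2 := orderOf_dvd_of_pow_eq_one h1
    have h4 := Nat.le_of_dvd (by norm_num) h2
    have := h3 i
    omega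
  -- centralize or invert
  have hci : ∀ i, ∀ x ∈ A, x * ℓ i * x⁻¹ = ℓ i ∨ x * ℓ i * x⁻¹ = (ℓ i)⁻¹ := by
    intro i x hx
    haveI : Fact (Nat.card (f i)).Prime := ⟨hfp i⟩
    apply conj_eq_or_inv x (ℓ i) (hA2 x hx) (Nat.card (f i)) (hℓpow i)
    rw [hzp]
    exact (Subgroup.mem_normalizer_iff.1 (hfI i hx) (ℓ i)).1 (hℓmem i)
  -- the centralizers
  obtain ⟨C, hC⟩ : ∃ C : Fin d → Subgroup S,
      ∀ i, C i = A ⊓ Subgroup.centralizer ({ℓ i} : Set S) := ⟨_, fun _ => rfl⟩
  have hCmem : ∀ i x, x ∈ C i ↔ x ∈ A ∧ x * ℓ i * x⁻¹ = ℓ i := by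
    intro i x
    rw [hC, Subgroup.mem_inf, Subgroup.mem_centralizer_iff]
    constructor
    · rintro ⟨hx, h⟩
      refine ⟨hx, ?_⟩
      have := h (ℓ i) (Set.mem_singleton _)
      rw [← this]; group
    · rintro ⟨hx, h⟩
      refine ⟨hx, ?_⟩
      intro y hy
      rw [Set.mem_singleton_iff] at hy
      rw [hy]
      calc ℓ i * x = (x * ℓ i * x⁻¹) * x := by rw [h]
        _ = x * ℓ i := by group
  have hCA : ∀ i, C i ≤ A := fun i => by rw [hC]; exact inf_le_left
  have hCidx : ∀ i, (C i).relIndex A ≤ 2 := by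
    intro i
    by_cases hall : A ≤ C i
    · rw [Subgroup.relIndex_eq_one.2 hall]; norm_num
    · obtain ⟨a₀, ha₀, ha₀C⟩ := SetLike.not_le_iff_exists.1 hall
      have ha₀inv : a₀ * ℓ i * a₀⁻¹ = (ℓ i)⁻¹ := by
        rcases hci i a₀ ha₀ with h | h
        · exact absurd ((hCmem i a₀).2 ⟨ha₀, h⟩) ha₀C
        · exact h
      have : ((C i).subgroupOf A).index = 2 := by
        rw [Subgroup.index_eq_two_iff]
        refine ⟨⟨a₀, ha₀⟩, ?_⟩
        rintro ⟨b, hb⟩
        have hba : (b * a₀) * ℓ i * (b * a₀)⁻¹ = (b * ℓ i * b⁻¹)⁻¹ := by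
          calc (b * a₀) * ℓ i * (b * a₀)⁻¹ = b * (a₀ * ℓ i * a₀⁻¹) * b⁻¹ := by group
            _ = b * (ℓ i)⁻¹ * b⁻¹ := by rw [ha₀inv]
            _ = (b * ℓ i * b⁻¹)⁻¹ := by group
        rw [Subgroup.mem_subgroupOf, Subgroup.mem_subgroupOf]
        show Xor (b * a₀ ∈ C i) (b ∈ C i)
        rw [hCmem, hCmem]
        rcases hci i b hb with h | h
        · right
          refine ⟨⟨hb, h⟩, ?_⟩
          rintro ⟨_, h'⟩
          rw [hba, h] at h'
          exact hne_inv i h'.symm
        · left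
          refine ⟨⟨A.mul_mem hb ha₀, ?_⟩, ?_⟩
          · rw [hba, h, inv_inv]
          · rintro ⟨_, h'⟩
            rw [h] at h'
            exact hne_inv i h'.symm
      rw [Subgroup.relIndex, this]
  -- the dual elements
  have hdual : ∀ i, ∃ x, x ∈ A ∧ x ≠ 1 ∧ ∀ j, j ≠ i → x ∈ C j := by
    intro i
    obtain ⟨g, hg⟩ : ∃ g : Fin d → Subgroup S, ∀ j, g j = if j = i then A else C j :=
      ⟨_, fun _ => rfl⟩
    have hKA : (⨅ j, g j) ≤ A := by
      refine (iInf_le g i).trans ?_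
      rw [hg, if_pos rfl]
    have hidx : (⨅ j, g j).relIndex A ≤ 2 ^ (d - 1) := by
      refine (Subgroup.relIndex_iInf_le g).trans ?_
      rw [← Finset.mul_prod_erase Finset.univ _ (Finset.mem_univ i)]
      have h1 : (g i).relIndex A = 1 := by
        rw [hg, if_pos rfl, Subgroup.relIndex_self]
      rw [h1, one_mul]
      have h2 : ∀ j ∈ Finset.univ.erase i, (g j).relIndex A ≤ 2 := by
        intro j hj
        rw [hg, if_neg (Finset.ne_of_mem_erase hj)]
        exact hCidx j
      refine (Finset.prod_le_pow_card _ _ 2 h2).trans ?_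
      rw [Finset.card_erase_of_mem (Finset.mem_univ i), Finset.card_univ, Fintype.card_fin]
    have hcard := Cfsg.Agent.Helper1.relIndex_mul_card_of_le hKA
    have hK2 : 2 ≤ Nat.card (⨅ j, g j : Subgroup S) := by
      by_contra hlt
      push Not at hlt
      have h1 : Nat.card (⨅ j, g j : Subgroup S) = 1 := by
        have : 0 < Nat.card (⨅ j, g j : Subgroup S) := Nat.card_pos
        omega
      rw [h1, mul_one, hAd] at hcard
      have h2 : 2 ^ d = 2 * 2 ^ (d - 1) := by
        rw [← pow_succ']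
        congr 1
        omega
      have h3 : 0 < 2 ^ (d - 1) := by positivity
      omega
    have hKne : (⨅ j, g j : Subgroup S) ≠ ⊥ := by
      intro h
      rw [h, Subgroup.card_bot] at hK2
      omega
    obtain ⟨x, hx1⟩ := (Subgroup.ne_bot_iff_exists_ne_one).1 hKne
    refine ⟨x.1, hKA x.2, fun h => hx1 (Subtype.ext h), ?_⟩
    intro j hj
    have := (Subgroup.mem_iInf.1 x.2) j
    rw [hg, if_neg hj] at this
    exact this
  choose a haA ha1 haC using hdual
  -- joint centralizer trivial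
  have hjoint : ∀ x ∈ A, (∀ i, x ∈ C i) → x = 1 := by
    intro x hx hall
    have : x ∈ A ⊓ Subgroup.centralizer ((⨆ i, f i : Subgroup S) : Set S) := by
      refine Subgroup.mem_inf.2 ⟨hx, ?_⟩
      have hle : (⨆ i, f i : Subgroup S) ≤ Subgroup.centralizer ({x} : Set S) := by
        refine iSup_le (fun i => ?_)
        rw [← hzp i, Subgroup.zpowers_le, Subgroup.mem_centralizer_iff]
        intro y hy
        rw [Set.mem_singleton_iff] at hy
        rw [hy]
        have h := ((hCmem i x).1 (hall i)).2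
        calc x * ℓ i = (x * ℓ i * x⁻¹) * x := by group
          _ = ℓ i * x := by rw [h]
      rw [Subgroup.mem_centralizer_iff]
      intro y hy
      have := hle hy
      rw [Subgroup.mem_centralizer_iff] at this
      exact (this x (Set.mem_singleton x)).symm
    rw [hfC, Subgroup.mem_bot] at this
    exact this
  have hainv : ∀ i, a i * ℓ i * (a i)⁻¹ = (ℓ i)⁻¹ := by
    intro i
    rcases hci i (a i) (haA i) with h | h
    · exfalso
      apply ha1 i
      apply hjoint (a i) (haA i)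
      intro j
      by_cases hj : j = i
      · rw [hj]; exact (hCmem i (a i)).2 ⟨haA i, h⟩
      · exact haC i j hj
    · exact h
  refine ⟨a, ℓ, fun i => ⟨haA i, ha1 i, hodd i, h3 i, hainv i⟩, ?_, ?_⟩
  · intro i j hij
    refine ⟨?_, hfcomm i j hij _ (hℓmem i) _ (hℓmem j)⟩
    have h := ((hCmem j (a i)).1 (haC i j (Ne.symm hij))).2
    calc a i * ℓ j = (a i * ℓ j * (a i)⁻¹) * a i := by group
      _ = ℓ j * a i := by rw [h]
  · apply le_antisymm
    · refine iSup_le (fun i => ?_)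
      rw [Subgroup.zpowers_le]; exact haA i
    · -- generation
      have key : ∀ J : Finset (Fin d), ∀ x ∈ A, (∀ i, i ∉ J → x ∈ C i) →
          x ∈ (⨆ i, Subgroup.zpowers (a i) : Subgroup S) := by
        intro J
        induction J using Finset.induction_on with
        | empty =>
          intro x hx hall
          rw [hjoint x hx (fun i => hall i (Finset.notMem_empty i))]
          exact Subgroup.one_mem _
        | insert i J hiJ ih =>
          intro x hx hall
          by_cases hxi : x ∈ C i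
          · apply ih x hx
            intro k hk
            by_cases hki : k = i
            · rw [hki]; exact hxi
            · exact hall k (by rw [Finset.mem_insert]; push Not; exact ⟨hki, hk⟩)
          · have hxinv : x * ℓ i * x⁻¹ = (ℓ i)⁻¹ := by
              rcases hci i x hx with h | h
              · exact absurd ((hCmem i x).2 ⟨hx, h⟩) hxi
              · exact h
            have hx' : x * a i ∈ (⨆ i, Subgroup.zpowers (a i) : Subgroup S) := by
              apply ih (x * a i) (A.mul_mem hx (haA i))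
              intro k hk
              by_cases hki : k = i
              · rw [hki, hCmem]
                refine ⟨A.mul_mem hx (haA i), ?_⟩
                calc (x * a i) * ℓ i * (x * a i)⁻¹ = x * (a i * ℓ i * (a i)⁻¹) * x⁻¹ := by group
                  _ = x * (ℓ i)⁻¹ * x⁻¹ := by rw [hainv i]
                  _ = (x * ℓ i * x⁻¹)⁻¹ := by group
                  _ = ℓ i := by rw [hxinv, inv_inv]
              · have h1 := hall k (by rw [Finset.mem_insert]; push Not; exact ⟨hki, hk⟩)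
                have h2 := haC i k hki
                exact (C k).mul_mem h1 h2
            have hai : a i ∈ (⨆ i, Subgroup.zpowers (a i) : Subgroup S) :=
              (le_iSup (fun i => Subgroup.zpowers (a i)) i) (Subgroup.mem_zpowers (a i))
            have : x = (x * a i) * (a i)⁻¹ := by group
            rw [this]
            exact Subgroup.mul_mem _ hx' (Subgroup.inv_mem _ hai)
      intro x hx
      exact key Finset.univ x hx (fun i hi => absurd (Finset.mem_univ i) hi)


theorem pow_odd_of_sq {G : Type*} [Group G] (y : G) (hy : y * y = 1) (r : ℕ) (hr : Odd r) :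
    y ^ r = y := by
  obtain ⟨k, rfl⟩ := hr
  rw [pow_succ, pow_mul, pow_two, hy, one_pow, one_mul]

/-- odd order elements centralizing mod squares -/
theorem mem_of_sq_mem {G : Type*} [Group G] [Finite G] (K : Subgroup G) (x : G)
    (hodd : Odd (orderOf x)) (h : x * x ∈ K) : x ∈ K := by
  obtain ⟨k, hk⟩ := hodd
  have : x = (x * x) ^ (k + 1) := by
    rw [← pow_two, ← pow_mul]
    have h1 : 2 * (k + 1) = orderOf x + 1 := by omega
    rw [h1, pow_succ, pow_orderOf_eq_one, one_mul]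
  rw [this]
  exact K.pow_mem h _

theorem s1349 {G : Type*} [Group G] [Finite G] (L A : Subgroup G) (hLs : Group.IsSolvable ↥L)
    (hLodd : Odd (Nat.card ↥L)) (hA : Cfsg.IsElementaryAbelian 2 A) (d : ℕ) (hd : 1 ≤ d)
    (hAd : Nat.card ↥A = 2 ^ d) (hAL : A ≤ Subgroup.normalizer (L : Set G))
    (hfaith : A ⊓ Subgroup.centralizer (L : Set G) = ⊥) :
    ∃ (Ai : Fin d → Subgroup G) (Li : Fin d → Subgroup G) (n : Fin d → ℕ),
      (∀ i, Ai i ≤ A ∧ Nat.card ↥(Ai i) = 2 ∧ Li i ≤ L ∧ Odd (n i) ∧ 3 ≤ n i ∧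
        Nonempty (↥(Ai i ⊔ Li i) ≃* DihedralGroup (n i))) ∧
      (⨆ i, Ai i) = A ∧
      ∀ i j, i ≠ j → ∀ x ∈ Ai i ⊔ Li i, ∀ y ∈ Ai j ⊔ Li j, x * y = y * x := by
  classical
  have hA2 : ∀ x ∈ A, x * x = 1 := fun x hx => by
    have := hA.2 x hx
    rwa [pow_two] at this
  have hAcomm : ∀ x ∈ A, ∀ y ∈ A, x * y = y * x := fun x hx y hy =>
    congrArg Subtype.val (hA.1.is_comm.comm ⟨x, hx⟩ ⟨y, hy⟩)
  have hAsolv : Group.IsSolvable ↥A :=
    isSolvable_of_comm (fun a b => hA.1.is_comm.comm a b)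
  obtain ⟨W, hW⟩ : ∃ W : Subgroup G, W = L ⊔ A := ⟨_, rfl⟩
  have hLW : L ≤ W := by rw [hW]; exact le_sup_left
  have hAW : A ≤ W := by rw [hW]; exact le_sup_right
  haveI hWsolv : Group.IsSolvable ↥W := by
    rw [hW]; exact Cfsg.Agent.Helper2.isSolvable_sup_of_le_normalizer hLs hAsolv hAL
  have hdecomp : ∀ w ∈ W, ∃ x ∈ L, ∃ y ∈ A, w = x * y := by
    intro w hw
    rw [hW] at hw
    exact Cfsg.Agent.Helper1.mem_sup_of_le_normalizer hAL hw
  have hLA1 : ∀ y ∈ A, y ∈ L → y = 1 := by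
    intro y hyA hyL
    have h1 : orderOf (⟨y, hyL⟩ : L) ∣ 2 := by
      apply orderOf_dvd_of_pow_eq_one
      apply Subtype.ext
      show y ^ 2 = 1
      rw [pow_two]; exact hA2 y hyA
    have h3 : orderOf (⟨y, hyL⟩ : L) ∣ Nat.card L := orderOf_dvd_natCard _
    have h4 : (Nat.card L).Coprime 2 := Nat.coprime_two_right.2 hLodd
    have h5 : orderOf (⟨y, hyL⟩ : L) = 1 := Nat.eq_one_of_dvd_coprimes h4 h3 h1
    rw [orderOf_eq_one_iff] at h5
    exact congrArg Subtype.val h5
  have hLoddelt : ∀ x ∈ L, Odd (orderOf x) := by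
    intro x hx
    have h3 : orderOf (⟨x, hx⟩ : L) ∣ Nat.card L := orderOf_dvd_natCard _
    rw [← Subgroup.orderOf_coe] at h3
    exact Odd.of_dvd_nat hLodd h3
  -- L is normal in W
  have hLn : (L.subgroupOf W).Normal :=
    (Subgroup.normal_subgroupOf_iff_le_normalizer hLW).2
      (by rw [hW]; exact sup_le Subgroup.le_normalizer hAL)
  have hconjL : ∀ w ∈ W, ∀ x ∈ L, w * x * w⁻¹ ∈ L := by
    intro w hw x hx
    have := hLn.conj_mem ⟨x, hLW hx⟩ (Subgroup.mem_subgroupOf.2 hx) ⟨w, hw⟩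
    exact Subgroup.mem_subgroupOf.1 this
  -- the 2-core of W is trivial
  have hcore : Cfsg.pCore 2 ↥W = ⊥ := by
    haveI : Fact (Nat.Prime 2) := ⟨Nat.prime_two⟩
    rw [eq_bot_iff]
    intro n hn
    rw [Subgroup.mem_bot]
    have hNp : IsPGroup 2 (Cfsg.pCore 2 ↥W) := Cfsg.Agent.Helper1.pCore_isPGroup 2
    have hNn : (Cfsg.pCore 2 ↥W).Normal := inferInstance
    have hdisj : Cfsg.pCore 2 ↥W ⊓ L.subgroupOf W = ⊥ := by
      apply Cfsg.Agent.Helper1.inf_eq_bot_of_coprime_card
      obtain ⟨k, hk⟩ := IsPGroup.iff_card.1 hNp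
      rw [hk, Cfsg.Agent.Helper1.card_subgroupOf_of_le hLW]
      exact Nat.Coprime.pow_left k (Nat.coprime_two_left.2 hLodd)
    -- n centralizes L
    have hncent : ∀ x ∈ L, (n : G) * x * (n : G)⁻¹ = x := by
      intro x hx
      have h1 : n * ⟨x, hLW hx⟩ * n⁻¹ * (⟨x, hLW hx⟩ : W)⁻¹ ∈ Cfsg.pCore 2 ↥W ⊓ L.subgroupOf W := by
        refine Subgroup.mem_inf.2 ⟨?_, ?_⟩
        · have h2 := hNn.conj_mem n⁻¹ (Subgroup.inv_mem _ hn) ⟨x, hLW hx⟩
          have h3 : n * ⟨x, hLW hx⟩ * n⁻¹ * (⟨x, hLW hx⟩ : W)⁻¹ =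
              n * (⟨x, hLW hx⟩ * n⁻¹ * (⟨x, hLW hx⟩ : W)⁻¹) := by group
          rw [h3]
          exact Subgroup.mul_mem _ hn h2
        · rw [Subgroup.mem_subgroupOf]
          show (n : G) * x * (n : G)⁻¹ * x⁻¹ ∈ L
          exact L.mul_mem (hconjL n n.2 x hx) (L.inv_mem hx)
      rw [hdisj, Subgroup.mem_bot] at h1
      have h2 := congrArg Subtype.val h1
      have h3 : (n : G) * x * (n : G)⁻¹ * x⁻¹ = 1 := h2
      exact mul_inv_eq_one.1 h3
    obtain ⟨x, hxL, y, hyA, hnxy⟩ := hdecomp n n.2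
    -- y acts on L like x⁻¹
    have hyact : ∀ z ∈ L, y * z * y⁻¹ = x⁻¹ * z * x := by
      intro z hz
      have h1 := hncent z hz
      rw [hnxy] at h1
      calc y * z * y⁻¹ = x⁻¹ * ((x * y) * z * (x * y)⁻¹) * x := by group
        _ = x⁻¹ * z * x := by rw [h1]
    have hyinv : y⁻¹ = y := inv_eq_of_mul_eq_one_left (hA2 y hyA)
    have hx2 : x * x ∈ Subgroup.centralizer (L : Set G) := by
      rw [Subgroup.mem_centralizer_iff]
      intro z hz
      have h1 := hyact z hz
      have hz' : x⁻¹ * z * x ∈ L := by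
        have := hconjL x⁻¹ (hLW (L.inv_mem hxL)) z hz
        simpa using this
      have h2 := hyact _ hz'
      rw [← h1] at h2
      -- y (y z y⁻¹) y⁻¹ = z
      have h3 : y * (y * z * y⁻¹) * y⁻¹ = z := by
        rw [hyinv]
        calc y * (y * z * y) * y = (y * y) * z * (y * y) := by group
          _ = z := by rw [hA2 y hyA, one_mul, mul_one]
      rw [h3, h1] at h2
      -- z = x⁻¹ (x⁻¹ z x) x
      have h4 : (x * x) * z = (x * x) * (x⁻¹ * (x⁻¹ * z * x) * x) :=
        congrArg (fun t => (x * x) * t) h2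
      rw [h4]
      group
    have hxC : x ∈ Subgroup.centralizer (L : Set G) :=
      mem_of_sq_mem _ x (hLoddelt x hxL) hx2
    have hyC : y ∈ Subgroup.centralizer (L : Set G) := by
      rw [Subgroup.mem_centralizer_iff] at hxC ⊢
      intro z hz
      have h1 := hyact z hz
      have h2 := hxC z hz
      have h3 : x⁻¹ * z * x = z := by
        calc x⁻¹ * z * x = x⁻¹ * (z * x) := by group
          _ = x⁻¹ * (x * z) := by rw [h2]
          _ = z := by group
      rw [h3] at h1
      calc z * y = (y * z * y⁻¹) * y := by rw [h1]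
        _ = y * z := by group
    have hy1 : y = 1 := by
      have : y ∈ A ⊓ Subgroup.centralizer (L : Set G) := Subgroup.mem_inf.2 ⟨hyA, hyC⟩
      rw [hfaith, Subgroup.mem_bot] at this
      exact this
    have hnL : (n : G) ∈ L := by rw [hnxy, hy1, mul_one]; exact hxL
    have : n ∈ Cfsg.pCore 2 ↥W ⊓ L.subgroupOf W :=
      Subgroup.mem_inf.2 ⟨hn, Subgroup.mem_subgroupOf.2 hnL⟩
    rw [hdisj, Subgroup.mem_bot] at this
    exact this
  have hFodd : Odd (Nat.card ↥(Cfsg.fittingSubgroup ↥W)) := by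
    let pp : Nat.Primes := ⟨2, Nat.prime_two⟩
    have hsplit : Cfsg.Agent.Helper1.fitJoin ↥W = Cfsg.pCore 2 ↥W ⊔
        (⨆ (q : Nat.Primes) (_ : q ≠ pp), Cfsg.pCore (q : ℕ) ↥W : Subgroup ↥W) := by
      rw [Cfsg.Agent.Helper1.fitJoin, iSup_split_single _ pp]
    rw [Cfsg.Agent.Helper1.fittingSubgroup_eq_fitJoin, hsplit, hcore, bot_sup_eq]
    have := Cfsg.Agent.Helper1.card_iSup_pCore_ne_coprime (G := ↥W) pp
    exact Nat.coprime_two_right.1 this
  -- apply the abstract result
  have hA' : Cfsg.IsElementaryAbelian 2 (A.subgroupOf W) := by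
    refine ⟨⟨⟨fun x y => ?_⟩⟩, fun x hx => ?_⟩
    · apply Subtype.ext
      apply Subtype.ext
      exact hAcomm _ (Subgroup.mem_subgroupOf.1 x.2) _ (Subgroup.mem_subgroupOf.1 y.2)
    · apply Subtype.ext
      exact hA.2 _ (Subgroup.mem_subgroupOf.1 hx)
  have hAd' : Nat.card ↥(A.subgroupOf W) = 2 ^ d := by
    rw [Cfsg.Agent.Helper1.card_subgroupOf_of_le hAW, hAd]
  obtain ⟨a, ℓ, h1, h2, h3⟩ := exists_dual_family hFodd (A.subgroupOf W) hA' d hd hAd'
  -- ℓ i ∈ L
  have hℓL : ∀ i, ((ℓ i : W) : G) ∈ L := by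
    intro i
    obtain ⟨x, hxL, y, hyA, hxy⟩ := hdecomp (ℓ i) (ℓ i).2
    obtain ⟨-, -, hodd, -, -⟩ := h1 i
    rw [← Subgroup.orderOf_coe] at hodd
    have hpow : ∀ k : ℕ, ∃ xk ∈ L, ((ℓ i : W) : G) ^ k = xk * y ^ k := by
      intro k
      induction k with
      | zero => exact ⟨1, L.one_mem, by simp⟩
      | succ k ih =>
        obtain ⟨xk, hxk, hk⟩ := ih
        have hyk : y ^ k ∈ W := W.pow_mem (hAW hyA) k
        refine ⟨xk * (y ^ k * x * (y ^ k)⁻¹), L.mul_mem hxk (hconjL _ hyk x hxL), ?_⟩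
        rw [pow_succ, hk, pow_succ]
        nth_rw 1 [hxy]
        group
    obtain ⟨xr, hxr, hr⟩ := hpow (orderOf ((ℓ i : W) : G))
    rw [pow_orderOf_eq_one, pow_odd_of_sq y (hA2 y hyA) _ hodd] at hr
    have hyL : y ∈ L := by
      have : y = xr⁻¹ := by
        have h := hr.symm
        exact eq_inv_of_mul_eq_one_right h
      rw [this]; exact L.inv_mem hxr
    have hy1 : y = 1 := hLA1 y hyA hyL
    rw [hxy, hy1, mul_one]; exact hxL
  -- coerced data
  have haA : ∀ i, ((a i : W) : G) ∈ A := fun i => Subgroup.mem_subgroupOf.1 (h1 i).1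
  have ha1 : ∀ i, ((a i : W) : G) ≠ 1 := fun i h => (h1 i).2.1 (Subtype.ext h)
  have hasq : ∀ i, ((a i : W) : G) * ((a i : W) : G) = 1 := fun i => hA2 _ (haA i)
  have hainv' : ∀ i, ((a i : W) : G)⁻¹ = ((a i : W) : G) := fun i =>
    inv_eq_of_mul_eq_one_left (hasq i)
  have hoddG : ∀ i, Odd (orderOf ((ℓ i : W) : G)) := fun i => by
    rw [Subgroup.orderOf_coe]; exact (h1 i).2.2.1
  have h3G : ∀ i, 3 ≤ orderOf ((ℓ i : W) : G) := fun i => by
    rw [Subgroup.orderOf_coe]; exact (h1 i).2.2.2.1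
  have hinvG : ∀ i, ((a i : W) : G) * ((ℓ i : W) : G) * ((a i : W) : G)⁻¹ = ((ℓ i : W) : G)⁻¹ :=
    fun i => congrArg Subtype.val (h1 i).2.2.2.2
  have hcomm1 : ∀ i j, i ≠ j → ((a i : W) : G) * ((ℓ j : W) : G) = ((ℓ j : W) : G) * ((a i : W) : G) :=
    fun i j hij => congrArg Subtype.val (h2 i j hij).1
  have hcomm2 : ∀ i j, i ≠ j → ((ℓ i : W) : G) * ((ℓ j : W) : G) = ((ℓ j : W) : G) * ((ℓ i : W) : G) :=
    fun i j hij => congrArg Subtype.val (h2 i j hij).2
  refine ⟨fun i => Subgroup.zpowers ((a i : W) : G), fun i => Subgroup.zpowers ((ℓ i : W) : G),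
    fun i => orderOf ((ℓ i : W) : G), ?_, ?_, ?_⟩
  · intro i
    refine ⟨?_, ?_, ?_, hoddG i, h3G i, ?_⟩
    · rw [Subgroup.zpowers_le]; exact haA i
    · rw [Nat.card_zpowers]
      exact orderOf_eq_prime (by rw [pow_two]; exact hasq i) (ha1 i)
    · rw [Subgroup.zpowers_le]; exact hℓL i
    · -- the dihedral isomorphism
      have hy : (((a i : W) : G) * ((ℓ i : W) : G)) * (((a i : W) : G) * ((ℓ i : W) : G)) = 1 := by
        have h := hinvG i
        rw [hainv' i] at h
        calc (((a i : W) : G) * ((ℓ i : W) : G)) * (((a i : W) : G) * ((ℓ i : W) : G))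
            = (((a i : W) : G) * ((ℓ i : W) : G) * ((a i : W) : G)) * ((ℓ i : W) : G) := by group
          _ = 1 := by rw [h]; group
      have hy1 : ((a i : W) : G) * ((ℓ i : W) : G) ≠ 1 := by
        intro h
        have h4 : ((ℓ i : W) : G) = ((a i : W) : G)⁻¹ := eq_inv_of_mul_eq_one_right h
        rw [hainv' i] at h4
        have h5 : ((ℓ i : W) : G) ^ 2 = 1 := by rw [pow_two, h4]; exact hasq i
        have h6 := Nat.le_of_dvd (by norm_num) (orderOf_dvd_of_pow_eq_one h5)
        have := h3G i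
        omega
      have hiso := Cfsg.Agent.Helper2.closure_pair_invol_equiv_dihedral (hasq i) hy (ha1 i) hy1
      have hxy : ((a i : W) : G) * (((a i : W) : G) * ((ℓ i : W) : G)) = ((ℓ i : W) : G) := by
        rw [← mul_assoc, hasq i, one_mul]
      rw [hxy] at hiso
      obtain ⟨iso⟩ := hiso
      have heq : Subgroup.zpowers ((a i : W) : G) ⊔ Subgroup.zpowers ((ℓ i : W) : G) =
          Subgroup.closure ({((a i : W) : G), ((a i : W) : G) * ((ℓ i : W) : G)} : Set G) := by
        apply le_antisymm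
        · refine sup_le ?_ ?_
          · rw [Subgroup.zpowers_le]
            exact Subgroup.subset_closure (by simp)
          · rw [Subgroup.zpowers_le]
            have h4 : ((ℓ i : W) : G) = ((a i : W) : G)⁻¹ * (((a i : W) : G) * ((ℓ i : W) : G)) := by
              group
            rw [h4]
            exact Subgroup.mul_mem _ (Subgroup.inv_mem _ (Subgroup.subset_closure (by simp)))
              (Subgroup.subset_closure (by simp))
        · rw [Subgroup.closure_le]
          rintro z hz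
          rcases hz with rfl | hz
          · exact (le_sup_left : Subgroup.zpowers ((a i : W) : G) ≤ _) (Subgroup.mem_zpowers _)
          · rw [Set.mem_singleton_iff] at hz
            rw [hz]
            exact Subgroup.mul_mem _
              ((le_sup_left : Subgroup.zpowers ((a i : W) : G) ≤ _) (Subgroup.mem_zpowers _))
              ((le_sup_right : Subgroup.zpowers ((ℓ i : W) : G) ≤ _) (Subgroup.mem_zpowers _))
      exact ⟨(MulEquiv.subgroupCongr heq).trans iso⟩
  · -- generation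
    have h4 := congrArg (Subgroup.map W.subtype) h3
    rw [Subgroup.map_iSup] at h4
    have h5 : (A.subgroupOf W).map W.subtype = A := by
      rw [Subgroup.subgroupOf_map_subtype]
      exact inf_eq_left.2 hAW
    rw [h5] at h4
    rw [← h4]
    congr 1
    ext i
    rw [MonoidHom.map_zpowers]
    rfl
  · intro i j hij
    -- generators commute
    have hgen : ∀ x ∈ ({((a i : W) : G), ((ℓ i : W) : G)} : Set G),
        ∀ y ∈ ({((a j : W) : G), ((ℓ j : W) : G)} : Set G), x * y = y * x := by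
      intro x hx y hy
      rcases hx with rfl | hx
      · rcases hy with rfl | hy
        · exact hAcomm _ (haA i) _ (haA j)
        · rw [Set.mem_singleton_iff] at hy
          rw [hy]; exact hcomm1 i j hij
      · rw [Set.mem_singleton_iff] at hx
        rw [hx]
        rcases hy with rfl | hy
        · exact (hcomm1 j i (Ne.symm hij)).symm
        · rw [Set.mem_singleton_iff] at hy
          rw [hy]; exact hcomm2 i j hij
    have hcl : ∀ k, Subgroup.zpowers ((a k : W) : G) ⊔ Subgroup.zpowers ((ℓ k : W) : G) =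
        Subgroup.closure ({((a k : W) : G), ((ℓ k : W) : G)} : Set G) := by
      intro k
      rw [Subgroup.zpowers_eq_closure, Subgroup.zpowers_eq_closure, ← Subgroup.closure_union]
      congr 1
    intro x hx y hy
    show x * y = y * x
    have hx' : x ∈ Subgroup.closure ({((a i : W) : G), ((ℓ i : W) : G)} : Set G) := by
      rw [← hcl i]; exact hx
    have hy' : y ∈ Subgroup.closure ({((a j : W) : G), ((ℓ j : W) : G)} : Set G) := by
      rw [← hcl j]; exact hy
    have hle1 : Subgroup.closure ({((a j : W) : G), ((ℓ j : W) : G)} : Set G) ≤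
        Subgroup.centralizer ({((a i : W) : G), ((ℓ i : W) : G)} : Set G) := by
      rw [Subgroup.closure_le]
      intro y hy
      rw [SetLike.mem_coe, Subgroup.mem_centralizer_iff]
      intro x hx
      exact hgen x hx y hy
    have hle2 : Subgroup.closure ({((a i : W) : G), ((ℓ i : W) : G)} : Set G) ≤
        Subgroup.centralizer ((Subgroup.closure ({((a j : W) : G), ((ℓ j : W) : G)} : Set G) :
          Subgroup G) : Set G) := by
      rw [Subgroup.closure_le]
      intro x hx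
      rw [SetLike.mem_coe, Subgroup.mem_centralizer_iff]
      intro y hy
      have := hle1 hy
      rw [Subgroup.mem_centralizer_iff] at this
      exact (this x hx).symm
    have := hle2 hx'
    rw [Subgroup.mem_centralizer_iff] at this
    exact (this y hy').symm

end DihedralFamily
end Cfsg.Agent.Lead
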