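import Mathlib

set_option autoImplicit false

namespace Cfsg.Agent.Lead.DI

/-- In `ZMod (2 ^ m)` with `m ≥ 1`, an element killed by `2` is `0` or `2 ^ (m - 1)`. -/
theorem zmod_two_mul_eq_zero (m : ℕ) (hm : 1 ≤ m) (z : ZMod (2 ^ m)) (hz : 2 * z = 0) :
    z = 0 ∨ z = 2 ^ (m - 1) := by
  haveI : NeZero (2 ^ m) := ⟨by positivity⟩
  obtain ⟨v, hvdef⟩ : ∃ v : ℕ, v = z.val := ⟨_, rfl⟩
  have hv : v < 2 ^ m := hvdef ▸ ZMod.val_lt z
  have hzv : z = ((v : ℕ) : ZMod (2 ^ m)) := by rw [hvdef]; exact (ZMod.natCast_zmod_val z).symm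
  have hz' : ((2 * v : ℕ) : ZMod (2 ^ m)) = 0 := by
    push_cast
    rw [← hzv]
    exact hz
  rw [ZMod.natCast_eq_zero_iff] at hz'
  have h2 : (2 : ℕ) ^ m = 2 * 2 ^ (m - 1) := by
    rw [← pow_succ']
    congr 1
    omega
  rw [h2] at hz' hv
  have hd : 2 ^ (m - 1) ∣ v := Nat.dvd_of_mul_dvd_mul_left (by norm_num) hz'
  obtain ⟨t, ht⟩ := hd
  have ht2 : t < 2 := by
    by_contra hcon
    push Not at hcon
    have : 2 ^ (m - 1) * 2 ≤ 2 ^ (m - 1) * t := Nat.mul_le_mul_left _ hcon
    omega
  interval_cases t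
  · left
    rw [hzv, ht]
    simp
  · right
    rw [hzv, ht]
    simp

variable {n : ℕ} (a : Fin n → ℕ)

/-- The filtration of the socle. -/
def W (k : ℕ) (x : (i : Fin n) → ZMod (2 ^ a i)) : Prop :=
  2 • x = 0 ∧ ∃ y : (i : Fin n) → ZMod (2 ^ a i), 2 ^ k • y = x

theorem W_iff (ha1 : ∀ i, 1 ≤ a i) (k : ℕ) (x : (i : Fin n) → ZMod (2 ^ a i)) :
    W a k x ↔ 2 • x = 0 ∧ ∀ i, a i ≤ k → x i = 0 := by
  constructor
  · rintro ⟨h2, y, rfl⟩
    refine ⟨h2, fun i hi => ?_⟩
    show 2 ^ k • y i = 0
    rw [nsmul_eq_mul]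
    have : ((2 ^ k : ℕ) : ZMod (2 ^ a i)) = 0 := by
      rw [ZMod.natCast_eq_zero_iff]
      exact pow_dvd_pow 2 hi
    rw [this, zero_mul]
  · rintro ⟨h2, h0⟩
    refine ⟨h2, fun i => if a i ≤ k then 0 else (if x i = 0 then 0 else 2 ^ (a i - 1 - k)), ?_⟩
    funext i
    show 2 ^ k • (if a i ≤ k then 0 else (if x i = 0 then 0 else 2 ^ (a i - 1 - k))) = x i
    by_cases hi : a i ≤ k
    · rw [if_pos hi, h0 i hi, smul_zero]
    · rw [if_neg hi]
      by_cases hx : x i = 0
      · rw [if_pos hx, hx, smul_zero]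
      · rw [if_neg hx]
        have h2i : 2 * x i = 0 := by
          have := congrFun h2 i
          simpa [two_mul, two_nsmul] using this
        rcases zmod_two_mul_eq_zero (a i) (ha1 i) (x i) h2i with h | h
        · exact absurd h hx
        · rw [h, nsmul_eq_mul]
          push_cast
          rw [← pow_add]
          congr 1
          omega

theorem W_add (ha : Function.Injective a) (ha1 : ∀ i, 1 ≤ a i) (k : ℕ)
    (x x' : (i : Fin n) → ZMod (2 ^ a i))
    (hx : W a k x) (hx' : W a k x') (hnx : ¬ W a (k + 1) x) (hnx' : ¬ W a (k + 1) x') :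
    W a (k + 1) (x + x') := by
  rw [W_iff a ha1] at hx hx' hnx hnx' ⊢
  refine ⟨by rw [smul_add, hx.1, hx'.1, add_zero], fun i hi => ?_⟩
  show x i + x' i = 0
  by_cases hik : a i ≤ k
  · rw [hx.2 i hik, hx'.2 i hik, add_zero]
  · have hai : a i = k + 1 := by omega
    have key : ∀ z : (i : Fin n) → ZMod (2 ^ a i), (2 • z = 0 ∧ ∀ i, a i ≤ k → z i = 0) →
        ¬ (2 • z = 0 ∧ ∀ i, a i ≤ k + 1 → z i = 0) → z i = 2 ^ (a i - 1) := by
      intro z hz hnz
      push Not at hnz
      obtain ⟨j, hj, hzj⟩ := hnz hz.1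
      have hjk : ¬ a j ≤ k := fun h => hzj (hz.2 j h)
      have hji : j = i := ha (by omega)
      subst hji
      have h2i : 2 * z j = 0 := by
        have := congrFun hz.1 j
        simpa [two_mul, two_nsmul] using this
      rcases zmod_two_mul_eq_zero (a j) (ha1 j) (z j) h2i with h | h
      · exact absurd h hzj
      · exact h
    rw [key x hx hnx, key x' hx' hnx', ← two_mul, ← pow_succ']
    have : a i - 1 + 1 = a i := by have := ha1 i; omega
    rw [this]
    have : ((2 ^ a i : ℕ) : ZMod (2 ^ a i)) = 0 := ZMod.natCast_self _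
    push_cast at this
    exact this

theorem W_bot (ha1 : ∀ i, 1 ≤ a i) (x : (i : Fin n) → ZMod (2 ^ a i))
    (hx : W a (∑ i, a i) x) : x = 0 := by
  rw [W_iff a ha1] at hx
  funext i
  exact hx.2 i (Finset.single_le_sum (f := a) (fun _ _ => Nat.zero_le _) (Finset.mem_univ i))

section abstract

variable {A : Type*} [CommGroup A]

/-- Abstract version: an odd-order automorphism acts trivially on the involutions if the socle
filtration has steps of order at most two. -/
theorem fix_of_filtration (V : ℕ → A → Prop)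
    (hinv : ∀ k x (σ : MulAut A), V k x → V k (σ x))
    (hH : ∀ k x x', V k x → V k x' → ¬ V (k + 1) x → ¬ V (k + 1) x' → V (k + 1) (x * x'))
    (K : ℕ) (hK : ∀ x, V K x → x = 1)
    (α : MulAut A) (m : ℕ) (hm : Odd m) (hα : α ^ m = 1) :
    ∀ k, k ≤ K → ∀ x, V k x → α x = x := by
  have hdown : ∀ j k, k + j = K → ∀ x, V k x → α x = x := by
    intro j
    induction j with
    | zero =>
      intro k hk x hx
      have : k = K := by omega
      subst this
      rw [hK x hx, map_one]
    | succ j ih =>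
      intro k hk x hx
      by_cases hx1 : V (k + 1) x
      · exact ih (k + 1) (by omega) x hx1
      · have hαx : V k (α x) := hinv k x α hx
        have hαx1 : ¬ V (k + 1) (α x) := by
          intro h
          apply hx1
          have := hinv (k + 1) (α x) α⁻¹ h
          simpa using this
        have hv := hH k x (α x) hx hαx hx1 hαx1
        have hfix := ih (k + 1) (by omega) _ hv
        rw [map_mul] at hfix
        have h2 : α (α x) = x := by
          have : α x * α (α x) = α x * x := by rw [hfix, mul_comm]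
          exact mul_left_cancel this
        obtain ⟨t, rfl⟩ := hm
        have hpow : ∀ i : ℕ, (α ^ (2 * i)) x = x := by
          intro i
          induction i with
          | zero => simp
          | succ i ihi =>
            rw [show 2 * (i + 1) = 2 * i + 2 by ring, pow_add, MulAut.mul_apply, pow_two,
              MulAut.mul_apply, h2, ihi]
        have h3 : (α ^ (2 * t + 1)) x = x := by rw [hα]; rfl
        rw [pow_succ, MulAut.mul_apply] at h3
        have h4 := hpow t
        have : (α ^ (2 * t)) (α x) = (α ^ (2 * t)) x := by rw [h3, h4]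
        exact (α ^ (2 * t)).injective this
  intro k hk x hx
  exact hdown (K - k) k (by omega) x hx

end abstract

section lift

variable {A : Type*} [CommGroup A]

/-- A `p'`-automorphism of an abelian `p`-group fixing the elements of order `p` is trivial
on every element of `p`-power order. -/
theorem fix_of_fix_socle (p : ℕ) (α : MulAut A) (m : ℕ) (hm : m.Coprime p) (hα : α ^ m = 1)
    (hfix : ∀ x : A, x ^ p = 1 → α x = x) :
    ∀ (k : ℕ) (x : A), x ^ (p ^ k) = 1 → α x = x := by
  intro k
  induction k with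
  | zero =>
    intro x hx
    rw [pow_zero, pow_one] at hx
    rw [hx, map_one]
  | succ k ih =>
    intro x hx
    have h1 : α (x ^ p) = x ^ p := by
      apply ih
      rw [← pow_mul, ← pow_succ']
      exact hx
    obtain ⟨z, hz⟩ : ∃ z, z = α x * x⁻¹ := ⟨_, rfl⟩
    have hzp : z ^ p = 1 := by
      rw [hz, mul_pow, ← map_pow, h1, inv_pow, mul_inv_cancel]
    have hαz : α z = z := hfix z hzp
    have hαx : α x = x * z := by rw [hz, mul_comm (α x), mul_inv_cancel_left]
    have hpow : ∀ i : ℕ, (α ^ i) x = x * z ^ i := by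
      intro i
      induction i with
      | zero => simp
      | succ i ihi =>
        rw [pow_succ', MulAut.mul_apply, ihi, map_mul, map_pow, hαz, hαx, pow_succ]
        group
    have h3 := hpow m
    rw [hα] at h3
    have hzm : z ^ m = 1 := by
      have : x = x * z ^ m := h3
      exact (mul_eq_left.mp this.symm)
    have hz1 : z = 1 := by
      have hg : z ^ (Nat.gcd m p) = 1 := by
        rw [pow_gcd_eq_one]
        exact ⟨hzm, hzp⟩
      rw [hm, pow_one] at hg
      exact hg
    rw [hαx, hz1, mul_one]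

variable {n : ℕ} (a : Fin n → ℕ)

/-- An odd-order automorphism of a product of cyclic `2`-groups of pairwise distinct orders is
trivial. -/
theorem aut_eq_one_of_odd (ha : Function.Injective a) (ha1 : ∀ i, 1 ≤ a i)
    (e : A ≃* Multiplicative ((i : Fin n) → ZMod (2 ^ a i)))
    (α : MulAut A) (m : ℕ) (hm : Odd m) (hα : α ^ m = 1) : α = 1 := by
  classical
  obtain ⟨V, hV⟩ : ∃ V : ℕ → A → Prop, V = fun k x => x ^ 2 = 1 ∧ ∃ y : A, y ^ (2 ^ k) = x :=
    ⟨_, rfl⟩
  have hVW : ∀ k x, V k x ↔ W a k (Multiplicative.toAdd (e x)) := by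
    intro k x
    rw [hV]
    show (x ^ 2 = 1 ∧ ∃ y : A, y ^ (2 ^ k) = x) ↔
      (2 • Multiplicative.toAdd (e x) = 0 ∧ ∃ y, 2 ^ k • y = Multiplicative.toAdd (e x))
    constructor
    · rintro ⟨h2, y, rfl⟩
      refine ⟨?_, Multiplicative.toAdd (e y), ?_⟩
      · rw [← toAdd_pow, ← map_pow, h2, map_one, toAdd_one]
      · rw [← toAdd_pow, ← map_pow]
    · rintro ⟨h2, y, hy⟩
      refine ⟨?_, e.symm (Multiplicative.ofAdd y), ?_⟩
      · apply e.injective
        rw [map_pow, map_one]
        apply Multiplicative.toAdd.injective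
        rw [toAdd_pow, toAdd_one]
        exact h2
      · apply e.injective
        rw [map_pow, MulEquiv.apply_symm_apply]
        apply Multiplicative.toAdd.injective
        rw [toAdd_pow, toAdd_ofAdd]
        exact hy
  have hfix2 : ∀ x : A, x ^ 2 = 1 → α x = x := by
    intro x hx
    refine fix_of_filtration V ?_ ?_ (∑ i, a i) ?_ α m hm hα 0 (Nat.zero_le _) x ?_
    · intro k x σ hx
      rw [hV] at hx ⊢
      obtain ⟨h2, y, rfl⟩ := hx
      exact ⟨by rw [← map_pow, h2, map_one], σ y, by rw [map_pow]⟩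
    · intro k x x' hx hx' hnx hnx'
      rw [hVW] at hx hx' hnx hnx' ⊢
      rw [map_mul, toAdd_mul]
      exact W_add a ha ha1 k _ _ hx hx' hnx hnx'
    · intro x hx
      rw [hVW] at hx
      have := W_bot a ha1 _ hx
      apply e.injective
      rw [map_one]
      apply Multiplicative.toAdd.injective
      rw [this, toAdd_one]
    · rw [hV]
      exact ⟨hx, x, by rw [pow_zero, pow_one]⟩
  have hall : ∀ x : A, ∃ k : ℕ, x ^ (2 ^ k) = 1 := by
    intro x
    refine ⟨∑ i, a i, ?_⟩
    apply e.injective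
    rw [map_pow, map_one]
    apply Multiplicative.toAdd.injective
    rw [toAdd_pow, toAdd_one]
    funext i
    show 2 ^ (∑ i, a i) • (Multiplicative.toAdd (e x)) i = 0
    rw [nsmul_eq_mul]
    have : ((2 ^ (∑ i, a i) : ℕ) : ZMod (2 ^ a i)) = 0 := by
      rw [ZMod.natCast_eq_zero_iff]
      exact pow_dvd_pow 2
        (Finset.single_le_sum (f := a) (fun _ _ => Nat.zero_le _) (Finset.mem_univ i))
    rw [this, zero_mul]
  ext x
  obtain ⟨k, hk⟩ := hall x
  have hm2 : m.Coprime 2 := by
    rw [Nat.coprime_two_right]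
    exact hm
  exact fix_of_fix_socle 2 α m hm2 hα hfix2 k x hk

end lift

end Cfsg.Agent.Lead.DI
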