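import Mathlib
import Cfsg.Prelude.Def_Involutions
import Cfsg.Agent.Lead.FusionSat3

set_option autoImplicit false

namespace Cfsg.Agent.Lead

/-- A `2`-element normalizing a Sylow `2`-subgroup lies in it. -/
theorem mem_sylow_of_mem_normalizer_of_pow {G : Type*} [Group G] {p : ℕ} [Fact p.Prime]
    (T : Sylow p G) (t : G) (ht : ∃ k : ℕ, t ^ p ^ k = 1)
    (hN : t ∈ Subgroup.normalizer ((T : Subgroup G) : Set G)) : t ∈ (T : Subgroup G) := by
  have hz : IsPGroup p (Subgroup.zpowers t) := by
    obtain ⟨k, hk⟩ := ht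
    intro x
    obtain ⟨i, hi⟩ := Subgroup.mem_zpowers_iff.mp x.2
    refine ⟨k, ?_⟩
    apply Subtype.ext
    show (x : G) ^ p ^ k = 1
    rw [← hi, ← zpow_natCast, ← zpow_mul, mul_comm, zpow_mul, zpow_natCast, hk, one_zpow]
  have hle : Subgroup.zpowers t ≤ Subgroup.normalizer ((T : Subgroup G) : Set G) := by
    rw [Subgroup.zpowers_le]; exact hN
  have hsup := IsPGroup.to_sup_of_normal_right' hz T.2 hle
  have := T.is_maximal' hsup le_sup_right
  rw [← this]
  exact le_sup_left (a := Subgroup.zpowers t) (Subgroup.mem_zpowers t)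

/-- `S1226`. -/
theorem stronglyEmbedded_normalizer_of_elemAb_centralizers {G : Type*} [Group G] [Finite G]
    (T : Sylow 2 G) (hnc : ¬ IsCyclic (T : Subgroup G)) (hnn : ¬ (T : Subgroup G).Normal)
    (hC : ∀ t : G, orderOf t = 2 → IsMulCommutative (Subgroup.centralizer ({t} : Set G)) ∧
      ∀ c ∈ Subgroup.centralizer ({t} : Set G), c ^ 2 = 1) :
    Cfsg.IsStronglyEmbedded (Subgroup.normalizer ((T : Subgroup G) : Set G)) := by
  -- centralizers of involutions are `2`-groups
  have hC2 : ∀ t : G, orderOf t = 2 → IsPGroup 2 (Subgroup.centralizer ({t} : Set G)) := by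
    intro t ht c
    refine ⟨1, ?_⟩
    apply Subtype.ext
    have := (hC t ht).2 c.1 c.2
    simpa using this
  have hTnt : Nontrivial (T : Subgroup G) := by
    by_contra h
    rw [not_nontrivial_iff_subsingleton] at h
    exact hnc isCyclic_of_subsingleton
  -- a central involution of `T`
  have hcen : Nontrivial (Subgroup.center (T : Subgroup G)) := T.2.center_nontrivial
  have h2dvd : 2 ∣ Nat.card (Subgroup.center (T : Subgroup G)) := by
    have hp : IsPGroup 2 (Subgroup.center (T : Subgroup G)) := T.2.to_subgroup _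
    obtain ⟨k, hk⟩ := IsPGroup.iff_card.mp hp
    have hk0 : k ≠ 0 := by
      intro h0
      rw [h0, pow_zero] at hk
      have : Subsingleton (Subgroup.center (T : Subgroup G)) :=
        (Nat.card_eq_one_iff_unique.mp hk).1
      exact not_subsingleton _ this
    rw [hk]
    exact dvd_pow_self 2 hk0
  obtain ⟨z, hz⟩ := exists_prime_orderOf_dvd_card' 2 h2dvd
  have hzG : orderOf ((z : (T : Subgroup G)) : G) = 2 := by
    rw [Subgroup.orderOf_coe, Subgroup.orderOf_coe]; exact hz
  have hzcomm : ∀ x ∈ (T : Subgroup G), x * ((z : (T : Subgroup G)) : G) =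
      ((z : (T : Subgroup G)) : G) * x := by
    intro x hx
    have := Subgroup.mem_center_iff.mp z.2 ⟨x, hx⟩
    exact congrArg Subtype.val this
  -- `T = C_G(z)`
  have hmax : ∀ t : G, orderOf t = 2 → (T : Subgroup G) ≤ Subgroup.centralizer ({t} : Set G) →
      Subgroup.centralizer ({t} : Set G) = T := fun t ht hle => T.is_maximal' (hC2 t ht) hle
  have hTz : Subgroup.centralizer ({((z : (T : Subgroup G)) : G)} : Set G) = T := by
    apply hmax _ hzG
    intro x hx
    rw [Subgroup.mem_centralizer_singleton_iff]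
    exact hzcomm x hx
  have hTcomm : ∀ x ∈ (T : Subgroup G), ∀ y ∈ (T : Subgroup G), x * y = y * x := by
    intro x hx y hy
    have hcm := (hC _ hzG).1
    rw [← hTz] at hx hy
    have := hcm.is_comm.comm ⟨x, hx⟩ ⟨y, hy⟩
    exact congrArg Subtype.val this
  have hTt : ∀ t ∈ (T : Subgroup G), orderOf t = 2 →
      Subgroup.centralizer ({t} : Set G) = T := by
    intro t htT ht
    apply hmax t ht
    intro x hx
    rw [Subgroup.mem_centralizer_singleton_iff]
    exact hTcomm x hx t htT
  have hTle : (T : Subgroup G) ≤ Subgroup.normalizer ((T : Subgroup G) : Set G) :=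
    Subgroup.le_normalizer
  refine ⟨?_, ?_, ?_⟩
  · intro h
    apply hnn
    exact Subgroup.normalizer_eq_top_iff.mp h
  · have h1 : Nat.card (T : Subgroup G) ∣
        Nat.card (Subgroup.normalizer ((T : Subgroup G) : Set G)) :=
      Subgroup.card_dvd_of_le hTle
    have h2 : 2 ∣ Nat.card (T : Subgroup G) := by
      have h3 : orderOf (z : (T : Subgroup G)) = 2 := by
        rw [Subgroup.orderOf_coe]; exact hz
      have h4 := orderOf_dvd_natCard (z : (T : Subgroup G))
      rwa [h3] at h4
    exact even_iff_two_dvd.mpr (h2.trans h1)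
  · intro g hg
    by_contra hodd
    rw [Nat.not_odd_iff_even] at hodd
    obtain ⟨t, ht⟩ := exists_prime_orderOf_dvd_card' 2 (even_iff_two_dvd.mp hodd)
    have htG : orderOf (t : G) = 2 := by rw [Subgroup.orderOf_coe]; exact ht
    have ht1 : (t : G) ∈ Subgroup.normalizer ((T : Subgroup G) : Set G) :=
      (Subgroup.mem_inf.mp t.2).1
    obtain ⟨h, hhN, hht⟩ := (Subgroup.mem_inf.mp t.2).2
    have hht' : g * h * g⁻¹ = (t : G) := hht
    have hh2 : orderOf h = 2 := by
      have : h = (MulAut.conj g⁻¹).toMonoidHom (t : G) := by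
        show h = g⁻¹ * (t : G) * (g⁻¹)⁻¹
        rw [← hht']; group
      rw [this, orderOf_injective _ (MulAut.conj g⁻¹).injective]; exact htG
    have hpow : ∀ s : G, orderOf s = 2 → ∃ k : ℕ, s ^ 2 ^ k = 1 := by
      intro s hs
      exact ⟨1, by rw [pow_one, ← hs]; exact pow_orderOf_eq_one s⟩
    have htT : (t : G) ∈ (T : Subgroup G) :=
      mem_sylow_of_mem_normalizer_of_pow T _ (hpow _ htG) ht1
    have hhT : h ∈ (T : Subgroup G) := mem_sylow_of_mem_normalizer_of_pow T _ (hpow _ hh2) hhN
    apply hg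
    apply mem_normalizer_of_conj_mem_of_finite
    intro x hx
    rw [← hTt _ htT htG, Subgroup.mem_centralizer_singleton_iff]
    have hxh : x * h = h * x := hTcomm x hx h hhT
    rw [← hht']
    calc g * x * g⁻¹ * (g * h * g⁻¹) = g * (x * h) * g⁻¹ := by group
      _ = g * (h * x) * g⁻¹ := by rw [hxh]
      _ = g * h * g⁻¹ * (g * x * g⁻¹) := by group

end Cfsg.Agent.Lead
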