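import Mathlib
import Cfsg.Prelude.Def_FusionSystem
import Cfsg.Prelude.Def_Transfer
import Cfsg.Agent.Lead.CharChain
import Cfsg.Agent.Lead.PCubeExtra
import Cfsg.Agent.Lead.ExtraPCube
import Cfsg.Agent.Lead.StronglyEmbedded
import Cfsg.Agent.Helper2.QuatIso

set_option autoImplicit false

/-!
Essential subgroups of order `p³`.
-/

namespace Cfsg.Agent.Lead.EssPCube

open Cfsg

universe u

variable {H : Type u} [Group H] [Finite H] {p : ℕ} [hp : Fact p.Prime]

/-- A characteristic chain `H₁ ≤ H₂` with `|H₁| = p`, `|H₂| = p²`. -/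
def HasCharChain (p : ℕ) (H : Type u) [Group H] : Prop :=
  ∃ H₁ H₂ : Subgroup H, H₁ ≤ H₂ ∧ Nat.card H₁ = p ∧ Nat.card H₂ = p ^ 2 ∧
    (∀ β : MulAut H, ∀ y ∈ H₁, β y ∈ H₁) ∧ (∀ β : MulAut H, ∀ y ∈ H₂, β y ∈ H₂)

theorem abelian_case (hcard : Nat.card H = p ^ 3) (hcomm : ∀ a b : H, a * b = b * a) :
    (∀ x : H, x ^ p = 1) ∨ HasCharChain p H := by
  letI : CommGroup H := { ‹Group H› with mul_comm := hcomm }
  have hpos : 0 < p := hp.out.pos
  let f : H →* H := powMonoidHom p
  have hfx : ∀ x : H, f x = x ^ p := fun x => rfl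
  have hmemker : ∀ x : H, x ∈ f.ker ↔ x ^ p = 1 := fun x => by rw [MonoidHom.mem_ker, hfx]
  have hprod : Nat.card f.ker * Nat.card f.range = p ^ 3 := by
    rw [← Subgroup.index_ker, Subgroup.card_mul_index, hcard]
  have hdvd : Nat.card f.ker ∣ p ^ 3 := Dvd.intro _ hprod
  obtain ⟨k, hk3, hk⟩ := (Nat.dvd_prime_pow hp.out).1 hdvd
  have hrange : Nat.card f.range = p ^ (3 - k) := by
    rw [hk] at hprod
    have h3 : p ^ 3 = p ^ k * p ^ (3 - k) := by rw [← pow_add]; congr 1; omega
    rw [h3] at hprod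
    exact Nat.eq_of_mul_eq_mul_left (pow_pos hpos k) hprod
  have hinvker : ∀ β : MulAut H, ∀ y ∈ f.ker, β y ∈ f.ker := by
    intro β y hy
    rw [hmemker] at hy ⊢
    rw [← map_pow, hy, map_one]
  have hinvrange : ∀ β : MulAut H, ∀ y ∈ f.range, β y ∈ f.range := by
    rintro β _ ⟨x, rfl⟩
    exact ⟨β x, by rw [hfx, hfx, map_pow]⟩
  interval_cases k
  · -- kernel trivial: impossible by Cauchy
    exfalso
    have hdvdp : p ∣ Nat.card H := by rw [hcard]; exact dvd_pow_self p (by norm_num)
    obtain ⟨x, hx⟩ := exists_prime_orderOf_dvd_card' p hdvdp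
    have hxk : x ∈ f.ker := by rw [hmemker, ← hx]; exact pow_orderOf_eq_one x
    have hbot : f.ker = ⊥ := Subgroup.card_eq_one.1 (by rw [hk, pow_zero])
    rw [hbot, Subgroup.mem_bot] at hxk
    rw [hxk, orderOf_one] at hx
    exact hp.out.one_lt.ne hx
  · right
    refine ⟨f.ker, f.range, ?_, by rw [hk, pow_one], hrange, hinvker, hinvrange⟩
    -- ker ≤ range
    have hdvdp : p ∣ Nat.card f.range := by rw [hrange]; exact dvd_pow_self p (by norm_num)
    obtain ⟨w, hw⟩ := exists_prime_orderOf_dvd_card' p hdvdp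
    have hw1 : (w : H) ^ p = 1 := by
      have : w ^ p = 1 := by rw [← hw]; exact pow_orderOf_eq_one w
      exact_mod_cast congrArg Subtype.val this
    have hwne : (w : H) ≠ 1 := by
      intro h
      have : w = 1 := Subtype.ext h
      rw [this, orderOf_one] at hw
      exact hp.out.one_lt.ne hw
    have hwmem : (w : H) ∈ f.ker ⊓ f.range := ⟨(hmemker _).2 hw1, w.2⟩
    have hne : f.ker ⊓ f.range ≠ ⊥ := fun h => hwne (by rw [h, Subgroup.mem_bot] at hwmem; exact hwmem)
    have hcd : Nat.card (f.ker ⊓ f.range : Subgroup H) ∣ p := by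
      rw [← pow_one p, ← hk]; exact Subgroup.card_dvd_of_le inf_le_left
    rcases (Nat.dvd_prime hp.out).1 hcd with h1 | h1
    · exact absurd (Subgroup.card_eq_one.1 h1) hne
    · have : f.ker ⊓ f.range = f.ker :=
        Subgroup.eq_of_le_of_card_ge inf_le_left (by rw [h1, hk, pow_one])
      rw [← this]; exact inf_le_right
  · right
    have hr : Nat.card f.range = p := by rw [hrange]; norm_num
    refine ⟨f.range, f.ker, ?_, hr, hk, hinvrange, hinvker⟩
    intro y hy
    rw [hmemker]
    have := pow_card_eq_one' (G := f.range) (x := ⟨y, hy⟩)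
    rw [hr] at this
    exact congrArg Subtype.val this
  · left
    have htop : f.ker = ⊤ := Subgroup.eq_top_of_card_eq _ (by rw [hk, hcard])
    intro x
    rw [← hmemker, htop]; trivial

theorem odd_case (hp2 : p ≠ 2) (hcard : Nat.card H = p ^ 3) (hnc : ∃ a b : H, a * b ≠ b * a) :
    (IsExtraspecial p H ∧ ∀ x : H, x ^ p = 1) ∨ HasCharChain p H := by
  have hE := PCubeExtra.isExtraspecial_of_card_cube hcard hnc
  by_cases hex : ∀ x : H, x ^ p = 1
  · exact Or.inl ⟨hE, hex⟩
  · right
    push Not at hex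
    obtain ⟨x₀, hx₀⟩ := hex
    have hcardom : Nat.card (ExtraPCube.om hp2 hE) = p ^ 2 := by
      haveI : Fact (Nat.card (Subgroup.center H)).Prime := ⟨hE.2 ▸ hp.out⟩
      have hrange : (ExtraPCube.powHom hp2 hE).range = ⊤ := by
        rcases Subgroup.eq_bot_or_eq_top_of_prime_card (ExtraPCube.powHom hp2 hE).range with h | h
        · exfalso
          apply hx₀
          have : ExtraPCube.powHom hp2 hE x₀ ∈ (ExtraPCube.powHom hp2 hE).range := ⟨x₀, rfl⟩
          rw [h, Subgroup.mem_bot] at this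
          exact congrArg Subtype.val this
        · exact h
      have hidx : (ExtraPCube.om hp2 hE).index = p := by
        rw [ExtraPCube.om, Subgroup.index_ker, hrange, Subgroup.card_top, hE.2]
      have := Subgroup.card_mul_index (ExtraPCube.om hp2 hE)
      rw [hidx, hcard] at this
      have hpos := hp.out.pos
      have h3 : p ^ 3 = p ^ 2 * p := by ring
      rw [h3] at this
      exact Nat.eq_of_mul_eq_mul_right hpos this
    refine ⟨Subgroup.center H, ExtraPCube.om hp2 hE, ExtraPCube.center_le_om hp2 hE, hE.2,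
      hcardom, ?_, ?_⟩
    · intro β z hz
      rw [Subgroup.mem_center_iff] at hz ⊢
      intro g
      have := hz (β⁻¹ g)
      have h2 := congrArg β this
      simpa using h2
    · intro β y hy
      rw [ExtraPCube.mem_om] at hy ⊢
      rw [← map_pow, hy, map_one]


section Two

variable {K : Type u} [Group K] [Finite K]

/-- In a non-commutative group of order 8, an element of order 4 is not centralized by an
element outside the subgroup it generates. -/
theorem not_comm_of_not_mem (hcard : Nat.card K = 2 ^ 3) (hnc : ∃ a b : K, a * b ≠ b * a)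
    (x y : K) (hx : orderOf x = 4) (hidx : (Subgroup.zpowers x).index = 2)
    (hy : y ∉ Subgroup.zpowers x) : y * x ≠ x * y := by
  intro hxy
  have hcen : ∀ a : K, a * x = x * a := by
    intro a
    by_cases ha : a ∈ Subgroup.zpowers x
    · obtain ⟨i, rfl⟩ := Subgroup.mem_zpowers_iff.1 ha
      rw [← zpow_add_one, ← zpow_one_add, add_comm]
    · have h1 : y⁻¹ * a ∈ Subgroup.zpowers x := by
        rw [Subgroup.mul_mem_iff_of_index_two hidx, Subgroup.inv_mem_iff]
        exact ⟨fun h => absurd h hy, fun h => absurd h ha⟩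
      obtain ⟨i, hi⟩ := Subgroup.mem_zpowers_iff.1 h1
      have ha' : a = y * x ^ i := by rw [hi]; group
      rw [ha', mul_assoc, ← zpow_add_one, ← mul_assoc, ← hxy, mul_assoc, ← zpow_one_add, add_comm]
  have hxc : x ∈ Subgroup.center K := by
    rw [Subgroup.mem_center_iff]; exact hcen
  haveI : Fact (2 : ℕ).Prime := ⟨Nat.prime_two⟩
  have hZ := PCubeExtra.card_center_of_card_cube (p := 2) hcard hnc
  have h1 : orderOf x ∣ Nat.card (Subgroup.center K) := by
    have := orderOf_dvd_natCard (⟨x, hxc⟩ : Subgroup.center K)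
    rwa [Subgroup.orderOf_mk] at this
  rw [hx, hZ] at h1
  omega

theorem conj_eq_inv (hcard : Nat.card K = 2 ^ 3) (hnc : ∃ a b : K, a * b ≠ b * a)
    (x y : K) (hx : orderOf x = 4) (hidx : (Subgroup.zpowers x).index = 2)
    (hy : y ∉ Subgroup.zpowers x) : y * x * y⁻¹ = x⁻¹ := by
  haveI hn : (Subgroup.zpowers x).Normal := Subgroup.normal_of_index_eq_two hidx
  have hw : y * x * y⁻¹ ∈ Subgroup.zpowers x := hn.conj_mem x (Subgroup.mem_zpowers x) y
  rw [← mem_powers_iff_mem_zpowers] at hw
  obtain ⟨n, hn'⟩ := hw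
  have hn4 : x ^ (n % 4) = y * x * y⁻¹ := by
    rw [← hx, pow_mod_orderOf]; exact hn'
  have hx4 : x ^ 4 = 1 := by rw [← hx]; exact pow_orderOf_eq_one x
  have hx2 : x ^ 2 ≠ 1 := by
    intro h
    have := orderOf_dvd_of_pow_eq_one h
    rw [hx] at this
    omega
  have hx1 : x ≠ 1 := by
    intro h; rw [h, orderOf_one] at hx; omega
  have hlt : n % 4 < 4 := Nat.mod_lt _ (by norm_num)
  interval_cases (n % 4)
  · exfalso
    rw [pow_zero] at hn4
    apply hx1
    have : x = y⁻¹ * (y * x * y⁻¹) * y := by group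
    rw [this, ← hn4]; group
  · exfalso
    rw [pow_one] at hn4
    apply not_comm_of_not_mem hcard hnc x y hx hidx hy
    have : y * x = (y * x * y⁻¹) * y := by group
    rw [this, ← hn4]
  · exfalso
    apply hx2
    have h1 : (y * x * y⁻¹) ^ 2 = y * x ^ 2 * y⁻¹ := by rw [conj_pow]
    have h2 : (x ^ 2) ^ 2 = 1 := by rw [← pow_mul]; exact hx4
    rw [hn4, h1] at h2
    have : x ^ 2 = y⁻¹ * (y * x ^ 2 * y⁻¹) * y := by group
    rw [this, h2]; group
  · rw [← hn4]
    symm
    rw [inv_eq_iff_mul_eq_one, ← pow_succ']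
    exact hx4

theorem two_case (hcard : Nat.card K = 2 ^ 3) (hnc : ∃ a b : K, a * b ≠ b * a) :
    Nonempty (K ≃* QuaternionGroup 2) ∨ HasCharChain 2 K := by
  haveI : Fact (2 : ℕ).Prime := ⟨Nat.prime_two⟩
  -- an element of order 4
  have hex : ∃ x : K, x ^ 2 ≠ 1 := by
    by_contra h
    push Not at h
    obtain ⟨a, b, hab⟩ := hnc
    apply hab
    have ha : a⁻¹ = a := by rw [inv_eq_iff_mul_eq_one, ← pow_two]; exact h a
    have hb : b⁻¹ = b := by rw [inv_eq_iff_mul_eq_one, ← pow_two]; exact h b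
    have hab' : (a * b)⁻¹ = a * b := by rw [inv_eq_iff_mul_eq_one, ← pow_two]; exact h (a * b)
    rw [← hab', mul_inv_rev, ha, hb]
  obtain ⟨x, hx2⟩ := hex
  have hord : orderOf x = 4 := by
    have h1 : orderOf x ∣ 2 ^ 3 := by rw [← hcard]; exact orderOf_dvd_natCard x
    obtain ⟨k, hk3, hk⟩ := (Nat.dvd_prime_pow Nat.prime_two).1 h1
    interval_cases k
    · exfalso; apply hx2
      rw [pow_zero, orderOf_eq_one_iff] at hk; rw [hk, one_pow]
    · exfalso; apply hx2
      rw [pow_one] at hk; rw [← hk]; exact pow_orderOf_eq_one x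
    · rw [hk]; norm_num
    · exfalso
      -- cyclic, hence commutative
      haveI hc : IsCyclic K := isCyclic_of_orderOf_eq_card x (by rw [hk, hcard])
      have hmc : IsMulCommutative K := IsCyclic.isMulCommutative
      obtain ⟨a, b, hab⟩ := hnc
      exact hab (hmc.is_comm.comm a b)
  have hcardM : Nat.card (Subgroup.zpowers x) = 4 := by rw [Nat.card_zpowers, hord]
  have hidx : (Subgroup.zpowers x).index = 2 := by
    have := Subgroup.card_mul_index (Subgroup.zpowers x)
    rw [hcardM, hcard] at this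
    omega
  have hx4 : x ^ 4 = 1 := by rw [← hord]; exact pow_orderOf_eq_one x
  have hZ := PCubeExtra.card_center_of_card_cube (p := 2) hcard hnc
  by_cases hB : ∃ y : K, y ∉ Subgroup.zpowers x ∧ y ^ 2 = 1
  · right
    obtain ⟨y, hy, hy2⟩ := hB
    have hrel := conj_eq_inv hcard hnc x y hord hidx hy
    have hyinv : y⁻¹ = y := by rw [inv_eq_iff_mul_eq_one, ← pow_two]; exact hy2
    -- elements outside M square to 1
    have hout : ∀ g : K, g ∉ Subgroup.zpowers x → g ^ 2 = 1 := by
      intro g hg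
      have h1 : y⁻¹ * g ∈ Subgroup.zpowers x := by
        rw [Subgroup.mul_mem_iff_of_index_two hidx, Subgroup.inv_mem_iff]
        exact ⟨fun h => absurd h hy, fun h => absurd h hg⟩
      obtain ⟨i, hi⟩ := Subgroup.mem_zpowers_iff.1 h1
      have hg' : g = y * x ^ i := by rw [hi]; group
      have hconj : y * x ^ i * y⁻¹ = (x ^ i)⁻¹ := by
        rw [← conj_zpow, hrel, inv_zpow]
      rw [hg', pow_two]
      calc y * x ^ i * (y * x ^ i) = (y * x ^ i * y⁻¹) * (y * y) * x ^ i := by group
        _ = 1 := by rw [hconj, ← pow_two, hy2, mul_one, inv_mul_cancel]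
    have hcenter : Subgroup.zpowers (x ^ 2) = Subgroup.center K := by
      apply Subgroup.eq_of_le_of_card_ge
      · rw [Subgroup.zpowers_le]
        exact PCubeExtra.pow_mem_center_of_card_cube (p := 2) hcard hnc x
      · rw [hZ, Nat.card_zpowers]
        have h2 : orderOf (x ^ 2) ∣ 2 := orderOf_dvd_of_pow_eq_one (by rw [← pow_mul]; exact hx4)
        rcases (Nat.dvd_prime Nat.prime_two).1 h2 with h | h
        · exact absurd (orderOf_eq_one_iff.1 h) hx2
        · rw [h]
    refine ⟨Subgroup.center K, Subgroup.zpowers x, ?_, hZ, by rw [hcardM]; norm_num, ?_, ?_⟩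
    · rw [← hcenter, Subgroup.zpowers_le]
      exact Subgroup.pow_mem _ (Subgroup.mem_zpowers x) 2
    · intro β z hz
      rw [Subgroup.mem_center_iff] at hz ⊢
      intro g
      have := hz (β⁻¹ g)
      have h2 := congrArg β this
      simpa using h2
    · intro β z hz
      obtain ⟨i, rfl⟩ := Subgroup.mem_zpowers_iff.1 hz
      rw [map_zpow]
      apply Subgroup.zpow_mem
      by_contra hβx
      have := hout _ hβx
      rw [← map_pow] at this
      apply hx2
      have h3 : β (x ^ 2) = β 1 := by rw [this, map_one]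
      exact β.injective h3
  · left
    push Not at hB
    -- pick y outside M
    have hne : Subgroup.zpowers x ≠ ⊤ := by
      intro h
      have := Subgroup.index_top (G := K)
      rw [← h, hidx] at this
      omega
    obtain ⟨y, hy⟩ : ∃ y : K, y ∉ Subgroup.zpowers x := by
      by_contra h
      push Not at h
      exact hne (Subgroup.eq_top_iff' _ |>.2 h)
    have hy2 : y ^ 2 ≠ 1 := hB y hy
    have hrel := conj_eq_inv hcard hnc x y hord hidx hy
    have hyy : y * y ∈ Subgroup.zpowers x := by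
      rw [Subgroup.mul_mem_iff_of_index_two hidx]
    -- y * y = x ^ 2
    have hyy2 : y * y = x ^ 2 := by
      rw [← mem_powers_iff_mem_zpowers] at hyy
      obtain ⟨n, hn'⟩ := hyy
      have hn4 : x ^ (n % 4) = y * y := by rw [← hord, pow_mod_orderOf]; exact hn'
      -- y has order 4
      have hy4 : y ^ 4 = 1 := by
        have h1 : orderOf y ∣ 2 ^ 3 := by rw [← hcard]; exact orderOf_dvd_natCard y
        obtain ⟨k, hk3, hk⟩ := (Nat.dvd_prime_pow Nat.prime_two).1 h1
        interval_cases k
        · rw [pow_zero, orderOf_eq_one_iff] at hk; rw [hk, one_pow]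
        · exfalso; apply hy2; rw [pow_one] at hk; rw [← hk]; exact pow_orderOf_eq_one y
        · have : orderOf y = 4 := by rw [hk]; norm_num
          rw [← this]; exact pow_orderOf_eq_one y
        · exfalso
          haveI hc : IsCyclic K := isCyclic_of_orderOf_eq_card y (by rw [hk, hcard])
          have hmc : IsMulCommutative K := IsCyclic.isMulCommutative
          obtain ⟨a, b, hab⟩ := hnc
          exact hab (hmc.is_comm.comm a b)
      have hsq : (y * y) ^ 2 = 1 := by rw [← pow_two, ← pow_mul]; exact hy4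
      have hlt : n % 4 < 4 := Nat.mod_lt _ (by norm_num)
      interval_cases (n % 4)
      · exfalso; apply hy2; rw [pow_two, ← hn4, pow_zero]
      · exfalso; apply hx2; rw [← hn4, pow_one] at hsq; exact hsq
      · exact hn4.symm
      · exfalso
        rw [← hn4, ← pow_mul] at hsq
        apply hx2
        have h6 : x ^ 6 = 1 := by
          have : (3 * 2 : ℕ) = 6 := by norm_num
          rw [this] at hsq; exact hsq
        have : x ^ 2 = x ^ 6 * (x ^ 4)⁻¹ := by group
        rw [this, h6, hx4]; simp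
    haveI : NeZero (2 : ℕ) := ⟨by norm_num⟩
    have hinj := Cfsg.Agent.Helper2.QuatIso.quatHom_injective x y 2 hord hyy2 hrel hy
    have hbij : Function.Bijective (Cfsg.Agent.Helper2.QuatIso.quatHom x y 2 hord hyy2 hrel) := by
      rw [Nat.bijective_iff_injective_and_card]
      refine ⟨hinj, ?_⟩
      rw [hcard, Nat.card_eq_fintype_card, QuaternionGroup.card]
      norm_num
    exact ⟨(MulEquiv.ofBijective _ hbij).symm⟩

end Two

/-- Essential subgroups of order `p³`. -/
theorem essential_cube {Ω : Type u} [Group Ω] {S : Subgroup Ω} (p : ℕ) [hp : Fact p.Prime]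
    (F : Cfsg.FusionSystem S) (L : Subgroup Ω) (hL : F.IsEssential p L)
    (hcard : Nat.card L = p ^ 3) :
    Cfsg.IsElementaryAbelian p L ∨ (Odd p ∧ Cfsg.IsExtraspecial p ↥L ∧ ∀ x ∈ L, x ^ p = 1) ∨
      (p = 2 ∧ Nonempty (↥L ≃* QuaternionGroup 2)) := by
  haveI : Finite ↥L := Nat.finite_of_card_ne_zero (by
    rw [hcard]; exact pow_ne_zero _ hp.out.ne_zero)
  obtain ⟨-, -, hn, E, hE⟩ := hL
  haveI := hn
  have hpX := hE.1
  have hcoreX := Cfsg.Agent.Lead.pCore_eq_bot_of_stronglyPEmbedded p E hE
  have hno : ¬ HasCharChain p ↥L := by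
    rintro ⟨H₁, H₂, h12, c1, c2, i1, i2⟩
    exact CharChain.pCore_ne_bot H₁ H₂ h12 c1 c2 hcard i1 i2 (F.autGroup L)
      ((Cfsg.Inn ↥L).subgroupOf (F.autGroup L)) hpX hcoreX
  by_cases hcomm : ∀ a b : ↥L, a * b = b * a
  · left
    rcases abelian_case hcard hcomm with h | h
    · refine ⟨⟨⟨fun a b => hcomm a b⟩⟩, fun a ha => ?_⟩
      have := congrArg Subtype.val (h ⟨a, ha⟩)
      simpa using this
    · exact absurd h hno
  · right
    push Not at hcomm
    have hnc : ∃ a b : ↥L, a * b ≠ b * a := hcomm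
    by_cases hp2 : p = 2
    · right
      subst hp2
      rcases two_case hcard hnc with h | h
      · exact ⟨rfl, h⟩
      · exact absurd h hno
    · left
      rcases odd_case hp2 hcard hnc with h | h
      · refine ⟨hp.out.odd_of_ne_two hp2, h.1, fun x hx => ?_⟩
        have := congrArg Subtype.val (h.2 ⟨x, hx⟩)
        simpa using this
      · exact absurd h hno

end Cfsg.Agent.Lead.EssPCube
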