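import Mathlib
import Cfsg.Prelude.Def_QuasithinSetup
import Cfsg.Agent.Helper2.CharPLocal
import Cfsg.Agent.Helper3.CoprimeHall
import Cfsg.Agent.Helper1.PGroup
import Cfsg.Agent.Helper1.Fitting

/-!
Lead library: in a group of even characteristic, the normalizer of a 2-subgroup meeting the centre of
a Sylow 2-subgroup nontrivially has characteristic 2.
-/

set_option autoImplicit false

namespace Cfsg.Agent.Lead.EvenChar

open Cfsg.Agent.Helper5 Cfsg.Agent.Helper2
open scoped commutatorElement

/-- If a subgroup `A` of characteristic `p` contains the centralizer of `O_p(B)`, then `B` has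
characteristic `p`. -/
theorem hasCharP_of_centralizer_le {B : Type*} [Group B] [Finite B] {p : ℕ} [Fact p.Prime]
    (A : Subgroup B) (hA : HasCharP p ↥A)
    (hC : Subgroup.centralizer (Cfsg.pCore p B : Set B) ≤ A) : HasCharP p B := by
  haveI : (Cfsg.pCore p B).Normal := Cfsg.Agent.Helper1.pCore_normal p
  obtain ⟨C, hCdef⟩ : ∃ C : Subgroup B, C = Subgroup.centralizer (Cfsg.pCore p B : Set B) :=
    ⟨_, rfl⟩
  have hCn : C.Normal := by rw [hCdef]; infer_instance
  have hCA : C ≤ A := by rw [hCdef]; exact hC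
  haveI : (C.subgroupOf A).Normal := Subgroup.Normal.subgroupOf hCn A
  have hC' : HasCharP p ↥(C.subgroupOf A) := hA.of_normal (C.subgroupOf A)
  have hCC : HasCharP p ↥C := hC'.of_equiv (Subgroup.subgroupOfEquivOfLe hCA)
  haveI hchar := Cfsg.Agent.Helper3.pCore_characteristic p ↥C
  have hNn : ((Cfsg.pCore p ↥C).map C.subtype).Normal :=
    ConjAct.normal_of_characteristic_of_normal
  have hN : (Cfsg.pCore p ↥C).map C.subtype ≤ Cfsg.pCore p B :=
    le_pCore hNn ((isPGroup_pCore p).map _)
  have hCp : IsPGroup p C := by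
    apply isPGroup_of_pprime_elements
    intro c hc hcop
    have h1 : (⟨c, hc⟩ : ↥C) ∈ Subgroup.centralizer (Cfsg.pCore p ↥C : Set ↥C) := by
      rw [Subgroup.mem_centralizer_iff]
      intro x hx
      apply Subtype.ext
      have hxB : (x : B) ∈ Cfsg.pCore p B := hN ⟨x, hx, rfl⟩
      have hc' : c ∈ Subgroup.centralizer (Cfsg.pCore p B : Set B) := by rw [← hCdef]; exact hc
      exact Subgroup.mem_centralizer_iff.1 hc' _ hxB
    have h2 := hCC h1
    have hcop' : (orderOf (⟨c, hc⟩ : ↥C)).Coprime p := by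
      rw [← Subgroup.orderOf_coe]; exact hcop
    have h3 := eq_one_of_coprime_of_mem_pgroup (Cfsg.pCore p ↥C) (isPGroup_pCore p) ⟨c, hc⟩ h2 hcop'
    exact congrArg Subtype.val h3
  have : C ≤ Cfsg.pCore p B := le_pCore hCn hCp
  unfold HasCharP
  rw [← hCdef]
  exact this

/-- A finite `p`-group generated by the conjugates of one element is cyclic, generated by it. -/
theorem eq_zpowers_of_conj_closure {U : Type*} [Group U] [Finite U] {p : ℕ} [Fact p.Prime]
    (hU : IsPGroup p U) (z : U)
    (h : Subgroup.closure {g : U | ∃ u : U, g = u * z * u⁻¹} = ⊤) : Subgroup.zpowers z = ⊤ := by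
  apply frattini_nongenerating
  rw [eq_top_iff, ← h, Subgroup.closure_le]
  rintro _ ⟨u, rfl⟩
  have h1 : u * z * u⁻¹ = ⁅u, z⁆ * z := by rw [commutatorElement_def]; group
  rw [SetLike.mem_coe, h1]
  apply Subgroup.mul_mem
  · apply Subgroup.mem_sup_right
    apply Cfsg.Agent.Helper1.IsPGroup.commutator_le_frattini hU
    rw [commutator_def]
    exact Subgroup.commutator_mem_commutator (Subgroup.mem_top _) (Subgroup.mem_top _)
  · exact Subgroup.mem_sup_left (Subgroup.mem_zpowers z)

end Cfsg.Agent.Lead.EvenChar
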