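import Mathlib
import Cfsg.Agent.Lead.EvenCharA

/-!
Lead library: main induction for `EvenCharA`.
-/

set_option autoImplicit false

namespace Cfsg.Agent.Lead.EvenChar

open Cfsg.Agent.Helper5 Cfsg.Agent.Helper2

theorem conj_closure_facts {G : Type*} [Group G] (U : Subgroup G) (z : G) (hzU : z ∈ U) :
    Subgroup.closure {g : G | ∃ u ∈ U, g = u * z * u⁻¹} ≤ U ∧
    z ∈ Subgroup.closure {g : G | ∃ u ∈ U, g = u * z * u⁻¹} ∧
    U ≤ Subgroup.normalizer
      ((Subgroup.closure {g : G | ∃ u ∈ U, g = u * z * u⁻¹} : Subgroup G) : Set G) := by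
  refine ⟨?_, ?_, ?_⟩
  · rw [Subgroup.closure_le]
    rintro _ ⟨u, hu, rfl⟩
    exact U.mul_mem (U.mul_mem hu hzU) (U.inv_mem hu)
  · apply Subgroup.subset_closure
    exact ⟨1, U.one_mem, by simp⟩
  · have key : ∀ u ∈ U, ∀ w ∈ Subgroup.closure {g : G | ∃ u ∈ U, g = u * z * u⁻¹},
        u * w * u⁻¹ ∈ Subgroup.closure {g : G | ∃ u ∈ U, g = u * z * u⁻¹} := by
      intro u hu w hw
      have h : (Subgroup.closure {g : G | ∃ u ∈ U, g = u * z * u⁻¹}).map
          (MulAut.conj u).toMonoidHom ≤ Subgroup.closure {g : G | ∃ u ∈ U, g = u * z * u⁻¹} := by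
        rw [MonoidHom.map_closure, Subgroup.closure_le]
        rintro _ ⟨_, ⟨v, hv, rfl⟩, rfl⟩
        apply Subgroup.subset_closure
        refine ⟨u * v, U.mul_mem hu hv, ?_⟩
        show u * (v * z * v⁻¹) * u⁻¹ = _
        group
      exact h ⟨w, hw, rfl⟩
    intro u hu
    rw [Subgroup.mem_normalizer_iff]
    intro w
    constructor
    · intro hw; exact key u hu w hw
    · intro hw
      have := key u⁻¹ (U.inv_mem hu) _ hw
      have h2 : u⁻¹ * (u * w * u⁻¹) * u⁻¹⁻¹ = w := by group
      rw [h2] at this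
      exact this

theorem eq_zpowers_of_closure_eq {G : Type*} [Group G] [Finite G] {p : ℕ} [Fact p.Prime]
    (U : Subgroup G) (hU : IsPGroup p U) (z : G) (hzU : z ∈ U)
    (h : Subgroup.closure {g : G | ∃ u ∈ U, g = u * z * u⁻¹} = U) : U = Subgroup.zpowers z := by
  have h1 : Subgroup.closure {g : ↥U | ∃ u : ↥U, g = u * ⟨z, hzU⟩ * u⁻¹} = ⊤ := by
    apply Subgroup.map_injective U.subtype_injective
    rw [MonoidHom.map_closure, ← MonoidHom.range_eq_map, Subgroup.range_subtype]
    refine Eq.trans ?_ h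
    congr 1
    ext g
    constructor
    · rintro ⟨_, ⟨u, rfl⟩, rfl⟩
      exact ⟨u.1, u.2, rfl⟩
    · rintro ⟨u, hu, rfl⟩
      exact ⟨⟨u, hu⟩ * ⟨z, hzU⟩ * ⟨u, hu⟩⁻¹, ⟨⟨u, hu⟩, rfl⟩, rfl⟩
  have h2 := eq_zpowers_of_conj_closure hU (⟨z, hzU⟩ : ↥U) h1
  have h3 := congrArg (Subgroup.map U.subtype) h2
  rw [MonoidHom.map_zpowers, ← MonoidHom.range_eq_map, Subgroup.range_subtype] at h3
  exact h3.symm

theorem main {G : Type*} [Group G] [Finite G] (hE : Cfsg.IsOfEvenCharacteristic G) (T : Sylow 2 G)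
    (z : G) (hz1 : z ≠ 1) (hzC : z ∈ Subgroup.centralizer ((T : Subgroup G) : Set G)) :
    ∀ n : ℕ, ∀ U : Subgroup G, Nat.card U = n → IsPGroup 2 U → z ∈ U →
      HasCharP 2 ↥(Subgroup.normalizer (U : Set G)) := by
  haveI : Fact (Nat.Prime 2) := ⟨Nat.prime_two⟩
  intro n
  induction n using Nat.strong_induction_on with
  | _ n IH =>
    intro U hn hU hzU
    obtain ⟨W, hWdef⟩ : ∃ W : Subgroup G,
        W = Subgroup.closure {g : G | ∃ u ∈ U, g = u * z * u⁻¹} := ⟨_, rfl⟩
    obtain ⟨hWU, hzW, hUW⟩ := conj_closure_facts U z hzU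
    rw [← hWdef] at hWU hzW hUW
    by_cases hWeq : W = U
    · have hUz : U = Subgroup.zpowers z := by
        apply eq_zpowers_of_closure_eq U hU z hzU
        rw [← hWdef]; exact hWeq
      have hloc : Cfsg.IsTwoLocal (Subgroup.normalizer (U : Set G)) := by
        refine ⟨U, hU, ?_, rfl⟩
        intro h
        apply hz1
        have : z ∈ (⊥ : Subgroup G) := h ▸ hzU
        exact Subgroup.mem_bot.1 this
      have hT : (T : Subgroup G) ≤ Subgroup.normalizer (U : Set G) := by
        intro t ht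
        apply Subgroup.centralizer_le_normalizer
        rw [Subgroup.mem_centralizer_iff]
        intro h hh
        rw [SetLike.mem_coe, hUz] at hh
        obtain ⟨k, rfl⟩ := hh
        have hc : Commute z t := (Subgroup.mem_centralizer_iff.1 hzC t ht).symm
        exact (hc.zpow_left k).eq
      exact hE _ hloc ⟨T, hT⟩
    · have hlt : Nat.card W < n := by
        rw [← hn]
        by_contra hcon
        push Not at hcon
        exact hWeq (Subgroup.eq_of_le_of_card_ge hWU hcon)
      have hW := IH _ hlt W rfl (hU.to_le hWU) hzW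
      have h3 := hasCharP_inf_normalizer (Subgroup.normalizer (W : Set G)) U hUW hU hW
      apply hasCharP_of_centralizer_le
        ((Subgroup.normalizer (W : Set G) ⊓ Subgroup.normalizer (U : Set G)).subgroupOf
          (Subgroup.normalizer (U : Set G)))
      · exact h3.of_equiv (Subgroup.subgroupOfEquivOfLe inf_le_right).symm
      · intro c hc
        rw [Subgroup.mem_subgroupOf]
        refine ⟨?_, c.2⟩
        rw [mem_centralizer_pCore_iff] at hc
        have hU' : U ≤ (Cfsg.pCore 2 ↥(Subgroup.normalizer (U : Set G))).map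
            (Subgroup.normalizer (U : Set G)).subtype :=
          le_pCore_map_subtype _ U Subgroup.le_normalizer hU le_rfl
        apply Subgroup.centralizer_le_normalizer
        exact Subgroup.centralizer_le (SetLike.coe_subset_coe.mpr (hWU.trans hU')) hc

end Cfsg.Agent.Lead.EvenChar
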