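import Mathlib
import Cfsg.Agent.Lead.EvenCharB

/-!
Lead library: `N_G(U) ∈ ℋ^e` for a 2-subgroup `U` meeting `Z(T)` in a group of even characteristic.
-/

set_option autoImplicit false

namespace Cfsg.Agent.Lead.EvenChar

open Cfsg.Agent.Helper5 Cfsg.Agent.Helper2

theorem normalizer_mem_calHe {G : Type*} [Group G] [Finite G] (hE : Cfsg.IsOfEvenCharacteristic G)
    (T : Sylow 2 G) (U : Subgroup G) (hU : IsPGroup 2 ↥U)
    (hZ : U ⊓ ((T : Subgroup G) ⊓ Subgroup.centralizer ((T : Subgroup G) : Set G)) ≠ ⊥) :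
    Subgroup.normalizer (U : Set G) ∈ Cfsg.calHe G := by
  haveI : Fact (Nat.Prime 2) := ⟨Nat.prime_two⟩
  obtain ⟨z, hz1⟩ := (Subgroup.ne_bot_iff_exists_ne_one).1 hZ
  obtain ⟨z, hzm⟩ := z
  have hz1' : z ≠ 1 := by
    intro h
    apply hz1
    exact Subtype.ext h
  obtain ⟨hzU, -, hzC⟩ := hzm
  have h := main hE T z hz1' hzC _ U rfl hU hzU
  show Cfsg.generalizedFittingSubgroup ↥(Subgroup.normalizer (U : Set G)) =
    Cfsg.pCore 2 ↥(Subgroup.normalizer (U : Set G))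
  exact (generalizedFittingSubgroup_eq_pCore_iff 2).mpr h

end Cfsg.Agent.Lead.EvenChar
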