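import Mathlib

/-!
# Hyperbolic coordinates for a quadratic form of plus type over `ZMod 2`

If `q` is a quadratic form on a `2n`-dimensional space `U` over `ZMod 2` with nondegenerate polar
form and vanishing on an `n`-dimensional subspace, then there is a linear equivalence
`ψ : U ≃ (Fin n → ZMod 2) × (Fin n → ZMod 2)` with `q u = (ψ u).1 ⬝ᵥ (ψ u).2`.
-/

set_option autoImplicit false

namespace Cfsg.Agent.Lead.ExtSp

open QuadraticMap

variable {U : Type*} [AddCommGroup U] [Module (ZMod 2) U]

theorem z2_add_self (x : ZMod 2) : x + x = 0 := CharTwo.add_self_eq_zero x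

theorem z2_mul_self (x : ZMod 2) : x * x = x := by revert x; decide

theorem polarBilin_self (q : QuadraticForm (ZMod 2) U) (u : U) : polarBilin q u u = 0 := by
  rw [polarBilin_apply_apply, polar]
  have h2 : u + u = (2 : ZMod 2) • u := by rw [two_smul]
  have h3 : (2 : ZMod 2) = 0 := by decide
  rw [h2, h3, zero_smul, QuadraticMap.map_zero]
  have := z2_add_self (q u)
  linear_combination (-1 : ZMod 2) * this

theorem polarBilin_symm (q : QuadraticForm (ZMod 2) U) (u v : U) :
    polarBilin q u v = polarBilin q v u := by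
  rw [polarBilin_apply_apply, polarBilin_apply_apply, polar_comm]

theorem q_add (q : QuadraticForm (ZMod 2) U) (u v : U) :
    q (u + v) = q u + q v + polarBilin q u v := by
  rw [polarBilin_apply_apply, polar]; ring

/-- A quadratic form vanishes on a linear combination of pairwise orthogonal singular vectors. -/
theorem q_sum_eq_zero (q : QuadraticForm (ZMod 2) U) {ι : Type*} [DecidableEq ι] (v : ι → U)
    (c : ι → ZMod 2) (h0 : ∀ i, q (v i) = 0) (h1 : ∀ i j, i ≠ j → polarBilin q (v i) (v j) = 0)
    (s : Finset ι) : q (∑ i ∈ s, c i • v i) = 0 := by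
  induction s using Finset.induction_on with
  | empty => simp
  | insert k s hk ih =>
    rw [Finset.sum_insert hk, q_add, ih, QuadraticMap.map_smul, h0, smul_zero, zero_add, zero_add,
      map_sum]
    apply Finset.sum_eq_zero
    intro j hj
    have hkj : k ≠ j := fun h => hk (h ▸ hj)
    rw [map_smul, map_smul, LinearMap.smul_apply, h1 k j hkj, smul_zero, smul_zero]

variable [Module.Finite (ZMod 2) U]

theorem exists_hyp_coords (n : ℕ) (hn : Module.finrank (ZMod 2) U = 2 * n)
    (q : QuadraticForm (ZMod 2) U) (hnd : (polarBilin q).Nondegenerate)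
    (W : Submodule (ZMod 2) U) (hW : Module.finrank (ZMod 2) W = n) (hq : ∀ w ∈ W, q w = 0) :
    ∃ ψ : U ≃ₗ[ZMod 2] ((Fin n → ZMod 2) × (Fin n → ZMod 2)),
      ∀ u, q u = (ψ u).1 ⬝ᵥ (ψ u).2 := by
  classical
  set B := polarBilin q with hB
  -- B vanishes on W
  have hBW : ∀ x ∈ W, ∀ y ∈ W, B x y = 0 := by
    intro x hx y hy
    rw [hB, polarBilin_apply_apply, polar, hq _ (W.add_mem hx hy), hq x hx, hq y hy]; ring
  -- B is surjective onto the dual
  have hinj : Function.Injective B := by
    rw [← LinearMap.ker_eq_bot]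
    exact LinearMap.separatingLeft_iff_ker_eq_bot.1 hnd.1
  have hsurj : Function.Surjective B :=
    (LinearMap.injective_iff_surjective_of_finrank_eq_finrank
      (Subspace.dual_finrank_eq (K := ZMod 2) (V := U)).symm).1 hinj
  -- a basis of W
  let w : Module.Basis (Fin n) (ZMod 2) W := Module.finBasisOfFinrankEq (ZMod 2) W hW
  -- dual vectors
  have hu : ∀ j : Fin n, ∃ u : U, ∀ i : Fin n, B u (w i : U) = if i = j then 1 else 0 := by
    intro j
    obtain ⟨l, hl⟩ := Subspace.dualRestrict_surjective (W := W) (w.coord j)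
    obtain ⟨u, hu⟩ := hsurj l
    refine ⟨u, fun i => ?_⟩
    rw [hu]
    have := LinearMap.congr_fun hl (w i)
    rw [Submodule.dualRestrict_apply] at this
    rw [this, Module.Basis.coord_apply, Module.Basis.repr_self, Finsupp.single_apply]
  choose u hu using hu
  -- correction coefficients
  let c : Fin n → Fin n → ZMod 2 := fun j k =>
    if k = j then q (u j) else if k < j then B (u j) (u k) else 0
  obtain ⟨s, hs⟩ : ∃ s : Fin n → U, ∀ j, s j = ∑ k, c j k • (w k : U) := ⟨_, fun _ => rfl⟩
  have hsW : ∀ j, s j ∈ W := fun j => by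
    rw [hs]; exact W.sum_mem fun k _ => W.smul_mem _ (w k).2
  obtain ⟨f, hf⟩ : ∃ f : Fin n → U, ∀ j, f j = u j + s j := ⟨_, fun _ => rfl⟩
  -- B (u i) (s j) = c j i
  have hus : ∀ i j, B (u i) (s j) = c j i := by
    intro i j
    rw [hs]
    simp only [map_sum, map_smul, hu, smul_eq_mul, mul_ite, mul_one, mul_zero]
    rw [Finset.sum_ite_eq' Finset.univ i (fun k => c j k)]
    simp
  have hBsymm : ∀ x y, B x y = B y x := fun x y => polarBilin_symm q x y
  have hqf : ∀ j, q (f j) = 0 := by
    intro j
    rw [hf, q_add, hq _ (hsW j), add_zero, ← hB, hus]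
    simp only [c, if_true]
    exact z2_add_self _
  have hBuw : ∀ i j, B (f j) (w i : U) = if i = j then 1 else 0 := by
    intro i j
    rw [hf, map_add, LinearMap.add_apply, hu, hBW _ (hsW j) _ (w i).2, add_zero]
  have hBff : ∀ i j, i ≠ j → B (f i) (f j) = 0 := by
    intro i j hij
    have e1 : B (f i) (f j) = B (u i) (u j) + B (u i) (s j) + (B (s i) (u j) + B (s i) (s j)) := by
      rw [hf, hf]
      simp only [map_add, LinearMap.add_apply]
      ring
    rw [e1, hus, hBW _ (hsW i) _ (hsW j), hBsymm (s i) (u j), hus, add_zero]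
    simp only [c]
    rcases lt_or_gt_of_ne hij with h | h
    · have h1 : ¬ (i = j) := hij
      have h2 : ¬ (j = i) := fun h' => hij h'.symm
      have h3 : ¬ (j < i) := not_lt.2 h.le
      rw [if_neg h2, if_neg h3, if_neg h1, if_pos h, hBsymm (u j) (u i)]
      rw [add_zero]
      exact z2_add_self _
    · have h1 : ¬ (i = j) := hij
      have h2 : ¬ (j = i) := fun h' => hij h'.symm
      have h3 : ¬ (i < j) := not_lt.2 h.le
      rw [if_neg h2, if_pos h, if_neg h1, if_neg h3, add_zero]
      exact z2_add_self _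
  -- the parametrisation
  let φ : ((Fin n → ZMod 2) × (Fin n → ZMod 2)) →ₗ[ZMod 2] U :=
    (Fintype.linearCombination (ZMod 2) (fun i => (w i : U))).coprod
      (Fintype.linearCombination (ZMod 2) f)
  have hφ : ∀ x, φ x = ∑ i, x.1 i • (w i : U) + ∑ j, x.2 j • f j := by
    intro x
    simp only [φ, LinearMap.coprod_apply, Fintype.linearCombination_apply]
  have hmemW : ∀ a : Fin n → ZMod 2, ∑ i, a i • (w i : U) ∈ W := fun a =>
    W.sum_mem fun k _ => W.smul_mem _ (w k).2
  -- pairing of φ x with basis vectors
  have hφw : ∀ x (i : Fin n), B (φ x) (w i : U) = x.2 i := by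
    intro x i
    rw [hφ, map_add, LinearMap.add_apply, hBW _ (hmemW x.1) _ (w i).2, zero_add, map_sum,
      LinearMap.sum_apply]
    simp only [map_smul, LinearMap.smul_apply, hBuw, smul_eq_mul, mul_ite, mul_one, mul_zero]
    rw [Finset.sum_ite_eq Finset.univ i (fun k => x.2 k)]
    simp
  have hφf : ∀ x (j : Fin n), B (φ x) (f j) = x.1 j := by
    intro x j
    rw [hφ, map_add (B), LinearMap.add_apply, map_sum (B), LinearMap.sum_apply, map_sum (B),
      LinearMap.sum_apply]
    have h1 : ∑ i, B (x.1 i • (w i : U)) (f j) = x.1 j := by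
      simp only [map_smul, LinearMap.smul_apply, smul_eq_mul]
      have : ∀ i, x.1 i * B (w i : U) (f j) = if i = j then x.1 i else 0 := by
        intro i
        rw [hBsymm, hBuw]
        split_ifs <;> simp
      simp only [this]
      rw [Finset.sum_ite_eq' Finset.univ j (fun k => x.1 k)]
      simp
    have h2 : ∑ k, B (x.2 k • f k) (f j) = 0 := by
      apply Finset.sum_eq_zero
      intro k _
      rw [map_smul, LinearMap.smul_apply]
      by_cases hkj : k = j
      · subst hkj
        rw [hB, polarBilin_self, smul_zero]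
      · rw [hBff k j hkj, smul_zero]
    rw [h1, h2, add_zero]
  have hφinj : Function.Injective φ := by
    rw [← LinearMap.ker_eq_bot, LinearMap.ker_eq_bot']
    intro x hx
    ext i
    · have := hφf x i
      rw [hx, map_zero, LinearMap.zero_apply] at this
      simpa using this.symm
    · have := hφw x i
      rw [hx, map_zero, LinearMap.zero_apply] at this
      simpa using this.symm
  have hdim : Module.finrank (ZMod 2) ((Fin n → ZMod 2) × (Fin n → ZMod 2))
      = Module.finrank (ZMod 2) U := by
    rw [Module.finrank_prod, Module.finrank_fin_fun, hn]; ring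
  let e := LinearMap.linearEquivOfInjective φ hφinj hdim
  have he : ∀ x, e x = φ x := fun x => rfl
  refine ⟨e.symm, fun v => ?_⟩
  obtain ⟨x, rfl⟩ := e.surjective v
  rw [LinearEquiv.symm_apply_apply, he, hφ, q_add, hq _ (hmemW x.1), zero_add,
    q_sum_eq_zero q f x.2 hqf (fun i j hij => hBff i j hij), zero_add]
  -- cross term
  have : polarBilin q (∑ i, x.1 i • (w i : U)) (∑ j, x.2 j • f j)
      = B (∑ i, x.1 i • (w i : U)) (φ (0, x.2)) := by
    rw [hφ]; simp [hB]
  rw [this, hBsymm, map_sum]
  simp only [map_smul, smul_eq_mul, hφw]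
  rfl
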