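import Mathlib
import Cfsg.Agent.Helper3.Heis

/-!
# The monomial representation of the Heisenberg group `Heis n 2` over `ZMod 3`

`Heis n 2` acts on the functions `(Fin n → ZMod 2) → ZMod 3` by
`(ρ x f) w = sg (x.c + x.b ⬝ᵥ w) * f (w + x.a)`.  We prove faithfulness, compute the commutant,
and a trace-type functional.
-/

set_option autoImplicit false

namespace Cfsg.Agent.Lead.ExtSp

open Cfsg.Agent.Helper3

/-- the vector space `(ZMod 2)^n` -/
abbrev Wn (n : ℕ) := Fin n → ZMod 2
/-- the representation space -/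
abbrev Hn (n : ℕ) := Wn n → ZMod 3

/-- the sign character `ZMod 2 → ZMod 3` -/
def sg (x : ZMod 2) : ZMod 3 := if x = 0 then 1 else -1

theorem sg_add (x y : ZMod 2) : sg (x + y) = sg x * sg y := by revert x y; decide
theorem sg_zero : sg 0 = 1 := by decide
theorem sg_one : sg 1 = -1 := by decide
theorem sg_mul_self (x : ZMod 2) : sg x * sg x = 1 := by revert x; decide
theorem sg_ne_zero (x : ZMod 2) : sg x ≠ 0 := by revert x; decide
theorem sg_eq_one_iff (x : ZMod 2) : sg x = 1 ↔ x = 0 := by revert x; decide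
theorem sg_injective : Function.Injective sg := by
  intro x y; revert x y; decide
theorem sg_add_one (x : ZMod 2) : sg (x + 1) = - sg x := by revert x; decide
theorem z3_eq_zero_of_eq_neg (t : ZMod 3) (h : t = -t) : t = 0 := by revert t; decide
theorem z3_unit_cases (t : ZMod 3) (h : t ≠ 0) : t = sg 0 ∨ t = sg 1 := by revert t; decide
theorem two_pow_ne_zero (n : ℕ) : (2 : ZMod 3) ^ n ≠ 0 := by
  apply pow_ne_zero; decide

variable {n : ℕ}

theorem wn_add_self (a : Wn n) : a + a = 0 := by
  funext i; exact CharTwo.add_self_eq_zero (a i)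

theorem wn_neg (a : Wn n) : -a = a := by
  rw [neg_eq_iff_add_eq_zero, wn_add_self]

theorem wn_add_eq_iff (w a v : Wn n) : w + a = v ↔ w = v + a := by
  constructor
  · rintro rfl; rw [add_assoc, wn_add_self, add_zero]
  · rintro rfl; rw [add_assoc, wn_add_self, add_zero]

theorem wn_add_eq_zero_iff (a b : Wn n) : a + b = 0 ↔ a = b := by
  rw [wn_add_eq_iff, zero_add]

/-- the operator of a Heisenberg element, as a linear map -/
def rhoLin (x : Heis n 2) : Module.End (ZMod 3) (Hn n) where
  toFun f := fun w => sg (x.c + x.b ⬝ᵥ w) * f (w + x.a)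
  map_add' f g := by funext w; simp [mul_add]
  map_smul' c f := by funext w; simp; ring

theorem rhoLin_apply (x : Heis n 2) (f : Hn n) (w : Wn n) :
    rhoLin x f w = sg (x.c + x.b ⬝ᵥ w) * f (w + x.a) := rfl

theorem rhoLin_one : rhoLin (1 : Heis n 2) = 1 := by
  apply LinearMap.ext; intro f; funext w
  rw [rhoLin_apply, Module.End.one_apply]
  simp [sg_zero]

theorem rhoLin_mul (x y : Heis n 2) : rhoLin (x * y) = rhoLin x * rhoLin y := by
  apply LinearMap.ext; intro f; funext w
  rw [Module.End.mul_apply, rhoLin_apply, rhoLin_apply, rhoLin_apply, Heis.mul_a, Heis.mul_b,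
    Heis.mul_c, add_dotProduct, dotProduct_add, ← add_assoc w, ← mul_assoc, ← sg_add]
  congr 2
  rw [dotProduct_comm y.b x.a]; ring

/-- the representation as a monoid homomorphism into the endomorphism ring -/
def rho : Heis n 2 →* Module.End (ZMod 3) (Hn n) where
  toFun := rhoLin
  map_one' := rhoLin_one
  map_mul' := rhoLin_mul

/-- the ambient general linear group -/
abbrev GLn (n : ℕ) := (Module.End (ZMod 3) (Hn n))ˣ

/-- the representation into the general linear group -/
def rhoU : Heis n 2 →* GLn n := rho.toHomUnits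

@[simp] theorem rhoU_val (x : Heis n 2) : ((rhoU x : GLn n) : Module.End (ZMod 3) (Hn n)) = rhoLin x :=
  rfl

instance : Finite (Module.End (ZMod 3) (Hn n)) :=
  Finite.of_injective (fun f => (f : Hn n → Hn n)) DFunLike.coe_injective

/-- the standard basis vectors -/
def ev (v : Wn n) : Hn n := Pi.single v 1

theorem ev_apply (v w : Wn n) : ev v w = if w = v then 1 else 0 := by
  rw [ev, Pi.single_apply]

theorem rhoLin_ev (x : Heis n 2) (v : Wn n) :
    rhoLin x (ev v) = sg (x.c + x.b ⬝ᵥ (v + x.a)) • ev (v + x.a) := by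
  funext w
  rw [rhoLin_apply, Pi.smul_apply, ev_apply, ev_apply, smul_eq_mul]
  by_cases h : w = v + x.a
  · rw [if_pos ((wn_add_eq_iff w x.a v).2 h), if_pos h, h]
  · rw [if_neg (fun h' => h ((wn_add_eq_iff w x.a v).1 h')), if_neg h, mul_zero, mul_zero]

theorem rhoLin_central (c : ZMod 2) (f : Hn n) : rhoLin (⟨0, 0, c⟩ : Heis n 2) f = sg c • f := by
  funext w
  rw [rhoLin_apply, Pi.smul_apply, smul_eq_mul]
  simp

theorem rhoLin_X_ev (a v : Wn n) : rhoLin (⟨a, 0, 0⟩ : Heis n 2) (ev v) = ev (v + a) := by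
  rw [rhoLin_ev]; simp [sg_zero]

theorem rhoLin_Z_ev (b v : Wn n) : rhoLin (⟨0, b, 0⟩ : Heis n 2) (ev v) = sg (b ⬝ᵥ v) • ev v := by
  rw [rhoLin_ev]; simp

theorem rhoLin_injective_apply (x : Heis n 2) : Function.Injective (rhoLin x) := by
  intro f g h
  have := congrArg (rhoLin x⁻¹) h
  rwa [← Module.End.mul_apply, ← Module.End.mul_apply, ← rhoLin_mul, inv_mul_cancel, rhoLin_one,
    Module.End.one_apply, Module.End.one_apply] at this

/-- a functional `ZMod 2`-valued additive map on `(ZMod 2)^n` is a dot product -/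
theorem exists_dot_of_additive (φ : Wn n → ZMod 2) (hφ : ∀ a a', φ (a + a') = φ a + φ a') :
    ∃ β : Wn n, ∀ a, φ a = a ⬝ᵥ β := by
  classical
  let Φ : Wn n →+ ZMod 2 := AddMonoidHom.mk' φ hφ
  refine ⟨fun i => φ (Pi.single i 1), fun a => ?_⟩
  have h1 : φ a = Φ (∑ i, Pi.single i (a i)) := by rw [Finset.univ_sum_single]; rfl
  rw [h1, map_sum, dotProduct]
  apply Finset.sum_congr rfl
  intro i _
  change φ (Pi.single i (a i)) = a i * φ (Pi.single i 1)
  have h2 : a i = 0 ∨ a i = 1 := by generalize a i = t; revert t; decide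
  rcases h2 with h | h
  · rw [h, Pi.single_zero, zero_mul]
    have := hφ 0 0
    rw [add_zero] at this
    exact (add_eq_left.1 this.symm)
  · rw [h, one_mul]

/-- character sums on `(ZMod 2)^n` -/
theorem sum_sg_dot (d : Wn n) : ∑ v : Wn n, sg (d ⬝ᵥ v) = if d = 0 then (2 : ZMod 3) ^ n else 0 := by
  classical
  by_cases hd : d = 0
  · rw [if_pos hd, hd]
    simp only [zero_dotProduct, sg_zero, Finset.sum_const, Finset.card_univ, nsmul_eq_mul, mul_one]
    rw [Fintype.card_fun, ZMod.card, Fintype.card_fin]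
    push_cast; rfl
  · rw [if_neg hd]
    obtain ⟨i, hi⟩ : ∃ i, d i ≠ 0 := by
      by_contra h
      push Not at h
      exact hd (funext h)
    have hi1 : d i = 1 := by
      generalize d i = t at hi; revert t; decide
    set S := ∑ v : Wn n, sg (d ⬝ᵥ v) with hS
    have h1 : S = ∑ v : Wn n, sg (d ⬝ᵥ (v + Pi.single i 1)) := by
      rw [hS]
      have := Equiv.sum_comp (Equiv.addRight (Pi.single i (1 : ZMod 2) : Wn n))
        (fun v : Wn n => sg (d ⬝ᵥ v))
      simp only [Equiv.coe_addRight] at this
      exact this.symm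
    have h2 : ∀ v : Wn n, sg (d ⬝ᵥ (v + Pi.single i 1)) = - sg (d ⬝ᵥ v) := by
      intro v
      rw [dotProduct_add, dotProduct_single, hi1, mul_one, sg_add_one]
    simp only [h2, Finset.sum_neg_distrib] at h1
    exact z3_eq_zero_of_eq_neg S h1

/-- the trace-type functional -/
def tau (T : Module.End (ZMod 3) (Hn n)) : ZMod 3 := ∑ v : Wn n, T (ev v) v

theorem tau_add (S T : Module.End (ZMod 3) (Hn n)) : tau (S + T) = tau S + tau T := by
  simp only [tau, LinearMap.add_apply, Pi.add_apply, Finset.sum_add_distrib]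

theorem tau_zero : tau (0 : Module.End (ZMod 3) (Hn n)) = 0 := by
  simp [tau]

theorem tau_sum {ι : Type*} (s : Finset ι) (T : ι → Module.End (ZMod 3) (Hn n)) :
    tau (∑ i ∈ s, T i) = ∑ i ∈ s, tau (T i) := by
  classical
  induction s using Finset.induction_on with
  | empty => simp [tau_zero]
  | insert k s hk ih => rw [Finset.sum_insert hk, Finset.sum_insert hk, tau_add, ih]

theorem tau_rhoLin (x : Heis n 2) :
    tau (rhoLin x) = if x.a = 0 ∧ x.b = 0 then sg x.c * (2 : ZMod 3) ^ n else 0 := by
  classical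
  simp only [tau, rhoLin_ev, Pi.smul_apply, ev_apply, smul_eq_mul]
  by_cases ha : x.a = 0
  · simp only [ha, add_zero, if_true, mul_one, true_and]
    simp only [sg_add, ← Finset.mul_sum, sum_sg_dot]
    split_ifs <;> simp
  · have : ∀ v : Wn n, ¬ (v = v + x.a) := by
      intro v h
      exact ha (by simpa using h.symm)
    simp only [this, if_false, mul_zero, Finset.sum_const_zero]
    rw [if_neg (fun h => ha h.1)]

theorem rhoU_injective : Function.Injective (rhoU : Heis n 2 →* GLn n) := by
  classical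
  rw [injective_iff_map_eq_one]
  intro x hx
  have hx' : rhoLin x = 1 := by
    have := congrArg (fun t : GLn n => (t : Module.End (ZMod 3) (Hn n))) hx
    simpa using this
  -- compare the values on basis vectors
  have h1 : ∀ v : Wn n, sg (x.c + x.b ⬝ᵥ (v + x.a)) • ev (v + x.a) = ev v := by
    intro v
    rw [← rhoLin_ev, hx', Module.End.one_apply]
  have ha : x.a = 0 := by
    have := congrFun (h1 0) 0
    rw [Pi.smul_apply, ev_apply, ev_apply, smul_eq_mul, if_pos rfl, zero_add] at this
    by_contra hne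
    rw [if_neg (fun h => hne h.symm), mul_zero] at this
    exact zero_ne_one this
  have h2 : ∀ v : Wn n, x.c + x.b ⬝ᵥ v = 0 := by
    intro v
    have := congrFun (h1 v) v
    rw [ha, add_zero, Pi.smul_apply, ev_apply, if_pos rfl, smul_eq_mul, mul_one] at this
    exact (sg_eq_one_iff _).1 this
  have hc : x.c = 0 := by simpa using h2 0
  have hb : x.b = 0 := by
    funext i
    have := h2 (Pi.single i 1)
    rw [hc, zero_add, dotProduct_single, mul_one] at this
    simpa using this
  ext
  · rw [ha]; rfl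
  · rw [hb]; rfl
  · rw [hc]; rfl

/-- The commutant of the representation consists of scalars. -/
theorem commutant_scalar (T : Module.End (ZMod 3) (Hn n))
    (hX : ∀ a : Wn n, T * rhoLin ⟨a, 0, 0⟩ = rhoLin ⟨a, 0, 0⟩ * T)
    (hZ : ∀ b : Wn n, T * rhoLin ⟨0, b, 0⟩ = rhoLin ⟨0, b, 0⟩ * T) :
    T = (T (ev 0) 0) • (1 : Module.End (ZMod 3) (Hn n)) := by
  classical
  -- off-diagonal entries vanish
  have hoff : ∀ v w : Wn n, v ≠ w → T (ev v) w = 0 := by
    intro v w hvw
    obtain ⟨i, hi⟩ : ∃ i, v i ≠ w i := by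
      by_contra h
      push Not at h
      exact hvw (funext h)
    have h1 := congrFun (LinearMap.congr_fun (hZ (Pi.single i 1)) (ev v)) w
    rw [Module.End.mul_apply, Module.End.mul_apply, rhoLin_Z_ev, map_smul, Pi.smul_apply,
      rhoLin_apply, smul_eq_mul] at h1
    simp only [single_dotProduct, one_mul, zero_add, add_zero] at h1
    have h3 : sg (v i) = - sg (w i) := by
      generalize v i = s at hi ⊢; generalize w i = t at hi ⊢; revert s t; decide
    rw [h3, neg_mul] at h1
    have h4 : sg (w i) * T (ev v) w = 0 := z3_eq_zero_of_eq_neg _ h1.symm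
    rcases mul_eq_zero.1 h4 with h | h
    · exact absurd h (sg_ne_zero _)
    · exact h
  -- diagonal entries are equal
  have hdiag : ∀ v : Wn n, T (ev v) v = T (ev 0) 0 := by
    intro v
    have h1 := congrFun (LinearMap.congr_fun (hX v) (ev 0)) v
    rw [Module.End.mul_apply, Module.End.mul_apply, rhoLin_X_ev, zero_add, rhoLin_apply] at h1
    simp only [zero_dotProduct, add_zero, sg_zero, one_mul] at h1
    rw [h1, wn_add_self]
  apply LinearMap.pi_ext
  intro v t
  have e1 : (Pi.single v t : Hn n) = t • ev v := by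
    funext w
    rw [Pi.smul_apply, ev, Pi.single_apply, Pi.single_apply, smul_eq_mul]
    split_ifs <;> simp
  rw [e1, map_smul, map_smul]
  congr 1
  funext w
  rw [LinearMap.smul_apply, Module.End.one_apply, Pi.smul_apply, ev_apply, smul_eq_mul]
  by_cases h : w = v
  · rw [if_pos h, mul_one, h, hdiag]
  · rw [if_neg h, mul_zero]
    exact hoff v w (fun h' => h h'.symm)

end Cfsg.Agent.Lead.ExtSp
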