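import Mathlib
import Cfsg.Agent.Lead.ExtSpB

/-!
# Intertwiners for the Heisenberg representation

Given two families `X' a`, `Z' b` of elements of `Heis n 2` satisfying the same relations as the
standard generators `⟨a,0,0⟩`, `⟨0,b,0⟩`, there is an invertible operator `T` with
`T ρ(⟨a,0,0⟩) = ρ(X' a) T` and `T ρ(⟨0,b,0⟩) = ρ(Z' b) T`.  We also identify the operators
normalising `ρ` trivially modulo the centre.
-/

set_option autoImplicit false

namespace Cfsg.Agent.Lead.ExtSp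

open Cfsg.Agent.Helper3

variable {n : ℕ}

theorem heis_central_mul (c : ZMod 2) (x : Heis n 2) :
    (⟨0, 0, c⟩ : Heis n 2) * x = ⟨x.a, x.b, c + x.c⟩ := by
  ext <;> simp

theorem heis_decomp (x : Heis n 2) :
    x = (⟨0, 0, x.c⟩ : Heis n 2) * (⟨0, x.b, 0⟩ * ⟨x.a, 0, 0⟩) := by
  ext <;> simp

theorem exists_intertwiner (X' Z' : Wn n → Heis n 2)
    (hX : ∀ a a', X' (a + a') = X' a * X' a') (hZ : ∀ b b', Z' (b + b') = Z' b * Z' b')
    (hcomm : ∀ a b, Z' b * X' a = (⟨0, 0, a ⬝ᵥ b⟩ : Heis n 2) * (X' a * Z' b))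
    (hZinj : ∀ b, b ≠ 0 → ¬ ((Z' b).a = 0 ∧ (Z' b).b = 0)) :
    ∃ T : GLn n, (∀ a, T * rhoU ⟨a, 0, 0⟩ = rhoU (X' a) * T) ∧
      (∀ b, T * rhoU ⟨0, b, 0⟩ = rhoU (Z' b) * T) := by
  classical
  have hX0 : X' 0 = 1 := by
    have := hX 0 0
    rw [add_zero] at this
    exact (mul_eq_left.1 this.symm)
  have hZ0 : Z' 0 = 1 := by
    have := hZ 0 0
    rw [add_zero] at this
    exact (mul_eq_left.1 this.symm)
  -- the averaging operator
  set P : Module.End (ZMod 3) (Hn n) := ∑ b : Wn n, rhoLin (Z' b) with hP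
  have hP1 : ∀ b' : Wn n, rhoLin (Z' b') * P = P := by
    intro b'
    rw [hP, Finset.mul_sum]
    simp only [← rhoLin_mul, ← hZ]
    exact Equiv.sum_comp (Equiv.addLeft b') (fun b : Wn n => rhoLin (Z' b))
  have hP2 : tau P = (2 : ZMod 3) ^ n := by
    rw [hP, tau_sum]
    have : ∀ b : Wn n, tau (rhoLin (Z' b)) = if b = 0 then (2 : ZMod 3) ^ n else 0 := by
      intro b
      by_cases hb : b = 0
      · rw [if_pos hb, hb, hZ0, rhoLin_one]
        have := tau_rhoLin (1 : Heis n 2)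
        rw [rhoLin_one] at this
        rw [this]
        simp [sg_zero]
      · rw [if_neg hb, tau_rhoLin, if_neg (hZinj b hb)]
    simp only [this]
    rw [Finset.sum_ite_eq' Finset.univ (0 : Wn n) (fun _ => (2 : ZMod 3) ^ n)]
    simp
  have hP3 : P ≠ 0 := by
    intro h
    rw [h, tau_zero] at hP2
    exact two_pow_ne_zero n hP2.symm
  obtain ⟨f0, hf0⟩ : ∃ f0, P f0 ≠ 0 := by
    by_contra h
    push Not at h
    exact hP3 (LinearMap.ext h)
  set v0 := P f0 with hv0
  have hfix : ∀ b, rhoLin (Z' b) v0 = v0 := by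
    intro b
    rw [hv0, ← Module.End.mul_apply, hP1]
  -- the intertwiner
  set T0 : Module.End (ZMod 3) (Hn n) :=
    Fintype.linearCombination (ZMod 3) (fun a : Wn n => rhoLin (X' a) v0) with hT0
  have hT0ev : ∀ a : Wn n, T0 (ev a) = rhoLin (X' a) v0 := by
    intro a
    rw [hT0, ev, Fintype.linearCombination_apply_single, one_smul]
  have hTX : ∀ a', T0 * rhoLin ⟨a', 0, 0⟩ = rhoLin (X' a') * T0 := by
    intro a'
    apply LinearMap.pi_ext
    intro a t
    have e1 : (Pi.single a t : Hn n) = t • ev a := by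
      funext w
      rw [Pi.smul_apply, ev, Pi.single_apply, Pi.single_apply, smul_eq_mul]
      split_ifs <;> simp
    rw [e1, map_smul, map_smul, Module.End.mul_apply, Module.End.mul_apply, rhoLin_X_ev, hT0ev,
      hT0ev, add_comm a a', hX, rhoLin_mul, Module.End.mul_apply]
  have hTZ : ∀ b, T0 * rhoLin ⟨0, b, 0⟩ = rhoLin (Z' b) * T0 := by
    intro b
    apply LinearMap.pi_ext
    intro a t
    have e1 : (Pi.single a t : Hn n) = t • ev a := by
      funext w
      rw [Pi.smul_apply, ev, Pi.single_apply, Pi.single_apply, smul_eq_mul]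
      split_ifs <;> simp
    rw [e1, map_smul, map_smul, Module.End.mul_apply, Module.End.mul_apply, rhoLin_Z_ev, map_smul,
      hT0ev, ← Module.End.mul_apply (rhoLin (Z' b)), ← rhoLin_mul, hcomm, rhoLin_mul, rhoLin_mul,
      Module.End.mul_apply, Module.End.mul_apply, hfix, rhoLin_central, dotProduct_comm]
  -- injectivity
  have hinj : Function.Injective T0 := by
    rw [← LinearMap.ker_eq_bot, LinearMap.ker_eq_bot']
    intro f hf
    funext a'
    -- the projection onto the `a'`-eigenspace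
    set Pa : Module.End (ZMod 3) (Hn n) := ∑ b : Wn n, sg (a' ⬝ᵥ b) • rhoLin (Z' b) with hPa
    have h1 : ∀ a : Wn n, Pa (rhoLin (X' a) v0) =
        (if a' + a = 0 then (2 : ZMod 3) ^ n else 0) • rhoLin (X' a) v0 := by
      intro a
      rw [hPa, LinearMap.sum_apply]
      have : ∀ b : Wn n, (sg (a' ⬝ᵥ b) • rhoLin (Z' b)) (rhoLin (X' a) v0)
          = sg ((a' + a) ⬝ᵥ b) • rhoLin (X' a) v0 := by
        intro b
        rw [LinearMap.smul_apply, ← Module.End.mul_apply (rhoLin (Z' b)), ← rhoLin_mul, hcomm,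
          rhoLin_mul, rhoLin_mul, Module.End.mul_apply, Module.End.mul_apply, hfix, rhoLin_central,
          smul_smul, ← sg_add, add_dotProduct]
      simp only [this]
      rw [← Finset.sum_smul, sum_sg_dot]
    have h2 : Pa (T0 f) = (f a' * (2 : ZMod 3) ^ n) • rhoLin (X' a') v0 := by
      rw [hT0, Fintype.linearCombination_apply, map_sum]
      simp only [map_smul, h1, smul_smul]
      rw [Finset.sum_eq_single a']
      · rw [wn_add_self, if_pos rfl]
      · intro a _ ha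
        rw [if_neg (fun h => ha ((wn_add_eq_zero_iff a' a).1 h).symm), mul_zero, zero_smul]
      · intro h; exact absurd (Finset.mem_univ a') h
    rw [hf, map_zero] at h2
    have h3 : rhoLin (X' a') v0 ≠ 0 := by
      intro h
      apply hf0
      have := rhoLin_injective_apply (X' a') (a₁ := v0) (a₂ := 0) (by rw [h, map_zero])
      exact this
    have h4 := smul_eq_zero.1 h2.symm
    rcases h4 with h4 | h4
    · rcases mul_eq_zero.1 h4 with h5 | h5
      · simpa using h5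
      · exact absurd h5 (two_pow_ne_zero n)
    · exact absurd h4 h3
  have hbij : Function.Bijective T0 := ⟨hinj, LinearMap.injective_iff_surjective.1 hinj⟩
  obtain ⟨T, hT⟩ := (Module.End.isUnit_iff T0).2 hbij
  refine ⟨T, fun a => ?_, fun b => ?_⟩
  · apply Units.ext
    rw [Units.val_mul, Units.val_mul, hT, rhoU_val, rhoU_val, hTX]
  · apply Units.ext
    rw [Units.val_mul, Units.val_mul, hT, rhoU_val, rhoU_val, hTZ]

/-- An operator normalising the representation trivially modulo the centre lies in its image. -/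
theorem mem_range_of_central_twist (T : GLn n)
    (hT : ∀ x : Heis n 2, ∃ c : ZMod 2, T * rhoU x * T⁻¹ = rhoU ((⟨0, 0, c⟩ : Heis n 2) * x)) :
    ∃ y : Heis n 2, T = rhoU y := by
  classical
  choose lam hlam using hT
  -- additivity of the twist on the two families
  have haddX : ∀ a a' : Wn n, lam ⟨a + a', 0, 0⟩ = lam ⟨a, 0, 0⟩ + lam ⟨a', 0, 0⟩ := by
    intro a a'
    have e1 : (⟨a + a', 0, 0⟩ : Heis n 2) = ⟨a, 0, 0⟩ * ⟨a', 0, 0⟩ := by ext <;> simp
    have h1 : T * rhoU (⟨a + a', 0, 0⟩ : Heis n 2) * T⁻¹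
        = (T * rhoU ⟨a, 0, 0⟩ * T⁻¹) * (T * rhoU ⟨a', 0, 0⟩ * T⁻¹) := by
      rw [e1, map_mul]; group
    rw [hlam, hlam, hlam, ← map_mul] at h1
    have h2 := congrArg Heis.c (rhoU_injective h1)
    simp only [Heis.mul_c, Heis.mul_a, Heis.mul_b] at h2
    simpa using h2
  have haddZ : ∀ b b' : Wn n, lam ⟨0, b + b', 0⟩ = lam ⟨0, b, 0⟩ + lam ⟨0, b', 0⟩ := by
    intro b b'
    have e1 : (⟨0, b + b', 0⟩ : Heis n 2) = ⟨0, b, 0⟩ * ⟨0, b', 0⟩ := by ext <;> simp
    have h1 : T * rhoU (⟨0, b + b', 0⟩ : Heis n 2) * T⁻¹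
        = (T * rhoU ⟨0, b, 0⟩ * T⁻¹) * (T * rhoU ⟨0, b', 0⟩ * T⁻¹) := by
      rw [e1, map_mul]; group
    rw [hlam, hlam, hlam, ← map_mul] at h1
    have h2 := congrArg Heis.c (rhoU_injective h1)
    simp only [Heis.mul_c, Heis.mul_a, Heis.mul_b] at h2
    simpa using h2
  obtain ⟨β, hβ⟩ := exists_dot_of_additive (fun a => lam ⟨a, 0, 0⟩) haddX
  obtain ⟨α, hα⟩ := exists_dot_of_additive (fun b => lam ⟨0, b, 0⟩) haddZ
  set y0 : Heis n 2 := ⟨α, β, 0⟩ with hy0
  -- conjugation by y0 realises the same twists on generators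
  have hyX : ∀ a : Wn n, y0 * ⟨a, 0, 0⟩ * y0⁻¹ = (⟨0, 0, lam ⟨a, 0, 0⟩⟩ : Heis n 2) * ⟨a, 0, 0⟩ := by
    intro a
    rw [mul_inv_eq_iff_eq_mul]
    have := hβ a
    ext
    · simp [hy0, add_comm]
    · simp [hy0]
    · simp only [Heis.mul_c, Heis.mul_a, hy0, this]
      simp
      exact (CharTwo.add_self_eq_zero _).symm
  have hyZ : ∀ b : Wn n, y0 * ⟨0, b, 0⟩ * y0⁻¹ = (⟨0, 0, lam ⟨0, b, 0⟩⟩ : Heis n 2) * ⟨0, b, 0⟩ := by
    intro b
    rw [mul_inv_eq_iff_eq_mul]
    have := hα b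
    ext
    · simp [hy0]
    · simp [hy0, add_comm]
    · simp only [Heis.mul_c, Heis.mul_a, hy0, this]
      simp [dotProduct_comm]
  -- S commutes with the generators
  set S : GLn n := (rhoU y0)⁻¹ * T with hS
  have hSX : ∀ a : Wn n, S * rhoU ⟨a, 0, 0⟩ = rhoU ⟨a, 0, 0⟩ * S := by
    intro a
    have h1 : T * rhoU (⟨a, 0, 0⟩ : Heis n 2) * T⁻¹ = rhoU y0 * rhoU ⟨a, 0, 0⟩ * (rhoU y0)⁻¹ := by
      rw [hlam, ← hyX, map_mul, map_mul, map_inv]
    rw [hS]
    have h2 : T * rhoU (⟨a, 0, 0⟩ : Heis n 2) = rhoU y0 * rhoU ⟨a, 0, 0⟩ * (rhoU y0)⁻¹ * T := by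
      rw [← h1]; group
    rw [mul_assoc, h2]; group
  have hSZ : ∀ b : Wn n, S * rhoU ⟨0, b, 0⟩ = rhoU ⟨0, b, 0⟩ * S := by
    intro b
    have h1 : T * rhoU (⟨0, b, 0⟩ : Heis n 2) * T⁻¹ = rhoU y0 * rhoU ⟨0, b, 0⟩ * (rhoU y0)⁻¹ := by
      rw [hlam, ← hyZ, map_mul, map_mul, map_inv]
    rw [hS]
    have h2 : T * rhoU (⟨0, b, 0⟩ : Heis n 2) = rhoU y0 * rhoU ⟨0, b, 0⟩ * (rhoU y0)⁻¹ * T := by
      rw [← h1]; group
    rw [mul_assoc, h2]; group
  have hscal := commutant_scalar (S : Module.End (ZMod 3) (Hn n))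
    (fun a => by
      have := congrArg (fun t : GLn n => (t : Module.End (ZMod 3) (Hn n))) (hSX a)
      simpa using this)
    (fun b => by
      have := congrArg (fun t : GLn n => (t : Module.End (ZMod 3) (Hn n))) (hSZ b)
      simpa using this)
  set μ := (S : Module.End (ZMod 3) (Hn n)) (ev 0) 0 with hμ
  have hμ0 : μ ≠ 0 := by
    intro h
    rw [h, zero_smul] at hscal
    have h1 : (S : Module.End (ZMod 3) (Hn n)) * ((S⁻¹ : GLn n) : Module.End (ZMod 3) (Hn n)) = 1 := by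
      rw [← Units.val_mul, mul_inv_cancel, Units.val_one]
    rw [hscal, zero_mul] at h1
    have h2 := LinearMap.congr_fun h1 (ev 0)
    have h3 := congrFun h2 0
    rw [LinearMap.zero_apply, Module.End.one_apply, ev_apply, if_pos rfl] at h3
    exact zero_ne_one h3
  have hS2 : ∃ c : ZMod 2, S = rhoU (⟨0, 0, c⟩ : Heis n 2) := by
    rcases z3_unit_cases μ hμ0 with h | h
    · refine ⟨0, Units.ext ?_⟩
      rw [hscal, h, rhoU_val]
      apply LinearMap.ext; intro f
      rw [rhoLin_central, LinearMap.smul_apply, Module.End.one_apply]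
    · refine ⟨1, Units.ext ?_⟩
      rw [hscal, h, rhoU_val]
      apply LinearMap.ext; intro f
      rw [rhoLin_central, LinearMap.smul_apply, Module.End.one_apply]
  obtain ⟨c, hc⟩ := hS2
  refine ⟨y0 * ⟨0, 0, c⟩, ?_⟩
  rw [map_mul, ← hc, hS]; group

end Cfsg.Agent.Lead.ExtSp
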