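import Mathlib
import Cfsg.Agent.Lead.ExtSpC

/-!
# Lifting isometries of the hyperbolic quadratic space to normalising operators
-/

set_option autoImplicit false

namespace Cfsg.Agent.Lead.ExtSp

open Cfsg.Agent.Helper3

variable {n : ℕ}

/-- the standard hyperbolic quadratic form -/
def q0 (x : Wn n × Wn n) : ZMod 2 := x.1 ⬝ᵥ x.2

/-- its polar form -/
def b0 (x y : Wn n × Wn n) : ZMod 2 := x.1 ⬝ᵥ y.2 + y.1 ⬝ᵥ x.2

theorem q0_add (x y : Wn n × Wn n) : q0 (x + y) = q0 x + q0 y + b0 x y := by
  simp only [q0, b0, Prod.fst_add, Prod.snd_add, add_dotProduct, dotProduct_add]; ring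

theorem b0_of_isometry (g : (Wn n × Wn n) →ₗ[ZMod 2] (Wn n × Wn n)) (hg : ∀ x, q0 (g x) = q0 x)
    (x y : Wn n × Wn n) : b0 (g x) (g y) = b0 x y := by
  have h1 := q0_add (g x) (g y)
  rw [← map_add, hg, hg, hg, q0_add] at h1
  exact (add_left_cancel h1).symm

/-- the projection of the Heisenberg group onto its Frattini quotient -/
def piH (x : Heis n 2) : Wn n × Wn n := (x.a, x.b)

theorem piH_mul (x y : Heis n 2) : piH (x * y) = piH x + piH y := rfl

theorem piH_one : piH (1 : Heis n 2) = 0 := rfl

/-- the projection as a homomorphism -/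
def piHom : Heis n 2 →* Multiplicative (Wn n × Wn n) where
  toFun x := Multiplicative.ofAdd (piH x)
  map_one' := rfl
  map_mul' _ _ := rfl

/-- the commutation rule in the Heisenberg group -/
theorem heis_comm (x y : Heis n 2) :
    y * x = (⟨0, 0, b0 (piH y) (piH x)⟩ : Heis n 2) * (x * y) := by
  ext
  · simp [add_comm]
  · simp [add_comm]
  · simp only [Heis.mul_c, b0, piH, Heis.mul_a, Heis.mul_b, zero_dotProduct, add_zero]
    have h : x.a ⬝ᵥ y.b + x.a ⬝ᵥ y.b = 0 := CharTwo.add_self_eq_zero _
    linear_combination (-1 : ZMod 2) * h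

/-- the standard lift of a vector -/
def lift0 (u : Wn n × Wn n) : Heis n 2 := ⟨u.1, u.2, 0⟩

theorem piH_lift0 (u : Wn n × Wn n) : piH (lift0 u) = u := rfl

theorem lift0_mul_self (u : Wn n × Wn n) (hu : q0 u = 0) : lift0 u * lift0 u = 1 := by
  ext
  · simp only [lift0, Heis.mul_a, Heis.one_a]; exact congrFun (wn_add_self _) _
  · simp only [lift0, Heis.mul_b, Heis.one_b]; exact congrFun (wn_add_self _) _
  · simp only [Heis.mul_c, lift0, Heis.one_c, add_zero, zero_add]
    exact hu

theorem lift0_commute (u v : Wn n × Wn n) (h : b0 u v = 0) : Commute (lift0 u) (lift0 v) := by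
  change lift0 u * lift0 v = lift0 v * lift0 u
  rw [Heis.commute_iff]
  simp only [lift0]
  simp only [b0] at h
  have h2 : v.1 ⬝ᵥ u.2 + v.1 ⬝ᵥ u.2 = 0 := CharTwo.add_self_eq_zero _
  linear_combination h - h2

/-- the homomorphism from the group of order two defined by an involution -/
def invHom {G : Type*} [Group G] (x : G) (hx : x * x = 1) : Multiplicative (ZMod 2) →* G where
  toFun t := if Multiplicative.toAdd t = 0 then 1 else x
  map_one' := by simp
  map_mul' s t := by
    have hs : Multiplicative.toAdd s = 0 ∨ Multiplicative.toAdd s = 1 := by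
      generalize Multiplicative.toAdd s = a; revert a; decide
    have ht : Multiplicative.toAdd t = 0 ∨ Multiplicative.toAdd t = 1 := by
      generalize Multiplicative.toAdd t = a; revert a; decide
    rw [toAdd_mul]
    rcases hs with hs | hs <;> rcases ht with ht | ht <;> rw [hs, ht]
    · simp
    · simp
    · simp
    · have : (1 : ZMod 2) + 1 = 0 := by decide
      rw [this]; simp [hx]

theorem invHom_ofAdd_one {G : Type*} [Group G] (x : G) (hx : x * x = 1) :
    invHom x hx (Multiplicative.ofAdd 1) = x := by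
  simp [invHom]

theorem invHom_commute {G : Type*} [Group G] (x y : G) (hx : x * x = 1) (hy : y * y = 1)
    (h : Commute x y) (s t : Multiplicative (ZMod 2)) : Commute (invHom x hx s) (invHom y hy t) := by
  simp only [invHom, MonoidHom.coe_mk, OneHom.coe_mk]
  split_ifs
  · exact Commute.one_left _
  · exact Commute.one_left _
  · exact Commute.one_right _
  · exact h

/-- A homomorphic lift of a totally singular family. -/
theorem exists_hom_lift (L : Wn n →ₗ[ZMod 2] (Wn n × Wn n)) (hq : ∀ a, q0 (L a) = 0) :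
    ∃ X' : Wn n → Heis n 2, (∀ a a', X' (a + a') = X' a * X' a') ∧ ∀ a, piH (X' a) = L a := by
  classical
  have hb : ∀ a a', b0 (L a) (L a') = 0 := by
    intro a a'
    have := q0_add (L a) (L a')
    rw [← map_add, hq, hq, hq, zero_add, zero_add] at this
    exact this.symm
  let φ : (i : Fin n) → Multiplicative (ZMod 2) →* Heis n 2 := fun i =>
    invHom (lift0 (L (Pi.single i 1))) (lift0_mul_self _ (hq _))
  have hcomm : Pairwise fun i j => ∀ (x y : Multiplicative (ZMod 2)), Commute (φ i x) (φ j y) := by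
    intro i j _ x y
    exact invHom_commute _ _ _ _ (lift0_commute _ _ (hb _ _)) x y
  let Xp : (Fin n → Multiplicative (ZMod 2)) →* Heis n 2 := MonoidHom.noncommPiCoprod φ hcomm
  let toM : Wn n → (Fin n → Multiplicative (ZMod 2)) := fun a i => Multiplicative.ofAdd (a i)
  refine ⟨fun a => Xp (toM a), fun a a' => ?_, fun a => ?_⟩
  · have : toM (a + a') = toM a * toM a' := rfl
    simp only [this, map_mul]
  · -- compare two homomorphisms into a commutative group
    let G1 : (Fin n → Multiplicative (ZMod 2)) →* Multiplicative (Wn n × Wn n) := piHom.comp Xp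
    let G2 : (Fin n → Multiplicative (ZMod 2)) →* Multiplicative (Wn n × Wn n) :=
      { toFun := fun m => Multiplicative.ofAdd (L (fun i => Multiplicative.toAdd (m i)))
        map_one' := by
          have : (fun i : Fin n => Multiplicative.toAdd ((1 : Fin n → Multiplicative (ZMod 2)) i))
              = (0 : Wn n) := rfl
          rw [this, map_zero]; rfl
        map_mul' := by
          intro m m'
          have : (fun i : Fin n => Multiplicative.toAdd ((m * m') i))
              = (fun i => Multiplicative.toAdd (m i)) + (fun i => Multiplicative.toAdd (m' i)) := rfl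
          rw [this, map_add]; rfl }
    have hG : G1 = G2 := by
      apply MonoidHom.functions_ext
      intro i t
      change Multiplicative.ofAdd (piH (Xp (Pi.mulSingle i t)))
        = Multiplicative.ofAdd (L (fun j => Multiplicative.toAdd ((Pi.mulSingle i t : Fin n → Multiplicative (ZMod 2)) j)))
      congr 1
      rw [show Xp (Pi.mulSingle i t) = φ i t from MonoidHom.noncommPiCoprod_mulSingle φ i t]
      have ht : Multiplicative.toAdd t = 0 ∨ Multiplicative.toAdd t = 1 := by
        generalize Multiplicative.toAdd t = a; revert a; decide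
      rcases ht with ht | ht
      · have ht1 : t = 1 := by
          apply Multiplicative.toAdd.injective; rw [ht]; rfl
        rw [ht1, map_one, piH_one, Pi.mulSingle_one]
        have : (fun j : Fin n => Multiplicative.toAdd ((1 : Fin n → Multiplicative (ZMod 2)) j))
            = (0 : Wn n) := rfl
        rw [this, map_zero]
      · have ht1 : t = Multiplicative.ofAdd 1 := by
          apply Multiplicative.toAdd.injective; rw [ht]; rfl
        rw [ht1]
        simp only [φ]
        rw [invHom_ofAdd_one, piH_lift0]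
        have e : (fun j : Fin n => Multiplicative.toAdd
            ((Pi.mulSingle i (Multiplicative.ofAdd (1 : ZMod 2)) : Fin n → Multiplicative (ZMod 2)) j))
            = (Pi.single i 1 : Wn n) := by
          funext j
          rw [Pi.mulSingle_apply, Pi.single_apply]
          split_ifs <;> rfl
        rw [e]
    have := DFunLike.congr_fun hG (toM a)
    change Multiplicative.ofAdd (piH (Xp (toM a))) = Multiplicative.ofAdd (L _) at this
    exact Multiplicative.ofAdd.injective this

theorem rhoU_central_comm (c : ZMod 2) (T : GLn n) :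
    T * rhoU (⟨0, 0, c⟩ : Heis n 2) = rhoU ⟨0, 0, c⟩ * T := by
  apply Units.ext
  rw [Units.val_mul, Units.val_mul, rhoU_val]
  apply LinearMap.ext; intro f
  rw [Module.End.mul_apply, Module.End.mul_apply, rhoLin_central, rhoLin_central, map_smul]

/-- Every isometry of the hyperbolic space lifts to a normalising operator. -/
theorem exists_lift (g : (Wn n × Wn n) →ₗ[ZMod 2] (Wn n × Wn n)) (hg : ∀ x, q0 (g x) = q0 x)
    (hinj : Function.Injective g) :
    ∃ T : GLn n, ∀ x : Heis n 2, ∃ x' : Heis n 2,
      T * rhoU x * T⁻¹ = rhoU x' ∧ piH x' = g (piH x) := by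
  classical
  -- lifts of the two Lagrangians
  obtain ⟨X', hX, hXpi⟩ := exists_hom_lift (g.comp (LinearMap.inl (ZMod 2) (Wn n) (Wn n)))
    (fun a => by
      rw [LinearMap.comp_apply, hg]
      simp [q0])
  obtain ⟨Z', hZ, hZpi⟩ := exists_hom_lift (g.comp (LinearMap.inr (ZMod 2) (Wn n) (Wn n)))
    (fun b => by
      rw [LinearMap.comp_apply, hg]
      simp [q0])
  have hcomm : ∀ a b, Z' b * X' a = (⟨0, 0, a ⬝ᵥ b⟩ : Heis n 2) * (X' a * Z' b) := by
    intro a b
    rw [heis_comm (X' a) (Z' b), hXpi, hZpi, LinearMap.comp_apply, LinearMap.comp_apply,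
      b0_of_isometry g hg]
    simp [b0]
  have hZinj : ∀ b, b ≠ 0 → ¬ ((Z' b).a = 0 ∧ (Z' b).b = 0) := by
    intro b hb h
    have h1 : piH (Z' b) = 0 := by
      rw [piH, h.1, h.2]; rfl
    rw [hZpi, LinearMap.comp_apply] at h1
    have h2 : (LinearMap.inr (ZMod 2) (Wn n) (Wn n)) b = 0 := hinj (by rw [h1, map_zero])
    have h3 := congrArg Prod.snd h2
    exact hb (by simpa using h3)
  obtain ⟨T, hTX, hTZ⟩ := exists_intertwiner X' Z' hX hZ hcomm hZinj
  refine ⟨T, fun x => ⟨(⟨0, 0, x.c⟩ : Heis n 2) * (Z' x.b * X' x.a), ?_, ?_⟩⟩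
  · rw [mul_inv_eq_iff_eq_mul]
    have hx : rhoU x = rhoU (⟨0, 0, x.c⟩ : Heis n 2) * (rhoU ⟨0, x.b, 0⟩ * rhoU ⟨x.a, 0, 0⟩) := by
      rw [← map_mul, ← map_mul, ← heis_decomp]
    calc T * rhoU x
        = (T * rhoU (⟨0, 0, x.c⟩ : Heis n 2)) * (rhoU ⟨0, x.b, 0⟩ * rhoU ⟨x.a, 0, 0⟩) := by
          rw [hx]; simp only [mul_assoc]
      _ = rhoU (⟨0, 0, x.c⟩ : Heis n 2) * ((T * rhoU ⟨0, x.b, 0⟩) * rhoU ⟨x.a, 0, 0⟩) := by
          rw [rhoU_central_comm]; simp only [mul_assoc]
      _ = rhoU (⟨0, 0, x.c⟩ : Heis n 2) * (rhoU (Z' x.b) * (T * rhoU ⟨x.a, 0, 0⟩)) := by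
          rw [hTZ]; simp only [mul_assoc]
      _ = rhoU ((⟨0, 0, x.c⟩ : Heis n 2) * (Z' x.b * X' x.a)) * T := by
          rw [hTX, map_mul, map_mul]; simp only [mul_assoc]
  · rw [piH_mul, piH_mul, hZpi, hXpi, LinearMap.comp_apply, LinearMap.comp_apply]
    have : piH (⟨0, 0, x.c⟩ : Heis n 2) = 0 := rfl
    rw [this, zero_add, ← map_add]
    congr 1
    simp [piH]

end Cfsg.Agent.Lead.ExtSp
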