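import Mathlib
import Cfsg.Agent.Lead.ExtSpD

/-!
# The extension `2^(1+2n)_+ . K` inside `GL(2^n, 3)`
-/

set_option autoImplicit false

namespace Cfsg.Agent.Lead.ExtSp

open Cfsg.Agent.Helper3

variable {n : ℕ} {K : Type*} [Group K] {U : Type*} [AddCommGroup U] [Module (ZMod 2) U]
  (ρ : Representation (ZMod 2) K U) (ψ : U ≃ₗ[ZMod 2] (Wn n × Wn n))

/-- the action of `K` on the coordinate space -/
def actK (k : K) : (Wn n × Wn n) →ₗ[ZMod 2] (Wn n × Wn n) :=
  ψ.toLinearMap ∘ₗ ρ k ∘ₗ ψ.symm.toLinearMap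

theorem actK_apply (k : K) (u : Wn n × Wn n) : actK ρ ψ k u = ψ (ρ k (ψ.symm u)) := rfl

theorem actK_one (u : Wn n × Wn n) : actK ρ ψ 1 u = u := by
  rw [actK_apply, map_one, Module.End.one_apply, LinearEquiv.apply_symm_apply]

theorem actK_mul (k k' : K) (u : Wn n × Wn n) :
    actK ρ ψ (k * k') u = actK ρ ψ k (actK ρ ψ k' u) := by
  rw [actK_apply, actK_apply, actK_apply, map_mul, Module.End.mul_apply,
    LinearEquiv.symm_apply_apply]

theorem actK_injective (k : K) : Function.Injective (actK ρ ψ k) := by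
  intro u v h
  have := congrArg (actK ρ ψ k⁻¹) h
  rwa [← actK_mul, ← actK_mul, inv_mul_cancel, actK_one, actK_one] at this

instance heisFinite : Finite (Heis n 2) :=
  Finite.of_injective (fun x : Heis n 2 => (x.a, x.b, x.c)) (by
    intro x y h
    simp only [Prod.mk.injEq] at h
    exact Heis.ext h.1 h.2.1 h.2.2)

theorem piH_surjective : Function.Surjective (piH : Heis n 2 → Wn n × Wn n) :=
  fun u => ⟨lift0 u, rfl⟩

theorem piH_conj (y x : Heis n 2) : piH (y * x * y⁻¹) = piH x := by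
  rw [piH_mul, piH_mul]
  have : piH y⁻¹ = - piH y := by
    have h := piH_mul y y⁻¹
    rw [mul_inv_cancel, piH_one] at h
    exact eq_neg_of_add_eq_zero_right h.symm
  rw [this]; abel

/-- the predicate defining membership in the big group, for a given image `k` -/
def Lifts (T : GLn n) (k : K) : Prop :=
  ∀ x : Heis n 2, ∃ x' : Heis n 2, T * rhoU x * T⁻¹ = rhoU x' ∧ piH x' = actK ρ ψ k (piH x)

theorem lifts_one : Lifts ρ ψ (1 : GLn n) (1 : K) := fun x =>
  ⟨x, by simp, by rw [actK_one]⟩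

theorem lifts_mul {T T' : GLn n} {k k' : K} (h : Lifts ρ ψ T k) (h' : Lifts ρ ψ T' k') :
    Lifts ρ ψ (T * T') (k * k') := by
  intro x
  obtain ⟨x1, hx1, hp1⟩ := h' x
  obtain ⟨x2, hx2, hp2⟩ := h x1
  refine ⟨x2, ?_, ?_⟩
  · rw [← hx2, ← hx1]; group
  · rw [hp2, hp1, actK_mul]

theorem lifts_inv {T : GLn n} {k : K} (h : Lifts ρ ψ T k) : Lifts ρ ψ T⁻¹ k⁻¹ := by
  classical
  choose c hc hp using h
  have hinj : Function.Injective c := by
    intro x y hxy
    have h1 := hc x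
    rw [hxy, ← hc y] at h1
    have h2 : rhoU x = rhoU y := by
      have := congrArg (fun t => T⁻¹ * t * T) h1
      simpa [mul_assoc] using this
    exact rhoU_injective h2
  have hsurj : Function.Surjective c := Finite.injective_iff_surjective.1 hinj
  intro x
  obtain ⟨x0, rfl⟩ := hsurj x
  refine ⟨x0, ?_, ?_⟩
  · rw [← hc x0]; group
  · rw [hp x0, ← actK_mul, inv_mul_cancel, actK_one]

theorem lifts_rhoU (y : Heis n 2) : Lifts ρ ψ (rhoU y) (1 : K) := fun x =>
  ⟨y * x * y⁻¹, by rw [map_mul, map_mul, map_inv], by rw [piH_conj, actK_one]⟩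

theorem lifts_unique (hρ : Function.Injective ρ) {T : GLn n} {k k' : K} (h : Lifts ρ ψ T k)
    (h' : Lifts ρ ψ T k') : k = k' := by
  apply hρ
  apply LinearMap.ext
  intro u
  obtain ⟨x, hx⟩ := piH_surjective (n := n) (ψ u)
  obtain ⟨x1, hx1, hp1⟩ := h x
  obtain ⟨x2, hx2, hp2⟩ := h' x
  have : x1 = x2 := rhoU_injective (by rw [← hx1, ← hx2])
  rw [this, hp2, hx, actK_apply, actK_apply, LinearEquiv.symm_apply_apply] at hp1
  exact (ψ.injective hp1).symm

/-- the big group -/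
def RSub : Subgroup (GLn n) where
  carrier := {T | ∃ k : K, Lifts ρ ψ T k}
  one_mem' := ⟨1, lifts_one ρ ψ⟩
  mul_mem' := fun ⟨k, hk⟩ ⟨k', hk'⟩ => ⟨k * k', lifts_mul ρ ψ hk hk'⟩
  inv_mem' := fun ⟨k, hk⟩ => ⟨k⁻¹, lifts_inv ρ ψ hk⟩

/-- the image in `K` of an element of the big group -/
noncomputable def kOf (T : RSub ρ ψ) : K := Classical.choose T.2

theorem kOf_spec (T : RSub ρ ψ) : Lifts ρ ψ (T : GLn n) (kOf ρ ψ T) := Classical.choose_spec T.2

/-- the projection of the big group onto `K` -/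
noncomputable def phi (hρ : Function.Injective ρ) : RSub ρ ψ →* K where
  toFun := kOf ρ ψ
  map_one' := lifts_unique ρ ψ hρ (kOf_spec ρ ψ 1) (lifts_one ρ ψ)
  map_mul' S T := lifts_unique ρ ψ hρ (kOf_spec ρ ψ (S * T))
    (lifts_mul ρ ψ (kOf_spec ρ ψ S) (kOf_spec ρ ψ T))

theorem phi_spec (hρ : Function.Injective ρ) (T : RSub ρ ψ) :
    Lifts ρ ψ (T : GLn n) (phi ρ ψ hρ T) := kOf_spec ρ ψ T

theorem phi_surjective (hρ : Function.Injective ρ)
    (hq : ∀ (k : K) (u : Wn n × Wn n), q0 (actK ρ ψ k u) = q0 u) :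
    Function.Surjective (phi ρ ψ hρ) := by
  intro k
  obtain ⟨T, hT⟩ := exists_lift (actK ρ ψ k) (hq k) (actK_injective ρ ψ k)
  refine ⟨⟨T, k, hT⟩, ?_⟩
  exact lifts_unique ρ ψ hρ (phi_spec ρ ψ hρ ⟨T, k, hT⟩) hT

theorem mem_ker_phi_iff (hρ : Function.Injective ρ) (T : RSub ρ ψ) :
    T ∈ (phi ρ ψ hρ).ker ↔ ∃ y : Heis n 2, (T : GLn n) = rhoU y := by
  rw [MonoidHom.mem_ker]
  constructor
  · intro h
    have hT := phi_spec ρ ψ hρ T
    rw [h] at hT
    apply mem_range_of_central_twist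
    intro x
    obtain ⟨x', hx', hp⟩ := hT x
    rw [actK_one] at hp
    refine ⟨x'.c + x.c, ?_⟩
    rw [hx', heis_central_mul]
    congr 1
    have h1 : x'.a = x.a := congrArg Prod.fst hp
    have h2 : x'.b = x.b := congrArg Prod.snd hp
    ext
    · rw [h1]
    · rw [h2]
    · simp only
      rw [add_assoc, CharTwo.add_self_eq_zero, add_zero]
  · rintro ⟨y, hy⟩
    have h1 := phi_spec ρ ψ hρ T
    rw [hy] at h1
    exact lifts_unique ρ ψ hρ h1 (lifts_rhoU ρ ψ y)

/-- the embedding of the Heisenberg group as the kernel -/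
noncomputable def iota (hρ : Function.Injective ρ) : Heis n 2 →* (phi ρ ψ hρ).ker where
  toFun y := ⟨⟨rhoU y, 1, lifts_rhoU ρ ψ y⟩, (mem_ker_phi_iff ρ ψ hρ _).2 ⟨y, rfl⟩⟩
  map_one' := by
    apply Subtype.ext; apply Subtype.ext
    simp
  map_mul' x y := by
    apply Subtype.ext; apply Subtype.ext
    simp

theorem iota_val (hρ : Function.Injective ρ) (y : Heis n 2) :
    (((iota ρ ψ hρ y : (phi ρ ψ hρ).ker) : RSub ρ ψ) : GLn n) = rhoU y := rfl

theorem iota_bijective (hρ : Function.Injective ρ) : Function.Bijective (iota ρ ψ hρ) := by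
  constructor
  · intro x y h
    apply rhoU_injective
    have := congrArg (fun t : (phi ρ ψ hρ).ker => ((t : RSub ρ ψ) : GLn n)) h
    simpa [iota_val] using this
  · intro t
    obtain ⟨y, hy⟩ := (mem_ker_phi_iff ρ ψ hρ t.1).1 t.2
    refine ⟨y, ?_⟩
    apply Subtype.ext; apply Subtype.ext
    rw [iota_val, hy]

/-- the kernel is isomorphic to the Heisenberg group -/
noncomputable def iotaEquiv (hρ : Function.Injective ρ) : Heis n 2 ≃* (phi ρ ψ hρ).ker :=
  MulEquiv.ofBijective (iota ρ ψ hρ) (iota_bijective ρ ψ hρ)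

theorem iotaEquiv_apply (hρ : Function.Injective ρ) (y : Heis n 2) :
    iotaEquiv ρ ψ hρ y = iota ρ ψ hρ y := rfl

end Cfsg.Agent.Lead.ExtSp
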