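import Mathlib
import Cfsg.Prelude.Def_Transfer
import Cfsg.Agent.Helper3.ExtraCore
import Cfsg.Agent.Helper5.ExtraCount
import Cfsg.Agent.Helper5.PGroupCenter

/-!
Lead library: an involutory automorphism `φ` of an extraspecial 2-group `E`; the subgroup generated
by the elements `φ q * q⁻¹` is the centre of the subgroup of elements `q` with `φ q * q⁻¹` central.
-/

set_option autoImplicit false

namespace Cfsg.Agent.Lead.ExtraInv

open scoped commutatorElement

variable {E : Type*} [Group E]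

/-- `c q = φ q * q⁻¹`. -/
def cc (φ : E ≃* E) (q : E) : E := φ q * q⁻¹

theorem cc_mul (φ : E ≃* E) (x q : E) : cc φ (x * q) = cc φ x * (x * cc φ q * x⁻¹) := by
  unfold cc
  rw [map_mul]
  group

theorem phi_cc (φ : E ≃* E) (hφ2 : ∀ x, φ (φ x) = x) (q : E) : φ (cc φ q) = (cc φ q)⁻¹ := by
  unfold cc
  rw [map_mul, map_inv, hφ2]
  group

theorem cc_cc (φ : E ≃* E) (hφ2 : ∀ x, φ (φ x) = x) (q : E) :
    cc φ (cc φ q) = ((cc φ q)⁻¹) ^ 2 := by
  have h := phi_cc φ hφ2 q
  show φ (cc φ q) * (cc φ q)⁻¹ = _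
  rw [h, pow_two]

theorem phi_center (φ : E ≃* E) (hφ2 : ∀ x, φ (φ x) = x) (w : E)
    (hw : w ∈ Subgroup.center E) : φ w ∈ Subgroup.center E := by
  rw [Subgroup.mem_center_iff] at hw ⊢
  intro g
  have h := hw (φ g)
  have h2 := congrArg φ h
  rw [map_mul, map_mul, hφ2] at h2
  exact h2

theorem phi_center_eq (hZ : Nat.card (Subgroup.center E) = 2) (φ : E ≃* E)
    (hφ2 : ∀ x, φ (φ x) = x) (w : E)
    (hw : w ∈ Subgroup.center E) : φ w = w := by
  by_cases h1 : w = 1
  · rw [h1, map_one]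
  · obtain ⟨y, -, hy⟩ := (Nat.card_eq_two_iff' (1 : Subgroup.center E)).1 hZ
    have ha : (⟨w, hw⟩ : Subgroup.center E) = y := by
      apply hy
      intro h
      exact h1 (congrArg Subtype.val h)
    have hb : (⟨φ w, phi_center φ hφ2 w hw⟩ : Subgroup.center E) = y := by
      apply hy
      intro h
      have h3 : φ w = 1 := congrArg Subtype.val h
      apply h1
      have := congrArg φ h3
      rw [hφ2, map_one] at this
      exact this
    have := hb.trans ha.symm
    exact congrArg Subtype.val this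

theorem center_eq_or (hZ : Nat.card (Subgroup.center E) = 2) (w w' : E)
    (hw : w ∈ Subgroup.center E) (hw1 : w ≠ 1) (hw' : w' ∈ Subgroup.center E) :
    w' = 1 ∨ w' = w := by
  by_cases h1 : w' = 1
  · exact Or.inl h1
  · right
    obtain ⟨y, -, hy⟩ := (Nat.card_eq_two_iff' (1 : Subgroup.center E)).1 hZ
    have ha : (⟨w, hw⟩ : Subgroup.center E) = y := by
      apply hy
      intro h
      exact hw1 (congrArg Subtype.val h)
    have hb : (⟨w', hw'⟩ : Subgroup.center E) = y := by
      apply hy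
      intro h
      exact h1 (congrArg Subtype.val h)
    exact congrArg Subtype.val (hb.trans ha.symm)

/-- The subgroup of `q` with `φ q * q⁻¹` central. -/
def E0 (φ : E ≃* E) : Subgroup E where
  carrier := {q | cc φ q ∈ Subgroup.center E}
  one_mem' := by
    show cc φ 1 ∈ Subgroup.center E
    unfold cc
    rw [map_one, inv_one, mul_one]
    exact Subgroup.one_mem _
  mul_mem' := by
    intro a b ha hb
    show cc φ (a * b) ∈ Subgroup.center E
    rw [cc_mul]
    have hb' : cc φ b ∈ Subgroup.center E := hb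
    have : a * cc φ b * a⁻¹ = cc φ b := by
      have := Subgroup.mem_center_iff.1 hb' a
      rw [this]; group
    rw [this]
    exact Subgroup.mul_mem _ ha hb
  inv_mem' := by
    intro a ha
    show cc φ a⁻¹ ∈ Subgroup.center E
    have ha' : cc φ a ∈ Subgroup.center E := ha
    have : cc φ a⁻¹ = (cc φ a)⁻¹ := by
      have h := Subgroup.mem_center_iff.1 ha' a⁻¹
      unfold cc at h ⊢
      rw [map_inv, inv_inv, mul_inv_rev, inv_inv]
      have : a⁻¹ * (φ a * a⁻¹) * a = φ a * a⁻¹ := by rw [h]; group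
      calc (φ a)⁻¹ * a = (a⁻¹ * (φ a * a⁻¹) * a)⁻¹ := by group
        _ = (φ a * a⁻¹)⁻¹ := by rw [this]
        _ = a * (φ a)⁻¹ := by group
    rw [this]
    exact Subgroup.inv_mem _ ha

theorem mem_E0 (φ : E ≃* E) (q : E) : q ∈ E0 φ ↔ cc φ q ∈ Subgroup.center E := Iff.rfl

/-- The subgroup generated by the `φ q * q⁻¹`. -/
def KK (φ : E ≃* E) : Subgroup E := Subgroup.closure (Set.range (cc φ))

theorem cc_mem_KK (φ : E ≃* E) (q : E) : cc φ q ∈ KK φ := Subgroup.subset_closure ⟨q, rfl⟩

theorem KK_normal (φ : E ≃* E) : (KK φ).Normal := by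
  constructor
  intro n hn g
  have h : (KK φ).map (MulAut.conj g).toMonoidHom ≤ KK φ := by
    unfold KK
    rw [MonoidHom.map_closure, Subgroup.closure_le]
    rintro _ ⟨_, ⟨q, rfl⟩, rfl⟩
    show g * cc φ q * g⁻¹ ∈ _
    have h1 := cc_mul φ g q
    have h2 : g * cc φ q * g⁻¹ = (cc φ g)⁻¹ * cc φ (g * q) := by rw [h1]; group
    rw [h2]
    exact Subgroup.mul_mem _ (Subgroup.inv_mem _ (cc_mem_KK φ g)) (cc_mem_KK φ (g * q))
  exact h ⟨n, hn, rfl⟩

end Cfsg.Agent.Lead.ExtraInv
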