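import Mathlib
import Cfsg.Agent.Lead.ExtraInvA

/-!
Lead library: the centralizer computation and the counting argument for `ExtraInvA`.
-/

set_option autoImplicit false

namespace Cfsg.Agent.Lead.ExtraInv

open scoped commutatorElement
open Cfsg.Agent.Helper3.Extra

variable {E : Type*} [Group E]

theorem comm_central_mul (ζ x e : E) (hζ : ζ ∈ Subgroup.center E) : ⁅ζ * x, e⁆ = ⁅x, e⁆ := by
  have h1 := Subgroup.mem_center_iff.1 hζ
  rw [commutatorElement_def, commutatorElement_def, mul_inv_rev]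
  have h2 : ζ * x * e * (x⁻¹ * ζ⁻¹) * e⁻¹ = ζ * (x * e * x⁻¹ * e⁻¹) * ζ⁻¹ := by
    have h3 := h1 (e⁻¹)
    calc ζ * x * e * (x⁻¹ * ζ⁻¹) * e⁻¹ = ζ * (x * e * x⁻¹) * (ζ⁻¹ * e⁻¹) := by group
      _ = ζ * (x * e * x⁻¹) * (e⁻¹ * ζ⁻¹) := by
        congr 1
        have : e⁻¹ * ζ⁻¹ = (ζ * e)⁻¹ := by group
        rw [this, ← h1 e]; group
      _ = _ := by group
  rw [h2, ← h1 (x * e * x⁻¹ * e⁻¹)]
  group

/-- `⁅x, φ q⁆ = ⁅x, q⁆` for `x ∈ E₀`. -/
theorem comm_phi_right (hZ : Nat.card (Subgroup.center E) = 2)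
    (hcm : ∀ x y : E, ⁅x, y⁆ ∈ Subgroup.center E)
    (φ : E ≃* E) (hφ2 : ∀ x, φ (φ x) = x) (x q : E) (hx : x ∈ E0 φ) :
    ⁅x, φ q⁆ = ⁅x, q⁆ := by
  have h1 : φ ⁅x, q⁆ = ⁅x, q⁆ := phi_center_eq hZ φ hφ2 _ (hcm x q)
  have h2 : φ ⁅x, q⁆ = ⁅φ x, φ q⁆ := by
    rw [commutatorElement_def, commutatorElement_def]
    simp only [map_mul, map_inv]
  have h3 : φ x = cc φ x * x := by unfold cc; group
  rw [← h1, h2, h3, comm_central_mul _ _ _ hx]

theorem KK_le_centralizer_E0 [Finite E] (hC : InClass 2 E)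
    (φ : E ≃* E) (hφ2 : ∀ x, φ (φ x) = x) :
    KK φ ≤ Subgroup.centralizer (E0 φ : Set E) := by
  unfold KK
  rw [Subgroup.closure_le]
  rintro _ ⟨q, rfl⟩
  rw [SetLike.mem_coe, Subgroup.mem_centralizer_iff]
  intro x hx
  have hx' : x ∈ E0 φ := hx
  have h1 : hC.cm x (cc φ q) = 1 := by
    unfold cc
    rw [map_mul, map_inv]
    have : hC.cm x (φ q) = hC.cm x q := by
      apply Subtype.ext
      rw [InClass.cm_apply, InClass.cm_apply]
      exact comm_phi_right hC.card_center hC.comm_mem φ hφ2 x q hx'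
    rw [this, mul_inv_cancel]
  exact ((hC.cm_eq_one_iff _ _).1 h1).eq

theorem centralizer_KK_le [Finite E] (hC : InClass 2 E)
    (φ : E ≃* E) (hφ2 : ∀ x, φ (φ x) = x) :
    Subgroup.centralizer (KK φ : Set E) ≤ E0 φ := by
  intro x hx
  rw [Subgroup.mem_centralizer_iff] at hx
  rw [mem_E0, Subgroup.mem_center_iff]
  -- for all q: cm x (φ q) = cm x q
  have h1 : ∀ q, hC.cm x (φ q) = hC.cm x q := by
    intro q
    have h2 : hC.cm x (cc φ q) = 1 := by
      rw [InClass.cm_eq_one_iff]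
      exact (hx _ (cc_mem_KK φ q)).symm
    unfold cc at h2
    rw [map_mul, map_inv, mul_inv_eq_one] at h2
    exact h2
  -- invariance: cm (φ x) (φ q) = cm x q
  have h3 : ∀ q, hC.cm (φ x) (φ q) = hC.cm x q := by
    intro q
    apply Subtype.ext
    rw [InClass.cm_apply, InClass.cm_apply]
    have h4 : φ ⁅x, q⁆ = ⁅x, q⁆ := phi_center_eq hC.card_center φ hφ2 _ (hC.comm_mem x q)
    have h5 : φ ⁅x, q⁆ = ⁅φ x, φ q⁆ := by
      rw [commutatorElement_def, commutatorElement_def]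
      simp only [map_mul, map_inv]
    rw [← h5, h4]
  have h6 : ∀ e, hC.cm (φ x) e = hC.cm x e := by
    intro e
    have := h3 (φ e)
    rw [hφ2] at this
    rw [this, h1]
  intro e
  have h7 : hC.cm e (cc φ x) = 1 := by
    unfold cc
    rw [map_mul, map_inv, hC.cm_swap e (φ x), hC.cm_swap e x, h6, mul_inv_eq_one]
  exact ((hC.cm_eq_one_iff _ _).1 h7).eq

theorem centralizer_KK_eq [Finite E] (hC : InClass 2 E)
    (φ : E ≃* E) (hφ2 : ∀ x, φ (φ x) = x) :
    Subgroup.centralizer (KK φ : Set E) = E0 φ := by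
  apply le_antisymm (centralizer_KK_le hC φ hφ2)
  have h := KK_le_centralizer_E0 hC φ hφ2
  intro x hx
  rw [Subgroup.mem_centralizer_iff]
  intro k hk
  have := h hk
  rw [Subgroup.mem_centralizer_iff] at this
  exact (this x hx).symm

theorem card_sub_center (A : Subgroup E) (hA : Subgroup.center E ≤ A) :
    Nat.card {a : A // (a : E) ∈ Subgroup.center E} = Nat.card (Subgroup.center E) := by
  apply Nat.card_congr
  refine ⟨fun a => ⟨a.1.1, a.2⟩, fun w => ⟨⟨w.1, hA w.2⟩, w.2⟩, ?_, ?_⟩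
  · intro a; rfl
  · intro w; rfl

theorem center_le_E0 (φ : E ≃* E) (hZ : Nat.card (Subgroup.center E) = 2)
    (hφ2 : ∀ x, φ (φ x) = x) : Subgroup.center E ≤ E0 φ := by
  intro w hw
  rw [mem_E0]
  unfold cc
  rw [phi_center_eq hZ φ hφ2 w hw, mul_inv_cancel]
  exact Subgroup.one_mem _

theorem center_le_KK [Finite E] (hE : Cfsg.IsExtraspecial 2 E)
    (φ : E ≃* E) (hφ : ∃ x, φ x ≠ x) : Subgroup.center E ≤ KK φ := by
  have : Fact (Nat.Prime 2) := ⟨Nat.prime_two⟩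
  have hn := KK_normal φ
  have hne : KK φ ≠ ⊥ := by
    obtain ⟨x, hx⟩ := hφ
    intro h
    have h1 := cc_mem_KK φ x
    rw [h, Subgroup.mem_bot] at h1
    apply hx
    unfold cc at h1
    exact mul_inv_eq_one.1 h1
  obtain ⟨w, hwK, hw1, hwc⟩ :=
    Cfsg.Agent.Helper5.exists_ne_one_mem_center_of_normal hE.1.1 (KK φ) hne
  have hwZ : w ∈ Subgroup.center E := by
    rw [Subgroup.mem_center_iff]
    exact hwc
  intro w' hw'
  rcases center_eq_or hE.2 w w' hwZ hw1 hw' with h | h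
  · rw [h]; exact Subgroup.one_mem _
  · rw [h]; exact hwK

/-- The main statement: `K = Z(E₀)`. -/
theorem main [Finite E] (hE : Cfsg.IsExtraspecial 2 E)
    (φ : E ≃* E) (hφ2 : ∀ x, φ (φ x) = x) (hφ : ∃ x, φ x ≠ x) (x : E) :
    x ∈ KK φ ↔ (x ∈ E0 φ ∧ ∀ y ∈ E0 φ, y * x = x * y) := by
  have : Fact (Nat.Prime 2) := ⟨Nat.prime_two⟩
  have hC : InClass 2 E := inClass_of_isExtraspecial hE
  have hcen := Cfsg.Agent.Helper5.extraspecial_comm_central hE
  have hZ := hE.2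
  have c1 := Cfsg.Agent.Helper5.card_centralizer_mul_card hcen hZ (KK φ)
  have c2 := Cfsg.Agent.Helper5.card_centralizer_mul_card hcen hZ (E0 φ)
  rw [card_sub_center _ (center_le_KK hE φ hφ), centralizer_KK_eq hC φ hφ2] at c1
  rw [card_sub_center _ (center_le_E0 φ hZ hφ2)] at c2
  have hle := KK_le_centralizer_E0 hC φ hφ2
  have hcard : Nat.card (Subgroup.centralizer (E0 φ : Set E)) = Nat.card (KK φ) := by
    have hpos : 0 < Nat.card (E0 φ) := Nat.card_pos
    have : Nat.card (Subgroup.centralizer (E0 φ : Set E)) * Nat.card (E0 φ) =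
        Nat.card (KK φ) * Nat.card (E0 φ) := by
      rw [c2, mul_comm (Nat.card (KK φ)), c1]
    exact Nat.eq_of_mul_eq_mul_right hpos this
  have heq : KK φ = Subgroup.centralizer (E0 φ : Set E) :=
    Subgroup.eq_of_le_of_card_ge hle (le_of_eq hcard)
  have hKE : KK φ ≤ E0 φ := by
    unfold KK
    rw [Subgroup.closure_le]
    rintro _ ⟨q, rfl⟩
    rw [SetLike.mem_coe, mem_E0, cc_cc φ hφ2]
    exact Cfsg.Agent.Helper5.extraspecial_two_sq_mem_center hE _
  constructor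
  · intro hx
    refine ⟨hKE hx, ?_⟩
    rw [heq, Subgroup.mem_centralizer_iff] at hx
    exact hx
  · rintro ⟨-, h2⟩
    rw [heq, Subgroup.mem_centralizer_iff]
    exact h2

end Cfsg.Agent.Lead.ExtraInv
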