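import Mathlib
import Cfsg.Prelude.Def_ClassificationK
import Cfsg.Prelude.Def_Transfer
import Cfsg.Agent.Lead.ExtraInvB
import Cfsg.Agent.Helper2.Layer3

/-!
Lead library: transfer of `ExtraInv.main` to the centralizer of an involution whose generalized
Fitting subgroup is extraspecial.
-/

set_option autoImplicit false

namespace Cfsg.Agent.Lead.ExtraInvC

open Cfsg.Agent.Lead.ExtraInv

theorem mem_zpowers_two {G : Type*} [Group G] (z : G) (hz : orderOf z = 2) (w : G) :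
    w ∈ Subgroup.zpowers z ↔ w = 1 ∨ w = z := by
  constructor
  · rintro ⟨k, rfl⟩
    have h := zpow_mod_orderOf z k
    rw [hz] at h
    rcases Int.emod_two_eq_zero_or_one k with h2 | h2
    · left
      have h3 : z ^ (k % ((2 : ℕ) : ℤ)) = 1 := by
        have : (k % ((2 : ℕ) : ℤ)) = 0 := by exact_mod_cast h2
        rw [this, zpow_zero]
      show z ^ k = 1
      rw [← h, h3]
    · right
      have h3 : z ^ (k % ((2 : ℕ) : ℤ)) = z := by
        have : (k % ((2 : ℕ) : ℤ)) = 1 := by exact_mod_cast h2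
        rw [this, zpow_one]
      show z ^ k = z
      rw [← h, h3]
  · rintro (h | h)
    · rw [h]; exact Subgroup.one_mem _
    · rw [h]; exact Subgroup.mem_zpowers z

theorem inter {G : Type*} [Group G] [Finite G] (z : G) (hz : orderOf z = 2)
    (C : Subgroup G) (hC : C = Subgroup.centralizer ({z} : Set G))
    (F : Subgroup ↥C) (hF : F = Cfsg.generalizedFittingSubgroup ↥C)
    (hE : Cfsg.IsExtraspecial 2 ↥F)
    (α : G) (hα : orderOf α = 2) (hαC : α ∈ C) (hαQ : α ∉ F.map C.subtype)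
    (Q₀ : Subgroup G)
    (hQ₀ : ∀ q : G, q ∈ Q₀ ↔ (q ∈ F.map C.subtype ∧ α * q * α⁻¹ * q⁻¹ ∈ Subgroup.zpowers z)) :
    Subgroup.closure ((fun q : G => α * q * α⁻¹ * q⁻¹) '' (F.map C.subtype : Set G)) =
        (Subgroup.center ↥Q₀).map Q₀.subtype ∧
      (¬ Q₀ ≤ (F.map C.subtype ⊓ Subgroup.centralizer ({α} : Set G)) ⊔ Subgroup.zpowers z →
        ∃ q ∈ F.map C.subtype, q * α * q⁻¹ = α * z) := by
  have hFn : F.Normal := by
    rw [hF]; exact Subgroup.normal_of_characteristic _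
  have hzcomm : ∀ c ∈ C, c * z = z * c := by
    intro c hc
    rw [hC] at hc
    exact (Subgroup.mem_centralizer_iff.1 hc z rfl).symm
  have hzC : z ∈ C := by
    rw [hC, Subgroup.mem_centralizer_iff]
    intro y hy
    rw [Set.mem_singleton_iff.1 hy]
  have hzF : (⟨z, hzC⟩ : ↥C) ∈ F := by
    rw [hF]
    apply Cfsg.Agent.Helper2.centralizer_generalizedFittingSubgroup_le
    rw [Subgroup.mem_centralizer_iff]
    intro h _
    apply Subtype.ext
    exact hzcomm h.1 h.2
  have hz1 : z ≠ 1 := by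
    intro h
    rw [h, orderOf_one] at hz
    omega
  have hzz : z * z = 1 := by
    have := pow_orderOf_eq_one z
    rw [hz, pow_two] at this
    exact this
  have hαα : α * α = 1 := by
    have := pow_orderOf_eq_one α
    rw [hα, pow_two] at this
    exact this
  have hαinv : α⁻¹ = α := inv_eq_of_mul_eq_one_left hαα
  have hzinv : z⁻¹ = z := inv_eq_of_mul_eq_one_left hzz
  obtain ⟨z'', hz''⟩ : ∃ w : ↥F, w = ⟨⟨z, hzC⟩, hzF⟩ := ⟨_, rfl⟩
  have hz''v : ((z'' : ↥C) : G) = z := by rw [hz'']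
  have hz''c : z'' ∈ Subgroup.center ↥F := by
    rw [Subgroup.mem_center_iff]
    intro g
    apply Subtype.ext
    apply Subtype.ext
    show ((g : ↥C) : G) * ((z'' : ↥C) : G) = ((z'' : ↥C) : G) * ((g : ↥C) : G)
    rw [hz''v]
    exact hzcomm g.1.1 g.1.2
  have hz''1 : z'' ≠ 1 := by
    intro h
    apply hz1
    rw [← hz''v, h]
    rfl
  have hcen : ∀ w : ↥F, w ∈ Subgroup.center ↥F ↔ ((w : ↥C) : G) ∈ Subgroup.zpowers z := by
    intro w
    rw [mem_zpowers_two z hz]
    constructor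
    · intro hw
      rcases center_eq_or hE.2 z'' w hz''c hz''1 hw with h | h
      · left; rw [h]; rfl
      · right; rw [h, hz''v]
    · rintro (h | h)
      · have : w = 1 := Subtype.ext (Subtype.ext h)
        rw [this]; exact Subgroup.one_mem _
      · have : w = z'' := Subtype.ext (Subtype.ext (h.trans hz''v.symm))
        rw [this]; exact hz''c
  obtain ⟨α', hα'⟩ : ∃ a : ↥C, a = ⟨α, hαC⟩ := ⟨_, rfl⟩
  have hα'v : (α' : G) = α := by rw [hα']
  obtain ⟨φ, hφdef⟩ : ∃ f : ↥F ≃* ↥F, f = MulAut.conjNormal α' := ⟨_, rfl⟩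
  have hφv : ∀ q : ↥F, ((φ q : ↥C) : G) = α * ((q : ↥C) : G) * α⁻¹ := by
    intro q
    rw [hφdef, MulAut.conjNormal_apply, Subgroup.coe_mul, Subgroup.coe_mul, Subgroup.coe_inv, hα'v]
  have hφ2 : ∀ x, φ (φ x) = x := by
    intro x
    apply Subtype.ext
    apply Subtype.ext
    rw [hφv, hφv, hαinv]
    calc α * (α * ((x : ↥C) : G) * α) * α = (α * α) * ((x : ↥C) : G) * (α * α) := by group
      _ = _ := by rw [hαα, one_mul, mul_one]
  have hφ : ∃ x, φ x ≠ x := by
    by_contra hcon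
    push Not at hcon
    apply hαQ
    have : α' ∈ F := by
      rw [hF]
      apply Cfsg.Agent.Helper2.centralizer_generalizedFittingSubgroup_le
      rw [Subgroup.mem_centralizer_iff]
      intro h hh
      rw [← hF] at hh
      have h1 := hcon ⟨h, hh⟩
      have h2 := hφv ⟨h, hh⟩
      rw [h1] at h2
      apply Subtype.ext
      rw [Subgroup.coe_mul, Subgroup.coe_mul, hα'v]
      have h3 : (h : G) = α * (h : G) * α⁻¹ := h2
      calc (h : G) * α = (α * (h : G) * α⁻¹) * α := by rw [← h3]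
        _ = α * (h : G) := by group
    exact ⟨α', this, hα'v⟩
  have hccv : ∀ q : ↥F, (((cc φ q : ↥F) : ↥C) : G) =
      α * ((q : ↥C) : G) * α⁻¹ * ((q : ↥C) : G)⁻¹ := by
    intro q
    unfold cc
    rw [Subgroup.coe_mul, Subgroup.coe_mul, hφv, Subgroup.coe_inv, Subgroup.coe_inv]
  have hQmem : ∀ g : G, g ∈ F.map C.subtype ↔ ∃ q : ↥F, ((q : ↥C) : G) = g := by
    intro g
    rw [Subgroup.mem_map]
    constructor
    · rintro ⟨x, hx, rfl⟩
      exact ⟨⟨x, hx⟩, rfl⟩
    · rintro ⟨q, rfl⟩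
      exact ⟨q.1, q.2, rfl⟩
  have hQ0mem : ∀ q : ↥F, ((q : ↥C) : G) ∈ Q₀ ↔ q ∈ E0 φ := by
    intro q
    rw [hQ₀, mem_E0, hcen, hccv]
    constructor
    · rintro ⟨-, h⟩; exact h
    · intro h; exact ⟨(hQmem _).2 ⟨q, rfl⟩, h⟩
  have hQ0ex : ∀ g ∈ Q₀, ∃ q ∈ E0 φ, ((q : ↥C) : G) = g := by
    intro g hg
    obtain ⟨q, rfl⟩ := (hQmem g).1 ((hQ₀ g).1 hg).1
    exact ⟨q, (hQ0mem q).1 hg, rfl⟩
  constructor
  · -- part (a)
    have hmain := main hE φ hφ2 hφ
    have himg : (fun q : G => α * q * α⁻¹ * q⁻¹) '' (F.map C.subtype : Set G) =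
        (C.subtype.comp F.subtype) '' (Set.range (cc φ)) := by
      ext g
      constructor
      · rintro ⟨q, hq, rfl⟩
        obtain ⟨q', rfl⟩ := (hQmem q).1 hq
        exact ⟨cc φ q', ⟨q', rfl⟩, hccv q'⟩
      · rintro ⟨_, ⟨q', rfl⟩, rfl⟩
        exact ⟨((q' : ↥C) : G), (hQmem _).2 ⟨q', rfl⟩, (hccv q').symm⟩
    rw [himg, ← MonoidHom.map_closure]
    ext g
    rw [Subgroup.mem_map, Subgroup.mem_map]
    constructor
    · rintro ⟨x, hx, rfl⟩
      have hx' : x ∈ KK φ := hx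
      rw [hmain] at hx'
      obtain ⟨hx0, hxc⟩ := hx'
      have hgQ : ((x : ↥C) : G) ∈ Q₀ := (hQ0mem x).2 hx0
      refine ⟨⟨_, hgQ⟩, ?_, rfl⟩
      rw [Subgroup.mem_center_iff]
      intro h
      obtain ⟨y, hy0, hy⟩ := hQ0ex h.1 h.2
      apply Subtype.ext
      show (h : G) * ((x : ↥C) : G) = ((x : ↥C) : G) * (h : G)
      rw [← hy]
      have := hxc y hy0
      have h2 := congrArg (fun w : ↥F => ((w : ↥C) : G)) this
      exact h2
    · rintro ⟨w, hw, rfl⟩
      obtain ⟨x, hx0, hx⟩ := hQ0ex w.1 w.2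
      refine ⟨x, ?_, hx⟩
      show x ∈ KK φ
      rw [hmain]
      refine ⟨hx0, ?_⟩
      intro y hy0
      have hyQ : ((y : ↥C) : G) ∈ Q₀ := (hQ0mem y).2 hy0
      have h1 := Subgroup.mem_center_iff.1 hw ⟨_, hyQ⟩
      have h2 : ((y : ↥C) : G) * (w : G) = (w : G) * ((y : ↥C) : G) :=
        congrArg Subtype.val h1
      rw [← hx] at h2
      apply Subtype.ext
      apply Subtype.ext
      exact h2
  · -- part (b)
    intro hnot
    rw [SetLike.not_le_iff_exists] at hnot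
    obtain ⟨q, hq0, hqn⟩ := hnot
    obtain ⟨hqQ, hqz⟩ := (hQ₀ q).1 hq0
    refine ⟨q, hqQ, ?_⟩
    rw [mem_zpowers_two z hz] at hqz
    rcases hqz with h | h
    · exfalso
      apply hqn
      apply Subgroup.mem_sup_left
      refine ⟨hqQ, ?_⟩
      show q ∈ Subgroup.centralizer ({α} : Set G)
      rw [Subgroup.mem_centralizer_iff]
      intro y hy
      rw [Set.mem_singleton_iff.1 hy]
      calc α * q = (α * q * α⁻¹ * q⁻¹) * q * α := by group
        _ = q * α := by rw [h, one_mul]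
    · have hαz : α * z = z * α := hzcomm α hαC
      calc q * α * q⁻¹ = (α * q * α⁻¹ * q⁻¹)⁻¹ * α := by group
        _ = z⁻¹ * α := by rw [h]
        _ = α * z := by rw [hzinv, hαz]

end Cfsg.Agent.Lead.ExtraInvC
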