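import Mathlib
import Cfsg.Agent.Lead.ExtraPCube
import Cfsg.Agent.Lead.FusionSat3

set_option autoImplicit false

/-!
Elements centralizing or inverting a subgroup, and the Frattini argument showing that an
inverting element forces an element of order `p` outside `Ω₁`.
-/

namespace Cfsg.Agent.Lead.ExtraPCube

open Cfsg

variable {G : Type*} [Group G]

/-- `g` centralizes `E` -/
def Cen (E : Subgroup G) (g : G) : Prop := ∀ v ∈ E, g * v * g⁻¹ = v

/-- `g` inverts `E` -/
def Inv (E : Subgroup G) (g : G) : Prop := ∀ v ∈ E, g * v * g⁻¹ = v⁻¹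

theorem cen_mul_cen {E : Subgroup G} {a b : G} (ha : Cen E a) (hb : Cen E b) : Cen E (a * b) := by
  intro v hv
  have : a * b * v * (a * b)⁻¹ = a * (b * v * b⁻¹) * a⁻¹ := by group
  rw [this, hb v hv, ha v hv]

theorem cen_mul_inv {E : Subgroup G} {a b : G} (ha : Cen E a) (hb : Inv E b) : Inv E (a * b) := by
  intro v hv
  have : a * b * v * (a * b)⁻¹ = a * (b * v * b⁻¹) * a⁻¹ := by group
  rw [this, hb v hv, ha _ (E.inv_mem hv)]

theorem inv_mul_cen {E : Subgroup G} {a b : G} (ha : Inv E a) (hb : Cen E b) : Inv E (a * b) := by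
  intro v hv
  have : a * b * v * (a * b)⁻¹ = a * (b * v * b⁻¹) * a⁻¹ := by group
  rw [this, hb v hv, ha v hv]

theorem inv_mul_inv {E : Subgroup G} {a b : G} (ha : Inv E a) (hb : Inv E b) : Cen E (a * b) := by
  intro v hv
  have : a * b * v * (a * b)⁻¹ = a * (b * v * b⁻¹) * a⁻¹ := by group
  rw [this, hb v hv, ha _ (E.inv_mem hv), inv_inv]

theorem cen_inv {E : Subgroup G} {a : G} (ha : Cen E a) : Cen E a⁻¹ := by
  intro v hv
  have h := ha v hv
  conv_lhs => rw [← h]
  group

theorem inv_inv' {E : Subgroup G} {a : G} (ha : Inv E a) : Inv E a⁻¹ := by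
  intro v hv
  have h := ha _ (E.inv_mem hv)
  rw [inv_inv] at h
  conv_lhs => rw [← h]
  group

theorem cen_one (E : Subgroup G) : Cen E 1 := by
  intro v _
  simp

/-- elements acting as `±1` -/
def pm (E : Subgroup G) : Subgroup G where
  carrier := {g | Cen E g ∨ Inv E g}
  one_mem' := Or.inl (cen_one E)
  mul_mem' := by
    rintro a b (ha | ha) (hb | hb)
    · exact Or.inl (cen_mul_cen ha hb)
    · exact Or.inr (cen_mul_inv ha hb)
    · exact Or.inr (inv_mul_cen ha hb)
    · exact Or.inl (inv_mul_inv ha hb)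
  inv_mem' := by
    rintro a (ha | ha)
    · exact Or.inl (cen_inv ha)
    · exact Or.inr (inv_inv' ha)

theorem mem_pm {E : Subgroup G} {g : G} : g ∈ pm E ↔ Cen E g ∨ Inv E g := Iff.rfl

theorem pm_le_normalizer (E : Subgroup G) : pm E ≤ Subgroup.normalizer (E : Set G) := by
  intro g hg
  apply Cfsg.Agent.Lead.mem_normalizer_of_conj_mem E g
  · intro y hy
    rcases hg with h | h
    · rw [h y hy]; exact hy
    · rw [h y hy]; exact E.inv_mem hy
  · intro y hy
    have hg' : g⁻¹ ∈ pm E := (pm E).inv_mem hg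
    have : g⁻¹ * y * g = g⁻¹ * y * g⁻¹⁻¹ := by rw [inv_inv]
    rw [this]
    rcases hg' with h | h
    · rw [h y hy]; exact hy
    · rw [h y hy]; exact E.inv_mem hy

theorem cen_conj {E : Subgroup G} {n g : G} (hn : n ∈ Subgroup.normalizer (E : Set G))
    (hg : Cen E g) : Cen E (n * g * n⁻¹) := by
  intro v hv
  have hv' : n⁻¹ * v * n ∈ E := by
    have := (Subgroup.mem_normalizer_iff.1 (Subgroup.inv_mem _ hn) v).1 hv
    rwa [inv_inv] at this
  have : n * g * n⁻¹ * v * (n * g * n⁻¹)⁻¹ = n * (g * (n⁻¹ * v * n) * g⁻¹) * n⁻¹ := by group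
  rw [this, hg _ hv']
  group

theorem inv_conj {E : Subgroup G} {n g : G} (hn : n ∈ Subgroup.normalizer (E : Set G))
    (hg : Inv E g) : Inv E (n * g * n⁻¹) := by
  intro v hv
  have hv' : n⁻¹ * v * n ∈ E := by
    have := (Subgroup.mem_normalizer_iff.1 (Subgroup.inv_mem _ hn) v).1 hv
    rwa [inv_inv] at this
  have : n * g * n⁻¹ * v * (n * g * n⁻¹)⁻¹ = n * (g * (n⁻¹ * v * n) * g⁻¹) * n⁻¹ := by group
  rw [this, hg _ hv']
  group

theorem normalizer_le_normalizer_pm (E : Subgroup G) :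
    Subgroup.normalizer (E : Set G) ≤ Subgroup.normalizer ((pm E : Subgroup G) : Set G) := by
  intro n hn
  apply Cfsg.Agent.Lead.mem_normalizer_of_conj_mem (pm E) n
  · intro y hy
    rcases hy with h | h
    · exact Or.inl (cen_conj hn h)
    · exact Or.inr (inv_conj hn h)
  · intro y hy
    have hn' := Subgroup.inv_mem _ hn
    have : n⁻¹ * y * n = n⁻¹ * y * n⁻¹⁻¹ := by rw [inv_inv]
    rw [this]
    rcases hy with h | h
    · exact Or.inl (cen_conj hn' h)
    · exact Or.inr (inv_conj hn' h)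

theorem inv_pow_odd {E : Subgroup G} {t : G} (ht : Inv E t) (j : ℕ) : Inv E (t ^ (2 * j + 1)) := by
  induction j with
  | zero => simpa using ht
  | succ j ih =>
    have : t ^ (2 * (j + 1) + 1) = t * t * t ^ (2 * j + 1) := by
      rw [show 2 * (j + 1) + 1 = 1 + 1 + (2 * j + 1) by ring, pow_add, pow_add, pow_one]
    rw [this]
    exact cen_mul_inv (inv_mul_inv ht ht) ih

end Cfsg.Agent.Lead.ExtraPCube
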