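import Mathlib
import Cfsg.Agent.Lead.ExtraPCube2

set_option autoImplicit false

/-!
The Frattini argument: an element inverting `E = Ω₁(P)` gives an element of order `p` outside `E`.
-/

namespace Cfsg.Agent.Lead.ExtraPCube

open Cfsg

variable {G : Type*} [Group G] [Finite G] {p : ℕ} [hp : Fact p.Prime]

theorem no_inversion (hp2 : p ≠ 2) (P : Sylow p G) (E : Subgroup G) (hEP : E ≤ (P : Subgroup G))
    (hmem : ∀ x ∈ (P : Subgroup G), x ^ p = 1 → x ∈ E)
    (hcomm : ∀ a ∈ E, ∀ b ∈ E, a * b = b * a)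
    (hcardE : Nat.card E = p ^ 2) (hcardP : Nat.card P = p ^ 3)
    (hcent : ∀ y ∈ (P : Subgroup G), Cen E y → y ∈ E)
    (hnorm : (P : Subgroup G) ≤ Subgroup.normalizer (E : Set G))
    (z : G) (hzE : z ∈ E) (hz1 : z ≠ 1) (hzp : z ^ p = 1)
    (hzc : ∀ y ∈ (P : Subgroup G), y * z * y⁻¹ = z)
    (t₀ : G) (ht₀ : Inv E t₀) : False := by
  haveI : Fact (Nat.Prime 2) := ⟨Nat.prime_two⟩
  obtain ⟨N, hN⟩ : ∃ N : Subgroup G, N = Subgroup.normalizer (E : Set G) := ⟨_, rfl⟩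
  obtain ⟨H, hH⟩ : ∃ H : Subgroup G, H = pm E := ⟨_, rfl⟩
  have hHN : H ≤ N := by rw [hH, hN]; exact pm_le_normalizer E
  have hNH : N ≤ Subgroup.normalizer (H : Set G) := by
    rw [hH, hN]; exact normalizer_le_normalizer_pm E
  have hPN : (P : Subgroup G) ≤ N := by rw [hN]; exact hnorm
  -- a `2`-element inverting `E`
  obtain ⟨k, m, hm, hkm⟩ := Nat.exists_eq_two_pow_mul_odd (orderOf_pos t₀).ne'
  obtain ⟨j, hj⟩ := hm
  obtain ⟨t, ht⟩ : ∃ t : G, t = t₀ ^ m := ⟨_, rfl⟩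
  have htinv : Inv E t := by
    rw [ht, hj]; exact inv_pow_odd ht₀ j
  have htpow : t ^ (2 ^ k) = 1 := by
    rw [ht, ← pow_mul, mul_comm, ← hkm, pow_orderOf_eq_one]
  have htH : t ∈ H := by rw [hH]; exact Or.inr htinv
  have hzt : IsPGroup 2 (Subgroup.zpowers t) := by
    apply IsPGroup.of_card (n := (Nat.factorization (orderOf t)) 2)
    rw [Nat.card_zpowers]
    have hdvd : orderOf t ∣ 2 ^ k := orderOf_dvd_of_pow_eq_one htpow
    obtain ⟨i, _, hi⟩ := (Nat.dvd_prime_pow Nat.prime_two).1 hdvd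
    rw [hi, Nat.Prime.factorization_pow Nat.prime_two]
    simp
  obtain ⟨T, htT, hTH, hT2, hTcard⟩ := Cfsg.Agent.Lead.exists_le_card_eq_ppart hzt
    (show Subgroup.zpowers t ≤ H by rw [Subgroup.zpowers_le]; exact htH)
  have htT' : t ∈ T := htT (Subgroup.mem_zpowers t)
  obtain ⟨X, hX⟩ : ∃ X : Subgroup G, X = Subgroup.normalizer (T : Set G) ⊓ N := ⟨_, rfl⟩
  -- Frattini
  have hfrat : N ≤ H ⊔ X := by
    intro n hn
    have hT'H : T.map (MulAut.conj n).toMonoidHom ≤ H := by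
      rintro _ ⟨q, hq, rfl⟩
      have := (Subgroup.mem_normalizer_iff.1 (hNH hn) q).1 (hTH hq)
      exact this
    obtain ⟨m', hm'H, hm'⟩ := Cfsg.Agent.Lead.exists_conj_le_of_card_eq_ppart hTH hTcard hT'H
      (hT2.map _)
    have hmn : m' * n ∈ Subgroup.normalizer (T : Set G) := by
      apply Cfsg.Agent.Lead.mem_normalizer_of_conj_mem_of_finite
      intro q hq
      have : m' * (n * q * n⁻¹) * m'⁻¹ ∈ T := hm' ⟨n * q * n⁻¹, ⟨q, hq, rfl⟩, rfl⟩
      have h2 : m' * n * q * (m' * n)⁻¹ = m' * (n * q * n⁻¹) * m'⁻¹ := by group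
      rw [h2]; exact this
    have h3 : n = m'⁻¹ * (m' * n) := by group
    rw [h3]
    apply Subgroup.mul_mem_sup (H.inv_mem hm'H)
    rw [hX]
    exact ⟨hmn, N.mul_mem (hHN hm'H) hn⟩
  have hXN : X ≤ N := by rw [hX]; exact inf_le_right
  -- orders
  have hPcardN : Nat.card (P : Subgroup G) = p ^ (Nat.card N).factorization p := by
    apply Cfsg.Agent.Lead.card_eq_ppart_of_le hPN (le_top : N ≤ ⊤) P.2
    rw [Subgroup.card_top]
    exact P.card_eq_multiplicity
  have hPH : (P : Subgroup G) ⊓ H = E := by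
    apply le_antisymm
    · rintro y ⟨hyP, hyH⟩
      rw [hH] at hyH
      rcases hyH with h | h
      · exact hcent y hyP h
      · exfalso
        have h1 := h z hzE
        rw [hzc y hyP] at h1
        have h2 : z ^ 2 = 1 := by
          rw [pow_two]
          nth_rewrite 1 [h1]
          exact inv_mul_cancel z
        have h3 : orderOf z ∣ 2 := orderOf_dvd_of_pow_eq_one h2
        have h4 : orderOf z ∣ p := orderOf_dvd_of_pow_eq_one hzp
        have h5 : orderOf z ∣ Nat.gcd 2 p := Nat.dvd_gcd h3 h4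
        have h6 : Nat.gcd 2 p = 1 := by
          rw [← Nat.coprime_iff_gcd_eq_one]
          exact (Nat.coprime_primes Nat.prime_two hp.out).2 (Ne.symm hp2)
        rw [h6, Nat.dvd_one, orderOf_eq_one_iff] at h5
        exact hz1 h5
    · apply le_inf hEP
      intro v hv
      rw [hH]
      left
      intro w hw
      rw [hcomm v hv w hw]
      group
  have hHfac : (Nat.card H).factorization p = 2 := by
    have h1 := Cfsg.Agent.Lead.card_inf_eq_ppart_of_normal hPN hHN hNH P.2 hPcardN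
    rw [hPH, hcardE] at h1
    exact (Nat.pow_right_injective hp.out.two_le h1).symm
  have hpX : p ∣ Nat.card X := by
    by_contra hndvd
    have hcop : Nat.Coprime (p ^ 3) (Nat.card X) :=
      Nat.Coprime.pow_left 3 ((Nat.Prime.coprime_iff_not_dvd hp.out).2 hndvd)
    have h1 : p ^ 3 ∣ Nat.card N := by
      rw [← hcardP]; exact Subgroup.card_dvd_of_le hPN
    have h2 : Nat.card N ∣ Nat.card (H ⊔ X : Subgroup G) := Subgroup.card_dvd_of_le hfrat
    have h3 := Cfsg.Agent.Helper1.card_sup_mul_card_inf (N := H) (A := X) (hXN.trans hNH)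
    have h4 : p ^ 3 ∣ Nat.card H * Nat.card X := by
      rw [← h3]
      exact Dvd.dvd.mul_right (h1.trans h2) _
    have h5 : p ^ 3 ∣ Nat.card H := hcop.dvd_of_dvd_mul_right h4
    have h6 := (Nat.Prime.pow_dvd_iff_le_factorization hp.out Nat.card_pos.ne').1 h5
    omega
  obtain ⟨u', hu'⟩ := exists_prime_orderOf_dvd_card' p hpX
  obtain ⟨u, huX, huo⟩ : ∃ u : G, u ∈ X ∧ orderOf u = p :=
    ⟨u'.1, u'.2, by rw [Subgroup.orderOf_coe]; exact hu'⟩
  have huN : (u : G) ∈ N := hXN huX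
  have huT : (u : G) ∈ Subgroup.normalizer (T : Set G) := by
    have h0 := huX
    rw [hX] at h0; exact h0.1
  have hzu : IsPGroup p (Subgroup.zpowers (u : G)) := by
    apply IsPGroup.of_card (n := 1)
    rw [Nat.card_zpowers, huo, pow_one]
  obtain ⟨n, hnN, hn⟩ := Cfsg.Agent.Lead.exists_conj_le_of_card_eq_ppart hPN hPcardN
    (show Subgroup.zpowers (u : G) ≤ N by rw [Subgroup.zpowers_le]; exact huN) hzu
  have hnu : n * u * n⁻¹ ∈ (P : Subgroup G) := hn ⟨u, Subgroup.mem_zpowers _, rfl⟩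
  have hnup : (n * (u : G) * n⁻¹) ^ p = 1 := by
    rw [conj_pow, ← huo, pow_orderOf_eq_one]
    group
  have hnuE : n * u * n⁻¹ ∈ E := hmem _ hnu hnup
  have huE : (u : G) ∈ E := by
    rw [hN] at hnN
    exact (Subgroup.mem_normalizer_iff.1 hnN _).2 hnuE
  -- `u² ∈ T`
  have h1 : (u : G) * t * (u : G)⁻¹ ∈ T := (Subgroup.mem_normalizer_iff.1 huT t).1 htT'
  have h2 : (u : G) * t * (u : G)⁻¹ * t⁻¹ ∈ T := T.mul_mem h1 (T.inv_mem htT')
  have h3 : (u : G) * t * (u : G)⁻¹ * t⁻¹ = (u : G) ^ 2 := by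
    have := htinv _ (E.inv_mem huE)
    rw [inv_inv] at this
    have h4 : (u : G) * t * (u : G)⁻¹ * t⁻¹ = (u : G) * (t * (u : G)⁻¹ * t⁻¹) := by group
    rw [h4, this, pow_two]
  rw [h3] at h2
  obtain ⟨i, hi⟩ := hT2 ⟨(u : G) ^ 2, h2⟩
  have hi' : ((u : G) ^ 2) ^ (2 ^ i) = 1 := congrArg Subtype.val hi
  rw [← pow_mul, ← pow_succ'] at hi'
  have h5 : p ∣ 2 ^ (i + 1) := by
    rw [← huo]; exact orderOf_dvd_of_pow_eq_one hi'
  have h6 : p ∣ 2 := hp.out.dvd_of_dvd_pow h5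
  exact hp2 ((Nat.prime_dvd_prime_iff_eq hp.out Nat.prime_two).1 h6)

end Cfsg.Agent.Lead.ExtraPCube
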