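import Mathlib
import Cfsg.Agent.Lead.ExtraPCube3

set_option autoImplicit false

/-!
The centre of an extraspecial Sylow `p`-subgroup of order `p³` and exponent `p²` is strongly closed.
-/

namespace Cfsg.Agent.Lead.ExtraPCube

open Cfsg

variable {G : Type*} [Group G] [Finite G] {p : ℕ} [hp : Fact p.Prime]

theorem exists_inverting (E : Subgroup G) (hcomm : ∀ a ∈ E, ∀ b ∈ E, a * b = b * a)
    (hexp : ∀ a ∈ E, a ^ p = 1) (hcardE : Nat.card E = p ^ 2)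
    (y₀ : G) (hy₀N : y₀ ∈ Subgroup.normalizer (E : Set G)) (hy₀p : Cen E (y₀ ^ p))
    (hy₀c : ¬ Cen E y₀)
    (z : G) (hzE : z ∈ E) (hz1 : z ≠ 1) (hzy : y₀ * z * y₀⁻¹ = z)
    (h : G) (hh : h ∈ Subgroup.normalizer (E : Set G)) (hx : h * z * h⁻¹ ∉ Subgroup.zpowers z) :
    ∃ t₀ : G, Inv E t₀ := by
  have hEA : EssPSq.EA p ↥E :=
    ⟨fun a b => Subtype.ext (hcomm a a.2 b b.2), fun a => Subtype.ext (hexp a a.2), hcardE⟩
  obtain ⟨ν, hν⟩ : ∃ ν : Subgroup.normalizer (E : Set G) →* MulAut ↥E, ν = E.normalizerMonoidHom :=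
    ⟨_, rfl⟩
  have hνapp : ∀ (n : Subgroup.normalizer (E : Set G)) (v : ↥E),
      ((ν n v : ↥E) : G) = (n : G) * (v : G) * (n : G)⁻¹ := by
    intro n v
    rw [hν]; rfl
  obtain ⟨yn, hyn⟩ : ∃ yn : Subgroup.normalizer (E : Set G), (yn : G) = y₀ := ⟨⟨y₀, hy₀N⟩, rfl⟩
  obtain ⟨hn, hhn⟩ : ∃ hn : Subgroup.normalizer (E : Set G), (hn : G) = h := ⟨⟨h, hh⟩, rfl⟩
  obtain ⟨α, hα⟩ : ∃ α : MulAut ↥E, α = ν yn := ⟨_, rfl⟩
  obtain ⟨β, hβ⟩ : ∃ β : MulAut ↥E, β = ν hn * α * (ν hn)⁻¹ := ⟨_, rfl⟩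
  have hαp : α ^ p = 1 := by
    rw [hα, ← map_pow]
    ext v
    rw [hνapp, Subgroup.coe_pow, hyn, hy₀p _ v.2]
    rfl
  have hβp : β ^ p = 1 := by
    rw [hβ, conj_pow, hαp]
    group
  have hα1 : α ≠ 1 := by
    intro h1
    apply hy₀c
    intro v hv
    have := hνapp yn ⟨v, hv⟩
    rw [← hα, h1, hyn] at this
    exact this.symm
  have hαr : α ∈ ν.range := ⟨yn, hα.symm⟩
  have hβr : β ∈ ν.range := by
    rw [hβ, hα]
    exact ν.range.mul_mem (ν.range.mul_mem ⟨hn, rfl⟩ ⟨yn, rfl⟩) (ν.range.inv_mem ⟨hn, rfl⟩)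
  have hzx : (⟨z, hzE⟩ : ↥E) ≠ 1 := by
    intro h1
    exact hz1 (congrArg Subtype.val h1)
  have hxE : h * z * h⁻¹ ∈ E := (Subgroup.mem_normalizer_iff.1 hh z).1 hzE
  have hxz : (⟨h * z * h⁻¹, hxE⟩ : ↥E) ∉ Subgroup.zpowers (⟨z, hzE⟩ : ↥E) := by
    intro hmem
    obtain ⟨k, hk⟩ := Subgroup.mem_zpowers_iff.1 hmem
    apply hx
    rw [Subgroup.mem_zpowers_iff]
    refine ⟨k, ?_⟩
    have := congrArg Subtype.val hk
    simpa using this
  have hαz : α ⟨z, hzE⟩ = ⟨z, hzE⟩ := by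
    apply Subtype.ext
    rw [hα, hνapp, hyn]
    exact hzy
  have hβα : β ∉ Subgroup.zpowers α := by
    intro hmem
    obtain ⟨k, hk⟩ := Subgroup.mem_zpowers_iff.1 hmem
    have hβz : β ⟨z, hzE⟩ = ⟨z, hzE⟩ := by
      rw [← hk]
      have h1 : α ∈ MulAction.stabilizer (MulAut ↥E) (⟨z, hzE⟩ : ↥E) := by
        rw [MulAction.mem_stabilizer_iff, MulAut.smul_def]; exact hαz
      have h2 := Subgroup.zpow_mem _ h1 k
      rw [MulAction.mem_stabilizer_iff, MulAut.smul_def] at h2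
      exact h2
    have hβx : β ⟨h * z * h⁻¹, hxE⟩ = ⟨h * z * h⁻¹, hxE⟩ := by
      rw [hβ]
      apply Subtype.ext
      rw [MulAut.mul_apply, MulAut.mul_apply, hνapp, hα, hνapp, hhn, hyn]
      have h3 : (((ν hn)⁻¹ ⟨h * z * h⁻¹, hxE⟩ : ↥E) : G) = z := by
        have h4 : (ν hn)⁻¹ ⟨h * z * h⁻¹, hxE⟩ = ⟨z, hzE⟩ := by
          rw [MulAut.inv_apply, MulEquiv.symm_apply_eq]
          apply Subtype.ext
          rw [hνapp, hhn]
        rw [h4]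
      rw [h3, hzy]
    have hβ1 : β = 1 := by
      apply EssPSq.agree hEA hzx hxz
      · rw [hβz]; rfl
      · rw [hβx]; rfl
    apply hα1
    rw [hβ] at hβ1
    have : α = (ν hn)⁻¹ * (ν hn * α * (ν hn)⁻¹) * ν hn := by group
    rw [this, hβ1]
    group
  obtain ⟨τ, hτr, hτ⟩ := EssPSq.exists_inversion hEA ν.range α β hαr hβr hαp hβp hα1 hβα
  obtain ⟨tn, htn⟩ := hτr
  refine ⟨(tn : G), ?_⟩
  intro v hv
  have := hνapp tn ⟨v, hv⟩
  rw [htn, hτ] at this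
  exact this.symm

theorem exists_normalizing (P : Sylow p G) (E : Subgroup G) (hEP : E ≤ (P : Subgroup G))
    (hmem : ∀ x ∈ (P : Subgroup G), x ^ p = 1 → x ∈ E) (hexp : ∀ a ∈ E, a ^ p = 1)
    (hcomm : ∀ a ∈ E, ∀ b ∈ E, a * b = b * a)
    (z : G) (hzc : ∀ y ∈ (P : Subgroup G), y * z * y⁻¹ = z) (g : G) (hx : g * z * g⁻¹ ∈ E) :
    ∃ h : G, h ∈ Subgroup.normalizer (E : Set G) ∧ h * z * h⁻¹ = g * z * g⁻¹ := by
  obtain ⟨x, hxdef⟩ : ∃ x : G, x = g * z * g⁻¹ := ⟨_, rfl⟩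
  rw [← hxdef] at hx ⊢
  obtain ⟨M, hM⟩ : ∃ M : Subgroup G, M = Subgroup.centralizer {x} := ⟨_, rfl⟩
  obtain ⟨A, hA⟩ : ∃ A : Subgroup G, A = (P : Subgroup G).map (MulAut.conj g).toMonoidHom :=
    ⟨_, rfl⟩
  have hAM : A ≤ M := by
    rw [hA, hM]
    rintro _ ⟨y, hy, rfl⟩
    rw [Subgroup.mem_centralizer_singleton_iff]
    have h1 : y * z = z * y := by
      have := hzc y hy
      calc y * z = y * z * y⁻¹ * y := by group
        _ = z * y := by rw [this]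
    show (g * y * g⁻¹) * x = x * (g * y * g⁻¹)
    rw [hxdef]
    calc g * y * g⁻¹ * (g * z * g⁻¹) = g * (y * z) * g⁻¹ := by group
      _ = g * (z * y) * g⁻¹ := by rw [h1]
      _ = g * z * g⁻¹ * (g * y * g⁻¹) := by group
  have hEM : E ≤ M := by
    rw [hM]
    intro e he
    rw [Subgroup.mem_centralizer_singleton_iff]
    exact hcomm e he x hx
  have hAp : IsPGroup p A := by rw [hA]; exact P.2.map _
  have hAcard : Nat.card A = p ^ (Nat.card M).factorization p := by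
    apply Cfsg.Agent.Lead.card_eq_ppart_of_le hAM (le_top : M ≤ ⊤) hAp
    rw [Subgroup.card_top, hA, Cfsg.Agent.Lead.card_map_conj]
    exact P.card_eq_multiplicity
  obtain ⟨c, hcM, hc⟩ := Cfsg.Agent.Lead.exists_conj_le_of_card_eq_ppart hAM hAcard hEM
    (P.2.to_le hEP)
  have hcx : c * x = x * c := by
    rw [hM, Subgroup.mem_centralizer_singleton_iff] at hcM
    exact hcM
  refine ⟨c⁻¹ * g, ?_, ?_⟩
  · have hinv : (c⁻¹ * g)⁻¹ ∈ Subgroup.normalizer (E : Set G) := by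
      apply Cfsg.Agent.Lead.mem_normalizer_of_conj_mem_of_finite
      intro e he
      have h1 : c * e * c⁻¹ ∈ A := hc ⟨e, he, rfl⟩
      rw [hA] at h1
      obtain ⟨y, hy, hye⟩ := h1
      have hye' : g * y * g⁻¹ = c * e * c⁻¹ := hye
      have h2 : (c⁻¹ * g)⁻¹ * e * (c⁻¹ * g)⁻¹⁻¹ = y := by
        have : e = c⁻¹ * (c * e * c⁻¹) * c := by group
        rw [this, ← hye']
        group
      rw [h2]
      apply hmem y hy
      have h3 : y = g⁻¹ * (c * e * c⁻¹) * g := by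
        rw [← hye']; group
      rw [h3]
      have h4 : g⁻¹ * (c * e * c⁻¹) * g = (g⁻¹ * c) * e * (g⁻¹ * c)⁻¹ := by group
      rw [h4, conj_pow, hexp e he]
      group
    have := Subgroup.inv_mem _ hinv
    rwa [inv_inv] at this
  · have h1 : c⁻¹ * g * z * (c⁻¹ * g)⁻¹ = c⁻¹ * (g * z * g⁻¹) * c := by group
    rw [h1, ← hxdef]
    calc c⁻¹ * x * c = c⁻¹ * (x * c) := by group
      _ = c⁻¹ * (c * x) := by rw [hcx]
      _ = x := by group

end Cfsg.Agent.Lead.ExtraPCube
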