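import Mathlib
import Cfsg.Agent.Lead.ExtraPCube4

set_option autoImplicit false

/-!
The centre of an extraspecial Sylow `p`-subgroup of order `p³` and exponent `p²` is strongly closed.
-/

namespace Cfsg.Agent.Lead.ExtraPCube

open Cfsg

variable {G : Type*} [Group G] [Finite G] {p : ℕ} [hp : Fact p.Prime]

theorem main (hp2 : p ≠ 2) (P : Sylow p G) (hE : Cfsg.IsExtraspecial p ↥P)
    (hcard : Nat.card P = p ^ 3) (hexp : Monoid.exponent ↥P = p ^ 2) :
    Cfsg.IsStronglyClosed ((Subgroup.center ↥P).map (P : Subgroup G).subtype) (P : Subgroup G) := by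
  refine ⟨Subgroup.map_subtype_le _, ?_⟩
  obtain ⟨E, hEdef⟩ : ∃ E : Subgroup G, E = (om hp2 hE).map (P : Subgroup G).subtype := ⟨_, rfl⟩
  have hEP : E ≤ (P : Subgroup G) := by rw [hEdef]; exact Subgroup.map_subtype_le _
  have hmem : ∀ x ∈ (P : Subgroup G), x ^ p = 1 → x ∈ E := by
    intro x hx hxp
    rw [hEdef]
    refine ⟨⟨x, hx⟩, ?_, rfl⟩
    rw [SetLike.mem_coe, mem_om]
    exact Subtype.ext hxp
  have hexpE : ∀ a ∈ E, a ^ p = 1 := by
    intro a ha
    rw [hEdef] at ha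
    obtain ⟨w, hw, rfl⟩ := ha
    rw [SetLike.mem_coe, mem_om] at hw
    have := congrArg Subtype.val hw
    simpa using this
  have hcardE : Nat.card E = p ^ 2 := by
    rw [hEdef, Subgroup.card_map_of_injective (Subgroup.subtype_injective _)]
    exact card_om hp2 hE hcard hexp
  have hcommE : ∀ a ∈ E, ∀ b ∈ E, a * b = b * a := by
    intro a ha b hb
    have := IsPGroup.commutative_of_card_eq_prime_sq hcardE ⟨a, ha⟩ ⟨b, hb⟩
    exact congrArg Subtype.val this
  have hcent : ∀ y ∈ (P : Subgroup G), Cen E y → y ∈ E := by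
    intro y hy hc
    have h1 : (⟨y, hy⟩ : ↥P) ∈ om hp2 hE := by
      apply mem_om_of_centralizes hp2 hE hcard hexp
      intro v hv
      have hvE : (v : G) ∈ E := by rw [hEdef]; exact ⟨v, hv, rfl⟩
      have h2 := hc _ hvE
      apply Subtype.ext
      show y * (v : G) = (v : G) * y
      calc y * (v : G) = y * (v : G) * y⁻¹ * y := by group
        _ = (v : G) * y := by rw [h2]
    rw [hEdef]
    exact ⟨⟨y, hy⟩, h1, rfl⟩
  have hnorm : (P : Subgroup G) ≤ Subgroup.normalizer (E : Set G) := by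
    intro y hy
    apply Cfsg.Agent.Lead.mem_normalizer_of_conj_mem_of_finite
    intro e he
    apply hmem _ ((P : Subgroup G).mul_mem ((P : Subgroup G).mul_mem hy (hEP he))
      ((P : Subgroup G).inv_mem hy))
    rw [conj_pow, hexpE e he]
    group
  have hZE : (Subgroup.center ↥P).map (P : Subgroup G).subtype ≤ E := by
    rw [hEdef]
    exact Subgroup.map_mono (center_le_om hp2 hE)
  have hZc : ∀ w ∈ (Subgroup.center ↥P).map (P : Subgroup G).subtype,
      ∀ y ∈ (P : Subgroup G), y * w * y⁻¹ = w := by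
    rintro _ ⟨w, hw, rfl⟩ y hy
    have := Subgroup.mem_center_iff.1 hw ⟨y, hy⟩
    have h1 : y * (w : G) = (w : G) * y := congrArg Subtype.val this
    show y * (w : G) * y⁻¹ = (w : G)
    rw [h1]; group
  intro z hz g hxP
  by_contra hxZ
  have hz1 : z ≠ 1 := by
    rintro rfl
    apply hxZ
    have : g * 1 * g⁻¹ = 1 := by group
    rw [this]
    exact Subgroup.one_mem _
  have hzE : z ∈ E := hZE hz
  have hzp : z ^ p = 1 := hexpE z hzE
  have hzc := hZc z hz
  have hxE : g * z * g⁻¹ ∈ E := by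
    apply hmem _ hxP
    rw [conj_pow, hzp]; group
  obtain ⟨h, hhN, hhz⟩ := exists_normalizing P E hEP hmem hexpE hcommE z hzc g hxE
  have hxnz : h * z * h⁻¹ ∉ Subgroup.zpowers z := by
    rw [hhz]
    intro hmemz
    apply hxZ
    have : Subgroup.zpowers z ≤ (Subgroup.center ↥P).map (P : Subgroup G).subtype := by
      rw [Subgroup.zpowers_le]; exact hz
    exact this hmemz
  obtain ⟨y₀', hy₀'⟩ := exists_not_mem_om hp2 hE hcard hexp
  obtain ⟨y₀, hy₀P, hy₀eq⟩ : ∃ y₀ : G, ∃ hy : y₀ ∈ (P : Subgroup G), (⟨y₀, hy⟩ : ↥P) = y₀' :=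
    ⟨y₀'.1, y₀'.2, rfl⟩
  have hy₀E : y₀ ∉ E := by
    intro hcon
    rw [hEdef] at hcon
    obtain ⟨w, hw, hwy⟩ := hcon
    apply hy₀'
    have : w = y₀' := by
      rw [← hy₀eq]
      exact Subtype.ext hwy
    rw [← this]; exact hw
  have hy₀c : ¬ Cen E y₀ := fun hc => hy₀E (hcent y₀ hy₀P hc)
  have hy₀p : Cen E (y₀ ^ p) := by
    intro v hv
    have h1 : y₀ ^ p ∈ (Subgroup.center ↥P).map (P : Subgroup G).subtype := by
      refine ⟨⟨y₀, hy₀P⟩ ^ p, pow_mem_center hE _, ?_⟩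
      simp
    have h2 := hZc _ h1 v (hEP hv)
    calc y₀ ^ p * v * (y₀ ^ p)⁻¹ = (v * y₀ ^ p * v⁻¹) * v * (y₀ ^ p)⁻¹ := by rw [h2]
      _ = v := by group
  obtain ⟨t₀, ht₀⟩ := exists_inverting E hcommE hexpE hcardE y₀ (hnorm hy₀P) hy₀p hy₀c z hzE hz1
    (hzc y₀ hy₀P) h hhN hxnz
  exact no_inversion hp2 P E hEP hmem hcommE hcardE hcard hcent hnorm z hzE hz1 hzp hzc t₀ ht₀

end Cfsg.Agent.Lead.ExtraPCube
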