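import Mathlib
import Cfsg.Agent.Lead.ExtraspecialInner

set_option autoImplicit false

namespace Cfsg.Agent.Lead

/-- `S1756`. -/
theorem involution_mem_extraspecial_sup_centralizer {G : Type*} [Group G] [Finite G]
    (Q : Subgroup G) (hQ : Cfsg.IsExtraspecial 2 ↥Q) (t : G) (ht : orderOf t = 2)
    (htN : t ∈ Subgroup.normalizer (Q : Set G))
    (hi : (Subgroup.centralizer ({t} : Set G) ⊓ Q).relIndex Q ≤ 2) :
    t ∈ Q ⊔ Subgroup.centralizer (Q : Set G) := by
  haveI : Fact (Nat.Prime 2) := ⟨Nat.prime_two⟩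
  have ht2 : t * t = 1 := by
    have := pow_orderOf_eq_one t
    rw [ht, pow_two] at this
    exact this
  have htinv : t⁻¹ = t := inv_eq_of_mul_eq_one_right ht2
  apply mem_sup_centralizer_of_extraspecial Q hQ t
  -- conjugation by `t` preserves `Q`
  have hconj : ∀ q ∈ Q, t * q * t⁻¹ ∈ Q := fun q hq => (Subgroup.mem_normalizer_iff.mp htN q).mp hq
  -- the subgroup `Q₀ = C_Q(t)` inside `Q`
  set Q0 : Subgroup ↥Q := (Subgroup.centralizer ({t} : Set G) ⊓ Q).subgroupOf Q with hQ0
  have hmemQ0 : ∀ q : ↥Q, q ∈ Q0 ↔ t * (q : G) = q * t := by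
    intro q
    rw [hQ0, Subgroup.mem_subgroupOf, Subgroup.mem_inf, Subgroup.mem_centralizer_iff]
    constructor
    · intro h
      exact h.1 t rfl
    · intro h
      refine ⟨?_, q.2⟩
      rintro _ rfl
      exact h
  have hidx : Q0.index ≤ 2 := hi
  have hidx0 : Q0.index ≠ 0 := Subgroup.index_ne_zero_of_finite
  intro e he
  have hce : e⁻¹ * t * e * t⁻¹ ∈ Q := by
    have : e⁻¹ * t * e * t⁻¹ = e⁻¹ * (t * e * t⁻¹) := by group
    rw [this]
    exact Q.mul_mem (Q.inv_mem he) (hconj e he)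
  refine Subgroup.mem_inf.mpr ⟨hce, ?_⟩
  by_cases heQ0 : t * e = e * t
  · -- trivial multiplier
    have : e⁻¹ * t * e * t⁻¹ = 1 := by
      rw [mul_assoc e⁻¹, heQ0]
      group
    rw [this]
    exact Subgroup.one_mem _
  · have hne1 : Q0.index ≠ 1 := by
      intro h1
      rw [Subgroup.index_eq_one] at h1
      apply heQ0
      have : (⟨e, he⟩ : ↥Q) ∈ Q0 := by rw [h1]; exact Subgroup.mem_top _
      exact (hmemQ0 _).mp this
    have hidx2 : Q0.index = 2 := by omega
    -- facts about commuting with `t` inside `Q`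
    have hmul : ∀ a ∈ Q, ∀ b ∈ Q, (t * (a * b) = (a * b) * t ↔ (t * a = a * t ↔ t * b = b * t)) := by
      intro a ha b hb
      have := Subgroup.mul_mem_iff_of_index_two hidx2 (a := (⟨a, ha⟩ : ↥Q)) (b := ⟨b, hb⟩)
      rw [hmemQ0, hmemQ0, hmemQ0] at this
      exact this
    have hnorm : ∀ y ∈ Q, t * y = y * t → ∀ x ∈ Q, t * (x * y * x⁻¹) = (x * y * x⁻¹) * t := by
      intro y hy hyt x hx
      have hN : Q0.Normal := Subgroup.normal_of_index_eq_two hidx2
      have := hN.conj_mem ⟨y, hy⟩ ((hmemQ0 _).mpr hyt) ⟨x, hx⟩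
      exact (hmemQ0 _).mp this
    -- notation
    obtain ⟨c, hc⟩ : ∃ c : G, c = e⁻¹ * t * e * t⁻¹ := ⟨_, rfl⟩
    rw [← hc] at hce ⊢
    have hte : t * e * t⁻¹ = e * c := by rw [hc]; group
    have hteQ : t * e * t⁻¹ ∈ Q := hconj e he
    -- (i) `c` commutes with `t`
    have hte_not : ¬ (t * (t * e * t⁻¹) = (t * e * t⁻¹) * t) := by
      intro h
      apply heQ0
      have h1 := congrArg (fun z => t⁻¹ * z) h
      beta_reduce at h1
      have e1 : t⁻¹ * (t * (t * e * t⁻¹)) = t * e * t⁻¹ := by group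
      have e2 : t⁻¹ * ((t * e * t⁻¹) * t) = e := by group
      rw [e1, e2] at h1
      have h2 := congrArg (fun z => z * t) h1
      simpa using h2
    have heinv_not : ¬ (t * e⁻¹ = e⁻¹ * t) := by
      intro h
      apply heQ0
      have h1 := congrArg (fun z => e * z * e) h
      beta_reduce at h1
      have e1 : e * (t * e⁻¹) * e = e * t := by group
      have e2 : e * (e⁻¹ * t) * e = t * e := by group
      rw [e1, e2] at h1
      exact h1.symm
    have hct : t * c = c * t := by
      have hc' : c = e⁻¹ * (t * e * t⁻¹) := by rw [hc]; group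
      rw [hc']
      apply (hmul e⁻¹ (Q.inv_mem he) _ hteQ).mpr
      exact ⟨fun h => absurd h heinv_not, fun h => absurd h hte_not⟩
    -- (ii) `c` commutes with every `y ∈ Q₀`
    have hcy : ∀ y ∈ Q, t * y = y * t → c * y = y * c := by
      intro y hy hyt
      have h1 := hnorm y hy hyt e he
      -- `t (e y e⁻¹) t⁻¹ = e y e⁻¹`
      have h2 : t * (e * y * e⁻¹) * t⁻¹ = e * y * e⁻¹ := by
        rw [h1]; group
      have hty : t * y * t⁻¹ = y := by rw [hyt]; group
      have h3 : t * (e * y * e⁻¹) * t⁻¹ = (t * e * t⁻¹) * (t * y * t⁻¹) * (t * e * t⁻¹)⁻¹ := by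
        group
      rw [h3, hte, hty] at h2
      -- `e c y c⁻¹ e⁻¹ = e y e⁻¹`
      have h4 := congrArg (fun z => e⁻¹ * z * e * c) h2
      beta_reduce at h4
      have e1 : e⁻¹ * (e * c * y * (e * c)⁻¹) * e * c = c * y := by group
      have e2 : e⁻¹ * (e * y * e⁻¹) * e * c = y * c := by group
      rw [e1, e2] at h4
      exact h4
    -- (iii) `c² = 1` and `c` commutes with `e`
    have hc2 : c * c = 1 := by
      have h1 : t * (t * e * t⁻¹) * t⁻¹ = e := by
        rw [htinv]
        calc t * (t * e * t) * t = (t * t) * e * (t * t) := by group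
          _ = e := by rw [ht2]; group
      rw [hte] at h1
      have h2 : t * (e * c) * t⁻¹ = (t * e * t⁻¹) * (t * c * t⁻¹) := by group
      have htc : t * c * t⁻¹ = c := by rw [hct]; group
      rw [h2, hte, htc] at h1
      have h3 := congrArg (fun z => e⁻¹ * z) h1
      beta_reduce at h3
      have e1 : e⁻¹ * (e * c * c) = c * c := by group
      rw [e1, inv_mul_cancel] at h3
      exact h3
    have hcinv : c⁻¹ = c := inv_eq_of_mul_eq_one_right hc2
    have hee : t * (e * e) = (e * e) * t := by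
      apply (hmul e he e he).mpr
      exact Iff.rfl
    have hce' : c * e = e * c := by
      have h1 : t * (e * e) * t⁻¹ = e * e := by rw [hee]; group
      have h2 : t * (e * e) * t⁻¹ = (t * e * t⁻¹) * (t * e * t⁻¹) := by group
      rw [h2, hte] at h1
      -- `e c e c = e e`
      have h3 := congrArg (fun z => e⁻¹ * z * c⁻¹) h1
      beta_reduce at h3
      have e1 : e⁻¹ * (e * c * (e * c)) * c⁻¹ = c * e := by group
      have e2 : e⁻¹ * (e * e) * c⁻¹ = e * c⁻¹ := by group
      rw [e1, e2, hcinv] at h3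
      exact h3
    -- (iv) conclusion
    rw [Subgroup.mem_centralizer_iff]
    intro q hq
    by_cases hqt : t * q = q * t
    · exact (hcy q hq hqt).symm
    · -- `q = e * (e⁻¹ q)` with `e⁻¹ q ∈ Q₀`
      have hy : t * (e⁻¹ * q) = (e⁻¹ * q) * t := by
        apply (hmul e⁻¹ (Q.inv_mem he) q hq).mpr
        exact ⟨fun h => absurd h heinv_not, fun h => absurd h hqt⟩
      have h1 := hcy (e⁻¹ * q) (Q.mul_mem (Q.inv_mem he) hq) hy
      have hq' : q = e * (e⁻¹ * q) := by group
      rw [hq']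
      calc e * (e⁻¹ * q) * c = e * ((e⁻¹ * q) * c) := by group
        _ = e * (c * (e⁻¹ * q)) := by rw [h1]
        _ = (e * c) * (e⁻¹ * q) := by group
        _ = (c * e) * (e⁻¹ * q) := by rw [hce']
        _ = c * (e * (e⁻¹ * q)) := by group

end Cfsg.Agent.Lead
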