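import Mathlib
import Cfsg.Agent.Lead.FCDefs

/-!
Lead: S4291, uniqueness part, lemmas: Klein four-subgroups in normal subgroups of `V₄, A₄, S₄, A₅, S₅`;
cyclic or generalized quaternion groups have no elementary abelian quotient of order 8.
-/

set_option autoImplicit false
set_option linter.unusedSectionVars false
set_option linter.style.haveILetI false

namespace Cfsg.Agent.Lead.FC

open Equiv

/-- `B` contains two distinct commuting involutions -/
def HasK4 {X : Type*} [Group X] (B : Subgroup X) : Prop :=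
  ∃ a ∈ B, ∃ b ∈ B, a ≠ 1 ∧ b ≠ 1 ∧ a ≠ b ∧ a * a = 1 ∧ b * b = 1 ∧ a * b = b * a

/-- the element-level fact that produces a Klein four-group inside the normal closure of `g` -/
def K4From {X : Type*} [Group X] (g : X) : Prop :=
  ∃ h k : X, g⁻¹ * (h * g * h⁻¹) ≠ 1 ∧
    k * (g⁻¹ * (h * g * h⁻¹)) * k⁻¹ ≠ g⁻¹ * (h * g * h⁻¹) ∧
    (g⁻¹ * (h * g * h⁻¹)) * (g⁻¹ * (h * g * h⁻¹)) = 1 ∧
    (g⁻¹ * (h * g * h⁻¹)) * (k * (g⁻¹ * (h * g * h⁻¹)) * k⁻¹) =
      (k * (g⁻¹ * (h * g * h⁻¹)) * k⁻¹) * (g⁻¹ * (h * g * h⁻¹))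

theorem hasK4_of_K4From {X : Type*} [Group X] {B : Subgroup X} [hB : B.Normal] {g : X} (hg : g ∈ B)
    (h : K4From g) : HasK4 B := by
  obtain ⟨h, k, h1, h2, h3, h4⟩ := h
  have ha : g⁻¹ * (h * g * h⁻¹) ∈ B := B.mul_mem (B.inv_mem hg) (hB.conj_mem g hg h)
  have hb : k * (g⁻¹ * (h * g * h⁻¹)) * k⁻¹ ∈ B := hB.conj_mem _ ha k
  refine ⟨_, ha, _, hb, h1, ?_, fun e => h2 e.symm, h3, ?_, h4⟩
  · intro e
    apply h1
    have : g⁻¹ * (h * g * h⁻¹) = k⁻¹ * (k * (g⁻¹ * (h * g * h⁻¹)) * k⁻¹) * k := by group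
    rw [this, e]
    group
  · calc k * (g⁻¹ * (h * g * h⁻¹)) * k⁻¹ * (k * (g⁻¹ * (h * g * h⁻¹)) * k⁻¹)
        = k * ((g⁻¹ * (h * g * h⁻¹)) * (g⁻¹ * (h * g * h⁻¹))) * k⁻¹ := by group
      _ = 1 := by rw [h3]; group

instance (X : Type*) [Group X] [DecidableEq X] [Fintype X] (g : X) : Decidable (K4From g) := by
  unfold K4From; infer_instance

set_option maxRecDepth 100000 in
theorem k4From_alt4 : ∀ g : alternatingGroup (Fin 4), g ≠ 1 → K4From g := by decide

set_option maxRecDepth 100000 in
theorem k4From_perm4 : ∀ g : Perm (Fin 4), g ≠ 1 → K4From g := by decide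

theorem hasK4_alt4 (B : Subgroup (alternatingGroup (Fin 4))) [B.Normal] (hB : B ≠ ⊥) : HasK4 B := by
  obtain ⟨g, hg1⟩ := (Subgroup.ne_bot_iff_exists_ne_one).mp hB
  exact hasK4_of_K4From g.2 (k4From_alt4 g.1 (fun e => hg1 (Subtype.ext e)))

theorem hasK4_perm4 (B : Subgroup (Perm (Fin 4))) [B.Normal] (hB : B ≠ ⊥) : HasK4 B := by
  obtain ⟨g, hg1⟩ := (Subgroup.ne_bot_iff_exists_ne_one).mp hB
  exact hasK4_of_K4From g.2 (k4From_perm4 g.1 (fun e => hg1 (Subtype.ext e)))

/-! ### `A₅` and `S₅` -/

theorem k4_in_alt5 : ∃ a b : alternatingGroup (Fin 5), a ≠ 1 ∧ b ≠ 1 ∧ a ≠ b ∧ a * a = 1 ∧ b * b = 1 ∧ a * b = b * a := by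
  refine ⟨⟨swap 0 1 * swap 2 3, by rw [Equiv.Perm.mem_alternatingGroup]; decide⟩,
    ⟨swap 0 2 * swap 1 3, by rw [Equiv.Perm.mem_alternatingGroup]; decide⟩, ?_⟩
  decide

theorem hasK4_alt5 (B : Subgroup (alternatingGroup (Fin 5))) [hB : B.Normal] (hne : B ≠ ⊥) : HasK4 B := by
  haveI := alternatingGroup.isSimpleGroup (by rw [Nat.card_fin] : 5 ≤ Nat.card (Fin 5))
  rcases hB.eq_bot_or_eq_top with h | h
  · exact absurd h hne
  · obtain ⟨a, b, h1, h2, h3, h4, h5, h6⟩ := k4_in_alt5
    refine ⟨a, ?_, b, ?_, h1, h2, h3, h4, h5, h6⟩ <;> rw [h] <;> exact Subgroup.mem_top _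

set_option maxRecDepth 1000000 in
theorem center_perm5 : ∀ g : Perm (Fin 5), (∀ h : Perm (Fin 5), h * g = g * h) → g = 1 := by decide

theorem hasK4_perm5 (B : Subgroup (Perm (Fin 5))) [hB : B.Normal] (hne : B ≠ ⊥) : HasK4 B := by
  haveI := alternatingGroup.isSimpleGroup (by rw [Nat.card_fin] : 5 ≤ Nat.card (Fin 5))
  have hn : (B.subgroupOf (alternatingGroup (Fin 5))).Normal := hB.subgroupOf _
  rcases hn.eq_bot_or_eq_top with h | h
  · exfalso
    obtain ⟨g, hg1⟩ := (Subgroup.ne_bot_iff_exists_ne_one).mp hne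
    apply hg1
    apply Subtype.ext
    apply center_perm5
    intro k
    have hc : (g : Perm (Fin 5))⁻¹ * (k * g * k⁻¹) ∈ B := B.mul_mem (B.inv_mem g.2) (hB.conj_mem _ g.2 k)
    have hA : (g : Perm (Fin 5))⁻¹ * (k * g * k⁻¹) ∈ alternatingGroup (Fin 5) := by
      rw [Equiv.Perm.mem_alternatingGroup, map_mul, map_mul, map_mul, map_inv, map_inv]
      have : Perm.sign k * Perm.sign (g : Perm (Fin 5)) * (Perm.sign k)⁻¹ = Perm.sign (g : Perm (Fin 5)) := by
        rw [mul_comm (Perm.sign k), mul_assoc, mul_inv_cancel, mul_one]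
      rw [this, inv_mul_cancel]
    have h1 : (⟨_, hA⟩ : alternatingGroup (Fin 5)) ∈ B.subgroupOf (alternatingGroup (Fin 5)) :=
      Subgroup.mem_subgroupOf.mpr hc
    rw [h, Subgroup.mem_bot] at h1
    have h2 : (g : Perm (Fin 5))⁻¹ * (k * g * k⁻¹) = 1 := congrArg Subtype.val h1
    have h3 : k * (g : Perm (Fin 5)) * k⁻¹ = g := by
      have := congrArg (fun t => (g : Perm (Fin 5)) * t) h2
      simpa [mul_assoc] using this
    calc k * (g : Perm (Fin 5)) = k * g * k⁻¹ * k := by group
      _ = g * k := by rw [h3]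
  · obtain ⟨a, b, h1, h2, h3, h4, h5, h6⟩ := k4_in_alt5
    have ha : (a : Perm (Fin 5)) ∈ B := by
      have : a ∈ B.subgroupOf (alternatingGroup (Fin 5)) := by rw [h]; exact Subgroup.mem_top _
      exact Subgroup.mem_subgroupOf.mp this
    have hb : (b : Perm (Fin 5)) ∈ B := by
      have : b ∈ B.subgroupOf (alternatingGroup (Fin 5)) := by rw [h]; exact Subgroup.mem_top _
      exact Subgroup.mem_subgroupOf.mp this
    refine ⟨a, ha, b, hb, fun e => h1 (Subtype.ext e), fun e => h2 (Subtype.ext e),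
      fun e => h3 (Subtype.ext e), ?_, ?_, ?_⟩
    · exact congrArg Subtype.val h4
    · exact congrArg Subtype.val h5
    · exact congrArg Subtype.val h6

/-! ### `V₄ = DihedralGroup 2` -/

set_option maxRecDepth 100000 in
theorem d2_facts : ∀ a b : DihedralGroup 2, a * a = 1 ∧ a * b = b * a := by decide

theorem hasK4_or_card_dihedral (B : Subgroup (DihedralGroup 2)) (hne : B ≠ ⊥) :
    HasK4 B ∨ Nat.card B = 2 := by
  have h4 : Nat.card (DihedralGroup 2) = 4 := by rw [DihedralGroup.nat_card]
  have hdvd : Nat.card B ∣ 4 := by rw [← h4]; exact Subgroup.card_subgroup_dvd_card B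
  have hle : Nat.card B ≤ 4 := Nat.le_of_dvd (by norm_num) hdvd
  have hpos : 0 < Nat.card B := Nat.card_pos
  have h1 : Nat.card B ≠ 1 := fun h => hne ((Subgroup.card_eq_one).mp h)
  have h3 : Nat.card B ≠ 3 := by
    intro h; rw [h] at hdvd; omega
  have : Nat.card B = 2 ∨ Nat.card B = 4 := by omega
  rcases this with h | h
  · exact Or.inr h
  · left
    have htop : B = ⊤ := Subgroup.eq_top_of_card_eq B (h.trans h4.symm)
    refine ⟨DihedralGroup.r 1, ?_, DihedralGroup.sr 0, ?_, by decide, by decide, by decide,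
      (d2_facts (DihedralGroup.r 1) (DihedralGroup.sr 0)).1, (d2_facts (DihedralGroup.sr 0) (DihedralGroup.r 1)).1,
      (d2_facts (DihedralGroup.r 1) (DihedralGroup.sr 0)).2⟩ <;> rw [htop] <;> exact Subgroup.mem_top _

/-! ### two-generated 2-groups have no elementary abelian quotient of order 8 -/

theorem card_le_four_of_two_gen {E : Type*} [Group E] (hexp : ∀ e : E, e * e = 1) (x y : E)
    (hgen : Subgroup.closure {x, y} = ⊤) : Nat.card E ≤ 4 := by
  classical
  have hcomm : ∀ a b : E, a * b = b * a := by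
    intro a b
    have h1 := hexp (a * b)
    have ia : a⁻¹ = a := inv_eq_of_mul_eq_one_left (hexp a)
    have ib : b⁻¹ = b := inv_eq_of_mul_eq_one_left (hexp b)
    calc a * b = (a * b)⁻¹ := (inv_eq_of_mul_eq_one_left h1).symm
      _ = b⁻¹ * a⁻¹ := mul_inv_rev _ _
      _ = b * a := by rw [ia, ib]
  let W : Subgroup E :=
    { carrier := {e | e = 1 ∨ e = x ∨ e = y ∨ e = x * y}
      one_mem' := Or.inl rfl
      mul_mem' := by
        have hxx := hexp x
        have hyy := hexp y
        have hxy := hcomm x y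
        rintro a b (rfl | rfl | rfl | rfl) (rfl | rfl | rfl | rfl)
        · left; simp
        · right; left; simp
        · right; right; left; simp
        · right; right; right; simp
        · right; left; simp
        · left; exact hxx
        · right; right; right; rfl
        · right; right; left; rw [← mul_assoc, hxx, one_mul]
        · right; right; left; simp
        · right; right; right; exact hxy.symm
        · left; exact hyy
        · right; left; rw [← mul_assoc, ← hxy, mul_assoc, hyy, mul_one]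
        · right; right; right; simp
        · right; right; left; rw [hxy, mul_assoc, hxx, mul_one]
        · right; left; rw [mul_assoc, hyy, mul_one]
        · left; rw [hxy, mul_assoc, ← mul_assoc x y x, hxy, mul_assoc, hxx, mul_one, hyy]
      inv_mem' := by
        intro a ha
        have : a⁻¹ = a := inv_eq_of_mul_eq_one_left (hexp a)
        rw [Set.mem_ofPred_eq] at ha ⊢
        rw [this]; exact ha }
  have hW : W = ⊤ := by
    rw [eq_top_iff, ← hgen, Subgroup.closure_le]
    rintro e (rfl | rfl)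
    · exact Or.inr (Or.inl rfl)
    · exact Or.inr (Or.inr (Or.inl rfl))
  have hsub : (Set.univ : Set E) ⊆ (({1, x, y, x * y} : Finset E) : Set E) := by
    intro e _
    have : e ∈ W := by rw [hW]; exact Subgroup.mem_top _
    simp only [Finset.coe_insert, Finset.coe_singleton, Set.mem_insert_iff, Set.mem_singleton_iff]
    exact this
  have h1 : Nat.card E = (Set.univ : Set E).ncard := (Set.ncard_univ E).symm
  have h2 : (Set.univ : Set E).ncard ≤ (({1, x, y, x * y} : Finset E) : Set E).ncard :=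
    Set.ncard_le_ncard hsub (Finset.finite_toSet _)
  have h3 : (({1, x, y, x * y} : Finset E) : Set E).ncard ≤ 4 := by
    rw [Set.ncard_coe_finset]
    exact Finset.card_le_four
  omega

theorem quaternion_a_one_zpow (n : ℕ) (k : ℤ) :
    (QuaternionGroup.a 1 : QuaternionGroup n) ^ k = QuaternionGroup.a (k : ZMod (2 * n)) := by
  have hinv : (QuaternionGroup.a 1 : QuaternionGroup n)⁻¹ = QuaternionGroup.a (-1) := by
    apply inv_eq_of_mul_eq_one_right
    rw [QuaternionGroup.a_mul_a, add_neg_cancel]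
    rfl
  induction k using Int.induction_on with
  | zero => simp
  | succ k ih =>
    rw [zpow_add_one, ih, QuaternionGroup.a_mul_a]
    push_cast
    rfl
  | pred k ih =>
    rw [zpow_sub_one, ih, hinv, QuaternionGroup.a_mul_a]
    push_cast
    rw [sub_eq_add_neg]

theorem quaternion_closure (n : ℕ) :
    Subgroup.closure {(QuaternionGroup.a 1 : QuaternionGroup n), QuaternionGroup.xa 0} = ⊤ := by
  rw [eq_top_iff]
  intro g _
  have ha : ∀ i : ZMod (2 * n), (QuaternionGroup.a i : QuaternionGroup n) ∈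
      Subgroup.closure {(QuaternionGroup.a 1 : QuaternionGroup n), QuaternionGroup.xa 0} := by
    intro i
    have h1 : (QuaternionGroup.a 1 : QuaternionGroup n) ∈
        Subgroup.closure {(QuaternionGroup.a 1 : QuaternionGroup n), QuaternionGroup.xa 0} :=
      Subgroup.subset_closure (Or.inl rfl)
    have h2 : (QuaternionGroup.a i : QuaternionGroup n) = (QuaternionGroup.a 1) ^ (i.cast : ℤ) := by
      rw [quaternion_a_one_zpow, ZMod.intCast_cast, ZMod.cast_id', id]
    rw [h2]
    exact Subgroup.zpow_mem _ h1 _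
  cases g with
  | a i => exact ha i
  | xa i =>
    have h2 : (QuaternionGroup.xa i : QuaternionGroup n) = QuaternionGroup.xa 0 * QuaternionGroup.a i := by
      rw [QuaternionGroup.xa_mul_a, zero_add]
    rw [h2]
    exact Subgroup.mul_mem _ (Subgroup.subset_closure (Or.inr rfl)) (ha i)

/-- a cyclic or generalized quaternion group has no quotient of exponent 2 and order more than 4 -/
theorem card_quot_le_four {P E : Type*} [Group P] [Group E]
    (hP : IsCyclic P ∨ ∃ n : ℕ, Nonempty (P ≃* QuaternionGroup n)) (φ : P →* E)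
    (hφ : Function.Surjective φ) (hexp : ∀ e : E, e * e = 1) : Nat.card E ≤ 4 := by
  rcases hP with hc | ⟨n, ⟨e⟩⟩
  · obtain ⟨g, hg⟩ := hc.exists_generator
    apply card_le_four_of_two_gen hexp (φ g) 1
    rw [eq_top_iff]
    intro x _
    obtain ⟨y, rfl⟩ := hφ x
    obtain ⟨k, rfl⟩ := Subgroup.mem_zpowers_iff.mp (hg y)
    rw [map_zpow]
    exact Subgroup.zpow_mem _ (Subgroup.subset_closure (show φ g ∈ ({φ g, 1} : Set E) from Or.inl rfl)) _
  · apply card_le_four_of_two_gen hexp (φ (e.symm (QuaternionGroup.a 1))) (φ (e.symm (QuaternionGroup.xa 0)))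
    have h1 : Subgroup.closure {φ (e.symm (QuaternionGroup.a 1)), φ (e.symm (QuaternionGroup.xa 0))} =
        (Subgroup.closure {(QuaternionGroup.a 1 : QuaternionGroup n), QuaternionGroup.xa 0}).map
          (φ.comp e.symm.toMonoidHom) := by
      rw [MonoidHom.map_closure]
      congr 1
      ext t
      simp only [Set.mem_insert_iff, Set.mem_singleton_iff, Set.image_insert_eq, Set.image_singleton]
      rfl
    rw [h1, quaternion_closure, ← MonoidHom.range_eq_map, MonoidHom.range_eq_top]
    exact hφ.comp e.symm.surjective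

/-! ### a group with cyclic Sylow 2-subgroups has no quotient containing a Klein four-group in the image -/

/-- the four-group generated by two commuting involutions -/
def kleinSub {E : Type*} [Group E] (x y : E) (hxx : x * x = 1) (hyy : y * y = 1) (hxy : x * y = y * x) :
    Subgroup E where
  carrier := {e | e = 1 ∨ e = x ∨ e = y ∨ e = x * y}
  one_mem' := Or.inl rfl
  mul_mem' := by
    rintro a b (rfl | rfl | rfl | rfl) (rfl | rfl | rfl | rfl)
    · left; simp
    · right; left; simp
    · right; right; left; simp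
    · right; right; right; simp
    · right; left; simp
    · left; exact hxx
    · right; right; right; rfl
    · right; right; left; rw [← mul_assoc, hxx, one_mul]
    · right; right; left; simp
    · right; right; right; exact hxy.symm
    · left; exact hyy
    · right; left; rw [← mul_assoc, ← hxy, mul_assoc, hyy, mul_one]
    · right; right; right; simp
    · right; right; left; rw [hxy, mul_assoc, hxx, mul_one]
    · right; left; rw [mul_assoc, hyy, mul_one]
    · left; rw [hxy, mul_assoc, ← mul_assoc x y x, hxy, mul_assoc, hxx, mul_one, hyy]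
  inv_mem' := by
    rintro a (rfl | rfl | rfl | rfl)
    · left; simp
    · right; left; exact inv_eq_of_mul_eq_one_left hxx
    · right; right; left; exact inv_eq_of_mul_eq_one_left hyy
    · right; right; right
      apply inv_eq_of_mul_eq_one_left
      rw [hxy, mul_assoc, ← mul_assoc x y x, hxy, mul_assoc, hxx, mul_one, hyy]

theorem kleinSub_sq {E : Type*} [Group E] {x y : E} (hxx : x * x = 1) (hyy : y * y = 1) (hxy : x * y = y * x)
    {e : E} (he : e ∈ kleinSub x y hxx hyy hxy) : e * e = 1 := by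
  rcases he with rfl | rfl | rfl | rfl
  · simp
  · exact hxx
  · exact hyy
  · rw [hxy, mul_assoc, ← mul_assoc x y x, hxy, mul_assoc, hxx, mul_one, hyy]

theorem not_hasK4_map {G X : Type*} [Group G] [Finite G] [Group X] (N : Subgroup G)
    (hN : ∀ P : Sylow 2 N, IsCyclic P) (f : G →* X) : ¬ HasK4 (N.map f) := by
  classical
  haveI : Fact (Nat.Prime 2) := ⟨Nat.prime_two⟩
  rintro ⟨a, ha, b, hb, ha1, hb1, hab, haa, hbb, hcomm⟩
  -- the surjection `N → N.map f`
  let φ : N →* (N.map f) := (f.comp N.subtype).codRestrict (N.map f) (fun x => ⟨x, x.2, rfl⟩)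
  have hφ : Function.Surjective φ := by
    rintro ⟨_, ⟨x, hx, rfl⟩⟩
    exact ⟨⟨x, hx⟩, rfl⟩
  haveI : Finite (N.map f) := Finite.of_surjective φ hφ
  -- the Klein four-group inside `N.map f`
  let a' : N.map f := ⟨a, ha⟩
  let b' : N.map f := ⟨b, hb⟩
  have haa' : a' * a' = 1 := Subtype.ext haa
  have hbb' : b' * b' = 1 := Subtype.ext hbb
  have hcomm' : a' * b' = b' * a' := Subtype.ext hcomm
  have ha1' : a' ≠ 1 := fun e => ha1 (congrArg Subtype.val e)
  have hb1' : b' ≠ 1 := fun e => hb1 (congrArg Subtype.val e)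
  have hab' : a' ≠ b' := fun e => hab (congrArg Subtype.val e)
  have hV : IsPGroup 2 (kleinSub a' b' haa' hbb' hcomm') := by
    rintro ⟨v, hv⟩
    refine ⟨1, Subtype.ext ?_⟩
    show v ^ 2 ^ 1 = 1
    rw [pow_one, pow_two]
    exact kleinSub_sq haa' hbb' hcomm' hv
  obtain ⟨Q', hQ'⟩ := hV.exists_le_sylow
  obtain ⟨P, hP⟩ := Sylow.mapSurjective_surjective hφ 2 Q'
  have hcoe : (Q' : Subgroup (N.map f)) = (P : Subgroup N).map φ := by
    rw [← hP]; rfl
  haveI : IsCyclic (P : Subgroup N) := hN P
  haveI : IsCyclic ((P : Subgroup N).map φ) :=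
    isCyclic_of_surjective (φ.subgroupMap (P : Subgroup N)) (φ.subgroupMap_surjective _)
  have haQ : a' ∈ (P : Subgroup N).map φ := by
    rw [← hcoe]; exact hQ' (Or.inr (Or.inl rfl))
  have hbQ : b' ∈ (P : Subgroup N).map φ := by
    rw [← hcoe]; exact hQ' (Or.inr (Or.inr (Or.inl rfl)))
  haveI : Fintype ((P : Subgroup N).map φ) := Fintype.ofFinite _
  have hle := IsCyclic.card_pow_eq_one_le (α := (P : Subgroup N).map φ) (n := 2) (by norm_num)
  have hsub : ({1, ⟨a', haQ⟩, ⟨b', hbQ⟩} : Finset ((P : Subgroup N).map φ)) ⊆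
      Finset.univ.filter (fun x : (P : Subgroup N).map φ => x ^ 2 = 1) := by
    intro x hx
    simp only [Finset.mem_insert, Finset.mem_singleton] at hx
    rw [Finset.mem_filter]
    refine ⟨Finset.mem_univ _, ?_⟩
    rcases hx with rfl | rfl | rfl
    · simp
    · apply Subtype.ext; rw [pow_two]; exact haa'
    · apply Subtype.ext; rw [pow_two]; exact hbb'
  have hcard : ({1, ⟨a', haQ⟩, ⟨b', hbQ⟩} : Finset ((P : Subgroup N).map φ)).card = 3 := by
    rw [Finset.card_insert_of_notMem, Finset.card_insert_of_notMem, Finset.card_singleton]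
    · rw [Finset.mem_singleton]
      intro e
      exact hab' (congrArg Subtype.val e)
    · simp only [Finset.mem_insert, Finset.mem_singleton, not_or]
      refine ⟨fun e => ha1' (congrArg Subtype.val e).symm, fun e => hb1' (congrArg Subtype.val e).symm⟩
  have := Finset.card_le_card hsub
  omega

end Cfsg.Agent.Lead.FC
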