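import Mathlib
import Cfsg.Agent.Lead.FCUA

/-!
Lead: S4291, the uniqueness part `good_unique` and the trivial case `good_top`.
-/

set_option autoImplicit false
set_option linter.unusedSectionVars false
set_option linter.style.haveILetI false

namespace Cfsg.Agent.Lead.FC

open Equiv

variable {G : Type*} [Group G] [Finite G]

theorem card_alt4_ge : 4 ≤ Nat.card (alternatingGroup (Fin 4)) := by
  have h := two_mul_card_alternatingGroup (α := Fin 4)
  rw [Nat.card_eq_fintype_card]
  rw [Fintype.card_perm, Fintype.card_fin] at h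
  have : (4 : ℕ).factorial = 24 := rfl
  omega

theorem card_alt5_ge : 4 ≤ Nat.card (alternatingGroup (Fin 5)) := by
  have h := two_mul_card_alternatingGroup (α := Fin 5)
  rw [Nat.card_eq_fintype_card]
  rw [Fintype.card_perm, Fintype.card_fin] at h
  have : (5 : ℕ).factorial = 120 := rfl
  omega

theorem card_perm4_ge : 4 ≤ Nat.card (Perm (Fin 4)) := by
  rw [Nat.card_eq_fintype_card, Fintype.card_perm, Fintype.card_fin]
  decide

theorem card_perm5_ge : 4 ≤ Nat.card (Perm (Fin 5)) := by
  rw [Nat.card_eq_fintype_card, Fintype.card_perm, Fintype.card_fin]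
  decide

theorem index_of_surjective {X : Type*} [Group X] (f : G →* X) (hf : Function.Surjective f) :
    f.ker.index = Nat.card X := by
  rw [Subgroup.index_ker, MonoidHom.range_eq_top.mpr hf]
  exact Nat.card_congr (Subgroup.topEquiv (G := X)).toEquiv

theorem index_of_good {N : Subgroup G} (h : Good N) : N.index = 1 ∨ 4 ≤ N.index := by
  rcases h.2.2 with h | ⟨f, hf, rfl⟩ | ⟨f, hf, rfl⟩ | ⟨f, hf, rfl⟩ | ⟨f, hf, rfl⟩ | ⟨f, hf, rfl⟩
  · left; rw [h]; exact Subgroup.index_top
  · right; rw [index_of_surjective f hf, DihedralGroup.nat_card]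
  · right; rw [index_of_surjective f hf]; exact card_alt4_ge
  · right; rw [index_of_surjective f hf]; exact card_perm4_ge
  · right; rw [index_of_surjective f hf]; exact card_alt5_ge
  · right; rw [index_of_surjective f hf]; exact card_perm5_ge

/-- the exceptional configuration: `G / N ≃ V₄` and the image of `N'` has order 2 -/
def Exc (N' N : Subgroup G) : Prop :=
  ∃ f : G →* DihedralGroup 2, Function.Surjective f ∧ f.ker = N ∧ Nat.card (N'.map f) = 2

theorem le_or_exc {N₁ N₂ : Subgroup G} (h₁ : Good N₁) (h₂ : Good N₂) : N₁ ≤ N₂ ∨ Exc N₁ N₂ := by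
  haveI : Fact (Nat.Prime 2) := ⟨Nat.prime_two⟩
  haveI := h₁.1
  have hno : ∀ {X : Type} [Group X] (f : G →* X), ¬ HasK4 (N₁.map f) :=
    fun f => not_hasK4_map N₁ (fun P => h₁.2.1 2 P) f
  have hker : ∀ {X : Type} [Group X] (f : G →* X), N₁.map f = ⊥ → N₁ ≤ f.ker := by
    intro X _ f h x hx
    rw [MonoidHom.mem_ker]
    have : f x ∈ N₁.map f := ⟨x, hx, rfl⟩
    rw [h, Subgroup.mem_bot] at this
    exact this
  rcases h₂.2.2 with h | ⟨f, hf, rfl⟩ | ⟨f, hf, rfl⟩ | ⟨f, hf, rfl⟩ | ⟨f, hf, rfl⟩ | ⟨f, hf, rfl⟩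
  · left; rw [h]; exact le_top
  · by_cases hB : N₁.map f = ⊥
    · exact Or.inl (hker f hB)
    · rcases hasK4_or_card_dihedral _ hB with hk | hc
      · exact absurd hk (hno f)
      · exact Or.inr ⟨f, hf, rfl, hc⟩
  · by_cases hB : N₁.map f = ⊥
    · exact Or.inl (hker f hB)
    · haveI : (N₁.map f).Normal := Subgroup.Normal.map inferInstance f hf
      exact absurd (hasK4_alt4 _ hB) (hno f)
  · by_cases hB : N₁.map f = ⊥
    · exact Or.inl (hker f hB)
    · haveI : (N₁.map f).Normal := Subgroup.Normal.map inferInstance f hf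
      exact absurd (hasK4_perm4 _ hB) (hno f)
  · by_cases hB : N₁.map f = ⊥
    · exact Or.inl (hker f hB)
    · haveI : (N₁.map f).Normal := Subgroup.Normal.map inferInstance f hf
      exact absurd (hasK4_alt5 _ hB) (hno f)
  · by_cases hB : N₁.map f = ⊥
    · exact Or.inl (hker f hB)
    · haveI : (N₁.map f).Normal := Subgroup.Normal.map inferInstance f hf
      exact absurd (hasK4_perm5 _ hB) (hno f)

/-- the mixed case is impossible -/
theorem not_le_of_exc {N₁ N₂ : Subgroup G} (h₂ : Good N₂) (h12 : N₁ ≤ N₂) (e : Exc N₂ N₁) : False := by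
  obtain ⟨f, hf, hk, hc⟩ := e
  have h1 := Subgroup.index_map N₂ f
  rw [hk, sup_eq_left.mpr h12, MonoidHom.range_eq_top.mpr hf, Subgroup.index_top, mul_one] at h1
  have h2 := (N₂.map f).card_mul_index
  rw [hc, DihedralGroup.nat_card, h1] at h2
  rcases index_of_good h₂ with h | h <;> omega

theorem good_unique (hQ : SylQ G) {N₁ N₂ : Subgroup G} (h₁ : Good N₁) (h₂ : Good N₂) : N₁ = N₂ := by
  haveI : Fact (Nat.Prime 2) := ⟨Nat.prime_two⟩
  rcases le_or_exc h₁ h₂ with h12 | e12
  · rcases le_or_exc h₂ h₁ with h21 | e21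
    · exact le_antisymm h12 h21
    · exact (not_le_of_exc h₂ h12 e21).elim
  · rcases le_or_exc h₂ h₁ with h21 | e21
    · exact (not_le_of_exc h₁ h21 e12).elim
    · exfalso
      obtain ⟨f₂, hf₂, hk₂, hc₂⟩ := e12
      obtain ⟨f₁, hf₁, hk₁, -⟩ := e21
      -- the map into `V₄ × V₄`
      let f : G →* DihedralGroup 2 × DihedralGroup 2 := f₁.prod f₂
      have hker : f.ker = N₁ ⊓ N₂ := by
        rw [MonoidHom.ker_prod, hk₁, hk₂]
      have hexp : ∀ e : f.range, e * e = 1 := by
        rintro ⟨⟨x, y⟩, _⟩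
        apply Subtype.ext
        exact Prod.ext (d2_facts x x).1 (d2_facts y y).1
      have hcard : Nat.card f.range = 8 := by
        rw [← Subgroup.index_ker, hker]
        have h1 := Subgroup.relIndex_mul_index (inf_le_left : N₁ ⊓ N₂ ≤ N₁)
        have h2 : (N₁ ⊓ N₂).relIndex N₁ = 2 := by
          rw [inf_comm, Subgroup.inf_relIndex_right, ← hk₂, Subgroup.relIndex_ker, hc₂]
        have h3 : N₁.index = 4 := by
          rw [← hk₁, index_of_surjective f₁ hf₁, DihedralGroup.nat_card]
        rw [h2, h3] at h1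
        omega
      -- a Sylow 2-subgroup of `G` maps onto `f.range`
      let S : Sylow 2 G := default
      let f' : G →* f.range := f.rangeRestrict
      have hf' : Function.Surjective f' := f.rangeRestrict_surjective
      haveI : Finite f.range := Finite.of_surjective f' hf'
      have hidx : ¬ 2 ∣ ((S.mapSurjective hf' : Sylow 2 f.range) : Subgroup f.range).index :=
        Sylow.not_dvd_index _
      have hdvd : ((S.mapSurjective hf' : Sylow 2 f.range) : Subgroup f.range).index ∣ 8 := by
        rw [← hcard]; exact Subgroup.index_dvd_card _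
      have hidx1 : ((S.mapSurjective hf' : Sylow 2 f.range) : Subgroup f.range).index = 1 := by
        have hle : ((S.mapSurjective hf' : Sylow 2 f.range) : Subgroup f.range).index ≤ 8 :=
          Nat.le_of_dvd (by norm_num) hdvd
        interval_cases hi : ((S.mapSurjective hf' : Sylow 2 f.range) : Subgroup f.range).index <;>
          first | rfl | (exfalso; revert hidx hdvd; decide)
      have htop : (S : Subgroup G).map f' = ⊤ := by
        have := Subgroup.index_eq_one.mp hidx1
        rwa [Sylow.coe_mapSurjective] at this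
      let ψ : ↥(S : Subgroup G) →* f.range := f'.comp (S : Subgroup G).subtype
      have hψ : Function.Surjective ψ := by
        intro e
        have : e ∈ (S : Subgroup G).map f' := by rw [htop]; exact Subgroup.mem_top _
        obtain ⟨x, hx, rfl⟩ := this
        exact ⟨⟨x, hx⟩, rfl⟩
      have hS : IsCyclic ↥(S : Subgroup G) ∨ ∃ n : ℕ, Nonempty (↥(S : Subgroup G) ≃* QuaternionGroup n) := by
        rcases hQ 2 S with h | ⟨n, h⟩
        · exact Or.inl h
        · exact Or.inr ⟨2 ^ n, h⟩
      have := card_quot_le_four hS ψ hψ hexp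
      omega

/-- FC-I -/
theorem good_top (h : ∀ (p : ℕ) [Fact p.Prime] (P : Sylow p G), IsCyclic P) : Good (⊤ : Subgroup G) := by
  refine ⟨inferInstance, ?_, Or.inl rfl⟩
  intro p _ P
  -- transport along `⊤ ≃* G`
  let e : (⊤ : Subgroup G) ≃* G := Subgroup.topEquiv
  let P' : Sylow p G := P.mapSurjective (f := e.toMonoidHom) e.surjective
  haveI : IsCyclic ((P : Subgroup (⊤ : Subgroup G)).map e.toMonoidHom) := h p P'
  have hinj : Function.Injective (e.toMonoidHom.subgroupMap (P : Subgroup (⊤ : Subgroup G))) := by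
    intro x y hxy
    have h1 := congrArg (fun t : ↥((P : Subgroup (⊤ : Subgroup G)).map e.toMonoidHom) => (t : G)) hxy
    have h2 : e.toMonoidHom (x : (⊤ : Subgroup G)) = e.toMonoidHom (y : (⊤ : Subgroup G)) := h1
    exact Subtype.ext (e.injective h2)
  exact isCyclic_of_injective (e.toMonoidHom.subgroupMap (P : Subgroup (⊤ : Subgroup G))) hinj

end Cfsg.Agent.Lead.FC
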