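import Mathlib
import Cfsg.Prelude.Def_GeometricClasses

namespace Cfsg.Agent.Lead.FieldSub
open Cfsg.Geo Matrix

variable {F : Type*} [Field F] {n : ℕ}

theorem isField_of {r : ℕ} (hn : 0 < n) {L : Subalgebra F (Matrix (Fin n) (Fin n) F)}
    (hL : IsFieldSubalgebra r L) : IsField ↥L where
  exists_pair_ne := by
    haveI : Nonempty (Fin n) := ⟨⟨0, hn⟩⟩
    exact ⟨0, 1, fun h => by
      have := congrArg Subtype.val h
      simp at this⟩
  mul_comm := fun x y => Subtype.ext (hL.comm x x.2 y y.2)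
  mul_inv_cancel := fun {a} ha => by
    obtain ⟨y, hy, h⟩ := hL.inv a a.2 (fun h0 => ha (Subtype.ext h0))
    exact ⟨⟨y, hy⟩, Subtype.ext h⟩

/-- The ring hom from a subalgebra of matrices to endomorphisms. -/
noncomputable def rho (L : Subalgebra F (Matrix (Fin n) (Fin n) F)) : ↥L →+* Module.End F (Fin n → F) :=
  ((Matrix.toLinAlgEquiv' : Matrix (Fin n) (Fin n) F ≃ₐ[F] Module.End F (Fin n → F)).toAlgHom.comp L.val).toRingHom

theorem rho_apply (L : Subalgebra F (Matrix (Fin n) (Fin n) F)) (k : L) (v : Fin n → F) :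
    rho L k v = (k : Matrix (Fin n) (Fin n) F) *ᵥ v := by
  simp [rho, Matrix.toLinAlgEquiv'_apply]

/-- Existence of an `L`-linear functional, in matrix terms. -/
theorem exists_functional {s r : ℕ} (L E : Subalgebra F (Matrix (Fin n) (Fin n) F))
    (hL : IsFieldSubalgebra s L) (hE : IsFieldSubalgebra r E) (hLE : L ≤ E)
    (b : Matrix (Fin n) (Fin n) F) (hbE : b ∈ E) (hbL : b ∉ L) (hn : 0 < n) :
    ∃ (u : Fin n → F) (φ : (Fin n → F) → Matrix (Fin n) (Fin n) F),
      u ≠ 0 ∧ (∀ x, φ x ∈ L) ∧ (∀ x y, φ (x + y) = φ x + φ y) ∧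
      (∀ k ∈ L, ∀ x, φ (k *ᵥ x) = k * φ x) ∧ φ u = 0 ∧ φ (b *ᵥ u) ≠ 0 := by
  letI fld : Field ↥L := (isField_of hn hL).toField
  letI mod : Module ↥L (Fin n → F) := Module.compHom (Fin n → F) (rho L)
  have smul_def : ∀ (k : L) (v : Fin n → F), k • v = (k : Matrix (Fin n) (Fin n) F) *ᵥ v :=
    fun k v => rho_apply L k v
  let u : Fin n → F := Pi.single ⟨0, hn⟩ 1
  have hu : u ≠ 0 := by
    intro h
    have := congrFun h ⟨0, hn⟩
    simp [u] at this
  have hw : b *ᵥ u ∉ Submodule.span ↥L {u} := by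
    intro h
    obtain ⟨k, hk⟩ := Submodule.mem_span_singleton.mp h
    have hk' : (k : Matrix (Fin n) (Fin n) F) *ᵥ u = b *ᵥ u := (smul_def k u).symm.trans hk
    have hbk : b - (k : Matrix (Fin n) (Fin n) F) ≠ 0 := by
      intro h0
      apply hbL
      rw [sub_eq_zero.mp h0]; exact k.2
    obtain ⟨y, hyE, hy⟩ := hE.inv _ (E.sub_mem hbE (hLE k.2)) hbk
    have h1 : (b - (k : Matrix (Fin n) (Fin n) F)) *ᵥ u = 0 := by
      rw [Matrix.sub_mulVec, hk', sub_self]
    have h2 : (y * (b - (k : Matrix (Fin n) (Fin n) F))) *ᵥ u = 0 := by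
      rw [← Matrix.mulVec_mulVec, h1, Matrix.mulVec_zero]
    have h3 : y * (b - (k : Matrix (Fin n) (Fin n) F)) = 1 := by
      have hc := hE.comm _ (E.sub_mem hbE (hLE k.2)) y hyE
      rw [← hc]; exact hy
    rw [h3, Matrix.one_mulVec] at h2
    exact hu h2
  obtain ⟨Φ, hΦw, hΦp⟩ := Submodule.exists_le_ker_of_notMem hw
  have hΦu : Φ u = 0 := hΦp (Submodule.mem_span_singleton_self u)
  refine ⟨u, fun x => ((Φ x : L) : Matrix (Fin n) (Fin n) F), hu,
    fun x => (Φ x).2, ?_, ?_, ?_, ?_⟩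
  · intro x y
    have : Φ (x + y) = Φ x + Φ y := map_add Φ x y
    have h2 := congrArg Subtype.val this
    simpa using h2
  · intro k hk x
    have h1 : Φ ((⟨k, hk⟩ : L) • x) = (⟨k, hk⟩ : L) • Φ x := Φ.map_smul _ _
    have h0 : (⟨k, hk⟩ : L) • x = k *ᵥ x := smul_def _ _
    rw [h0] at h1
    have h2 := congrArg Subtype.val h1
    simpa using h2
  · simp [hΦu]
  · intro h; apply hΦw; exact Subtype.ext h


/-- The transvection lemma: an element of determinant one centralizing `L` but not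
normalizing `E`. -/
theorem lemmaT [Fintype F] {s r : ℕ} (L E : Subalgebra F (Matrix (Fin n) (Fin n) F))
    (hL : IsFieldSubalgebra s L) (hE : IsFieldSubalgebra r E) (hLE : L ≤ E)
    (b : Matrix (Fin n) (Fin n) F) (hbE : b ∈ E) (hbL : b ∉ L) (hs : 2 * s < n) :
    ∃ g : GL (Fin n) F, Matrix.GeneralLinearGroup.det g = 1 ∧
      (∀ k ∈ L, (g : Matrix (Fin n) (Fin n) F) * k = k * g) ∧ g ∉ subalgebraNormalizer E := by
  have hn : 0 < n := by omega
  haveI : Nonempty (Fin n) := ⟨⟨0, hn⟩⟩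
  obtain ⟨u, φ, hu, hφL, hφadd, hφlin, hφu, hφw⟩ := exists_functional L E hL hE hLE b hbE hbL hn
  have hφsmul : ∀ (c : F) x, φ (c • x) = c • φ x := by
    intro c x
    have h1 := hφlin (c • (1 : Matrix (Fin n) (Fin n) F)) (L.smul_mem L.one_mem c) x
    rw [Matrix.smul_mulVec, Matrix.one_mulVec] at h1
    rw [h1, smul_mul_assoc, one_mul]
  let N : (Fin n → F) →ₗ[F] (Fin n → F) :=
    { toFun := fun x => φ x *ᵥ u
      map_add' := fun x y => by rw [hφadd, Matrix.add_mulVec]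
      map_smul' := fun c x => by
        simp only [RingHom.id_apply]
        rw [hφsmul, Matrix.smul_mulVec] }
  set Nm := LinearMap.toMatrix' N with hNmdef
  have hNm : ∀ x, Nm *ᵥ x = φ x *ᵥ u := by
    intro x
    rw [hNmdef, ← Matrix.toLin'_apply, Matrix.toLin'_toMatrix']
    rfl
  have ext_mulVec : ∀ A B : Matrix (Fin n) (Fin n) F, (∀ v, A *ᵥ v = B *ᵥ v) → A = B := by
    intro A B h
    apply Matrix.toLin'.injective
    apply LinearMap.ext
    intro v
    simp only [Matrix.toLin'_apply]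
    exact h v
  have hNu : Nm *ᵥ u = 0 := by rw [hNm, hφu, Matrix.zero_mulVec]
  have hsq : Nm * Nm = 0 := by
    apply ext_mulVec
    intro x
    rw [← Matrix.mulVec_mulVec, hNm x, hNm, hφlin _ (hφL x), hφu, mul_zero,
      Matrix.zero_mulVec, Matrix.zero_mulVec]
  have hcomm : ∀ k ∈ L, Nm * k = k * Nm := by
    intro k hk
    apply ext_mulVec
    intro x
    rw [← Matrix.mulVec_mulVec, ← Matrix.mulVec_mulVec, hNm, hNm, hφlin k hk,
      Matrix.mulVec_mulVec]
  have hginv : (1 + Nm) * (1 - Nm) = 1 := by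
    have : (1 + Nm) * (1 - Nm) = 1 - Nm * Nm := by noncomm_ring
    rw [this, hsq, sub_zero]
  have hginv' : (1 - Nm) * (1 + Nm) = 1 := by
    have : (1 - Nm) * (1 + Nm) = 1 - Nm * Nm := by noncomm_ring
    rw [this, hsq, sub_zero]
  let g : GL (Fin n) F := ⟨1 + Nm, 1 - Nm, hginv, hginv'⟩
  have hgval : (g : Matrix (Fin n) (Fin n) F) = 1 + Nm := rfl
  have hgival : ((g⁻¹ : GL (Fin n) F) : Matrix (Fin n) (Fin n) F) = 1 - Nm := rfl
  refine ⟨g, ?_, ?_, ?_⟩
  · -- determinant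
    obtain ⟨p, hp⟩ := CharP.exists F
    haveI := hp
    haveI hpp : Fact p.Prime := ⟨CharP.char_is_prime F p⟩
    have hpow : (1 + Nm) ^ p = 1 := by
      rw [add_pow_char_of_commute _ (Commute.one_left Nm), one_pow]
      have h2 : 2 ≤ p := hpp.out.two_le
      obtain ⟨j, rfl⟩ : ∃ j, p = 2 + j := ⟨p - 2, by omega⟩
      rw [pow_add, pow_two, hsq, zero_mul, add_zero]
    have hdet : ((1 + Nm).det) ^ p = 1 := by rw [← Matrix.det_pow, hpow, Matrix.det_one]
    have h1 : (1 + Nm).det = 1 := by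
      apply frobenius_inj F p
      rw [frobenius_def, frobenius_def, hdet, one_pow]
    apply Units.ext
    simpa [Matrix.GeneralLinearGroup.val_det_apply, hgval] using h1
  · intro k hk
    rw [hgval, add_mul, mul_add, one_mul, mul_one, hcomm k hk]
  · intro hg
    have h1 : (g : Matrix (Fin n) (Fin n) F) * b * ((g⁻¹ : GL (Fin n) F) : Matrix (Fin n) (Fin n) F) ∈ E :=
      (hg b).mp hbE
    rw [hgval, hgival] at h1
    have hM : (1 + Nm) * b * (1 - Nm) - b = Nm * b - b * Nm - Nm * b * Nm := by noncomm_ring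
    have hME : Nm * b - b * Nm - Nm * b * Nm ∈ E := by
      rw [← hM]; exact E.sub_mem h1 hbE
    set M := Nm * b - b * Nm - Nm * b * Nm with hMdef
    -- M u ≠ 0
    have hMu : M *ᵥ u = φ (b *ᵥ u) *ᵥ u := by
      rw [hMdef, Matrix.sub_mulVec, Matrix.sub_mulVec, ← Matrix.mulVec_mulVec, ← Matrix.mulVec_mulVec,
        ← Matrix.mulVec_mulVec, ← Matrix.mulVec_mulVec, hNu, Matrix.mulVec_zero, Matrix.mulVec_zero,
        hNm, sub_zero, sub_zero]
    have hMne : M ≠ 0 := by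
      intro h0
      rw [h0, Matrix.zero_mulVec] at hMu
      obtain ⟨y, hyE, hy⟩ := hE.inv _ (hLE (hφL (b *ᵥ u))) hφw
      have hc := hE.comm _ (hLE (hφL (b *ᵥ u))) y hyE
      have h2 : (y * φ (b *ᵥ u)) *ᵥ u = 0 := by
        rw [← Matrix.mulVec_mulVec, ← hMu, Matrix.mulVec_zero]
      rw [← hc, hy, Matrix.one_mulVec] at h2
      exact hu h2
    obtain ⟨y, hyE, hy⟩ := hE.inv M hME hMne
    -- the map T
    let T : (↥L × ↥L) →ₗ[F] (Fin n → F) :=
      { toFun := fun kk => (kk.1 : Matrix (Fin n) (Fin n) F) *ᵥ u +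
          (kk.2 : Matrix (Fin n) (Fin n) F) *ᵥ (b *ᵥ u)
        map_add' := fun a c => by
          simp only [Prod.fst_add, Prod.snd_add, Subalgebra.coe_add, Matrix.add_mulVec]
          abel
        map_smul' := fun c a => by
          simp only [Prod.smul_fst, Prod.smul_snd, Subalgebra.coe_smul, Matrix.smul_mulVec,
            RingHom.id_apply, smul_add] }
    have hrange : ∀ x, M *ᵥ x ∈ LinearMap.range T := by
      intro x
      have hbφ : b *ᵥ (φ x *ᵥ u) = φ x *ᵥ (b *ᵥ u) := by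
        rw [Matrix.mulVec_mulVec, Matrix.mulVec_mulVec, hE.comm b hbE _ (hLE (hφL x))]
      refine ⟨(⟨φ (b *ᵥ x) - φ (b *ᵥ (φ x *ᵥ u)), L.sub_mem (hφL _) (hφL _)⟩,
        ⟨-φ x, L.neg_mem (hφL x)⟩), ?_⟩
      show (φ (b *ᵥ x) - φ (b *ᵥ (φ x *ᵥ u))) *ᵥ u + (-φ x) *ᵥ (b *ᵥ u) = M *ᵥ x
      have e1 : (Nm * b) *ᵥ x = φ (b *ᵥ x) *ᵥ u := by rw [← Matrix.mulVec_mulVec, hNm]
      have e2 : (b * Nm) *ᵥ x = φ x *ᵥ (b *ᵥ u) := by rw [← Matrix.mulVec_mulVec, hNm, hbφ]
      have e3 : (Nm * b * Nm) *ᵥ x = φ (b *ᵥ (φ x *ᵥ u)) *ᵥ u := by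
        rw [← Matrix.mulVec_mulVec, ← Matrix.mulVec_mulVec, hNm x, hNm]
      rw [hMdef]
      simp only [Matrix.sub_mulVec, Matrix.neg_mulVec, e1, e2, e3]
      abel
    have htop : LinearMap.range T = ⊤ := by
      rw [eq_top_iff]
      intro v _
      have : v = M *ᵥ (y *ᵥ v) := by
        rw [Matrix.mulVec_mulVec, hy, Matrix.one_mulVec]
      rw [this]; exact hrange _
    have h2 := LinearMap.finrank_range_le T
    rw [htop, finrank_top, Module.finrank_prod, hL.finrank_eq, Module.finrank_fin_fun] at h2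
    omega

end Cfsg.Agent.Lead.FieldSub
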