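import Cfsg.Agent.Lead.FieldSubA

/-! Field-extension normalizers of composite degree are not maximal. -/

namespace Cfsg.Agent.Lead.FieldSub
open Cfsg.Geo Matrix

/-- In a finite field with `q ^ r` elements and `s ∣ r`, `2 ≤ s < r`, `2 ≤ q`: there is an element not fixed
by the `q^s`-power map, and a non-zero element fixed by it whose `(q-1)`-th power is not one. -/
theorem lemmaU (E : Type*) [Field E] [Fintype E] (q r s : ℕ) (hq : 2 ≤ q) (hcard : Fintype.card E = q ^ r)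
    (hsr : s ∣ r) (hs2 : 2 ≤ s) (hsr' : s < r) :
    (∃ z : E, z ^ (q ^ s) ≠ z) ∧ (∃ y : E, y ≠ 0 ∧ y ^ (q ^ s) = y ∧ y ^ (q - 1) ≠ 1) := by
  classical
  obtain ⟨ζ, hζ⟩ := IsCyclic.exists_generator (α := Eˣ)
  have hord : orderOf ζ = q ^ r - 1 := by
    rw [orderOf_eq_card_of_forall_mem_zpowers hζ, Nat.card_eq_fintype_card, Fintype.card_units, hcard]
  have hqs : 1 < q ^ s := Nat.one_lt_pow (by omega) (by omega)
  have hqr : q ^ s < q ^ r := Nat.pow_lt_pow_right (by omega) hsr'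
  obtain ⟨t, rfl⟩ := hsr
  have hdvd : q ^ s - 1 ∣ q ^ (s * t) - 1 := by
    rw [pow_mul]
    simpa only [one_pow] using Nat.sub_dvd_pow_sub_pow (q ^ s) 1 t
  constructor
  · refine ⟨(ζ : E), fun h => ?_⟩
    have h1 : ζ ^ (q ^ s - 1) = 1 := by
      apply Units.ext
      have h2 : (ζ : E) ^ (q ^ s - 1) * (ζ : E) = (ζ : E) := by
        rw [← pow_succ, Nat.sub_add_cancel hqs.le, h]
      have h3 : (ζ : E) ^ (q ^ s - 1) = 1 := by
        have hne : (ζ : E) ≠ 0 := ζ.ne_zero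
        field_simp at h2
        exact h2
      simpa using h3
    have h4 := orderOf_dvd_of_pow_eq_one h1
    rw [hord] at h4
    have h5 := Nat.le_of_dvd (by omega) h4
    omega
  · obtain ⟨m, hm⟩ := hdvd
    have hmpos : 0 < m := by
      rcases Nat.eq_zero_or_pos m with h | h
      · rw [h, mul_zero] at hm; omega
      · exact h
    refine ⟨((ζ ^ m : Eˣ) : E), (ζ ^ m).ne_zero, ?_, ?_⟩
    · have h1 : (ζ ^ m) ^ (q ^ s - 1) = 1 := by
        rw [← pow_mul, mul_comm, ← hm, ← hord, pow_orderOf_eq_one]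
      have h2 : ((ζ ^ m : Eˣ) : E) ^ (q ^ s - 1) = 1 := by
        have := congrArg (fun u : Eˣ => (u : E)) h1
        simpa using this
      calc ((ζ ^ m : Eˣ) : E) ^ (q ^ s) = ((ζ ^ m : Eˣ) : E) ^ (q ^ s - 1) * ((ζ ^ m : Eˣ) : E) := by
            rw [← pow_succ, Nat.sub_add_cancel hqs.le]
        _ = _ := by rw [h2, one_mul]
    · intro h
      have h1 : (ζ ^ m) ^ (q - 1) = 1 := by
        apply Units.ext
        simpa using h
      rw [← pow_mul] at h1
      have h4 := orderOf_dvd_of_pow_eq_one h1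
      rw [hord, hm] at h4
      have h5 : q ^ s - 1 ∣ q - 1 := by
        rw [mul_comm m (q - 1)] at h4
        exact (Nat.mul_dvd_mul_iff_right hmpos).mp h4
      have h6 := Nat.le_of_dvd (by omega) h5
      have h7 : q ^ 2 ≤ q ^ s := Nat.pow_le_pow_right (by omega) hs2
      have h8 : q * 2 ≤ q ^ 2 := by nlinarith
      omega


variable {F : Type*} [Field F] [Fintype F] {n : ℕ}

/-- The subalgebra of `K` fixed by the `Q`-power map. -/
theorem exists_fixSub (hn : 0 < n) (K : Subalgebra F (Matrix (Fin n) (Fin n) F))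
    (hcomm : ∀ x ∈ K, ∀ y ∈ K, x * y = y * x) (Q p j : ℕ) [Fact p.Prime] [CharP F p]
    (hQ : Q = p ^ j) (hQ0 : Q ≠ 0) (hQF : ∀ c : F, c ^ Q = c) :
    ∃ K₀ : Subalgebra F (Matrix (Fin n) (Fin n) F), ∀ x, x ∈ K₀ ↔ x ∈ K ∧ x ^ Q = x := by
  haveI : Nonempty (Fin n) := ⟨⟨0, hn⟩⟩
  refine ⟨{ carrier := {x | x ∈ K ∧ x ^ Q = x}
            mul_mem' := ?_
            one_mem' := ⟨K.one_mem, one_pow Q⟩
            add_mem' := ?_
            zero_mem' := ⟨K.zero_mem, zero_pow hQ0⟩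
            algebraMap_mem' := ?_ }, fun x => Iff.rfl⟩
  · rintro x y ⟨hx, hx'⟩ ⟨hy, hy'⟩
    refine ⟨K.mul_mem hx hy, ?_⟩
    have hc : Commute x y := hcomm x hx y hy
    rw [hc.mul_pow, hx', hy']
  · rintro x y ⟨hx, hx'⟩ ⟨hy, hy'⟩
    refine ⟨K.add_mem hx hy, ?_⟩
    have hc : Commute x y := hcomm x hx y hy
    rw [hQ, add_pow_char_pow_of_commute _ _ hc, ← hQ, hx', hy']
  · intro c
    refine ⟨K.algebraMap_mem c, ?_⟩
    rw [← map_pow, hQF]

theorem fixSub_isField {r : ℕ} (K K₀ : Subalgebra F (Matrix (Fin n) (Fin n) F))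
    (hK : IsFieldSubalgebra r K) (Q : ℕ)
    (hK₀ : ∀ x, x ∈ K₀ ↔ x ∈ K ∧ x ^ Q = x) :
    IsFieldSubalgebra (Module.finrank F K₀) K₀ where
  comm := fun x hx y hy => hK.comm x ((hK₀ x).mp hx).1 y ((hK₀ y).mp hy).1
  inv := by
    intro x hx hx0
    obtain ⟨hxK, hxQ⟩ := (hK₀ x).mp hx
    obtain ⟨y, hyK, hy⟩ := hK.inv x hxK hx0
    refine ⟨y, (hK₀ y).mpr ⟨hyK, ?_⟩, hy⟩
    have hc : Commute x y := hK.comm x hxK y hyK
    have h1 : x * y ^ Q = 1 := by
      have := congrArg (fun z => z ^ Q) hy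
      simp only [one_pow] at this
      rw [hc.mul_pow, hxQ] at this
      exact this
    calc y ^ Q = (y * x) * y ^ Q := by rw [← hc.eq, hy, one_mul]
      _ = y * (x * y ^ Q) := by rw [mul_assoc]
      _ = y := by rw [h1, mul_one]
  finrank_eq := rfl

theorem two_finrank_le {r : ℕ} (K K₀ : Subalgebra F (Matrix (Fin n) (Fin n) F))
    (hK : IsFieldSubalgebra r K) (hle : K₀ ≤ K)
    (hK₀inv : ∀ x ∈ K₀, x ≠ 0 → ∃ y ∈ K₀, x * y = 1)
    (b : Matrix (Fin n) (Fin n) F) (hbK : b ∈ K) (hb : b ∉ K₀) :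
    2 * Module.finrank F K₀ ≤ r := by
  let T : (↥K₀ × ↥K₀) →ₗ[F] ↥K :=
    { toFun := fun kk => ⟨(kk.1 : Matrix (Fin n) (Fin n) F) + (kk.2 : Matrix (Fin n) (Fin n) F) * b,
        K.add_mem (hle kk.1.2) (K.mul_mem (hle kk.2.2) hbK)⟩
      map_add' := fun a c => by
        apply Subtype.ext
        simp only [Prod.fst_add, Prod.snd_add, Subalgebra.coe_add, add_mul]
        abel
      map_smul' := fun c a => by
        apply Subtype.ext
        simp only [Prod.smul_fst, Prod.smul_snd, Subalgebra.coe_smul, RingHom.id_apply, smul_add,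
          smul_mul_assoc] }
  have hinj : Function.Injective T := by
    rw [← LinearMap.ker_eq_bot, LinearMap.ker_eq_bot']
    rintro ⟨k, k'⟩ h
    have h1 : (k : Matrix (Fin n) (Fin n) F) + (k' : Matrix (Fin n) (Fin n) F) * b = 0 :=
      congrArg Subtype.val h
    by_cases hk' : (k' : Matrix (Fin n) (Fin n) F) = 0
    · rw [hk', zero_mul, add_zero] at h1
      exact Prod.ext (Subtype.ext h1) (Subtype.ext hk')
    · exfalso
      obtain ⟨y, hy, hyk⟩ := hK₀inv k' k'.2 hk'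
      apply hb
      have hc : y * (k' : Matrix (Fin n) (Fin n) F) = 1 := by
        rw [hK.comm y (hle hy) _ (hle k'.2)]; exact hyk
      have h2 : b = -(y * (k : Matrix (Fin n) (Fin n) F)) := by
        have h3 : (k' : Matrix (Fin n) (Fin n) F) * b = -(k : Matrix (Fin n) (Fin n) F) :=
          eq_neg_of_add_eq_zero_right h1
        calc b = (y * (k' : Matrix (Fin n) (Fin n) F)) * b := by rw [hc, one_mul]
          _ = y * ((k' : Matrix (Fin n) (Fin n) F) * b) := by rw [mul_assoc]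
          _ = _ := by rw [h3, mul_neg]
      rw [h2]
      exact K₀.neg_mem (K₀.mul_mem hy k.2)
  have h2 := LinearMap.finrank_le_finrank_of_injective hinj
  rw [Module.finrank_prod, hK.finrank_eq] at h2
  omega

theorem normalizer_le (K K₀ : Subalgebra F (Matrix (Fin n) (Fin n) F)) (Q : ℕ)
    (hK₀ : ∀ x, x ∈ K₀ ↔ x ∈ K ∧ x ^ Q = x) :
    subalgebraNormalizer K ≤ subalgebraNormalizer K₀ := by
  intro g hg k
  have hconj : ((g : Matrix (Fin n) (Fin n) F) * k * ((g⁻¹ : GL (Fin n) F) : Matrix (Fin n) (Fin n) F)) ^ Q =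
      (g : Matrix (Fin n) (Fin n) F) * k ^ Q * ((g⁻¹ : GL (Fin n) F) : Matrix (Fin n) (Fin n) F) :=
    Units.conj_pow g k Q
  rw [hK₀, hK₀, hconj, ← hg k]
  constructor
  · rintro ⟨h1, h2⟩
    exact ⟨h1, by rw [h2]⟩
  · rintro ⟨h1, h2⟩
    refine ⟨h1, ?_⟩
    have h3 := congrArg (fun z => ((g⁻¹ : GL (Fin n) F) : Matrix (Fin n) (Fin n) F) * z *
      (g : Matrix (Fin n) (Fin n) F)) h2
    beta_reduce at h3
    have e : ∀ z : Matrix (Fin n) (Fin n) F,
        ((g⁻¹ : GL (Fin n) F) : Matrix (Fin n) (Fin n) F) * ((g : Matrix (Fin n) (Fin n) F) * z *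
          ((g⁻¹ : GL (Fin n) F) : Matrix (Fin n) (Fin n) F)) * (g : Matrix (Fin n) (Fin n) F) = z := by
      intro z
      have h4 : ((g⁻¹ : GL (Fin n) F) : Matrix (Fin n) (Fin n) F) * (g : Matrix (Fin n) (Fin n) F) = 1 := by
        rw [← Units.val_mul, inv_mul_cancel, Units.val_one]
      calc _ = (((g⁻¹ : GL (Fin n) F) : Matrix (Fin n) (Fin n) F) * (g : Matrix (Fin n) (Fin n) F)) * z *
            (((g⁻¹ : GL (Fin n) F) : Matrix (Fin n) (Fin n) F) * (g : Matrix (Fin n) (Fin n) F)) := by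
            noncomm_ring
        _ = z := by rw [h4, one_mul, mul_one]
    rw [e, e] at h3
    exact h3

end Cfsg.Agent.Lead.FieldSub
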