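import Cfsg.Agent.Lead.FieldSubB

/-! Field-extension normalizers of composite degree are not maximal: final assembly. -/

namespace Cfsg.Agent.Lead.FieldSub
open Cfsg.Geo Matrix

variable {F : Type*} [Field F] [Fintype F] {n : ℕ}

theorem exists_elements {r s q : ℕ} (hn : 0 < n) (K : Subalgebra F (Matrix (Fin n) (Fin n) F))
    (hK : IsFieldSubalgebra r K) (hq : Fintype.card F = q) (hsr : s ∣ r) (hs2 : 2 ≤ s)
    (hsr' : s < r) :
    (∃ z ∈ K, z ^ (q ^ s) ≠ z) ∧ (∃ y ∈ K, y ^ (q ^ s) = y ∧ ∀ c : F, y ≠ c • 1) := by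
  letI fld : Field ↥K := (isField_of hn hK).toField
  letI : Fintype ↥K := Fintype.ofFinite _
  have hcard : Fintype.card ↥K = q ^ r := by
    rw [Module.card_eq_pow_finrank (K := F) (V := ↥K), hq, hK.finrank_eq]
  have hq2 : 2 ≤ q := by rw [← hq]; exact Fintype.one_lt_card
  have e : ∀ (x : ↥K) (k : ℕ),
      ((x ^ k : ↥K) : Matrix (Fin n) (Fin n) F) = (x : Matrix (Fin n) (Fin n) F) ^ k :=
    fun x k => SubmonoidClass.coe_pow x k
  obtain ⟨⟨z, hz⟩, ⟨y, hy0, hyQ, hyq⟩⟩ := lemmaU ↥K q r s hq2 hcard hsr hs2 hsr'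
  refine ⟨⟨(z : Matrix (Fin n) (Fin n) F), z.2, fun h => hz (Subtype.ext ?_)⟩,
    ⟨(y : Matrix (Fin n) (Fin n) F), y.2, ?_, ?_⟩⟩
  · rw [e]; exact h
  · rw [← e, hyQ]
  · intro c hc
    apply hyq
    apply Subtype.ext
    rw [e, hc]
    have hc0 : c ≠ 0 := by
      intro h0
      apply hy0
      apply Subtype.ext
      rw [hc, h0, zero_smul]; rfl
    rw [smul_pow, one_pow, ← hq, FiniteField.pow_card_sub_one_eq_one c hc0, one_smul]
    rfl

theorem bot_isField (hn : 0 < n) :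
    IsFieldSubalgebra 1 (⊥ : Subalgebra F (Matrix (Fin n) (Fin n) F)) where
  comm := by
    intro x hx y hy
    obtain ⟨a, rfl⟩ := Algebra.mem_bot.mp hx
    obtain ⟨b, rfl⟩ := Algebra.mem_bot.mp hy
    rw [← map_mul, ← map_mul, mul_comm]
  inv := by
    intro x hx hx0
    obtain ⟨a, rfl⟩ := Algebra.mem_bot.mp hx
    have ha : a ≠ 0 := by
      intro h0; apply hx0; rw [h0, map_zero]
    refine ⟨algebraMap F _ a⁻¹, Subalgebra.algebraMap_mem _ _, ?_⟩
    rw [← map_mul, mul_inv_cancel₀ ha, map_one]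
  finrank_eq := by
    haveI : Nonempty (Fin n) := ⟨⟨0, hn⟩⟩
    exact Subalgebra.finrank_bot

theorem main (n r : ℕ) (hr1 : 1 < r) (hrp : ¬ r.Prime) (hrn : r ∣ n) (hlt : r < n)
    (K : Subalgebra F (Matrix (Fin n) (Fin n) F)) (hK : IsFieldSubalgebra r K) :
    ¬ IsCoatom (subalgebraNormalizer K) ∧
      ¬ IsMaximalIn (specialLinear (Fin n) F)
        (subalgebraNormalizer K ⊓ specialLinear (Fin n) F) := by
  obtain ⟨s, hsr, hs2, hsr'⟩ := Nat.exists_dvd_of_not_prime2 hr1 hrp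
  have hn : 0 < n := by omega
  have hn2 : 2 * r ≤ n := by
    obtain ⟨k, rfl⟩ := hrn
    have : 2 ≤ k := by
      by_contra h
      have : k ≤ 1 := by omega
      interval_cases k <;> omega
    nlinarith
  obtain ⟨p, hp⟩ := CharP.exists F
  haveI := hp
  obtain ⟨f, hpp, hqp⟩ := FiniteField.card F p
  haveI : Fact p.Prime := ⟨hpp⟩
  set q := Fintype.card F with hq
  have hQ : q ^ s = p ^ ((f : ℕ) * s) := by rw [hqp, pow_mul]
  have hQ0 : q ^ s ≠ 0 := by
    rw [hQ]; exact pow_ne_zero _ hpp.ne_zero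
  have hQF : ∀ c : F, c ^ (q ^ s) = c := fun c => FiniteField.pow_card_pow s c
  obtain ⟨K₀, hK₀⟩ := exists_fixSub hn K hK.comm (q ^ s) p ((f : ℕ) * s) hQ hQ0 hQF
  have hfld := fixSub_isField K K₀ hK (q ^ s) hK₀
  have hle : K₀ ≤ K := fun x hx => ((hK₀ x).mp hx).1
  obtain ⟨⟨z, hzK, hz⟩, ⟨y, hyK, hyQ, hysc⟩⟩ := exists_elements hn K hK hq.symm hsr hs2 hsr'
  have hzK₀ : z ∉ K₀ := fun h => hz ((hK₀ z).mp h).2
  have hyK₀ : y ∈ K₀ := (hK₀ y).mpr ⟨hyK, hyQ⟩
  have hybot : y ∉ (⊥ : Subalgebra F (Matrix (Fin n) (Fin n) F)) := by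
    intro h
    obtain ⟨c, hc⟩ := Algebra.mem_bot.mp h
    exact hysc c (by rw [← hc, Algebra.algebraMap_eq_smul_one])
  have h2s : 2 * Module.finrank F K₀ ≤ r := two_finrank_le K K₀ hK hle hfld.inv z hzK hzK₀
  obtain ⟨g₂, hg₂det, hg₂c, hg₂n⟩ := lemmaT K₀ K hfld hK hle z hzK hzK₀ (by omega)
  obtain ⟨g₁, hg₁det, _, hg₁n⟩ := lemmaT ⊥ K₀ (bot_isField hn) hfld bot_le y hyK₀ hybot (by omega)
  have hNle := normalizer_le K K₀ (q ^ s) hK₀
  -- g₂ normalizes K₀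
  have hg₂K₀ : g₂ ∈ subalgebraNormalizer K₀ := by
    intro k
    have hinv : (g₂ : Matrix (Fin n) (Fin n) F) * ((g₂⁻¹ : GL (Fin n) F) : Matrix (Fin n) (Fin n) F) = 1 := by
      rw [← Units.val_mul, mul_inv_cancel, Units.val_one]
    constructor
    · intro hk
      rw [hg₂c k hk, mul_assoc, hinv, mul_one]; exact hk
    · intro hk
      -- k = g⁻¹ (g k g⁻¹) g and g⁻¹ commutes with K₀ as well
      set k' := (g₂ : Matrix (Fin n) (Fin n) F) * k * ((g₂⁻¹ : GL (Fin n) F) : Matrix (Fin n) (Fin n) F) with hk'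
      have hinv' : ((g₂⁻¹ : GL (Fin n) F) : Matrix (Fin n) (Fin n) F) * (g₂ : Matrix (Fin n) (Fin n) F) = 1 := by
        rw [← Units.val_mul, inv_mul_cancel, Units.val_one]
      have h1 : k = ((g₂⁻¹ : GL (Fin n) F) : Matrix (Fin n) (Fin n) F) * k' * (g₂ : Matrix (Fin n) (Fin n) F) := by
        rw [hk']
        calc k = (((g₂⁻¹ : GL (Fin n) F) : Matrix (Fin n) (Fin n) F) * (g₂ : Matrix (Fin n) (Fin n) F)) * k *
              (((g₂⁻¹ : GL (Fin n) F) : Matrix (Fin n) (Fin n) F) * (g₂ : Matrix (Fin n) (Fin n) F)) := by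
              rw [hinv', one_mul, mul_one]
          _ = _ := by noncomm_ring
      have h2 : ((g₂⁻¹ : GL (Fin n) F) : Matrix (Fin n) (Fin n) F) * k' * (g₂ : Matrix (Fin n) (Fin n) F) = k' := by
        rw [mul_assoc, ← hg₂c k' hk, ← mul_assoc, hinv', one_mul]
      rw [h1, h2]; exact hk
  have hg₂sl : g₂ ∈ specialLinear (Fin n) F := MonoidHom.mem_ker.mpr hg₂det
  have hg₁sl : g₁ ∈ specialLinear (Fin n) F := MonoidHom.mem_ker.mpr hg₁det
  constructor
  · intro hco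
    have hlt' : subalgebraNormalizer K < subalgebraNormalizer K₀ :=
      lt_of_le_of_ne hNle (fun h => hg₂n (h ▸ hg₂K₀))
    have htop := hco.2 _ hlt'
    apply hg₁n
    rw [htop]; exact Subgroup.mem_top _
  · rintro ⟨_, hmax⟩
    rcases hmax (subalgebraNormalizer K₀ ⊓ specialLinear (Fin n) F)
      (inf_le_inf_right _ hNle) inf_le_right with h | h
    · have : g₂ ∈ subalgebraNormalizer K ⊓ specialLinear (Fin n) F := by
        rw [← h]; exact ⟨hg₂K₀, hg₂sl⟩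
      exact hg₂n this.1
    · have : g₁ ∈ subalgebraNormalizer K₀ ⊓ specialLinear (Fin n) F := by
        rw [h]; exact hg₁sl
      exact hg₁n this.1

end Cfsg.Agent.Lead.FieldSub
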