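import Mathlib
import Cfsg.Prelude.Def_CaseTheorems
import Cfsg.Agent.Lead.FourConnected
import Cfsg.Agent.Lead.AlperinTame2
import Cfsg.Agent.Lead.SylowLemmas

set_option autoImplicit false

/-! The 2-generated core is the stabilizer of a connected component of the commuting graph on
four-subgroups. -/

namespace Cfsg.Agent.Lead.FourCore

open Cfsg Cfsg.Agent.Lead Cfsg.Agent.Lead.Alp

universe u

variable {G : Type u} [Group G]

/-- adjacency in the commuting graph on four-subgroups -/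
def adj (A B : Subgroup G) : Prop :=
  IsKleinFour A ∧ IsKleinFour B ∧ ∀ a ∈ A, ∀ b ∈ B, a * b = b * a

/-- connectedness -/
def Conn (A B : Subgroup G) : Prop := Relation.ReflTransGen (adj (G := G)) A B

theorem adj_symm {A B : Subgroup G} (h : adj A B) : adj B A :=
  ⟨h.2.1, h.1, fun b hb a ha => (h.2.2 a ha b hb).symm⟩

theorem Conn.symm {A B : Subgroup G} (h : Conn A B) : Conn B A := by
  induction h with
  | refl => exact Relation.ReflTransGen.refl
  | tail _ hbc ih => exact Relation.ReflTransGen.head (adj_symm hbc) ih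

theorem Conn.trans {A B C : Subgroup G} (h1 : Conn A B) (h2 : Conn B C) : Conn A C :=
  Relation.ReflTransGen.trans h1 h2

theorem isKleinFour_cj (g : G) {A : Subgroup G} (hA : IsKleinFour A) : IsKleinFour (cj g A) := by
  apply isKleinFour_of_card_of_sq
  · rw [card_cj]; exact hA.card_four
  · intro x hx
    rw [mem_cj] at hx
    have h1 := Cfsg.Agent.Helper2.klein_mul_self A hA hx
    have h2 : g * (x * x) * g⁻¹ = 1 := by
      have : g * (x * x) * g⁻¹ = (g * x * g⁻¹) * (g * x * g⁻¹) := by group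
      rw [this, h1]
    have h3 : x * x = g⁻¹ * (g * (x * x) * g⁻¹) * g := by group
    rw [h3, h2]; group

theorem adj_cj (g : G) {A B : Subgroup G} (h : adj A B) : adj (cj g A) (cj g B) := by
  refine ⟨isKleinFour_cj g h.1, isKleinFour_cj g h.2.1, ?_⟩
  intro a ha b hb
  rw [mem_cj] at ha hb
  have h1 := h.2.2 _ ha _ hb
  have h2 : g * (a * b) * g⁻¹ = g * (b * a) * g⁻¹ := by
    have e1 : g * (a * b) * g⁻¹ = (g * a * g⁻¹) * (g * b * g⁻¹) := by group
    have e2 : g * (b * a) * g⁻¹ = (g * b * g⁻¹) * (g * a * g⁻¹) := by group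
    rw [e1, e2, h1]
  exact mul_left_cancel (mul_right_cancel h2)

theorem Conn.cj (g : G) {A B : Subgroup G} (h : Conn A B) : Conn (Alp.cj g A) (Alp.cj g B) :=
  Relation.ReflTransGen.lift (Alp.cj g) (fun _ _ h => adj_cj g h) _ _ h

/-- chains inside a subgroup give chains in the group -/
theorem conn_of_fourConnected (S : Subgroup G) (hS : Cfsg.IsFourConnected S)
    {U V : Subgroup G} (hU : IsKleinFour U) (hV : IsKleinFour V) (hUS : U ≤ S) (hVS : V ≤ S) :
    Conn U V := by
  have hU' : IsKleinFour (U.subgroupOf S) := by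
    have e := Subgroup.subgroupOfEquivOfLe hUS
    exact ⟨by rw [Nat.card_congr e.toEquiv]; exact hU.card_four,
      by rw [Monoid.exponent_eq_of_mulEquiv e]; exact hU.exponent_two⟩
  have hV' : IsKleinFour (V.subgroupOf S) := by
    have e := Subgroup.subgroupOfEquivOfLe hVS
    exact ⟨by rw [Nat.card_congr e.toEquiv]; exact hV.card_four,
      by rw [Monoid.exponent_eq_of_mulEquiv e]; exact hV.exponent_two⟩
  have h := hS (U.subgroupOf S) (V.subgroupOf S) hU' hV'
  have hlift : Conn ((U.subgroupOf S).map S.subtype) ((V.subgroupOf S).map S.subtype) := by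
    apply Relation.ReflTransGen.lift (fun A : Subgroup S => A.map S.subtype) _ _ _ h
    intro A B hAB
    have hmapK : ∀ A : Subgroup S, IsKleinFour A → IsKleinFour (A.map S.subtype) := by
      intro A hA
      have e := Subgroup.equivMapOfInjective A S.subtype S.subtype_injective
      exact ⟨by rw [← Nat.card_congr e.toEquiv]; exact hA.card_four,
        by rw [← Monoid.exponent_eq_of_mulEquiv e]; exact hA.exponent_two⟩
    refine ⟨hmapK A hAB.1, hmapK B hAB.2.1, ?_⟩
    rintro _ ⟨a, ha, rfl⟩ _ ⟨b, hb, rfl⟩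
    have := hAB.2.2 a ha b hb
    exact congrArg Subtype.val this
  rw [Subgroup.map_subgroupOf_eq_of_le hUS, Subgroup.map_subgroupOf_eq_of_le hVS] at hlift
  exact hlift

theorem isKleinFour_map_subtype (S : Subgroup G) (A : Subgroup S) (hA : IsKleinFour A) :
    IsKleinFour (A.map S.subtype) := by
  have e := Subgroup.equivMapOfInjective A S.subtype S.subtype_injective
  exact ⟨by rw [← Nat.card_congr e.toEquiv]; exact hA.card_four,
    by rw [← Monoid.exponent_eq_of_mulEquiv e]; exact hA.exponent_two⟩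

theorem exists_kleinFour_of_not_pRankLE {H : Type u} [Group H] (h : ¬ Cfsg.PRankLE 2 1 H) :
    ∃ W : Subgroup H, IsKleinFour W := by
  unfold Cfsg.PRankLE at h
  push Not at h
  obtain ⟨A, hAc, hA2, hAcard⟩ := h
  have hsq : ∀ x ∈ A, x * x = 1 := by
    intro x hx
    have := hA2 x hx
    rwa [pow_two] at this
  have hcomm : ∀ x ∈ A, ∀ y ∈ A, x * y = y * x := by
    intro x hx y hy
    exact congrArg Subtype.val (mul_comm' (⟨x, hx⟩ : A) ⟨y, hy⟩)
  have hne : A ≠ ⊥ := by
    rintro rfl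
    rw [Subgroup.card_bot] at hAcard
    norm_num at hAcard
  obtain ⟨a, ha1⟩ := (Subgroup.ne_bot_iff_exists_ne_one).mp hne
  have ha1' : (a : H) ≠ 1 := fun h => ha1 (Subtype.ext h)
  obtain ⟨b, hbA, hb1, hba⟩ : ∃ b ∈ A, b ≠ 1 ∧ b ≠ (a : H) := by
    by_contra hall
    push Not at hall
    have hsub : (A : Set H) ⊆ {1, (a : H)} := by
      intro x hx
      by_cases hx1 : x = 1
      · left; exact hx1
      · right; exact hall x hx hx1
    have h1 : Nat.card A = (A : Set H).ncard := (Nat.card_coe_set_eq _)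
    have h2 : (A : Set H).ncard ≤ ({1, (a : H)} : Set H).ncard :=
      Set.ncard_le_ncard hsub (Set.toFinite _)
    have h3 : ({1, (a : H)} : Set H).ncard ≤ 2 := by
      calc ({1, (a : H)} : Set H).ncard ≤ ({(a : H)} : Set H).ncard + 1 := Set.ncard_insert_le _ _
        _ = 2 := by rw [Set.ncard_singleton]
    omega
  exact ⟨fourOf (a : H) b (hsq _ a.2) (hsq _ hbA) (hcomm _ a.2 _ hbA),
    fourOf_isKleinFour _ _ _ _ _ ha1' hb1 (Ne.symm hba)⟩

variable [Finite G]

/-- a four-subgroup of `T` shows that `T` has 2-rank at least 2 -/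
theorem not_pRankLE_of_le {W T : Subgroup G} (hW : IsKleinFour W) (hWT : W ≤ T) :
    ¬ Cfsg.PRankLE 2 1 T := by
  intro h
  have h1 := h (W.subgroupOf T) (by
    refine ⟨⟨?_⟩⟩
    rintro ⟨a, ha⟩ ⟨b, hb⟩
    apply Subtype.ext
    apply Subtype.ext
    exact Cfsg.Agent.Helper2.klein_comm W hW ha hb) (by
    intro a ha
    apply Subtype.ext
    rw [pow_two]
    exact Cfsg.Agent.Helper2.klein_mul_self W hW ha)
  rw [card_subgroupOf_of_le hWT, hW.card_four] at h1
  norm_num at h1

/-- The 2-generated core. -/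
def core (S : Subgroup G) : Subgroup G :=
  ⨆ Q : {Q : Subgroup G // Q ≤ S ∧ ¬ Cfsg.PRankLE 2 1 Q}, Subgroup.normalizer ((Q : Subgroup G) : Set G)

theorem normalizer_le_core {S T W : Subgroup G} (hTS : T ≤ S) (hW : IsKleinFour W) (hWT : W ≤ T) :
    Subgroup.normalizer (T : Set G) ≤ core S :=
  le_iSup (fun Q : {Q : Subgroup G // Q ≤ S ∧ ¬ Cfsg.PRankLE 2 1 Q} =>
    Subgroup.normalizer ((Q : Subgroup G) : Set G)) ⟨T, hTS, not_pRankLE_of_le hW hWT⟩

theorem chain_mem_core {S : Subgroup G} {A : Set G} {g : G}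
    (h : RChain (StepRel 2 S) A g) :
    (∃ W : Subgroup G, IsKleinFour W ∧ (W : Set G) ⊆ A) → g ∈ core S := by
  induction h with
  | nil A => intro _; exact Subgroup.one_mem _
  | cons A T x g hR hAT _ ih =>
    rintro ⟨W, hW, hWA⟩
    apply Subgroup.mul_mem
    · exact normalizer_le_core hR.le hW (fun w hw => hAT (hWA hw)) hR.mem_normalizer
    · apply ih
      refine ⟨cj x W, isKleinFour_cj x hW, ?_⟩
      rw [coe_cj]
      exact conjR_mono hWA

theorem alp_core (S : Sylow 2 G) {W : Subgroup G} (hW : IsKleinFour W) (hWS : W ≤ S) {h : G}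
    (hh : cj h W ≤ S) : h ∈ core (S : Subgroup G) := by
  have hchain := alperin_chain S.2 S.card_eq_multiplicity (W : Set G) h hWS (by
    rw [← coe_cj]; exact hh)
  exact chain_mem_core hchain ⟨W, hW, le_refl _⟩

theorem exists_cj_le (S : Sylow 2 G) {R : Subgroup G} (hR : IsPGroup 2 R) :
    ∃ h : G, cj h R ≤ S := by
  obtain ⟨g, hg⟩ := exists_conj_le_sylow S R hR
  refine ⟨g⁻¹, ?_⟩
  unfold cj
  rw [inv_inv]
  exact hg

theorem isPGroup_of_isKleinFour {W : Subgroup G} (hW : IsKleinFour W) : IsPGroup 2 W := by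
  apply IsPGroup.of_card (n := 2)
  rw [hW.card_four]; norm_num

/-- every four-group connected to `U₀ ≤ S` is conjugate into `S` by an element of the core -/
theorem exists_core_conj (S : Sylow 2 G) {U₀ V : Subgroup G} (hU₀S : U₀ ≤ S)
    (h : Conn U₀ V) : ∃ γ ∈ core (S : Subgroup G), cj γ V ≤ S := by
  induction h with
  | refl => exact ⟨1, Subgroup.one_mem _, by rw [Alp.cj_one]; exact hU₀S⟩
  | @tail B C _ hBC ih =>
    obtain ⟨γ, hγ, hγB⟩ := ih
    obtain ⟨hWk, hVk, hcomm⟩ := adj_cj γ hBC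
    have hWp := isPGroup_of_isKleinFour hWk
    have hVp := isPGroup_of_isKleinFour hVk
    have hle : cj γ C ≤ Subgroup.normalizer ((cj γ B : Subgroup G) : Set G) := by
      refine le_trans ?_ (Subgroup.centralizer_le_normalizer _)
      intro v hv
      rw [Subgroup.mem_centralizer_iff]
      intro w hw
      exact hcomm w hw v hv
    have hRp : IsPGroup 2 (cj γ C ⊔ cj γ B : Subgroup G) :=
      IsPGroup.to_sup_of_normal_right' hVp hWp hle
    obtain ⟨h, hh⟩ := exists_cj_le S hRp
    have hhW : cj h (cj γ B) ≤ S := le_trans (cj_mono le_sup_right) hh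
    have hhV : cj h (cj γ C) ≤ S := le_trans (cj_mono le_sup_left) hh
    have hhcore : h ∈ core (S : Subgroup G) := alp_core S hWk hγB hhW
    refine ⟨γ * h, Subgroup.mul_mem _ hγ hhcore, ?_⟩
    rw [cj_mul]
    exact hhV

/-- If the commuting graph of `G` is connected, the core is everything. -/
theorem core_eq_top_of_connected (S : Sylow 2 G) {U₀ : Subgroup G} (hU₀ : IsKleinFour U₀)
    (hU₀S : U₀ ≤ S) (hconn : Cfsg.IsFourConnected G) : core (S : Subgroup G) = ⊤ := by
  rw [eq_top_iff]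
  intro g _
  have h1 : Conn U₀ (cj g U₀) := hconn U₀ (cj g U₀) hU₀ (isKleinFour_cj g hU₀)
  obtain ⟨γ, hγ, hγle⟩ := exists_core_conj S hU₀S h1
  rw [← cj_mul] at hγle
  have h2 : g * γ ∈ core (S : Subgroup G) := alp_core S hU₀ hU₀S hγle
  have h3 : g = (g * γ) * γ⁻¹ := by group
  rw [h3]
  exact Subgroup.mul_mem _ h2 (Subgroup.inv_mem _ hγ)

/-- the stabilizer of the component of `U₀` -/
def stab (U₀ : Subgroup G) : Subgroup G where
  carrier := {g | Conn U₀ (cj g U₀)}
  one_mem' := by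
    change Conn U₀ (cj 1 U₀)
    rw [Alp.cj_one]; exact Relation.ReflTransGen.refl
  mul_mem' := by
    intro g h hg hh
    change Conn U₀ (cj (g * h) U₀)
    rw [cj_mul]
    exact Conn.trans hh (Conn.cj h hg)
  inv_mem' := by
    intro g hg
    change Conn U₀ (cj g⁻¹ U₀)
    have h1 := Conn.cj g⁻¹ hg
    rw [cj_inv_cj] at h1
    exact h1.symm

theorem mem_stab {U₀ : Subgroup G} {g : G} : g ∈ stab U₀ ↔ Conn U₀ (cj g U₀) := Iff.rfl

theorem core_le_stab (S : Sylow 2 G) (hS : Cfsg.IsFourConnected (S : Subgroup G))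
    {U₀ : Subgroup G} (hU₀ : IsKleinFour U₀) (hU₀S : U₀ ≤ S) :
    core (S : Subgroup G) ≤ stab U₀ := by
  apply iSup_le
  rintro ⟨Q, hQS, hQr⟩ g hg
  rw [mem_stab]
  -- a four-subgroup of Q
  obtain ⟨W, hW, hWQ⟩ : ∃ W : Subgroup G, IsKleinFour W ∧ W ≤ Q := by
    obtain ⟨W', hW'⟩ := exists_kleinFour_of_not_pRankLE hQr
    refine ⟨W'.map Q.subtype, isKleinFour_map_subtype Q W' hW', ?_⟩
    rintro _ ⟨w, -, rfl⟩
    exact w.2
  have hWS : W ≤ S := le_trans hWQ hQS
  have h1 : Conn U₀ W := conn_of_fourConnected _ hS hU₀ hW hU₀S hWS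
  have hgW : cj g W ≤ S := by
    have : cj g W ≤ cj g Q := cj_mono hWQ
    rw [cj_eq_self_of_mem_normalizer hg] at this
    exact le_trans this hQS
  have h2 : Conn U₀ (cj g W) :=
    conn_of_fourConnected _ hS hU₀ (isKleinFour_cj g hW) hU₀S hgW
  exact Conn.trans h2 (Conn.cj g h1).symm

/-- If the core is everything, the commuting graph of `G` is connected. -/
theorem connected_of_core_eq_top (S : Sylow 2 G) (hS : Cfsg.IsFourConnected (S : Subgroup G))
    {U₀ : Subgroup G} (hU₀ : IsKleinFour U₀) (hU₀S : U₀ ≤ S)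
    (htop : core (S : Subgroup G) = ⊤) : Cfsg.IsFourConnected G := by
  have hstab : ∀ g : G, Conn U₀ (cj g U₀) := by
    intro g
    rw [← mem_stab]
    apply core_le_stab S hS hU₀ hU₀S
    rw [htop]; exact Subgroup.mem_top g
  have key : ∀ U : Subgroup G, IsKleinFour U → Conn U₀ U := by
    intro U hU
    obtain ⟨g, hg⟩ := exists_cj_le S (isPGroup_of_isKleinFour hU)
    have h1 : Conn U₀ (cj g U) :=
      conn_of_fourConnected _ hS hU₀ (isKleinFour_cj g hU) hU₀S hg
    have h2 := Conn.cj g⁻¹ h1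
    rw [cj_inv_cj] at h2
    exact Conn.trans (hstab g⁻¹) h2
  intro U V hU hV
  exact Conn.trans (key U hU).symm (key V hV)

theorem main (h2 : ¬ Cfsg.PRankLE 2 1 G) (S : Sylow 2 G)
    (hS : Cfsg.IsFourConnected (S : Subgroup G)) :
    ¬ Cfsg.IsFourConnected G ↔
      (⨆ Q : {Q : Subgroup G // Q ≤ (S : Subgroup G) ∧ ¬ Cfsg.PRankLE 2 1 Q},
          Subgroup.normalizer ((Q : Subgroup G) : Set G)) ≠ ⊤ := by
  obtain ⟨W, hW⟩ := exists_kleinFour_of_not_pRankLE h2
  obtain ⟨g, hg⟩ := exists_cj_le S (isPGroup_of_isKleinFour hW)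
  have hU₀ := isKleinFour_cj g hW
  rw [not_iff_not]
  exact ⟨fun h => core_eq_top_of_connected S hU₀ hg h,
    fun h => connected_of_core_eq_top S hS hU₀ hg h⟩

end Cfsg.Agent.Lead.FourCore
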