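import Mathlib
import Cfsg.Prelude.Def_CaseTheorems
import Cfsg.Agent.Lead.LLemA

/-!
Lead: S1957, part A.  Generic lemmas:
* `mem_pCoreOf_of_comm`: characteristic 2 in ambient terms;
* `mem_pCoreOf_of_stab`: an element of `C` stabilizing the chain `O_2(C) ≥ ⟨u⟩ ≥ 1` (with `u` a central
  involution of `C`) lies in `O_2(C)`;
* `conj_mul_inv_mem_zpowers`: an element normalizing a four-group and fixing one of its involutions `u` moves every
  element of the four-group by an element of `⟨u⟩`.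
-/

set_option autoImplicit false

namespace Cfsg.Agent.Lead.FourNorm

open Cfsg Cfsg.Agent.Lead.LLem

variable {G : Type*} [Group G]

theorem mem_zpowers_two {u z : G} (hu : u * u = 1) (hz : z ∈ Subgroup.zpowers u) : z = 1 ∨ z = u := by
  obtain ⟨k, rfl⟩ := Subgroup.mem_zpowers_iff.mp hz
  have hu2 : u ^ (2 : ℤ) = 1 := by
    rw [zpow_ofNat, pow_two, hu]
  have hk : k = k % 2 + 2 * (k / 2) := (Int.emod_add_mul_ediv k 2).symm
  rw [hk, zpow_add, zpow_mul, hu2, one_zpow, mul_one]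
  rcases Int.emod_two_eq_zero_or_one k with h | h
  · left; rw [h, zpow_zero]
  · right; rw [h, zpow_one]

theorem zpowers_comm {u z c : G} (hz : z ∈ Subgroup.zpowers u) (hc : c * u = u * c) : c * z = z * c := by
  obtain ⟨k, rfl⟩ := Subgroup.mem_zpowers_iff.mp hz
  exact (Commute.zpow_right (show Commute c u from hc) k).eq

theorem zpowers_sq {u z : G} (hu : u * u = 1) (hz : z ∈ Subgroup.zpowers u) : z * z = 1 := by
  rcases mem_zpowers_two hu hz with rfl | rfl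
  · rw [mul_one]
  · exact hu

/-- characteristic 2 in ambient terms -/
theorem mem_pCoreOf_of_comm {C : Subgroup G} (hC : Cfsg.IsOfCharacteristicTwo ↥C) {x : G} (hx : x ∈ C)
    (hcomm : ∀ r ∈ Cfsg.pCoreOf 2 C, r * x = x * r) : x ∈ Cfsg.pCoreOf 2 C := by
  have h1 : (⟨x, hx⟩ : ↥C) ∈ Subgroup.centralizer (Cfsg.pCore 2 ↥C : Set ↥C) := by
    rw [Subgroup.mem_centralizer_iff]
    intro r hr
    apply Subtype.ext
    have := hcomm (r : G) ⟨r, hr, rfl⟩
    simpa using this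
  exact ⟨⟨x, hx⟩, hC h1, rfl⟩

theorem conj_mem_pCoreOf {C : Subgroup G} {c r : G} (hc : c ∈ C) (hr : r ∈ Cfsg.pCoreOf 2 C) :
    c * r * c⁻¹ ∈ Cfsg.pCoreOf 2 C := by
  have h := cj_pCoreOf (p := 2) hc
  rw [← h, mem_cj]
  have : c⁻¹ * (c * r * c⁻¹) * c = r := by group
  rw [this]
  exact hr

theorem conj_mem_pCoreOf' {C : Subgroup G} {c r : G} (hc : c ∈ C) (hr : r ∈ Cfsg.pCoreOf 2 C) :
    c⁻¹ * r * c ∈ Cfsg.pCoreOf 2 C := by
  have := conj_mem_pCoreOf (C.inv_mem hc) hr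
  simpa using this

/-- the stability group of the chain `O_2(C) ≥ ⟨u⟩ ≥ 1` -/
def stabX (C : Subgroup G) (u : G) (hucen : ∀ c ∈ C, c * u = u * c) : Subgroup G where
  carrier := {g | g ∈ C ∧ ∀ r ∈ Cfsg.pCoreOf 2 C, g * r * g⁻¹ * r⁻¹ ∈ Subgroup.zpowers u}
  one_mem' := by
    refine ⟨C.one_mem, ?_⟩
    intro r _
    have : (1 : G) * r * 1⁻¹ * r⁻¹ = 1 := by group
    rw [this]
    exact Subgroup.one_mem _
  mul_mem' := by
    rintro g h ⟨hg, hg'⟩ ⟨hh, hh'⟩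
    refine ⟨C.mul_mem hg hh, ?_⟩
    intro r hr
    have hz1 := hh' r hr
    have hz2 := hg' r hr
    have hcomm : g * (h * r * h⁻¹ * r⁻¹) = (h * r * h⁻¹ * r⁻¹) * g := zpowers_comm hz1 (hucen g hg)
    have e : g * h * r * (g * h)⁻¹ * r⁻¹ = (h * r * h⁻¹ * r⁻¹) * (g * r * g⁻¹ * r⁻¹) := by
      calc g * h * r * (g * h)⁻¹ * r⁻¹ = (g * (h * r * h⁻¹ * r⁻¹)) * (r * g⁻¹ * r⁻¹) := by group
        _ = ((h * r * h⁻¹ * r⁻¹) * g) * (r * g⁻¹ * r⁻¹) := by rw [hcomm]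
        _ = (h * r * h⁻¹ * r⁻¹) * (g * r * g⁻¹ * r⁻¹) := by group
    rw [e]
    exact Subgroup.mul_mem _ hz1 hz2
  inv_mem' := by
    rintro g ⟨hg, hg'⟩
    refine ⟨C.inv_mem hg, ?_⟩
    intro r hr
    have hr' : g⁻¹ * r * g ∈ Cfsg.pCoreOf 2 C := conj_mem_pCoreOf' hg hr
    have hz := hg' _ hr'
    have e : g⁻¹ * r * g⁻¹⁻¹ * r⁻¹ = (g * (g⁻¹ * r * g) * g⁻¹ * (g⁻¹ * r * g)⁻¹)⁻¹ := by group
    rw [e]
    exact Subgroup.inv_mem _ hz

theorem mem_stabX {C : Subgroup G} {u : G} {hucen : ∀ c ∈ C, c * u = u * c} {g : G} :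
    g ∈ stabX C u hucen ↔
      g ∈ C ∧ ∀ r ∈ Cfsg.pCoreOf 2 C, g * r * g⁻¹ * r⁻¹ ∈ Subgroup.zpowers u := Iff.rfl

theorem stabX_le (C : Subgroup G) (u : G) (hucen : ∀ c ∈ C, c * u = u * c) :
    stabX C u hucen ≤ C := fun _ hg => hg.1

theorem le_normalizer_stabX (C : Subgroup G) (u : G) (hucen : ∀ c ∈ C, c * u = u * c) :
    C ≤ Subgroup.normalizer (stabX C u hucen : Set G) := by
  have key : ∀ c ∈ C, ∀ g ∈ stabX C u hucen, c * g * c⁻¹ ∈ stabX C u hucen := by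
    rintro c hc g ⟨hg, hg'⟩
    refine ⟨C.mul_mem (C.mul_mem hc hg) (C.inv_mem hc), ?_⟩
    intro r hr
    have hr' : c⁻¹ * r * c ∈ Cfsg.pCoreOf 2 C := conj_mem_pCoreOf' hc hr
    have hz := hg' _ hr'
    have hcomm := zpowers_comm hz (hucen c hc)
    have e : c * g * c⁻¹ * r * (c * g * c⁻¹)⁻¹ * r⁻¹ =
        g * (c⁻¹ * r * c) * g⁻¹ * (c⁻¹ * r * c)⁻¹ := by
      calc c * g * c⁻¹ * r * (c * g * c⁻¹)⁻¹ * r⁻¹
          = (c * (g * (c⁻¹ * r * c) * g⁻¹ * (c⁻¹ * r * c)⁻¹)) * c⁻¹ := by group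
        _ = ((g * (c⁻¹ * r * c) * g⁻¹ * (c⁻¹ * r * c)⁻¹) * c) * c⁻¹ := by rw [hcomm]
        _ = g * (c⁻¹ * r * c) * g⁻¹ * (c⁻¹ * r * c)⁻¹ := by group
    rw [e]
    exact hz
  intro c hc
  rw [Subgroup.mem_normalizer_iff]
  intro g
  constructor
  · intro hg
    exact key c hc g hg
  · intro hg
    have := key c⁻¹ (C.inv_mem hc) _ hg
    have e : c⁻¹ * (c * g * c⁻¹) * c⁻¹⁻¹ = g := by group
    rw [e] at this
    exact this

theorem sq_mem_pCoreOf {C : Subgroup G} (hC : Cfsg.IsOfCharacteristicTwo ↥C) {u : G} (hu : u * u = 1)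
    (hucen : ∀ c ∈ C, c * u = u * c) {g : G} (hg : g ∈ stabX C u hucen) :
    g * g ∈ Cfsg.pCoreOf 2 C := by
  obtain ⟨hgC, hg'⟩ := hg
  apply mem_pCoreOf_of_comm hC (C.mul_mem hgC hgC)
  intro r hr
  have hz := hg' r hr
  have hcomm := zpowers_comm hz (hucen g hgC)
  have hsq := zpowers_sq hu hz
  -- g r g⁻¹ = z r
  have e : g * g * r * (g * g)⁻¹ * r⁻¹ = (g * (g * r * g⁻¹ * r⁻¹)) * (r * g⁻¹ * r⁻¹) := by group
  have e2 : g * g * r * (g * g)⁻¹ * r⁻¹ = 1 := by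
    rw [e, hcomm]
    calc (g * r * g⁻¹ * r⁻¹) * g * (r * g⁻¹ * r⁻¹)
        = (g * r * g⁻¹ * r⁻¹) * (g * r * g⁻¹ * r⁻¹) := by group
      _ = 1 := hsq
  have e3 : g * g * r = r * (g * g) := by
    have : g * g * r = (g * g * r * (g * g)⁻¹ * r⁻¹) * (r * (g * g)) := by group
    rw [this, e2, one_mul]
  exact e3.symm

theorem isPGroup_stabX [Finite G] {C : Subgroup G} (hC : Cfsg.IsOfCharacteristicTwo ↥C) {u : G} (hu : u * u = 1)
    (hucen : ∀ c ∈ C, c * u = u * c) : IsPGroup 2 ↥(stabX C u hucen) := by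
  intro g
  have h1 := sq_mem_pCoreOf hC hu hucen g.2
  obtain ⟨k, hk⟩ := (isPGroup_pCoreOf (p := 2) C) ⟨(g : G) * (g : G), h1⟩
  refine ⟨k + 1, ?_⟩
  apply Subtype.ext
  have hk' := congrArg Subtype.val hk
  simp only [Subgroup.coe_pow, Subgroup.coe_one] at hk' ⊢
  rw [pow_succ, pow_mul', pow_two]
  exact hk'

/-- An element of `C` stabilizing the chain `O_2(C) ≥ ⟨u⟩ ≥ 1` lies in `O_2(C)`. -/
theorem mem_pCoreOf_of_stab [Finite G] {C : Subgroup G} (hC : Cfsg.IsOfCharacteristicTwo ↥C) {u : G}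
    (hu : u * u = 1) (hucen : ∀ c ∈ C, c * u = u * c) {x : G} (hx : x ∈ C)
    (hxR : ∀ r ∈ Cfsg.pCoreOf 2 C, x * r * x⁻¹ * r⁻¹ ∈ Subgroup.zpowers u) :
    x ∈ Cfsg.pCoreOf 2 C := by
  have h1 : stabX C u hucen ≤ Cfsg.pCoreOf 2 C :=
    le_pCoreOf (stabX_le C u hucen) (isPGroup_stabX hC hu hucen) (le_normalizer_stabX C u hucen)
  exact h1 ⟨hx, hxR⟩

section klein

variable {U : Subgroup G}

theorem klein_sq (hU : IsKleinFour ↥U) {x : G} (hx : x ∈ U) : x * x = 1 := by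
  have := IsKleinFour.mul_self (⟨x, hx⟩ : ↥U)
  exact congrArg Subtype.val this

theorem klein_comm (hU : IsKleinFour ↥U) {x y : G} (hx : x ∈ U) (hy : y ∈ U) : x * y = y * x := by
  have h := (IsKleinFour.isMulCommutative (G := ↥U)).is_comm.comm ⟨x, hx⟩ ⟨y, hy⟩
  exact congrArg Subtype.val h

/-- the elements of a four-group -/
theorem klein_cases (hU : IsKleinFour ↥U) {a b : G} (ha : a ∈ U) (hb : b ∈ U) (ha1 : a ≠ 1) (hb1 : b ≠ 1)
    (hab : a ≠ b) {y : G} (hy : y ∈ U) : y = a * b ∨ y = a ∨ y = b ∨ y = 1 := by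
  classical
  have hfin : Finite ↥U := Nat.finite_of_card_ne_zero (by rw [hU.card_four]; norm_num)
  have : Fintype ↥U := Fintype.ofFinite _
  have h := IsKleinFour.eq_finset_univ (G := ↥U) (x := ⟨a, ha⟩) (y := ⟨b, hb⟩)
    (fun h => ha1 (congrArg Subtype.val h)) (fun h => hb1 (congrArg Subtype.val h))
    (fun h => hab (congrArg Subtype.val h))
  have hm : (⟨y, hy⟩ : ↥U) ∈ (Finset.univ : Finset ↥U) := Finset.mem_univ _
  rw [← h] at hm
  simp only [Finset.mem_insert, Finset.mem_singleton] at hm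
  rcases hm with h | h | h | h
  · left; exact congrArg Subtype.val h
  · right; left; exact congrArg Subtype.val h
  · right; right; left; exact congrArg Subtype.val h
  · right; right; right; exact congrArg Subtype.val h

/-- An element normalizing the four-group `U` and fixing its involution `u` moves every element of `U` by an
element of `⟨u⟩`. -/
theorem conj_mul_inv_mem_zpowers (hU : IsKleinFour ↥U) {u : G} (hu : u ∈ U) (hu1 : u ≠ 1)
    {t : G} (htU : t ∈ Subgroup.normalizer (U : Set G)) (htu : t * u = u * t) {x : G} (hx : x ∈ U) :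
    t * x * t⁻¹ * x⁻¹ ∈ Subgroup.zpowers u := by
  by_cases hx1 : x = 1
  · subst hx1
    have : t * 1 * t⁻¹ * (1 : G)⁻¹ = 1 := by group
    rw [this]; exact Subgroup.one_mem _
  by_cases hxu : x = u
  · subst hxu
    have : t * x * t⁻¹ * x⁻¹ = 1 := by
      rw [htu]; group
    rw [this]; exact Subgroup.one_mem _
  have hy : t * x * t⁻¹ ∈ U := (Subgroup.mem_normalizer_iff.mp htU x).mp hx
  rcases klein_cases hU hu hx hu1 hx1 (fun h => hxu h.symm) hy with h | h | h | h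
  · have : t * x * t⁻¹ * x⁻¹ = u := by rw [h]; group
    rw [this]; exact Subgroup.mem_zpowers u
  · exfalso
    apply hxu
    have : x = t⁻¹ * (t * x * t⁻¹) * t := by group
    rw [this, h]
    have : t⁻¹ * u * t = t⁻¹ * (u * t) := by group
    rw [this, ← htu]; group
  · have : t * x * t⁻¹ * x⁻¹ = 1 := by rw [h]; group
    rw [this]; exact Subgroup.one_mem _
  · exfalso
    apply hx1
    have : x = t⁻¹ * (t * x * t⁻¹) * t := by group
    rw [this, h]; group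

/-- an element centralizing two distinct involutions of a four-group centralizes it -/
theorem comm_of_comm_two (hU : IsKleinFour ↥U) {a b : G} (ha : a ∈ U) (hb : b ∈ U) (ha1 : a ≠ 1) (hb1 : b ≠ 1)
    (hab : a ≠ b) {g : G} (hga : g * a = a * g) (hgb : g * b = b * g) {y : G} (hy : y ∈ U) :
    g * y = y * g := by
  rcases klein_cases hU ha hb ha1 hb1 hab hy with rfl | rfl | rfl | rfl
  · rw [← mul_assoc, hga, mul_assoc, hgb, mul_assoc]
  · exact hga
  · exact hgb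
  · rw [mul_one, one_mul]

end klein

end Cfsg.Agent.Lead.FourNorm
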