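import Mathlib
import Cfsg.Prelude.Def_CaseTheorems
import Cfsg.Agent.Lead.FourNormA

/-!
Lead: S1957, part B.  Index of `C_P(U)` in `P` for a normal four-subgroup `U` of a 2-group `P`; involutions in a
cyclic centre; index-two facts in ambient terms.
-/

set_option autoImplicit false

namespace Cfsg.Agent.Lead.FourNorm

open Cfsg Cfsg.Agent.Lead.LLem

variable {G : Type*} [Group G]

/-- A nontrivial subgroup `U` of a finite `2`-subgroup `P` normalized by `P` contains a nontrivial element central
in `P`. -/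
theorem exists_central_mem [Finite G] {P U : Subgroup G} (hP : IsPGroup 2 ↥P) (hUP : U ≤ P)
    (hUn : P ≤ Subgroup.normalizer (U : Set G)) (hU : U ≠ ⊥) :
    ∃ z ∈ U, z ≠ 1 ∧ ∀ g ∈ P, g * z = z * g := by
  have : Fact (Nat.Prime 2) := ⟨Nat.prime_two⟩
  let M : Subgroup ↥P := U.subgroupOf P
  have hMn : M.Normal := by
    constructor
    intro n hn g
    rw [Subgroup.mem_subgroupOf] at hn ⊢
    have := (Subgroup.mem_normalizer_iff.mp (hUn g.2) n).mp hn
    simpa using this
  have hMne : M ≠ ⊥ := by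
    intro h
    apply hU
    rw [eq_bot_iff]
    intro x hx
    have : (⟨x, hUP hx⟩ : ↥P) ∈ M := by rw [Subgroup.mem_subgroupOf]; exact hx
    rw [h, Subgroup.mem_bot] at this
    rw [Subgroup.mem_bot]
    exact congrArg Subtype.val this
  have hP' : IsPGroup 2 (ConjAct ↥P) := hP
  have hcard : 2 ∣ Nat.card M := by
    obtain ⟨k, hk⟩ := (hP.to_subgroup M).exists_card_eq
    have hk0 : k ≠ 0 := by
      rintro rfl
      rw [pow_zero] at hk
      exact hMne (Subgroup.card_eq_one.1 hk)
    rw [hk]
    exact dvd_pow_self 2 hk0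
  have h1 : (1 : M) ∈ MulAction.fixedPoints (ConjAct ↥P) M := by
    intro g
    exact smul_one g
  obtain ⟨b, hb, hne⟩ := hP'.exists_fixed_point_of_prime_dvd_card_of_fixed_point M hcard h1
  refine ⟨((b : ↥P) : G), ?_, ?_, ?_⟩
  · have := b.2
    rw [Subgroup.mem_subgroupOf] at this
    exact this
  · intro h
    apply hne
    apply Subtype.ext
    apply Subtype.ext
    rw [h]
    rfl
  · intro g hg
    have h2 := hb (ConjAct.toConjAct (⟨g, hg⟩ : ↥P))
    have h3 : ((ConjAct.toConjAct (⟨g, hg⟩ : ↥P) • b : M) : ↥P) = ⟨g, hg⟩ * (b : ↥P) * (⟨g, hg⟩ : ↥P)⁻¹ := by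
      rfl
    rw [h2] at h3
    have h4 := congrArg Subtype.val h3
    simp only [Subgroup.coe_mul, Subgroup.coe_inv] at h4
    calc g * ((b : ↥P) : G) = (g * ((b : ↥P) : G) * g⁻¹) * g := by group
      _ = ((b : ↥P) : G) * g := by rw [← h4]

/-- `|P| ≤ 2 |C_P(U)|` for a four-group `U` normalized by the finite 2-group `P ≥ U`. -/
theorem card_le_two_mul [Finite G] {P U : Subgroup G} (hP : IsPGroup 2 ↥P) (hUP : U ≤ P)
    (hUn : P ≤ Subgroup.normalizer (U : Set G)) (hU : IsKleinFour ↥U) :
    Nat.card P ≤ 2 * Nat.card ↥(P ⊓ Subgroup.centralizer (U : Set G)) := by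
  have hUne : U ≠ ⊥ := by
    intro h
    have := hU.card_four
    rw [h] at this
    simp at this
  obtain ⟨z, hzU, hz1, hzc⟩ := exists_central_mem hP hUP hUn hUne
  -- pick `x ∈ U`, `x ≠ 1`, `x ≠ z`
  have hex : ∃ x ∈ U, x ≠ 1 ∧ x ≠ z := by
    by_contra hcon
    push_neg at hcon
    have hsub : ∀ y : ↥U, y = 1 ∨ y = ⟨z, hzU⟩ := by
      intro y
      by_cases hy : (y : G) = 1
      · left; exact Subtype.ext hy
      · right; exact Subtype.ext (hcon y y.2 hy)
    classical
    have hfin : Finite ↥U := Nat.finite_of_card_ne_zero (by rw [hU.card_four]; norm_num)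
    have : Fintype ↥U := Fintype.ofFinite _
    have hc : Nat.card ↥U ≤ 2 := by
      rw [Nat.card_eq_fintype_card]
      calc Fintype.card ↥U = (Finset.univ : Finset ↥U).card := rfl
        _ ≤ ({1, ⟨z, hzU⟩} : Finset ↥U).card := by
            apply Finset.card_le_card
            intro y _
            rcases hsub y with h | h
            · rw [h]; simp
            · rw [h]; simp
        _ ≤ 2 := Finset.card_le_two
    rw [hU.card_four] at hc
    omega
  obtain ⟨x, hxU, hx1, hxz⟩ := hex
  set P0 : Subgroup G := P ⊓ Subgroup.centralizer (U : Set G) with hP0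
  have hP0P : P0 ≤ P := inf_le_left
  -- membership in `P0`
  have hmem : ∀ g ∈ P, g * x = x * g → g ∈ P0 := by
    intro g hg hgx
    refine Subgroup.mem_inf.mpr ⟨hg, ?_⟩
    rw [Subgroup.mem_centralizer_iff]
    intro y hy
    exact (comm_of_comm_two hU hzU hxU hz1 hx1 (fun h => hxz h.symm) (hzc g hg) hgx hy).symm
  have hmove : ∀ g ∈ P, g ∉ P0 → g * x * g⁻¹ = z * x := by
    intro g hg hg0
    have h1 := conj_mul_inv_mem_zpowers hU hzU hz1 (hUn hg) (hzc g hg) hxU
    rcases mem_zpowers_two (klein_sq hU hzU) h1 with h | h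
    · exfalso
      apply hg0
      apply hmem g hg
      calc g * x = (g * x * g⁻¹ * x⁻¹) * (x * g) := by group
        _ = x * g := by rw [h, one_mul]
    · calc g * x * g⁻¹ = (g * x * g⁻¹ * x⁻¹) * x := by group
        _ = z * x := by rw [h]
  by_cases hall : P ≤ P0
  · have : Nat.card P ≤ Nat.card P0 := Nat.le_of_dvd Nat.card_pos (Subgroup.card_dvd_of_le hall)
    omega
  · obtain ⟨g0, hg0P, hg0⟩ := SetLike.not_le_iff_exists.mp hall
    have hidx : (P0.subgroupOf P).index = 2 := by
      rw [Subgroup.index_eq_two_iff]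
      refine ⟨⟨g0, hg0P⟩, ?_⟩
      intro b
      by_cases hb : (b : G) ∈ P0
      · right
        refine ⟨by rw [Subgroup.mem_subgroupOf]; exact hb, ?_⟩
        rw [Subgroup.mem_subgroupOf]
        intro hbg
        apply hg0
        have : g0 = (b : G)⁻¹ * ((b : G) * g0) := by group
        rw [this]
        exact P0.mul_mem (P0.inv_mem hb) hbg
      · left
        refine ⟨?_, by rw [Subgroup.mem_subgroupOf]; exact hb⟩
        rw [Subgroup.mem_subgroupOf]
        apply hmem _ (P.mul_mem b.2 hg0P)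
        have e1 := hmove g0 hg0P hg0
        have e2 := hmove (b : G) b.2 hb
        have hzz : z * z = 1 := klein_sq hU hzU
        have hbz := hzc (b : G) b.2
        change (b : G) * g0 * x = x * ((b : G) * g0)
        calc (b : G) * g0 * x = (b : G) * (g0 * x * g0⁻¹) * g0 := by group
          _ = (b : G) * (z * x) * g0 := by rw [e1]
          _ = ((b : G) * z) * x * g0 := by group
          _ = (z * (b : G)) * x * g0 := by rw [hbz]
          _ = z * ((b : G) * x * (b : G)⁻¹) * ((b : G) * g0) := by group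
          _ = z * (z * x) * ((b : G) * g0) := by rw [e2]
          _ = (z * z) * x * ((b : G) * g0) := by group
          _ = x * ((b : G) * g0) := by rw [hzz, one_mul]
    have h1 := (P0.subgroupOf P).card_mul_index
    rw [hidx] at h1
    have h2 : Nat.card ↥(P0.subgroupOf P) = Nat.card ↥P0 :=
      Nat.card_congr (Subgroup.subgroupOfEquivOfLe hP0P).toEquiv
    rw [h2] at h1
    omega

/-- In a cyclic group there is at most one involution. -/
theorem involution_unique_of_isCyclic {Z : Type*} [Group Z] [Finite Z] [IsCyclic Z] {a b : Z}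
    (ha : a * a = 1) (ha1 : a ≠ 1) (hb : b * b = 1) : b = 1 ∨ b = a := by
  classical
  have : Fintype Z := Fintype.ofFinite _
  have h := IsCyclic.card_pow_eq_one_le (α := Z) (n := 2) (by norm_num)
  by_contra hcon
  push_neg at hcon
  have hsub : ({1, a, b} : Finset Z) ⊆ Finset.univ.filter (fun c : Z => c ^ 2 = 1) := by
    intro c hc
    simp only [Finset.mem_insert, Finset.mem_singleton] at hc
    simp only [Finset.mem_filter, Finset.mem_univ, true_and]
    rcases hc with rfl | rfl | rfl
    · simp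
    · rw [pow_two, ha]
    · rw [pow_two, hb]
  have hcard : ({1, a, b} : Finset Z).card = 3 := by
    rw [Finset.card_insert_of_notMem, Finset.card_insert_of_notMem, Finset.card_singleton]
    · simp only [Finset.mem_singleton]
      exact fun h => hcon.2 h.symm
    · simp only [Finset.mem_insert, Finset.mem_singleton]
      rintro (h | h)
      · exact ha1 h.symm
      · exact hcon.1 h.symm
  have := Finset.card_le_card hsub
  omega

/-- involutions in the centre of a subgroup with cyclic centre -/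
theorem central_involution_unique [Finite G] {T : Subgroup G}
    (hcyc : IsCyclic ↥(T ⊓ Subgroup.centralizer (T : Set G))) {a b : G}
    (ha : a ∈ T ⊓ Subgroup.centralizer (T : Set G)) (hb : b ∈ T ⊓ Subgroup.centralizer (T : Set G))
    (ha2 : a * a = 1) (ha1 : a ≠ 1) (hb2 : b * b = 1) : b = 1 ∨ b = a := by
  have h := involution_unique_of_isCyclic (Z := ↥(T ⊓ Subgroup.centralizer (T : Set G)))
    (a := ⟨a, ha⟩) (b := ⟨b, hb⟩) (Subtype.ext ha2) (fun h => ha1 (congrArg Subtype.val h)) (Subtype.ext hb2)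
  rcases h with h | h
  · left; exact congrArg Subtype.val h
  · right; exact congrArg Subtype.val h

/-- transport along conjugation -/
theorem central_involution_unique_cj [Finite G] {P : Subgroup G}
    (hcyc : IsCyclic ↥(P ⊓ Subgroup.centralizer (P : Set G))) (g : G) {a b : G}
    (ha : a ∈ cj g P) (hac : ∀ t ∈ cj g P, t * a = a * t) (hb : b ∈ cj g P) (hbc : ∀ t ∈ cj g P, t * b = b * t)
    (ha2 : a * a = 1) (ha1 : a ≠ 1) (hb2 : b * b = 1) : b = 1 ∨ b = a := by
  have hmem : ∀ c, c ∈ cj g P → (∀ t ∈ cj g P, t * c = c * t) →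
      g⁻¹ * c * g ∈ P ⊓ Subgroup.centralizer (P : Set G) := by
    intro c hc hcc
    refine Subgroup.mem_inf.mpr ⟨mem_cj.mp hc, ?_⟩
    rw [Subgroup.mem_centralizer_iff]
    intro y hy
    have hy' : g * y * g⁻¹ ∈ cj g P := by
      rw [mem_cj]
      have : g⁻¹ * (g * y * g⁻¹) * g = y := by group
      rw [this]; exact hy
    have := hcc _ hy'
    calc y * (g⁻¹ * c * g) = g⁻¹ * ((g * y * g⁻¹) * c) * g := by group
      _ = g⁻¹ * (c * (g * y * g⁻¹)) * g := by rw [this]
      _ = g⁻¹ * c * g * y := by group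
  have h := central_involution_unique hcyc (hmem a ha hac) (hmem b hb hbc)
    (by calc g⁻¹ * a * g * (g⁻¹ * a * g) = g⁻¹ * (a * a) * g := by group
          _ = 1 := by rw [ha2]; group)
    (by intro h
        apply ha1
        calc a = g * (g⁻¹ * a * g) * g⁻¹ := by group
          _ = 1 := by rw [h]; group)
    (by calc g⁻¹ * b * g * (g⁻¹ * b * g) = g⁻¹ * (b * b) * g := by group
          _ = 1 := by rw [hb2]; group)
  rcases h with h | h
  · left
    calc b = g * (g⁻¹ * b * g) * g⁻¹ := by group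
      _ = 1 := by rw [h]; group
  · right
    calc b = g * (g⁻¹ * b * g) * g⁻¹ := by group
      _ = g * (g⁻¹ * a * g) * g⁻¹ := by rw [h]
      _ = a := by group

section indextwo

variable {T P0 : Subgroup G}

/-- index two in ambient terms -/
theorem index_two_of_card [Finite G] (h0 : P0 ≤ T) (hc : Nat.card T = 2 * Nat.card P0) :
    (P0.subgroupOf T).index = 2 := by
  have h1 := (P0.subgroupOf T).card_mul_index
  have h2 : Nat.card ↥(P0.subgroupOf T) = Nat.card ↥P0 :=
    Nat.card_congr (Subgroup.subgroupOfEquivOfLe h0).toEquiv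
  rw [h2, hc] at h1
  have hpos : 0 < Nat.card P0 := Nat.card_pos
  have : Nat.card ↥P0 * (P0.subgroupOf T).index = Nat.card ↥P0 * 2 := by rw [h1]; ring
  exact Nat.eq_of_mul_eq_mul_left hpos this

theorem mul_mem_of_index_two (hidx : (P0.subgroupOf T).index = 2) {s t : G} (hs : s ∈ T) (ht : t ∈ T)
    (hs0 : s ∉ P0) (ht0 : t ∉ P0) : s * t ∈ P0 := by
  have h := Subgroup.mul_mem_iff_of_index_two hidx (a := (⟨s, hs⟩ : ↥T)) (b := (⟨t, ht⟩ : ↥T))
  simp only [Subgroup.mem_subgroupOf] at h
  have : (((⟨s, hs⟩ : ↥T) * (⟨t, ht⟩ : ↥T) : ↥T) : G) ∈ P0 := by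
    rw [h]
    exact ⟨fun h' => absurd h' hs0, fun h' => absurd h' ht0⟩
  simpa using this

theorem conj_mem_of_index_two (hidx : (P0.subgroupOf T).index = 2) (h0 : P0 ≤ T) {t h : G} (ht : t ∈ T)
    (hh : h ∈ P0) : t * h * t⁻¹ ∈ P0 := by
  have hn : (P0.subgroupOf T).Normal := Subgroup.normal_of_index_eq_two hidx
  have := hn.conj_mem ⟨h, h0 hh⟩ (by rw [Subgroup.mem_subgroupOf]; exact hh) ⟨t, ht⟩
  rw [Subgroup.mem_subgroupOf] at this
  simpa using this

end indextwo

end Cfsg.Agent.Lead.FourNorm
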