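import Mathlib
import Cfsg.Agent.Lead.LLemA

/-!
Lead: the minimal parabolic setting for the L-Lemma (S2834): Sylow subgroups and their unique maximal overgroups,
maximal Sylow intersections.
-/

set_option autoImplicit false

namespace Cfsg.Agent.Lead.LLem

open Cfsg

theorem exists_max_nat (P : ℕ → Prop) (b : ℕ) (hb : ∀ n, P n → n ≤ b) (hne : ∃ n, P n) :
    ∃ n, P n ∧ ∀ m, P m → m ≤ n := by
  classical
  obtain ⟨n₀, hn₀⟩ := hne
  refine ⟨Nat.findGreatest P b, Nat.findGreatest_spec (hb n₀ hn₀) hn₀, fun m hm => ?_⟩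
  exact Nat.le_findGreatest (hb m hm) hm

theorem exists_min_nat (P : ℕ → Prop) (hne : ∃ n, P n) :
    ∃ n, P n ∧ ∀ m, P m → n ≤ m := by
  classical
  exact ⟨Nat.find hne, Nat.find_spec hne, fun m hm => Nat.find_min' hne hm⟩

variable {G : Type*} [Group G]

/-- `P` is a Sylow `p`-subgroup of the subgroup `X` -/
def IsSylIn (p : ℕ) (P X : Subgroup G) : Prop :=
  P ≤ X ∧ IsPGroup p P ∧ ∀ R : Subgroup G, R ≤ X → IsPGroup p R → P ≤ R → R = P

theorem IsSylIn.mono {p : ℕ} {P X Y : Subgroup G} (h : IsSylIn p P X) (hPY : P ≤ Y) (hYX : Y ≤ X) :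
    IsSylIn p P Y :=
  ⟨hPY, h.2.1, fun R hR hRp hPR => h.2.2 R (hR.trans hYX) hRp hPR⟩

section fin

variable [Finite G] {p : ℕ} [Fact p.Prime]

theorem exists_isSylIn (X D : Subgroup G) (hDX : D ≤ X) (hD : IsPGroup p D) :
    ∃ P, IsSylIn p P X ∧ D ≤ P := by
  obtain ⟨T, h1, h2, h3, h4, -⟩ := Cfsg.Agent.Helper5.exists_sylow_of_subgroup X D hDX hD
  exact ⟨T, ⟨h2, h3, h4⟩, h1⟩

theorem IsSylIn.inf_eq {P X : Subgroup G} (h : IsSylIn p P X) (T : Sylow p G) (hPT : P ≤ T) :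
    X ⊓ (T : Subgroup G) = P :=
  h.2.2 _ inf_le_left (T.isPGroup'.to_le inf_le_right) (le_inf h.1 hPT)

theorem sylow_cj (T : Sylow p G) (g : G) : ∃ T₁ : Sylow p G, (T₁ : Subgroup G) = cj g T := by
  refine ⟨g • T, ?_⟩
  rw [Sylow.coe_subgroup_smul]
  ext x
  rw [mem_cj, Subgroup.mem_pointwise_smul_iff_inv_smul_mem]
  simp [MulAut.smul_def, mul_assoc]

theorem sylow_conj (S T : Sylow p G) : ∃ g : G, (T : Subgroup G) = cj g S := by
  obtain ⟨g, hg⟩ := MulAction.exists_smul_eq G S T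
  refine ⟨g, ?_⟩
  rw [← hg, Sylow.coe_subgroup_smul]
  ext x
  rw [mem_cj, Subgroup.mem_pointwise_smul_iff_inv_smul_mem]
  simp [MulAut.smul_def, mul_assoc]

/-- a `p`-subgroup of `C`, where `C` contains a Sylow `p`-subgroup of `G`, lies in a Sylow `p`-subgroup of `G`
contained in `C` -/
theorem exists_sylow_le (C : Subgroup G) (T₀ : Sylow p G) (hT₀ : (T₀ : Subgroup G) ≤ C)
    (R : Subgroup G) (hRC : R ≤ C) (hR : IsPGroup p R) :
    ∃ T₁ : Sylow p G, R ≤ T₁ ∧ (T₁ : Subgroup G) ≤ C := by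
  obtain ⟨k, hkC, hk⟩ := Cfsg.Agent.Helper5.exists_conj_le_sylow_of_le T₀ C hT₀ R hRC hR
  obtain ⟨T₁, hT₁⟩ := sylow_cj T₀ k⁻¹
  refine ⟨T₁, ?_, ?_⟩
  · intro x hx
    rw [hT₁, mem_cj]
    simpa using hk x hx
  · rw [hT₁]
    exact cj_le_of_mem (C.inv_mem hkC) hT₀

theorem card_lt_of_ne_top {X : Subgroup G} (h : X ≠ ⊤) : Nat.card X < Nat.card G := by
  rcases lt_or_ge (Nat.card X) (Nat.card G) with h1 | h1
  · exact h1
  · exact absurd (Subgroup.card_eq_iff_eq_top X |>.mp (le_antisymm (Subgroup.card_le_card_group X) h1)) h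

theorem eq_of_le_of_card_le {X Y : Subgroup G} (h : X ≤ Y) (hc : Nat.card Y ≤ Nat.card X) : X = Y :=
  Subgroup.eq_of_le_of_card_ge h hc

theorem card_lt_card_of_lt' {X Y : Subgroup G} (h : X < Y) : Nat.card X < Nat.card Y := by
  rcases lt_or_ge (Nat.card X) (Nat.card Y) with h1 | h1
  · exact h1
  · exact absurd (eq_of_le_of_card_le h.le h1) h.ne


theorem IsSylIn.toSylow {P X : Subgroup G} (h : IsSylIn p P X) :
    ∃ T : Sylow p ↥X, (T : Subgroup ↥X) = P.subgroupOf X := by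
  refine ⟨⟨P.subgroupOf X, h.2.1.comap_subtype, ?_⟩, rfl⟩
  intro Q hQ hPQ
  have h1 : Q.map X.subtype = P := by
    apply h.2.2 _ _ (hQ.map _)
    · intro x hx
      exact ⟨⟨x, h.1 hx⟩, hPQ (by rw [Subgroup.mem_subgroupOf]; exact hx), rfl⟩
    · rintro _ ⟨y, -, rfl⟩; exact y.2
  ext y
  rw [Subgroup.mem_subgroupOf, ← h1]
  constructor
  · intro hy; exact ⟨y, hy, rfl⟩
  · rintro ⟨z, hz, hzy⟩
    have : z = y := Subtype.ext hzy
    rwa [← this]

theorem map_subtype_eq_top {Y : Subgroup G} {Z : Subgroup ↥Y} (h : Z.map Y.subtype = Y) : Z = ⊤ := by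
  rw [eq_top_iff]
  intro y _
  have : (y : G) ∈ Z.map Y.subtype := by rw [h]; exact y.2
  obtain ⟨z, hz, hzy⟩ := this
  have : z = y := Subtype.ext hzy
  rwa [← this]

theorem le_map_subtype {Y P : Subgroup G} {Z : Subgroup ↥Y} (hPY : P ≤ Y) (h : P.subgroupOf Y ≤ Z) :
    P ≤ Z.map Y.subtype := by
  intro x hx
  exact ⟨⟨x, hPY hx⟩, h (by rw [Subgroup.mem_subgroupOf]; exact hx), rfl⟩

theorem map_subtype_le' {Y : Subgroup G} (Z : Subgroup ↥Y) : Z.map Y.subtype ≤ Y := by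
  rintro _ ⟨y, -, rfl⟩; exact y.2

theorem le_subgroupOf_of_map_le {Y C : Subgroup G} {Z : Subgroup ↥Y} (h : Z.map Y.subtype ≤ C) :
    Z ≤ C.subgroupOf Y := by
  intro z hz
  rw [Subgroup.mem_subgroupOf]
  exact h ⟨z, hz, rfl⟩

theorem le_normalizer_of_subgroupOf {Y P : Subgroup G} (hPY : P ≤ Y)
    (h : Subgroup.normalizer ((P.subgroupOf Y : Subgroup ↥Y) : Set ↥Y) = ⊤) :
    Y ≤ Subgroup.normalizer (P : Set G) := by
  apply le_normalizer_of_cj_le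
  intro y hy x hx
  rw [mem_cj] at hx
  have hmem : (⟨y, hy⟩ : ↥Y) ∈ Subgroup.normalizer ((P.subgroupOf Y : Subgroup ↥Y) : Set ↥Y) := by
    rw [h]; trivial
  rw [Subgroup.mem_normalizer_iff] at hmem
  have h1 := (hmem ⟨y⁻¹ * x * y, hPY hx⟩).mp (by rw [Subgroup.mem_subgroupOf]; exact hx)
  rw [Subgroup.mem_subgroupOf] at h1
  simpa [mul_assoc] using h1

end fin

end Cfsg.Agent.Lead.LLem
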