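import Mathlib
import Cfsg.Prelude.Def_CaseTheorems
import Cfsg.Agent.S0058
import Cfsg.Agent.Lead.LLemB
import Cfsg.Agent.Lead.FourNormB

/-!
Lead: S1957, part C.  In a group of characteristic 2 type, a four-subgroup `U` normal in a Sylow 2-subgroup `P`
(central in `P` unless `Z(P)` is cyclic) lies in `O_2(C_G(u))` for each of its involutions `u`; hence it
centralizes every odd-order subgroup it normalizes.
-/

set_option autoImplicit false

namespace Cfsg.Agent.Lead.FourNorm

open Cfsg Cfsg.Agent.Lead.LLem

variable {G : Type*} [Group G]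

theorem normalizer_zpowers_comm {u c : G} (hu2 : u * u = 1) (hu1 : u ≠ 1)
    (hc : c ∈ Subgroup.normalizer (Subgroup.zpowers u : Set G)) : c * u = u * c := by
  have h := (Subgroup.mem_normalizer_iff.mp hc u).mp (Subgroup.mem_zpowers u)
  rcases mem_zpowers_two hu2 h with h | h
  · exfalso
    apply hu1
    calc u = c⁻¹ * (c * u * c⁻¹) * c := by group
      _ = 1 := by rw [h]; group
  · calc c * u = (c * u * c⁻¹) * c := by group
      _ = u * c := by rw [h]

theorem mem_normalizer_zpowers_of_comm {u g : G} (hg : g * u = u * g) :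
    g ∈ Subgroup.normalizer (Subgroup.zpowers u : Set G) := by
  apply Subgroup.centralizer_le_normalizer
  rw [Subgroup.mem_centralizer_iff]
  intro y hy
  exact (zpowers_comm hy hg).symm

variable [Finite G]

/-- `U ≤ O_2(C_G(u))` -/
theorem le_pCoreOf_normalizer (h2 : Cfsg.IsCharacteristicTwoType G) (P : Sylow 2 G) {U : Subgroup G}
    (hUP : U ≤ (P : Subgroup G)) (hUn : (P : Subgroup G) ≤ Subgroup.normalizer (U : Set G))
    (hU4 : IsKleinFour ↥U)
    (hUZ : ¬ IsCyclic ↥((P : Subgroup G) ⊓ Subgroup.centralizer ((P : Subgroup G) : Set G)) →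
      U ≤ Subgroup.centralizer ((P : Subgroup G) : Set G))
    {u : G} (hu : u ∈ U) (hu1 : u ≠ 1) :
    U ≤ Cfsg.pCoreOf 2 (Subgroup.normalizer (Subgroup.zpowers u : Set G)) := by
  have : Fact (Nat.Prime 2) := ⟨Nat.prime_two⟩
  set C : Subgroup G := Subgroup.normalizer (Subgroup.zpowers u : Set G) with hCdef
  have hu2 : u * u = 1 := klein_sq hU4 hu
  have hucen : ∀ c ∈ C, c * u = u * c := fun c hc => normalizer_zpowers_comm hu2 hu1 hc
  have hZ2 : IsPGroup 2 ↥(Subgroup.zpowers u) := by
    apply IsPGroup.of_card (n := 1)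
    rw [Nat.card_zpowers, pow_one]
    exact orderOf_eq_prime (by rw [pow_two]; exact hu2) hu1
  have hZne : Subgroup.zpowers u ≠ ⊥ := by
    intro h
    apply hu1
    have := Subgroup.mem_zpowers u
    rw [h, Subgroup.mem_bot] at this
    exact this
  have hC : Cfsg.IsOfCharacteristicTwo ↥C := h2.2 _ hZ2 hZne
  set R : Subgroup G := Cfsg.pCoreOf 2 C with hRdef
  set P0 : Subgroup G := (P : Subgroup G) ⊓ Subgroup.centralizer (U : Set G) with hP0def
  have hP0P : P0 ≤ (P : Subgroup G) := inf_le_left
  have hP0cent : ∀ g ∈ P0, ∀ y ∈ U, g * y = y * g := by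
    intro g hg y hy
    have h := Subgroup.mem_centralizer_iff.mp (Subgroup.mem_inf.mp hg).2 y hy
    exact h.symm
  have hP0C : P0 ≤ C := fun g hg => mem_normalizer_zpowers_of_comm (hP0cent g hg u hu)
  have hUP0 : U ≤ P0 := by
    intro x hx
    refine Subgroup.mem_inf.mpr ⟨hUP hx, ?_⟩
    rw [Subgroup.mem_centralizer_iff]
    intro y hy
    exact klein_comm hU4 hy hx
  have hUC : U ≤ C := hUP0.trans hP0C
  have hRC : R ≤ C := pCoreOf_le C
  have hP2 : IsPGroup 2 ↥(P : Subgroup G) := P.isPGroup'
  have hP02 : IsPGroup 2 ↥P0 := hP2.to_le hP0P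
  by_cases hR : R ≤ P0
  · -- `R` centralizes `U`
    intro x hx
    apply mem_pCoreOf_of_comm hC (hUC hx)
    intro r hr
    exact hP0cent r (hR hr) x hx
  · -- `T = R P0` is strictly larger than `P0`
    set T : Subgroup G := R ⊔ P0 with hTdef
    have hRT : R ≤ T := le_sup_left
    have hP0T : P0 ≤ T := le_sup_right
    have hTC : T ≤ C := sup_le hRC hP0C
    have hT2 : IsPGroup 2 ↥T := by
      apply IsPGroup.to_sup_of_normal_left' (isPGroup_pCoreOf C) hP02
      intro g hg
      rw [Subgroup.mem_normalizer_iff]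
      intro r
      constructor
      · intro hr
        exact conj_mem_pCoreOf (hP0C hg) hr
      · intro hr
        have := conj_mem_pCoreOf' (hP0C hg) hr
        have e : g⁻¹ * (g * r * g⁻¹) * g = r := by group
        rw [e] at this
        exact this
    have hlt : P0 < T := by
      refine lt_of_le_of_ne hP0T ?_
      intro h
      apply hR
      rw [h]
      exact hRT
    -- orders
    obtain ⟨Q, hTQ⟩ := hT2.exists_le_sylow
    obtain ⟨g, hg⟩ := sylow_conj P Q
    have hcQ : Nat.card (Q : Subgroup G) = Nat.card (P : Subgroup G) := by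
      rw [hg, card_cj]
    have hcTP : Nat.card T ≤ Nat.card (P : Subgroup G) := by
      rw [← hcQ]
      exact Nat.le_of_dvd Nat.card_pos (Subgroup.card_dvd_of_le hTQ)
    have hcP : Nat.card (P : Subgroup G) ≤ 2 * Nat.card P0 := card_le_two_mul hP2 hUP hUn hU4
    have hcT0 : Nat.card P0 < Nat.card T := card_lt_card_of_lt' hlt
    obtain ⟨m, hm⟩ := Subgroup.card_dvd_of_le hP0T
    have hpos : 0 < Nat.card P0 := Nat.card_pos
    have hm2 : m = 2 := by
      have h1 : Nat.card P0 * m ≤ Nat.card P0 * 2 := by
        rw [← hm]; omega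
      have h2 : Nat.card P0 * 1 < Nat.card P0 * m := by
        rw [← hm, mul_one]; exact hcT0
      have h3 := Nat.le_of_mul_le_mul_left h1 hpos
      have h4 := Nat.lt_of_mul_lt_mul_left h2
      omega
    have hcT : Nat.card T = 2 * Nat.card P0 := by rw [hm, hm2, mul_comm]
    have hcTP' : Nat.card T = Nat.card (P : Subgroup G) := by omega
    have hTQ' : T = (Q : Subgroup G) := eq_of_le_of_card_le hTQ (by rw [hcQ, hcTP'])
    have hTcj : T = cj g (P : Subgroup G) := by rw [hTQ', hg]
    -- `P ≠ P0`, so the centre of `P` is cyclic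
    have hcyc : IsCyclic ↥((P : Subgroup G) ⊓ Subgroup.centralizer ((P : Subgroup G) : Set G)) := by
      by_contra hnc
      have hUc := hUZ hnc
      have hPP0 : (P : Subgroup G) ≤ P0 := by
        intro y hy
        refine Subgroup.mem_inf.mpr ⟨hy, ?_⟩
        rw [Subgroup.mem_centralizer_iff]
        intro x hx
        have := Subgroup.mem_centralizer_iff.mp (hUc hx) y hy
        exact this.symm
      have : Nat.card (P : Subgroup G) ≤ Nat.card P0 :=
        Nat.le_of_dvd Nat.card_pos (Subgroup.card_dvd_of_le hPP0)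
      omega
    have hidx : (P0.subgroupOf T).index = 2 := index_two_of_card hP0T hcT
    have huT : u ∈ T := hP0T (hUP0 hu)
    have hucT : ∀ t ∈ T, t * u = u * t := fun t ht => hucen t (hTC ht)
    -- the key: `[T, U] ≤ ⟨u⟩`
    have key : ∀ t ∈ T, ∀ x ∈ U, t * x * t⁻¹ * x⁻¹ ∈ Subgroup.zpowers u := by
      intro t ht x hx
      by_cases ht0 : t ∈ P0
      · have h1 := hP0cent t ht0 x hx
        have : t * x * t⁻¹ * x⁻¹ = 1 := by rw [h1]; group
        rw [this]; exact Subgroup.one_mem _
      · have hx0 : x ∈ P0 := hUP0 hx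
        set y : G := t * x * t⁻¹ with hy
        have hy0 : y ∈ P0 := conj_mem_of_index_two hidx hP0T ht hx0
        have hxx : x * x = 1 := klein_sq hU4 hx
        have hyy : y * y = 1 := by
          rw [hy]
          calc t * x * t⁻¹ * (t * x * t⁻¹) = t * (x * x) * t⁻¹ := by group
            _ = 1 := by rw [hxx]; group
        have hxinv : x⁻¹ = x := by
          rw [inv_eq_iff_mul_eq_one]; exact hxx
        have hyinv : y⁻¹ = y := by
          rw [inv_eq_iff_mul_eq_one]; exact hyy
        have hyx : y * x = x * y := hP0cent y hy0 x hx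
        -- `y` centralizes `P0`
        have hycent : ∀ h ∈ P0, h * y = y * h := by
          intro h hh
          have h1 : t⁻¹ * h * t ∈ P0 := by
            have := conj_mem_of_index_two hidx hP0T (T.inv_mem ht) hh
            simpa using this
          have h2 := hP0cent _ h1 x hx
          rw [hy]
          calc h * (t * x * t⁻¹) = t * ((t⁻¹ * h * t) * x) * t⁻¹ := by group
            _ = t * (x * (t⁻¹ * h * t)) * t⁻¹ := by rw [h2]
            _ = t * x * t⁻¹ * h := by group
        set e : G := y * x⁻¹ with he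
        have heT : e ∈ T := hP0T (P0.mul_mem hy0 (P0.inv_mem hx0))
        have he0 : ∀ h ∈ P0, h * e = e * h := by
          intro h hh
          have h1 := hycent h hh
          have h2 := hP0cent h hh x hx
          rw [he, hxinv]
          calc h * (y * x) = (h * y) * x := by group
            _ = (y * h) * x := by rw [h1]
            _ = y * (h * x) := by group
            _ = y * (x * h) := by rw [h2]
            _ = y * x * h := by group
        have htt : t * t ∈ P0 := mul_mem_of_index_two hidx ht ht ht0 ht0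
        have het : t * e = e * t := by
          have h1 := hP0cent _ htt x hx
          have h2 : t * y * t⁻¹ = x := by
            rw [hy]
            calc t * (t * x * t⁻¹) * t⁻¹ = ((t * t) * x) * (t⁻¹ * t⁻¹) := by group
              _ = (x * (t * t)) * (t⁻¹ * t⁻¹) := by rw [h1]
              _ = x := by group
          rw [he, hxinv]
          calc t * (y * x) = (t * y * t⁻¹) * (t * x * t⁻¹) * t := by group
            _ = x * y * t := by rw [h2]
            _ = y * x * t := by rw [hyx]
        have hecT : ∀ s ∈ T, s * e = e * s := by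
          intro s hs
          by_cases hs0 : s ∈ P0
          · exact he0 s hs0
          · have htinv : t⁻¹ ∉ P0 := fun h => ht0 (by simpa using P0.inv_mem h)
            have h1 : s * t⁻¹ ∈ P0 := mul_mem_of_index_two hidx hs (T.inv_mem ht) hs0 htinv
            have h2 := he0 _ h1
            calc s * e = (s * t⁻¹) * (t * e) := by group
              _ = (s * t⁻¹) * (e * t) := by rw [het]
              _ = ((s * t⁻¹) * e) * t := by group
              _ = (e * (s * t⁻¹)) * t := by rw [h2]
              _ = e * s := by group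
        have hee : e * e = 1 := by
          rw [he, hxinv]
          calc y * x * (y * x) = y * (x * y) * x := by group
            _ = y * (y * x) * x := by rw [hyx]
            _ = (y * y) * (x * x) := by group
            _ = 1 := by rw [hyy, hxx, one_mul]
        have hfin : e = 1 ∨ e = u := by
          apply central_involution_unique_cj hcyc g (a := u) (b := e)
          · rw [← hTcj]; exact huT
          · rw [← hTcj]; exact hucT
          · rw [← hTcj]; exact heT
          · rw [← hTcj]; exact hecT
          · exact hu2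
          · exact hu1
          · exact hee
        rcases hfin with h | h
        · rw [h]; exact Subgroup.one_mem _
        · rw [h]; exact Subgroup.mem_zpowers u
    intro x hx
    apply mem_pCoreOf_of_stab hC hu2 hucen (hUC hx)
    intro r hr
    have h1 := key r (hRT hr) x hx
    have e : x * r * x⁻¹ * r⁻¹ = (r * x * r⁻¹ * x⁻¹)⁻¹ := by group
    rw [e]
    exact Subgroup.inv_mem _ h1

/-- S1957, without the unused hypotheses -/
theorem main (h2 : Cfsg.IsCharacteristicTwoType G) (P : Sylow 2 G) (U : Subgroup G)
    (hUP : U ≤ (P : Subgroup G)) (hUn : (P : Subgroup G) ≤ Subgroup.normalizer (U : Set G))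
    (hU4 : IsKleinFour ↥U)
    (hUZ : ¬ IsCyclic ↥((P : Subgroup G) ⊓ Subgroup.centralizer ((P : Subgroup G) : Set G)) →
      U ≤ Subgroup.centralizer ((P : Subgroup G) : Set G))
    (K : Subgroup G) (hK : Odd (Nat.card K)) (hUK : U ≤ Subgroup.normalizer (K : Set G)) :
    U ≤ Subgroup.centralizer (K : Set G) := by
  have : IsMulCommutative ↥U := IsKleinFour.isMulCommutative
  have hncyc : ¬ IsCyclic ↥U := IsKleinFour.not_isCyclic
  have hcop : (Nat.card U).Coprime (Nat.card K) := by
    rw [hU4.card_four]
    have : (2 : ℕ).Coprime (Nat.card K) := (Nat.coprime_two_left).mpr hK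
    exact Nat.Coprime.pow_left 2 this
  have hgen := Cfsg.Agent.S0058.result U K hncyc hUK hcop
  -- it suffices that `K ≤ C(U)`
  have hKU : K ≤ Subgroup.centralizer (U : Set G) := by
    rw [← hgen]
    apply iSup₂_le
    rintro a ⟨haU, ha1⟩
    intro k hk
    obtain ⟨hkK, hka⟩ := Subgroup.mem_inf.mp hk
    have hka' : k * a = a * k := by
      have := Subgroup.mem_centralizer_iff.mp hka a (Set.mem_singleton a)
      exact this.symm
    rw [Subgroup.mem_centralizer_iff]
    intro x hx
    -- `x ∈ O_2(C_G(a))`, `k ∈ C_G(a)`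
    set C : Subgroup G := Subgroup.normalizer (Subgroup.zpowers a : Set G) with hCdef
    have hxR : x ∈ Cfsg.pCoreOf 2 C := le_pCoreOf_normalizer h2 P hUP hUn hU4 hUZ haU ha1 hx
    have hkC : k ∈ C := mem_normalizer_zpowers_of_comm hka'
    set w : G := x * k * x⁻¹ * k⁻¹ with hw
    have hwK : w ∈ K := by
      have h1 : x * k * x⁻¹ ∈ K := (Subgroup.mem_normalizer_iff.mp (hUK hx) k).mp hkK
      exact K.mul_mem h1 (K.inv_mem hkK)
    have hwR : w ∈ Cfsg.pCoreOf 2 C := by
      have h1 : k * x⁻¹ * k⁻¹ ∈ Cfsg.pCoreOf 2 C :=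
        conj_mem_pCoreOf hkC ((Cfsg.pCoreOf 2 C).inv_mem hxR)
      have : w = x * (k * x⁻¹ * k⁻¹) := by rw [hw]; group
      rw [this]
      exact (Cfsg.pCoreOf 2 C).mul_mem hxR h1
    have hw1 : w = 1 := by
      obtain ⟨n, hn⟩ := (isPGroup_pCoreOf (p := 2) C) ⟨w, hwR⟩
      have hn' : w ^ 2 ^ n = 1 := by
        have := congrArg Subtype.val hn
        simpa using this
      have h1 : orderOf w ∣ 2 ^ n := orderOf_dvd_of_pow_eq_one hn'
      have h2' : orderOf w ∣ Nat.card K := by
        have := orderOf_dvd_natCard (⟨w, hwK⟩ : ↥K)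
        rwa [Subgroup.orderOf_mk] at this
      have hcop' : (2 ^ n).Coprime (Nat.card K) :=
        Nat.Coprime.pow_left n ((Nat.coprime_two_left).mpr hK)
      have := Nat.eq_one_of_dvd_coprimes hcop' h1 h2'
      exact orderOf_eq_one_iff.mp this
    calc x * k = (x * k * x⁻¹ * k⁻¹) * (k * x) := by group
      _ = k * x := by rw [← hw, hw1, one_mul]
  intro x hx
  rw [Subgroup.mem_centralizer_iff]
  intro k hk
  have := Subgroup.mem_centralizer_iff.mp (hKU hk) x hx
  exact this.symm

end Cfsg.Agent.Lead.FourNorm
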