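import Cfsg.Agent.Lead.FpqNa

/-!
S4306: the division into cases.
-/

set_option autoImplicit false
set_option linter.style.haveILetI false
set_option linter.unusedSectionVars false

namespace Cfsg.Agent.Lead.Fpq

open scoped BigOperators commutatorElement
open Classical
open Cfsg.Agent.Lead.S3F

variable {k : Type*} [Field k] {Γ : Type*} [Group Γ] [Fintype Γ]
  {W : Type*} [AddCommGroup W] [Module k W] (ρ : Representation k Γ W)
  {p q m : ℕ} {𝔸 Q T : Subgroup Γ} {f h : Γ} {s t : ℕ}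

omit [Fintype Γ] in
/-- an element commuting with `f` and `h` is fixed by `𝔸`. -/
theorem fixed_of_commute (g : FrobGen p q m 𝔸 f h) {x : Γ} (h1 : f * x = x * f)
    (h2 : h * x * h⁻¹ = x) : ∀ a ∈ 𝔸, a * x * a⁻¹ = x := by
  have hB : 𝔸 ≤ Subgroup.centralizer ({x} : Set Γ) := by
    apply g.le_of_mem
    · rw [Subgroup.mem_centralizer_singleton_iff]; exact h1
    · rw [Subgroup.mem_centralizer_singleton_iff]
      calc h * x = (h * x * h⁻¹) * h := by group
        _ = x * h := by rw [h2]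
  intro a ha
  have := hB ha
  rw [Subgroup.mem_centralizer_singleton_iff] at this
  rw [this]; group

theorem zpowers_normal (g : FrobGen p q m 𝔸 f h) :
    𝔸 ≤ Subgroup.normalizer ((Subgroup.zpowers f : Subgroup Γ) : Set Γ) := by
  apply g.le_of_mem
  · exact Subgroup.le_normalizer (Subgroup.mem_zpowers f)
  · exact g.toFrobRel.h_mem_normalizer

namespace Pair

theorem solvT (pr : Pair 𝔸 Q T s t) : Group.IsSolvable T := by
  haveI : Fact t.Prime := ⟨pr.ht⟩
  haveI := pr.Tt.isNilpotent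
  infer_instance

theorem T_ne_bot (pr : Pair 𝔸 Q T s t) : T ≠ ⊥ := by
  intro h
  obtain ⟨x, hx, g, _, hxg⟩ := pr.ne
  rw [h, Subgroup.mem_bot] at hx
  apply hxg
  rw [hx]; simp

/-- **Claim A**: `f` centralizes `T`, or `[T, F] = T` and the fixed points of `f` on `T`
centralize `Q`. -/
theorem claimA (g : FrobGen p q m 𝔸 f h) (pr : Pair 𝔸 Q T s t) (htp : t ≠ p) :
    (∀ x ∈ T, f * x = x * f) ∨
    (⁅T, Subgroup.zpowers f⁆ = T ∧ ∀ x ∈ T, f * x * f⁻¹ = x → x ∈ centIn T Q) := by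
  have r := g.toFrobRel
  haveI : Fact t.Prime := ⟨pr.ht⟩
  have hFT : Subgroup.zpowers f ≤ Subgroup.normalizer (T : Set Γ) := g.zpowers_le.trans pr.AT
  have hcopFT : (Nat.card (Subgroup.zpowers f)).Coprime (Nat.card T) := by
    have h1 : Nat.card (Subgroup.zpowers f) ∣ p := by
      rw [Nat.card_zpowers]; exact orderOf_dvd_of_pow_eq_one r.fp
    apply Nat.Coprime.coprime_dvd_left h1
    obtain ⟨n, hn⟩ := IsPGroup.iff_card.1 pr.Tt
    rw [hn]
    apply Nat.Coprime.pow_right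
    rw [Nat.coprime_primes r.hp pr.ht]
    exact htp.symm
  have hsup := Cfsg.Agent.Helper1.coprime_commutator_sup_centralizer (Subgroup.zpowers f) T hFT
    hcopFT (Or.inr pr.solvT)
  have hDle : ⁅T, Subgroup.zpowers f⁆ ≤ T := Subgroup.le_normalizer_iff_commutator_le_left.1 hFT
  have hDA : 𝔸 ≤ Subgroup.normalizer ((⁅T, Subgroup.zpowers f⁆ : Subgroup Γ) : Set Γ) :=
    fun a ha => mem_normalizer_commutator (pr.AT ha) (zpowers_normal g ha)
  have hCA : 𝔸 ≤ Subgroup.normalizer ((centIn T (Subgroup.zpowers f) : Subgroup Γ) : Set Γ) :=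
    fun a ha => mem_normalizer_of_conj_mem _ _
      (fun x hx => conj_mem_centIn T _ (pr.AT ha) (zpowers_normal g ha) hx)
  have hCle : centIn T (Subgroup.zpowers f) ≤ T := fun _ hx => hx.1
  have hinf : T ⊓ Subgroup.centralizer ((Subgroup.zpowers f : Subgroup Γ) : Set Γ)
      ≤ centIn T (Subgroup.zpowers f) := by
    rintro x ⟨hx1, hx2⟩
    exact ⟨hx1, fun n hn => (Subgroup.mem_centralizer_iff.1 hx2 n hn).symm⟩
  by_cases hD : ⁅T, Subgroup.zpowers f⁆ = T
  · right
    refine ⟨hD, ?_⟩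
    intro x hx hfx
    have hCne : centIn T (Subgroup.zpowers f) ≠ T := by
      intro hC
      apply pr.T_ne_bot
      rw [← hD, Subgroup.commutator_eq_bot_iff_le_centralizer]
      intro y hy
      have : y ∈ centIn T (Subgroup.zpowers f) := by rw [hC]; exact hy
      rw [Subgroup.mem_centralizer_iff]
      intro n hn
      exact (this.2 n hn).symm
    have hC := pr.le_centIn hCle hCne hCA
    apply hC
    have h2 : f * x = x * f := by
      calc f * x = (f * x * f⁻¹) * f := by group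
        _ = x * f := by rw [hfx]
    exact ⟨hx, fun φ hφ => (commute_zpowers h2 hφ).symm⟩
  · left
    have hDc := pr.le_centIn hDle hD hDA
    have hC : centIn T (Subgroup.zpowers f) = T := by
      by_contra hCne
      have hCc := pr.le_centIn hCle hCne hCA
      apply pr.centIn_ne
      apply le_antisymm (fun _ hx => hx.1)
      exact hsup.symm.le.trans (sup_le hDc (hinf.trans hCc))
    intro x hx
    have : x ∈ centIn T (Subgroup.zpowers f) := by rw [hC]; exact hx
    exact (this.2 f (Subgroup.mem_zpowers f)).symm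

/-- in the case `[T, f] = 1`: `f` centralizes `Q`, or `[Q, F] = Q`. -/
theorem caseT_split (g : FrobGen p q m 𝔸 f h) (pr : Pair 𝔸 Q T s t)
    (hTf : ∀ x ∈ T, f * x = x * f) :
    (∀ x ∈ Q, f * x = x * f) ∨ ⁅Q, Subgroup.zpowers f⁆ = Q := by
  have hFQ : Subgroup.zpowers f ≤ Subgroup.normalizer (Q : Set Γ) := g.zpowers_le.trans pr.AQ
  by_cases hD : ⁅Q, Subgroup.zpowers f⁆ = Q
  · exact Or.inr hD
  left
  have hDle : ⁅Q, Subgroup.zpowers f⁆ ≤ Q := Subgroup.le_normalizer_iff_commutator_le_left.1 hFQ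
  have hDA : 𝔸 ≤ Subgroup.normalizer ((⁅Q, Subgroup.zpowers f⁆ : Subgroup Γ) : Set Γ) :=
    fun a ha => mem_normalizer_commutator (pr.AQ ha) (zpowers_normal g ha)
  have hTF : T ≤ Subgroup.centralizer ((Subgroup.zpowers f : Subgroup Γ) : Set Γ) := by
    intro x hx
    rw [Subgroup.mem_centralizer_iff]
    intro φ hφ
    exact commute_zpowers (hTf x hx) hφ
  have hTnF : T ≤ Subgroup.normalizer ((Subgroup.zpowers f : Subgroup Γ) : Set Γ) :=
    hTF.trans (Subgroup.centralizer_le_normalizer _)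
  have hDT : T ≤ Subgroup.normalizer ((⁅Q, Subgroup.zpowers f⁆ : Subgroup Γ) : Set Γ) :=
    fun x hx => mem_normalizer_commutator (pr.TQ hx) (hTnF hx)
  have h1 : ⁅(⁅Q, Subgroup.zpowers f⁆ : Subgroup Γ), T⁆ = ⊥ := by
    rw [Subgroup.commutator_eq_bot_iff_le_centralizer]
    intro y hy
    rw [Subgroup.mem_centralizer_iff]
    intro x hx
    exact pr.Qmin _ hDle hD hDA hDT x hx y hy
  have h2 : ⁅(⁅Subgroup.zpowers f, T⁆ : Subgroup Γ), Q⁆ = ⊥ := by
    have : ⁅(Subgroup.zpowers f : Subgroup Γ), T⁆ = ⊥ := by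
      rw [Subgroup.commutator_comm, Subgroup.commutator_eq_bot_iff_le_centralizer]
      exact hTF
    rw [this]
    exact Subgroup.commutator_bot_left Q
  have h3 : ⁅(⁅T, Q⁆ : Subgroup Γ), Subgroup.zpowers f⁆ = ⊥ :=
    Subgroup.commutator_commutator_eq_bot_of_rotate h1 h2
  rw [Subgroup.commutator_comm T Q, pr.comm_eq,
    Subgroup.commutator_eq_bot_iff_le_centralizer] at h3
  intro x hx
  have h4 := h3 hx
  rw [Subgroup.mem_centralizer_iff] at h4
  exact h4 f (Subgroup.mem_zpowers f)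

/-- **Case `f` centralizes `Q` and `T`.** -/
theorem false_caseT_central (g : FrobGen p q m 𝔸 f h) (pr : Pair 𝔸 Q T s t)
    [HasEnoughRootsOfUnity k (Monoid.exponent (Abelianization Q))]
    (hTf : ∀ x ∈ T, f * x = x * f) (hQf : ∀ x ∈ Q, f * x = x * f)
    (hCQ : ∀ x ∈ Q, (∀ a ∈ 𝔸, a * x * a⁻¹ = x) → x = 1)
    (hCT : ∀ x ∈ T, (∀ a ∈ 𝔸, a * x * a⁻¹ = x) → x = 1) (htq : t ≠ q) : False := by
  have r := g.toFrobRel
  have hq1 : q - 1 + 1 = q := by have := r.hq.pos; omega
  haveI : Fact t.Prime := ⟨pr.ht⟩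
  refine false_of_fpf_elt (k := k) pr h g.h_mem (q - 1) (by rw [hq1]; exact r.hq)
    (by rw [hq1]; exact r.hq1) ?_ ?_ ?_
  · rw [hq1]
    obtain ⟨n, hn⟩ := IsPGroup.iff_card.1 pr.Tt
    rw [hn]
    apply Nat.Coprime.pow_right
    rw [Nat.coprime_primes r.hq pr.ht]
    exact htq.symm
  · intro x hx h1
    exact hCQ x hx (fixed_of_commute g (hQf x hx) h1)
  · intro x hx h1
    have := hCT x hx (fixed_of_commute g (hTf x hx) h1)
    rw [this]
    exact Subgroup.one_mem _

end Pair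

end Cfsg.Agent.Lead.Fpq
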