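import Cfsg.Agent.Lead.FpqPair
import Cfsg.Agent.Lead.FpqWt

/-!
S4306: general lemmas for the case analysis.
-/

set_option autoImplicit false
set_option linter.style.haveILetI false
set_option linter.unusedSectionVars false

namespace Cfsg.Agent.Lead.Fpq

open scoped BigOperators commutatorElement
open Classical
open Cfsg.Agent.Lead.S3F

section group

variable {Γ : Type*} [Group Γ]

/-- the commutators `[a ^ j, x]` lie in a subgroup normalized by `a` as soon as `[a, x]` does. -/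
theorem comm_pow_mem (K : Subgroup Γ) (a x : Γ) (haK : a ∈ Subgroup.normalizer (K : Set Γ))
    (h : a * x * a⁻¹ * x⁻¹ ∈ K) (j : ℕ) : a ^ j * x * (a ^ j)⁻¹ * x⁻¹ ∈ K := by
  induction j with
  | zero => simp
  | succ j ih =>
    have e : a ^ (j + 1) * x * (a ^ (j + 1))⁻¹ * x⁻¹
        = a * (a ^ j * x * (a ^ j)⁻¹ * x⁻¹) * a⁻¹ * (a * x * a⁻¹ * x⁻¹) := by
      rw [pow_succ']; group
    rw [e]
    exact K.mul_mem (conj_mem_of_mem_normalizer' haK ih) h

/-- the pointwise stabilizer of a submodule. -/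
def fixer {k : Type*} [Field k] {W : Type*} [AddCommGroup W] [Module k W]
    (ρ : Representation k Γ W) (M : Submodule k W) : Subgroup Γ where
  carrier := {g | ∀ w ∈ M, ρ g w = w}
  mul_mem' := by
    intro a b ha hb w hw
    rw [map_mul, Module.End.mul_apply, hb w hw, ha w hw]
  one_mem' := by
    intro w _
    rw [map_one, Module.End.one_apply]
  inv_mem' := by
    intro a ha w hw
    have h1 : ρ a⁻¹ (ρ a w) = w := by
      rw [← Module.End.mul_apply, ← map_mul, inv_mul_cancel, map_one, Module.End.one_apply]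
    rw [ha w hw] at h1
    exact h1

theorem mem_fixer {k : Type*} [Field k] {W : Type*} [AddCommGroup W] [Module k W]
    {ρ : Representation k Γ W} {M : Submodule k W} {g : Γ} :
    g ∈ fixer ρ M ↔ ∀ w ∈ M, ρ g w = w := Iff.rfl

/-- if the commutators `[x, g]` act trivially on `M` and `[Q, T] = Q`, then `Q` acts trivially. -/
theorem le_fixer_of_comm {k : Type*} [Field k] {W : Type*} [AddCommGroup W] [Module k W]
    (ρ : Representation k Γ W) (M : Submodule k W) (Q T : Subgroup Γ) (hQT : ⁅Q, T⁆ = Q)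
    (h : ∀ x ∈ T, ∀ g ∈ Q, ∀ w ∈ M, ρ (x * g * x⁻¹ * g⁻¹) w = w) : Q ≤ fixer ρ M := by
  rw [← hQT, Subgroup.commutator_le]
  intro g hg x hx
  have h1 : x * g * x⁻¹ * g⁻¹ ∈ fixer ρ M := h x hx g hg
  have h2 : ⁅g, x⁆ = (x * g * x⁻¹ * g⁻¹)⁻¹ := by
    rw [commutatorElement_def]; group
  rw [h2]
  exact Subgroup.inv_mem _ h1

end group

variable {k : Type*} [Field k] {Γ : Type*} [Group Γ] [Fintype Γ]
  {W : Type*} [AddCommGroup W] [Module k W] (ρ : Representation k Γ W)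

/-- a character fixed by `B` is trivial on `[E, B]`. -/
theorem char_comm_eq_one (E B : Subgroup Γ) (χ : E →* kˣ) (hB : B ≤ charStab E χ)
    (e : Γ) (he : e ∈ E) (b : Γ) (hb : b ∈ B) (hmem : e * b * e⁻¹ * b⁻¹ ∈ E) :
    χ ⟨e * b * e⁻¹ * b⁻¹, hmem⟩ = 1 := by
  obtain ⟨hbn, hbχ⟩ := hB (B.inv_mem hb)
  have hmem2 : b * e⁻¹ * b⁻¹ ∈ E := by
    have := conj_mem_of_mem_normalizer' (hB hb).1 (E.inv_mem he)
    exact this
  have h1 : (⟨e * b * e⁻¹ * b⁻¹, hmem⟩ : E) = ⟨e, he⟩ * ⟨b * e⁻¹ * b⁻¹, hmem2⟩ := by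
    apply Subtype.ext
    simp [mul_assoc]
  have h2 := congrArg (fun ψ : E →* kˣ => ψ ⟨e⁻¹, E.inv_mem he⟩) hbχ
  simp only [conjChar_apply] at h2
  have h3 : χ ⟨b * e⁻¹ * b⁻¹, hmem2⟩ = χ ⟨e⁻¹, E.inv_mem he⟩ := by
    rw [← h2]
    congr 1
    apply Subtype.ext
    simp
  rw [h1, map_mul, h3, ← map_mul]
  have : (⟨e, he⟩ : E) * ⟨e⁻¹, E.inv_mem he⟩ = 1 := by
    apply Subtype.ext
    simp
  rw [this, map_one]

/-- the kernel of a character, as a subgroup of the ambient group. -/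
def kerIn (E : Subgroup Γ) (χ : E →* kˣ) : Subgroup Γ := χ.ker.map E.subtype

omit [Fintype Γ] in
theorem mem_kerIn {E : Subgroup Γ} {χ : E →* kˣ} {e : Γ} :
    e ∈ kerIn E χ ↔ ∃ he : e ∈ E, χ ⟨e, he⟩ = 1 := by
  constructor
  · rintro ⟨x, hx, rfl⟩
    exact ⟨x.2, hx⟩
  · rintro ⟨he, h1⟩
    exact ⟨⟨e, he⟩, h1, rfl⟩

/-- a character fixed by `B` with `[E, B] = E` is trivial. -/
theorem char_eq_one_of_le_charStab (E B : Subgroup Γ) (χ : E →* kˣ) (hB : B ≤ charStab E χ)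
    (hgen : ⁅E, B⁆ = E) : ∀ e : E, χ e = 1 := by
  have hle : ⁅E, B⁆ ≤ kerIn E χ := by
    rw [Subgroup.commutator_le]
    intro e he b hb
    have hmem : e * b * e⁻¹ * b⁻¹ ∈ E := by
      have h1 := conj_mem_of_mem_normalizer' (hB hb).1 (E.inv_mem he)
      have : e * b * e⁻¹ * b⁻¹ = e * (b * e⁻¹ * b⁻¹) := by group
      rw [this]
      exact E.mul_mem he h1
    rw [commutatorElement_def, mem_kerIn]
    exact ⟨hmem, char_comm_eq_one E B χ hB e he b hb hmem⟩
  intro e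
  have : (e : Γ) ∈ kerIn E χ := hle (by rw [hgen]; exact e.2)
  obtain ⟨_, h1⟩ := mem_kerIn.1 this
  exact h1

omit [Fintype Γ] in
/-- a trivial character is not a weight when `E` has no fixed vectors. -/
theorem not_isWt_of_char_eq_one (E : Subgroup Γ)
    (hCW : ∀ w : W, (∀ e ∈ E, ρ e w = w) → w = 0) (χ : E →* kˣ) (h1 : ∀ e : E, χ e = 1) :
    ¬ IsWt ρ E χ := by
  intro hχ
  obtain ⟨n, hn⟩ := exists_apply_ne_one ρ E hCW χ hχ
  exact hn (h1 n)

end Cfsg.Agent.Lead.Fpq
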