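import Cfsg.Agent.Lead.FpqCase0

/-!
S4306: an element of prime order of `𝔸` without fixed points on `Q`, whose fixed points on `T`
centralize `Q`.
-/

set_option autoImplicit false
set_option linter.style.haveILetI false
set_option linter.unusedSectionVars false

namespace Cfsg.Agent.Lead.Fpq

open scoped BigOperators commutatorElement
open Classical
open Cfsg.Agent.Lead.S3F

variable (k : Type*) [Field k] {Γ : Type*} [Group Γ] [Fintype Γ]

/-- the elements of `T` fixing all linear characters of `Q`. -/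
def charKer (T Q : Subgroup Γ) : Subgroup Γ where
  carrier := {x | x ∈ T ∧ ∀ χ : Q →* kˣ, x ∈ charStab Q χ}
  mul_mem' := by
    rintro a b ⟨ha, ha'⟩ ⟨hb, hb'⟩
    exact ⟨T.mul_mem ha hb, fun χ => (charStab Q χ).mul_mem (ha' χ) (hb' χ)⟩
  one_mem' := ⟨T.one_mem, fun χ => (charStab Q χ).one_mem⟩
  inv_mem' := by
    rintro a ⟨ha, ha'⟩
    exact ⟨T.inv_mem ha, fun χ => (charStab Q χ).inv_mem (ha' χ)⟩

variable {k}

theorem charKer_le (T Q : Subgroup Γ) : charKer k T Q ≤ T := fun _ hx => hx.1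

theorem conj_mem_charKer (T Q : Subgroup Γ) {a : Γ} (haT : a ∈ Subgroup.normalizer (T : Set Γ))
    (haQ : a ∈ Subgroup.normalizer (Q : Set Γ)) {x : Γ} (hx : x ∈ charKer k T Q) :
    a * x * a⁻¹ ∈ charKer k T Q := by
  refine ⟨conj_mem_of_mem_normalizer' haT hx.1, fun χ => ?_⟩
  have h1 := hx.2 (conjChar Q a⁻¹ (Subgroup.inv_mem _ haQ) χ)
  have h2 := conj_mem_charStab h1 haQ
  rwa [conjChar_cancel_inv] at h2

theorem centIn_le_charKer (T Q : Subgroup Γ) : centIn T Q ≤ charKer k T Q :=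
  fun _ hx => ⟨hx.1, fun _ => mem_charStab_of_commute Q hx.2⟩

/-- **Lemma FC.** -/
theorem false_of_fpf_elt {𝔸 Q T : Subgroup Γ} {s t : ℕ}
    [HasEnoughRootsOfUnity k (Monoid.exponent (Abelianization Q))]
    (pr : Pair 𝔸 Q T s t) (y : Γ) (hy : y ∈ 𝔸) (n : ℕ) (hn : (n + 1).Prime)
    (hyn : y ^ (n + 1) = 1) (hcop : (n + 1).Coprime (Nat.card T))
    (hQy : ∀ g ∈ Q, y * g * y⁻¹ = g → g = 1)
    (hTy : ∀ x ∈ T, y * x * y⁻¹ = x → x ∈ centIn T Q) : False := by
  have hyQ := pr.AQ hy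
  have hyT := pr.AT hy
  haveI : Fact t.Prime := ⟨pr.ht⟩
  have hsolvT : Group.IsSolvable T := by
    haveI := pr.Tt.isNilpotent
    infer_instance
  by_cases hK : charKer k T Q = T
  · -- `T` fixes all characters
    obtain ⟨x, hx, g, hg, hxg⟩ := pr.ne
    apply hxg
    refine centralizes_of_fix_chars (k := k) Q T pr.TQ pr.coprime (Or.inl hsolvT) pr.cent_derived
      ?_ x hx g hg
    intro x hx χ
    have : x ∈ charKer k T Q := by rw [hK]; exact hx
    exact this.2 χ
  · have hKA : 𝔸 ≤ Subgroup.normalizer ((charKer k T Q : Subgroup Γ) : Set Γ) := fun a ha =>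
      mem_normalizer_of_conj_mem _ _ (fun x hx => conj_mem_charKer T Q (pr.AT ha) (pr.AQ ha) hx)
    have hKT : T ≤ Subgroup.normalizer ((charKer k T Q : Subgroup Γ) : Set Γ) := fun a ha =>
      mem_normalizer_of_conj_mem _ _
        (fun x hx => conj_mem_charKer T Q (Subgroup.le_normalizer ha) (pr.TQ ha) hx)
    have hKle : charKer k T Q ≤ centIn T Q := pr.le_centIn (charKer_le T Q) hK hKA
    have key := fix_chars_of_frob (k := k) Q T y pr.TQ hyQ hyT n hyn hQy pr.coprime ?_
    · apply hK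
      apply le_antisymm (charKer_le T Q)
      intro x hx
      exact ⟨hx, key x hx⟩
    · intro i hi0 hin x hx hfix
      have hd : ¬ (n + 1) ∣ i := fun hd => absurd (Nat.le_of_dvd hi0 hd) (not_le.2 hin)
      -- `[y ^ i, x] ∈ charKer`
      have hyi𝔸 : y ^ i ∈ 𝔸 := 𝔸.pow_mem hy i
      have hc : y ^ i * x * (y ^ i)⁻¹ * x⁻¹ ∈ charKer k T Q :=
        ⟨T.mul_mem (conj_mem_of_mem_normalizer' (pr.AT hyi𝔸) hx) (T.inv_mem hx), hfix⟩
      -- the coset lemma
      obtain ⟨A, hA⟩ : ∃ A : Subgroup Γ, A = Subgroup.zpowers (y ^ i) := ⟨_, rfl⟩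
      have hA𝔸 : A ≤ 𝔸 := by
        rw [hA, Subgroup.zpowers_le]; exact hyi𝔸
      have hAcard : Nat.card A ∣ n + 1 := by
        rw [hA, Nat.card_zpowers]
        apply orderOf_dvd_of_pow_eq_one
        rw [← pow_mul, mul_comm, pow_mul, hyn, one_pow]
      have hAcop : (Nat.card A).Coprime (Nat.card T) :=
        Nat.Coprime.coprime_dvd_left hAcard hcop
      have hfixA : ∀ a ∈ A, a * x * a⁻¹ * x⁻¹ ∈ charKer k T Q := by
        intro a ha
        rw [hA] at ha
        obtain ⟨j, rfl⟩ := (mem_powers_iff_mem_zpowers (x := y ^ i)).2 ha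
        exact comm_pow_mem _ _ _ (hKA hyi𝔸) hc j
      obtain ⟨c, hc1, hc2⟩ := Cfsg.Agent.Helper1.coprime_fixed_coset A T (hA𝔸.trans pr.AT)
        hAcop (Or.inr hsolvT) (charKer k T Q) (charKer_le T Q) hKT (hA𝔸.trans hKA) x hx hfixA
      obtain ⟨hcT, hcA⟩ := hc1
      have hcyi : y ^ i * c = c * y ^ i := by
        have := Subgroup.mem_centralizer_iff.1 hcA (y ^ i) (by rw [hA]; exact Subgroup.mem_zpowers _)
        exact this
      -- `c` commutes with `y`
      obtain ⟨j', hj'⟩ := exists_pow_pow_eq hn y hyn i hd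
      have hcy : y * c * y⁻¹ = c := by
        have h1 : ∀ l : ℕ, (y ^ i) ^ l * c = c * (y ^ i) ^ l := by
          intro l
          induction l with
          | zero => simp
          | succ l ih => rw [pow_succ, mul_assoc, hcyi, ← mul_assoc, ih, mul_assoc]
        have h2 := h1 j'
        rw [hj'] at h2
        rw [h2]; group
      have hcK : c ∈ charKer k T Q := centIn_le_charKer T Q (hTy c hcT hcy)
      have hxK : x ∈ charKer k T Q := by
        have h3 := (charKer k T Q).mul_mem hcK ((charKer k T Q).inv_mem hc2)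
        have e : c * (x⁻¹ * c)⁻¹ = x := by group
        rwa [e] at h3
      exact hxK.2

end Cfsg.Agent.Lead.Fpq
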