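import Cfsg.Agent.Lead.FpqR2
import Cfsg.Agent.Helper1.FrobPair
import Cfsg.Agent.Helper1.FrobCharRed
import Cfsg.Agent.Helper4.FrobRC1

/-!
S4306: the linear theorem `nilp_of_min_config`.
-/

set_option autoImplicit false
set_option linter.style.haveILetI false
set_option linter.unusedSectionVars false

namespace Cfsg.Agent.Lead.Fpq

open scoped BigOperators commutatorElement
open Classical
open Cfsg.Agent.Lead.S3F

universe u v w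

/-- **Lemma R, the faithful irreducible case.** -/
theorem faith_irred (k : Type u) [Field k] (r : ℕ) [hr : Fact r.Prime] [CharP k r] :
    Cfsg.Agent.Helper1.FrobCharRed.FaithIrredHyp.{u, v, w} k r := by
  intro Γ _ _ W _ _ _ ρ s q Q T y hs hq hsr hqr hsq hQ hT hyq hTQ hyQ hyT hfreeT hfaith hfix hsc hirr
  exact faith_irred_of ρ hs hq hsr hsq Q T hQ hT y hyq hTQ hyQ hyT hfreeT hfaith hfix hsc hirr
    (fun A hAc hAe hAnc hAQ hyA hfaithA hAmin hcen =>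
      Cfsg.Agent.Helper4.FrobRC1.exists_fpf_abelian hs hr.out hq hsr hsq hqr Q A y hQ hAc hAe hAnc
        hAQ hyQ hyA hyq hfaithA hAmin hcen)

/-- **Lemma R.** -/
theorem frob_char_r {k : Type u} [Field k] {r : ℕ} [Fact r.Prime] [CharP k r]
    {Γ : Type v} [Group Γ] [Finite Γ] {W : Type w} [AddCommGroup W] [Module k W]
    [Module.Finite k W] (ρ : Representation k Γ W)
    {s q : ℕ} (hs : s.Prime) (hq : q.Prime) (hsr : s ≠ r) (hqr : q ≠ r) (hsq : s ≠ q)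
    (Q T : Subgroup Γ) (hQ : IsPGroup s Q) (hT : IsPGroup r T) (y : Γ) (hyq : y ^ q = 1)
    (hTQ : T ≤ Subgroup.normalizer (Q : Set Γ))
    (hyQ : y ∈ Subgroup.normalizer (Q : Set Γ)) (hyT : y ∈ Subgroup.normalizer (T : Set Γ))
    (hfreeT : ∀ x ∈ T, y * x * y⁻¹ = x → x = 1)
    (M : Submodule k W) (hMQ : ∀ g ∈ Q, ∀ w ∈ M, ρ g w ∈ M) (hMT : ∀ x ∈ T, ∀ w ∈ M, ρ x w ∈ M)
    (hMy : ∀ w ∈ M, ρ y w ∈ M)
    (hfix : ∀ w ∈ M, ρ y w = w → w = 0)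
    (hsc : ∀ g ∈ Q, ∀ h ∈ Q, ∃ c : k, ∀ w ∈ M, ρ (g * h * g⁻¹ * h⁻¹) w = c • w) :
    ∀ x ∈ T, ∀ g ∈ Q, ∀ w ∈ M, ρ (x * g * x⁻¹ * g⁻¹) w = w :=
  Cfsg.Agent.Helper1.FrobCharRed.frob_char_r_of_hyp (faith_irred.{u, v, w} k r) ρ hs hq hsr hqr hsq
    Q T hQ hT y hyq hTQ hyQ hyT hfreeT M hMQ hMT hMy hfix hsc

/-- **The linear theorem.** -/
theorem nilp_of_min_config {k : Type*} [Field k] [IsAlgClosed k] {r : ℕ} [hr : Fact r.Prime]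
    [CharP k r] {Γ : Type*} [Group Γ] [Finite Γ] {W : Type*} [AddCommGroup W] [Module k W]
    [Module.Finite k W] (ρ : Representation k Γ W) {p q m : ℕ} {𝔸 : Subgroup Γ} {f h : Γ}
    (g : FrobGen p q m 𝔸 f h)
    (hfix : ∀ w : W, (∀ a ∈ 𝔸, ρ a w = w) → w = 0)
    (H : Subgroup Γ) (hAH : 𝔸 ≤ Subgroup.normalizer (H : Set Γ))
    (hsolv : Group.IsSolvable H) (hcop : (Nat.card H).Coprime (p * q))
    (hrpq : r.Coprime (p * q))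
    (hCH : ∀ x ∈ H, (∀ a ∈ 𝔸, a * x * a⁻¹ = x) → x = 1)
    (hfaith : ∀ x ∈ H, ρ x = 1 → x = 1)
    (hIrr : ∀ E : Subgroup Γ, E ≤ H → E ≠ ⊥ → (∀ g ∈ H, ∀ x ∈ E, g * x * g⁻¹ ∈ E) →
      𝔸 ≤ Subgroup.normalizer (E : Set Γ) → ∀ w : W, (∀ e ∈ E, ρ e w = w) → w = 0)
    (hOp : ∀ P : Subgroup Γ, P ≤ H → (∀ g ∈ H, ∀ x ∈ P, g * x * g⁻¹ ∈ P) →
      𝔸 ≤ Subgroup.normalizer (P : Set Γ) → IsPGroup r P → P = ⊥)
    (hMin : ∀ H₀ : Subgroup Γ, H₀ ≤ H → H₀ ≠ H → 𝔸 ≤ Subgroup.normalizer (H₀ : Set Γ) →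
      ∃ c : ℕ, IsPGroup r (H₀.lowerCentralSeries c)) :
    ∃ c : ℕ, H.lowerCentralSeries c = ⊥ := by
  by_contra hcon
  have hnil : ¬ Group.IsNilpotent ↥H := fun h1 =>
    hcon ((Subgroup.isNilpotent_iff_lowerCentralSeries H).1 h1)
  have hA1 := nilpotent_of_proper (r := r) (𝔸 := 𝔸) H hOp hMin
  have hcopA : (Nat.card 𝔸).Coprime (Nat.card H) :=
    Nat.Coprime.coprime_dvd_left g.card hcop.symm
  have hP := Cfsg.Agent.Helper1.FrobPair.exists_pair hr.out 𝔸 H hAH hsolv hcopA hA1 hOp hnil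
  exact false_of_min_config ρ g hfix H hcop hrpq hCH hfaith hIrr hMin hP
    (fun s Q T y M hs hsr hqr hsq hQ hT hyq hTQ hyQ hyT hfreeT hMQ hMT hMy hfixy hsc =>
      frob_char_r ρ hs g.hq hsr hqr hsq Q T hQ hT y hyq hTQ hyQ hyT hfreeT M hMQ hMT hMy hfixy hsc)

end Cfsg.Agent.Lead.Fpq
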