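import Cfsg.Agent.Lead.FpqAsm

/-!
S4306: the linear theorem `nilp_of_min_config`, modulo the pair lemma (Lemma P) and the
characteristic `r` lemma (Lemma R), which enter as hypotheses here.
-/

set_option autoImplicit false
set_option linter.style.haveILetI false
set_option linter.unusedSectionVars false

namespace Cfsg.Agent.Lead.Fpq

open scoped BigOperators commutatorElement
open Classical
open Cfsg.Agent.Lead.S3F

section gp

variable {Γ : Type*} [Group Γ]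

theorem mem_normalizer_lcs [Finite Γ] {N : Subgroup Γ} {g : Γ}
    (hg : g ∈ Subgroup.normalizer (N : Set Γ)) (c : ℕ) :
    g ∈ Subgroup.normalizer ((N.lowerCentralSeries c : Subgroup Γ) : Set Γ) := by
  induction c with
  | zero => exact hg
  | succ c ih =>
    rw [Subgroup.lowerCentralSeries_succ]
    exact mem_normalizer_commutator ih hg

theorem normalizer_sup_mem [Finite Γ] {X Y : Subgroup Γ} {g : Γ}
    (hX : g ∈ Subgroup.normalizer (X : Set Γ)) (hY : g ∈ Subgroup.normalizer (Y : Set Γ)) :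
    g ∈ Subgroup.normalizer ((X ⊔ Y : Subgroup Γ) : Set Γ) := by
  apply mem_normalizer_of_conj_mem
  intro z hz
  have hle : (X ⊔ Y).map (MulAut.conj g).toMonoidHom ≤ X ⊔ Y := by
    rw [Subgroup.map_sup]
    apply sup_le_sup
    · rintro _ ⟨x, hx, rfl⟩
      exact conj_mem_of_mem_normalizer' hX hx
    · rintro _ ⟨x, hx, rfl⟩
      exact conj_mem_of_mem_normalizer' hY hx
  exact hle ⟨z, hz, rfl⟩

theorem le_lcs_of_comm_eq {Q T K : Subgroup Γ} (hQT : ⁅Q, T⁆ = Q) (hQ : Q ≤ K) (hT : T ≤ K)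
    (n : ℕ) : Q ≤ K.lowerCentralSeries n := by
  induction n with
  | zero => exact hQ
  | succ n ih =>
    rw [Subgroup.lowerCentralSeries_succ]
    calc Q = ⁅Q, T⁆ := hQT.symm
      _ ≤ ⁅K.lowerCentralSeries n, K⁆ := Subgroup.commutator_mono ih hT

theorem eq_bot_of_isPGroup_of_isPGroup [Finite Γ] {s r : ℕ} (hs : s.Prime) (hr : r.Prime)
    (hsr : s ≠ r) {Q : Subgroup Γ} (h1 : IsPGroup s Q) (h2 : IsPGroup r Q) : Q = ⊥ := by
  haveI := Fact.mk hs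
  haveI := Fact.mk hr
  obtain ⟨a, ha⟩ := IsPGroup.iff_card.1 h1
  obtain ⟨b, hb⟩ := IsPGroup.iff_card.1 h2
  rw [← Subgroup.card_eq_one]
  have hcop : Nat.Coprime (s ^ a) (r ^ b) :=
    Nat.Coprime.pow _ _ ((Nat.coprime_primes hs hr).2 hsr)
  have h3 : Nat.card Q ∣ 1 := by
    have := Nat.dvd_gcd (ha ▸ dvd_rfl : Nat.card Q ∣ s ^ a) (hb ▸ dvd_rfl : Nat.card Q ∣ r ^ b)
    rwa [hcop] at this
  exact Nat.dvd_one.1 h3

theorem dvd_card_of_isPGroup_ne_bot [Finite Γ] {s : ℕ} (hs : s.Prime) {Q : Subgroup Γ}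
    (h1 : IsPGroup s Q) (hne : Q ≠ ⊥) : s ∣ Nat.card Q := by
  haveI := Fact.mk hs
  obtain ⟨n, hn⟩ := IsPGroup.iff_card.1 h1
  rcases Nat.eq_zero_or_pos n with h0 | hpos
  · exfalso
    rw [h0, pow_zero] at hn
    exact hne (Subgroup.card_eq_one.1 hn)
  · rw [hn]; exact dvd_pow_self s (Nat.pos_iff_ne_zero.1 hpos)

theorem solv_of_isPGroup [Finite Γ] {s : ℕ} (hs : s.Prime) {Q : Subgroup Γ}
    (h1 : IsPGroup s Q) : Group.IsSolvable Q := by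
  haveI : Fact s.Prime := ⟨hs⟩
  haveI := h1.isNilpotent
  infer_instance

theorem card_coprime_of_isPGroup [Finite Γ] {s r : ℕ} (hs : s.Prime) (hr : r.Prime)
    (hsr : s ≠ r) {Q : Subgroup Γ} (h1 : IsPGroup s Q) : (Nat.card Q).Coprime r := by
  haveI := Fact.mk hs
  obtain ⟨a, ha⟩ := IsPGroup.iff_card.1 h1
  rw [ha]
  exact Nat.Coprime.pow_left _ ((Nat.coprime_primes hs hr).2 hsr)

/-- a fixed-point-free coprime action: `[X, 𝔸] = X`. -/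
theorem comm_eq_of_fpf [Finite Γ] (𝔸 X : Subgroup Γ)
    (hAX : 𝔸 ≤ Subgroup.normalizer (X : Set Γ))
    (hcop : (Nat.card 𝔸).Coprime (Nat.card X)) (hsolv : Group.IsSolvable X)
    (hC : ∀ x ∈ X, (∀ a ∈ 𝔸, a * x * a⁻¹ = x) → x = 1) : ⁅X, 𝔸⁆ = X := by
  have hsup := Cfsg.Agent.Helper1.coprime_commutator_sup_centralizer 𝔸 X hAX hcop (Or.inr hsolv)
  have hbot : X ⊓ Subgroup.centralizer ((𝔸 : Subgroup Γ) : Set Γ) = ⊥ := by
    rw [eq_bot_iff]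
    rintro x ⟨hx1, hx2⟩
    rw [Subgroup.mem_bot]
    apply hC x hx1
    intro a ha
    have h1 : a * x = x * a := Subgroup.mem_centralizer_iff.1 hx2 a ha
    rw [h1]; group
  rw [hbot, sup_bot_eq] at hsup
  exact hsup

end gp

section roots

variable {k : Type*} [Field k] [IsAlgClosed k] {Γ : Type*} [Group Γ] [Finite Γ]

theorem natCast_ne_zero_of_dvd {a b : ℕ} (hab : a ∣ b) (hb : ((b : ℕ) : k) ≠ 0) :
    ((a : ℕ) : k) ≠ 0 := by
  obtain ⟨c, rfl⟩ := hab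
  intro h0
  apply hb
  rw [Nat.cast_mul, h0, zero_mul]

theorem roots_of_card (X : Type*) [Group X] [Finite X] (hX : ((Nat.card X : ℕ) : k) ≠ 0) :
    HasEnoughRootsOfUnity k (Monoid.exponent X) := by
  have h1 : Monoid.exponent X ∣ Nat.card X := Group.exponent_dvd_nat_card
  haveI : NeZero ((Monoid.exponent X : ℕ) : k) := ⟨natCast_ne_zero_of_dvd h1 hX⟩
  infer_instance

theorem roots_abelianization (Q : Subgroup Γ) (hQ : ((Nat.card Q : ℕ) : k) ≠ 0) :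
    HasEnoughRootsOfUnity k (Monoid.exponent (Abelianization Q)) := by
  have h0 : Monoid.exponent (Abelianization Q) ∣ Monoid.exponent Q :=
    MonoidHom.exponent_dvd (f := (Abelianization.of : Q →* Abelianization Q))
      (QuotientGroup.mk_surjective)
  have h1 : Monoid.exponent Q ∣ Nat.card Q := Group.exponent_dvd_nat_card
  haveI : NeZero ((Monoid.exponent (Abelianization Q) : ℕ) : k) :=
    ⟨natCast_ne_zero_of_dvd (h0.trans h1) hQ⟩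
  infer_instance

end roots

section main

variable {k : Type*} [Field k] [IsAlgClosed k] {r : ℕ} [hr : Fact r.Prime] [CharP k r]
  {Γ : Type*} [Group Γ] [Finite Γ] {W : Type*} [AddCommGroup W] [Module k W]
  [Module.Finite k W] (ρ : Representation k Γ W) {p q m : ℕ} {𝔸 : Subgroup Γ} {f h : Γ}

/-- proper normal invariant subgroups are nilpotent. -/
theorem nilpotent_of_proper (H : Subgroup Γ)
    (hOp : ∀ P : Subgroup Γ, P ≤ H → (∀ g ∈ H, ∀ x ∈ P, g * x * g⁻¹ ∈ P) →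
      𝔸 ≤ Subgroup.normalizer (P : Set Γ) → IsPGroup r P → P = ⊥)
    (hMin : ∀ H₀ : Subgroup Γ, H₀ ≤ H → H₀ ≠ H → 𝔸 ≤ Subgroup.normalizer (H₀ : Set Γ) →
      ∃ c : ℕ, IsPGroup r (H₀.lowerCentralSeries c)) :
    ∀ N₀ : Subgroup Γ, N₀ ≤ H → N₀ ≠ H → (∀ g ∈ H, ∀ x ∈ N₀, g * x * g⁻¹ ∈ N₀) →
      𝔸 ≤ Subgroup.normalizer (N₀ : Set Γ) → Group.IsNilpotent ↥N₀ := by
  intro N₀ hle hne hn hA
  obtain ⟨c, hc⟩ := hMin N₀ hle hne hA
  have hP : N₀.lowerCentralSeries c ≤ N₀ := N₀.lowerCentralSeries_antitone (Nat.zero_le c)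
  have hbot := hOp (N₀.lowerCentralSeries c) (hP.trans hle)
    (fun g hg x hx => conj_mem_of_mem_normalizer'
      (mem_normalizer_lcs (mem_normalizer_of_conj_mem N₀ g (hn g hg)) c) hx)
    (fun a ha => mem_normalizer_lcs (hA ha) c) hc
  exact (Subgroup.isNilpotent_iff_lowerCentralSeries N₀).2 ⟨c, hbot⟩

/-- **The linear theorem**, modulo Lemma P (`hP`) and Lemma R (`hR`). -/
theorem false_of_min_config (g : FrobGen p q m 𝔸 f h)
    (hfix : ∀ w : W, (∀ a ∈ 𝔸, ρ a w = w) → w = 0)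
    (H : Subgroup Γ) (hcop : (Nat.card H).Coprime (p * q)) (hrpq : r.Coprime (p * q))
    (hCH : ∀ x ∈ H, (∀ a ∈ 𝔸, a * x * a⁻¹ = x) → x = 1)
    (hfaith : ∀ x ∈ H, ρ x = 1 → x = 1)
    (hIrr : ∀ E : Subgroup Γ, E ≤ H → E ≠ ⊥ → (∀ g ∈ H, ∀ x ∈ E, g * x * g⁻¹ ∈ E) →
      𝔸 ≤ Subgroup.normalizer (E : Set Γ) → ∀ w : W, (∀ e ∈ E, ρ e w = w) → w = 0)
    (hMin : ∀ H₀ : Subgroup Γ, H₀ ≤ H → H₀ ≠ H → 𝔸 ≤ Subgroup.normalizer (H₀ : Set Γ) →
      ∃ c : ℕ, IsPGroup r (H₀.lowerCentralSeries c))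
    (hP : ∃ (s t : ℕ) (Q T : Subgroup Γ), s.Prime ∧ t.Prime ∧ s ≠ t ∧ s ≠ r ∧ Q ≤ H ∧ T ≤ H ∧
      IsPGroup s Q ∧ IsPGroup t T ∧ (∀ g ∈ H, ∀ x ∈ Q, g * x * g⁻¹ ∈ Q) ∧
      𝔸 ≤ Subgroup.normalizer (Q : Set Γ) ∧ 𝔸 ≤ Subgroup.normalizer (T : Set Γ) ∧
      ∃ x ∈ T, ∃ g ∈ Q, x * g ≠ g * x)
    (hR : ∀ (s : ℕ) (Q T : Subgroup Γ) (y : Γ) (M : Submodule k W), s.Prime → s ≠ r → q ≠ r →
      s ≠ q → IsPGroup s Q → IsPGroup r T → y ^ q = 1 →
      T ≤ Subgroup.normalizer (Q : Set Γ) → y ∈ Subgroup.normalizer (Q : Set Γ) →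
      y ∈ Subgroup.normalizer (T : Set Γ) → (∀ x ∈ T, y * x * y⁻¹ = x → x = 1) →
      (∀ g ∈ Q, ∀ w ∈ M, ρ g w ∈ M) → (∀ x ∈ T, ∀ w ∈ M, ρ x w ∈ M) → (∀ w ∈ M, ρ y w ∈ M) →
      (∀ w ∈ M, ρ y w = w → w = 0) →
      (∀ g ∈ Q, ∀ h ∈ Q, ∃ c : k, ∀ w ∈ M, ρ (g * h * g⁻¹ * h⁻¹) w = c • w) →
      ∀ x ∈ T, ∀ g ∈ Q, ∀ w ∈ M, ρ (x * g * x⁻¹ * g⁻¹) w = w) : False := by
  letI : Fintype Γ := Fintype.ofFinite Γ
  have hr' : r.Prime := hr.out
  have hp : p.Prime := g.hp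
  have hq : q.Prime := g.hq
  obtain ⟨s, t, Q₀, T₀, hs, ht, hst, hsr, hQ₀H, hT₀H, hQ₀s, hT₀t, hQ₀n, hAQ₀, hAT₀, hne₀⟩ := hP
  have hTQ₀ : T₀ ≤ Subgroup.normalizer (Q₀ : Set Γ) := fun x hx =>
    mem_normalizer_of_conj_mem Q₀ x (hQ₀n x (hT₀H hx))
  obtain ⟨Q, T, hQQ₀, hTT₀, pr⟩ := exists_pair_min hs ht hst hQ₀s hT₀t hAQ₀ hAT₀ hTQ₀ hne₀
  have hQH : Q ≤ H := hQQ₀.trans hQ₀H
  have hTH : T ≤ H := hTT₀.trans hT₀H
  -- `Q ⊔ T = H`
  have hsup : Q ⊔ T = H := by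
    by_contra hne
    have hA : 𝔸 ≤ Subgroup.normalizer ((Q ⊔ T : Subgroup Γ) : Set Γ) := fun a ha =>
      normalizer_sup_mem (pr.AQ ha) (pr.AT ha)
    obtain ⟨c, hc⟩ := hMin (Q ⊔ T) (sup_le hQH hTH) hne hA
    have h1 : Q ≤ (Q ⊔ T).lowerCentralSeries c :=
      le_lcs_of_comm_eq pr.comm_eq le_sup_left le_sup_right c
    exact pr.Q_ne_bot (eq_bot_of_isPGroup_of_isPGroup hs hr' hsr pr.Qs (hc.to_le h1))
  have hHQ : H ≤ Subgroup.normalizer (Q : Set Γ) := by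
    rw [← hsup]; exact sup_le Subgroup.le_normalizer pr.TQ
  -- arithmetic
  have hsH : s ∣ Nat.card H :=
    (dvd_card_of_isPGroup_ne_bot hs pr.Qs pr.Q_ne_bot).trans (Subgroup.card_dvd_of_le hQH)
  have htH : t ∣ Nat.card H :=
    (dvd_card_of_isPGroup_ne_bot ht pr.Tt pr.T_ne_bot).trans (Subgroup.card_dvd_of_le hTH)
  have hspq : s.Coprime (p * q) := Nat.Coprime.coprime_dvd_left hsH hcop
  have htpq : t.Coprime (p * q) := Nat.Coprime.coprime_dvd_left htH hcop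
  have hne_of : ∀ a b : ℕ, a.Prime → a.Coprime b → ¬ a ∣ b := by
    intro a b ha hab hdvd
    have h1 : a ∣ 1 := by
      have := Nat.dvd_gcd dvd_rfl hdvd
      rwa [hab] at this
    exact ha.one_lt.ne' (Nat.dvd_one.1 h1)
  have hsp : s ≠ p := by
    rintro rfl
    exact hne_of _ _ hs hspq (dvd_mul_right _ _)
  have hsq : s ≠ q := by
    rintro rfl
    exact hne_of _ _ hs hspq (dvd_mul_left _ _)
  have htp : t ≠ p := by
    rintro rfl
    exact hne_of _ _ ht htpq (dvd_mul_right _ _)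
  have htq : t ≠ q := by
    rintro rfl
    exact hne_of _ _ ht htpq (dvd_mul_left _ _)
  have hqr : q ≠ r := by
    rintro rfl
    exact hne_of _ _ hr' hrpq (dvd_mul_left _ _)
  have hcast : ∀ n : ℕ, n.Coprime r → ((n : ℕ) : k) ≠ 0 := by
    intro n hn h0
    have h1 : r ∣ n := (CharP.cast_eq_zero_iff k r n).1 h0
    exact hne_of _ _ hr' hn.symm h1
  have hpk : (p : k) ≠ 0 :=
    hcast p (Nat.Coprime.coprime_dvd_left (dvd_mul_right p q) hrpq.symm)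
  have hqk : (q : k) ≠ 0 :=
    hcast q (Nat.Coprime.coprime_dvd_left (dvd_mul_left q p) hrpq.symm)
  have hsk : (s : k) ≠ 0 := hcast s ((Nat.coprime_primes hs hr').2 hsr)
  have hexc : ¬ (s = 2 ∧ ∃ n : ℕ, p = 2 ^ n + 1) := by
    rintro ⟨rfl, n, rfl⟩
    have h1 : q ∣ 2 ^ n := by simpa using g.dvd
    have h2 : q ∣ 2 := hq.dvd_of_dvd_pow h1
    have h3 : q = 2 := (Nat.prime_dvd_prime_iff_eq hq Nat.prime_two).1 h2
    exact hsq h3.symm
  -- cardinalities and roots of unity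
  have hcardk : ∀ X : Subgroup Γ, X ≤ Q → ((Nat.card X : ℕ) : k) ≠ 0 := fun X hX =>
    hcast _ (card_coprime_of_isPGroup hs hr' hsr (pr.Qs.to_le hX))
  have hZQ : centIn Q Q ≤ Q := fun _ hx => hx.1
  have hQk : (Fintype.card Q : k) ≠ 0 := by
    rw [← Nat.card_eq_fintype_card]; exact hcardk Q le_rfl
  have hZk : (Fintype.card (centIn Q Q) : k) ≠ 0 := by
    rw [← Nat.card_eq_fintype_card]; exact hcardk _ hZQ
  haveI : HasEnoughRootsOfUnity k (Monoid.exponent Q) := roots_of_card Q (hcardk Q le_rfl)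
  haveI : HasEnoughRootsOfUnity k (Monoid.exponent (centIn Q Q)) :=
    roots_of_card _ (hcardk _ hZQ)
  haveI : HasEnoughRootsOfUnity k (Monoid.exponent (Abelianization Q)) :=
    roots_abelianization Q (hcardk Q le_rfl)
  -- the hypotheses on `Q`
  have hcopA : ∀ X : Subgroup Γ, X ≤ H → (Nat.card 𝔸).Coprime (Nat.card X) := by
    intro X hX
    have h1 : (Nat.card X).Coprime (p * q) :=
      Nat.Coprime.coprime_dvd_left (Subgroup.card_dvd_of_le hX) hcop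
    exact Nat.Coprime.coprime_dvd_left g.card h1.symm
  have hfaithQ : ∀ x ∈ Q, ρ x = 1 → x = 1 := fun x hx => hfaith x (hQH hx)
  have hCHQ : ∀ x ∈ Q, (∀ a ∈ 𝔸, a * x * a⁻¹ = x) → x = 1 := fun x hx => hCH x (hQH hx)
  have hCHT : ∀ x ∈ T, (∀ a ∈ 𝔸, a * x * a⁻¹ = x) → x = 1 := fun x hx => hCH x (hTH hx)
  have hCWQ : ∀ w : W, (∀ e ∈ Q, ρ e w = w) → w = 0 :=
    hIrr Q hQH pr.Q_ne_bot (fun g hg x hx => conj_mem_of_mem_normalizer' (hHQ hg) hx) pr.AQ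
  have hCWZ : ∀ w : W, (∀ e ∈ centIn Q Q, ρ e w = w) → w = 0 :=
    hIrr (centIn Q Q) (hZQ.trans hQH) pr.center_ne_bot
      (fun g hg x hx => conj_mem_centIn Q Q (hHQ hg) (hHQ hg) hx) pr.A_le_normalizer_center
  have hgenQ : ⁅Q, 𝔸⁆ = Q :=
    comm_eq_of_fpf 𝔸 Q pr.AQ (hcopA Q hQH) pr.solvQ hCHQ
  have hgenZ : ⁅centIn Q Q, 𝔸⁆ = centIn Q Q :=
    comm_eq_of_fpf 𝔸 (centIn Q Q) pr.A_le_normalizer_center (hcopA _ (hZQ.trans hQH))
      (solv_of_isPGroup hs (pr.Qs.to_le hZQ)) (fun x hx => hCHQ x (hZQ hx))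
  -- Lemma R for the pair
  have hR' : ∀ (y : Γ) (M : Submodule k W), y ∈ 𝔸 → y ^ q = 1 →
      (∀ x ∈ T, y * x * y⁻¹ = x → x = 1) →
      (∀ g ∈ Q, ∀ w ∈ M, ρ g w ∈ M) → (∀ x ∈ T, ∀ w ∈ M, ρ x w ∈ M) → (∀ w ∈ M, ρ y w ∈ M) →
      (∀ w ∈ M, ρ y w = w → w = 0) →
      (∀ g ∈ Q, ∀ h ∈ Q, ∃ c : k, ∀ w ∈ M, ρ (g * h * g⁻¹ * h⁻¹) w = c • w) →
      ∀ x ∈ T, ∀ g ∈ Q, ∀ w ∈ M, ρ (x * g * x⁻¹ * g⁻¹) w = w := by
    intro y M hy hyq hfreeT hMQ hMT hMy hfixy hsc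
    by_cases htr : t = r
    · subst htr
      exact hR s Q T y M hs hsr hqr hsq pr.Qs pr.Tt hyq pr.TQ (pr.AQ hy) (pr.AT hy) hfreeT
        hMQ hMT hMy hfixy hsc
    · have hq1 : q - 1 + 1 = q := by have := hq.pos; omega
      have hTk : ((Nat.card T : ℕ) : k) ≠ 0 :=
        hcast _ (card_coprime_of_isPGroup ht hr' htr pr.Tt)
      have htriv := frob_trivial ρ T y (pr.AT hy) (q - 1) (by rw [hq1]; exact hyq)
        (by rw [hq1]; exact free_pow_of_prime hq T y hyq hfreeT) hTk M hMT hMy hfixy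
      intro x hx g' hg' w hw
      have h1 : ρ g'⁻¹ w ∈ M := hMQ _ (Q.inv_mem hg') w hw
      have h2 : ρ x⁻¹ (ρ g'⁻¹ w) = ρ g'⁻¹ w := htriv _ (T.inv_mem hx) _ h1
      have h3 : ρ g' (ρ g'⁻¹ w) = w := by
        rw [← Module.End.mul_apply, ← map_mul, mul_inv_cancel, map_one, Module.End.one_apply]
      rw [map_mul, map_mul, map_mul, Module.End.mul_apply, Module.End.mul_apply,
        Module.End.mul_apply, h2, h3]
      exact htriv x hx w hw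
  -- the cases
  rcases pr.claimA g htp with hTf | ⟨hTF, hTN⟩
  · have hTh : ∀ x ∈ T, h * x * h⁻¹ = x → x = 1 := fun x hx h1 =>
      hCHT x hx (fixed_of_commute g (hTf x hx) h1)
    rcases pr.caseT_split g hTf with hQf | hQF
    · exact pr.false_caseT_central (k := k) g hTf hQf hCHQ hCHT htq
    · by_cases hQc : ∀ a ∈ Q, ∀ b ∈ Q, a * b = b * a
      · exact false_caseT_abelian ρ g hpk hqk hfix pr hQc hQk hfaithQ hCWQ hTf hQF hTh htp
      · push Not at hQc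
        exact false_caseT_nonabelian ρ g hpk hqk hfix pr hQc hZk hfaithQ hCWZ hgenZ hTf hQF hTh
          hsp hexc hsk hR'
  · by_cases hQc : ∀ a ∈ Q, ∀ b ∈ Q, a * b = b * a
    · exact false_caseN_abelian ρ g hpk hqk hfix pr hQc hQk hfaithQ hCWQ hgenQ hCHQ hTN hsk htp
    · push Not at hQc
      exact false_caseN_nonabelian ρ g hpk hqk hfix pr hQc hZk hfaithQ hCWZ hgenZ hCHQ hTF hTN
        hsp hexc hsk htp

end main

end Cfsg.Agent.Lead.Fpq
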