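import Cfsg.Agent.Lead.FpqTn

/-!
S4306: lemmas for the case `[T, F] = T`.
-/

set_option autoImplicit false
set_option linter.style.haveILetI false
set_option linter.unusedSectionVars false

namespace Cfsg.Agent.Lead.Fpq

open scoped BigOperators commutatorElement
open Classical
open Cfsg.Agent.Lead.S3F

variable {k : Type*} [Field k] {Γ : Type*} [Group Γ] [Fintype Γ]
  {W : Type*} [AddCommGroup W] [Module k W] (ρ : Representation k Γ W)
  {p q m : ℕ} {𝔸 Q T : Subgroup Γ} {f h : Γ} {s t : ℕ}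

omit [Fintype Γ] in
/-- the elements normalizing `Q` whose conjugation does not change the action of `Q` on `M`. -/
def centOn (Q : Subgroup Γ) (M : Submodule k W) : Subgroup Γ where
  carrier := {u | u ∈ Subgroup.normalizer (Q : Set Γ) ∧
    ∀ g ∈ Q, ∀ w ∈ M, ρ (u * g * u⁻¹) w = ρ g w}
  mul_mem' := by
    rintro a b ⟨ha, ha'⟩ ⟨hb, hb'⟩
    refine ⟨Subgroup.mul_mem _ ha hb, fun g hg w hw => ?_⟩
    have e : a * b * g * (a * b)⁻¹ = a * (b * g * b⁻¹) * a⁻¹ := by group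
    rw [e, ha' _ (conj_mem_of_mem_normalizer' hb hg) w hw, hb' g hg w hw]
  one_mem' := ⟨Subgroup.one_mem _, fun g _ w _ => by simp⟩
  inv_mem' := by
    rintro a ⟨ha, ha'⟩
    refine ⟨Subgroup.inv_mem _ ha, fun g hg w hw => ?_⟩
    have hg' : a⁻¹ * g * a⁻¹⁻¹ ∈ Q := conj_mem_of_mem_normalizer' (Subgroup.inv_mem _ ha) hg
    have := ha' _ hg' w hw
    have e : a * (a⁻¹ * g * a⁻¹⁻¹) * a⁻¹ = g := by group
    rw [e] at this
    exact this.symm

omit [Fintype Γ] in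
theorem conj_mem_centOn (Q : Subgroup Γ) (M : Submodule k W) {x u : Γ}
    (hxQ : x ∈ Subgroup.normalizer (Q : Set Γ)) (hxM : ∀ w ∈ M, ρ x⁻¹ w ∈ M)
    (hu : u ∈ centOn ρ Q M) : x * u * x⁻¹ ∈ centOn ρ Q M := by
  obtain ⟨hu1, hu2⟩ := hu
  refine ⟨Subgroup.mul_mem _ (Subgroup.mul_mem _ hxQ hu1) (Subgroup.inv_mem _ hxQ), ?_⟩
  intro g hg w hw
  have hg' : x⁻¹ * g * x⁻¹⁻¹ ∈ Q := conj_mem_of_mem_normalizer' (Subgroup.inv_mem _ hxQ) hg
  have e : x * u * x⁻¹ * g * (x * u * x⁻¹)⁻¹ = x * (u * (x⁻¹ * g * x⁻¹⁻¹) * u⁻¹) * x⁻¹ := by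
    group
  rw [e, map_mul, map_mul, Module.End.mul_apply, Module.End.mul_apply,
    hu2 _ hg' _ (hxM w hw), ← Module.End.mul_apply, ← Module.End.mul_apply, ← map_mul, ← map_mul]
  congr 2
  group

omit [Fintype Γ] in
/-- if `T = [T, F]` and `f` does not change the action of `Q` on the `T`-invariant `M`, then
`[T, Q]` acts trivially on `M`. -/
theorem comm_trivial_of_centOn (Q T : Subgroup Γ) (f : Γ) (M : Submodule k W)
    (hTQ : T ≤ Subgroup.normalizer (Q : Set Γ)) (hTF : ⁅T, Subgroup.zpowers f⁆ = T)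
    (hMQ : ∀ g ∈ Q, ∀ w ∈ M, ρ g w ∈ M) (hMT : ∀ x ∈ T, ∀ w ∈ M, ρ x w ∈ M)
    (hf : f ∈ centOn ρ Q M) :
    ∀ x ∈ T, ∀ g ∈ Q, ∀ w ∈ M, ρ (x * g * x⁻¹ * g⁻¹) w = w := by
  have hle : T ≤ centOn ρ Q M := by
    rw [← hTF, Subgroup.commutator_le]
    intro x hx φ hφ
    have hφC : φ ∈ centOn ρ Q M := (Subgroup.zpowers_le.2 hf) hφ
    have h1 := conj_mem_centOn ρ Q M (hTQ hx) (fun w hw => hMT _ (T.inv_mem hx) w hw) hφC
    rw [commutatorElement_def]
    exact Subgroup.mul_mem _ h1 (Subgroup.inv_mem _ hφC)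
  intro x hx g hg w hw
  have h1 := (hle hx).2 g hg _ (hMQ _ (Q.inv_mem hg) w hw)
  have e : x * g * x⁻¹ * g⁻¹ = (x * g * x⁻¹) * g⁻¹ := by group
  rw [e, map_mul, Module.End.mul_apply, h1, ← Module.End.mul_apply, ← map_mul, mul_inv_cancel,
    map_one, Module.End.one_apply]

omit [Fintype Γ] in
theorem card_ne_zero_of_isPGroup [Finite Γ] {s : ℕ} (hs : s.Prime) (hsk : (s : k) ≠ 0)
    (X : Subgroup Γ) (hX : IsPGroup s X) : (Nat.card X : k) ≠ 0 := by
  haveI : Fact s.Prime := ⟨hs⟩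
  obtain ⟨n, hn⟩ := IsPGroup.iff_card.1 hX
  rw [hn, Nat.cast_pow]
  exact pow_ne_zero n hsk

/-- the fixed points of `F` on `Q` act trivially on the weight spaces fixed by a conjugate of `h`
without fixed vectors. -/
theorem centF_le_fixer (g : FrobGen p q m 𝔸 f h) (hs : s.Prime) (hsk : (s : k) ≠ 0)
    (hQs : IsPGroup s Q) (hAQ : 𝔸 ≤ Subgroup.normalizer (Q : Set Γ))
    (hCH : ∀ x ∈ Q, (∀ a ∈ 𝔸, a * x * a⁻¹ = x) → x = 1)
    (E : Subgroup Γ) (χ : E →* kˣ) (hQS : Q ≤ charStab E χ)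
    (a : Γ) (ha : a ∈ Subgroup.zpowers f) (haS : a * h * a⁻¹ ∈ charStab E χ)
    (hfixy : ∀ w ∈ wtSpace ρ E χ, ρ (a * h * a⁻¹) w = w → w = 0) :
    centIn Q (Subgroup.zpowers f) ≤ fixer ρ (wtSpace ρ E χ) := by
  have g' := g.conj_h ha
  have r' := g'.toFrobRel
  have hy𝔸 : a * h * a⁻¹ ∈ 𝔸 := g'.h_mem
  have hFA : 𝔸 ≤ Subgroup.normalizer ((Subgroup.zpowers f : Subgroup Γ) : Set Γ) := by
    apply g.le_of_mem
    · exact Subgroup.le_normalizer (Subgroup.mem_zpowers f)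
    · exact g.toFrobRel.h_mem_normalizer
  have hyX : a * h * a⁻¹ ∈ Subgroup.normalizer
      ((centIn Q (Subgroup.zpowers f) : Subgroup Γ) : Set Γ) :=
    mem_normalizer_of_conj_mem _ _
      (fun x hx => conj_mem_centIn Q _ (hAQ hy𝔸) (hFA hy𝔸) hx)
  have hq1 : q - 1 + 1 = q := by have := r'.hq.pos; omega
  have hyq : (a * h * a⁻¹) ^ (q - 1 + 1) = 1 := by rw [hq1]; exact r'.hq1
  have hfree1 : ∀ x ∈ centIn Q (Subgroup.zpowers f), a * h * a⁻¹ * x * (a * h * a⁻¹)⁻¹ = x →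
      x = 1 := by
    intro x hx h1
    apply hCH x hx.1
    have hB : 𝔸 ≤ Subgroup.centralizer ({x} : Set Γ) := by
      apply g'.le_of_mem
      · rw [Subgroup.mem_centralizer_singleton_iff]
        exact (hx.2 f (Subgroup.mem_zpowers f)).symm
      · rw [Subgroup.mem_centralizer_singleton_iff]
        calc a * h * a⁻¹ * x = (a * h * a⁻¹ * x * (a * h * a⁻¹)⁻¹) * (a * h * a⁻¹) := by group
          _ = x * (a * h * a⁻¹) := by rw [h1]
    intro b hb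
    have := hB hb
    rw [Subgroup.mem_centralizer_singleton_iff] at this
    rw [this]; group
  have hfree := free_pow_of_prime r'.hq (centIn Q (Subgroup.zpowers f)) (a * h * a⁻¹) r'.hq1 hfree1
  have hXk : (Nat.card (centIn Q (Subgroup.zpowers f)) : k) ≠ 0 :=
    card_ne_zero_of_isPGroup hs hsk _ (hQs.to_le (fun _ hx => hx.1))
  have key := frob_trivial ρ (centIn Q (Subgroup.zpowers f)) (a * h * a⁻¹) hyX (q - 1) hyq
    (by rw [hq1]; exact hfree) hXk (wtSpace ρ E χ)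
    (fun x hx w hw => rho_mem_wtSpace_of_mem_charStab ρ E χ x (hQS hx.1) w hw)
    (fun w hw => rho_mem_wtSpace_of_mem_charStab ρ E χ _ haS w hw) hfixy
  exact fun x hx w hw => key x hx w hw

/-- an element acting trivially on all weight spaces acts trivially. -/
theorem rho_eq_one_of_forall_fixer (E : Subgroup Γ) (hEc : ∀ a ∈ E, ∀ b ∈ E, a * b = b * a)
    (hEk : (Fintype.card E : k) ≠ 0) [HasEnoughRootsOfUnity k (Monoid.exponent E)]
    (u : Γ) (hu : ∀ χ : E →* kˣ, IsWt ρ E χ → u ∈ fixer ρ (wtSpace ρ E χ)) : ρ u = 1 := by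
  ext w
  rw [Module.End.one_apply]
  obtain ⟨S, hS⟩ := exists_wt_decomp ρ E hEc hEk w
  rw [hS, map_sum]
  apply Finset.sum_congr rfl
  intro χ _
  by_cases h0 : wtProj ρ E χ w = 0
  · rw [h0, map_zero]
  · have hmem : wtProj ρ E χ w ∈ wtSpace ρ E χ := wtProj_apply_mem ρ E χ w
    exact hu χ ⟨_, hmem, h0⟩ _ hmem

end Cfsg.Agent.Lead.Fpq
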