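import Cfsg.Agent.Lead.FpqNn

/-!
S4306: the case `[T, F] = T`, `Q` abelian.
-/

set_option autoImplicit false
set_option linter.style.haveILetI false
set_option linter.unusedSectionVars false

namespace Cfsg.Agent.Lead.Fpq

open scoped BigOperators commutatorElement
open Classical
open Cfsg.Agent.Lead.S3F

variable {k : Type*} [Field k] {Γ : Type*} [Group Γ] [Fintype Γ]
  {W : Type*} [AddCommGroup W] [Module k W] (ρ : Representation k Γ W)
  {p q m : ℕ} {𝔸 Q T : Subgroup Γ} {f h : Γ} {s t : ℕ}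

omit [Fintype Γ] in
/-- an element of `E` acts on a weight space through the weight. -/
theorem mem_fixer_of_char_eq_one (E : Subgroup Γ) (χ : E →* kˣ) (u : E) (h1 : χ u = 1) :
    (u : Γ) ∈ fixer ρ (wtSpace ρ E χ) := by
  intro w hw
  rw [hw u, h1, Units.val_one, one_smul]

omit [Fintype Γ] in
theorem char_eq_one_of_mem_fixer (E : Subgroup Γ) (χ : E →* kˣ) (hχ : IsWt ρ E χ) (u : E)
    (hu : (u : Γ) ∈ fixer ρ (wtSpace ρ E χ)) : χ u = 1 := by
  obtain ⟨v, hv, hv0⟩ := hχ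
  have h1 := hv u
  rw [hu v hv] at h1
  have h2 : ((χ u : kˣ) : k) = 1 := by
    by_contra hne
    apply hv0
    have h3 : (((χ u : kˣ) : k) - 1) • v = 0 := by rw [sub_smul, one_smul, ← h1, sub_self]
    rcases smul_eq_zero.1 h3 with h4 | h4
    · exact absurd (sub_eq_zero.1 h4) hne
    · exact h4
  exact Units.ext h2

/-- the conjugation of characters commutes with finite products. -/
theorem conjChar_prod (Q : Subgroup Γ) (y : Γ) (hy : y ∈ Subgroup.normalizer (Q : Set Γ))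
    (O : Finset (Q →* kˣ)) : conjChar Q y hy (∏ χ ∈ O, χ) = ∏ χ ∈ O, conjChar Q y hy χ := by
  have h1 := map_prod (conjAut (k := k) Q ⟨y, hy⟩) (fun χ : Q →* kˣ => χ) O
  rw [conjAut_apply] at h1
  rw [h1]
  apply Finset.prod_congr rfl
  intro χ _
  rw [conjAut_apply]

/-- **Case `[T, F] = T`, `Q` abelian.** -/
theorem false_caseN_abelian (g : FrobGen p q m 𝔸 f h) (hpk : (p : k) ≠ 0) (hqk : (q : k) ≠ 0)
    (hfix : NoFixA ρ 𝔸) (pr : Pair 𝔸 Q T s t)
    (hQc : ∀ a ∈ Q, ∀ b ∈ Q, a * b = b * a) (hQk : (Fintype.card Q : k) ≠ 0)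
    [HasEnoughRootsOfUnity k (Monoid.exponent Q)]
    [HasEnoughRootsOfUnity k (Monoid.exponent (Abelianization Q))]
    (hfaith : ∀ x ∈ Q, ρ x = 1 → x = 1)
    (hCW : ∀ w : W, (∀ e ∈ Q, ρ e w = w) → w = 0)
    (hgenQ : ⁅Q, 𝔸⁆ = Q)
    (hCH : ∀ x ∈ Q, (∀ a ∈ 𝔸, a * x * a⁻¹ = x) → x = 1)
    (hTN : ∀ x ∈ T, f * x * f⁻¹ = x → x ∈ centIn T Q)
    (hsk : (s : k) ≠ 0) (htp : t ≠ p) : False := by
  have r := g.toFrobRel
  haveI : Fact t.Prime := ⟨pr.ht⟩
  have hQS : ∀ χ : Q →* kˣ, Q ≤ charStab Q χ := by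
    intro χ x hx
    apply mem_charStab_of_commute
    intro n hn
    exact hQc x hx n hn
  by_cases hC : centIn Q (Subgroup.zpowers f) = ⊥
  · exact false_caseN_of_centF (k := k) g pr hTN htp hC
  -- an element `u` of `C_Q(F)` and a weight `lam` with `lam u ≠ 1`
  obtain ⟨u, hu, hu1⟩ : ∃ u ∈ centIn Q (Subgroup.zpowers f), u ≠ 1 := by
    by_contra hno
    push Not at hno
    apply hC
    rw [Subgroup.eq_bot_iff_forall]
    exact hno
  have hρu : ρ u ≠ 1 := fun h1 => hu1 (hfaith u hu.1 h1)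
  obtain ⟨lam, hlam, hulam⟩ : ∃ lam : Q →* kˣ, IsWt ρ Q lam ∧
      u ∉ fixer ρ (wtSpace ρ Q lam) := by
    by_contra hno
    push Not at hno
    exact hρu (rho_eq_one_of_forall_fixer ρ Q hQc hQk u hno)
  -- the type of a weight
  have htype : ∀ χ : Q →* kˣ, IsWt ρ Q χ → u ∉ fixer ρ (wtSpace ρ Q χ) → f ∈ charStab Q χ := by
    intro χ hχ huχ
    rcases stab_cases ρ g hpk hqk hfix Q hQk pr.AQ χ hχ with h1 | h1 | h1
    · exact h1.1
    · exact h1.1
    · exfalso
      obtain ⟨-, a, ha, haS, hfixy⟩ := h1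
      exact huχ (centF_le_fixer ρ g pr.hs hsk pr.Qs pr.AQ hCH Q χ (hQS χ) a ha haS hfixy hu)
  have hfS : f ∈ charStab Q lam := htype lam hlam hulam
  have hlamu : lam ⟨u, hu.1⟩ ≠ 1 := fun h1 =>
    hulam (mem_fixer_of_char_eq_one ρ Q lam ⟨u, hu.1⟩ h1)
  -- the conjugates of `lam` under `T`
  obtain ⟨cx, hcx⟩ : ∃ cx : T → (Q →* kˣ), ∀ x : T, cx x = conjChar Q (x : Γ) (pr.TQ x.2) lam :=
    ⟨_, fun _ => rfl⟩
  have hcxW : ∀ x : T, IsWt ρ Q (cx x) := by
    intro x; rw [hcx]; exact isWt_conj ρ Q _ _ lam hlam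
  -- a conjugate fixed by `f` is `lam`
  have hcoset : ∀ x : T, f ∈ charStab Q (cx x) → (x : Γ) ∈ charStab Q lam := by
    intro x hfx
    rw [hcx] at hfx
    have hFS : Subgroup.zpowers f ≤ charStab Q lam := Subgroup.zpowers_le.2 hfS
    have hFSx : Subgroup.zpowers f ≤ charStab Q (conjChar Q (x : Γ) (pr.TQ x.2) lam) :=
      Subgroup.zpowers_le.2 hfx
    have hFT : Subgroup.zpowers f ≤ Subgroup.normalizer (T : Set Γ) := g.zpowers_le.trans pr.AT
    have hcopFT : (Nat.card (Subgroup.zpowers f)).Coprime (Nat.card T) := by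
      have h1 : Nat.card (Subgroup.zpowers f) ∣ p := by
        rw [Nat.card_zpowers]; exact orderOf_dvd_of_pow_eq_one r.fp
      apply Nat.Coprime.coprime_dvd_left h1
      obtain ⟨n, hn⟩ := IsPGroup.iff_card.1 pr.Tt
      rw [hn]
      apply Nat.Coprime.pow_right
      rw [Nat.coprime_primes r.hp pr.ht]
      exact htp.symm
    have hsolvF : Group.IsSolvable (Subgroup.zpowers f) := inferInstance
    obtain ⟨n, hn, hc⟩ := Cfsg.Agent.Helper1.exists_mem_centralizer_of_coset_fixed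
      (Subgroup.zpowers f) T (T ⊓ charStab Q lam) hFT hcopFT inf_le_left
      (Cfsg.Agent.Helper1.le_normalizer_inf hFT (hFS.trans Subgroup.le_normalizer))
      (Or.inr hsolvF) (x : Γ)⁻¹ (T.inv_mem x.2) (by
        intro φ hφ
        refine ⟨?_, ?_⟩
        · have h1 := conj_mem_of_mem_normalizer' (hFT hφ) (T.inv_mem x.2)
          have : φ * (x : Γ)⁻¹ * φ⁻¹ * ((x : Γ)⁻¹)⁻¹ = φ * (x : Γ)⁻¹ * φ⁻¹ * (x : Γ) := by
            rw [inv_inv]
          rw [this]
          exact T.mul_mem h1 x.2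
        · have h2 := charStab_conj_inv Q (pr.TQ x.2) (hFSx (Subgroup.inv_mem _ hφ))
          have e : φ * (x : Γ)⁻¹ * φ⁻¹ * ((x : Γ)⁻¹)⁻¹ = φ * ((x : Γ)⁻¹ * φ⁻¹ * (x : Γ)) := by
            group
          rw [e]
          exact Subgroup.mul_mem _ (hFS hφ) h2)
    obtain ⟨hcT, hcF⟩ := hc
    have hcf : f * (n⁻¹ * (x : Γ)⁻¹) * f⁻¹ = n⁻¹ * (x : Γ)⁻¹ := by
      have := Subgroup.mem_centralizer_iff.1 hcF f (Subgroup.mem_zpowers f)
      rw [this]; group
    have hcS : n⁻¹ * (x : Γ)⁻¹ ∈ charStab Q lam :=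
      mem_charStab_of_commute Q (hTN _ hcT hcf).2
    have h3 : (x : Γ)⁻¹ ∈ charStab Q lam := by
      have := Subgroup.mul_mem _ hn.2 hcS
      rwa [mul_inv_cancel_left] at this
    have := Subgroup.inv_mem _ h3
    rwa [inv_inv] at this
  -- the values at `u` of the other conjugates are trivial
  have hval : ∀ x : T, cx x ≠ lam → cx x ⟨u, hu.1⟩ = 1 := by
    intro x hne
    by_contra h1
    have h2 : u ∉ fixer ρ (wtSpace ρ Q (cx x)) := fun h3 =>
      h1 (char_eq_one_of_mem_fixer ρ Q (cx x) (hcxW x) ⟨u, hu.1⟩ h3)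
    have h4 := hcoset x (htype (cx x) (hcxW x) h2)
    apply hne
    rw [hcx]
    exact h4.2
  -- the product of the conjugates
  obtain ⟨O, hO⟩ : ∃ O : Finset (Q →* kˣ), O = Finset.univ.image cx := ⟨_, rfl⟩
  have hlamO : lam ∈ O := by
    rw [hO, Finset.mem_image]
    refine ⟨1, Finset.mem_univ _, ?_⟩
    rw [hcx]
    exact conjChar_one Q lam
  have hprod : (∏ χ ∈ O, χ) ⟨u, hu.1⟩ = lam ⟨u, hu.1⟩ := by
    rw [MonoidHom.finset_prod_apply]
    apply Finset.prod_eq_single lam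
    · intro χ hχ hne
      rw [hO, Finset.mem_image] at hχ
      obtain ⟨x, -, rfl⟩ := hχ
      exact hval x hne
    · intro h1; exact absurd hlamO h1
  have hTS : T ≤ charStab Q (∏ χ ∈ O, χ) := by
    intro y hy
    refine ⟨pr.TQ hy, ?_⟩
    rw [conjChar_prod]
    have hinj : Function.Injective (conjChar (k := k) Q y (pr.TQ hy)) := by
      intro χ₁ χ₂ h12
      have := congrArg (conjChar Q y⁻¹ (Subgroup.inv_mem _ (pr.TQ hy))) h12
      rwa [conjChar_inv_cancel, conjChar_inv_cancel] at this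
    have himg : O.image (conjChar Q y (pr.TQ hy)) = O := by
      apply Finset.eq_of_subset_of_card_le
      · intro χ hχ
        rw [Finset.mem_image] at hχ
        obtain ⟨χ', hχ', rfl⟩ := hχ
        rw [hO, Finset.mem_image] at hχ' ⊢
        obtain ⟨x, -, rfl⟩ := hχ'
        refine ⟨⟨y, hy⟩ * x, Finset.mem_univ _, ?_⟩
        rw [hcx, hcx]
        exact conjChar_mul Q y x (pr.TQ hy) (pr.TQ x.2) lam
      · rw [Finset.card_image_of_injective O hinj]
    conv_rhs => rw [← himg]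
    rw [Finset.prod_image (fun a _ b _ hab => hinj hab)]
  have h5 := char_eq_one_of_le_charStab Q T _ hTS pr.comm_eq ⟨u, hu.1⟩
  rw [hprod] at h5
  exact hlamu h5

end Cfsg.Agent.Lead.Fpq
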