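import Cfsg.Agent.Lead.FpqN0

/-!
S4306: the case `[T, F] = T`, `Q` non-abelian.
-/

set_option autoImplicit false
set_option linter.style.haveILetI false
set_option linter.unusedSectionVars false

namespace Cfsg.Agent.Lead.Fpq

open scoped BigOperators commutatorElement
open Classical
open Cfsg.Agent.Lead.S3F

variable {k : Type*} [Field k] {Γ : Type*} [Group Γ] [Fintype Γ]
  {W : Type*} [AddCommGroup W] [Module k W] (ρ : Representation k Γ W)
  {p q m : ℕ} {𝔸 Q T : Subgroup Γ} {f h : Γ} {s t : ℕ}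

/-- the end of the case `[T, F] = T`: `F` has no fixed points on `Q`. -/
theorem false_caseN_of_centF (g : FrobGen p q m 𝔸 f h) (pr : Pair 𝔸 Q T s t)
    [HasEnoughRootsOfUnity k (Monoid.exponent (Abelianization Q))]
    (hTN : ∀ x ∈ T, f * x * f⁻¹ = x → x ∈ centIn T Q) (htp : t ≠ p)
    (hC : centIn Q (Subgroup.zpowers f) = ⊥) : False := by
  have r := g.toFrobRel
  have hp1 : p - 1 + 1 = p := by have := r.hp.pos; omega
  haveI : Fact t.Prime := ⟨pr.ht⟩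
  refine false_of_fpf_elt (k := k) pr f g.f_mem (p - 1) (by rw [hp1]; exact r.hp)
    (by rw [hp1]; exact r.fp) ?_ ?_ hTN
  · rw [hp1]
    obtain ⟨n, hn⟩ := IsPGroup.iff_card.1 pr.Tt
    rw [hn]
    apply Nat.Coprime.pow_right
    rw [Nat.coprime_primes r.hp pr.ht]
    exact htp.symm
  · intro x hx h1
    have h2 : f * x = x * f := by
      calc f * x = (f * x * f⁻¹) * f := by group
        _ = x * f := by rw [h1]
    have h3 : x ∈ centIn Q (Subgroup.zpowers f) :=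
      ⟨hx, fun φ hφ => (commute_zpowers h2 hφ).symm⟩
    rw [hC, Subgroup.mem_bot] at h3
    exact h3

/-- **Case `[T, F] = T`, `Q` non-abelian.** -/
theorem false_caseN_nonabelian [IsAlgClosed k] [Module.Finite k W]
    (g : FrobGen p q m 𝔸 f h) (hpk : (p : k) ≠ 0) (hqk : (q : k) ≠ 0)
    (hfix : NoFixA ρ 𝔸) (pr : Pair 𝔸 Q T s t)
    (hna : ∃ a ∈ Q, ∃ b ∈ Q, a * b ≠ b * a)
    (hZk : (Fintype.card (centIn Q Q) : k) ≠ 0)
    [HasEnoughRootsOfUnity k (Monoid.exponent (centIn Q Q))]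
    [HasEnoughRootsOfUnity k (Monoid.exponent (Abelianization Q))]
    (hfaith : ∀ x ∈ Q, ρ x = 1 → x = 1)
    (hCW : ∀ w : W, (∀ e ∈ centIn Q Q, ρ e w = w) → w = 0)
    (hgenZ : ⁅centIn Q Q, 𝔸⁆ = centIn Q Q)
    (hCH : ∀ x ∈ Q, (∀ a ∈ 𝔸, a * x * a⁻¹ = x) → x = 1)
    (hTF : ⁅T, Subgroup.zpowers f⁆ = T)
    (hTN : ∀ x ∈ T, f * x * f⁻¹ = x → x ∈ centIn T Q)
    (hsp : s ≠ p) (hexc : ¬ (s = 2 ∧ ∃ n : ℕ, p = 2 ^ n + 1)) (hsk : (s : k) ≠ 0)
    (htp : t ≠ p) : False := by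
  have r := g.toFrobRel
  have hZQ : centIn Q Q ≤ Q := fun _ hz => hz.1
  have hZc := Pair.center_comm Q
  have hAZ := pr.A_le_normalizer_center
  have hQS : ∀ μ : centIn Q Q →* kˣ, Q ≤ charStab (centIn Q Q) μ := by
    intro μ x hx
    apply mem_charStab_of_commute
    intro n hn
    exact (hn.2 x hx).symm
  have hTS : ∀ μ : centIn Q Q →* kˣ, T ≤ charStab (centIn Q Q) μ := by
    intro μ x hx
    apply mem_charStab_of_commute
    intro n hn
    exact pr.cent_center hna x hx n hn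
  have hall : ∀ μ : centIn Q Q →* kˣ, IsWt ρ (centIn Q Q) μ →
      centIn Q (Subgroup.zpowers f) ≤ fixer ρ (wtSpace ρ (centIn Q Q) μ) := by
    intro μ hμ
    have hMQ : ∀ g ∈ Q, ∀ w ∈ wtSpace ρ (centIn Q Q) μ, ρ g w ∈ wtSpace ρ (centIn Q Q) μ :=
      fun x hx w hw => rho_mem_wtSpace_of_mem_charStab ρ _ μ x (hQS μ hx) w hw
    have hMT : ∀ x ∈ T, ∀ w ∈ wtSpace ρ (centIn Q Q) μ, ρ x w ∈ wtSpace ρ (centIn Q Q) μ :=
      fun x hx w hw => rho_mem_wtSpace_of_mem_charStab ρ _ μ x (hTS μ hx) w hw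
    rcases stab_cases ρ g hpk hqk hfix (centIn Q Q) hZk hAZ μ hμ with h1 | h1 | h1
    · exfalso
      have hA : 𝔸 ≤ charStab (centIn Q Q) μ := g.le_of_mem h1.1 h1.2
      exact not_isWt_of_char_eq_one ρ _ hCW μ
        (char_eq_one_of_le_charStab _ 𝔸 μ hA hgenZ) hμ
    · exfalso
      obtain ⟨hfS, -, hfixf⟩ := h1
      have hMf : ∀ w ∈ wtSpace ρ (centIn Q Q) μ, ρ f w ∈ wtSpace ρ (centIn Q Q) μ :=
        fun w hw => rho_mem_wtSpace_of_mem_charStab ρ _ μ f hfS w hw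
      have key := hh_trivial ρ r.hp pr.hs hsp hexc hpk hsk Q pr.Qs f (pr.AQ g.f_mem) r.fp
        (wtSpace ρ (centIn Q Q) μ) hMQ hMf hfixf
      have hfC : f ∈ centOn ρ Q (wtSpace ρ (centIn Q Q) μ) := ⟨pr.AQ g.f_mem, key⟩
      have key2 := comm_trivial_of_centOn ρ Q T f _ pr.TQ hTF hMQ hMT hfC
      have hle := le_fixer_of_comm ρ (wtSpace ρ (centIn Q Q) μ) Q T pr.comm_eq key2
      exact false_of_le_fixer ρ _ Q hZQ hCW μ hμ hle
    · obtain ⟨-, a, ha, haS, hfixy⟩ := h1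
      exact centF_le_fixer ρ g pr.hs hsk pr.Qs pr.AQ hCH _ μ (hQS μ) a ha haS hfixy
  apply false_caseN_of_centF (k := k) g pr hTN htp
  rw [Subgroup.eq_bot_iff_forall]
  intro u hu
  apply hfaith u hu.1
  exact rho_eq_one_of_forall_fixer ρ (centIn Q Q) hZc hZk u (fun μ hμ => hall μ hμ hu)

end Cfsg.Agent.Lead.Fpq
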