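import Cfsg.Agent.Lead.S3fGp

/-!
S4305, case (b): group-theoretic generalities (the map `z ↦ (a⁻¹ z⁻¹ a) z`, coset covers).
-/

set_option autoImplicit false
set_option linter.style.haveILetI false

namespace Cfsg.Agent.Lead.S3F

open scoped Pointwise
open Classical

variable {Γ : Type*} [Group Γ]

/-- `psi a z = (a⁻¹ z⁻¹ a) z`. -/
def psi (a z : Γ) : Γ := a⁻¹ * z⁻¹ * a * z

theorem psi_def (a z : Γ) : psi a z = a⁻¹ * z⁻¹ * a * z := rfl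

theorem psi_conj (g a z : Γ) : g * psi a z * g⁻¹ = psi (g * a * g⁻¹) (g * z * g⁻¹) := by
  unfold psi; group

theorem psi_one (a : Γ) : psi a 1 = 1 := by unfold psi; group

theorem psi_sq (g z : Γ) : psi (g * g) z = g⁻¹ * psi g z * g * psi g z := by
  unfold psi; group

section abelian

variable (R : Subgroup Γ) (hRc : ∀ a ∈ R, ∀ b ∈ R, a * b = b * a)

theorem psi_mem {a : Γ} (ha : ∀ z ∈ R, a⁻¹ * z * a ∈ R) {z : Γ} (hz : z ∈ R) : psi a z ∈ R := by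
  unfold psi
  exact R.mul_mem (ha _ (R.inv_mem hz)) hz

include hRc

theorem psi_mul {a : Γ} (ha : ∀ z ∈ R, a⁻¹ * z * a ∈ R) {z₁ z₂ : Γ} (h₁ : z₁ ∈ R) (h₂ : z₂ ∈ R) :
    psi a (z₁ * z₂) = psi a z₁ * psi a z₂ := by
  unfold psi
  have e1 : a⁻¹ * z₁⁻¹ * a ∈ R := ha _ (R.inv_mem h₁)
  have e2 : a⁻¹ * z₂⁻¹ * a ∈ R := ha _ (R.inv_mem h₂)
  have c1 := hRc _ e2 _ e1
  have c2 := hRc _ e2 _ h₁
  calc a⁻¹ * (z₁ * z₂)⁻¹ * a * (z₁ * z₂)
      = (a⁻¹ * z₂⁻¹ * a) * (a⁻¹ * z₁⁻¹ * a) * z₁ * z₂ := by group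
    _ = (a⁻¹ * z₁⁻¹ * a) * ((a⁻¹ * z₂⁻¹ * a) * z₁) * z₂ := by rw [c1]; group
    _ = (a⁻¹ * z₁⁻¹ * a) * (z₁ * (a⁻¹ * z₂⁻¹ * a)) * z₂ := by rw [c2]
    _ = a⁻¹ * z₁⁻¹ * a * z₁ * (a⁻¹ * z₂⁻¹ * a * z₂) := by group

theorem psi_inv {a : Γ} (ha : ∀ z ∈ R, a⁻¹ * z * a ∈ R) {z : Γ} (hz : z ∈ R) :
    psi a z⁻¹ = (psi a z)⁻¹ := by
  have h1 := psi_mul R hRc ha hz (R.inv_mem hz)
  rw [mul_inv_cancel, psi_one] at h1
  exact eq_inv_of_mul_eq_one_right h1.symm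

/-- the subgroup of `R` on which `psi a` takes values in `S`. -/
def psiSub (S : Subgroup Γ) {a : Γ} (ha : ∀ z ∈ R, a⁻¹ * z * a ∈ R) : Subgroup Γ where
  carrier := {z | z ∈ R ∧ psi a z ∈ S}
  mul_mem' := by
    rintro x y ⟨hx, hx'⟩ ⟨hy, hy'⟩
    refine ⟨R.mul_mem hx hy, ?_⟩
    rw [psi_mul R hRc ha hx hy]
    exact S.mul_mem hx' hy'
  one_mem' := ⟨R.one_mem, by rw [psi_one]; exact S.one_mem⟩
  inv_mem' := by
    rintro x ⟨hx, hx'⟩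
    refine ⟨R.inv_mem hx, ?_⟩
    rw [psi_inv R hRc ha hx]
    exact S.inv_mem hx'

/-- conjugating by an element of the abelian group `R` does not change `psi`. -/
theorem psi_conj_of_mem {a x z : Γ} (ha : ∀ z ∈ R, a⁻¹ * z * a ∈ R) (hx : x ∈ R) (hz : z ∈ R) :
    psi (x⁻¹ * a * x) z = psi a z := by
  unfold psi
  have h1 : x * z⁻¹ * x⁻¹ = z⁻¹ := by
    rw [hRc x hx z⁻¹ (R.inv_mem hz)]; group
  have h2 : a⁻¹ * z⁻¹ * a ∈ R := ha _ (R.inv_mem hz)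
  have h3 := hRc x⁻¹ (R.inv_mem hx) _ h2
  calc (x⁻¹ * a * x)⁻¹ * z⁻¹ * (x⁻¹ * a * x) * z
      = x⁻¹ * a⁻¹ * (x * z⁻¹ * x⁻¹) * a * x * z := by group
    _ = x⁻¹ * (a⁻¹ * z⁻¹ * a) * x * z := by rw [h1]; group
    _ = (a⁻¹ * z⁻¹ * a) * x⁻¹ * x * z := by rw [h3]
    _ = a⁻¹ * z⁻¹ * a * z := by group

end abelian

/-- an element lies in a subgroup if a power with exponent prime to its order does. -/
theorem mem_of_pow_mem_of_coprime (X : Subgroup Γ) {z : Γ} {m : ℕ} (hm : (orderOf z).Coprime m)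
    (hz : z ^ m ∈ X) : z ∈ X := by
  have h1 : z ∈ Subgroup.zpowers (z ^ m) := by
    rw [mem_zpowers_pow_iff]
    exact hm.symm
  exact (Subgroup.zpowers_le.2 hz) h1

/-- **Coset cover**: if every `R`-conjugate of the subgroup `S` contains one of fewer than `r`
given elements, one of them, suitably conjugated, has all its `psi`-values in `S`. -/
theorem exists_cover_witness [Finite Γ] {ι : Type*} [Fintype ι] (R : Subgroup Γ)
    (hRc : ∀ a ∈ R, ∀ b ∈ R, a * b = b * a) {r : ℕ} [hr : Fact r.Prime] (hR : IsPGroup r R)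
    (hι : Fintype.card ι < r) (S : Subgroup Γ) (a : ι → Γ)
    (ha : ∀ i, ∀ z ∈ R, (a i)⁻¹ * z * a i ∈ R)
    (hcov : ∀ x ∈ R, ∃ i, x⁻¹ * a i * x ∈ S) :
    ∃ i, ∃ x ∈ R, x⁻¹ * a i * x ∈ S ∧ ∀ z ∈ R, psi (x⁻¹ * a i * x) z ∈ S := by
  -- the indices which occur
  let s : Finset ι := Finset.univ.filter (fun i => ∃ x ∈ R, x⁻¹ * a i * x ∈ S)
  -- representatives
  let g : ι → R := fun i =>
    if h : ∃ x ∈ R, x⁻¹ * a i * x ∈ S then ⟨h.choose, h.choose_spec.1⟩ else 1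
  have hg : ∀ i ∈ s, ((g i : R) : Γ)⁻¹ * a i * (g i : R) ∈ S := by
    intro i hi
    have h : ∃ x ∈ R, x⁻¹ * a i * x ∈ S := (Finset.mem_filter.1 hi).2
    simp only [g, dif_pos h]
    exact h.choose_spec.2
  have hb : ∀ i, ∀ z ∈ R, (((g i : R) : Γ)⁻¹ * a i * (g i : R))⁻¹ * z
      * (((g i : R) : Γ)⁻¹ * a i * (g i : R)) ∈ R := by
    intro i z hz
    have h1 : ((g i : R) : Γ) * z * ((g i : R) : Γ)⁻¹ ∈ R :=
      R.mul_mem (R.mul_mem (g i).2 hz) (R.inv_mem (g i).2)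
    have h2 := ha i _ h1
    have h3 := R.mul_mem (R.mul_mem (R.inv_mem (g i).2) h2) (g i).2
    have : (((g i : R) : Γ)⁻¹ * a i * (g i : R))⁻¹ * z * (((g i : R) : Γ)⁻¹ * a i * (g i : R))
        = ((g i : R) : Γ)⁻¹ * ((a i)⁻¹ * (((g i : R) : Γ) * z * ((g i : R) : Γ)⁻¹) * a i)
          * (g i : R) := by group
    rw [this]; exact h3
  let H : ι → Subgroup R := fun i => (psiSub R hRc S (hb i)).subgroupOf R
  have hcovers : ⋃ i ∈ s, g i • (H i : Set R) = Set.univ := by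
    rw [Set.eq_univ_iff_forall]
    intro x
    obtain ⟨i, hi⟩ := hcov x x.2
    have his : i ∈ s := Finset.mem_filter.2 ⟨Finset.mem_univ _, x, x.2, hi⟩
    rw [Set.mem_iUnion₂]
    refine ⟨i, his, ?_⟩
    rw [Set.mem_smul_set_iff_inv_smul_mem]
    show ((g i)⁻¹ * x : R) ∈ H i
    rw [Subgroup.mem_subgroupOf]
    refine ⟨((g i)⁻¹ * x : R).2, ?_⟩
    have h1 := hg i his
    have : psi (((g i : R) : Γ)⁻¹ * a i * (g i : R)) (((g i)⁻¹ * x : R) : Γ)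
        = (((g i : R) : Γ)⁻¹ * a i * (g i : R))⁻¹ * ((x : Γ)⁻¹ * a i * x) := by
      unfold psi
      push_cast
      group
    rw [this]
    exact S.mul_mem (S.inv_mem h1) hi
  obtain ⟨i, his, -, hidx⟩ := Subgroup.exists_index_le_card_of_leftCoset_cover hcovers
  have hlt : (H i).index < r := by
    refine lt_of_le_of_lt hidx (lt_of_le_of_lt ?_ hι)
    exact Finset.card_le_univ s
  have hidx1 : (H i).index = 1 := by
    obtain ⟨n, hn⟩ := IsPGroup.iff_card.1 hR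
    have hdvd : (H i).index ∣ r ^ n := by
      rw [← hn]; exact Subgroup.index_dvd_card (H i)
    obtain ⟨j, -, hj⟩ := (Nat.dvd_prime_pow hr.out).1 hdvd
    rcases Nat.eq_zero_or_pos j with h0 | hpos
    · rw [hj, h0, pow_zero]
    · exfalso
      rw [hj] at hlt
      have : r ^ 1 ≤ r ^ j := Nat.pow_le_pow_right hr.out.pos hpos
      rw [pow_one] at this
      omega
  have htop : H i = ⊤ := Subgroup.index_eq_one.1 hidx1
  refine ⟨i, (g i : R), (g i).2, hg i his, ?_⟩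
  intro z hz
  have : (⟨z, hz⟩ : R) ∈ H i := by rw [htop]; exact Subgroup.mem_top _
  rw [Subgroup.mem_subgroupOf] at this
  exact this.2

theorem comm_identity3 {G : Type*} [CommGroup G] (a b c : G) :
    a * b * c * (b⁻¹ * a) * (b⁻¹ * a) * (c⁻¹ * b) = a ^ 3 := by
  apply Additive.ofMul.injective
  simp only [ofMul_mul, ofMul_inv, ofMul_pow]
  abel

open scoped IsMulCommutative in
theorem comm_identity3' (R : Subgroup Γ) (hRc : ∀ a ∈ R, ∀ b ∈ R, a * b = b * a) {a b c : Γ}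
    (ha : a ∈ R) (hb : b ∈ R) (hc : c ∈ R) :
    a * b * c * (b⁻¹ * a) * (b⁻¹ * a) * (c⁻¹ * b) = a ^ 3 := by
  haveI : IsMulCommutative R := ⟨⟨fun x y => Subtype.ext (hRc x x.2 y y.2)⟩⟩
  have := comm_identity3 (⟨a, ha⟩ : R) ⟨b, hb⟩ ⟨c, hc⟩
  have h2 := congrArg Subtype.val this
  simpa using h2

/-- if `psi σ` maps `R` into `X` and `X` contains the `σ`-fixed elements of `R`, then `R ≤ X`. -/
theorem le_of_psi_mem (R X : Subgroup Γ) (hRc : ∀ a ∈ R, ∀ b ∈ R, a * b = b * a) {σ : Γ}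
    (hσ3 : σ * (σ * σ) = 1) (hσR : ∀ z ∈ R, σ⁻¹ * z * σ ∈ R) {r : ℕ} [hr : Fact r.Prime]
    (hR : IsPGroup r R) (hr3 : r ≠ 3) (hfix : ∀ z ∈ R, σ * z * σ⁻¹ = z → z ∈ X)
    (hpsi : ∀ z ∈ R, psi σ z ∈ X) : R ≤ X := by
  intro z hz
  have hb : σ⁻¹ * z * σ ∈ R := hσR z hz
  have hc : σ⁻¹ * (σ⁻¹ * z * σ) * σ ∈ R := hσR _ hb
  have hid := comm_identity3' R hRc hz hb hc
  -- the norm is fixed
  have hν : z * (σ⁻¹ * z * σ) * (σ⁻¹ * (σ⁻¹ * z * σ) * σ) ∈ X := by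
    apply hfix _ (R.mul_mem (R.mul_mem hz hb) hc)
    have e1 : σ * z * σ⁻¹ = σ⁻¹ * (σ⁻¹ * z * σ) * σ := by
      have h2 : σ * σ = σ⁻¹ := eq_inv_of_mul_eq_one_right hσ3
      have h4 : σ⁻¹ * σ⁻¹ = σ := by
        have := congrArg (·⁻¹) h2
        simpa using this
      calc σ * z * σ⁻¹ = (σ⁻¹ * σ⁻¹) * z * (σ * σ) := by rw [h4, h2]
        _ = σ⁻¹ * (σ⁻¹ * z * σ) * σ := by group
    calc σ * (z * (σ⁻¹ * z * σ) * (σ⁻¹ * (σ⁻¹ * z * σ) * σ)) * σ⁻¹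
        = (σ * z * σ⁻¹) * z * (σ⁻¹ * z * σ) := by group
      _ = (σ⁻¹ * (σ⁻¹ * z * σ) * σ) * z * (σ⁻¹ * z * σ) := by rw [e1]
      _ = z * (σ⁻¹ * z * σ) * (σ⁻¹ * (σ⁻¹ * z * σ) * σ) := by
          rw [hRc _ hc z hz, mul_assoc, hRc _ hc _ hb, ← mul_assoc]
  have h1 : psi σ z = (σ⁻¹ * z * σ)⁻¹ * z := by unfold psi; group
  have h2 : psi σ (σ⁻¹ * z * σ) = (σ⁻¹ * (σ⁻¹ * z * σ) * σ)⁻¹ * (σ⁻¹ * z * σ) := by
    unfold psi; group
  have h3 : z ^ 3 ∈ X := by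
    rw [← hid, ← h1, ← h2]
    exact X.mul_mem (X.mul_mem (X.mul_mem hν (hpsi z hz)) (hpsi z hz)) (hpsi _ hb)
  apply mem_of_pow_mem_of_coprime X _ h3
  obtain ⟨n, hn⟩ := hR ⟨z, hz⟩
  have hn' : z ^ (r ^ n) = 1 := by
    have := congrArg Subtype.val hn
    simpa using this
  have hdvd : orderOf z ∣ r ^ n := orderOf_dvd_of_pow_eq_one hn'
  have hcop : Nat.Coprime (r ^ n) 3 := by
    apply Nat.Coprime.pow_left
    rw [Nat.coprime_primes hr.out Nat.prime_three]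
    exact hr3
  exact Nat.Coprime.coprime_dvd_left hdvd hcop

end Cfsg.Agent.Lead.S3F
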