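import Cfsg.Agent.Lead.S3fOp
import Cfsg.Agent.Lead.S3fB1

/-!
S4305, case (b), type D: a reflection has no fixed points on the centraliser of its commutator.
-/

set_option autoImplicit false
set_option linter.style.haveILetI false

namespace Cfsg.Agent.Lead.S3F

open Classical

variable {Γ : Type*} [Group Γ]

/-- the centraliser of `N` in `R`. -/
def centIn (R N : Subgroup Γ) : Subgroup Γ where
  carrier := {x | x ∈ R ∧ ∀ n ∈ N, x * n = n * x}
  mul_mem' := by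
    rintro a b ⟨ha, ha'⟩ ⟨hb, hb'⟩
    refine ⟨R.mul_mem ha hb, fun n hn => ?_⟩
    calc a * b * n = a * (b * n) := by group
      _ = a * (n * b) := by rw [hb' n hn]
      _ = (a * n) * b := by group
      _ = (n * a) * b := by rw [ha' n hn]
      _ = n * (a * b) := by group
  one_mem' := ⟨R.one_mem, fun n _ => by simp⟩
  inv_mem' := by
    rintro a ⟨ha, ha'⟩
    refine ⟨R.inv_mem ha, fun n hn => ?_⟩
    have := ha' n hn
    calc a⁻¹ * n = a⁻¹ * (n * a) * a⁻¹ := by group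
      _ = a⁻¹ * (a * n) * a⁻¹ := by rw [this]
      _ = n * a⁻¹ := by group

/-- the elements of `R` commuting with `d`. -/
def commIn (R : Subgroup Γ) (d : Γ) : Subgroup Γ where
  carrier := {x | x ∈ R ∧ x * d = d * x}
  mul_mem' := by
    rintro a b ⟨ha, ha'⟩ ⟨hb, hb'⟩
    refine ⟨R.mul_mem ha hb, ?_⟩
    calc a * b * d = a * (b * d) := by group
      _ = a * (d * b) := by rw [hb']
      _ = (a * d) * b := by group
      _ = (d * a) * b := by rw [ha']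
      _ = d * (a * b) := by group
  one_mem' := ⟨R.one_mem, by simp⟩
  inv_mem' := by
    rintro a ⟨ha, ha'⟩
    refine ⟨R.inv_mem ha, ?_⟩
    calc a⁻¹ * d = a⁻¹ * (d * a) * a⁻¹ := by group
      _ = a⁻¹ * (a * d) * a⁻¹ := by rw [ha']
      _ = d * a⁻¹ := by group

theorem psi_mul_left (a b z : Γ) : psi (a * b) z = b⁻¹ * psi a z * b * psi b z := by
  unfold psi; group

/-- conjugation preserves the centraliser of a normalised subgroup. -/
theorem conj_mem_centIn (R N : Subgroup Γ) {g : Γ} (hgR : g ∈ Subgroup.normalizer (R : Set Γ))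
    (hgN : g ∈ Subgroup.normalizer (N : Set Γ)) {x : Γ} (hx : x ∈ centIn R N) :
    g * x * g⁻¹ ∈ centIn R N := by
  refine ⟨conj_mem_of_mem_normalizer' hgR hx.1, fun n hn => ?_⟩
  have hn' : g⁻¹ * n * g ∈ N := by
    have := conj_mem_of_mem_normalizer' (Subgroup.inv_mem _ hgN) hn
    simpa using this
  have := hx.2 _ hn'
  calc g * x * g⁻¹ * n = g * (x * (g⁻¹ * n * g)) * g⁻¹ := by group
    _ = g * ((g⁻¹ * n * g) * x) * g⁻¹ := by rw [this]
    _ = n * (g * x * g⁻¹) := by group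

section lemmaM

variable (N R : Subgroup Γ) {σ t : Γ} (h : S3Rel σ t)
  (hNc : ∀ a ∈ N, ∀ b ∈ N, a * b = b * a) (hRc : ∀ a ∈ R, ∀ b ∈ R, a * b = b * a)
  (hσN : σ ∈ Subgroup.normalizer (N : Set Γ)) (htN : t ∈ Subgroup.normalizer (N : Set Γ))
  (hσR : σ ∈ Subgroup.normalizer (R : Set Γ)) (htR : t ∈ Subgroup.normalizer (R : Set Γ))
  (hRN : R ≤ Subgroup.normalizer (N : Set Γ))

/-- the generators of `R` coming from the reflections. -/
def genSet (σ t : Γ) : Set Γ :=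
  {y | y ∈ centIn R N ∨ ∃ z ∈ R, y = psi t z ∨ y = σ * psi t z * σ⁻¹ ∨
    y = (σ * σ) * psi t z * (σ * σ)⁻¹}

include htR in
theorem psi_t_mem {z : Γ} (hz : z ∈ R) : psi t z ∈ R := by
  apply psi_mem R _ hz
  intro z hz
  have := conj_mem_of_mem_normalizer' (Subgroup.inv_mem _ htR) hz
  simpa using this

include hσR htR in
theorem genSet_subset : genSet N R σ t ⊆ (R : Set Γ) := by
  rintro y (hy | ⟨z, hz, rfl | rfl | rfl⟩)
  · exact hy.1
  · exact psi_t_mem R htR hz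
  · exact conj_mem_of_mem_normalizer' hσR (psi_t_mem R htR hz)
  · exact conj_mem_of_mem_normalizer' (Subgroup.mul_mem _ hσR hσR) (psi_t_mem R htR hz)

include h hσN hσR in
theorem sigma_conj_genSet {y : Γ} (hy : y ∈ genSet N R σ t) : σ * y * σ⁻¹ ∈ genSet N R σ t := by
  rcases hy with hy | ⟨z, hz, rfl | rfl | rfl⟩
  · exact Or.inl (conj_mem_centIn R N hσR hσN hy)
  · exact Or.inr ⟨z, hz, Or.inr (Or.inl rfl)⟩
  · refine Or.inr ⟨z, hz, Or.inr (Or.inr ?_)⟩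
    group
  · refine Or.inr ⟨z, hz, Or.inl ?_⟩
    have e1 := h.elts.1
    calc σ * (σ * σ * psi t z * (σ * σ)⁻¹) * σ⁻¹
        = (σ * (σ * σ)) * psi t z * (σ * (σ * σ))⁻¹ := by group
      _ = psi t z := by rw [e1]; group

include h htN htR in
theorem t_conj_genSet {y : Γ} (hy : y ∈ genSet N R σ t) : t * y * t⁻¹ ∈ genSet N R σ t := by
  have e1 := h.elts.1
  have hts : t * σ = σ⁻¹ * t := h.tau_sigma
  have hsi : σ⁻¹ = σ * σ := h.sigma_inv
  have key : ∀ z : Γ, t * psi t z * t⁻¹ = psi t (t * z * t⁻¹) := by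
    intro z
    rw [psi_conj]
    congr 1
    group
  rcases hy with hy | ⟨z, hz, rfl | rfl | rfl⟩
  · exact Or.inl (conj_mem_centIn R N htR htN hy)
  · refine Or.inr ⟨t * z * t⁻¹, conj_mem_of_mem_normalizer' htR hz, Or.inl (key z)⟩
  · refine Or.inr ⟨t * z * t⁻¹, conj_mem_of_mem_normalizer' htR hz, Or.inr (Or.inr ?_)⟩
    rw [← key z]
    calc t * (σ * psi t z * σ⁻¹) * t⁻¹ = (t * σ) * psi t z * (t * σ)⁻¹ := by group
      _ = (σ⁻¹ * t) * psi t z * (σ⁻¹ * t)⁻¹ := by rw [hts]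
      _ = σ⁻¹ * (t * psi t z * t⁻¹) * σ⁻¹⁻¹ := by group
      _ = σ * σ * (t * psi t z * t⁻¹) * (σ * σ)⁻¹ := by rw [hsi]
  · refine Or.inr ⟨t * z * t⁻¹, conj_mem_of_mem_normalizer' htR hz, Or.inr (Or.inl ?_)⟩
    rw [← key z]
    have h2 : t * (σ * σ) = σ * t := h.elts.2.2.2.1
    calc t * (σ * σ * psi t z * (σ * σ)⁻¹) * t⁻¹
        = (t * (σ * σ)) * psi t z * (t * (σ * σ))⁻¹ := by group
      _ = (σ * t) * psi t z * (σ * t)⁻¹ := by rw [h2]
      _ = σ * (t * psi t z * t⁻¹) * σ⁻¹ := by group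

section star

variable [Finite Γ]

include h hRc hσN htN hσR htR in
/-- the reflections generate `R` modulo the centraliser of `N`. -/
theorem closure_genSet_eq {r : ℕ} [hr : Fact r.Prime] (hR : IsPGroup r R) (hr3 : r ≠ 3)
    (hD : ∀ x ∈ R, σ * x * σ⁻¹ = x → ∀ n ∈ N, x * n = n * x)
    (hRmin : ∀ R₀ : Subgroup Γ, R₀ ≤ R → R₀ ≠ R → σ ∈ Subgroup.normalizer (R₀ : Set Γ) →
      t ∈ Subgroup.normalizer (R₀ : Set Γ) → ∀ x ∈ R₀, ∀ n ∈ N, x * n = n * x)
    (hRne : ∃ x ∈ R, ∃ n ∈ N, x * n ≠ n * x) :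
    Subgroup.closure (genSet N R σ t) = R := by
  set Rs := Subgroup.closure (genSet N R σ t) with hRs
  have hle : Rs ≤ R := (Subgroup.closure_le R).2 (genSet_subset N R hσR htR)
  by_contra hne
  have hconj : ∀ g : Γ, (∀ y ∈ genSet N R σ t, g * y * g⁻¹ ∈ genSet N R σ t) →
      g ∈ Subgroup.normalizer (Rs : Set Γ) := by
    intro g hg
    apply mem_normalizer_of_conj_mem
    intro y hy
    induction hy using Subgroup.closure_induction with
    | mem y hy => exact Subgroup.subset_closure (hg y hy)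
    | one =>
      have : g * 1 * g⁻¹ = 1 := by group
      rw [this]; exact Rs.one_mem
    | mul a b _ _ ha hb =>
      have : g * (a * b) * g⁻¹ = (g * a * g⁻¹) * (g * b * g⁻¹) := by group
      rw [this]; exact Rs.mul_mem ha hb
    | inv a _ ha =>
      have : g * a⁻¹ * g⁻¹ = (g * a * g⁻¹)⁻¹ := by group
      rw [this]; exact Rs.inv_mem ha
  have hσs : σ ∈ Subgroup.normalizer (Rs : Set Γ) :=
    hconj σ (fun y hy => sigma_conj_genSet N R h hσN hσR hy)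
  have hts : t ∈ Subgroup.normalizer (Rs : Set Γ) :=
    hconj t (fun y hy => t_conj_genSet N R h htN htR hy)
  have hcent := hRmin Rs hle hne hσs hts
  -- all `psi` of reflections land in the centraliser
  have hR1 : ∀ y ∈ genSet N R σ t, y ∈ centIn R N := fun y hy =>
    ⟨hle (Subgroup.subset_closure hy), hcent y (Subgroup.subset_closure hy)⟩
  have hσiR : ∀ z ∈ R, σ⁻¹ * z * σ ∈ R := fun z hz => by
    have := conj_mem_of_mem_normalizer' (Subgroup.inv_mem _ hσR) hz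
    simpa using this
  have hp0 : ∀ z ∈ R, psi t z ∈ centIn R N := fun z hz => hR1 _ (Or.inr ⟨z, hz, Or.inl rfl⟩)
  have hp1 : ∀ z ∈ R, psi (σ * t * σ⁻¹) z ∈ centIn R N := by
    intro z hz
    have h1 := hR1 _ (Or.inr ⟨σ⁻¹ * z * σ, hσiR z hz, Or.inr (Or.inl rfl)⟩)
    rw [psi_conj] at h1
    have e : σ * (σ⁻¹ * z * σ) * σ⁻¹ = z := by group
    rwa [e] at h1
  -- `σ σ = (σ t σ⁻¹) t`
  have hss : σ * σ = (σ * t * σ⁻¹) * t := by
    have h1 : σ * t = t * σ⁻¹ := h.sigma_tau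
    have h2 : t * t = 1 := h.elts.2.1
    calc σ * σ = σ * σ * (t * t) := by rw [h2, mul_one]
      _ = σ * (σ * t) * t := by group
      _ = σ * (t * σ⁻¹) * t := by rw [h1]
      _ = (σ * t * σ⁻¹) * t := by group
  have hp2 : ∀ z ∈ R, psi (σ * σ) z ∈ centIn R N := by
    intro z hz
    rw [hss, psi_mul_left]
    have h1 := conj_mem_centIn R N (Subgroup.inv_mem _ htR) (Subgroup.inv_mem _ htN) (hp1 z hz)
    rw [inv_inv] at h1
    exact (centIn R N).mul_mem h1 (hp0 z hz)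
  have hp3 : ∀ z ∈ R, psi σ z ∈ centIn R N := by
    intro z hz
    have e1 := h.elts.1
    have hσ4 : σ = (σ * σ) * (σ * σ) := by
      calc σ = (σ * (σ * σ)) * σ := by rw [e1, one_mul]
        _ = (σ * σ) * (σ * σ) := by group
    have h0 : psi σ z = psi ((σ * σ) * (σ * σ)) z := by rw [← hσ4]
    rw [h0, psi_sq]
    have hssR : σ * σ ∈ Subgroup.normalizer (R : Set Γ) := Subgroup.mul_mem _ hσR hσR
    have hssN : σ * σ ∈ Subgroup.normalizer (N : Set Γ) := Subgroup.mul_mem _ hσN hσN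
    have h1 := conj_mem_centIn R N (Subgroup.inv_mem _ hssR) (Subgroup.inv_mem _ hssN) (hp2 z hz)
    rw [inv_inv] at h1
    exact (centIn R N).mul_mem h1 (hp2 z hz)
  have hRle : R ≤ centIn R N :=
    le_of_psi_mem R (centIn R N) hRc h.elts.1 hσiR hR hr3
      (fun z hz hfix => ⟨hz, hD z hz hfix⟩) hp3
  obtain ⟨x, hx, n, hn, hxn⟩ := hRne
  exact hxn ((hRle hx).2 n hn)

include h hRc hσN htN hσR htR in
/-- an element of `N` commuting with two of the three conjugates of `[R, t]` is centralised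
by `R`. -/
theorem commute_of_two {r : ℕ} [hr : Fact r.Prime] (hR : IsPGroup r R) (hr3 : r ≠ 3)
    (hD : ∀ x ∈ R, σ * x * σ⁻¹ = x → ∀ n ∈ N, x * n = n * x)
    (hRmin : ∀ R₀ : Subgroup Γ, R₀ ≤ R → R₀ ≠ R → σ ∈ Subgroup.normalizer (R₀ : Set Γ) →
      t ∈ Subgroup.normalizer (R₀ : Set Γ) → ∀ x ∈ R₀, ∀ n ∈ N, x * n = n * x)
    (hRne : ∃ x ∈ R, ∃ n ∈ N, x * n ≠ n * x)
    (d : Γ) (hd : d ∈ N) (h0 : ∀ z ∈ R, psi t z * d = d * psi t z)
    (h12 : (∀ z ∈ R, (σ * psi t z * σ⁻¹) * d = d * (σ * psi t z * σ⁻¹)) ∨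
      (∀ z ∈ R, ((σ * σ) * psi t z * (σ * σ)⁻¹) * d = d * ((σ * σ) * psi t z * (σ * σ)⁻¹))) :
    ∀ x ∈ R, x * d = d * x := by
  have hgen : genSet N R σ t ⊆ (commIn R d : Set Γ) := by
    have hsub := genSet_subset N R hσR htR
    have hssR : σ * σ ∈ Subgroup.normalizer (R : Set Γ) := Subgroup.mul_mem _ hσR hσR
    -- the norm of `y = psi t z`
    have hnorm : ∀ z ∈ R, psi t z * (σ * psi t z * σ⁻¹) * ((σ * σ) * psi t z * (σ * σ)⁻¹)
        ∈ commIn R d := by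
      intro z hz
      have hy := psi_t_mem R htR hz
      have hy1 := conj_mem_of_mem_normalizer' hσR hy
      have hy2 := conj_mem_of_mem_normalizer' hssR hy
      set y := psi t z with hydef
      have hm : y * (σ * y * σ⁻¹) * ((σ * σ) * y * (σ * σ)⁻¹) ∈ R :=
        R.mul_mem (R.mul_mem hy hy1) hy2
      refine ⟨hm, ?_⟩
      apply hD _ hm _ d hd
      have e1 := h.elts.1
      have e3 : σ * ((σ * σ) * y * (σ * σ)⁻¹) * σ⁻¹ = y := by
        calc σ * ((σ * σ) * y * (σ * σ)⁻¹) * σ⁻¹ = (σ * (σ * σ)) * y * (σ * (σ * σ))⁻¹ := by group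
          _ = y := by rw [e1]; group
      calc σ * (y * (σ * y * σ⁻¹) * ((σ * σ) * y * (σ * σ)⁻¹)) * σ⁻¹
          = (σ * y * σ⁻¹) * ((σ * σ) * y * (σ * σ)⁻¹) * (σ * ((σ * σ) * y * (σ * σ)⁻¹) * σ⁻¹) := by
            group
        _ = (σ * y * σ⁻¹) * ((σ * σ) * y * (σ * σ)⁻¹) * y := by rw [e3]
        _ = y * ((σ * y * σ⁻¹) * ((σ * σ) * y * (σ * σ)⁻¹)) :=
            hRc _ (R.mul_mem hy1 hy2) y hy
        _ = y * (σ * y * σ⁻¹) * ((σ * σ) * y * (σ * σ)⁻¹) := (mul_assoc _ _ _).symm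
    rintro y (hy | ⟨z, hz, rfl | rfl | rfl⟩)
    · exact ⟨hy.1, hy.2 d hd⟩
    · exact ⟨psi_t_mem R htR hz, h0 z hz⟩
    · rcases h12 with h1 | h2
      · exact ⟨conj_mem_of_mem_normalizer' hσR (psi_t_mem R htR hz), h1 z hz⟩
      · -- the middle one from the norm and the outer two
        have hy := psi_t_mem R htR hz
        have hy1 := conj_mem_of_mem_normalizer' hσR hy
        have hy2 := conj_mem_of_mem_normalizer' hssR hy
        have ha : psi t z ∈ commIn R d := ⟨hy, h0 z hz⟩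
        have hc : (σ * σ) * psi t z * (σ * σ)⁻¹ ∈ commIn R d := ⟨hy2, h2 z hz⟩
        have hν := hnorm z hz
        have : σ * psi t z * σ⁻¹ = (psi t z)⁻¹ * (psi t z * (σ * psi t z * σ⁻¹)
            * ((σ * σ) * psi t z * (σ * σ)⁻¹)) * ((σ * σ) * psi t z * (σ * σ)⁻¹)⁻¹ := by group
        rw [this]
        exact (commIn R d).mul_mem ((commIn R d).mul_mem ((commIn R d).inv_mem ha) hν)
          ((commIn R d).inv_mem hc)
    · rcases h12 with h1 | h2
      · have hy := psi_t_mem R htR hz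
        have hy1 := conj_mem_of_mem_normalizer' hσR hy
        have ha : psi t z ∈ commIn R d := ⟨hy, h0 z hz⟩
        have hb : σ * psi t z * σ⁻¹ ∈ commIn R d := ⟨hy1, h1 z hz⟩
        have hν := hnorm z hz
        have : (σ * σ) * psi t z * (σ * σ)⁻¹ = (psi t z * (σ * psi t z * σ⁻¹))⁻¹
            * (psi t z * (σ * psi t z * σ⁻¹) * ((σ * σ) * psi t z * (σ * σ)⁻¹)) := by group
        rw [this]
        exact (commIn R d).mul_mem ((commIn R d).inv_mem ((commIn R d).mul_mem ha hb)) hν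
      · exact ⟨conj_mem_of_mem_normalizer' hssR (psi_t_mem R htR hz), h2 z hz⟩
  have hcl : Subgroup.closure (genSet N R σ t) ≤ commIn R d := (Subgroup.closure_le _).2 hgen
  rw [closure_genSet_eq N R h hRc hσN htN hσR htR hR hr3 hD hRmin hRne] at hcl
  exact fun x hx => (hcl hx).2

include h hNc hRc hσN htN hσR htR hRN in
/-- **Lemma M**: a reflection has no fixed points on the centraliser of its commutator with `R`. -/
theorem eq_one_of_refl_fixed {r : ℕ} [hr : Fact r.Prime] (hR : IsPGroup r R) (hr3 : r ≠ 3)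
    (hD : ∀ x ∈ R, σ * x * σ⁻¹ = x → ∀ n ∈ N, x * n = n * x)
    (hRmin : ∀ R₀ : Subgroup Γ, R₀ ≤ R → R₀ ≠ R → σ ∈ Subgroup.normalizer (R₀ : Set Γ) →
      t ∈ Subgroup.normalizer (R₀ : Set Γ) → ∀ x ∈ R₀, ∀ n ∈ N, x * n = n * x)
    (hRne : ∃ x ∈ R, ∃ n ∈ N, x * n ≠ n * x)
    (hCN : ∀ n ∈ N, σ * n * σ⁻¹ = n → t * n * t⁻¹ = n → n = 1)
    (hCNR : ∀ n ∈ N, (∀ x ∈ R, x * n = n * x) → n = 1)
    (c : Γ) (hc : c ∈ N) (hct : t * c * t⁻¹ = c) (hcL : ∀ z ∈ R, psi t z * c = c * psi t z) :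
    c = 1 := by
  have e1 := h.elts.1
  have hssN : σ * σ ∈ Subgroup.normalizer (N : Set Γ) := Subgroup.mul_mem _ hσN hσN
  have hssR : σ * σ ∈ Subgroup.normalizer (R : Set Γ) := Subgroup.mul_mem _ hσR hσR
  have hc1 : σ * c * σ⁻¹ ∈ N := conj_mem_of_mem_normalizer' hσN hc
  have hc2 : (σ * σ) * c * (σ * σ)⁻¹ ∈ N := conj_mem_of_mem_normalizer' hssN hc
  -- the conjugated commutation relations
  have hc1L : ∀ z ∈ R, (σ * psi t z * σ⁻¹) * (σ * c * σ⁻¹) = (σ * c * σ⁻¹) * (σ * psi t z * σ⁻¹) := by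
    intro z hz
    calc (σ * psi t z * σ⁻¹) * (σ * c * σ⁻¹) = σ * (psi t z * c) * σ⁻¹ := by group
      _ = σ * (c * psi t z) * σ⁻¹ := by rw [hcL z hz]
      _ = _ := by group
  have hc2L : ∀ z ∈ R, ((σ * σ) * psi t z * (σ * σ)⁻¹) * ((σ * σ) * c * (σ * σ)⁻¹)
      = ((σ * σ) * c * (σ * σ)⁻¹) * ((σ * σ) * psi t z * (σ * σ)⁻¹) := by
    intro z hz
    calc ((σ * σ) * psi t z * (σ * σ)⁻¹) * ((σ * σ) * c * (σ * σ)⁻¹)
        = (σ * σ) * (psi t z * c) * (σ * σ)⁻¹ := by group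
      _ = (σ * σ) * (c * psi t z) * (σ * σ)⁻¹ := by rw [hcL z hz]
      _ = _ := by group
  -- the norm of `c` is trivial
  have hprod : c * (σ * c * σ⁻¹) * ((σ * σ) * c * (σ * σ)⁻¹) = 1 := by
    apply hCN _ (N.mul_mem (N.mul_mem hc hc1) hc2)
    · have e3 : σ * ((σ * σ) * c * (σ * σ)⁻¹) * σ⁻¹ = c := by
        calc σ * ((σ * σ) * c * (σ * σ)⁻¹) * σ⁻¹ = (σ * (σ * σ)) * c * (σ * (σ * σ))⁻¹ := by group
          _ = c := by rw [e1]; group
      calc σ * (c * (σ * c * σ⁻¹) * ((σ * σ) * c * (σ * σ)⁻¹)) * σ⁻¹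
          = (σ * c * σ⁻¹) * ((σ * σ) * c * (σ * σ)⁻¹) * (σ * ((σ * σ) * c * (σ * σ)⁻¹) * σ⁻¹) := by
            group
        _ = (σ * c * σ⁻¹) * ((σ * σ) * c * (σ * σ)⁻¹) * c := by rw [e3]
        _ = c * ((σ * c * σ⁻¹) * ((σ * σ) * c * (σ * σ)⁻¹)) := hNc _ (N.mul_mem hc1 hc2) c hc
        _ = _ := (mul_assoc _ _ _).symm
    · have hts : t * σ = σ⁻¹ * t := h.tau_sigma
      have hsi : σ⁻¹ = σ * σ := h.sigma_inv
      have h2 : t * (σ * σ) = σ * t := h.elts.2.2.2.1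
      have t1 : t * (σ * c * σ⁻¹) * t⁻¹ = (σ * σ) * c * (σ * σ)⁻¹ := by
        calc t * (σ * c * σ⁻¹) * t⁻¹ = (t * σ) * c * (t * σ)⁻¹ := by group
          _ = (σ⁻¹ * t) * c * (σ⁻¹ * t)⁻¹ := by rw [hts]
          _ = σ⁻¹ * (t * c * t⁻¹) * σ⁻¹⁻¹ := by group
          _ = (σ * σ) * c * (σ * σ)⁻¹ := by rw [hct, hsi]
      have t2 : t * ((σ * σ) * c * (σ * σ)⁻¹) * t⁻¹ = σ * c * σ⁻¹ := by
        calc t * ((σ * σ) * c * (σ * σ)⁻¹) * t⁻¹ = (t * (σ * σ)) * c * (t * (σ * σ))⁻¹ := by group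
          _ = (σ * t) * c * (σ * t)⁻¹ := by rw [h2]
          _ = σ * (t * c * t⁻¹) * σ⁻¹ := by group
          _ = σ * c * σ⁻¹ := by rw [hct]
      calc t * (c * (σ * c * σ⁻¹) * ((σ * σ) * c * (σ * σ)⁻¹)) * t⁻¹
          = (t * c * t⁻¹) * (t * (σ * c * σ⁻¹) * t⁻¹) * (t * ((σ * σ) * c * (σ * σ)⁻¹) * t⁻¹) := by
            group
        _ = c * ((σ * σ) * c * (σ * σ)⁻¹) * (σ * c * σ⁻¹) := by rw [hct, t1, t2]
        _ = c * (((σ * σ) * c * (σ * σ)⁻¹) * (σ * c * σ⁻¹)) := mul_assoc _ _ _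
        _ = c * ((σ * c * σ⁻¹) * ((σ * σ) * c * (σ * σ)⁻¹)) := by rw [hNc _ hc2 _ hc1]
        _ = _ := (mul_assoc _ _ _).symm
  -- `c` commutes with the middle conjugate
  have hmid : ∀ z ∈ R, (σ * psi t z * σ⁻¹) * c = c * (σ * psi t z * σ⁻¹) := by
    intro z hz
    have hlR0 : σ * psi t z * σ⁻¹ ∈ R := conj_mem_of_mem_normalizer' hσR (psi_t_mem R htR hz)
    have hlc10 := hc1L z hz
    generalize σ * psi t z * σ⁻¹ = l at hlR0 hlc10 ⊢
    generalize hc1def : σ * c * σ⁻¹ = c1 at hc1 hlc10 hprod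
    generalize hc2def : (σ * σ) * c * (σ * σ)⁻¹ = c2 at hc2 hprod hc2L
    have hlN := hRN hlR0
    have hlc : l * c * l⁻¹ ∈ N := conj_mem_of_mem_normalizer' hlN hc
    have hlc2 : l * c2 * l⁻¹ ∈ N := conj_mem_of_mem_normalizer' hlN hc2
    have hdN : c⁻¹ * (l * c * l⁻¹) ∈ N := N.mul_mem (N.inv_mem hc) hlc
    -- a second expression for `d`
    have hd2 : c⁻¹ * (l * c * l⁻¹) = c2 * (l * c2 * l⁻¹)⁻¹ := by
      have hl1 : l * c1 * l⁻¹ = c1 := by
        rw [hlc10]; group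
      have h3 : (l * c * l⁻¹) * c1 * (l * c2 * l⁻¹) = 1 := by
        calc (l * c * l⁻¹) * c1 * (l * c2 * l⁻¹)
            = (l * c * l⁻¹) * (l * c1 * l⁻¹) * (l * c2 * l⁻¹) := by rw [hl1]
          _ = l * (c * c1 * c2) * l⁻¹ := by group
          _ = 1 := by rw [hprod]; group
      have h4 : (l * c * l⁻¹) * (l * c2 * l⁻¹) = c * c2 := by
        have a1 : (l * c * l⁻¹) * c1 = c1 * (l * c * l⁻¹) := hNc _ hlc _ hc1
        have a2 : c * c1 = c1 * c := hNc _ hc _ hc1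
        have b1 : c1 * ((l * c * l⁻¹) * (l * c2 * l⁻¹)) = 1 := by
          rw [← mul_assoc, ← a1]; exact h3
        have b2 : c1 * (c * c2) = 1 := by
          rw [← mul_assoc, ← a2]; exact hprod
        exact mul_left_cancel (b1.trans b2.symm)
      have h5 : (l * c * l⁻¹) = c * c2 * (l * c2 * l⁻¹)⁻¹ := by
        rw [← h4]; group
      rw [h5]; group
    -- `d` commutes with the outer conjugates
    have hd0 : ∀ z' ∈ R, psi t z' * (c⁻¹ * (l * c * l⁻¹)) = (c⁻¹ * (l * c * l⁻¹)) * psi t z' := by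
      intro z' hz'
      have hyR : psi t z' ∈ R := psi_t_mem R htR hz'
      have hyc : Commute (psi t z') c := hcL z' hz'
      have hyl : Commute (psi t z') l := hRc _ hyR l hlR0
      exact (hyc.inv_right.mul_right ((hyl.mul_right hyc).mul_right hyl.inv_right)).eq
    have hd2' : ∀ z' ∈ R, ((σ * σ) * psi t z' * (σ * σ)⁻¹) * (c⁻¹ * (l * c * l⁻¹))
        = (c⁻¹ * (l * c * l⁻¹)) * ((σ * σ) * psi t z' * (σ * σ)⁻¹) := by
      intro z' hz'
      have hyR : (σ * σ) * psi t z' * (σ * σ)⁻¹ ∈ R :=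
        conj_mem_of_mem_normalizer' hssR (psi_t_mem R htR hz')
      have hyc : Commute ((σ * σ) * psi t z' * (σ * σ)⁻¹) c2 := hc2L z' hz'
      have hyl : Commute ((σ * σ) * psi t z' * (σ * σ)⁻¹) l := hRc _ hyR l hlR0
      rw [hd2]
      exact (hyc.mul_right ((hyl.mul_right hyc).mul_right hyl.inv_right).inv_right).eq
    have hdR := commute_of_two N R h hRc hσN htN hσR htR hR hr3 hD hRmin hRne _ hdN hd0
      (Or.inr hd2')
    have hd1 : c⁻¹ * (l * c * l⁻¹) = 1 := hCNR _ hdN hdR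
    have : l * c * l⁻¹ = c := by
      calc l * c * l⁻¹ = c * (c⁻¹ * (l * c * l⁻¹)) := by group
        _ = c := by rw [hd1, mul_one]
    calc l * c = (l * c * l⁻¹) * l := by group
      _ = c * l := by rw [this]
  have hcR := commute_of_two N R h hRc hσN htN hσR htR hR hr3 hD hRmin hRne c hc hcL
    (Or.inl hmid)
  exact hCNR c hc hcR

end star

end lemmaM

end Cfsg.Agent.Lead.S3F
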