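import Cfsg.Agent.Lead.S3fAv
import Cfsg.Agent.Lead.S3fB3
import Cfsg.Agent.Helper1.SylowInt

/-!
S4305: group-theoretic lemmas for the reduction to the minimal configurations.
-/

set_option autoImplicit false
set_option linter.style.haveILetI false

namespace Cfsg.Agent.Lead.S3F

open scoped BigOperators IsMulCommutative
open Classical

variable {Γ : Type*} [Group Γ]

/-- conjugation preserves commutator subgroups of normalised subgroups. -/
theorem mem_normalizer_commutator [Finite Γ] {X Y : Subgroup Γ} {g : Γ}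
    (hX : g ∈ Subgroup.normalizer (X : Set Γ)) (hY : g ∈ Subgroup.normalizer (Y : Set Γ)) :
    g ∈ Subgroup.normalizer ((⁅X, Y⁆ : Subgroup Γ) : Set Γ) := by
  apply mem_normalizer_of_conj_mem
  intro z hz
  have hle : (⁅X, Y⁆ : Subgroup Γ).map (MulAut.conj g).toMonoidHom ≤ ⁅X, Y⁆ := by
    rw [Subgroup.map_commutator]
    apply Subgroup.commutator_mono
    · rintro _ ⟨x, hx, rfl⟩
      exact conj_mem_of_mem_normalizer' hX hx
    · rintro _ ⟨x, hx, rfl⟩
      exact conj_mem_of_mem_normalizer' hY hx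
  exact hle ⟨z, hz, rfl⟩

/-- an element of a subgroup of order prime to `p` whose order is a power of `p` is trivial. -/
theorem eq_one_of_pow_of_coprime [Finite Γ] (D : Subgroup Γ) {p : ℕ}
    (hDp : (Nat.card D).Coprime p) {x : Γ} (hx : x ∈ D) {n : ℕ} (hxn : x ^ (p ^ n) = 1) :
    x = 1 := by
  have h1 : x ^ Nat.card D = 1 := by
    have h5 : (⟨x, hx⟩ : D) ^ Nat.card D = 1 := pow_card_eq_one'
    have h6 := congrArg Subtype.val h5
    rw [Subgroup.coe_pow, Subgroup.coe_one] at h6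
    exact h6
  have h4 : orderOf x ∣ 1 := by
    have := Nat.dvd_gcd (orderOf_dvd_of_pow_eq_one h1) (orderOf_dvd_of_pow_eq_one hxn)
    rwa [Nat.Coprime.pow_right n hDp] at this
  exact orderOf_eq_one_iff.1 (Nat.dvd_one.1 h4)

/-- the elements of the abelian group `D` killed by `n`. -/
def powKer (D : Subgroup Γ) (hDc : ∀ a ∈ D, ∀ b ∈ D, a * b = b * a) (n : ℕ) : Subgroup Γ where
  carrier := {d | d ∈ D ∧ d ^ n = 1}
  mul_mem' := by
    rintro a b ⟨ha, ha'⟩ ⟨hb, hb'⟩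
    refine ⟨D.mul_mem ha hb, ?_⟩
    have : Commute a b := hDc a ha b hb
    rw [this.mul_pow, ha', hb', one_mul]
  one_mem' := ⟨D.one_mem, one_pow n⟩
  inv_mem' := by
    rintro a ⟨ha, ha'⟩
    exact ⟨D.inv_mem ha, by rw [inv_pow, ha', inv_one]⟩

theorem powKer_le (D : Subgroup Γ) (hDc : ∀ a ∈ D, ∀ b ∈ D, a * b = b * a) (n : ℕ) :
    powKer D hDc n ≤ D := fun _ hd => hd.1

theorem mem_normalizer_powKer [Finite Γ] (D : Subgroup Γ)
    (hDc : ∀ a ∈ D, ∀ b ∈ D, a * b = b * a) (n : ℕ) {g : Γ}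
    (hg : g ∈ Subgroup.normalizer (D : Set Γ)) :
    g ∈ Subgroup.normalizer ((powKer D hDc n : Subgroup Γ) : Set Γ) := by
  apply mem_normalizer_of_conj_mem
  rintro d ⟨hd, hd'⟩
  refine ⟨conj_mem_of_mem_normalizer' hg hd, ?_⟩
  rw [conj_pow, hd']; group

/-- the order of `powKer D n` is prime to `r` when `r ∤ n`. -/
theorem card_powKer_coprime [Finite Γ] (D : Subgroup Γ)
    (hDc : ∀ a ∈ D, ∀ b ∈ D, a * b = b * a) (n : ℕ) {r : ℕ} [hr : Fact r.Prime]
    (hrn : ¬ r ∣ n) : (Nat.card (powKer D hDc n)).Coprime r := by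
  rw [Nat.coprime_comm, Nat.Prime.coprime_iff_not_dvd hr.out]
  intro hdvd
  obtain ⟨x, hx⟩ := exists_prime_orderOf_dvd_card' r hdvd
  apply hrn
  have h1 : (x : Γ) ^ n = 1 := x.2.2
  have h2 : orderOf (x : Γ) = r := by rw [Subgroup.orderOf_coe]; exact hx
  rw [← h2]
  exact orderOf_dvd_of_pow_eq_one h1

/-- splitting an element of an abelian group into its `r`-part and its `r'`-part. -/
theorem exists_mul_of_coprime [Finite Γ] (D : Subgroup Γ)
    (hDc : ∀ a ∈ D, ∀ b ∈ D, a * b = b * a) {m₁ m₂ : ℕ} (hcop : Nat.Coprime m₁ m₂)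
    (hm : Nat.card D = m₁ * m₂) {d : Γ} (hd : d ∈ D) :
    ∃ a ∈ powKer D hDc m₁, ∃ b ∈ powKer D hDc m₂, d = a * b := by
  have hcard : d ^ (m₁ * m₂) = 1 := by
    rw [← hm]
    have h5 : (⟨d, hd⟩ : D) ^ Nat.card D = 1 := pow_card_eq_one'
    have h6 := congrArg Subtype.val h5
    rw [Subgroup.coe_pow, Subgroup.coe_one] at h6
    exact h6
  have hbez := Int.gcd_eq_gcd_ab m₁ m₂
  rw [Int.gcd_natCast_natCast, hcop] at hbez
  refine ⟨(d ^ m₂) ^ (Int.gcdB m₁ m₂), ?_, (d ^ m₁) ^ (Int.gcdA m₁ m₂), ?_, ?_⟩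
  · refine ⟨D.zpow_mem (D.pow_mem hd _) _, ?_⟩
    rw [← zpow_natCast, ← zpow_mul, mul_comm, zpow_mul, zpow_natCast, ← pow_mul, mul_comm,
      hcard, one_zpow]
  · refine ⟨D.zpow_mem (D.pow_mem hd _) _, ?_⟩
    rw [← zpow_natCast, ← zpow_mul, mul_comm, zpow_mul, zpow_natCast, ← pow_mul, hcard, one_zpow]
  · rw [← zpow_natCast d m₂, ← zpow_natCast d m₁, ← zpow_mul, ← zpow_mul, ← zpow_add]
    have : (m₂ : ℤ) * Int.gcdB m₁ m₂ + m₁ * Int.gcdA m₁ m₂ = 1 := by
      push_cast at hbez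
      linarith
    rw [this, zpow_one]

section avgKer

variable [Fintype Γ] (N L : Subgroup Γ) [IsMulCommutative N]
  (hLN : L ≤ Subgroup.normalizer (N : Set Γ))

/-- averaging as a homomorphism. -/
noncomputable def avgHom : N →* N where
  toFun := avg N L hLN
  map_one' := avg_one N L hLN
  map_mul' := avg_mul N L hLN

/-- the kernel of the averaging map. -/
noncomputable def avgKer : Subgroup Γ := (avgHom N L hLN).ker.map N.subtype

theorem mem_avgKer {e : Γ} : e ∈ avgKer N L hLN ↔ ∃ h : e ∈ N, avg N L hLN ⟨e, h⟩ = 1 := by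
  unfold avgKer
  rw [Subgroup.mem_map]
  constructor
  · rintro ⟨z, hz, rfl⟩
    exact ⟨z.2, MonoidHom.mem_ker.1 hz⟩
  · rintro ⟨he, h1⟩
    exact ⟨⟨e, he⟩, MonoidHom.mem_ker.2 h1, rfl⟩

theorem avgKer_le : avgKer N L hLN ≤ N := fun _ he => ((mem_avgKer N L hLN).1 he).1

/-- `L` normalises the kernel. -/
theorem le_normalizer_avgKer : L ≤ Subgroup.normalizer ((avgKer N L hLN : Subgroup Γ) : Set Γ) := by
  intro x hx
  apply mem_normalizer_of_conj_mem
  intro e he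
  obtain ⟨heN, h1⟩ := (mem_avgKer N L hLN).1 he
  refine (mem_avgKer N L hLN).2 ⟨conj_mem_of_mem_normalizer' (hLN hx) heN, ?_⟩
  have := avg_conj N L hLN x hx ⟨e, heN⟩
  rw [h1] at this
  exact this

/-- elements normalising `N` and `L` normalise the kernel. -/
theorem mem_normalizer_avgKer {g : Γ} (hgN : g ∈ Subgroup.normalizer (N : Set Γ))
    (hgL : g ∈ Subgroup.normalizer (L : Set Γ)) :
    g ∈ Subgroup.normalizer ((avgKer N L hLN : Subgroup Γ) : Set Γ) := by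
  apply mem_normalizer_of_conj_mem
  intro e he
  obtain ⟨heN, h1⟩ := (mem_avgKer N L hLN).1 he
  refine (mem_avgKer N L hLN).2 ⟨conj_mem_of_mem_normalizer' hgN heN, ?_⟩
  have := conj_avg_equivariant N L hLN g hgN hgL ⟨e, heN⟩
  rw [h1, map_one] at this
  exact this.symm

/-- commutators lie in the kernel. -/
theorem comm_mem_avgKer {n x : Γ} (hn : n ∈ N) (hx : x ∈ L) :
    n⁻¹ * (x * n * x⁻¹) ∈ avgKer N L hLN := by
  have hc : x * n * x⁻¹ ∈ N := conj_mem_of_mem_normalizer' (hLN hx) hn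
  refine (mem_avgKer N L hLN).2 ⟨N.mul_mem (N.inv_mem hn) hc, ?_⟩
  have h1 : (⟨n⁻¹ * (x * n * x⁻¹), N.mul_mem (N.inv_mem hn) hc⟩ : N)
      = (⟨n, hn⟩ : N)⁻¹ * conjHom N x (hLN hx) ⟨n, hn⟩ := rfl
  have h2 : avg N L hLN ((⟨n, hn⟩ : N)⁻¹)
      = (avg N L hLN ⟨n, hn⟩)⁻¹ := map_inv (avgHom N L hLN) _
  rw [h1, avg_mul, avg_conj N L hLN x hx, h2, inv_mul_cancel]

/-- the averaging map of a subgroup of `N`. -/
theorem avg_eq_one_of_mem_avgKer (M : Subgroup Γ) [IsMulCommutative M] (hMN : M ≤ N)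
    (hLM : L ≤ Subgroup.normalizer (M : Set Γ)) (m : M)
    (hm : (m : Γ) ∈ avgKer N L hLN) : avg M L hLM m = 1 := by
  obtain ⟨hmN, h1⟩ := (mem_avgKer N L hLN).1 hm
  have hinj : Function.Injective (Subgroup.inclusion hMN) := Subgroup.inclusion_injective hMN
  apply hinj
  rw [map_one]
  unfold avg at h1 ⊢
  rw [map_prod]
  rw [← h1]
  apply Finset.prod_congr rfl
  intro l _
  rfl

end avgKer

/-- a commutator of a group with `p`-group derived subgroup, lying in a `p'`-group, is trivial. -/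
theorem comm_eq_one_of_isPGroup [Finite Γ] (K D : Subgroup Γ) {p : ℕ}
    (hK : IsPGroup p (⁅K, K⁆ : Subgroup Γ)) (hDp : (Nat.card D).Coprime p) {a b : Γ}
    (ha : a ∈ K) (hb : b ∈ K) (hc : a * b * a⁻¹ * b⁻¹ ∈ D) : a * b = b * a := by
  have h1 : a * b * a⁻¹ * b⁻¹ ∈ ⁅K, K⁆ := by
    have := Subgroup.commutator_mem_commutator ha hb
    rwa [commutatorElement_def] at this
  obtain ⟨n, hn⟩ := hK ⟨_, h1⟩
  have hn' : (a * b * a⁻¹ * b⁻¹) ^ (p ^ n) = 1 := by
    have := congrArg Subtype.val hn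
    simpa using this
  have h2 := eq_one_of_pow_of_coprime D hDp hc hn'
  calc a * b = (a * b * a⁻¹ * b⁻¹) * (b * a) := by group
    _ = b * a := by rw [h2, one_mul]

/-- enlarging the complement enlarges the product. -/
theorem sup_ne_of_ne {N R₀ R₁ : Subgroup Γ} (hR : R₁ ≤ R₀) (hne : R₁ ≠ R₀)
    (hdisj : N ⊓ R₀ = ⊥) (hRN : R₁ ≤ Subgroup.normalizer (N : Set Γ)) :
    N ⊔ R₁ ≠ N ⊔ R₀ := by
  intro heq
  apply hne
  apply le_antisymm hR
  intro x hx
  have hx' : x ∈ N ⊔ R₁ := by rw [heq]; exact Subgroup.mem_sup_right hx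
  obtain ⟨n, hn, y, hy, rfl⟩ := Cfsg.Agent.Helper1.mem_sup_of_le_normalizer hRN hx'
  have hn1 : n ∈ N ⊓ R₀ := by
    refine ⟨hn, ?_⟩
    have : n = (n * y) * y⁻¹ := by group
    rw [this]
    exact R₀.mul_mem hx (R₀.inv_mem (hR hy))
  rw [hdisj, Subgroup.mem_bot] at hn1
  rw [hn1, one_mul]; exact hy

/-- a proper subgroup misses the Sylow subgroups for some prime. -/
theorem exists_prime_sylow_not_le [Finite Γ] (H C : Subgroup Γ) (hCH : C ≤ H) (hne : C ≠ H) :
    ∃ (r : ℕ) (_ : Fact r.Prime), ∀ P : Sylow r H, ¬ ((P : Subgroup H).map H.subtype ≤ C) := by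
  have hdvd : Nat.card C ∣ Nat.card H := Subgroup.card_dvd_of_le hCH
  obtain ⟨m, hm⟩ := hdvd
  have hHpos : Nat.card H ≠ 0 := Nat.card_pos.ne'
  have hm1 : m ≠ 1 := by
    intro h1
    apply hne
    rw [h1, mul_one] at hm
    exact Subgroup.eq_of_le_of_card_ge hCH (le_of_eq hm)
  set r := m.minFac with hr
  have hrp : r.Prime := Nat.minFac_prime hm1
  refine ⟨r, ⟨hrp⟩, ?_⟩
  intro P hle
  haveI : Fact r.Prime := ⟨hrp⟩
  have h1 : Nat.card ((P : Subgroup H).map H.subtype) = r ^ (Nat.card H).factorization r := by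
    rw [Cfsg.Agent.Helper1.card_map_subtype, P.card_eq_multiplicity]
  have h2 : r ^ (Nat.card H).factorization r ∣ Nat.card C := by
    rw [← h1]; exact Subgroup.card_dvd_of_le hle
  have h3 : r ^ ((Nat.card H).factorization r + 1) ∣ Nat.card H := by
    rw [pow_succ]
    have := Nat.mul_dvd_mul h2 (Nat.minFac_dvd m)
    rwa [← hm] at this
  exact Nat.pow_succ_factorization_not_dvd hHpos hrp h3

end Cfsg.Agent.Lead.S3F
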