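import Cfsg.Agent.Lead.FpqChar
import Cfsg.Agent.Lead.S3fM1

/-!
S4306: the minimal pair `(Q, T)`.
-/

set_option autoImplicit false
set_option linter.style.haveILetI false
set_option linter.unusedSectionVars false

namespace Cfsg.Agent.Lead.Fpq

open scoped commutatorElement
open Classical
open Cfsg.Agent.Lead.S3F

variable {Γ : Type*} [Group Γ] [Finite Γ]

/-- the minimal pair: `T` acts non-trivially on the `s`-group `Q`, both are `𝔸`-invariant, and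
they are minimal with these properties. -/
structure Pair (𝔸 Q T : Subgroup Γ) (s t : ℕ) : Prop where
  hs : s.Prime
  ht : t.Prime
  hst : s ≠ t
  Qs : IsPGroup s Q
  Tt : IsPGroup t T
  AQ : 𝔸 ≤ Subgroup.normalizer (Q : Set Γ)
  AT : 𝔸 ≤ Subgroup.normalizer (T : Set Γ)
  TQ : T ≤ Subgroup.normalizer (Q : Set Γ)
  ne : ∃ x ∈ T, ∃ g ∈ Q, x * g ≠ g * x
  Tmin : ∀ T₁ : Subgroup Γ, T₁ ≤ T → T₁ ≠ T → 𝔸 ≤ Subgroup.normalizer (T₁ : Set Γ) →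
    ∀ x ∈ T₁, ∀ g ∈ Q, x * g = g * x
  Qmin : ∀ Q₁ : Subgroup Γ, Q₁ ≤ Q → Q₁ ≠ Q → 𝔸 ≤ Subgroup.normalizer (Q₁ : Set Γ) →
    T ≤ Subgroup.normalizer (Q₁ : Set Γ) → ∀ x ∈ T, ∀ g ∈ Q₁, x * g = g * x

/-- **Existence of a minimal pair.** -/
theorem exists_pair_min {𝔸 Q₀ T₀ : Subgroup Γ} {s t : ℕ} (hs : s.Prime) (ht : t.Prime)
    (hst : s ≠ t) (hQ₀ : IsPGroup s Q₀) (hT₀ : IsPGroup t T₀)
    (hAQ : 𝔸 ≤ Subgroup.normalizer (Q₀ : Set Γ)) (hAT : 𝔸 ≤ Subgroup.normalizer (T₀ : Set Γ))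
    (hTQ : T₀ ≤ Subgroup.normalizer (Q₀ : Set Γ))
    (hne : ∃ x ∈ T₀, ∃ g ∈ Q₀, x * g ≠ g * x) :
    ∃ Q T : Subgroup Γ, Q ≤ Q₀ ∧ T ≤ T₀ ∧ Pair 𝔸 Q T s t := by
  -- minimal `T`
  let 𝒯 : Set (Subgroup Γ) := {T | T ≤ T₀ ∧ 𝔸 ≤ Subgroup.normalizer (T : Set Γ) ∧
    ∃ x ∈ T, ∃ g ∈ Q₀, x * g ≠ g * x}
  have hT₀𝒯 : T₀ ∈ 𝒯 := ⟨le_rfl, hAT, hne⟩
  obtain ⟨T, hTle, hTmin⟩ := (Set.toFinite 𝒯).exists_le_minimal hT₀𝒯
  obtain ⟨hTT₀, hAT', hneT⟩ : T ∈ 𝒯 := hTmin.prop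
  have hTQ₀ : T ≤ Subgroup.normalizer (Q₀ : Set Γ) := hTT₀.trans hTQ
  -- minimal `Q`
  let 𝒬 : Set (Subgroup Γ) := {Q | Q ≤ Q₀ ∧ 𝔸 ≤ Subgroup.normalizer (Q : Set Γ) ∧
    T ≤ Subgroup.normalizer (Q : Set Γ) ∧ ∃ x ∈ T, ∃ g ∈ Q, x * g ≠ g * x}
  have hQ₀𝒬 : Q₀ ∈ 𝒬 := ⟨le_rfl, hAQ, hTQ₀, hneT⟩
  obtain ⟨Q, hQle, hQmin⟩ := (Set.toFinite 𝒬).exists_le_minimal hQ₀𝒬
  obtain ⟨hQQ₀, hAQ', hTQ', hneQ⟩ : Q ∈ 𝒬 := hQmin.prop
  refine ⟨Q, T, hQQ₀, hTT₀, ?_⟩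
  refine ⟨hs, ht, hst, hQ₀.to_le hQQ₀, hT₀.to_le hTT₀, hAQ', hAT', hTQ', hneQ, ?_, ?_⟩
  · intro T₁ hT₁ hT₁ne hAT₁ x hx g hg
    by_contra hcon
    have h1 : T₁ ∈ 𝒯 := ⟨hT₁.trans hTT₀, hAT₁, x, hx, g, hQQ₀ hg, hcon⟩
    exact hT₁ne (le_antisymm hT₁ (hTmin.le_of_le h1 hT₁))
  · intro Q₁ hQ₁ hQ₁ne hAQ₁ hTQ₁ x hx g hg
    by_contra hcon
    have h1 : Q₁ ∈ 𝒬 := ⟨hQ₁.trans hQQ₀, hAQ₁, hTQ₁, x, hx, g, hg, hcon⟩
    exact hQ₁ne (le_antisymm hQ₁ (hQmin.le_of_le h1 hQ₁))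

namespace Pair

variable {𝔸 Q T : Subgroup Γ} {s t : ℕ}

theorem coprime (pr : Pair 𝔸 Q T s t) : (Nat.card T).Coprime (Nat.card Q) := by
  haveI : Fact t.Prime := ⟨pr.ht⟩
  haveI : Fact s.Prime := ⟨pr.hs⟩
  obtain ⟨a, ha⟩ := IsPGroup.iff_card.1 pr.Tt
  obtain ⟨b, hb⟩ := IsPGroup.iff_card.1 pr.Qs
  rw [ha, hb]
  apply Nat.Coprime.pow
  rw [Nat.coprime_primes pr.ht pr.hs]
  exact pr.hst.symm

theorem solvQ (pr : Pair 𝔸 Q T s t) : Group.IsSolvable Q := by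
  haveI : Fact s.Prime := ⟨pr.hs⟩
  haveI := pr.Qs.isNilpotent
  infer_instance

/-- `[Q, T] = Q`. -/
theorem comm_eq (pr : Pair 𝔸 Q T s t) : ⁅Q, T⁆ = Q := by
  have hle : ⁅Q, T⁆ ≤ Q := Subgroup.le_normalizer_iff_commutator_le_left.1 pr.TQ
  by_contra hne
  have hA : 𝔸 ≤ Subgroup.normalizer ((⁅Q, T⁆ : Subgroup Γ) : Set Γ) := fun a ha =>
    mem_normalizer_commutator (pr.AQ ha) (pr.AT ha)
  have hT : T ≤ Subgroup.normalizer ((⁅Q, T⁆ : Subgroup Γ) : Set Γ) :=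
    Subgroup.normalizer_commutator_ge_right Q T
  have h1 := pr.Qmin ⁅Q, T⁆ hle hne hA hT
  have h2 : ⁅(⁅Q, T⁆ : Subgroup Γ), T⁆ = ⊥ := by
    rw [Subgroup.commutator_eq_bot_iff_le_centralizer]
    intro g hg
    rw [Subgroup.mem_centralizer_iff]
    intro x hx
    exact h1 x hx g hg
  have h3 := Cfsg.Agent.Helper1.coprime_commutator_commutator T Q pr.TQ pr.coprime
    (Or.inr pr.solvQ)
  rw [h2] at h3
  obtain ⟨x, hx, g, hg, hxg⟩ := pr.ne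
  apply hxg
  have h5 : ⁅g, x⁆ ∈ (⁅Q, T⁆ : Subgroup Γ) := Subgroup.commutator_mem_commutator hg hx
  rw [← h3, Subgroup.mem_bot, commutatorElement_eq_one_iff_mul_comm] at h5
  exact h5.symm

theorem Q_ne_bot (pr : Pair 𝔸 Q T s t) : Q ≠ ⊥ := by
  intro h
  obtain ⟨x, _, g, hg, hxg⟩ := pr.ne
  rw [h, Subgroup.mem_bot] at hg
  apply hxg
  rw [hg]; simp

/-- a proper invariant subgroup of `Q` normalized by `Q` ... is centralized by `T`: the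
derived subgroup. -/
theorem cent_derived (pr : Pair 𝔸 Q T s t) : ∀ x ∈ T, ∀ g ∈ (⁅Q, Q⁆ : Subgroup Γ), x * g = g * x := by
  have hle : ⁅Q, Q⁆ ≤ Q := Subgroup.commutator_le_self Q
  have hne : ⁅Q, Q⁆ ≠ Q := by
    intro h
    haveI := pr.solvQ
    have h1 : commutator Q = ⊤ := by
      have h2 : (commutator Q).map Q.subtype = ⁅Q, Q⁆ := by
        rw [commutator_def, Subgroup.map_commutator]
        have : (⊤ : Subgroup Q).map Q.subtype = Q := by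
          rw [← MonoidHom.range_eq_map, Subgroup.range_subtype]
        rw [this]
      rw [h] at h2
      rw [eq_top_iff]
      intro g _
      have hg : (g : Γ) ∈ (commutator Q).map Q.subtype := by rw [h2]; exact g.2
      obtain ⟨g', hg', hgg'⟩ := hg
      have : g' = g := Subtype.ext hgg'
      rw [← this]; exact hg'
    have h3 : ∀ n : ℕ, derivedSeries Q n = ⊤ := by
      intro n
      induction n with
      | zero => rfl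
      | succ n ih => rw [derivedSeries_succ, ih, ← commutator_def, h1]
    obtain ⟨n, hn⟩ := (Group.isSolvable_def Q).1 pr.solvQ
    rw [h3 n] at hn
    apply pr.Q_ne_bot
    rw [Subgroup.eq_bot_iff_forall]
    intro g hg
    have : (⟨g, hg⟩ : Q) ∈ (⊤ : Subgroup Q) := Subgroup.mem_top _
    rw [hn, Subgroup.mem_bot] at this
    exact congrArg Subtype.val this
  exact pr.Qmin ⁅Q, Q⁆ hle hne
    (fun a ha => mem_normalizer_commutator (pr.AQ ha) (pr.AQ ha))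
    (fun x hx => mem_normalizer_commutator (pr.TQ hx) (pr.TQ hx))

/-- the centre of `Q`, as a subgroup of the ambient group. -/
theorem cent_center (pr : Pair 𝔸 Q T s t) (hna : ∃ a ∈ Q, ∃ b ∈ Q, a * b ≠ b * a) :
    ∀ x ∈ T, ∀ g ∈ centIn Q Q, x * g = g * x := by
  have hle : centIn Q Q ≤ Q := fun g hg => hg.1
  have hne : centIn Q Q ≠ Q := by
    intro h
    obtain ⟨a, ha, b, hb, hab⟩ := hna
    have : a ∈ centIn Q Q := by rw [h]; exact ha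
    exact hab (this.2 b hb)
  exact pr.Qmin (centIn Q Q) hle hne
    (fun a ha => mem_normalizer_of_conj_mem _ _
      (fun x hx => conj_mem_centIn Q Q (pr.AQ ha) (pr.AQ ha) hx))
    (fun a ha => mem_normalizer_of_conj_mem _ _
      (fun x hx => conj_mem_centIn Q Q (pr.TQ ha) (pr.TQ ha) hx))

/-- the centralizer `T₀ = C_T(Q)` is `𝔸`-invariant. -/
theorem A_le_normalizer_centIn (pr : Pair 𝔸 Q T s t) :
    𝔸 ≤ Subgroup.normalizer ((centIn T Q : Subgroup Γ) : Set Γ) :=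
  fun a ha => mem_normalizer_of_conj_mem _ _
    (fun x hx => conj_mem_centIn T Q (pr.AT ha) (pr.AQ ha) hx)

theorem centIn_ne (pr : Pair 𝔸 Q T s t) : centIn T Q ≠ T := by
  intro h
  obtain ⟨x, hx, g, hg, hxg⟩ := pr.ne
  have : x ∈ centIn T Q := by rw [h]; exact hx
  exact hxg (this.2 g hg)

/-- a proper invariant subgroup of `T` lies in `C_T(Q)`. -/
theorem le_centIn (pr : Pair 𝔸 Q T s t) {T₁ : Subgroup Γ} (h1 : T₁ ≤ T) (h2 : T₁ ≠ T)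
    (h3 : 𝔸 ≤ Subgroup.normalizer (T₁ : Set Γ)) : T₁ ≤ centIn T Q :=
  fun x hx => ⟨h1 hx, pr.Tmin T₁ h1 h2 h3 x hx⟩

end Pair

end Cfsg.Agent.Lead.Fpq
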