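import Cfsg.Agent.Lead.FpqMain
import Cfsg.Agent.Helper4.PGroupFixedVector

/-!
S4306, Lemma R (the case where `T` is an `r`-group in characteristic `r`): general lemmas.
-/

set_option autoImplicit false
set_option linter.style.haveILetI false
set_option linter.unusedSectionVars false

namespace Cfsg.Agent.Lead.Fpq

open scoped BigOperators commutatorElement
open Classical
open Cfsg.Agent.Lead.S3F

section gp

variable {Γ : Type*} [Group Γ]

/-- a non-trivial solvable subgroup is not perfect. -/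
theorem commutator_ne_self {X : Subgroup Γ} (hsolv : Group.IsSolvable X) (hne : X ≠ ⊥) :
    ⁅X, X⁆ ≠ X := by
  intro h
  have h1 : commutator X = ⊤ := by
    have h2 : (commutator X).map X.subtype = ⁅X, X⁆ := by
      rw [commutator_def, Subgroup.map_commutator]
      have : (⊤ : Subgroup X).map X.subtype = X := by
        rw [← MonoidHom.range_eq_map, Subgroup.range_subtype]
      rw [this]
    rw [h] at h2
    rw [eq_top_iff]
    intro g _
    have hg : (g : Γ) ∈ (commutator X).map X.subtype := by rw [h2]; exact g.2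
    obtain ⟨g', hg', hgg'⟩ := hg
    have : g' = g := Subtype.ext hgg'
    rw [← this]; exact hg'
  have h3 : ∀ n : ℕ, derivedSeries X n = ⊤ := by
    intro n
    induction n with
    | zero => rfl
    | succ n ih => rw [derivedSeries_succ, ih, ← commutator_def, h1]
  obtain ⟨n, hn⟩ := (Group.isSolvable_def X).1 hsolv
  rw [h3 n] at hn
  apply hne
  rw [Subgroup.eq_bot_iff_forall]
  intro g hg
  have : (⟨g, hg⟩ : X) ∈ (⊤ : Subgroup X) := Subgroup.mem_top _
  rw [hn, Subgroup.mem_bot] at this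
  exact congrArg Subtype.val this

/-- a minimal non-trivial `y`-invariant subgroup. -/
theorem exists_min_invariant [Finite Γ] (T : Subgroup Γ) (y : Γ)
    (hyT : y ∈ Subgroup.normalizer (T : Set Γ)) (hne : T ≠ ⊥) :
    ∃ A : Subgroup Γ, A ≤ T ∧ A ≠ ⊥ ∧ y ∈ Subgroup.normalizer (A : Set Γ) ∧
      ∀ B : Subgroup Γ, B ≤ A → y ∈ Subgroup.normalizer (B : Set Γ) → B = ⊥ ∨ B = A := by
  let 𝒯 : Set (Subgroup Γ) := {A | A ≤ T ∧ A ≠ ⊥ ∧ y ∈ Subgroup.normalizer (A : Set Γ)}
  have hT𝒯 : T ∈ 𝒯 := ⟨le_rfl, hne, hyT⟩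
  obtain ⟨A, hAle, hAmin⟩ := (Set.toFinite 𝒯).exists_le_minimal hT𝒯
  obtain ⟨hAT, hAne, hyA⟩ : A ∈ 𝒯 := hAmin.prop
  refine ⟨A, hAT, hAne, hyA, ?_⟩
  intro B hBA hyB
  by_cases hB : B = ⊥
  · exact Or.inl hB
  · right
    have h1 : B ∈ 𝒯 := ⟨hBA.trans hAT, hB, hyB⟩
    exact le_antisymm hBA (hAmin.le_of_le h1 hBA)

/-- the fixed-point congruence for a fixed-point-free element of prime order. -/
theorem card_modEq_one_of_fpf [Finite Γ] (X : Subgroup Γ) (y : Γ) (q : ℕ) [hq : Fact q.Prime]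
    (hyq : y ^ q = 1) (hX : ∀ x ∈ X, y * x * y⁻¹ ∈ X)
    (hfree : ∀ x ∈ X, y * x * y⁻¹ = x → x = 1) : Nat.card X ≡ 1 [MOD q] := by
  haveI : Fintype X := Fintype.ofFinite _
  let f : Function.End X := fun x => ⟨y * x * y⁻¹, hX x x.2⟩
  have hpow : ∀ n : ℕ, ∀ x : X, ((f ^ n) x : Γ) = y ^ n * x * (y ^ n)⁻¹ := by
    intro n
    induction n with
    | zero =>
      intro x
      rw [pow_zero, pow_zero, one_mul, inv_one, mul_one]
      rfl
    | succ n ih =>
      intro x
      have e : (f ^ (n + 1)) x = f ((f ^ n) x) := by rw [pow_succ']; rfl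
      rw [e]
      show y * ((f ^ n) x : Γ) * y⁻¹ = _
      rw [ih, pow_succ']
      group
  have hf : f ^ q ^ 1 = 1 := by
    funext x
    apply Subtype.ext
    rw [pow_one, hpow, hyq, one_mul, inv_one, mul_one]
    rfl
  have h1 := Equiv.Perm.card_fixedPoints_modEq (f := f) hf
  rw [Nat.card_eq_fintype_card]
  refine h1.trans ?_
  have h2 : Fintype.card (Function.fixedPoints f) = 1 := by
    rw [Fintype.card_eq_one_iff]
    refine ⟨⟨1, ?_⟩, ?_⟩
    · show f 1 = 1
      apply Subtype.ext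
      show y * ((1 : X) : Γ) * y⁻¹ = ((1 : X) : Γ)
      rw [Subgroup.coe_one]; group
    · rintro ⟨x, hx⟩
      apply Subtype.ext
      apply Subtype.ext
      have hx' : y * (x : Γ) * y⁻¹ = x := congrArg Subtype.val hx
      exact hfree x x.2 hx'
  rw [h2]

/-- the sum over a cyclic subgroup. -/
theorem sum_zpowers {R : Type*} [AddCommMonoid R] (a : Γ) (ha : IsOfFinOrder a)
    [Fintype (Subgroup.zpowers a)] (φ : Γ → R) :
    ∑ x : Subgroup.zpowers a, φ (x : Γ) = ∑ i ∈ Finset.range (orderOf a), φ (a ^ i) := by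
  rw [← Fin.sum_univ_eq_sum_range (fun i => φ (a ^ i)) (orderOf a)]
  rw [← Equiv.sum_comp (finEquivZPowers ha) (fun x : Subgroup.zpowers a => φ (x : Γ))]
  apply Finset.sum_congr rfl
  intro i _
  rw [finEquivZPowers_apply]

end gp

section rep

variable {k : Type*} [Field k] {Γ : Type*} [Group Γ] {W : Type*} [AddCommGroup W]
  [Module k W] (ρ : Representation k Γ W)

/-- the fixed vectors of a subgroup. -/
def fixedSub (C : Subgroup Γ) : Submodule k W where
  carrier := {w | ∀ c ∈ C, ρ c w = w}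
  add_mem' := by
    intro a b ha hb c hc
    rw [map_add, ha c hc, hb c hc]
  zero_mem' := by
    intro c _
    rw [map_zero]
  smul_mem' := by
    intro t w hw c hc
    rw [map_smul, hw c hc]

theorem mem_fixedSub {C : Subgroup Γ} {w : W} : w ∈ fixedSub ρ C ↔ ∀ c ∈ C, ρ c w = w := Iff.rfl

/-- an element normalizing `C` preserves the fixed vectors of `C`. -/
theorem map_mem_fixedSub [Finite Γ] (C : Subgroup Γ) {z : Γ}
    (hz : z ∈ Subgroup.normalizer (C : Set Γ)) {w : W} (hw : w ∈ fixedSub ρ C) :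
    ρ z w ∈ fixedSub ρ C := by
  intro c hc
  have h1 : z⁻¹ * c * z ∈ C := by
    have := conj_mem_of_mem_normalizer' (Subgroup.inv_mem _ hz) hc
    simpa using this
  have h2 : c * z = z * (z⁻¹ * c * z) := by group
  rw [← Module.End.mul_apply, ← map_mul, h2, map_mul, Module.End.mul_apply, hw _ h1]

/-- an element commuting with `C` preserves the fixed vectors of `C`. -/
theorem map_mem_fixedSub_of_commute (C : Subgroup Γ) {g : Γ}
    (hg : ∀ c ∈ C, c * g = g * c) {w : W} (hw : w ∈ fixedSub ρ C) :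
    ρ g w ∈ fixedSub ρ C := by
  intro c hc
  rw [← Module.End.mul_apply, ← map_mul, hg c hc, map_mul, Module.End.mul_apply, hw c hc]

/-- an `r`-group in characteristic `r` has a non-zero fixed vector. -/
theorem exists_fixed_of_isPGroup [Finite Γ] {r : ℕ} [hr : Fact r.Prime] [CharP k r]
    (C : Subgroup Γ) (hC : IsPGroup r C) [Nontrivial W] : fixedSub ρ C ≠ ⊥ := by
  let ρ' : C →* AddMonoid.End W :=
    { toFun := fun c => (ρ (c : Γ)).toAddMonoidHom
      map_one' := by
        ext w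
        show (ρ ((1 : C) : Γ)) w = w
        rw [Subgroup.coe_one, map_one, Module.End.one_apply]
      map_mul' := by
        intro a b
        ext w
        show (ρ ((a * b : C) : Γ)) w = (ρ (a : Γ)) ((ρ (b : Γ)) w)
        rw [Subgroup.coe_mul, map_mul, Module.End.mul_apply] }
  have hV : ∀ v : W, r • v = 0 := by
    intro v
    rw [← Nat.cast_smul_eq_nsmul k r v, CharP.cast_eq_zero k r, zero_smul]
  have hne : (⊤ : AddSubgroup W) ≠ ⊥ := by
    intro h
    obtain ⟨w, hw⟩ := exists_ne (0 : W)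
    have : w ∈ (⊤ : AddSubgroup W) := AddSubgroup.mem_top w
    rw [h, AddSubgroup.mem_bot] at this
    exact hw this
  obtain ⟨v, _, hv0, hv⟩ := Cfsg.Agent.Helper4.exists_fixed_ne_zero_of_pgroup hC ρ' hV ⊤
    (fun _ _ _ => AddSubgroup.mem_top _) hne
  intro hbot
  apply hv0
  have : v ∈ fixedSub ρ C := fun c hc => hv ⟨c, hc⟩
  rw [hbot, Submodule.mem_bot] at this
  exact this

/-- **The Frobenius identity on a module**: the sum over `X` acts as `|X|`. -/
theorem frob_sum_eq (X : Subgroup Γ) [Fintype X] (y : Γ)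
    (hy : y ∈ Subgroup.normalizer (X : Set Γ)) (q : ℕ) (hyq : y ^ (q + 1) = 1)
    (hfree : ∀ i, 0 < i → i < q + 1 → ∀ x ∈ X, y ^ i * x * (y ^ i)⁻¹ = x → x = 1)
    (M : Submodule k W)
    (hMX : ∀ x ∈ X, ∀ w ∈ M, ρ x w ∈ M) (hMy : ∀ w ∈ M, ρ y w ∈ M)
    (hfix : ∀ w ∈ M, ρ y w = w → w = 0) :
    ∀ w ∈ M, (∑ x : X, ρ (x : Γ)) w = (Fintype.card X : k) • w := by
  obtain ⟨N, hN⟩ : ∃ N : Module.End k W, N = ∑ i ∈ Finset.range (q + 1), ρ y ^ i := ⟨_, rfl⟩
  obtain ⟨e, he⟩ : ∃ e : Module.End k W, e = ∑ x : X, ρ (x : Γ) := ⟨_, rfl⟩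
  rw [← he]
  have hMpow : ∀ i : ℕ, ∀ w ∈ M, (ρ y ^ i) w ∈ M := by
    intro i
    induction i with
    | zero => intro w hw; simpa using hw
    | succ i ih =>
      intro w hw
      rw [pow_succ', Module.End.mul_apply]
      exact hMy _ (ih w hw)
  have hNM : ∀ w ∈ M, N w ∈ M := by
    intro w hw
    rw [hN, LinearMap.sum_apply]
    exact Submodule.sum_mem _ (fun i _ => hMpow i w hw)
  have hN0 : ∀ w ∈ M, N w = 0 := by
    intro w hw
    apply hfix _ (hNM w hw)
    have h1 : ρ y * N = N := by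
      rw [hN, Finset.mul_sum]
      have h2 : ∀ i ∈ Finset.range (q + 1), ρ y * ρ y ^ i = ρ y ^ (i + 1) := by
        intro i _; rw [pow_succ']
      rw [Finset.sum_congr rfl h2, Finset.sum_range_succ, Finset.sum_range_succ']
      have h3 : ρ y ^ (q + 1) = ρ y ^ 0 := by
        rw [← map_pow, hyq, map_one, pow_zero]
      rw [h3]
    have := congrArg (fun f : Module.End k W => f w) h1
    simpa [Module.End.mul_apply] using this
  have heM : ∀ w ∈ M, e w ∈ M := by
    intro w hw
    rw [he, LinearMap.sum_apply]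
    exact Submodule.sum_mem _ (fun x _ => hMX x x.2 w hw)
  obtain ⟨S, hS⟩ : ∃ S : Module.End k W, S = ∑ i ∈ Finset.range q, ρ y ^ (i + 1) := ⟨_, rfl⟩
  have hid := frob_ring_identity (ρ : Γ →* Module.End k W) X y hy q hfree
  rw [← hN, ← he, ← hS] at hid
  have hNsplit : N = 1 + S := by
    rw [hN, hS, Finset.sum_range_succ', pow_zero, add_comm]
  intro w hw
  have h1 := LinearMap.congr_fun hid w
  rw [LinearMap.sum_apply, LinearMap.add_apply, Module.End.mul_apply] at h1
  have h2 : ∀ x : X, (ρ ((x : Γ)⁻¹) * N * ρ (x : Γ)) w = 0 := by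
    intro x
    rw [Module.End.mul_apply, Module.End.mul_apply, hN0 _ (hMX x x.2 w hw), map_zero]
  rw [Finset.sum_congr rfl (fun x _ => h2 x), Finset.sum_const_zero] at h1
  have h3 : S (e w) = N (e w) - e w := by
    rw [hNsplit, LinearMap.add_apply, Module.End.one_apply]
    abel
  rw [h3, hN0 _ (heM w hw), zero_sub, Module.End.natCast_apply] at h1
  rw [Nat.cast_smul_eq_nsmul]
  exact (sub_eq_zero.1 (by rw [sub_eq_add_neg]; exact h1.symm)).symm

end rep

end Cfsg.Agent.Lead.Fpq
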