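import Cfsg.Agent.Lead.FpqR1
import Cfsg.Agent.Helper3.ShHHbc

/-!
S4306, Lemma R: the faithful irreducible case, modulo the group-theoretic lemma for the
non-cyclic case (hypothesis `hB`).
-/

set_option autoImplicit false
set_option linter.style.haveILetI false
set_option linter.unusedSectionVars false

namespace Cfsg.Agent.Lead.Fpq

open scoped BigOperators commutatorElement
open Classical
open Cfsg.Agent.Lead.S3F

variable {k : Type*} [Field k] {r : ℕ} [hr : Fact r.Prime] [CharP k r]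
  {Γ : Type*} [Group Γ] [Finite Γ] {W : Type*} [AddCommGroup W] [Module k W]
  [Module.Finite k W] (ρ : Representation k Γ W)

/-- the cyclic case: `A = ⟨a⟩` of order `r`, `y` fixed-point-free on `A` and on `W`. -/
theorem false_of_cyclic {s q : ℕ} (hs : s.Prime) (hq : q.Prime) (hsr : s ≠ r) (hsq : s ≠ q)
    (Q : Subgroup Γ) (hQ : IsPGroup s Q) (y a : Γ) (hyq : y ^ q = 1)
    (ha1 : a ≠ 1) (har : a ^ r = 1)
    (haQ : a ∈ Subgroup.normalizer (Q : Set Γ))
    (hyA : y ∈ Subgroup.normalizer ((Subgroup.zpowers a : Subgroup Γ) : Set Γ))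
    (hfreeA : ∀ x ∈ Subgroup.zpowers a, y * x * y⁻¹ = x → x = 1)
    (hfaith : ∀ g : Γ, ρ g = 1 → g = 1)
    (hfix : ∀ w : W, ρ y w = w → w = 0)
    (hnc : ∃ g ∈ Q, a * g ≠ g * a) : False := by
  have hr' : r.Prime := hr.out
  haveI : Fact q.Prime := ⟨hq⟩
  have hord : orderOf a = r := by
    have h1 : orderOf a ∣ r := orderOf_dvd_of_pow_eq_one har
    rcases (Nat.dvd_prime hr').1 h1 with h2 | h2
    · exact absurd (orderOf_eq_one_iff.1 h2) ha1
    · exact h2
  have hfin : IsOfFinOrder a := isOfFinOrder_of_finite a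
  haveI : Fintype (Subgroup.zpowers a) := Fintype.ofFinite _
  have hcard : Fintype.card (Subgroup.zpowers a) = r := by
    rw [← Nat.card_eq_fintype_card, Nat.card_zpowers, hord]
  have hq1 : q - 1 + 1 = q := by have := hq.pos; omega
  -- the sum over `A` vanishes
  have hsum := frob_sum_eq ρ (Subgroup.zpowers a) y hyA (q - 1) (by rw [hq1]; exact hyq)
    (by rw [hq1]; exact free_pow_of_prime hq _ y hyq hfreeA) ⊤
    (fun _ _ _ _ => Submodule.mem_top) (fun _ _ => Submodule.mem_top) (fun w _ => hfix w)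
  have hzero : ∑ i ∈ Finset.range (r ^ 1), ρ a ^ i = 0 := by
    rw [pow_one]
    apply LinearMap.ext
    intro w
    have h1 := hsum w Submodule.mem_top
    rw [hcard, CharP.cast_eq_zero k r, zero_smul, sum_zpowers a hfin (fun x => ρ x), hord] at h1
    rw [LinearMap.zero_apply, ← h1]
    congr 1
    apply Finset.sum_congr rfl
    intro i _
    rw [map_pow]
  rw [Cfsg.Agent.Helper3.HH.geom_sum_eq_pow k r 1 (ρ a), pow_one] at hzero
  -- Hall–Higman
  have hhh := Cfsg.Agent.Helper3.Shult.hh_linear r (ρ : Γ →* Module.End k W) Q s hs hsr hQ a 1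
    le_rfl (by rw [pow_one]; exact har)
    (fun g hg => conj_mem_of_mem_normalizer' haQ hg)
    (fun g _ h1 => hfaith g h1)
    (by
      obtain ⟨g, hg, hag⟩ := hnc
      refine ⟨g, hg, ?_⟩
      rw [Nat.sub_self, pow_zero, pow_one]
      intro h1
      apply hag
      calc a * g = (a * g * a⁻¹) * a := by group
        _ = g * a := by rw [h1])
    (r - 1) hzero
  rcases hhh with h1 | ⟨n₀, m, hn1, hn2, hm, hrs, _, _⟩
  · rw [pow_one] at h1
    have := hr'.pos
    omega
  · have hn0 : n₀ = 1 := le_antisymm hn2 hn1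
    rw [hn0, pow_one] at hrs
    -- `q ∣ r - 1`
    have hmod := card_modEq_one_of_fpf (Subgroup.zpowers a) y q hyq
      (fun x hx => conj_mem_of_mem_normalizer' hyA hx) hfreeA
    rw [Nat.card_zpowers, hord] at hmod
    have hdvd : q ∣ r - 1 := (Nat.modEq_iff_dvd' hr'.one_lt.le).1 hmod.symm
    rw [hrs] at hdvd
    have h2 : q ∣ s := hq.dvd_of_dvd_pow hdvd
    exact hsq ((Nat.prime_dvd_prime_iff_eq hq hs).1 h2).symm

/-- **Lemma R, the faithful irreducible case**, modulo the non-cyclic group lemma `hB`. -/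
theorem faith_irred_of {s q : ℕ} (hs : s.Prime) (hq : q.Prime) (hsr : s ≠ r) (hsq : s ≠ q)
    (Q T : Subgroup Γ) (hQ : IsPGroup s Q) (hT : IsPGroup r T) (y : Γ) (hyq : y ^ q = 1)
    (hTQ : T ≤ Subgroup.normalizer (Q : Set Γ))
    (hyQ : y ∈ Subgroup.normalizer (Q : Set Γ)) (hyT : y ∈ Subgroup.normalizer (T : Set Γ))
    (hfreeT : ∀ x ∈ T, y * x * y⁻¹ = x → x = 1)
    (hfaith : ∀ g : Γ, ρ g = 1 → g = 1)
    (hfix : ∀ w : W, ρ y w = w → w = 0)
    (hsc : ∀ g ∈ Q, ∀ h ∈ Q, ∃ c : k, ∀ w : W, ρ (g * h * g⁻¹ * h⁻¹) w = c • w)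
    (hirr : ∀ M₁ : Submodule k W, (∀ g ∈ Q, ∀ w ∈ M₁, ρ g w ∈ M₁) →
      (∀ x ∈ T, ∀ w ∈ M₁, ρ x w ∈ M₁) → (∀ w ∈ M₁, ρ y w ∈ M₁) → M₁ = ⊥ ∨ M₁ = ⊤)
    (hB : ∀ A : Subgroup Γ,
      (∀ a ∈ A, ∀ b ∈ A, a * b = b * a) → (∀ a ∈ A, a ^ r = 1) →
      (∀ a : Γ, A ≠ Subgroup.zpowers a) →
      A ≤ Subgroup.normalizer (Q : Set Γ) →
      y ∈ Subgroup.normalizer (A : Set Γ) →
      (∀ a ∈ A, (∀ g ∈ Q, a * g = g * a) → a = 1) →
      (∀ B : Subgroup Γ, B ≤ A → y ∈ Subgroup.normalizer (B : Set Γ) → B = ⊥ ∨ B = A) →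
      (∀ g ∈ Q, ∀ h ∈ Q, ∀ e : Γ, (g * h * g⁻¹ * h⁻¹) * e = e * (g * h * g⁻¹ * h⁻¹)) →
      ∃ X : Subgroup Γ, X ≤ Q ∧ X ≠ ⊥ ∧ (∀ a ∈ X, ∀ b ∈ X, a * b = b * a) ∧
        y ∈ Subgroup.normalizer (X : Set Γ) ∧ ∀ u ∈ X, y * u * y⁻¹ = u → u = 1) :
    ∀ x ∈ T, ∀ g ∈ Q, x * g = g * x := by
  have hr' : r.Prime := hr.out
  by_contra hcon
  push Not at hcon
  -- `W` is non-zero
  haveI hWnt : Nontrivial W := by
    by_contra hnt
    rw [not_nontrivial_iff_subsingleton] at hnt
    obtain ⟨x, _, g, _, hxg⟩ := hcon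
    have h1 : ∀ z : Γ, z = 1 := fun z => hfaith z (by
      apply LinearMap.ext
      intro w
      exact Subsingleton.elim _ _)
    exact hxg (by rw [h1 x, h1 g])
  -- `C_T(Q) = 1`
  have hCn : ∀ z : Γ, z ∈ Subgroup.normalizer (T : Set Γ) → z ∈ Subgroup.normalizer (Q : Set Γ) →
      z ∈ Subgroup.normalizer ((centIn T Q : Subgroup Γ) : Set Γ) := fun z h1 h2 =>
    mem_normalizer_of_conj_mem _ _ (fun c hc => conj_mem_centIn T Q h1 h2 hc)
  have hC : centIn T Q = ⊥ := by
    have hCr : IsPGroup r (centIn T Q) := hT.to_le (fun _ hx => hx.1)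
    have hne := exists_fixed_of_isPGroup ρ (centIn T Q) hCr
    have htop := (hirr (fixedSub ρ (centIn T Q))
      (fun g hg w hw => map_mem_fixedSub_of_commute ρ (centIn T Q)
        (fun c (hc : c ∈ centIn T Q) => hc.2 g hg) hw)
      (fun x hx w hw => map_mem_fixedSub ρ _ (hCn x (Subgroup.le_normalizer hx) (hTQ hx)) hw)
      (fun w hw => map_mem_fixedSub ρ _ (hCn y hyT hyQ) hw)).resolve_left hne
    rw [eq_bot_iff]
    intro c hc
    rw [Subgroup.mem_bot]
    apply hfaith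
    apply LinearMap.ext
    intro w
    have hw : w ∈ fixedSub ρ (centIn T Q) := by rw [htop]; exact Submodule.mem_top
    rw [hw c hc, Module.End.one_apply]
  have hTne : T ≠ ⊥ := by
    intro h
    obtain ⟨x, hx, g, _, hxg⟩ := hcon
    rw [h, Subgroup.mem_bot] at hx
    apply hxg
    rw [hx, one_mul, mul_one]
  -- the minimal invariant subgroup
  obtain ⟨A, hAT, hAne, hyA, hAmin⟩ := exists_min_invariant T y hyT hTne
  have hAr : IsPGroup r A := hT.to_le hAT
  have hAc : ∀ a ∈ A, ∀ b ∈ A, a * b = b * a := by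
    have h1 : ⁅A, A⁆ = ⊥ := by
      rcases hAmin ⁅A, A⁆ (Subgroup.commutator_le_self A) (mem_normalizer_commutator hyA hyA)
        with h2 | h2
      · exact h2
      · exact absurd h2 (commutator_ne_self (solv_of_isPGroup hr' hAr) hAne)
    intro a ha b hb
    have h2 : ⁅a, b⁆ ∈ (⁅A, A⁆ : Subgroup Γ) := Subgroup.commutator_mem_commutator ha hb
    rw [h1, Subgroup.mem_bot, commutatorElement_eq_one_iff_mul_comm] at h2
    exact h2
  have hAe : ∀ a ∈ A, a ^ r = 1 := by
    have h1 : powKer A hAc r = A := by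
      rcases hAmin (powKer A hAc r) (powKer_le A hAc r) (mem_normalizer_powKer A hAc r hyA)
        with h2 | h2
      · exfalso
        -- an element of order `r`
        have hdvd : r ∣ Nat.card A := dvd_card_of_isPGroup_ne_bot hr' hAr hAne
        obtain ⟨x, hx⟩ := exists_prime_orderOf_dvd_card' r hdvd
        have hxm : (x : Γ) ∈ powKer A hAc r := by
          refine ⟨x.2, ?_⟩
          have := pow_orderOf_eq_one x
          rw [hx] at this
          have h3 := congrArg Subtype.val this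
          simpa using h3
        rw [h2, Subgroup.mem_bot] at hxm
        have hx1 : x = 1 := Subtype.ext hxm
        rw [hx1, orderOf_one] at hx
        exact hr'.one_lt.ne hx
      · exact h2
    intro a ha
    have : a ∈ powKer A hAc r := by rw [h1]; exact ha
    exact this.2
  have hfreeA : ∀ a ∈ A, y * a * y⁻¹ = a → a = 1 := fun a ha => hfreeT a (hAT ha)
  have hfaithA : ∀ a ∈ A, (∀ g ∈ Q, a * g = g * a) → a = 1 := by
    intro a ha h1
    have : a ∈ centIn T Q := ⟨hAT ha, h1⟩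
    rw [hC, Subgroup.mem_bot] at this
    exact this
  have hinj : ∀ u v : Γ, ρ u = ρ v → u = v := by
    intro u v huv
    have h1 : ρ (u * v⁻¹) = 1 := by
      rw [map_mul, huv, ← map_mul, mul_inv_cancel, map_one]
    have h2 := hfaith _ h1
    calc u = (u * v⁻¹) * v := by group
      _ = v := by rw [h2, one_mul]
  have hcen : ∀ g ∈ Q, ∀ h ∈ Q, ∀ e : Γ,
      (g * h * g⁻¹ * h⁻¹) * e = e * (g * h * g⁻¹ * h⁻¹) := by
    intro g hg h hh e
    obtain ⟨c, hc⟩ := hsc g hg h hh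
    apply hinj
    apply LinearMap.ext
    intro w
    rw [map_mul _ _ e, map_mul _ e, Module.End.mul_apply, Module.End.mul_apply, hc, hc, map_smul]
  have hq1 : q - 1 + 1 = q := by have := hq.pos; omega
  by_cases hcyc : ∃ a : Γ, A = Subgroup.zpowers a
  · obtain ⟨a, rfl⟩ := hcyc
    have haA : a ∈ Subgroup.zpowers a := Subgroup.mem_zpowers a
    have ha1 : a ≠ 1 := by
      intro h
      apply hAne
      rw [h, Subgroup.zpowers_one_eq_bot]
    have hnc : ∃ g ∈ Q, a * g ≠ g * a := by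
      by_contra h
      push Not at h
      exact ha1 (hfaithA a haA h)
    exact false_of_cyclic ρ hs hq hsr hsq Q hQ y a hyq ha1 (hAe a haA) (hTQ (hAT haA)) hyA hfreeA
      hfaith hfix hnc
  · push Not at hcyc
    obtain ⟨X, hXQ, hXne, _, hyX, hfreeX⟩ := hB A hAc hAe hcyc (hAT.trans hTQ) hyA hfaithA hAmin hcen
    have hXk : ((Nat.card X : ℕ) : k) ≠ 0 := by
      intro h0
      have h1 : r ∣ Nat.card X := (CharP.cast_eq_zero_iff k r _).1 h0
      have h2 := card_coprime_of_isPGroup hs hr' hsr (hQ.to_le hXQ)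
      have h3 : r ∣ 1 := by
        have := Nat.dvd_gcd h1 (dvd_refl r)
        rwa [h2] at this
      exact hr'.one_lt.ne' (Nat.dvd_one.1 h3)
    have htriv := frob_trivial ρ X y hyX (q - 1) (by rw [hq1]; exact hyq)
      (by rw [hq1]; exact free_pow_of_prime hq X y hyq hfreeX) hXk ⊤
      (fun _ _ _ _ => Submodule.mem_top) (fun _ _ => Submodule.mem_top) (fun w _ => hfix w)
    apply hXne
    rw [eq_bot_iff]
    intro u hu
    rw [Subgroup.mem_bot]
    apply hfaith
    apply LinearMap.ext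
    intro w
    rw [htriv u hu w Submodule.mem_top, Module.End.one_apply]

end Cfsg.Agent.Lead.Fpq
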