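import Mathlib

/-!
S4306: the group-ring identity behind the action of a Frobenius group whose complement has no
fixed points, and its consequence for modules.
-/

set_option autoImplicit false
set_option linter.style.haveILetI false
set_option linter.unusedSectionVars false

namespace Cfsg.Agent.Lead.Fpq

open scoped BigOperators
open Classical

section ring

variable {B : Type*} [Group B] {R : Type*} [Ring R] (φ : B →* R)

/-- the map `x ↦ (y⁻¹ x⁻¹ y) x` is injective on `X` when `y` has no fixed points on `X`. -/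
theorem gamma_injective (X : Subgroup B) (y : B)
    (hfree : ∀ x ∈ X, y * x * y⁻¹ = x → x = 1) (a b : B) (ha : a ∈ X) (hb : b ∈ X)
    (h : y⁻¹ * a⁻¹ * y * a = y⁻¹ * b⁻¹ * y * b) : a = b := by
  have h1 : a⁻¹ * y * a = b⁻¹ * y * b := by
    have := congrArg (fun z => y * z) h
    simpa [mul_assoc] using this
  have h2 : y * (a * b⁻¹) * y⁻¹ = a * b⁻¹ := by
    have e1 : y * a = a * (b⁻¹ * y * b) := by rw [← h1]; group
    calc y * (a * b⁻¹) * y⁻¹ = (y * a) * b⁻¹ * y⁻¹ := by group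
      _ = a * (b⁻¹ * y * b) * b⁻¹ * y⁻¹ := by rw [e1]
      _ = a * b⁻¹ := by group
  have h3 := hfree (a * b⁻¹) (X.mul_mem ha (X.inv_mem hb)) h2
  calc a = (a * b⁻¹) * b := by group
    _ = b := by rw [h3, one_mul]

/-- the sum of the conjugates of a power of `y` under `X`. -/
theorem sum_conj_pow (X : Subgroup B) [Fintype X] (y : B)
    (hy : y ∈ Subgroup.normalizer (X : Set B))
    (hfree : ∀ x ∈ X, y * x * y⁻¹ = x → x = 1) :
    ∑ x : X, φ ((x : B)⁻¹ * y * (x : B)) = φ y * ∑ x : X, φ (x : B) := by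
  have hyi : y⁻¹ ∈ Subgroup.normalizer (X : Set B) := Subgroup.inv_mem _ hy
  have hmem : ∀ x : X, y⁻¹ * (x : B)⁻¹ * y * (x : B) ∈ X := by
    intro x
    have h1 : y⁻¹ * (x : B)⁻¹ * y⁻¹⁻¹ ∈ X :=
      (Subgroup.mem_normalizer_iff.1 hyi _).1 (X.inv_mem x.2)
    rw [inv_inv] at h1
    exact X.mul_mem h1 x.2
  let γ : X → X := fun x => ⟨y⁻¹ * (x : B)⁻¹ * y * (x : B), hmem x⟩
  have hγinj : Function.Injective γ := by
    intro a b hab
    apply Subtype.ext
    exact gamma_injective X y hfree a b a.2 b.2 (congrArg Subtype.val hab)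
  have hγbij : Function.Bijective γ := Finite.injective_iff_bijective.1 hγinj
  have h1 : ∀ x : X, φ ((x : B)⁻¹ * y * (x : B)) = φ y * φ ((γ x : X) : B) := by
    intro x
    rw [← map_mul]
    congr 1
    show (x : B)⁻¹ * y * (x : B) = y * (y⁻¹ * (x : B)⁻¹ * y * (x : B))
    group
  rw [Finset.sum_congr rfl (fun x _ => h1 x), ← Finset.mul_sum]
  congr 1
  exact Equiv.sum_comp (Equiv.ofBijective γ hγbij) (fun x : X => φ (x : B))

/-- **The ring identity.** -/
theorem frob_ring_identity (X : Subgroup B) [Fintype X] (y : B)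
    (hy : y ∈ Subgroup.normalizer (X : Set B)) (q : ℕ)
    (hfree : ∀ i, 0 < i → i < q + 1 → ∀ x ∈ X, y ^ i * x * (y ^ i)⁻¹ = x → x = 1) :
    ∑ x : X, φ ((x : B)⁻¹) * (∑ i ∈ Finset.range (q + 1), φ y ^ i) * φ (x : B)
      = (Fintype.card X : R) + (∑ i ∈ Finset.range q, φ y ^ (i + 1)) * ∑ x : X, φ (x : B) := by
  have h1 : ∀ x : X, φ ((x : B)⁻¹) * (∑ i ∈ Finset.range (q + 1), φ y ^ i) * φ (x : B)
      = ∑ i ∈ Finset.range (q + 1), φ ((x : B)⁻¹ * y ^ i * (x : B)) := by
    intro x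
    rw [Finset.mul_sum, Finset.sum_mul]
    apply Finset.sum_congr rfl
    intro i _
    rw [map_mul, map_mul, map_pow]
  rw [Finset.sum_congr rfl (fun x _ => h1 x), Finset.sum_comm, Finset.sum_range_succ']
  have h0 : ∑ x : X, φ ((x : B)⁻¹ * y ^ 0 * (x : B)) = (Fintype.card X : R) := by
    have : ∀ x : X, φ ((x : B)⁻¹ * y ^ 0 * (x : B)) = 1 := by
      intro x
      rw [pow_zero, mul_one, inv_mul_cancel, map_one]
    rw [Finset.sum_congr rfl (fun x _ => this x), Finset.sum_const, Finset.card_univ,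
      nsmul_eq_mul, mul_one]
  rw [h0, add_comm, Finset.sum_mul]
  congr 1
  apply Finset.sum_congr rfl
  intro i hi
  have hi' : i + 1 < q + 1 := by
    have := Finset.mem_range.1 hi
    omega
  rw [sum_conj_pow φ X (y ^ (i + 1)) (Subgroup.pow_mem _ hy _)
    (hfree (i + 1) (Nat.succ_pos i) hi'), map_pow]

end ring

section module

variable {k : Type*} [CommRing k] {Γ : Type*} [Group Γ] {W : Type*} [AddCommGroup W]
  [Module k W] (ρ : Representation k Γ W)

/-- **The Frobenius lemma**: if `y` has no fixed points on the finite group `X` (nor have its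
non-trivial powers) and none on the module `M`, then `X` acts trivially on `M`. -/
theorem frob_trivial_ring (X : Subgroup Γ) [Finite X] (y : Γ)
    (hy : y ∈ Subgroup.normalizer (X : Set Γ)) (q : ℕ) (hyq : y ^ (q + 1) = 1)
    (hfree : ∀ i, 0 < i → i < q + 1 → ∀ x ∈ X, y ^ i * x * (y ^ i)⁻¹ = x → x = 1)
    (M : Submodule k W)
    (hXk : ∀ w : W, (Nat.card X : k) • w = 0 → w = 0) (hMX : ∀ x ∈ X, ∀ w ∈ M, ρ x w ∈ M) (hMy : ∀ w ∈ M, ρ y w ∈ M)
    (hfix : ∀ w ∈ M, ρ y w = w → w = 0) :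
    ∀ x ∈ X, ∀ w ∈ M, ρ x w = w := by
  haveI : Fintype X := Fintype.ofFinite X
  obtain ⟨N, hN⟩ : ∃ N : Module.End k W, N = ∑ i ∈ Finset.range (q + 1), ρ y ^ i := ⟨_, rfl⟩
  obtain ⟨e, he⟩ : ∃ e : Module.End k W, e = ∑ x : X, ρ (x : Γ) := ⟨_, rfl⟩
  have hMpow : ∀ i : ℕ, ∀ w ∈ M, (ρ y ^ i) w ∈ M := by
    intro i
    induction i with
    | zero => intro w hw; simpa using hw
    | succ i ih =>
      intro w hw
      rw [pow_succ', Module.End.mul_apply]
      exact hMy _ (ih w hw)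
  have hNM : ∀ w ∈ M, N w ∈ M := by
    intro w hw
    rw [hN, LinearMap.sum_apply]
    exact Submodule.sum_mem _ (fun i _ => hMpow i w hw)
  -- `N` vanishes on `M`
  have hN0 : ∀ w ∈ M, N w = 0 := by
    intro w hw
    apply hfix _ (hNM w hw)
    have h1 : ρ y * N = N := by
      rw [hN, Finset.mul_sum]
      have h2 : ∀ i ∈ Finset.range (q + 1), ρ y * ρ y ^ i = ρ y ^ (i + 1) := by
        intro i _; rw [pow_succ']
      rw [Finset.sum_congr rfl h2, Finset.sum_range_succ, Finset.sum_range_succ']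
      have h3 : ρ y ^ (q + 1) = ρ y ^ 0 := by
        rw [← map_pow, hyq, map_one, pow_zero]
      rw [h3]
    have := congrArg (fun f : Module.End k W => f w) h1
    simpa [Module.End.mul_apply] using this
  have heM : ∀ w ∈ M, e w ∈ M := by
    intro w hw
    rw [he, LinearMap.sum_apply]
    exact Submodule.sum_mem _ (fun x _ => hMX x x.2 w hw)
  -- the identity
  obtain ⟨S, hS⟩ : ∃ S : Module.End k W, S = ∑ i ∈ Finset.range q, ρ y ^ (i + 1) := ⟨_, rfl⟩
  have hid := frob_ring_identity (ρ : Γ →* Module.End k W) X y hy q hfree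
  rw [← hN, ← he, ← hS] at hid
  have hNsplit : N = 1 + S := by
    rw [hN, hS, Finset.sum_range_succ', pow_zero, add_comm]
  -- `e w = |X| w` on `M`
  have hew : ∀ w ∈ M, e w = (Fintype.card X : k) • w := by
    intro w hw
    have h1 := LinearMap.congr_fun hid w
    rw [LinearMap.sum_apply, LinearMap.add_apply, Module.End.mul_apply] at h1
    have h2 : ∀ x : X, (ρ ((x : Γ)⁻¹) * N * ρ (x : Γ)) w = 0 := by
      intro x
      rw [Module.End.mul_apply, Module.End.mul_apply, hN0 _ (hMX x x.2 w hw), map_zero]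
    rw [Finset.sum_congr rfl (fun x _ => h2 x), Finset.sum_const_zero] at h1
    have h3 : S (e w) = N (e w) - e w := by
      rw [hNsplit, LinearMap.add_apply, Module.End.one_apply]
      abel
    rw [h3, hN0 _ (heM w hw), zero_sub, Module.End.natCast_apply] at h1
    rw [Nat.cast_smul_eq_nsmul]
    exact (sub_eq_zero.1 (by rw [sub_eq_add_neg]; exact h1.symm)).symm
  intro x hx w hw
  have h1 : ρ x * e = e := by
    rw [he, Finset.mul_sum]
    have h2 : ∀ z : X, ρ x * ρ (z : Γ) = ρ (((⟨x, hx⟩ : X) * z : X) : Γ) := by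
      intro z
      rw [← map_mul]
      rfl
    rw [Finset.sum_congr rfl (fun z _ => h2 z)]
    exact Equiv.sum_comp (Equiv.mulLeft (⟨x, hx⟩ : X)) (fun z : X => ρ (z : Γ))
  have h2 := LinearMap.congr_fun h1 w
  rw [Module.End.mul_apply, hew w hw, map_smul] at h2
  have h3 : (Nat.card X : k) • (ρ x w - w) = 0 := by
    rw [Nat.card_eq_fintype_card, smul_sub, h2, sub_self]
  exact sub_eq_zero.1 (hXk _ h3)

end module

section field

variable {k : Type*} [Field k] {Γ : Type*} [Group Γ] {W : Type*} [AddCommGroup W]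
  [Module k W] (ρ : Representation k Γ W)

/-- **The Frobenius lemma** over a field. -/
theorem frob_trivial (X : Subgroup Γ) [Finite X] (y : Γ)
    (hy : y ∈ Subgroup.normalizer (X : Set Γ)) (q : ℕ) (hyq : y ^ (q + 1) = 1)
    (hfree : ∀ i, 0 < i → i < q + 1 → ∀ x ∈ X, y ^ i * x * (y ^ i)⁻¹ = x → x = 1)
    (hXk : (Nat.card X : k) ≠ 0)
    (M : Submodule k W) (hMX : ∀ x ∈ X, ∀ w ∈ M, ρ x w ∈ M) (hMy : ∀ w ∈ M, ρ y w ∈ M)
    (hfix : ∀ w ∈ M, ρ y w = w → w = 0) :
    ∀ x ∈ X, ∀ w ∈ M, ρ x w = w :=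
  frob_trivial_ring ρ X y hy q hyq hfree M
    (fun w hw => (smul_eq_zero.1 hw).resolve_left hXk) hMX hMy hfix

end field

section prime

variable {Γ : Type*} [Group Γ]

/-- for an element of prime order, the non-trivial powers have the same fixed points. -/
theorem free_pow_of_prime {q : ℕ} (hq : q.Prime) (X : Subgroup Γ) (y : Γ) (hyq : y ^ q = 1)
    (hfree : ∀ x ∈ X, y * x * y⁻¹ = x → x = 1) :
    ∀ i, 0 < i → i < q → ∀ x ∈ X, y ^ i * x * (y ^ i)⁻¹ = x → x = 1 := by
  intro i hi0 hiq x hx hfix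
  apply hfree x hx
  have hcop : Nat.Coprime i q := by
    rw [Nat.coprime_comm, Nat.Prime.coprime_iff_not_dvd hq]
    intro hdvd
    exact absurd (Nat.le_of_dvd hi0 hdvd) (not_le.2 hiq)
  -- `y` is a power of `y ^ i`
  obtain ⟨j, hj⟩ : ∃ j : ℕ, (y ^ i) ^ j = y := by
    obtain ⟨j, -, hj⟩ := Nat.exists_mul_mod_eq_one_of_coprime hcop hq.one_lt
    refine ⟨j, ?_⟩
    rw [← pow_mul]
    have h2 : i * j = q * (i * j / q) + 1 := by
      have := Nat.div_add_mod (i * j) q
      omega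
    rw [h2, pow_add, pow_mul, hyq, one_pow, one_mul, pow_one]
  have hc : y ^ i * x = x * y ^ i := by
    calc y ^ i * x = (y ^ i * x * (y ^ i)⁻¹) * y ^ i := by group
      _ = x * y ^ i := by rw [hfix]
  have hc' : ∀ n : ℕ, (y ^ i) ^ n * x = x * (y ^ i) ^ n := by
    intro n
    induction n with
    | zero => simp
    | succ n ih =>
      rw [pow_succ, mul_assoc, hc, ← mul_assoc, ih, mul_assoc]
  have := hc' j
  rw [hj] at this
  rw [this]; group

end prime

end Cfsg.Agent.Lead.Fpq
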