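import Cfsg.Agent.Lead.S3fB2
import Cfsg.Agent.Lead.FpqRing

/-!
S4306: the relations of a non-abelian group of order `pq` inside a group, and the stabilizers of
the weights of an invariant abelian subgroup.
-/

set_option autoImplicit false
set_option linter.style.haveILetI false
set_option linter.unusedSectionVars false

namespace Cfsg.Agent.Lead.Fpq

open scoped BigOperators
open Classical
open Cfsg.Agent.Lead.S3F

variable {Γ : Type*} [Group Γ] {Γ' : Type*} [Group Γ']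

/-- `f` and `h` satisfy the relations of a (quotient of a) non-abelian group of order `pq` with
normal subgroup of order `p`. -/
structure FrobRel (p q m : ℕ) (f h : Γ) : Prop where
  hp : p.Prime
  hq : q.Prime
  fp : f ^ p = 1
  hq1 : h ^ q = 1
  conj : h * f * h⁻¹ = f ^ m
  ord : ∀ j : ℕ, ¬ q ∣ j → ¬ (m ^ j ≡ 1 [MOD p])
  dvd : q ∣ p - 1

/-- `𝔸` is generated by `f` and `h`. -/
structure FrobGen (p q m : ℕ) (𝔸 : Subgroup Γ) (f h : Γ) : Prop extends FrobRel p q m f h where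
  gen : 𝔸 = Subgroup.closure {f, h}
  card : Nat.card 𝔸 ∣ p * q

namespace FrobRel

variable {p q m : ℕ} {f h : Γ}

theorem map (r : FrobRel p q m f h) (φ : Γ →* Γ') : FrobRel p q m (φ f) (φ h) where
  hp := r.hp
  hq := r.hq
  fp := by rw [← map_pow, r.fp, map_one]
  hq1 := by rw [← map_pow, r.hq1, map_one]
  conj := by rw [← map_inv, ← map_mul, ← map_mul, r.conj, map_pow]
  ord := r.ord
  dvd := r.dvd

theorem conj_f_pow (r : FrobRel p q m f h) (j : ℕ) : h * f ^ j * h⁻¹ = f ^ (m * j) := by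
  rw [← conj_pow, r.conj, ← pow_mul]

theorem conj_pow_f (r : FrobRel p q m f h) (i : ℕ) : h ^ i * f * (h ^ i)⁻¹ = f ^ (m ^ i) := by
  induction i with
  | zero => simp
  | succ i ih =>
    have e : h ^ (i + 1) * f * (h ^ (i + 1))⁻¹ = h * (h ^ i * f * (h ^ i)⁻¹) * h⁻¹ := by
      rw [pow_succ']; group
    rw [e, ih, r.conj_f_pow, pow_succ']

theorem conj_pow_pow (r : FrobRel p q m f h) (i j : ℕ) :
    h ^ i * f ^ j * (h ^ i)⁻¹ = f ^ (m ^ i * j) := by
  rw [← conj_pow, r.conj_pow_f, ← pow_mul]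

theorem h_mem_normalizer [Finite Γ] (r : FrobRel p q m f h) :
    h ∈ Subgroup.normalizer ((Subgroup.zpowers f : Subgroup Γ) : Set Γ) := by
  apply mem_normalizer_of_conj_mem
  intro x hx
  obtain ⟨n, rfl⟩ := Subgroup.mem_zpowers_iff.1 hx
  have : h * f ^ n * h⁻¹ = (h * f * h⁻¹) ^ n := by rw [conj_zpow]
  rw [this, r.conj]
  exact Subgroup.zpow_mem _ (Subgroup.pow_mem _ (Subgroup.mem_zpowers f) _) _

theorem orderOf_f (r : FrobRel p q m f h) (hf : f ≠ 1) : orderOf f = p := by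
  have h1 : orderOf f ∣ p := orderOf_dvd_of_pow_eq_one r.fp
  rcases (Nat.dvd_prime r.hp).1 h1 with h2 | h2
  · exact absurd (orderOf_eq_one_iff.1 h2) hf
  · exact h2

/-- every element of `⟨f⟩` is a natural power of `f`. -/
theorem exists_pow_of_mem_zpowers (r : FrobRel p q m f h) {x : Γ}
    (hx : x ∈ Subgroup.zpowers f) : ∃ n : ℕ, x = f ^ n := by
  have hfin : IsOfFinOrder f := isOfFinOrder_iff_pow_eq_one.2 ⟨p, r.hp.pos, r.fp⟩
  have := (hfin.mem_powers_iff_mem_zpowers).2 hx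
  obtain ⟨n, hn⟩ := (Submonoid.mem_powers_iff _ _).1 this
  exact ⟨n, hn.symm⟩

/-- the non-trivial powers of `h` have no fixed points on `⟨f⟩`. -/
theorem free (r : FrobRel p q m f h) (j : ℕ) (hj : ¬ q ∣ j) (x : Γ)
    (hx : x ∈ Subgroup.zpowers f) (hfix : h ^ j * x * (h ^ j)⁻¹ = x) : x = 1 := by
  by_cases hf : f = 1
  · rw [hf, Subgroup.zpowers_one_eq_bot, Subgroup.mem_bot] at hx
    exact hx
  obtain ⟨n, rfl⟩ := r.exists_pow_of_mem_zpowers hx
  rw [r.conj_pow_pow] at hfix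
  have hord := r.orderOf_f hf
  have h1 : m ^ j * n ≡ n [MOD p] := by
    rw [← hord]
    exact pow_eq_pow_iff_modEq.1 hfix
  have h2 : ¬ (m ^ j ≡ 1 [MOD p]) := r.ord j hj
  have h3 : (p : ℕ) ∣ n := by
    haveI : Fact p.Prime := ⟨r.hp⟩
    have h4 : ((m ^ j * n : ℕ) : ZMod p) = (n : ZMod p) := (ZMod.natCast_eq_natCast_iff _ _ _).2 h1
    have h5 : ((m ^ j : ℕ) : ZMod p) ≠ 1 := by
      intro h6
      apply h2
      apply (ZMod.natCast_eq_natCast_iff _ _ _).1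
      rw [h6, Nat.cast_one]
    rw [Nat.cast_mul] at h4
    have h6 : (((m ^ j : ℕ) : ZMod p) - 1) * (n : ZMod p) = 0 := by
      rw [sub_mul, one_mul, h4, sub_self]
    rcases mul_eq_zero.1 h6 with h7 | h7
    · exact absurd (sub_eq_zero.1 h7) h5
    · exact (ZMod.natCast_eq_zero_iff _ _).1 h7
  obtain ⟨c, rfl⟩ := h3
  rw [pow_mul, r.fp, one_pow]

/-- conjugating `h` by an element of `⟨f⟩`. -/
theorem conj_h (r : FrobRel p q m f h) {x : Γ} (hx : x ∈ Subgroup.zpowers f) :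
    FrobRel p q m f (x * h * x⁻¹) where
  hp := r.hp
  hq := r.hq
  fp := r.fp
  hq1 := by rw [conj_pow, r.hq1]; group
  conj := by
    have hc : x * f = f * x := by
      obtain ⟨n, rfl⟩ := Subgroup.mem_zpowers_iff.1 hx
      exact (Commute.zpow_left (Commute.refl f) n).eq
    have hc' : x⁻¹ * f = f * x⁻¹ := by
      calc x⁻¹ * f = x⁻¹ * (f * x) * x⁻¹ := by group
        _ = x⁻¹ * (x * f) * x⁻¹ := by rw [hc]
        _ = f * x⁻¹ := by group
    have hcm : x * f ^ m = f ^ m * x := by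
      obtain ⟨n, rfl⟩ := Subgroup.mem_zpowers_iff.1 hx
      exact ((Commute.refl f).zpow_left n).pow_right m |>.eq
    calc x * h * x⁻¹ * f * (x * h * x⁻¹)⁻¹ = x * (h * (x⁻¹ * f) * x * h⁻¹) * x⁻¹ := by group
      _ = x * (h * f * h⁻¹) * x⁻¹ := by rw [hc']; group
      _ = x * f ^ m * x⁻¹ := by rw [r.conj]
      _ = f ^ m := by rw [hcm]; group
  ord := r.ord
  dvd := r.dvd

/-- the Frobenius property: the elements `f ^ i * h ^ j` with `h ^ j ≠ 1` are conjugates of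
`h ^ j` under `⟨f⟩`. -/
theorem exists_conj [Finite Γ] (r : FrobRel p q m f h) (i j : ℕ) (hj : ¬ q ∣ j) :
    ∃ x ∈ Subgroup.zpowers f, f ^ i * h ^ j = x * h ^ j * x⁻¹ := by
  obtain ⟨F, hF⟩ : ∃ F : Subgroup Γ, F = Subgroup.zpowers f := ⟨_, rfl⟩
  have hhF : h ^ j ∈ Subgroup.normalizer (F : Set Γ) := by
    rw [hF]; exact Subgroup.pow_mem _ r.h_mem_normalizer _
  have hmem : ∀ x : F, (x : Γ) * (h ^ j * (x : Γ)⁻¹ * (h ^ j)⁻¹) ∈ F := by
    intro x
    exact F.mul_mem x.2 ((Subgroup.mem_normalizer_iff.1 hhF _).1 (F.inv_mem x.2))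
  let γ : F → F := fun x => ⟨(x : Γ) * (h ^ j * (x : Γ)⁻¹ * (h ^ j)⁻¹), hmem x⟩
  have hγ : Function.Injective γ := by
    intro a b hab
    have h1 : (a : Γ) * (h ^ j * (a : Γ)⁻¹ * (h ^ j)⁻¹) = (b : Γ) * (h ^ j * (b : Γ)⁻¹ * (h ^ j)⁻¹) :=
      congrArg Subtype.val hab
    have h2 : h ^ j * ((b : Γ)⁻¹ * (a : Γ)) * (h ^ j)⁻¹ = (b : Γ)⁻¹ * (a : Γ) := by
      have e1 : h ^ j * (a : Γ)⁻¹ * (h ^ j)⁻¹ = (a : Γ)⁻¹ * ((b : Γ) * (h ^ j * (b : Γ)⁻¹ * (h ^ j)⁻¹)) := by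
        rw [← h1]; group
      have e2 : h ^ j * (a : Γ) * (h ^ j)⁻¹ = (h ^ j * (a : Γ)⁻¹ * (h ^ j)⁻¹)⁻¹ := by group
      rw [e1] at e2
      calc h ^ j * ((b : Γ)⁻¹ * (a : Γ)) * (h ^ j)⁻¹
          = (h ^ j * (b : Γ)⁻¹ * (h ^ j)⁻¹) * (h ^ j * (a : Γ) * (h ^ j)⁻¹) := by group
        _ = (h ^ j * (b : Γ)⁻¹ * (h ^ j)⁻¹)
            * ((a : Γ)⁻¹ * ((b : Γ) * (h ^ j * (b : Γ)⁻¹ * (h ^ j)⁻¹)))⁻¹ := by rw [e2]
        _ = (b : Γ)⁻¹ * (a : Γ) := by group
    have h3 := r.free j hj ((b : Γ)⁻¹ * (a : Γ)) (by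
      rw [← hF]; exact F.mul_mem (F.inv_mem b.2) a.2) h2
    apply Subtype.ext
    calc (a : Γ) = (b : Γ) * ((b : Γ)⁻¹ * (a : Γ)) := by group
      _ = (b : Γ) := by rw [h3, mul_one]
  have hγs : Function.Surjective γ := (Finite.injective_iff_bijective.1 hγ).2
  have hfi : f ^ i ∈ F := by rw [hF]; exact Subgroup.pow_mem _ (Subgroup.mem_zpowers f) _
  obtain ⟨x, hx⟩ := hγs ⟨f ^ i, hfi⟩
  refine ⟨(x : Γ), by rw [← hF]; exact x.2, ?_⟩
  have h1 : (x : Γ) * (h ^ j * (x : Γ)⁻¹ * (h ^ j)⁻¹) = f ^ i := congrArg Subtype.val hx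
  rw [← h1]; group

end FrobRel

namespace FrobGen

variable {p q m : ℕ} {𝔸 : Subgroup Γ} {f h : Γ}

theorem f_mem (g : FrobGen p q m 𝔸 f h) : f ∈ 𝔸 := by
  rw [g.gen]; exact Subgroup.subset_closure (by simp)

theorem h_mem (g : FrobGen p q m 𝔸 f h) : h ∈ 𝔸 := by
  rw [g.gen]; exact Subgroup.subset_closure (by simp)

theorem le_of_mem (g : FrobGen p q m 𝔸 f h) {B : Subgroup Γ} (hf : f ∈ B) (hh : h ∈ B) :
    𝔸 ≤ B := by
  rw [g.gen, Subgroup.closure_le]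
  intro x hx
  rcases hx with rfl | rfl
  · exact hf
  · exact hh

theorem zpowers_le (g : FrobGen p q m 𝔸 f h) : Subgroup.zpowers f ≤ 𝔸 :=
  Subgroup.zpowers_le.2 g.f_mem

theorem map [Finite Γ] (g : FrobGen p q m 𝔸 f h) (φ : Γ →* Γ') :
    FrobGen p q m (𝔸.map φ) (φ f) (φ h) where
  toFrobRel := g.toFrobRel.map φ
  gen := by rw [g.gen, MonoidHom.map_closure, Set.image_pair]
  card := dvd_trans (Subgroup.card_map_dvd _ φ) g.card

/-- every element of `𝔸` is `f ^ i * h ^ j`. -/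
theorem exists_pow (g : FrobGen p q m 𝔸 f h) {a : Γ} (ha : a ∈ 𝔸) :
    ∃ i j : ℕ, a = f ^ i * h ^ j := by
  have r := g.toFrobRel
  have hfo : IsOfFinOrder f := isOfFinOrder_iff_pow_eq_one.2 ⟨p, r.hp.pos, r.fp⟩
  have hho : IsOfFinOrder h := isOfFinOrder_iff_pow_eq_one.2 ⟨q, r.hq.pos, r.hq1⟩
  have hfinv : ∃ n : ℕ, f⁻¹ = f ^ n := ⟨p - 1, by
    apply inv_eq_of_mul_eq_one_right
    rw [← pow_succ']
    have : p - 1 + 1 = p := by have := r.hp.pos; omega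
    rw [this, r.fp]⟩
  have hhinv : ∃ n : ℕ, h⁻¹ = h ^ n := ⟨q - 1, by
    apply inv_eq_of_mul_eq_one_right
    rw [← pow_succ']
    have : q - 1 + 1 = q := by have := r.hq.pos; omega
    rw [this, r.hq1]⟩
  rw [g.gen] at ha
  induction ha using Subgroup.closure_induction with
  | mem x hx =>
    rcases hx with rfl | rfl
    · exact ⟨1, 0, by simp⟩
    · exact ⟨0, 1, by simp⟩
  | one => exact ⟨0, 0, by simp⟩
  | mul x y _ _ hx hy =>
    obtain ⟨i, j, rfl⟩ := hx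
    obtain ⟨i', j', rfl⟩ := hy
    refine ⟨i + m ^ j * i', j + j', ?_⟩
    have := r.conj_pow_pow j i'
    calc f ^ i * h ^ j * (f ^ i' * h ^ j')
        = f ^ i * (h ^ j * f ^ i' * (h ^ j)⁻¹) * (h ^ j * h ^ j') := by group
      _ = f ^ (i + m ^ j * i') * h ^ (j + j') := by rw [this, pow_add, pow_add]
  | inv x _ hx =>
    obtain ⟨i, j, rfl⟩ := hx
    obtain ⟨a, ha⟩ := hfinv
    obtain ⟨b, hb⟩ := hhinv
    refine ⟨m ^ (b * j) * (a * i), b * j, ?_⟩
    have h1 : (f ^ i * h ^ j)⁻¹ = h ^ (b * j) * f ^ (a * i) := by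
      rw [mul_inv_rev, ← inv_pow, ← inv_pow, ha, hb, ← pow_mul, ← pow_mul]
    rw [h1]
    have := r.conj_pow_pow (b * j) (a * i)
    calc h ^ (b * j) * f ^ (a * i)
        = (h ^ (b * j) * f ^ (a * i) * (h ^ (b * j))⁻¹) * h ^ (b * j) := by group
      _ = _ := by rw [this]

/-- replacing `h` by a conjugate under `⟨f⟩`. -/
theorem conj_h (g : FrobGen p q m 𝔸 f h) {x : Γ} (hx : x ∈ Subgroup.zpowers f) :
    FrobGen p q m 𝔸 f (x * h * x⁻¹) where
  toFrobRel := g.toFrobRel.conj_h hx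
  gen := by
    have hxA : x ∈ 𝔸 := g.zpowers_le hx
    apply le_antisymm
    · rw [g.gen, Subgroup.closure_le]
      intro y hy
      rcases hy with hy | hy
      · rw [hy]; exact Subgroup.subset_closure (by simp)
      · have hx' : x ∈ Subgroup.closure ({f, x * h * x⁻¹} : Set Γ) :=
          (Subgroup.zpowers_le.2 (Subgroup.subset_closure (by simp))) hx
        have h1 : x * h * x⁻¹ ∈ Subgroup.closure ({f, x * h * x⁻¹} : Set Γ) :=
          Subgroup.subset_closure (by simp)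
        have h2 : x⁻¹ * (x * h * x⁻¹) * x ∈ Subgroup.closure ({f, x * h * x⁻¹} : Set Γ) :=
          Subgroup.mul_mem _ (Subgroup.mul_mem _ (Subgroup.inv_mem _ hx') h1) hx'
        have h3 : x⁻¹ * (x * h * x⁻¹) * x = h := by group
        rw [Set.mem_singleton_iff] at hy
        rw [SetLike.mem_coe, hy]
        rw [h3] at h2
        exact h2
    · rw [Subgroup.closure_le]
      intro y hy
      rcases hy with hy | hy
      · rw [hy]; exact g.f_mem
      · rw [Set.mem_singleton_iff] at hy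
        rw [hy]; exact 𝔸.mul_mem (𝔸.mul_mem hxA g.h_mem) (𝔸.inv_mem hxA)
  card := g.card

end FrobGen

end Cfsg.Agent.Lead.Fpq
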