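import Mathlib
import Cfsg.Prelude.Def_FusionSystem
import Cfsg.Agent.S5097
import Cfsg.Agent.Lead.FusionAlperin
import Cfsg.Agent.Lead.FusionSat2
import Cfsg.Agent.Lead.FusionInvariant

set_option autoImplicit false

namespace Cfsg.Agent.Lead

open Cfsg Cfsg.FusionSystem

variable {Ω : Type*} [Group Ω] {S : Subgroup Ω}

/-- A nontrivial finite `p`-group `S ≤ Ω` has a central element of order `p`. -/
theorem exists_central_orderOf_eq_prime [Finite S] (p : ℕ) [Fact p.Prime] (hS : IsPGroup p S)
    (hne : S ≠ ⊥) : ∃ z ∈ S, orderOf z = p ∧ ∀ s ∈ S, s * z = z * s := by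
  have hp : p.Prime := Fact.out
  have hnt : Nontrivial S := by
    rw [← not_subsingleton_iff_nontrivial]
    intro hss
    apply hne
    rw [eq_bot_iff]
    intro x hx
    have : (⟨x, hx⟩ : S) = 1 := Subsingleton.elim _ _
    rw [Subgroup.mem_bot]
    exact congrArg Subtype.val this
  have hcnt : Nontrivial (Subgroup.center S) := hS.center_nontrivial
  have hcp : IsPGroup p (Subgroup.center S) := hS.to_subgroup _
  obtain ⟨n, hn⟩ := IsPGroup.iff_card.mp hcp
  have hn0 : n ≠ 0 := by
    rintro rfl
    rw [pow_zero] at hn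
    have := (Nat.card_eq_one_iff_unique.mp hn).1
    exact not_subsingleton (Subgroup.center S) this
  have hdvd : p ∣ Nat.card (Subgroup.center S) := by
    rw [hn]; exact dvd_pow_self p hn0
  obtain ⟨z, hz⟩ := exists_prime_orderOf_dvd_card' p hdvd
  refine ⟨((z : S) : Ω), (z : S).2, ?_, ?_⟩
  · rw [Subgroup.orderOf_coe, Subgroup.orderOf_coe]; exact hz
  · intro s hs
    have := (Subgroup.mem_center_iff.mp z.2) ⟨s, hs⟩
    exact congrArg Subtype.val this

/-- Key step: automorphisms of subgroups containing a central element `z` of order `p`. -/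
theorem Fusion.aut_mem_of_centralizer [Finite S] (p : ℕ) [Fact p.Prime] (hS : IsPGroup p S)
    (F F' : FusionSystem S) (hF' : F'.IsSaturated p) (hle : F' ≤ F)
    {z : Ω} (hzS : z ∈ S) (hzc : ∀ s ∈ S, s * z = z * s)
    (hHom : F.Hom (Subgroup.zpowers z) = F'.Hom (Subgroup.zpowers z))
    (hCent : ∀ P : Subgroup Ω, F.centralizerHom (Subgroup.zpowers z) P =
      F'.centralizerHom (Subgroup.zpowers z) P)
    {P : Subgroup Ω} (hPS : P ≤ S) (hzP : z ∈ P) (α : MulAut P) (hα : α ∈ F.autGroup P) :
    α ∈ F'.autGroup P := by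
  have hZP : Subgroup.zpowers z ≤ P := by rw [Subgroup.zpowers_le]; exact hzP
  have hZS : Subgroup.zpowers z ≤ S := hZP.trans hPS
  have hZc : ∀ y ∈ Subgroup.zpowers z, ∀ s ∈ S, s * y = y * s := by
    rintro y ⟨k, rfl⟩ s hs
    exact ((Commute.zpow_right (hzc s hs) k : Commute s (z ^ k))).eq
  have hCS : centralizerIn S (Subgroup.zpowers z) = S := by
    apply le_antisymm inf_le_left
    intro s hs
    refine ⟨hs, Subgroup.mem_centralizer_iff.mpr ?_⟩
    intro y hy
    exact (hZc y hy s hs).symm
  rw [Fusion.mem_autGroup_iff F hPS] at hα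
  rw [Fusion.mem_autGroup_iff F' hPS]
  set φ : P →* Ω := P.subtype.comp α.toMonoidHom with hφ
  have hφx : ∀ x : P, φ x = ((α x : P) : Ω) := fun x => rfl
  -- the restriction of `φ` to `Z`
  have hσ : φ.comp (Subgroup.inclusion hZP) ∈ F'.Hom (Subgroup.zpowers z) := by
    rw [← hHom]; exact Fusion.restrict_mem F hα hZP
  set σ : ↥(Subgroup.zpowers z) →* Ω := φ.comp (Subgroup.inclusion hZP) with hσdef
  -- `Z` is fully centralized, hence receptive, in `F'`
  have hZfc : F'.IsFullyCentralized (Subgroup.zpowers z) := by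
    refine ⟨hZS, fun Q _ => ?_⟩
    rw [hCS]
    have : centralizerIn S Q ≤ S := inf_le_left
    exact Nat.card_le_card_of_injective (Subgroup.inclusion this) (Subgroup.inclusion_injective this)
  have hZrec := Fusion.receptive_of_fullyCentralized p hS F' hF' hZfc
  obtain ⟨τ, hτ, hτinv, hτr⟩ := Fusion.exists_inv F' hσ rfl
  obtain ⟨ψ, hψ, hψext⟩ := hZrec.2 σ.range τ hτ hτr
  -- `P` lies in the extender
  have hPext : P ≤ extender S σ.range τ := by
    refine le_trans ?_ (Fusion.centralizerIn_le_extender σ.range τ)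
    intro x hx
    refine ⟨hPS hx, Subgroup.mem_centralizer_iff.mpr ?_⟩
    rintro _ ⟨y, rfl⟩
    -- `σ y = α y'` is central in `P`
    obtain ⟨x', hx'⟩ := α.surjective ⟨x, hx⟩
    have h1 : (Subgroup.inclusion hZP y) * x' = x' * (Subgroup.inclusion hZP y) := by
      apply Subtype.ext
      exact (hZc y y.2 x' (hPS x'.2)).symm
    have h2 := congrArg α h1
    rw [map_mul, map_mul, hx'] at h2
    have h3 := congrArg Subtype.val h2
    exact h3
  have hβ := Fusion.restrict_mem F' hψ hPext
  set β : P →* Ω := ψ.comp (Subgroup.inclusion hPext) with hβdef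
  have hβσ : ∀ y : ↥(Subgroup.zpowers z), β (α (Subgroup.inclusion hZP y)) = y := by
    intro y
    have hmem : σ y ∈ σ.range := ⟨y, rfl⟩
    have h1 := hψext (σ y) hmem (hPext (α (Subgroup.inclusion hZP y)).2)
    have h2 := hτinv y hmem
    show ψ ⟨((α (Subgroup.inclusion hZP y) : P) : Ω), _⟩ = y
    rw [← h2, ← h1]
    rfl
  -- the composite `γ = β ∘ φ`
  have hφP : ∀ x : P, φ x ∈ P := fun x => (α x).2
  have hγF : β.comp (φ.codRestrict P hφP) ∈ F.Hom P := F.comp_mem hα (hle P hβ) hφP
  set γ : P →* Ω := β.comp (φ.codRestrict P hφP) with hγdef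
  have hγx : ∀ x : P, γ x = β (α x) := fun x => rfl
  have hγcent : γ ∈ F.centralizerHom (Subgroup.zpowers z) P := by
    refine ⟨hγF, by rw [hCS]; exact hPS, fun x => by rw [hCS]; exact Fusion.map_mem F hγF x, ?_⟩
    have heq : P = P ⊔ Subgroup.zpowers z := (sup_eq_left.mpr hZP).symm
    obtain ⟨γ', hγ', hγγ'⟩ := Fusion.exists_hom_of_eq F heq hγF
    refine ⟨γ', hγ', fun x => hγγ' x x.2 _, fun y => ?_⟩
    have := hγγ' y (hZP y.2) ((le_sup_right : Subgroup.zpowers z ≤ _) y.2)
    have e : (Subgroup.inclusion (le_sup_right : Subgroup.zpowers z ≤ P ⊔ Subgroup.zpowers z) y) =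
        ⟨(y : Ω), (le_sup_right : Subgroup.zpowers z ≤ _) y.2⟩ := rfl
    rw [e, this]
    exact hβσ y
  rw [hCent P] at hγcent
  have hγF' : γ ∈ F'.Hom P := hγcent.1
  -- recover `φ = β⁻¹ ∘ γ`
  obtain ⟨βi, hβi, hβinv⟩ := F'.inv_mem hβ
  have hγr : ∀ x : P, γ x ∈ β.range := fun x => ⟨α x, rfl⟩
  have hcomp := F'.comp_mem hγF' hβi hγr
  convert hcomp using 1
  ext x
  show ((α x : P) : Ω) = βi ⟨γ x, hγr x⟩
  have := hβinv (α x)
  rw [← this]
  rfl

/-- A saturated subsystem with the same maps on, and the same centralizer systems of, the fully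
centralized subgroups of order `p` is the whole system. -/
theorem Fusion.eq_of_centralizers_order_p [Finite S] (p : ℕ) [Fact p.Prime] (hS : IsPGroup p S)
    (F : FusionSystem S) (hF : F.IsSaturated p) (F' : FusionSystem S) (hF' : F'.IsSaturated p)
    (hle : F' ≤ F)
    (hZ : ∀ Z : Subgroup Ω, Z ≤ S → Nat.card Z = p → F'.IsFullyCentralized Z →
      F.Hom Z = F'.Hom Z ∧ ∀ (C C' : FusionSystem (centralizerIn S Z)),
        F.IsCentralizerSystem Z C → F'.IsCentralizerSystem Z C' →
        ∀ P : Subgroup Ω, C.Hom P = C'.Hom P) (P : Subgroup Ω) : F.Hom P = F'.Hom P := by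
  apply Set.Subset.antisymm _ (hle P)
  suffices h : F ≤ F' from h P
  apply Fusion.alperin p hS F hF F'
  intro R hR
  by_cases hne : S = ⊥
  · -- trivial group
    have hRS : R ≤ S := by
      rcases hR with rfl | hess
      · exact le_rfl
      · exact hess.1.1
    have hRbot : R = ⊥ := by rw [eq_bot_iff]; exact hne ▸ hRS
    intro α _
    have hsub : Subsingleton R := by
      rw [hRbot]; infer_instance
    have : α = 1 := by
      ext x
      exact congrArg Subtype.val (Subsingleton.elim _ _)
    rw [this]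
    exact Subgroup.one_mem _
  · obtain ⟨z, hzS, hzo, hzc⟩ := exists_central_orderOf_eq_prime p hS hne
    have hZS : Subgroup.zpowers z ≤ S := by rw [Subgroup.zpowers_le]; exact hzS
    have hcard : Nat.card (Subgroup.zpowers z) = p := by rw [Nat.card_zpowers, hzo]
    have hCS : centralizerIn S (Subgroup.zpowers z) = S := by
      apply le_antisymm inf_le_left
      intro s hs
      refine ⟨hs, Subgroup.mem_centralizer_iff.mpr ?_⟩
      rintro y ⟨k, rfl⟩
      exact ((Commute.zpow_right (hzc s hs) k : Commute s (z ^ k))).eq.symm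
    have hZfc : F'.IsFullyCentralized (Subgroup.zpowers z) := by
      refine ⟨hZS, fun Q _ => ?_⟩
      rw [hCS]
      have : centralizerIn S Q ≤ S := inf_le_left
      exact Nat.card_le_card_of_injective (Subgroup.inclusion this)
        (Subgroup.inclusion_injective this)
    obtain ⟨hHom, hC⟩ := hZ _ hZS hcard hZfc
    have hCent : ∀ P : Subgroup Ω, F.centralizerHom (Subgroup.zpowers z) P =
        F'.centralizerHom (Subgroup.zpowers z) P := fun P =>
      hC (Cfsg.Agent.S5097.centSys F _ hZS) (Cfsg.Agent.S5097.centSys F' _ hZS)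
        (fun _ => rfl) (fun _ => rfl) P
    have hRS : R ≤ S := by
      rcases hR with rfl | hess
      · exact le_rfl
      · exact hess.1.1
    have hzR : z ∈ R := by
      rcases hR with rfl | hess
      · exact hzS
      · apply hess.1.2 R (Fusion.isConj_refl F hRS)
        refine ⟨hzS, Subgroup.mem_centralizer_iff.mpr ?_⟩
        intro y hy
        exact hzc y (hRS hy)
    intro α hα
    exact Fusion.aut_mem_of_centralizer p hS F F' hF' hle hzS hzc hHom hCent hRS hzR α hα
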