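import Mathlib
import Cfsg.Prelude.Def_FusionSystem
import Cfsg.Agent.Lead.FusionAbelian
import Cfsg.Agent.Lead.DistinctInvariants

set_option autoImplicit false

namespace Cfsg.Agent.Lead

open Cfsg Cfsg.FusionSystem

theorem Fusion.hom_eq_inner_of_distinct_invariants {Ω : Type*} [Group Ω] {S : Subgroup Ω} [Finite S]
    (n : ℕ) (a : Fin n → ℕ) (ha : StrictMono a) (ha1 : ∀ i, 1 ≤ a i)
    (e : ↥S ≃* Multiplicative ((i : Fin n) → ZMod (2 ^ a i))) (F : Cfsg.FusionSystem S)
    (hF : F.IsSaturated 2) (P : Subgroup Ω) :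
    F.Hom P = (Cfsg.innerFusionSystem S).Hom P := by
  haveI : Fact (Nat.Prime 2) := ⟨Nat.prime_two⟩
  have habS : ∀ x y : S, x * y = y * x := by
    intro x y
    apply e.injective
    rw [map_mul, map_mul, mul_comm]
  have hab : ∀ x ∈ S, ∀ y ∈ S, x * y = y * x := by
    intro x hx y hy
    exact congrArg Subtype.val (habS ⟨x, hx⟩ ⟨y, hy⟩)
  letI : CommGroup S :=
    { (inferInstance : Group S) with mul_comm := habS }
  have hS : IsPGroup 2 S := by
    intro x
    refine ⟨∑ i, a i, ?_⟩
    apply e.injective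
    rw [map_pow, map_one]
    apply Multiplicative.toAdd.injective
    rw [toAdd_pow, toAdd_one]
    funext i
    show 2 ^ (∑ i, a i) • (Multiplicative.toAdd (e x)) i = 0
    rw [nsmul_eq_mul]
    have : ((2 ^ (∑ i, a i) : ℕ) : ZMod (2 ^ a i)) = 0 := by
      rw [ZMod.natCast_eq_zero_iff]
      exact pow_dvd_pow 2
        (Finset.single_le_sum (f := a) (fun _ _ => Nat.zero_le _) (Finset.mem_univ i))
    rw [this, zero_mul]
  have hcop := Fusion.card_autGroup_top_coprime_of_abelian 2 F hF hab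
  have hodd : Odd (Nat.card (F.autGroup S)) := by
    rwa [Nat.coprime_two_right] at hcop
  have htriv : ∀ α ∈ F.autGroup S, α = 1 := by
    intro α hα
    apply DI.aut_eq_one_of_odd a ha.injective ha1 e α _ hodd
    have : (⟨α, hα⟩ : F.autGroup S) ^ Nat.card (F.autGroup S) = 1 := pow_card_eq_one'
    exact congrArg Subtype.val this
  ext φ
  constructor
  · intro hφ
    refine ⟨Fusion.src_le F hφ, 1, S.one_mem, fun x => ?_⟩
    obtain ⟨α, hα, hαφ⟩ := Fusion.exists_aut_extension_of_abelian 2 hS F hF hab hφ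
    rw [← hαφ x, htriv α hα]
    simp
  · rintro ⟨hP, g, hg, hgx⟩
    have := F.conj_mem (P := P) (g := g) hP hg
    convert this using 1
    ext x
    exact hgx x

end Cfsg.Agent.Lead
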