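import Mathlib
import Cfsg.Prelude.Def_FusionSystem
import Cfsg.Agent.Lead.OmegaAut
import Cfsg.Agent.Lead.FusionNilp
import Cfsg.Agent.Lead.FusionRestrict
import Cfsg.Agent.Lead.FusionFocal
import Cfsg.Agent.Lead.FusionNormalCrit
import Cfsg.Agent.Helper4.PCore

set_option autoImplicit false

namespace Cfsg.Agent.Lead

open Cfsg Cfsg.FusionSystem
open scoped commutatorElement

universe u

/-- A `p`-element normalizing the cyclic group generated by an element `a` of order dividing `p`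
(or dividing `4` when `p = 2`) centralizes `a` or (when `p = 2`) inverts it. -/
theorem conj_eq_or_inv_of_mem_zpowers {G : Type*} [Group G] {p : ℕ} [Fact p.Prime] (s a : G)
    (hs : ∃ j : ℕ, s ^ p ^ j = 1) (ha : a ^ p = 1 ∨ (p = 2 ∧ a ^ 4 = 1))
    (h : s * a * s⁻¹ ∈ Subgroup.zpowers a) :
    s * a * s⁻¹ = a ∨ (p = 2 ∧ s * a * s⁻¹ = a⁻¹) := by
  have hp : p.Prime := Fact.out
  have hfin : IsOfFinOrder a := by
    rcases ha with h1 | ⟨-, h2⟩
    · exact isOfFinOrder_iff_pow_eq_one.mpr ⟨p, hp.pos, h1⟩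
    · exact isOfFinOrder_iff_pow_eq_one.mpr ⟨4, by norm_num, h2⟩
  rw [← hfin.mem_powers_iff_mem_zpowers] at h
  obtain ⟨n, hn⟩ := h
  have hn' : a ^ n = s * a * s⁻¹ := hn
  by_cases ha1 : a = 1
  · left
    rw [ha1]; group
  rcases ha with h1 | ⟨h1, h2⟩
  · left
    have hord : orderOf a = p := orderOf_eq_prime h1 ha1
    have hiter : ∀ i : ℕ, s ^ i * a * (s ^ i)⁻¹ = a ^ (n ^ i) := by
      intro i
      induction i with
      | zero => simp
      | succ i ih =>
        have e : s ^ (i + 1) * a * (s ^ (i + 1))⁻¹ = s * (s ^ i * a * (s ^ i)⁻¹) * s⁻¹ := by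
          rw [pow_succ']; group
        rw [e, ih]
        have e2 : s * a ^ (n ^ i) * s⁻¹ = (s * a * s⁻¹) ^ (n ^ i) := by
          rw [conj_pow]
        rw [e2, ← hn', ← pow_mul, pow_succ']
    obtain ⟨j, hj⟩ := hs
    have h3 := hiter (p ^ j)
    rw [hj] at h3
    have h4 : a ^ (n ^ (p ^ j)) = a ^ 1 := by
      rw [← h3]; simp
    rw [pow_eq_pow_iff_modEq, hord] at h4
    have h5 : (n ^ (p ^ j)) ≡ n [MOD p] := by
      rw [← ZMod.natCast_eq_natCast_iff]
      push_cast
      exact ZMod.pow_card_pow _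
    have h6 : n ≡ 1 [MOD p] := h5.symm.trans h4
    have h7 : a ^ n = a ^ 1 := by
      rw [pow_eq_pow_iff_modEq, hord]; exact h6
    rw [← hn', h7, pow_one]
  · -- `p = 2`, `a ^ 4 = 1`
    have hmod : a ^ n = a ^ (n % 4) := by
      conv_lhs => rw [← Nat.div_add_mod n 4, pow_add, pow_mul, h2, one_pow, one_mul]
    have hlt : n % 4 < 4 := Nat.mod_lt _ (by norm_num)
    rw [hmod] at hn'
    have hconj1 : ∀ b : G, s * b * s⁻¹ = 1 → b = 1 := by
      intro b h
      have : b = s⁻¹ * (s * b * s⁻¹) * s := by group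
      rw [this, h]; group
    interval_cases hk : n % 4
    · exfalso
      apply ha1
      apply hconj1 a
      rw [← hn', pow_zero]
    · left
      rw [← hn', pow_one]
    · exfalso
      apply ha1
      have h3 : (s * a * s⁻¹) ^ 2 = 1 := by
        rw [← hn', ← pow_mul]; exact h2
      rw [conj_pow] at h3
      have h4 : a ^ 2 = 1 := hconj1 _ h3
      apply hconj1 a
      rw [← hn', h4]
    · right
      refine ⟨h1, ?_⟩
      rw [← hn']
      have : a ^ 3 * a = 1 := by rw [← pow_succ]; exact h2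
      exact eq_inv_of_mul_eq_one_left this

variable {Ω : Type u} [Group Ω] {S : Subgroup Ω}

/-- The automorphisms of `P` acting on each element of `X` as the identity or (when `p = 2`)
inversion. -/
def omegaStab (p : ℕ) {P : Type*} [Group P] (X : Set P) : Subgroup (MulAut P) where
  carrier := {α | ∀ a ∈ X, α a = a ∨ (p = 2 ∧ α a = a⁻¹)}
  one_mem' := fun a _ => Or.inl rfl
  mul_mem' := by
    intro α β hα hβ a ha
    show α (β a) = a ∨ (p = 2 ∧ α (β a) = a⁻¹)
    rcases hβ a ha with h1 | ⟨h1, h2⟩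
    · rw [h1]; exact hα a ha
    · rw [h2, map_inv]
      rcases hα a ha with h3 | ⟨h3, h4⟩
      · right; exact ⟨h1, by rw [h3]⟩
      · left; rw [h4, inv_inv]
  inv_mem' := by
    intro α hα a ha
    rcases hα a ha with h1 | ⟨h1, h2⟩
    · left
      have := congrArg (α⁻¹ : MulAut P) h1
      rw [MulAut.inv_apply_self] at this
      exact this.symm
    · right
      refine ⟨h1, ?_⟩
      have := congrArg (α⁻¹ : MulAut P) h2
      rw [MulAut.inv_apply_self, map_inv] at this
      exact (inv_eq_iff_eq_inv.mpr this).symm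

theorem mem_omegaStab (p : ℕ) {P : Type*} [Group P] (X : Set P) (α : MulAut P) :
    α ∈ omegaStab p X ↔ ∀ a ∈ X, α a = a ∨ (p = 2 ∧ α a = a⁻¹) := Iff.rfl

/-- A `p'`-element of `omegaStab` fixes `X` pointwise. -/
theorem fix_of_mem_omegaStab_of_coprime {p : ℕ} [Fact p.Prime] {P : Type*} [Group P] (X : Set P)
    (γ : MulAut P) (hγ : γ ∈ omegaStab p X) (hcop : (orderOf γ).Coprime p) :
    ∀ a ∈ X, γ a = a := by
  intro a ha
  rcases hγ a ha with h1 | ⟨h1, h2⟩
  · exact h1
  · subst h1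
    have hsq : (γ ^ 2) a = a := by
      rw [pow_two, MulAut.mul_apply, h2, map_inv, h2, inv_inv]
    have hpow : ∀ k : ℕ, ((γ ^ 2) ^ k) a = a := by
      intro k
      induction k with
      | zero => simp
      | succ k ih => rw [pow_succ, MulAut.mul_apply, hsq, ih]
    have hodd : Odd (orderOf γ) := by
      exact Nat.coprime_two_right.mp hcop
    obtain ⟨m, hm⟩ := hodd
    have e : γ = (γ ^ 2) ^ (m + 1) := by
      rw [← pow_mul]
      have : 2 * (m + 1) = orderOf γ + 1 := by omega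
      rw [this, pow_succ, pow_orderOf_eq_one, one_mul]
    rw [e]
    exact hpow (m + 1)

/-- Under the hypothesis of `S5300` there are no proper essential subgroups. -/
theorem Fusion.eq_top_of_isEssential_of_focal_cyclic_normal [Finite S] (p : ℕ) [Fact p.Prime]
    (hS : IsPGroup p S) (F : FusionSystem S)
    (hnorm : ∀ x ∈ F.focalSubgroup, (x ^ p = 1 ∨ (p = 2 ∧ x ^ 4 = 1)) → ∀ s ∈ S,
      s * x * s⁻¹ ∈ Subgroup.zpowers x)
    (P : Subgroup Ω) (hess : F.IsEssential p P) : P = S := by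
  by_contra hne
  have hc : F.IsCentric P := hess.1
  have hPS : P ≤ S := hc.1
  have hrad := Fusion.isRadical_of_isEssential p hS F hess
  have hfinP : Finite P := Fusion.finite_of_le hPS
  have hfinA : Finite (MulAut P) := inferInstance
  have hPp : IsPGroup p P := hS.to_le hPS
  obtain ⟨g, hgN, hgP⟩ := Fusion.exists_mem_normalizerIn_not_mem hS hPS hne
  have hgS : g ∈ S := (Subgroup.mem_inf.mp hgN).1
  have hgN' : g ∈ Subgroup.normalizer (P : Set Ω) := (Subgroup.mem_inf.mp hgN).2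
  have huU : conjAutHom P ⟨g, hgN'⟩ ∈ autInducedBy S P :=
    Fusion.conjAutHom_mem_autInducedBy P _ hgS
  have hUA : autInducedBy S P ≤ F.autGroup P := Fusion.autInducedBy_le_autGroup F hPS
  -- the `Ω`-elements of the focal subgroup inside `P`
  set X : Set P := {a | (a : Ω) ∈ F.focalSubgroup ∧
    ((a : Ω) ^ p = 1 ∨ (p = 2 ∧ (a : Ω) ^ 4 = 1))} with hX
  have hfoc : ∀ β : MulAut P, β ∈ F.autGroup P → ∀ x : P,
      (x : Ω)⁻¹ * ((β x : P) : Ω) ∈ F.focalSubgroup := by
    intro β hβ x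
    have hβF := (Fusion.mem_autGroup_iff F hPS β).mp hβ
    exact Subgroup.subset_closure ⟨P, _, x, hβF, rfl⟩
  have hXinv : ∀ β : MulAut P, β ∈ F.autGroup P → ∀ a ∈ X, β a ∈ X := by
    intro β hβ a ha
    constructor
    · have e : ((β a : P) : Ω) = (a : Ω) * ((a : Ω)⁻¹ * ((β a : P) : Ω)) := by group
      rw [e]
      exact Subgroup.mul_mem _ ha.1 (hfoc β hβ a)
    · have hpow : ∀ k : ℕ, (a : Ω) ^ k = 1 → ((β a : P) : Ω) ^ k = 1 := by
        intro k hk
        have h1 : a ^ k = 1 := Subtype.ext (by simpa using hk)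
        have h2 : (β a) ^ k = 1 := by rw [← map_pow, h1, map_one]
        have := congrArg (fun z : P => (z : Ω)) h2
        simpa using this
      rcases ha.2 with h1 | ⟨h1, h2⟩
      · exact Or.inl (hpow p h1)
      · exact Or.inr ⟨h1, hpow 4 h2⟩
  -- the normal `p`-subgroup
  set D : Subgroup (F.autGroup P) := (omegaStab p X).subgroupOf (F.autGroup P) with hD
  have hDn : D.Normal := by
    constructor
    intro α hα β
    rw [hD, Subgroup.mem_subgroupOf] at hα ⊢
    intro a ha
    have hb : (β : MulAut P)⁻¹ a ∈ X := hXinv _ (Subgroup.inv_mem _ β.2) a ha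
    have e : ((β * α * β⁻¹ : F.autGroup P) : MulAut P) a =
        (β : MulAut P) ((α : MulAut P) ((β : MulAut P)⁻¹ a)) := rfl
    rw [e]
    have hβinv : (β : MulAut P) ((β : MulAut P)⁻¹ a) = a := MulAut.apply_inv_self _ _ _
    rcases hα _ hb with h1 | ⟨h1, h2⟩
    · left; rw [h1, hβinv]
    · right
      refine ⟨h1, ?_⟩
      rw [h2, map_inv, hβinv]
  have hDp : IsPGroup p D := by
    apply isPGroup_of_coprime_eq_one
    intro γ' hγ'
    have hγ'D : (γ' : F.autGroup P).1 ∈ omegaStab p X := Subgroup.mem_subgroupOf.mp γ'.2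
    set γ : MulAut P := (γ' : F.autGroup P).1 with hγdef
    have hγH : γ ∈ F.autGroup P := (γ' : F.autGroup P).2
    have hcop : (orderOf γ).Coprime p := by
      rw [hγdef, Subgroup.orderOf_coe, Subgroup.orderOf_coe]
      exact hγ'
    have hfix := fix_of_mem_omegaStab_of_coprime X γ hγ'D hcop
    -- restrict to `P ⊓ foc(F)`
    set P₁ : Subgroup Ω := P ⊓ F.focalSubgroup with hP₁
    have hP₁P : P₁ ≤ P := inf_le_left
    have hfinP₁ : Finite P₁ := Fusion.finite_of_le (hP₁P.trans hPS)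
    have hinv : ∀ x : P, (x : Ω) ∈ P₁ → ((γ x : P) : Ω) ∈ P₁ := by
      intro x hx
      refine Subgroup.mem_inf.mpr ⟨(γ x).2, ?_⟩
      have e : ((γ x : P) : Ω) = (x : Ω) * ((x : Ω)⁻¹ * ((γ x : P) : Ω)) := by group
      rw [e]
      exact Subgroup.mul_mem _ (Subgroup.mem_inf.mp hx).2 (hfoc γ hγH x)
    obtain ⟨γ₁, hγ₁, hγ₁γ⟩ := Fusion.exists_restrict_aut F hPS hP₁P γ hγH hinv
    have hγ₁ord : orderOf γ₁ ∣ orderOf γ := by
      apply orderOf_dvd_of_pow_eq_one
      ext y
      have := Fusion.restrict_aut_pow hP₁P γ γ₁ hγ₁γ (orderOf γ) y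
      rw [pow_orderOf_eq_one] at this
      exact this
    have hγ₁1 : γ₁ = 1 := by
      apply aut_eq_one_of_fix_omega (hS.to_le (hP₁P.trans hPS)) γ₁
        (Nat.Coprime.coprime_dvd_left hγ₁ord hcop)
      intro y hy
      apply Subtype.ext
      rw [hγ₁γ y]
      have hyX : (⟨(y : Ω), hP₁P y.2⟩ : P) ∈ X := by
        refine ⟨(Subgroup.mem_inf.mp y.2).2, ?_⟩
        rcases hy with h1 | ⟨h1, h2⟩
        · left
          have := congrArg (fun z : P₁ => (z : Ω)) h1
          simpa using this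
        · right
          refine ⟨h1, ?_⟩
          have := congrArg (fun z : P₁ => (z : Ω)) h2
          simpa using this
      rw [hfix _ hyX]
    have hγ1 : γ = 1 := by
      ext x
      have hz : ((x⁻¹ * γ x : P) : Ω) ∈ P₁ := by
        refine Subgroup.mem_inf.mpr ⟨(x⁻¹ * γ x).2, ?_⟩
        have := hfoc γ hγH x
        simpa using this
      have h1 : γ (x⁻¹ * γ x) = x⁻¹ * γ x := by
        apply Subtype.ext
        have := hγ₁γ ⟨_, hz⟩
        rw [hγ₁1] at this
        exact this.symm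
      have h2 : γ x = x * (x⁻¹ * γ x) := by group
      have h3 := eq_one_of_coprime_aut p hPp γ hcop x _ h2 h1
      rw [h2, h3, mul_one]
      rfl
    apply Subtype.ext
    apply Subtype.ext
    exact hγ1
  have hUD : ∀ α : MulAut P, α ∈ autInducedBy S P → α ∈ omegaStab p X := by
    intro α hα a ha
    obtain ⟨s, hs, hsx⟩ := (mem_autInducedBy_iff S P α).mp hα
    have h1 := hnorm a.1 ha.1 ha.2 s hs
    have hsp : ∃ j : ℕ, s ^ p ^ j = 1 := by
      obtain ⟨j, hj⟩ := hS ⟨s, hs⟩
      refine ⟨j, ?_⟩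
      have := congrArg (fun z : S => (z : Ω)) hj
      simpa using this
    rcases conj_eq_or_inv_of_mem_zpowers s (a : Ω) hsp ha.2 h1 with h2 | ⟨h2, h3⟩
    · left
      apply Subtype.ext
      rw [hsx a, h2]
    · right
      refine ⟨h2, ?_⟩
      apply Subtype.ext
      rw [hsx a, h3]
      rfl
  have hle := Cfsg.Agent.Helper4.le_pCore D hDn hDp
  have humem : (⟨conjAutHom P ⟨g, hgN'⟩, hUA huU⟩ : F.autGroup P) ∈ D := by
    rw [hD, Subgroup.mem_subgroupOf]
    exact hUD _ huU
  have h1 : conjAutHom P ⟨g, hgN'⟩ ∈ (pCore p (F.autGroup P)).map (F.autGroup P).subtype :=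
    ⟨_, hle humem, rfl⟩
  rw [hrad.2] at h1
  exact hgP (Fusion.mem_of_conjAutHom_mem_inn F hc g hgS hgN' h1)

/-- `S5300`. -/
theorem Fusion.isNormal_top_of_focal_cyclic_normal [Finite S] (p : ℕ) [Fact p.Prime]
    (hS : IsPGroup p S) (F : FusionSystem S) (hF : F.IsSaturated p)
    (hnorm : ∀ x ∈ F.focalSubgroup, (x ^ p = 1 ∨ (p = 2 ∧ x ^ 4 = 1)) → ∀ s ∈ S,
      s * x * s⁻¹ ∈ Subgroup.zpowers x) :
    F.IsNormal S := by
  apply Fusion.isNormal_of_forall_essential p hS F hF S
  intro P hP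
  have hPS : P = S := by
    rcases hP with h | h
    · exact h
    · exact Fusion.eq_top_of_isEssential_of_focal_cyclic_normal p hS F hnorm P h
  subst hPS
  refine ⟨le_rfl, fun α _ => ?_⟩
  rw [Subgroup.subgroupOf_self]
  exact Subgroup.map_top_of_surjective _ α.surjective

end Cfsg.Agent.Lead
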