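import Mathlib
import Cfsg.Prelude.Def_FusionSystem
import Cfsg.Agent.Lead.Fusion
import Cfsg.Agent.Lead.FusionAut
import Cfsg.Agent.Lead.FusionConj
import Cfsg.Agent.Lead.FusionInner

set_option autoImplicit false

namespace Cfsg.Agent.Lead

open Cfsg Cfsg.FusionSystem

variable {Ω : Type*} [Group Ω] {S : Subgroup Ω}

/-- The maps of `F` whose restrictions to the `F`-conjugates of `R` lie in `E`. -/
def Fusion.filterSys (F E : FusionSystem S) (R : Subgroup Ω) : FusionSystem S where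
  Hom P := {φ | φ ∈ F.Hom P ∧ ∀ (P₀ : Subgroup Ω) (h : P₀ ≤ P), F.IsConj R P₀ →
    φ.comp (Subgroup.inclusion h) ∈ E.Hom P₀}
  le_of_mem := fun h => F.le_of_mem h.1
  injective_of_mem := fun h => F.injective_of_mem h.1
  conj_mem := by
    intro P g hP hg
    refine ⟨F.conj_mem hP hg, fun P₀ h _ => ?_⟩
    have := E.conj_mem (P := P₀) (g := g) (h.trans hP) hg
    convert this using 1
    ext x
    rfl
  comp_mem := by
    rintro P Q φ ψ ⟨hφ, hφ'⟩ ⟨hψ, hψ'⟩ h
    refine ⟨F.comp_mem hφ hψ h, fun P₀ hP₀ hc => ?_⟩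
    have h1 := hφ' P₀ hP₀ hc
    have hF1 := Fusion.restrict_mem F hφ hP₀
    have hQ₀ : (φ.comp (Subgroup.inclusion hP₀)).range ≤ Q := by
      rintro _ ⟨x, rfl⟩
      exact h _
    have hc' : F.IsConj R (φ.comp (Subgroup.inclusion hP₀)).range :=
      Fusion.isConj_trans F hc ⟨_, hF1, rfl⟩
    have h2 := hψ' _ hQ₀ hc'
    have h3 := E.comp_mem h1 h2 (fun x => ⟨x, rfl⟩)
    convert h3 using 1
    ext x
    rfl
  inv_mem := by
    rintro P φ ⟨hφ, hφ'⟩
    obtain ⟨ψ, hψ, hinv⟩ := F.inv_mem hφ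
    refine ⟨ψ, ⟨hψ, fun Q₀ hQ₀ hc => ?_⟩, hinv⟩
    -- the subgroup `P₀ = ψ(Q₀)` of `P`
    have hψ0 := Fusion.restrict_mem F hψ hQ₀
    obtain ⟨P₀, hP₀def⟩ : ∃ P₀ : Subgroup Ω, P₀ = (ψ.comp (Subgroup.inclusion hQ₀)).range :=
      ⟨_, rfl⟩
    have hP₀P : P₀ ≤ P := by
      rw [hP₀def]
      rintro _ ⟨y, rfl⟩
      obtain ⟨x, hx⟩ := hQ₀ y.2
      have : ψ (Subgroup.inclusion hQ₀ y) = (x : Ω) := by
        rw [← hinv x]
        congr 1
        exact Subtype.ext hx.symm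
      show ψ (Subgroup.inclusion hQ₀ y) ∈ P
      rw [this]
      exact x.2
    have hcP₀ : F.IsConj R P₀ := Fusion.isConj_trans F hc ⟨_, hψ0, hP₀def.symm⟩
    have hφ0 := hφ' P₀ hP₀P hcP₀
    have hr : (φ.comp (Subgroup.inclusion hP₀P)).range = Q₀ := by
      ext y
      constructor
      · rintro ⟨x, rfl⟩
        have hx : (x : Ω) ∈ (ψ.comp (Subgroup.inclusion hQ₀)).range := hP₀def ▸ x.2
        obtain ⟨q, hq⟩ := hx
        obtain ⟨x', hx'⟩ := hQ₀ q.2
        have h1 : ψ (Subgroup.inclusion hQ₀ q) = (x' : Ω) := by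
          rw [← hinv x']
          congr 1
          exact Subtype.ext hx'.symm
        have h2 : (x' : Ω) = (x : Ω) := by
          rw [← h1]
          exact hq
        have h3 : Subgroup.inclusion hP₀P x = x' := Subtype.ext h2.symm
        show φ (Subgroup.inclusion hP₀P x) ∈ Q₀
        rw [h3, hx']
        exact q.2
      · intro hy
        obtain ⟨x', hx'⟩ := hQ₀ hy
        have h1 : ψ (Subgroup.inclusion hQ₀ ⟨y, hy⟩) = (x' : Ω) := by
          rw [← hinv x']
          congr 1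
          exact Subtype.ext hx'.symm
        have hx'P₀ : (x' : Ω) ∈ P₀ := by
          rw [hP₀def, ← h1]
          exact ⟨⟨y, hy⟩, rfl⟩
        refine ⟨⟨x', hx'P₀⟩, ?_⟩
        rw [← hx']
        rfl
    obtain ⟨ψ₀, hψ₀, hinv₀, -⟩ := Fusion.exists_inv E hφ0 hr
    convert hψ₀ using 1
    ext q
    obtain ⟨x', hx'⟩ := hQ₀ q.2
    have h1 : ψ (Subgroup.inclusion hQ₀ q) = (x' : Ω) := by
      rw [← hinv x']
      congr 1
      exact Subtype.ext hx'.symm
    have hx'P₀ : (x' : Ω) ∈ P₀ := by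
      rw [hP₀def, ← h1]
      exact ⟨q, rfl⟩
    have h2 := hinv₀ ⟨x', hx'P₀⟩ (by
      show φ (Subgroup.inclusion hP₀P ⟨x', hx'P₀⟩) ∈ Q₀
      have : Subgroup.inclusion hP₀P ⟨x', hx'P₀⟩ = x' := Subtype.ext rfl
      rw [this, hx']
      exact q.2)
    show ψ (Subgroup.inclusion hQ₀ q) = ψ₀ q
    rw [h1]
    rw [← h2]
    congr 1
    apply Subtype.ext
    show φ (Subgroup.inclusion hP₀P ⟨x', hx'P₀⟩) = (q : Ω)
    have : Subgroup.inclusion hP₀P ⟨x', hx'P₀⟩ = x' := Subtype.ext rfl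
    rw [this, hx']

theorem Fusion.mem_filterSys (F E : FusionSystem S) (R P : Subgroup Ω) (φ : P →* Ω) :
    φ ∈ (Fusion.filterSys F E R).Hom P ↔ φ ∈ F.Hom P ∧ ∀ (P₀ : Subgroup Ω) (h : P₀ ≤ P),
      F.IsConj R P₀ → φ.comp (Subgroup.inclusion h) ∈ E.Hom P₀ := Iff.rfl

/-- Key step: if the maps of `F` on subgroups larger than `R` lie in `E`, and either the class of `R`
misses `𝒬` or `E` contains the automizers of the class of `R`, then the filtered system contains
`Aut_F(T)` for all `T ∈ 𝒬`. -/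
theorem Fusion.autGroup_le_filterSys [Finite S] (F E : FusionSystem S) (R : Subgroup Ω)
    (𝒬 : Set (Subgroup Ω)) (h𝒬 : ∀ T ∈ 𝒬, ∀ T' : Subgroup Ω, F.IsConj T T' → T' ∈ 𝒬)
    (hbig : ∀ (P : Subgroup Ω) (φ : P →* Ω), φ ∈ F.Hom P → Nat.card R < Nat.card P → φ ∈ E.Hom P)
    (hR : R ∈ 𝒬 → ∀ T, F.IsConj R T → F.autGroup T ≤ E.autGroup T) :
    ∀ T ∈ 𝒬, F.autGroup T ≤ (Fusion.filterSys F E R).autGroup T := by
  intro T hT
  unfold FusionSystem.autGroup
  apply Subgroup.closure_mono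
  intro α hα
  have hα' : T.subtype.comp α.toMonoidHom ∈ F.Hom T := hα
  have hTS : T ≤ S := Fusion.src_le F hα'
  haveI : Finite T := Finite.of_injective (Subgroup.inclusion hTS) (Subgroup.inclusion_injective hTS)
  show T.subtype.comp α.toMonoidHom ∈ (Fusion.filterSys F E R).Hom T
  rw [Fusion.mem_filterSys]
  refine ⟨hα', fun P₀ hP₀ hc => ?_⟩
  by_cases hlt : Nat.card R < Nat.card T
  · exact Fusion.restrict_mem E (hbig T _ hα' hlt) hP₀
  · have hcard : Nat.card P₀ = Nat.card R := (Fusion.card_eq_of_isConj F hc).symm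
    have hPT : P₀ = T := by
      apply Subgroup.eq_of_le_of_card_ge hP₀
      omega
    subst hPT
    have hRQ : R ∈ 𝒬 := h𝒬 P₀ hT R (Fusion.isConj_symm F hc)
    have h1 := hR hRQ P₀ hc
    have h2 : α ∈ F.autGroup P₀ := Subgroup.subset_closure hα'
    have h3 := (Fusion.mem_autGroup_iff E hTS α).mp (h1 h2)
    convert h3 using 1
    ext x
    rfl

/-- The intersection of two generating families closed under `F`-conjugacy is generating. -/
theorem Fusion.generating_inter [Finite S] (F : FusionSystem S) (𝒬₁ 𝒬₂ : Set (Subgroup Ω))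
    (h₁ : ∀ R ∈ 𝒬₁, ∀ R' : Subgroup Ω, F.IsConj R R' → R' ∈ 𝒬₁)
    (h₂ : ∀ R ∈ 𝒬₂, ∀ R' : Subgroup Ω, F.IsConj R R' → R' ∈ 𝒬₂)
    (hg₁ : ∀ E : FusionSystem S, (∀ R ∈ 𝒬₁, F.autGroup R ≤ E.autGroup R) → F ≤ E)
    (hg₂ : ∀ E : FusionSystem S, (∀ R ∈ 𝒬₂, F.autGroup R ≤ E.autGroup R) → F ≤ E)
    (E : FusionSystem S) (hE : ∀ R ∈ 𝒬₁ ∩ 𝒬₂, F.autGroup R ≤ E.autGroup R) : F ≤ E := by
  have key : ∀ j : ℕ, ∀ (P : Subgroup Ω) (φ : P →* Ω), φ ∈ F.Hom P →
      Nat.card S + 1 ≤ Nat.card P + j → φ ∈ E.Hom P := by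
    intro j
    induction j with
    | zero =>
      intro P φ hφ hc
      exfalso
      have hPS := Fusion.src_le F hφ
      have := Subgroup.card_le_of_le hPS
      omega
    | succ j ih =>
      intro P φ hφ hc
      by_cases hc' : Nat.card S + 1 ≤ Nat.card P + j
      · exact ih P φ hφ hc'
      · have hbig : ∀ (P' : Subgroup Ω) (φ' : P' →* Ω), φ' ∈ F.Hom P' →
            Nat.card P < Nat.card P' → φ' ∈ E.Hom P' := by
          intro P' φ' hφ' hlt
          exact ih P' φ' hφ' (by omega)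
        have hPS := Fusion.src_le F hφ
        have hsub : F ≤ Fusion.filterSys F E P := by
          by_cases hP1 : P ∈ 𝒬₁
          · by_cases hP2 : P ∈ 𝒬₂
            · apply hg₁
              apply Fusion.autGroup_le_filterSys F E P 𝒬₁ h₁ hbig
              intro _ T hT
              exact hE T ⟨h₁ P hP1 T hT, h₂ P hP2 T hT⟩
            · apply hg₂
              apply Fusion.autGroup_le_filterSys F E P 𝒬₂ h₂ hbig
              intro h
              exact absurd h hP2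
          · apply hg₁
            apply Fusion.autGroup_le_filterSys F E P 𝒬₁ h₁ hbig
            intro h
            exact absurd h hP1
        have h1 := hsub P hφ
        rw [Fusion.mem_filterSys] at h1
        have h2 := h1.2 P le_rfl (Fusion.isConj_refl F hPS)
        convert h2 using 1
        ext x
        rfl
  intro P φ hφ
  exact key (Nat.card S + 1) P φ hφ (by omega)

end Cfsg.Agent.Lead
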