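import Mathlib
import Cfsg.Prelude.Def_FusionSystem
import Cfsg.Agent.Lead.FusionNormModel

set_option autoImplicit false

namespace Cfsg.Agent.Lead

open Cfsg Cfsg.FusionSystem

variable {Ω : Type*} [Group Ω] {S : Subgroup Ω}

/-- In a model, `O_p(G)` lies in the image of any normal, centric, radical subgroup. -/
theorem Fusion.pCore_le_map_of_radical_centric [Finite S] (p : ℕ) [Fact p.Prime]
    (hS : IsPGroup p S) (F : FusionSystem S) {G : Type*} [Group G] (ι : S →* G)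
    (hG : F.IsModel p G ι) {R : Subgroup Ω} (hRn : F.IsNormal R) (hRc : F.IsCentric R)
    (hRr : F.IsRadical p R) : pCore p G ≤ (R.subgroupOf S).map ι := by
  obtain ⟨hfin, hι, ⟨T, hT⟩, hcent⟩ := hG
  obtain ⟨hinj, hreal⟩ := hι
  have hOn : (pCore p G).Normal := Cfsg.Agent.Helper4.pCore_normal
  have hOT : pCore p G ≤ ι.range := hT ▸ Cfsg.Agent.Helper4.pCore_le_sylow T
  have hRS : R ≤ S := hRn.1
  have hSR : S ≤ Subgroup.normalizer (R : Set Ω) :=
    Fusion.le_normalizer_of_stronglyClosed F (Fusion.stronglyClosed_of_isNormal F hRn)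
  have : Finite R := Fusion.finite_of_le hRS
  set U₀ : Subgroup Ω := ((pCore p G).comap ι).map S.subtype with hU₀
  have hU₀S : U₀ ≤ S := by rintro _ ⟨s, -, rfl⟩; exact s.2
  have hmemU₀ : ∀ (x : Ω) (hx : x ∈ S), x ∈ U₀ ↔ ι ⟨x, hx⟩ ∈ pCore p G := by
    intro x hx
    constructor
    · rintro ⟨s, hs, hsx⟩
      have : s = ⟨x, hx⟩ := Subtype.ext hsx
      rw [← this]; exact hs
    · intro h; exact ⟨⟨x, hx⟩, h, rfl⟩
  have hVS : autInducedBy U₀ R ≤ autInducedBy S R := by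
    intro α hα
    rw [mem_autInducedBy_iff] at hα ⊢
    obtain ⟨g, hg, h⟩ := hα
    exact ⟨g, hU₀S hg, h⟩
  have hVA : autInducedBy U₀ R ≤ F.autGroup R := hVS.trans (Fusion.autInducedBy_le_autGroup F hRS)
  have hVp : IsPGroup p (autInducedBy U₀ R) := (Fusion.isPGroup_autInducedBy p hS R).to_le hVS
  have hVnormal : ((autInducedBy U₀ R).subgroupOf (F.autGroup R)).Normal := by
    constructor
    intro v hv α
    rw [Subgroup.mem_subgroupOf] at hv ⊢
    rw [mem_autInducedBy_iff] at hv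
    obtain ⟨n, hn, hvn⟩ := hv
    have hα := (Fusion.mem_autGroup_iff F hRS α.1).mp α.2
    have hαS : ∀ y : R, (R.subtype.comp α.1.toMonoidHom) y ∈ S := fun y => hRS (α.1 y).2
    obtain ⟨g, hg⟩ := (hreal R hRS _ hαS).mp hα
    have hg' : ∀ y : R, ι ⟨((α.1 y : R) : Ω), hRS (α.1 y).2⟩ = g * ι ⟨y, hRS y.2⟩ * g⁻¹ := hg
    have hnS : n ∈ S := hU₀S hn
    have hnO : ι ⟨n, hnS⟩ ∈ pCore p G := (hmemU₀ n hnS).mp hn
    obtain ⟨n', hn'⟩ := hOT (hOn.conj_mem _ hnO g)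
    have hn'U₀ : (n' : Ω) ∈ U₀ := by
      rw [hmemU₀ n'.1 n'.2]
      show ι n' ∈ pCore p G
      rw [hn']
      exact hOn.conj_mem _ hnO g
    show α.1 * v.1 * α.1⁻¹ ∈ autInducedBy U₀ R
    rw [mem_autInducedBy_iff]
    refine ⟨n', hn'U₀, fun y => ?_⟩
    have hinv : ι ⟨((α.1⁻¹ y : R) : Ω), hRS (α.1⁻¹ y).2⟩ = g⁻¹ * ι ⟨y, hRS y.2⟩ * g := by
      have := hg' (α.1⁻¹ y)
      rw [MulAut.apply_inv_self] at this
      rw [this]
      group
    have h1 : (⟨(((α.1 * v.1 * α.1⁻¹) y : R) : Ω), hRS ((α.1 * v.1 * α.1⁻¹) y).2⟩ : S) =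
        n' * ⟨y, hRS y.2⟩ * n'⁻¹ := by
      apply hinj
      rw [MulAut.mul_apply, MulAut.mul_apply, hg']
      have h2 : (⟨((v.1 (α.1⁻¹ y) : R) : Ω), hRS (v.1 (α.1⁻¹ y)).2⟩ : S) =
          ⟨n, hnS⟩ * ⟨((α.1⁻¹ y : R) : Ω), hRS (α.1⁻¹ y).2⟩ * ⟨n, hnS⟩⁻¹ :=
        Subtype.ext (hvn _)
      rw [h2, map_mul, map_mul, map_inv, hinv, map_mul, map_mul, map_inv, hn']
      group
    exact congrArg Subtype.val h1
  have hVle : autInducedBy U₀ R ≤ Inn R := by
    intro v hv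
    have h1 : (⟨v, hVA hv⟩ : F.autGroup R) ∈ pCore p (F.autGroup R) := by
      apply Cfsg.Agent.Helper4.le_pCore _ hVnormal hVp.comap_subtype
      rw [Subgroup.mem_subgroupOf]
      exact hv
    rw [← hRr.2]
    exact ⟨⟨v, hVA hv⟩, h1, rfl⟩
  intro u hu
  obtain ⟨n, rfl⟩ := hOT hu
  have hnU₀ : (n : Ω) ∈ U₀ := (hmemU₀ n.1 n.2).mpr hu
  have hnR : (n : Ω) ∈ Subgroup.normalizer (R : Set Ω) := hSR n.2
  have hc : conjAutHom R ⟨n.1, hnR⟩ ∈ autInducedBy U₀ R :=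
    Fusion.conjAutHom_mem_autInducedBy (S := U₀) R ⟨n.1, hnR⟩ hnU₀
  obtain ⟨r, hr⟩ := hVle hc
  have hcomm : (r : Ω)⁻¹ * n ∈ centralizerIn S R := by
    refine Subgroup.mem_inf.mpr ⟨S.mul_mem (S.inv_mem (hRS r.2)) n.2, ?_⟩
    rw [Subgroup.mem_centralizer_iff]
    intro y hy
    have h1 := congrArg (fun β : MulAut R => ((β ⟨y, hy⟩ : R) : Ω)) hr
    have h2 : (r : Ω) * y * (r : Ω)⁻¹ = n * y * (n : Ω)⁻¹ := h1
    calc y * ((r : Ω)⁻¹ * n) = (r : Ω)⁻¹ * ((r : Ω) * y * (r : Ω)⁻¹) * n := by group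
      _ = (r : Ω)⁻¹ * (n * y * (n : Ω)⁻¹) * n := by rw [h2]
      _ = (r : Ω)⁻¹ * n * y := by group
  have hmem := hRc.2 R (Fusion.isConj_refl F hRS) hcomm
  have hnR' : (n : Ω) ∈ R := by
    have := R.mul_mem r.2 hmem
    rwa [mul_inv_cancel_left] at this
  refine ⟨n, ?_, rfl⟩
  rw [SetLike.mem_coe, Subgroup.mem_subgroupOf]
  exact hnR'

/-- S5126. -/
theorem Fusion.normalizerSystem_constrained_model [Finite S] (p : ℕ) [Fact p.Prime]
    (hS : IsPGroup p S) (F : FusionSystem S) (hF : F.IsSaturated p) (R : Subgroup Ω)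
    (hRn : F.IsFullyNormalized R) (hRc : F.IsCentric R) (hRr : F.IsRadical p R)
    (E : FusionSystem (normalizerIn S R)) (hE : F.IsNormalizerSystem R E) {G : Type*} [Group G]
    (ι : ↥(normalizerIn S R) →* G) :
    E.IsConstrained p ∧ (E.IsModel p G ι →
      (pCore p G : Subgroup G) = (R.subgroupOf (normalizerIn S R)).map ι) := by
  have hRS := hRn.1
  have hEsat := Fusion.normalizerSystem_isSaturated p hS F hF R hRn E hE
  have hEn := Fusion.normalizerSystem_isNormal F hRS E hE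
  have hEc := Fusion.normalizerSystem_isCentric F hRc E hE
  refine ⟨⟨hEsat, R, hEn, hEc⟩, fun hG => ?_⟩
  have hEr : E.IsRadical p R := by
    refine ⟨Fusion.le_normalizerIn hRS, ?_⟩
    rw [Fusion.normalizerSystem_autGroup F hRS E hE]
    exact hRr.2
  have : Finite ↥(normalizerIn S R) := Fusion.finite_of_le inf_le_left
  have hNp : IsPGroup p ↥(normalizerIn S R) := hS.to_le inf_le_left
  apply le_antisymm
  · exact Fusion.pCore_le_map_of_radical_centric p hNp E ι hG hEn hEc hEr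
  · have hnormal := Fusion.map_normal_of_isNormal_of_isModel p E ι hG hEn
    exact Cfsg.Agent.Helper4.le_pCore _ hnormal
      (((hNp.to_le (Fusion.le_normalizerIn hRS)).comap_subtype).map ι)

end Cfsg.Agent.Lead
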