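import Mathlib
import Cfsg.Prelude.Def_FusionSystem
import Cfsg.Agent.Lead.OmegaAut
import Cfsg.Agent.Lead.FusionNilp
import Cfsg.Agent.Lead.FusionRestrict
import Cfsg.Agent.Lead.FusionFocal
import Cfsg.Agent.Lead.Basic

set_option autoImplicit false

namespace Cfsg.Agent.Lead

open Cfsg Cfsg.FusionSystem
open Cfsg.Agent.Helper1
open scoped commutatorElement

universe u

variable {Ω : Type u} [Group Ω] {S : Subgroup Ω}

/-- Minimality package: if `p'`-automorphisms in `Aut_F(R)` are trivial for all `R` of smaller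
order, a `p'`-element `β ∈ Aut_F(Q)` fixes every proper `β`-invariant subgroup pointwise. -/
theorem Fusion.fix_of_minimal [Finite S] (p : ℕ) [Fact p.Prime]
    (F : FusionSystem S) {Q : Subgroup Ω} (hQS : Q ≤ S)
    (IH : ∀ R : Subgroup Ω, R ≤ S → Nat.card R < Nat.card Q → ∀ γ : MulAut R, γ ∈ F.autGroup R →
      (orderOf γ).Coprime p → γ = 1)
    (β : MulAut Q) (hβ : β ∈ F.autGroup Q) (hcop : (orderOf β).Coprime p)
    (R' : Subgroup Q) (hne : R' ≠ ⊤) (hinv : ∀ x ∈ R', β x ∈ R') :
    ∀ x ∈ R', β x = x := by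
  have hfinQ : Finite Q := Fusion.finite_of_le hQS
  intro x hx
  set R : Subgroup Ω := R'.map Q.subtype with hR
  have hRQ : R ≤ Q := Subgroup.map_subtype_le R'
  have hmemR : ∀ y : Q, (y : Ω) ∈ R ↔ y ∈ R' := by
    intro y
    rw [hR]
    exact Subgroup.mem_map_iff_mem Q.subtype_injective
  have hRne : R ≠ Q := by
    intro h
    apply hne
    rw [eq_top_iff]
    intro y _
    rw [← hmemR y, h]
    exact y.2
  have hfinR : Finite R := Fusion.finite_of_le (hRQ.trans hQS)
  have hinvR : ∀ y : Q, (y : Ω) ∈ R → ((β y : Q) : Ω) ∈ R := by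
    intro y hy
    rw [hmemR] at hy ⊢
    exact hinv y hy
  obtain ⟨γ, hγ, hγβ⟩ := Fusion.exists_restrict_aut F hQS hRQ β hβ hinvR
  have hlt : Nat.card R < Nat.card Q := card_lt_of_lt (lt_of_le_of_ne hRQ hRne)
  have hγord : orderOf γ ∣ orderOf β := by
    apply orderOf_dvd_of_pow_eq_one
    ext y
    have := Fusion.restrict_aut_pow hRQ β γ hγβ (orderOf β) y
    rw [pow_orderOf_eq_one] at this
    exact this
  have hγ1 : γ = 1 := IH R (hRQ.trans hQS) hlt γ hγ (Nat.Coprime.coprime_dvd_left hγord hcop)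
  apply Subtype.ext
  have := hγβ ⟨x, (hmemR x).mpr hx⟩
  rw [hγ1] at this
  exact this.symm

/-- Core descent: if `p'`-automorphisms of subgroups of the hyperfocal subgroup act on
`Ω`-elements like conjugations by elements of `S`, all automizers are `p`-groups. -/
theorem Fusion.coprime_aut_eq_one_of_omega_control [Finite S] (p : ℕ) [Fact p.Prime]
    (hS : IsPGroup p S) (F : FusionSystem S)
    (hctl : ∀ (Q : Subgroup Ω), Q ≤ S → Q ≤ F.hyperfocalSubgroup p → ∀ β : MulAut Q,
      β ∈ F.autGroup Q → (orderOf β).Coprime p →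
      ∀ a : Q, ((a : Ω) ^ p = 1 ∨ (p = 2 ∧ (a : Ω) ^ 4 = 1)) →
        ∃ s ∈ S, ((β a : Q) : Ω) = s * a * s⁻¹) :
    ∀ n : ℕ, ∀ Q : Subgroup Ω, Q ≤ S → Nat.card Q = n → ∀ β : MulAut Q, β ∈ F.autGroup Q →
      (orderOf β).Coprime p → β = 1 := by
  intro n
  induction n using Nat.strong_induction_on with
  | _ n IH =>
  intro Q hQS hcard β hβ hcop
  have hfinQ : Finite Q := Fusion.finite_of_le hQS
  have hQp : IsPGroup p Q := hS.to_le hQS
  have hmin := Fusion.fix_of_minimal p F hQS (fun R hRS hlt γ hγ hγc =>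
    IH (Nat.card R) (hcard ▸ hlt) R hRS rfl γ hγ hγc) β hβ hcop
  -- `K = [Q, β]`
  set Ks : Set Q := {z | ∃ x : Q, z = x⁻¹ * β x} with hKs
  have hKinv : ∀ x ∈ Subgroup.closure Ks, β x ∈ Subgroup.closure Ks := by
    intro x hx
    have hle : (Subgroup.closure Ks).map β.toMonoidHom ≤ Subgroup.closure Ks := by
      rw [MonoidHom.map_closure, Subgroup.closure_le]
      rintro _ ⟨z, ⟨x, rfl⟩, rfl⟩
      apply Subgroup.subset_closure
      refine ⟨β x, ?_⟩
      show β (x⁻¹ * β x) = (β x)⁻¹ * β (β x)
      rw [map_mul, map_inv]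
    exact hle ⟨x, hx, rfl⟩
  by_cases hK : Subgroup.closure Ks = ⊤
  swap
  · have hfix := hmin _ hK hKinv
    ext x
    have hz : x⁻¹ * β x ∈ Subgroup.closure Ks := Subgroup.subset_closure ⟨x, rfl⟩
    have h1 := hfix _ hz
    have h2 : β x = x * (x⁻¹ * β x) := by group
    have h3 := eq_one_of_coprime_aut p hQp β hcop x _ h2 h1
    rw [h2, h3, mul_one]
    rfl
  -- `W = Ω(Q)`
  set Ws : Set Q := {a | ((a : Ω) ^ p = 1 ∨ (p = 2 ∧ (a : Ω) ^ 4 = 1))} with hWs
  have hWs_inv : ∀ a ∈ Ws, β a ∈ Ws := by
    intro a ha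
    have hpow : ∀ k : ℕ, (a : Ω) ^ k = 1 → ((β a : Q) : Ω) ^ k = 1 := by
      intro k hk
      have h1 : a ^ k = 1 := Subtype.ext (by simpa using hk)
      have h2 : (β a) ^ k = 1 := by rw [← map_pow, h1, map_one]
      have := congrArg (fun z : Q => (z : Ω)) h2
      simpa using this
    rcases ha with h1 | ⟨h1, h2⟩
    · exact Or.inl (hpow p h1)
    · exact Or.inr ⟨h1, hpow 4 h2⟩
  have hWinv : ∀ x ∈ Subgroup.closure Ws, β x ∈ Subgroup.closure Ws := by
    intro x hx
    have hle : (Subgroup.closure Ws).map β.toMonoidHom ≤ Subgroup.closure Ws := by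
      rw [MonoidHom.map_closure, Subgroup.closure_le]
      rintro _ ⟨a, ha, rfl⟩
      exact Subgroup.subset_closure (hWs_inv a ha)
    exact hle ⟨x, hx, rfl⟩
  by_cases hW : Subgroup.closure Ws = ⊤
  swap
  · have hfix := hmin _ hW hWinv
    apply aut_eq_one_of_fix_omega hQp β hcop
    intro g hg
    apply hfix
    apply Subgroup.subset_closure
    rcases hg with h1 | ⟨h1, h2⟩
    · left
      have := congrArg (fun z : Q => (z : Ω)) h1
      simpa using this
    · right
      refine ⟨h1, ?_⟩
      have := congrArg (fun z : Q => (z : Ω)) h2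
      simpa using this
  -- `Q ≤ hyp(F)`
  have hβres : (⟨β, hβ⟩ : F.autGroup Q) ∈ pResidual p (F.autGroup Q) := by
    apply mem_pResidual_of_coprime'
    have : orderOf (⟨β, hβ⟩ : F.autGroup Q) = orderOf β := by
      rw [← Subgroup.orderOf_coe]
    rw [this]
    exact hcop
  have hQhyp : Q ≤ F.hyperfocalSubgroup p := by
    intro y hy
    have hmem : (⟨y, hy⟩ : Q) ∈ Subgroup.closure Ks := by rw [hK]; trivial
    have key : ∀ z ∈ Subgroup.closure Ks, (z : Ω) ∈ F.hyperfocalSubgroup p := by
      intro z hz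
      induction hz using Subgroup.closure_induction with
      | mem z hz =>
        obtain ⟨x, rfl⟩ := hz
        exact Fusion.mem_hyperfocal F p hQS ⟨β, hβ⟩ hβres x
      | one => exact Subgroup.one_mem _
      | mul a b _ _ iha ihb => exact Subgroup.mul_mem _ iha ihb
      | inv a _ iha => exact Subgroup.inv_mem _ iha
    exact key _ hmem
  have hctl' := hctl Q hQS hQhyp β hβ hcop
  -- descent
  have hdesc : ∀ m : ℕ, ∀ x : Q, (x : Ω) ∈ S.lowerCentralSeries m := by
    intro m
    induction m with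
    | zero =>
      intro x
      rw [Subgroup.lowerCentralSeries_zero]
      exact hQS x.2
    | succ m ih =>
      have hnorm : ∀ s ∈ S, ∀ y ∈ S.lowerCentralSeries (m + 1),
          s * y * s⁻¹ ∈ S.lowerCentralSeries (m + 1) := by
        intro s hs y hy
        have hsN := Subgroup.self_le_normalizer_lowerCentralSeries (S := S) (m + 1) hs
        exact (Subgroup.mem_normalizer_iff.mp hsN y).mp hy
      have step1 : ∀ x ∈ Subgroup.closure Ws,
          ((x⁻¹ * β x : Q) : Ω) ∈ S.lowerCentralSeries (m + 1) := by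
        intro x hx
        induction hx using Subgroup.closure_induction with
        | mem a ha =>
          obtain ⟨s, hs, hsa⟩ := hctl' a ha
          have e : ((a⁻¹ * β a : Q) : Ω) = ⁅((a⁻¹ : Q) : Ω), s⁆ := by
            rw [commutatorElement_def]
            push_cast
            rw [hsa]
            group
          rw [e, Subgroup.lowerCentralSeries_succ]
          exact Subgroup.commutator_mem_commutator (ih a⁻¹) hs
        | one =>
          have : (((1 : Q)⁻¹ * β 1 : Q) : Ω) = 1 := by simp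
          rw [this]
          exact Subgroup.one_mem _
        | mul a b _ _ iha ihb =>
          have e : (((a * b)⁻¹ * β (a * b) : Q) : Ω) =
              ((b : Ω)⁻¹ * ((a⁻¹ * β a : Q) : Ω) * ((b : Ω)⁻¹)⁻¹) * ((b⁻¹ * β b : Q) : Ω) := by
            rw [map_mul]
            push_cast
            group
          rw [e]
          exact Subgroup.mul_mem _ (hnorm _ (S.inv_mem (hQS b.2)) _ iha) ihb
        | inv a _ iha =>
          have e : (((a⁻¹)⁻¹ * β a⁻¹ : Q) : Ω) =
              (a : Ω) * ((a⁻¹ * β a : Q) : Ω)⁻¹ * (a : Ω)⁻¹ := by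
            rw [map_inv]
            push_cast
            group
          rw [e]
          exact hnorm _ (hQS a.2) _ (Subgroup.inv_mem _ iha)
      have step2 : ∀ z ∈ Subgroup.closure Ks, (z : Ω) ∈ S.lowerCentralSeries (m + 1) := by
        intro z hz
        induction hz using Subgroup.closure_induction with
        | mem z hz =>
          obtain ⟨x, rfl⟩ := hz
          exact step1 x (by rw [hW]; trivial)
        | one => exact Subgroup.one_mem _
        | mul a b _ _ iha ihb => exact Subgroup.mul_mem _ iha ihb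
        | inv a _ iha => exact Subgroup.inv_mem _ iha
      intro x
      exact step2 x (by rw [hK]; trivial)
  have hnil : Group.IsNilpotent S := hS.isNilpotent
  obtain ⟨m, hm⟩ := (Subgroup.isNilpotent_iff_lowerCentralSeries (S := S)).mp hnil
  ext x
  have hx1 := hdesc m x
  rw [hm, Subgroup.mem_bot] at hx1
  have hx : x = 1 := Subtype.ext hx1
  rw [hx, map_one]
  rfl

/-- `S5298`. -/
theorem Fusion.eq_inner_of_omega_cyclic_hyperfocal [Finite S] (p : ℕ) [Fact p.Prime]
    (hS : IsPGroup p S) (F : FusionSystem S) (hF : F.IsSaturated p)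
    (h : ∀ A B : Subgroup Ω, A ≤ (F.hyperfocalSubgroup p) → B ≤ (F.hyperfocalSubgroup p) →
      IsCyclic ↥A → (Nat.card ↥A = p ∨ Nat.card ↥A = 4) → IsCyclic ↥B →
      (Nat.card ↥B = p ∨ Nat.card ↥B = 4) →
      F.homSet A B ⊆ (Cfsg.innerFusionSystem S).Hom A) :
    ∀ P : Subgroup Ω, F.Hom P = (Cfsg.innerFusionSystem S).Hom P := by
  have hp : p.Prime := Fact.out
  have key := Fusion.coprime_aut_eq_one_of_omega_control p hS F (by
    intro Q hQS hQhyp β hβ hcop a ha
    by_cases ha1 : (a : Ω) = 1
    · refine ⟨1, S.one_mem, ?_⟩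
      have : a = 1 := Subtype.ext ha1
      rw [this, map_one]
      simp
    have hβF := (Fusion.mem_autGroup_iff F hQS β).mp hβ
    have hle : Subgroup.zpowers (a : Ω) ≤ Q := by
      rw [Subgroup.zpowers_le]; exact a.2
    have hφ := Fusion.restrict_mem F hβF hle
    set b : Ω := ((β a : Q) : Ω) with hb
    have hleB : Subgroup.zpowers b ≤ Q := by
      rw [Subgroup.zpowers_le]; exact (β a).2
    -- orders
    have hord_a : orderOf (a : Ω) = p ∨ orderOf (a : Ω) = 4 := by
      rcases ha with h1 | ⟨h1, h2⟩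
      · left
        exact orderOf_eq_prime h1 ha1
      · subst h1
        have hdvd : orderOf (a : Ω) ∣ 2 ^ 2 := orderOf_dvd_of_pow_eq_one (by norm_num; exact h2)
        obtain ⟨k, hk, hk'⟩ := (Nat.dvd_prime_pow Nat.prime_two).mp hdvd
        interval_cases k
        · exfalso
          apply ha1
          rw [pow_zero] at hk'
          exact orderOf_eq_one_iff.mp hk'
        · left; simpa using hk'
        · right; simpa using hk'
    have hord_b : orderOf b = orderOf (a : Ω) := by
      have hinj : Function.Injective (Q.subtype.comp β.toMonoidHom) :=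
        Q.subtype_injective.comp β.injective
      have := orderOf_injective (Q.subtype.comp β.toMonoidHom) hinj a
      rw [Subgroup.orderOf_coe a]
      exact this
    have hcardA : Nat.card (Subgroup.zpowers (a : Ω)) = p ∨
        Nat.card (Subgroup.zpowers (a : Ω)) = 4 := by
      rw [Nat.card_zpowers]; exact hord_a
    have hcardB : Nat.card (Subgroup.zpowers b) = p ∨ Nat.card (Subgroup.zpowers b) = 4 := by
      rw [Nat.card_zpowers, hord_b]; exact hord_a
    have himg : ∀ x : Subgroup.zpowers (a : Ω),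
        ((Q.subtype.comp β.toMonoidHom).comp (Subgroup.inclusion hle)) x ∈ Subgroup.zpowers b := by
      rintro ⟨x, hx⟩
      obtain ⟨k, rfl⟩ := Subgroup.mem_zpowers_iff.mp hx
      have : (⟨(a : Ω) ^ k, hx⟩ : Subgroup.zpowers (a : Ω)) =
          (⟨(a : Ω), Subgroup.mem_zpowers _⟩ : Subgroup.zpowers (a : Ω)) ^ k := by
        apply Subtype.ext
        simp
      rw [this, map_zpow]
      apply Subgroup.zpow_mem
      exact Subgroup.mem_zpowers b
    have hin := h _ _ (hle.trans hQhyp) (hleB.trans hQhyp) inferInstance hcardA inferInstance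
      hcardB ⟨hφ, himg⟩
    obtain ⟨-, g, hg, hgx⟩ := hin
    refine ⟨g, hg, ?_⟩
    exact hgx ⟨(a : Ω), Subgroup.mem_zpowers _⟩)
  have hall : ∀ P : Subgroup Ω, P ≤ S → IsPGroup p (F.autGroup P) := by
    intro P hPS
    have : Finite P := Fusion.finite_of_le hPS
    have : Finite (MulAut P) := inferInstance
    apply isPGroup_of_coprime_eq_one
    intro β hβ
    have hβ' : (orderOf (β : MulAut P)).Coprime p := by
      rwa [Subgroup.orderOf_coe]
    apply Subtype.ext
    exact key _ P hPS rfl β.1 β.2 hβ'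
  have := Fusion.eq_inner_of_autGroup_isPGroup p hS F hF hall
  intro P
  rw [this]

end Cfsg.Agent.Lead
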