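import Mathlib
import Cfsg.Prelude.Def_FusionSystem
import Cfsg.Agent.Lead.FusionFocal

set_option autoImplicit false

namespace Cfsg.Agent.Lead

open Cfsg Cfsg.FusionSystem

variable {Ω : Type*} [Group Ω] {S : Subgroup Ω}

/-- A saturated subsystem `E` of `F` over `T ≤ U` is contained in every subsystem of `F` over `U`
of `p`-power index. -/
theorem Fusion.le_of_hasPPowerIndexIn {T U : Subgroup Ω} [Finite T] (p : ℕ) [Fact p.Prime]
    (hTp : IsPGroup p T) (F : FusionSystem S) (E : FusionSystem T) (hEs : E.IsSaturated p)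
    (hEF : E.IsSubsystemOf F) (F₀ : FusionSystem U) (hTU : T ≤ U)
    (hidx : F₀.HasPPowerIndexIn F p) : E.IsSubsystemOf F₀ := by
  intro P φ hφ
  refine Fusion.pred_of_alperin p hTp E hEs (fun P φ => φ ∈ F₀.Hom P) ?_ ?_ ?_ ?_ hφ
  · intro P g hP hg
    exact F₀.conj_mem (hP.trans hTU) (hTU hg)
  · intro P Q φ ψ h _ _ h1 h2
    exact F₀.comp_mem h1 h2 h
  · intro P φ ψ _ h1 _ hinv
    obtain ⟨ψ', hψ', hinv'⟩ := F₀.inv_mem h1
    have : ψ = ψ' := by
      ext y
      obtain ⟨_, x, rfl⟩ := y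
      rw [hinv x, hinv' x]
    rw [this]
    exact hψ'
  · intro P hPT β hβ
    have hPS : P ≤ S := Fusion.src_le F (hEF P (Fusion.subtype_mem E hPT))
    have hPU : P ≤ U := hPT.trans hTU
    have hle : E.autGroup P ≤ F.autGroup P := by
      unfold FusionSystem.autGroup
      apply Subgroup.closure_mono
      intro α hα
      exact hEF P hα
    have h1 := pResidual_map_le p (Subgroup.inclusion hle) ⟨β, hβ, rfl⟩
    have h2 : ((Subgroup.inclusion hle β : F.autGroup P) : MulAut P) ∈ F₀.autGroup P :=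
      hidx.2.2 P hPU ⟨_, h1, rfl⟩
    exact (Fusion.mem_autGroup_iff F₀ hPU _).mp h2

end Cfsg.Agent.Lead
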