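import Mathlib
import Cfsg.Prelude.Def_FusionComponents
import Cfsg.Agent.Lead.FusionFactor
import Cfsg.Agent.Lead.FusionMorph3

set_option autoImplicit false

namespace Cfsg.Agent.Lead

open Cfsg Cfsg.FusionSystem

/-- The fusion system of `G/H` on `SH/H` is the factor system of `F_S(G)` modulo `S ∩ H`. -/
theorem Fusion.group_isFactorSystem {G : Type*} [Group G] [Finite G] (p : ℕ) [Fact p.Prime]
    (S : Sylow p G) (H : Subgroup G) [hHn : H.Normal] :
    (Cfsg.groupFusionSystem (S : Subgroup G)).IsFactorSystem ((S : Subgroup G) ⊓ H)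
      ((QuotientGroup.mk' H).comp (S : Subgroup G).subtype)
      (Cfsg.groupFusionSystem ((S : Subgroup G).map (QuotientGroup.mk' H))) := by
  have hθ : ∀ s : (S : Subgroup G), ((QuotientGroup.mk' H).comp (S : Subgroup G).subtype) s =
      ((s : G) : G ⧸ H) := fun s => rfl
  have hrange : ((QuotientGroup.mk' H).comp (S : Subgroup G).subtype).range =
      (S : Subgroup G).map (QuotientGroup.mk' H) := by
    rw [MonoidHom.range_comp, Subgroup.range_subtype]
  refine ⟨inf_le_left, ?_, hrange, ?_⟩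
  · intro s
    rw [hθ, QuotientGroup.eq_one_iff]
    exact ⟨fun h => ⟨s.2, h⟩, fun h => h.2⟩
  · intro P' φ'
    constructor
    · rintro ⟨hP', hφ'S, gbar, hgbar⟩
      refine ⟨hP', ?_⟩
      obtain ⟨g, rfl⟩ := QuotientGroup.mk_surjective gbar
      set θ := (QuotientGroup.mk' H).comp (S : Subgroup G).subtype with hθdef
      have hPS := Fusion.preimageAlong_le θ P'
      -- the conjugate of the preimage lies in `S H`
      have hB : (preimageAlong θ P').map (MulAut.conj g).toMonoidHom ≤ (S : Subgroup G) ⊔ H := by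
        rintro _ ⟨x, hx, rfl⟩
        obtain ⟨hxS, hxP'⟩ := (Fusion.mem_preimageAlong θ P' x).mp hx
        have h1 := hφ'S ⟨θ ⟨x, hxS⟩, hxP'⟩
        rw [hgbar] at h1
        obtain ⟨s, hs, hs'⟩ := h1
        have h2 : ((s : G) : G ⧸ H) = ((g * x * g⁻¹ : G) : G ⧸ H) := by
          rw [QuotientGroup.mk_mul, QuotientGroup.mk_mul, QuotientGroup.mk_inv]
          exact hs'
        have h3 : s⁻¹ * (g * x * g⁻¹) ∈ H := QuotientGroup.eq.mp h2
        have h4 : g * x * g⁻¹ = s * (s⁻¹ * (g * x * g⁻¹)) := by group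
        show g * x * g⁻¹ ∈ _
        rw [h4]
        exact Subgroup.mul_mem_sup hs h3
      have hBp : IsPGroup p ((preimageAlong θ P').map (MulAut.conj g).toMonoidHom) :=
        (S.2.to_le hPS).map _
      obtain ⟨k, hk, hkB⟩ := exists_conj_le_of_le_sup (p := p) (A := ⊤) (R := (S : Subgroup G))
        (K := H) le_top (by rw [Subgroup.card_top]; exact S.card_eq_multiplicity) le_top
        (by rw [Subgroup.normalizer_eq_top]; exact le_top) S.2 hBp hB
      have hφS : ∀ x : ↥(preimageAlong θ P'), k * g * (x : G) * (k * g)⁻¹ ∈ (S : Subgroup G) := by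
        intro x
        have := hkB ⟨g * x * g⁻¹, ⟨x, x.2, rfl⟩, rfl⟩
        have e : k * g * (x : G) * (k * g)⁻¹ = k * (g * x * g⁻¹) * k⁻¹ := by group
        rw [e]
        exact this
      refine ⟨conjHom (preimageAlong θ P') (k * g), ⟨hPS, hφS, k * g, fun x => rfl⟩,
        hPS, hφS, fun x => ((Fusion.mem_preimageAlong θ P' x).mp x.2).2, ?_⟩
      intro x
      rw [hgbar]
      show ((g : G) : G ⧸ H) * ((x : G) : G ⧸ H) * ((g : G) : G ⧸ H)⁻¹ =
        ((k * g * (x : G) * (k * g)⁻¹ : G) : G ⧸ H)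
      have hk1 : ((k : G) : G ⧸ H) = 1 := (QuotientGroup.eq_one_iff k).mpr hk
      simp only [QuotientGroup.mk_mul, QuotientGroup.mk_inv, hk1, one_mul, mul_inv_rev, inv_one,
        mul_one]
    · rintro ⟨hP', φ, ⟨-, -, g, hg⟩, hPS, hφS, hPP', hind⟩
      have hlift : ∀ x : P', ∃ (s : G) (hs : s ∈ preimageAlong
          ((QuotientGroup.mk' H).comp (S : Subgroup G).subtype) P'), ((s : G) : G ⧸ H) = x := by
        intro x
        obtain ⟨s, hs, hsx⟩ := hP' x.2
        refine ⟨s, (Fusion.mem_preimageAlong _ P' s).mpr ⟨hs, ?_⟩, hsx⟩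
        rw [hθ]
        show ((s : G) : G ⧸ H) ∈ P'
        have : ((s : G) : G ⧸ H) = x := hsx
        rw [this]
        exact x.2
      have hval : ∀ x : P', φ' x = ((g : G) : G ⧸ H) * x * ((g : G) : G ⧸ H)⁻¹ ∧
          φ' x ∈ (S : Subgroup G).map (QuotientGroup.mk' H) := by
        intro x
        obtain ⟨s, hs, hsx⟩ := hlift x
        have h1 := hind ⟨s, hs⟩
        have h2 : (⟨((QuotientGroup.mk' H).comp (S : Subgroup G).subtype) ⟨s, hPS hs⟩,
            hPP' ⟨s, hs⟩⟩ : P') = x := Subtype.ext hsx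
        rw [h2] at h1
        rw [h1, hθ]
        constructor
        · show ((φ ⟨s, hs⟩ : G) : G ⧸ H) = _
          rw [hg, ← hsx]
          simp only [QuotientGroup.mk_mul, QuotientGroup.mk_inv]
        · exact ⟨φ ⟨s, hs⟩, hφS _, rfl⟩
      exact ⟨hP', fun x => (hval x).2, ((g : G) : G ⧸ H), fun x => (hval x).1⟩

end Cfsg.Agent.Lead
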