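import Mathlib
import Cfsg.Prelude.Def_FusionComponents
import Cfsg.Prelude.Def_Solvable
import Cfsg.Agent.Lead.FusionNormalSub

set_option autoImplicit false

namespace Cfsg.Agent.Lead

open Cfsg Cfsg.FusionSystem

/-- A finite group with simple fusion system, trivial `p'`-core, and minimal among the subgroups
containing `S` inducing the same fusion system, is simple. -/
theorem Fusion.isSimpleGroup_of_simple_fusion {G : Type*} [Group G] [Finite G] (p : ℕ) [Fact p.Prime]
    (S : Sylow p G) (hsimple : (Cfsg.groupFusionSystem (S : Subgroup G)).IsSimple p)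
    (hcore : Cfsg.pPrimeCore p G = ⊥)
    (hmin : ∀ (H : Subgroup G) (hSH : (S : Subgroup G) ≤ H), H ≠ ⊤ →
      ∃ P : Subgroup G, (Cfsg.fusionSystemOfSubgroup H (S : Subgroup G) hSH).Hom P ≠
        (Cfsg.groupFusionSystem (S : Subgroup G)).Hom P) : IsSimpleGroup G := by
  obtain ⟨-, hSne, hnorm⟩ := hsimple
  have hp : p.Prime := Fact.out
  have hnt : Nontrivial G := by
    by_contra h
    rw [not_nontrivial_iff_subsingleton] at h
    exact hSne (Subsingleton.elim _ _)
  refine { toNontrivial := hnt, eq_bot_or_eq_top_of_normal := fun N hN => ?_ }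
  have hE := Fusion.normalSub_isNormalIn p S N
  rcases hnorm _ _ hE with hT | ⟨hT, hHom⟩
  · left
    have hcard := Fusion.card_sylow_inf_normal p S N
    rw [hT, Subgroup.card_bot] at hcard
    have hfac : (Nat.card N).factorization p = 0 := by
      by_contra h
      have : 1 < p ^ (Nat.card N).factorization p := Nat.one_lt_pow h hp.one_lt
      omega
    have hndvd : ¬ p ∣ Nat.card N := by
      rcases (Nat.factorization_eq_zero_iff _ _).mp hfac with h | h | h
      · exact absurd hp h
      · exact h
      · exact absurd h Nat.card_pos.ne'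
    have hcop : (Nat.card N).Coprime p := (hp.coprime_iff_not_dvd.mpr hndvd).symm
    have hle : N ≤ Cfsg.pPrimeCore p G := le_sSup ⟨hN, hcop⟩
    rw [hcore] at hle
    exact le_bot_iff.mp hle
  · right
    by_contra hne
    have hSN : (S : Subgroup G) ≤ N := by
      rw [← hT]; exact inf_le_right
    obtain ⟨P, hP⟩ := hmin N hSN hne
    apply hP
    rw [← hHom P]
    ext φ
    constructor
    · rintro ⟨h1, h2, h3⟩
      exact ⟨h1.trans hT.ge, fun x => hT.ge (h2 x), h3⟩
    · rintro ⟨h1, h2, h3⟩
      exact ⟨h1.trans hT.le, fun x => hT.le (h2 x), h3⟩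

end Cfsg.Agent.Lead
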