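import Mathlib
import Cfsg.Prelude.Def_FusionSystem
import Cfsg.Agent.Lead.FusionAutSys
import Cfsg.Agent.Lead.FusionInner
import Cfsg.Agent.Lead.FusionResistant
import Cfsg.Agent.Lead.FusionNormalCrit
import Cfsg.Agent.Lead.FusionEssNeeded
import Cfsg.Agent.Lead.FusionRestrict
import Cfsg.Agent.Lead.FusionFocal
import Cfsg.Agent.Lead.FusionSat

set_option autoImplicit false

/-!
Extremely sparse fusion systems.
-/

namespace Cfsg.Agent.Lead.Sparse

open Cfsg Cfsg.FusionSystem Cfsg.Agent.Lead Cfsg.Agent.Lead.AutSys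

variable {Ω : Type*} [Group Ω] {S : Subgroup Ω}

/-- the sparsity hypothesis -/
def Sparse (p : ℕ) (F : FusionSystem S) : Prop :=
  ∀ (T : Subgroup Ω) (E : FusionSystem T), E.IsSaturated p → E.IsSubsystemOf F →
    (T = S ∧ ∀ P : Subgroup Ω, E.Hom P = F.Hom P) ∨
      (∀ P : Subgroup Ω, E.Hom P = (innerFusionSystem T).Hom P)

theorem finite_mulAut (T : Type*) [Group T] [Finite T] : Finite (MulAut T) :=
  Finite.of_injective (fun α : MulAut T => (α : T → T)) (fun _ _ h => DFunLike.coe_injective h)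

theorem key1 [Finite S] (p : ℕ) [Fact p.Prime] (hS : IsPGroup p S) (F : FusionSystem S)
    (hsp : Sparse p F) (T : Subgroup Ω) (hTS : T ≤ S) (β : MulAut T) (hβF : β ∈ F.autGroup T)
    (hβ : (orderOf β).Coprime p) (hβ1 : β ≠ 1) :
    T = S ∧ ∀ P : Subgroup Ω,
      (autSys T (Inn T ⊔ Subgroup.zpowers β) le_sup_left).Hom P = F.Hom P := by
  haveI : Finite T := Fusion.finite_of_le hTS
  have hTp : IsPGroup p T :=
    hS.of_injective (Subgroup.inclusion hTS) (Subgroup.inclusion_injective hTS)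
  have hsat := autSys_saturated T p hTp β hβ
  have hInnF : Inn T ≤ F.autGroup T := by
    rintro _ ⟨t, rfl⟩
    rw [Fusion.mem_autGroup_iff F hTS]
    have := F.conj_mem (P := T) (g := t) hTS (hTS t.2)
    convert this using 1
    ext x
    rfl
  have hAF : Inn T ⊔ Subgroup.zpowers β ≤ F.autGroup T :=
    sup_le hInnF (by rw [Subgroup.zpowers_le]; exact hβF)
  have hsub := autSys_isSubsystemOf F T hTS _ le_sup_left hAF
  rcases hsp T _ hsat hsub with h | h
  · exact h
  · exfalso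
    have hle := le_inn_of_inner T _ le_sup_left (h T)
    have hβI : β ∈ Inn T := hle (Subgroup.mem_sup_right (Subgroup.mem_zpowers β))
    obtain ⟨t, rfl⟩ := hβI
    obtain ⟨k, hk⟩ := hTp t
    have h1 : (MulAut.conj t) ^ p ^ k = 1 := by rw [← map_pow, hk, map_one]
    have h2 : orderOf (MulAut.conj t) ∣ p ^ k := orderOf_dvd_of_pow_eq_one h1
    have h3 : orderOf (MulAut.conj t) = 1 := Nat.Coprime.eq_one_of_dvd (hβ.pow_right k) h2
    exact hβ1 (orderOf_eq_one_iff.1 h3)

theorem isPGroup_aut [Finite S] (p : ℕ) [hp : Fact p.Prime] (hS : IsPGroup p S)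
    (F : FusionSystem S) (hsp : Sparse p F) (T : Subgroup Ω) (hTS : T ≤ S) (hne : T ≠ S) :
    IsPGroup p (F.autGroup T) := by
  haveI : Finite T := Fusion.finite_of_le hTS
  haveI : Finite (MulAut T) := finite_mulAut T
  rintro ⟨g, hg⟩
  obtain ⟨s, m, hm, hsm⟩ := Nat.exists_eq_pow_mul_and_not_dvd (orderOf_pos g).ne' p hp.out.ne_one
  refine ⟨s, Subtype.ext ?_⟩
  show g ^ p ^ s = 1
  by_contra hne1
  have hord : orderOf (g ^ p ^ s) = m := by
    rw [orderOf_pow' _ (pow_ne_zero _ hp.out.ne_zero), hsm,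
      Nat.gcd_eq_right (dvd_mul_right _ _), Nat.mul_div_cancel_left _ (pow_pos hp.out.pos _)]
  have := key1 p hS F hsp T hTS (g ^ p ^ s) (Subgroup.pow_mem _ hg _)
    (by rw [hord]; exact ((Nat.Prime.coprime_iff_not_dvd hp.out).2 hm).symm) hne1
  exact hne this.1

theorem top_isNormal [Finite S] (p : ℕ) [hp : Fact p.Prime] (hS : IsPGroup p S)
    (F : FusionSystem S) (hF : F.IsSaturated p) (hsp : Sparse p F) : F.IsNormal S := by
  apply Fusion.isNormal_of_forall_essential p hS F hF S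
  intro P hP
  rcases hP with hPS | hess
  · refine ⟨hPS.ge, fun α _ => ?_⟩
    have htop : S.subgroupOf P = ⊤ := by
      rw [Subgroup.subgroupOf_eq_top]; exact hPS.le
    rw [htop]
    exact Subgroup.map_top_of_surjective _ α.surjective
  · exfalso
    have hlt := Fusion.essential_lt_top p hS F hF hess
    have hpg := isPGroup_aut p hS F hsp P hlt.le hlt.ne
    obtain ⟨R⟩ : Nonempty (Sylow p (F.autGroup P)) := inferInstance
    have hR : (R : Subgroup (F.autGroup P)) = ⊤ :=
      (R.is_maximal' (Q := ⊤) (IsPGroup.to_subgroup hpg ⊤) le_top).symm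
    exact Fusion.not_isEssential_of_normal_sylow p hS F R (by rw [hR]; infer_instance) hess

theorem pow_fix {T : Type*} [Group T] (γ : MulAut T) (x : T) (h : γ x = x) (j : ℕ) :
    (γ ^ j) x = x := by
  induction j with
  | zero => rfl
  | succ j ih => rw [pow_succ, MulAut.mul_apply, h, ih]

theorem pow_apply_of_fix {T : Type*} [Group T] (β : MulAut T) (x : T)
    (h : β (x⁻¹ * β x) = x⁻¹ * β x) (n : ℕ) : (β ^ n) x = x * (x⁻¹ * β x) ^ n := by
  induction n with
  | zero => simp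
  | succ n ih =>
    rw [pow_succ', MulAut.mul_apply, ih, map_mul, map_pow, h, pow_succ', ← mul_assoc x,
      mul_inv_cancel_left]

theorem main [Finite S] (p : ℕ) [hp : Fact p.Prime] (hS : IsPGroup p S) (F : FusionSystem S)
    (hF : F.IsSaturated p)
    (hni : ¬ ∀ P : Subgroup Ω, F.Hom P = (innerFusionSystem S).Hom P) (hsp : Sparse p F) :
    F.IsNormal S ∧ F.focalSubgroup = S ∧ F.hyperfocalSubgroup p = S ∧
      ∃ (q : ℕ) (β : MulAut ↥S), q.Prime ∧ q ≠ p ∧ β ∈ F.autGroup S ∧ orderOf β = q ∧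
        (F.autGroup S : Subgroup (MulAut ↥S)) = Cfsg.Inn ↥S ⊔ Subgroup.zpowers β := by
  have hnorm := top_isNormal p hS F hF hsp
  have hnp : ¬ IsPGroup p (F.autGroup S) := by
    intro hpg
    apply hni
    have := Fusion.eq_inner_of_autGroup_isPGroup p hS F hF (fun P hP => by
      by_cases h : P = S
      · rw [h]; exact hpg
      · exact isPGroup_aut p hS F hsp P hP h)
    intro P
    rw [this]
  haveI : Finite (MulAut S) := finite_mulAut S
  have hcard_ne : Nat.card (F.autGroup S) ≠ 0 := Nat.card_pos.ne'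
  obtain ⟨q, hq, hqd, hqp⟩ : ∃ q, q.Prime ∧ q ∣ Nat.card (F.autGroup S) ∧ q ≠ p := by
    by_contra hcon
    push Not at hcon
    apply hnp
    have := Nat.eq_prime_pow_of_unique_prime_dvd hcard_ne (fun {d} hd hdd => hcon d hd hdd)
    exact IsPGroup.of_card this
  haveI : Fact q.Prime := ⟨hq⟩
  obtain ⟨β₀, hβ₀⟩ := exists_prime_orderOf_dvd_card' q hqd
  have hβord : orderOf (β₀ : MulAut S) = q := by rw [Subgroup.orderOf_coe]; exact hβ₀
  have hqpcop : q.Coprime p := (Nat.coprime_primes hq hp.out).2 hqp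
  have hcop : (orderOf (β₀ : MulAut S)).Coprime p := by rw [hβord]; exact hqpcop
  have hβ1 : (β₀ : MulAut S) ≠ 1 := by
    intro h
    rw [h, orderOf_one] at hβord
    exact hq.one_lt.ne hβord
  obtain ⟨-, hEF⟩ := key1 p hS F hsp S le_rfl β₀ β₀.2 hcop hβ1
  have hAut : F.autGroup S = Inn S ⊔ Subgroup.zpowers (β₀ : MulAut S) := by
    rw [← autSys_autGroup S (Inn S ⊔ Subgroup.zpowers (β₀ : MulAut S)) le_sup_left]
    unfold FusionSystem.autGroup
    rw [hEF S]
  obtain ⟨β, hβdef⟩ : ∃ β : MulAut S, β = (β₀ : MulAut S) := ⟨_, rfl⟩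
  -- the commutator subgroup `[S, β]`
  obtain ⟨K, hK⟩ : ∃ K : Subgroup S, K = Subgroup.closure (Set.range fun x : S => x⁻¹ * β x) :=
    ⟨_, rfl⟩
  have hgenK : ∀ x : S, x⁻¹ * β x ∈ K := fun x => by
    rw [hK]; exact Subgroup.subset_closure ⟨x, rfl⟩
  have hKinv : ∀ y ∈ K, β y ∈ K := by
    have : K.map β.toMonoidHom ≤ K := by
      rw [hK, MonoidHom.map_closure, Subgroup.closure_le]
      rintro _ ⟨_, ⟨x, rfl⟩, rfl⟩
      apply Subgroup.subset_closure
      refine ⟨β x, ?_⟩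
      show (β x)⁻¹ * β (β x) = β (x⁻¹ * β x)
      rw [map_mul, map_inv]
    intro y hy
    exact this ⟨y, hy, rfl⟩
  have hKhyp : K.map S.subtype ≤ F.hyperfocalSubgroup p := by
    rw [Subgroup.map_le_iff_le_comap, hK, Subgroup.closure_le]
    rintro _ ⟨x, rfl⟩
    have hres : β₀ ∈ pResidual p (F.autGroup S) :=
      mem_pResidual_of_coprime' (by rw [hβ₀]; exact hqpcop)
    have := Fusion.mem_hyperfocal F p le_rfl β₀ hres x
    rw [← hβdef] at this
    exact this
  have hKfoc : K.map S.subtype ≤ F.focalSubgroup := by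
    rw [Subgroup.map_le_iff_le_comap, hK, Subgroup.closure_le]
    rintro _ ⟨x, rfl⟩
    apply Subgroup.subset_closure
    refine ⟨S, S.subtype.comp (β : MulAut S).toMonoidHom, x, ?_, rfl⟩
    rw [hβdef]
    exact (Fusion.mem_autGroup_iff F le_rfl _).1 β₀.2
  have hfocS : F.focalSubgroup ≤ S := by
    unfold FusionSystem.focalSubgroup
    rw [Subgroup.closure_le]
    rintro _ ⟨P, φ, x, hφ, rfl⟩
    exact S.mul_mem (S.inv_mem (Fusion.src_le F hφ x.2)) (Fusion.map_mem F hφ x)
  have hKS : K.map S.subtype ≤ S := by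
    rintro _ ⟨y, -, rfl⟩
    exact y.2
  have hmemK : ∀ x : S, (x : Ω) ∈ K.map S.subtype ↔ x ∈ K := fun x =>
    Subgroup.mem_map_iff_mem S.subtype_injective
  have hβq : β ^ q = 1 := by rw [hβdef, ← hβord]; exact pow_orderOf_eq_one _
  have hKeq : K.map S.subtype = S := by
    by_contra hne
    have hpgT := isPGroup_aut p hS F hsp (K.map S.subtype) hKS hne
    haveI : Finite (K.map S.subtype : Subgroup Ω) := Fusion.finite_of_le hKS
    obtain ⟨a, ha⟩ := Fusion.exists_pow_fix_of_isPGroup F p (le_refl S) hKS hpgT β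
      (by rw [hβdef]; exact β₀.2) (fun x hx => (hmemK _).2 (hKinv x ((hmemK x).1 hx)))
    obtain ⟨j, -, hj⟩ := Nat.exists_mul_mod_eq_one_of_coprime
      (Nat.Coprime.pow_left a hqpcop.symm) hq.one_lt
    have hβγ : (β ^ p ^ a) ^ j = β := by
      rw [← pow_mul, ← pow_mod_orderOf, hβdef, hβord, hj, pow_one]
    have hfix : ∀ y ∈ K, β y = y := by
      intro y hy
      have h1 := ha y ((hmemK y).2 hy)
      have h2 := pow_fix _ y h1 j
      rwa [hβγ] at h2
    apply hβ1
    rw [← hβdef]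
    ext x
    have h1 := pow_apply_of_fix β x (hfix _ (hgenK x)) q
    rw [hβq] at h1
    have h2 : (x⁻¹ * β x) ^ q = 1 := by
      have : x = x * (x⁻¹ * β x) ^ q := h1
      exact (mul_eq_left.1 this.symm)
    obtain ⟨k, hk⟩ := hS (x⁻¹ * β x)
    have h3 : orderOf (x⁻¹ * β x) ∣ q := orderOf_dvd_of_pow_eq_one h2
    have h4 : orderOf (x⁻¹ * β x) ∣ p ^ k := orderOf_dvd_of_pow_eq_one hk
    have h5 : orderOf (x⁻¹ * β x) = 1 :=
      Nat.eq_one_of_dvd_coprimes (Nat.Coprime.pow_right k hqpcop) h3 h4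
    have h6 : x⁻¹ * β x = 1 := orderOf_eq_one_iff.1 h5
    have h7 : β x = x := by
      have := congrArg (fun z => x * z) h6
      simpa using this
    rw [h7]
    rfl
  refine ⟨hnorm, le_antisymm hfocS (hKeq.ge.trans hKfoc), le_antisymm (Fusion.hyperfocal_le F p)
    (hKeq.ge.trans hKhyp), q, (β₀ : MulAut S), hq, hqp, β₀.2, hβord, hAut⟩

end Cfsg.Agent.Lead.Sparse
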