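import Mathlib
import Cfsg.Prelude.Def_FusionComponents
import Cfsg.Agent.Lead.FusionConstrSub
import Cfsg.Agent.Lead.FusionNormalSub

set_option autoImplicit false

namespace Cfsg.Agent.Lead

open Cfsg Cfsg.FusionSystem

/-- Two fusion systems with the same maps are equal. -/
theorem Fusion.ext_of_hom {Ω : Type*} [Group Ω] {S : Subgroup Ω} {F F' : FusionSystem S}
    (h : ∀ P, F.Hom P = F'.Hom P) : F = F' := by
  cases F
  cases F'
  simp only [FusionSystem.mk.injEq]
  funext P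
  exact h P

section

variable {G : Type*} [Group G] [Finite G] (p : ℕ) [Fact p.Prime] (S : Sylow p G)

/-- Fusion systems of subnormal subgroups of a group with constrained fusion system are
constrained (inside the ambient group). -/
theorem Fusion.subnormal_constrained_aux
    (hF : (groupFusionSystem (S : Subgroup G)).IsConstrained p) (H : Subgroup G)
    (hH : H.IsSubnormal) :
    ∀ (T : Subgroup G) (_ : T = (S : Subgroup G) ⊓ H) (hTH : T ≤ H),
      Nat.card T = p ^ (Nat.card H).factorization p ∧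
        (fusionSystemOfSubgroup H T hTH).IsConstrained p := by
  induction hH with
  | top =>
    intro T hT hTH
    rw [inf_top_eq] at hT
    subst hT
    refine ⟨by rw [Subgroup.card_top]; exact S.card_eq_multiplicity, ?_⟩
    have : fusionSystemOfSubgroup ⊤ (S : Subgroup G) hTH = groupFusionSystem (S : Subgroup G) := by
      apply Fusion.ext_of_hom
      intro P
      ext φ
      constructor
      · rintro ⟨h1, h2, g, -, hg⟩; exact ⟨h1, h2, g, hg⟩
      · rintro ⟨h1, h2, g, hg⟩; exact ⟨h1, h2, g, Subgroup.mem_top g, hg⟩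
    rw [this]; exact hF
  | step H K hHK hK hN ih =>
    intro T hT hTH
    obtain ⟨hcardK, hKc⟩ := ih ((S : Subgroup G) ⊓ K) rfl inf_le_right
    have hnorm : K ≤ Subgroup.normalizer (H : Set G) :=
      (Subgroup.normal_subgroupOf_iff_le_normalizer hHK).mp hN
    have hTeq : T = ((S : Subgroup G) ⊓ K) ⊓ H := by
      rw [hT, inf_assoc, inf_eq_right.mpr hHK]
    have hSKp : IsPGroup p ↥((S : Subgroup G) ⊓ K) := S.isPGroup'.to_le inf_le_left
    have hcardT : Nat.card T = p ^ (Nat.card H).factorization p := by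
      rw [hTeq]
      exact card_inf_eq_ppart_of_normal inf_le_right hHK hnorm hSKp hcardK
    refine ⟨hcardT, ?_⟩
    have hfinH : Finite H := inferInstance
    have hfinSK : Finite ↥((S : Subgroup G) ⊓ K) := inferInstance
    have hsat := Fusion.fusionSystemOfSubgroup_isSaturated p H T hTH hcardT
    apply Fusion.isConstrained_of_subsystem p hSKp _ hKc _ hsat
    · rintro P φ ⟨h1, h2, g, hg, hgx⟩
      have hTle : T ≤ (S : Subgroup G) ⊓ K := hTeq ▸ inf_le_left
      exact ⟨h1.trans hTle, fun x => hTle (h2 x), g, hHK hg, hgx⟩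
    · have hTle : T ≤ (S : Subgroup G) ⊓ K := hTeq ▸ inf_le_left
      refine ⟨hTle, ?_⟩
      rintro R hR φ ⟨-, hφ, k, hk, hkx⟩ x
      rw [hTeq]
      refine Subgroup.mem_inf.mpr ⟨hφ x, ?_⟩
      rw [hkx]
      exact (Subgroup.mem_normalizer_iff.mp (hnorm hk) _).mp (hTH (hR x.2))

/-- Transport of constrainedness from the ambient group to the subgroup as a group. -/
theorem Fusion.constrained_subgroupOf (H T : Subgroup G) (hT : T = (S : Subgroup G) ⊓ H)
    (hTH : T ≤ H) (hcard : Nat.card T = p ^ (Nat.card H).factorization p)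
    (hE : (fusionSystemOfSubgroup H T hTH).IsConstrained p) :
    (groupFusionSystem ((S : Subgroup G).subgroupOf H)).IsConstrained p := by
  obtain ⟨-, Q, hQn, hQc⟩ := hE
  have hQT : Q ≤ T := hQn.1
  have hmemT : ∀ x : G, x ∈ T ↔ x ∈ (S : Subgroup G) ∧ x ∈ H := by
    intro x; rw [hT]; exact Subgroup.mem_inf
  have hS'eq : (S : Subgroup G).subgroupOf H = T.subgroupOf H := by
    rw [hT, Subgroup.inf_subgroupOf_right]
  have hcard' : Nat.card ((S : Subgroup G).subgroupOf H) = p ^ (Nat.card H).factorization p := by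
    rw [hS'eq, card_subgroupOf_of_le hTH]; exact hcard
  have hsat : (groupFusionSystem ((S : Subgroup G).subgroupOf H)).IsSaturated p :=
    Cfsg.Agent.S5076.result p (Sylow.ofCard ((S : Subgroup G).subgroupOf H) hcard')
  have hQ'S' : Q.subgroupOf H ≤ (S : Subgroup G).subgroupOf H := by
    intro x hx
    rw [Subgroup.mem_subgroupOf] at hx ⊢
    exact ((hmemT _).mp (hQT hx)).1
  refine ⟨hsat, Q.subgroupOf H, ⟨hQ'S', ?_⟩, ⟨hQ'S', ?_⟩⟩
  · -- normal
    rintro P' φ' ⟨hP'S', hφ'S', h, hh⟩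
    have hh' : ∀ x : P', ((φ' x : H) : G) = (h : G) * ((x : H) : G) * (h : G)⁻¹ := fun x => by
      rw [hh x]; rfl
    have hPT : P'.map H.subtype ≤ T := by
      rintro _ ⟨x, hx, rfl⟩
      exact (hmemT _).mpr ⟨Subgroup.mem_subgroupOf.mp (hP'S' hx), x.2⟩
    have hφ : conjHom (P'.map H.subtype) (h : G) ∈
        (fusionSystemOfSubgroup H T hTH).Hom (P'.map H.subtype) := by
      refine ⟨hPT, ?_, h.1, h.2, fun _ => rfl⟩
      rintro ⟨_, x, hx, rfl⟩
      show (h : G) * ((x : H) : G) * (h : G)⁻¹ ∈ T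
      rw [← hh' ⟨x, hx⟩]
      exact (hmemT _).mpr ⟨Subgroup.mem_subgroupOf.mp (hφ'S' ⟨x, hx⟩), (φ' ⟨x, hx⟩).2⟩
    obtain ⟨ψ, ⟨hPQT, hψT, h₂, hh₂H, hh₂⟩, hext, hmap⟩ := hQn.2 _ _ hφ
    have hsup : ∀ y : ↥(P' ⊔ Q.subgroupOf H), ((y : H) : G) ∈ P'.map H.subtype ⊔ Q := by
      intro y
      have h1 : ((y : H) : G) ∈ (P' ⊔ Q.subgroupOf H).map H.subtype := ⟨y.1, y.2, rfl⟩
      rw [Subgroup.map_sup, Subgroup.subgroupOf_map_subtype] at h1
      have hle : P'.map H.subtype ⊔ Q ⊓ H ≤ P'.map H.subtype ⊔ Q :=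
        sup_le_sup (le_refl _) (inf_le_left : Q ⊓ H ≤ Q)
      exact hle h1
    have hψy : ∀ y : ↥(P' ⊔ Q.subgroupOf H),
        ψ ⟨((y : H) : G), hsup y⟩ = h₂ * ((y : H) : G) * h₂⁻¹ := fun y => hh₂ _
    refine ⟨conjHom (P' ⊔ Q.subgroupOf H) ⟨h₂, hh₂H⟩,
      ⟨sup_le hP'S' hQ'S', fun y => ?_, ⟨h₂, hh₂H⟩, fun _ => rfl⟩, fun x => ?_, ?_⟩
    · rw [Subgroup.mem_subgroupOf]
      show h₂ * ((y : H) : G) * h₂⁻¹ ∈ (S : Subgroup G)
      rw [← hψy y]
      exact ((hmemT _).mp (hψT _)).1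
    · apply Subtype.ext
      show h₂ * ((x : H) : G) * h₂⁻¹ = ((φ' x : H) : G)
      rw [hh' x]
      have h1 := hext ⟨((x : H) : G), ⟨x.1, x.2, rfl⟩⟩
      have h2 := hh₂ (Subgroup.inclusion le_sup_left ⟨((x : H) : G), ⟨x.1, x.2, rfl⟩⟩)
      rw [h1] at h2
      exact h2.symm
    · ext z
      constructor
      · rintro ⟨y, hy, rfl⟩
        rw [SetLike.mem_coe, Subgroup.mem_subgroupOf, Subgroup.mem_subgroupOf] at hy
        rw [Subgroup.mem_subgroupOf]
        show h₂ * ((y : H) : G) * h₂⁻¹ ∈ Q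
        rw [← hψy y]
        apply hmap.le
        refine ⟨_, ?_, rfl⟩
        rw [SetLike.mem_coe, Subgroup.mem_subgroupOf]
        exact hy
      · intro hz
        rw [Subgroup.mem_subgroupOf] at hz
        have hz' := hmap.ge hz
        obtain ⟨y₀, hy₀, hy₀z⟩ := hz'
        rw [SetLike.mem_coe, Subgroup.mem_subgroupOf] at hy₀
        have h3 := hh₂ y₀
        rw [hy₀z] at h3
        have hy₀H : (y₀ : G) ∈ H := by
          have : (y₀ : G) = h₂⁻¹ * (z : G) * h₂ := by rw [h3]; group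
          rw [this]
          exact H.mul_mem (H.mul_mem (H.inv_mem hh₂H) z.2) hh₂H
        have hyQ' : (⟨(y₀ : G), hy₀H⟩ : H) ∈ Q.subgroupOf H := by
          rw [Subgroup.mem_subgroupOf]; exact hy₀
        refine ⟨⟨⟨(y₀ : G), hy₀H⟩, (le_sup_right : Q.subgroupOf H ≤ P' ⊔ Q.subgroupOf H) hyQ'⟩,
          ?_, ?_⟩
        · rw [SetLike.mem_coe, Subgroup.mem_subgroupOf]; exact hyQ'
        · apply Subtype.ext
          show h₂ * (y₀ : G) * h₂⁻¹ = (z : G)
          exact h3.symm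
  · -- centric
    rintro R' ⟨φ', ⟨-, hφ'S', h, hh⟩, hr⟩
    have hh' : ∀ x : ↥(Q.subgroupOf H), ((φ' x : H) : G) = (h : G) * ((x : H) : G) * (h : G)⁻¹ :=
      fun x => by rw [hh x]; rfl
    have hQH : Q ≤ H := hQT.trans hTH
    have hφ : conjHom Q (h : G) ∈ (fusionSystemOfSubgroup H T hTH).Hom Q := by
      refine ⟨hQT, ?_, h.1, h.2, fun _ => rfl⟩
      intro q
      have hq' : (⟨(q : G), hQH q.2⟩ : H) ∈ Q.subgroupOf H := by
        rw [Subgroup.mem_subgroupOf]; exact q.2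
      show (h : G) * (q : G) * (h : G)⁻¹ ∈ T
      have := hh' ⟨_, hq'⟩
      rw [← this]
      exact (hmemT _).mpr ⟨Subgroup.mem_subgroupOf.mp (hφ'S' ⟨_, hq'⟩), (φ' ⟨_, hq'⟩).2⟩
    have hrange : (conjHom Q (h : G)).range = R'.map H.subtype := by
      ext r
      constructor
      · rintro ⟨q, rfl⟩
        have hq' : (⟨(q : G), hQH q.2⟩ : H) ∈ Q.subgroupOf H := by
          rw [Subgroup.mem_subgroupOf]; exact q.2
        refine ⟨φ' ⟨_, hq'⟩, hr ▸ ⟨_, rfl⟩, ?_⟩
        exact hh' ⟨_, hq'⟩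
      · rintro ⟨r', hr', rfl⟩
        rw [← hr] at hr'
        obtain ⟨q', rfl⟩ := hr'
        exact ⟨⟨((q' : H) : G), Subgroup.mem_subgroupOf.mp q'.2⟩, (hh' q').symm⟩
    have hcent := hQc.2 _ ⟨_, hφ, hrange⟩
    intro c hc
    obtain ⟨hcS, hcC⟩ := Subgroup.mem_inf.mp hc
    have hcT : (c : G) ∈ centralizerIn T (R'.map H.subtype) := by
      refine Subgroup.mem_inf.mpr ⟨(hmemT _).mpr ⟨Subgroup.mem_subgroupOf.mp hcS, c.2⟩, ?_⟩
      rw [Subgroup.mem_centralizer_iff]
      rintro _ ⟨r', hr', rfl⟩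
      have := (Subgroup.mem_centralizer_iff.mp hcC) r' hr'
      exact congrArg Subtype.val this
    obtain ⟨c₂, hc₂, hc₂c⟩ := hcent hcT
    have : c₂ = c := Subtype.ext hc₂c
    rw [← this]; exact hc₂

/-- If the fusion system of `G` on a Sylow `p`-subgroup `S` is constrained, so is that of every
subnormal subgroup `H` on `S ∩ H`. -/
theorem Fusion.subnormal_constrained
    (hF : (groupFusionSystem (S : Subgroup G)).IsConstrained p) (H : Subgroup G)
    (hH : H.IsSubnormal) :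
    (groupFusionSystem ((S : Subgroup G).subgroupOf H)).IsConstrained p := by
  obtain ⟨hcard, hE⟩ := Fusion.subnormal_constrained_aux p S hF H hH _ rfl inf_le_right
  exact Fusion.constrained_subgroupOf p S H _ rfl inf_le_right hcard hE

end

end Cfsg.Agent.Lead
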