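import Mathlib
import Cfsg.Agent.Lead.SylowLemmas

set_option autoImplicit false

/-!
Brute-force facts about `GL₂(3)` and its Sylow `2`-subgroups (semidihedral of order 16).
-/

namespace Cfsg.Agent.Lead.GL23

open Matrix

abbrev K23 := GL (Fin 2) (ZMod 3)

/-- a generator of the Singer cycle -/
def r0 : K23 := ⟨!![1, 2; 1, 1], !![2, 2; 1, 2], by decide, by decide⟩

/-- the Frobenius involution -/
def s0 : K23 := ⟨!![1, 0; 0, 2], !![1, 0; 0, 2], by decide, by decide⟩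

set_option maxRecDepth 100000 in
theorem rels : r0 ^ 8 = 1 ∧ r0 ^ 4 = -1 ∧ s0 * s0 = 1 ∧ s0 * r0 * s0 = r0 ^ 3 ∧
    (s0 * r0 ^ 2) * (s0 * r0 ^ 2) = 1 := by decide +kernel

set_option maxRecDepth 100000 in
theorem exists_conj : ∃ k : K23, k * r0 ^ 2 * k⁻¹ = s0 * r0 := by decide +kernel

set_option maxRecDepth 100000 in
theorem card_two_elts : (Finset.univ.filter (fun g : K23 => g ^ 16 = 1)).card = 32 := by
  decide +kernel

set_option maxRecDepth 100000 in
theorem card_comm : ∀ x : K23, x * x = 1 → x ≠ 1 → x ≠ -1 →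
    (Finset.univ.filter (fun g : K23 => g * x = x * g)).card = 4 := by decide +kernel

set_option maxRecDepth 100000 in
theorem center_cases : ∀ x : K23, (∀ g : K23, g * x = x * g) → x = 1 ∨ x = -1 := by
  decide +kernel

set_option maxRecDepth 100000 in
theorem card_K23 : Fintype.card K23 = 48 := by decide +kernel

set_option maxRecDepth 100000 in
theorem P0_mul : ∀ a b : K23, (a * r0 * a⁻¹ = r0 ∨ a * r0 * a⁻¹ = r0 ^ 3) →
    (b * r0 * b⁻¹ = r0 ∨ b * r0 * b⁻¹ = r0 ^ 3) →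
    ((a * b) * r0 * (a * b)⁻¹ = r0 ∨ (a * b) * r0 * (a * b)⁻¹ = r0 ^ 3) := by decide +kernel

set_option maxRecDepth 100000 in
theorem P0_inv : ∀ a : K23, (a * r0 * a⁻¹ = r0 ∨ a * r0 * a⁻¹ = r0 ^ 3) →
    (a⁻¹ * r0 * a⁻¹⁻¹ = r0 ∨ a⁻¹ * r0 * a⁻¹⁻¹ = r0 ^ 3) := by decide +kernel

/-- the Sylow `2`-subgroup `ΓL₁(9)` -/
def P0 : Subgroup K23 where
  carrier := {g | g * r0 * g⁻¹ = r0 ∨ g * r0 * g⁻¹ = r0 ^ 3}
  mul_mem' := fun {a b} ha hb => P0_mul a b ha hb
  one_mem' := Or.inl (by simp)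
  inv_mem' := fun {a} ha => P0_inv a ha

instance : DecidablePred (· ∈ P0) := fun g =>
  inferInstanceAs (Decidable (g * r0 * g⁻¹ = r0 ∨ g * r0 * g⁻¹ = r0 ^ 3))

set_option maxRecDepth 100000 in
theorem card_P0' : (Finset.univ.filter (fun g : K23 => g ∈ P0)).card = 16 := by decide +kernel

theorem card_P0 : Nat.card P0 = 16 := by
  rw [Nat.card_eq_fintype_card, Fintype.card_subtype]
  exact card_P0'

set_option maxRecDepth 100000 in
theorem P0_gen : ∀ g : K23, g ∈ P0 → ∃ i : Fin 8, ∃ j : Fin 2, g = r0 ^ (i : ℕ) * s0 ^ (j : ℕ) := by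
  decide +kernel

set_option maxRecDepth 100000 in
theorem r0_mem : r0 ∈ P0 := by decide +kernel

set_option maxRecDepth 100000 in
theorem s0_mem : s0 ∈ P0 := by decide +kernel

end Cfsg.Agent.Lead.GL23
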