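import Mathlib
import Cfsg.Agent.Lead.GL23Facts
import Cfsg.Agent.Lead.FusionSat3

set_option autoImplicit false

namespace Cfsg.Agent.Lead.GL23

open Matrix Cfsg.Agent.Lead

theorem natCard_K23 : Nat.card K23 = 48 := by
  rw [Nat.card_eq_fintype_card]; exact card_K23

/-- A non-central involution is not centralized by a subgroup of order 16. -/
theorem central_invol (P : Subgroup K23) (hP : Nat.card P = 16) (x : K23) (hxx : x * x = 1)
    (hx1 : x ≠ 1) (hc : ∀ g ∈ P, g * x = x * g) : x = -1 := by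
  by_contra hne
  have h4 := card_comm x hxx hx1 hne
  have h1 : Nat.card P ≤ Nat.card {g : K23 // g * x = x * g} :=
    Nat.card_le_card_of_injective (fun g : P => (⟨g.1, hc g.1 g.2⟩ : {g : K23 // g * x = x * g}))
      (fun a b hab => Subtype.ext (congrArg (fun t : {g : K23 // g * x = x * g} => t.1) hab))
  rw [Nat.card_eq_fintype_card (α := {g : K23 // g * x = x * g}), Fintype.card_subtype, h4, hP] at h1
  omega

/-- A subgroup of order 16 of `GL₂(3)` is self-normalizing. -/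
theorem normalizer_le (P : Subgroup K23) (hP : Nat.card P = 16) :
    Subgroup.normalizer (P : Set K23) ≤ P := by
  set N := Subgroup.normalizer (P : Set K23) with hN
  have hPN : P ≤ N := Subgroup.le_normalizer
  have h1 : Nat.card P ∣ Nat.card N := Subgroup.card_dvd_of_le hPN
  have h2 : Nat.card N ∣ 48 := natCard_K23 ▸ Subgroup.card_subgroup_dvd_card N
  rw [hP] at h1
  obtain ⟨m, hm⟩ := h1
  have hm3 : m ∣ 3 := by
    rw [hm] at h2
    have : 16 * m ∣ 16 * 3 := h2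
    exact (Nat.mul_dvd_mul_iff_left (by norm_num)).mp this
  rcases (Nat.dvd_prime Nat.prime_three).mp hm3 with rfl | rfl
  · have : P = N := Subgroup.eq_of_le_of_card_ge hPN (by rw [hm, hP])
    rw [← this]
  · exfalso
    have hNtop : N = ⊤ := Subgroup.eq_top_of_card_eq N (by rw [hm, natCard_K23])
    haveI hPn : P.Normal := Subgroup.normalizer_eq_top_iff.mp hNtop
    have hidx : P.index = 3 := by
      have := Subgroup.card_mul_index P
      rw [hP, natCard_K23] at this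
      omega
    have hsub : ∀ g : K23, g ^ 16 = 1 → g ∈ P := by
      intro g hg
      have h16 : (g : K23 ⧸ P) ^ 16 = 1 := by rw [← QuotientGroup.mk_pow, hg]; rfl
      have h3 : (g : K23 ⧸ P) ^ 3 = 1 := by
        have hc : Nat.card (K23 ⧸ P) = 3 := hidx
        have h := pow_card_eq_one' (G := K23 ⧸ P) (x := (g : K23 ⧸ P))
        rwa [hc] at h
      have h1 : (g : K23 ⧸ P) ^ Nat.gcd 16 3 = 1 := pow_gcd_eq_one.mpr ⟨h16, h3⟩
      have : Nat.gcd 16 3 = 1 := by norm_num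
      rw [this, pow_one] at h1
      exact (QuotientGroup.eq_one_iff g).mp h1
    have h1 : Nat.card {g : K23 // g ^ 16 = 1} ≤ Nat.card P :=
      Nat.card_le_card_of_injective (fun g : {g : K23 // g ^ 16 = 1} => (⟨g.1, hsub g.1 g.2⟩ : P))
        (fun a b hab => Subtype.ext (congrArg (fun t : P => t.1) hab))
    rw [Nat.card_eq_fintype_card (α := {g : K23 // g ^ 16 = 1}), Fintype.card_subtype,
      card_two_elts, hP] at h1
    omega

/-- The closure property: a subgroup `T` of a Sylow `2`-subgroup `P` of `GL₂(3)` containing the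
involutions of `P` and closed under conjugation inside `P` is `P`. -/
theorem closed_eq (P T : Subgroup K23) (hP : Nat.card P = 16)
    (hinv : ∀ x ∈ P, x * x = 1 → x ∈ T)
    (hcl : ∀ x ∈ T, ∀ k : K23, k * x * k⁻¹ ∈ P → k * x * k⁻¹ ∈ T) : P ≤ T := by
  haveI : Fact (Nat.Prime 2) := ⟨Nat.prime_two⟩
  have hfac : (Nat.card K23).factorization 2 = 4 := by
    rw [natCard_K23]
    have : (48 : ℕ) = 2 ^ 4 * 3 := by norm_num
    rw [this, Nat.factorization_mul (by norm_num) (by norm_num), Nat.factorization_pow]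
    simp only [Finsupp.coe_add, Finsupp.coe_smul, Pi.add_apply, Pi.smul_apply, smul_eq_mul]
    rw [Nat.Prime.factorization_self Nat.prime_two,
      Nat.factorization_eq_zero_of_not_dvd (by norm_num : ¬ 2 ∣ 3)]
  have hPc : Nat.card P = 2 ^ (Nat.card K23).factorization 2 := by rw [hfac, hP]; norm_num
  have hP0p : IsPGroup 2 P0 := IsPGroup.of_card (n := 4) (by rw [card_P0]; norm_num)
  obtain ⟨k₀, hk₀S⟩ := exists_conj_le_sylow (Sylow.ofCard P hPc) P0 hP0p
  have hk₀ : P0.map (MulAut.conj k₀).toMonoidHom ≤ P := hk₀S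
  have hk₀' : ∀ g ∈ P0, k₀ * g * k₀⁻¹ ∈ P := fun g hg => hk₀ ⟨g, hg, rfl⟩
  obtain ⟨hr8, hr4, hss, hsr, hsr2⟩ := rels
  obtain ⟨k', hk'⟩ := exists_conj
  have cj : ∀ a b : K23, k₀ * (a * b) * k₀⁻¹ = (k₀ * a * k₀⁻¹) * (k₀ * b * k₀⁻¹) := by
    intro a b; group
  -- the conjugated generators
  have hsP : k₀ * s0 * k₀⁻¹ ∈ P := hk₀' s0 s0_mem
  have hrP : k₀ * r0 * k₀⁻¹ ∈ P := hk₀' r0 r0_mem
  have hsT : k₀ * s0 * k₀⁻¹ ∈ T := by
    apply hinv _ hsP
    rw [← cj, hss]; group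
  have hsr2P : k₀ * (s0 * r0 ^ 2) * k₀⁻¹ ∈ P :=
    hk₀' _ (P0.mul_mem s0_mem (P0.pow_mem r0_mem 2))
  have hsr2T : k₀ * (s0 * r0 ^ 2) * k₀⁻¹ ∈ T := by
    apply hinv _ hsr2P
    rw [← cj, hsr2]; group
  have hr2T : k₀ * r0 ^ 2 * k₀⁻¹ ∈ T := by
    have := T.mul_mem hsT hsr2T
    have e : s0 * (s0 * r0 ^ 2) = r0 ^ 2 := by rw [← mul_assoc, hss, one_mul]
    rw [← cj, e] at this
    exact this
  have hsrT : k₀ * (s0 * r0) * k₀⁻¹ ∈ T := by
    have hP' : k₀ * (s0 * r0) * k₀⁻¹ ∈ P := hk₀' _ (P0.mul_mem s0_mem r0_mem)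
    have e : (k₀ * k' * k₀⁻¹) * (k₀ * r0 ^ 2 * k₀⁻¹) * (k₀ * k' * k₀⁻¹)⁻¹ =
        k₀ * (s0 * r0) * k₀⁻¹ := by
      rw [← hk']; group
    have := hcl _ hr2T (k₀ * k' * k₀⁻¹) (by rw [e]; exact hP')
    rwa [e] at this
  have hrT : k₀ * r0 * k₀⁻¹ ∈ T := by
    have := T.mul_mem hsT hsrT
    have e : s0 * (s0 * r0) = r0 := by rw [← mul_assoc, hss, one_mul]
    rw [← cj, e] at this
    exact this
  -- `P` is the conjugate of `P0`
  have hPeq : P0.map (MulAut.conj k₀).toMonoidHom = P := by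
    apply Subgroup.eq_of_le_of_card_ge hk₀
    rw [card_map_conj, card_P0, hP]
  intro y hy
  rw [← hPeq] at hy
  obtain ⟨g, hg, rfl⟩ := hy
  obtain ⟨i, j, rfl⟩ := P0_gen g hg
  show k₀ * (r0 ^ (i : ℕ) * s0 ^ (j : ℕ)) * k₀⁻¹ ∈ T
  rw [cj]
  apply T.mul_mem
  · have : k₀ * r0 ^ (i : ℕ) * k₀⁻¹ = (k₀ * r0 * k₀⁻¹) ^ (i : ℕ) := by rw [conj_pow]
    rw [this]; exact T.pow_mem hrT _
  · have : k₀ * s0 ^ (j : ℕ) * k₀⁻¹ = (k₀ * s0 * k₀⁻¹) ^ (j : ℕ) := by rw [conj_pow]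
    rw [this]; exact T.pow_mem hsT _

end Cfsg.Agent.Lead.GL23
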