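import Mathlib
import Cfsg.Prelude.Def_FusionSystem
import Cfsg.Agent.Lead.GL23Struct
import Cfsg.Agent.Lead.SimpleCritB

set_option autoImplicit false

namespace Cfsg.Agent.Lead.GL23

open Matrix Cfsg Cfsg.FusionSystem Cfsg.Agent.Lead

/-- A finite group with Sylow `2`-subgroups of order `16`, one class of involutions and all
involution centralizers isomorphic to `GL₂(3)` has a simple `2`-fusion system. -/
theorem simple_of_pattern {G : Type*} [Group G] [Finite G]
    (hfac : (Nat.card G).factorization 2 = 4)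
    (hconj : ∀ a b : G, orderOf a = 2 → orderOf b = 2 → IsConj a b)
    (hcent : ∀ a : G, orderOf a = 2 →
      Nonempty (↥(Subgroup.centralizer ({a} : Set G)) ≃* K23))
    (S : Sylow 2 G) : (groupFusionSystem (S : Subgroup G)).IsSimple 2 := by
  haveI : Fact (Nat.Prime 2) := ⟨Nat.prime_two⟩
  set F := groupFusionSystem (S : Subgroup G) with hFdef
  have hS : IsPGroup 2 (S : Subgroup G) := S.isPGroup'
  have hScard : Nat.card (S : Subgroup G) = 16 := by
    rw [S.card_eq_multiplicity, hfac]; norm_num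
  have hS1 : (S : Subgroup G) ≠ ⊥ := by
    intro h
    rw [h, Subgroup.card_bot] at hScard
    omega
  -- a central involution of `S`
  obtain ⟨z, hzS, hz2, hzc⟩ : ∃ z : G, z ∈ (S : Subgroup G) ∧ orderOf z = 2 ∧
      ∀ x ∈ (S : Subgroup G), x * z = z * x := by
    haveI : Nontrivial (S : Subgroup G) := by
      rw [← Finite.one_lt_card_iff_nontrivial, hScard]; norm_num
    haveI := hS.center_nontrivial
    have hZp : IsPGroup 2 (Subgroup.center (S : Subgroup G)) := hS.to_subgroup _
    obtain ⟨j, hj⟩ := IsPGroup.iff_card.mp hZp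
    have hj0 : j ≠ 0 := by
      rintro rfl
      rw [pow_zero] at hj
      have := Finite.one_lt_card_iff_nontrivial.mpr
        (inferInstance : Nontrivial (Subgroup.center (S : Subgroup G)))
      omega
    have hdvd : 2 ∣ Nat.card (Subgroup.center (S : Subgroup G)) := by
      rw [hj]; exact dvd_pow_self 2 hj0
    obtain ⟨x, hx⟩ := exists_prime_orderOf_dvd_card' (G := Subgroup.center (S : Subgroup G)) 2 hdvd
    refine ⟨x.1.1, x.1.2, ?_, ?_⟩
    · have h1 : orderOf (x.1.1) = orderOf x := by
        rw [Subgroup.orderOf_coe, Subgroup.orderOf_coe]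
      exact h1.trans hx
    · intro y hy
      have := Subgroup.mem_center_iff.mp x.2 ⟨y, hy⟩
      exact congrArg Subtype.val this
  have hz1 : z ≠ 1 := by
    rintro rfl
    rw [orderOf_one] at hz2; omega
  have hzz : z * z = 1 := by
    have := pow_orderOf_eq_one z
    rwa [hz2, pow_two] at this
  set C := Subgroup.centralizer ({z} : Set G) with hC
  have hSC : (S : Subgroup G) ≤ C := by
    intro x hx
    exact Subgroup.mem_centralizer_singleton_iff.mpr (hzc x hx)
  obtain ⟨f⟩ := hcent z hz2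
  set P : Subgroup K23 := ((S : Subgroup G).subgroupOf C).map f.toMonoidHom with hP
  have hPcard : Nat.card P = 16 := by
    rw [hP, Subgroup.card_map_of_injective f.injective, card_subgroupOf_of_le hSC, hScard]
  have hmemP : ∀ (x : G) (hx : x ∈ (S : Subgroup G)), f ⟨x, hSC hx⟩ ∈ P := fun x hx =>
    ⟨⟨x, hSC hx⟩, hx, rfl⟩
  have hPmem : ∀ y ∈ P, ∃ (x : G) (hx : x ∈ (S : Subgroup G)), f ⟨x, hSC hx⟩ = y := by
    rintro y ⟨c, hc, rfl⟩
    exact ⟨c.1, hc, rfl⟩
  have hzC : z ∈ C := hSC hzS
  -- `f z = -1`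
  have hfz : f ⟨z, hzC⟩ = -1 := by
    have hcen : ∀ g : K23, g * f ⟨z, hzC⟩ = f ⟨z, hzC⟩ * g := by
      intro g
      obtain ⟨c, rfl⟩ := f.surjective g
      rw [← map_mul, ← map_mul]
      congr 1
      apply Subtype.ext
      exact Subgroup.mem_centralizer_singleton_iff.mp c.2
    rcases center_cases _ hcen with h | h
    · exfalso
      apply hz1
      have : (⟨z, hzC⟩ : C) = 1 := f.injective (by rw [h, map_one])
      exact congrArg Subtype.val this
    · exact h
  -- uniqueness of the central involution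
  have huniq : ∀ z' : G, z' ∈ (S : Subgroup G) → z' * z' = 1 → z' ≠ 1 →
      (∀ x ∈ (S : Subgroup G), x * z' = z' * x) → z' = z := by
    intro z' hz'S hz'z' hz'1 hz'c
    have h1 : f ⟨z', hSC hz'S⟩ = -1 := by
      apply central_invol P hPcard
      · rw [← map_mul]
        have : (⟨z', hSC hz'S⟩ : C) * ⟨z', hSC hz'S⟩ = 1 := Subtype.ext hz'z'
        rw [this, map_one]
      · intro h
        apply hz'1
        have : (⟨z', hSC hz'S⟩ : C) = 1 := f.injective (by rw [h, map_one])
        exact congrArg Subtype.val this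
      · intro g hg
        obtain ⟨x, hx, rfl⟩ := hPmem g hg
        rw [← map_mul, ← map_mul]
        congr 1
        exact Subtype.ext (hz'c x hx)
    have : (⟨z', hSC hz'S⟩ : C) = ⟨z, hzC⟩ := f.injective (by rw [h1, hfz])
    exact congrArg Subtype.val this
  -- (C1) `N_G(S) ≤ S`
  have hNS : Subgroup.normalizer ((S : Subgroup G) : Set G) ≤ (S : Subgroup G) := by
    intro n hn
    have hnc : ∀ x ∈ (S : Subgroup G), n * x * n⁻¹ ∈ (S : Subgroup G) := fun x hx =>
      (Subgroup.mem_normalizer_iff.mp hn x).mp hx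
    have hnc' : ∀ x ∈ (S : Subgroup G), n⁻¹ * x * n ∈ (S : Subgroup G) := fun x hx => by
      have := (Subgroup.mem_normalizer_iff.mp (inv_mem hn) x).mp hx
      rwa [inv_inv] at this
    have hz' : n * z * n⁻¹ = z := by
      apply huniq _ (hnc z hzS)
      · calc n * z * n⁻¹ * (n * z * n⁻¹) = n * (z * z) * n⁻¹ := by group
          _ = 1 := by rw [hzz]; group
      · intro h
        apply hz1
        have : z = n⁻¹ * (n * z * n⁻¹) * n := by group
        rw [this, h]; group
      · intro x hx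
        have h1 := hzc _ (hnc' x hx)
        calc x * (n * z * n⁻¹) = n * ((n⁻¹ * x * n) * z) * n⁻¹ := by group
          _ = n * (z * (n⁻¹ * x * n)) * n⁻¹ := by rw [h1]
          _ = n * z * n⁻¹ * x := by group
    have hnC : n ∈ C := by
      apply Subgroup.mem_centralizer_singleton_iff.mpr
      calc n * z = (n * z * n⁻¹) * n := by group
        _ = z * n := by rw [hz']
    have hfn : f ⟨n, hnC⟩ ∈ Subgroup.normalizer (P : Set K23) := by
      haveI : Finite P := inferInstance
      apply mem_normalizer_of_conj_mem_of_finite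
      intro y hy
      obtain ⟨x, hx, rfl⟩ := hPmem y hy
      have := hmemP _ (hnc x hx)
      convert this using 1
      rw [← map_inv, ← map_mul, ← map_mul]
      rfl
    obtain ⟨x, hx, hfx⟩ := hPmem _ (normalizer_le P hPcard hfn)
    have : (⟨x, hSC hx⟩ : C) = ⟨n, hnC⟩ := f.injective hfx
    have hxn : x = n := congrArg Subtype.val this
    rw [← hxn]; exact hx
  -- `Aut_F(S) = Inn(S)`
  have hF : F.IsSaturated 2 := Cfsg.Agent.S5076.result 2 S
  have hinn : F.autGroup (S : Subgroup G) = Inn (S : Subgroup G) := by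
    apply le_antisymm
    · intro α hα
      rw [hFdef, Cfsg.Agent.S5076.autGroup_groupFusionSystem (S : Subgroup G) (S : Subgroup G) le_rfl,
        mem_autInducedBy_iff] at hα
      obtain ⟨g, -, hg⟩ := hα
      have hgN : g ∈ Subgroup.normalizer ((S : Subgroup G) : Set G) :=
        mem_normalizer_of_conj_eq_aut _ α g hg
      refine ⟨⟨g, hNS hgN⟩, ?_⟩
      ext x
      rw [hg]
      rfl
    · exact (Fusion.inn_le_autInducedBy le_rfl).trans (Fusion.autInducedBy_le_autGroup F le_rfl)
  apply SimpCrit.main 2 S hS1 ?_ (SimpCrit.hb_of_autGroup_eq_inn 2 S hinn)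
  -- (C2) strongly closed subgroups
  intro T hT
  by_cases hT0 : T = ⊥
  · exact Or.inl hT0
  right
  apply le_antisymm hT.1
  have hTp : IsPGroup 2 T := hS.to_le hT.1
  obtain ⟨j, hj⟩ := IsPGroup.iff_card.mp hTp
  have hj0 : j ≠ 0 := by
    rintro rfl
    rw [pow_zero] at hj
    exact hT0 (Subgroup.card_eq_one.mp hj)
  have heven : Even (Nat.card T) := by
    rw [hj]
    exact (Nat.even_pow.mpr ⟨even_two, hj0⟩)
  obtain ⟨t, htT, ht2⟩ := Cfsg.Agent.Helper2.exists_invol_of_even_card T heven
  -- closure of `T` under conjugation inside `S`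
  have hclG : ∀ x ∈ T, ∀ g : G, g * x * g⁻¹ ∈ (S : Subgroup G) → g * x * g⁻¹ ∈ T := by
    intro x hxT g hgx
    have hle : Subgroup.zpowers x ≤ T := Subgroup.zpowers_le.mpr hxT
    have hφ : conjHom (Subgroup.zpowers x) g ∈ F.Hom (Subgroup.zpowers x) := by
      refine ⟨hle.trans hT.1, ?_, g, fun y => rfl⟩
      rintro ⟨y, hy⟩
      obtain ⟨i, rfl⟩ := Subgroup.mem_zpowers_iff.mp hy
      show g * x ^ i * g⁻¹ ∈ (S : Subgroup G)
      rw [← conj_zpow]
      exact Subgroup.zpow_mem _ hgx i
    exact hT.2 (Subgroup.zpowers x) hle _ hφ ⟨x, Subgroup.mem_zpowers x⟩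
  have hinvol : ∀ s : G, s ∈ (S : Subgroup G) → orderOf s = 2 → s ∈ T := by
    intro s hsS hs2
    obtain ⟨g, hg⟩ := isConj_iff.mp (hconj t s ht2 hs2)
    have := hclG t htT g (by rw [hg]; exact hsS)
    rwa [hg] at this
  have hTS : T ≤ (S : Subgroup G) := hT.1
  set T' : Subgroup K23 := (T.subgroupOf C).map f.toMonoidHom with hT'
  have hPT' : P ≤ T' := by
    apply closed_eq P T' hPcard
    · intro y hy hyy
      obtain ⟨x, hx, rfl⟩ := hPmem y hy
      by_cases hx1 : x = 1
      · subst hx1
        have : (⟨1, hSC hx⟩ : C) = 1 := rfl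
        rw [this, map_one]
        exact T'.one_mem
      · have hxx : x * x = 1 := by
          have h1 : f (⟨x, hSC hx⟩ * ⟨x, hSC hx⟩) = f 1 := by rw [map_mul, hyy, map_one]
          exact congrArg Subtype.val (f.injective h1)
        have hx2 : orderOf x = 2 := orderOf_eq_prime (by rw [pow_two]; exact hxx) hx1
        exact ⟨⟨x, hSC hx⟩, hinvol x hx hx2, rfl⟩
    · rintro y ⟨c, hc, rfl⟩ k hk
      obtain ⟨d, rfl⟩ := f.surjective k
      obtain ⟨x, hx, hfx⟩ := hPmem _ hk
      have hcT : c.1 ∈ T := hc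
      have e1 : f d * f c * (f d)⁻¹ = f (d * c * d⁻¹) := by
        rw [map_mul, map_mul, map_inv]
      have e2 : (⟨x, hSC hx⟩ : C) = d * c * d⁻¹ := f.injective (by rw [hfx]; exact e1)
      have e3 : x = d.1 * c.1 * d.1⁻¹ := congrArg Subtype.val e2
      have hmem := hclG c.1 hcT d.1 (by rw [← e3]; exact hx)
      refine ⟨d * c * d⁻¹, ?_, e1.symm⟩
      exact hmem
  intro x hx
  obtain ⟨c, hc, hfc⟩ := hPT' (hmemP x hx)
  have : c = ⟨x, hSC hx⟩ := f.injective hfc
  have hcx : c.1 = x := congrArg Subtype.val this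
  rw [← hcx]
  exact hc

end Cfsg.Agent.Lead.GL23
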