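import Mathlib

/-!
Lead library: involutions of `GL₃(F)` (odd characteristic): eigenbasis of an involution, conjugation of a
determinant-one involution to `diag(-1,-1,1)`, and the block shape of its commutant.
-/

set_option autoImplicit false

namespace Cfsg.Agent.Lead.GL3Inv

open Module

/-- An involution of a finite-dimensional space (over a field in which `2 ≠ 0`) has an eigenbasis. -/
theorem exists_basis_involution {F V : Type*} [Field F] [AddCommGroup V] [Module F V]
    [FiniteDimensional F V] (h2 : (2 : F) ≠ 0) (T : V →ₗ[F] V) (hT : ∀ v, T (T v) = v) :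
    ∃ (n m : ℕ) (b : Basis (Fin n ⊕ Fin m) F V),
      (∀ i, T (b (Sum.inl i)) = b (Sum.inl i)) ∧ (∀ j, T (b (Sum.inr j)) = - b (Sum.inr j)) := by
  set Vp : Submodule F V := LinearMap.ker (T - LinearMap.id) with hVp
  set Vm : Submodule F V := LinearMap.ker (T + LinearMap.id) with hVm
  have hmemp : ∀ v, v ∈ Vp ↔ T v = v := by
    intro v
    rw [hVp, LinearMap.mem_ker, LinearMap.sub_apply, LinearMap.id_apply, sub_eq_zero]
  have hmemm : ∀ v, v ∈ Vm ↔ T v = -v := by
    intro v
    rw [hVm, LinearMap.mem_ker, LinearMap.add_apply, LinearMap.id_apply, add_eq_zero_iff_eq_neg]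
  have hc : IsCompl Vp Vm := by
    constructor
    · rw [Submodule.disjoint_def]
      intro v hp hm
      have h1 := (hmemp v).mp hp
      have h3 := (hmemm v).mp hm
      have h4 : (2 : F) • v = 0 := by
        rw [two_smul]
        nth_rewrite 1 [← h1]
        rw [h3]
        simp
      exact (smul_eq_zero.mp h4).resolve_left h2
    · rw [codisjoint_iff, eq_top_iff]
      intro v _
      have hv : v = (2 : F)⁻¹ • (v + T v) + (2 : F)⁻¹ • (v - T v) := by
        rw [← smul_add]
        have h5 : v + T v + (v - T v) = (2 : F) • v := by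
          rw [two_smul]; abel
        rw [h5, smul_smul, inv_mul_cancel₀ h2, one_smul]
      rw [hv]
      apply Submodule.add_mem_sup
      · apply Submodule.smul_mem
        rw [hmemp, map_add, hT, add_comm]
      · apply Submodule.smul_mem
        rw [hmemm, map_sub, hT]
        abel
  let bp := Module.finBasis F Vp
  let bm := Module.finBasis F Vm
  let b := (bp.prod bm).map (Submodule.prodEquivOfIsCompl Vp Vm hc)
  refine ⟨_, _, b, ?_, ?_⟩
  · intro i
    have hb : b (Sum.inl i) = (bp i : V) := by
      simp [b]
    rw [hb]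
    exact (hmemp _).mp (bp i).2
  · intro j
    have hb : b (Sum.inr j) = (bm j : V) := by
      simp [b]
    rw [hb]
    exact (hmemm _).mp (bm j).2

variable {F : Type*} [Field F]

/-- explicit equivalence `Fin 1 ⊕ Fin 2 ≃ Fin 3` putting the `Fin 2` part first. -/
def sumEquiv : Fin 1 ⊕ Fin 2 ≃ Fin 3 where
  toFun := Sum.elim (fun _ => 2) (fun j => Fin.castSucc j)
  invFun := ![Sum.inr 0, Sum.inr 1, Sum.inl 0]
  left_inv := by
    intro x
    rcases x with x | x
    · fin_cases x; rfl
    · fin_cases x <;> rfl
  right_inv := by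
    intro x
    fin_cases x <;> rfl

theorem exists_conj_diag (h2 : (2 : F) ≠ 0) (t : Matrix (Fin 3) (Fin 3) F) (ht2 : t * t = 1)
    (ht1 : t ≠ 1) (hdet : t.det = 1) :
    ∃ g : Matrix (Fin 3) (Fin 3) F, IsUnit g.det ∧ t * g = g * Matrix.diagonal ![-1, -1, 1] := by
  classical
  set T : (Fin 3 → F) →ₗ[F] (Fin 3 → F) := Matrix.toLin' t with hTdef
  have hT : ∀ v, T (T v) = v := by
    intro v
    rw [hTdef, Matrix.toLin'_apply, Matrix.toLin'_apply, Matrix.mulVec_mulVec, ht2, Matrix.one_mulVec]
  obtain ⟨n, m, b, hb1, hb2⟩ := exists_basis_involution h2 T hT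
  have hnm : n + m = 3 := by
    have h := Module.finrank_eq_card_basis b
    rw [Module.finrank_fin_fun, Fintype.card_sum, Fintype.card_fin, Fintype.card_fin] at h
    exact h.symm
  have hmat : LinearMap.toMatrix b b T =
      Matrix.diagonal (Sum.elim (fun _ : Fin n => (1 : F)) (fun _ : Fin m => (-1 : F))) := by
    ext i j
    rw [LinearMap.toMatrix_apply]
    rcases j with j | j
    · rw [hb1, Basis.repr_self, Matrix.diagonal_apply, Finsupp.single_apply]
      by_cases h : Sum.inl j = i
      · subst h; simp
      · rw [if_neg h, if_neg (fun h' => h h'.symm)]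
    · rw [hb2, map_neg, Basis.repr_self, Matrix.diagonal_apply, Finsupp.neg_apply, Finsupp.single_apply]
      by_cases h : Sum.inr j = i
      · subst h; simp
      · rw [if_neg h, if_neg (fun h' => h h'.symm)]; simp
  have hdet' : (-1 : F) ^ m = 1 := by
    have h := LinearMap.det_toMatrix b T
    rw [hmat, hTdef, LinearMap.det_toLin', hdet, Matrix.det_diagonal, Fintype.prod_sum_type] at h
    simpa using h
  have hneg : (-1 : F) ≠ 1 := by
    intro h
    apply h2
    have : (1 : F) + 1 = 0 := by nth_rewrite 1 [← h]; simp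
    rw [← one_add_one_eq_two]; exact this
  have hm0 : m ≠ 0 := by
    rintro rfl
    apply ht1
    have hid : T = LinearMap.id := by
      apply b.ext
      intro k
      rcases k with k | k
      · rw [hb1, LinearMap.id_apply]
      · exact k.elim0
    have : Matrix.toLin' t = Matrix.toLin' (1 : Matrix (Fin 3) (Fin 3) F) := by
      rw [← hTdef, hid, Matrix.toLin'_one]
    exact Matrix.toLin'.injective this
  have hm2 : m = 2 := by
    have hle : m ≤ 3 := by omega
    interval_cases m
    · exact absurd rfl hm0
    · exfalso; apply hneg; simpa using hdet'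
    · rfl
    · exfalso; apply hneg
      have : (-1 : F) ^ 3 = -1 := by ring
      rw [this] at hdet'; exact hdet'
  subst hm2
  obtain rfl : n = 1 := by omega
  set b' : Basis (Fin 3) F (Fin 3 → F) := b.reindex sumEquiv with hb'
  refine ⟨(Pi.basisFun F (Fin 3)).toMatrix b', ?_, ?_⟩
  · have := Basis.invertibleToMatrix (Pi.basisFun F (Fin 3)) b'
    exact Matrix.isUnit_det_of_invertible _
  · have hcol : ∀ j : Fin 3, t.mulVec (b' j) = (![-1, -1, 1] : Fin 3 → F) j • b' j := by
      intro j
      have h0 : t.mulVec (b' j) = T (b' j) := by rw [hTdef, Matrix.toLin'_apply]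
      rw [h0, hb', Basis.reindex_apply]
      fin_cases j
      · show T (b (Sum.inr 0)) = _
        rw [hb2]; simp; rfl
      · show T (b (Sum.inr 1)) = _
        rw [hb2]; simp; rfl
      · show T (b (Sum.inl 0)) = _
        rw [hb1]; simp; rfl
    ext i j
    rw [Matrix.mul_diagonal, Matrix.mul_apply]
    have h1 : ∀ k, (Pi.basisFun F (Fin 3)).toMatrix b' k j = b' j k := by
      intro k
      rw [Basis.toMatrix_apply, Pi.basisFun_repr]
    simp_rw [h1]
    have h3 := congrFun (hcol j) i
    rw [Matrix.mulVec, dotProduct] at h3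
    rw [h3, Pi.smul_apply, smul_eq_mul, mul_comm]

end Cfsg.Agent.Lead.GL3Inv
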