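import Mathlib
import Cfsg.Agent.Lead.GL3InvA

/-!
Lead library: block-shaped `3 × 3` matrices (the commutant of `diag(-1,-1,1)`), and the `2 × 2` lemma:
an involution of determinant one is `± 1`.
-/

set_option autoImplicit false

namespace Cfsg.Agent.Lead.GL3Inv

variable {F : Type*} [Field F]

/-- the diagonal matrix `diag(-1,-1,1)` -/
def dm (F : Type*) [Field F] : Matrix (Fin 3) (Fin 3) F := Matrix.diagonal ![-1, -1, 1]

/-- block shape `GL₂ × GL₁` -/
def IsBlk (M : Matrix (Fin 3) (Fin 3) F) : Prop := M 0 2 = 0 ∧ M 1 2 = 0 ∧ M 2 0 = 0 ∧ M 2 1 = 0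

/-- upper left block -/
def ul (M : Matrix (Fin 3) (Fin 3) F) : Matrix (Fin 2) (Fin 2) F := !![M 0 0, M 0 1; M 1 0, M 1 1]

theorem isBlk_of_commute (h2 : (2 : F) ≠ 0) (M : Matrix (Fin 3) (Fin 3) F)
    (h : M * dm F = dm F * M) : IsBlk M := by
  have key : ∀ a : F, a * 1 = -1 * a → a = 0 := by
    intro a ha
    have : (2 : F) * a = 0 := by linear_combination ha
    exact (mul_eq_zero.mp this).resolve_left h2
  have key' : ∀ a : F, a * -1 = 1 * a → a = 0 := by
    intro a ha
    have : (2 : F) * a = 0 := by linear_combination -ha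
    exact (mul_eq_zero.mp this).resolve_left h2
  unfold dm at h
  refine ⟨?_, ?_, ?_, ?_⟩
  · have := congrFun (congrFun h 0) 2
    rw [Matrix.mul_diagonal, Matrix.diagonal_mul] at this
    exact key _ (by simpa using this)
  · have := congrFun (congrFun h 1) 2
    rw [Matrix.mul_diagonal, Matrix.diagonal_mul] at this
    exact key _ (by simpa using this)
  · have := congrFun (congrFun h 2) 0
    rw [Matrix.mul_diagonal, Matrix.diagonal_mul] at this
    exact key' _ (by simpa using this)
  · have := congrFun (congrFun h 2) 1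
    rw [Matrix.mul_diagonal, Matrix.diagonal_mul] at this
    exact key' _ (by simpa using this)

theorem isBlk_dm : IsBlk (dm F) := by
  unfold IsBlk dm
  refine ⟨?_, ?_, ?_, ?_⟩ <;> simp

theorem ul_dm : ul (dm F) = -1 := by
  unfold ul dm
  ext i j
  fin_cases i <;> fin_cases j <;> simp

theorem dm_22 : dm F 2 2 = 1 := by
  unfold dm
  simp

theorem isBlk_one : IsBlk (1 : Matrix (Fin 3) (Fin 3) F) := by
  unfold IsBlk
  refine ⟨?_, ?_, ?_, ?_⟩ <;> simp

theorem ul_one : ul (1 : Matrix (Fin 3) (Fin 3) F) = 1 := by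
  unfold ul
  ext i j
  fin_cases i <;> fin_cases j <;> simp

theorem IsBlk.mul_22 {M : Matrix (Fin 3) (Fin 3) F} (hM : IsBlk M) (N : Matrix (Fin 3) (Fin 3) F) :
    (M * N) 2 2 = M 2 2 * N 2 2 := by
  obtain ⟨-, -, h20, h21⟩ := hM
  rw [Matrix.mul_apply, Fin.sum_univ_three, h20, h21]
  ring

theorem IsBlk.ul_mul {M N : Matrix (Fin 3) (Fin 3) F} (hM : IsBlk M) :
    ul (M * N) = ul M * ul N := by
  obtain ⟨h02, h12, -, -⟩ := hM
  unfold ul
  ext i j
  fin_cases i <;> fin_cases j <;>
    simp [Matrix.mul_apply, Fin.sum_univ_three, Fin.sum_univ_two, h02, h12]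

theorem IsBlk.det {M : Matrix (Fin 3) (Fin 3) F} (hM : IsBlk M) : M.det = (ul M).det * M 2 2 := by
  obtain ⟨h02, h12, h20, h21⟩ := hM
  rw [Matrix.det_fin_three, Matrix.det_fin_two, h02, h12, h20, h21]
  unfold ul
  simp
  ring

theorem IsBlk.ext' {M N : Matrix (Fin 3) (Fin 3) F} (hM : IsBlk M) (hN : IsBlk N)
    (h1 : ul M = ul N) (h2 : M 2 2 = N 2 2) : M = N := by
  obtain ⟨h02, h12, h20, h21⟩ := hM
  obtain ⟨k02, k12, k20, k21⟩ := hN
  have e00 : M 0 0 = N 0 0 := by have := congrFun (congrFun h1 0) 0; simpa [ul] using this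
  have e01 : M 0 1 = N 0 1 := by have := congrFun (congrFun h1 0) 1; simpa [ul] using this
  have e10 : M 1 0 = N 1 0 := by have := congrFun (congrFun h1 1) 0; simpa [ul] using this
  have e11 : M 1 1 = N 1 1 := by have := congrFun (congrFun h1 1) 1; simpa [ul] using this
  ext i j
  fin_cases i <;> fin_cases j <;> simp_all

/-- a `2 × 2` involution of determinant one is `± 1` -/
theorem two_lemma (h2 : (2 : F) ≠ 0) (A : Matrix (Fin 2) (Fin 2) F) (hA : A * A = 1)
    (hd : A.det = 1) : A = 1 ∨ A = -1 := by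
  have e00 := congrFun (congrFun hA 0) 0
  have e01 := congrFun (congrFun hA 0) 1
  have e10 := congrFun (congrFun hA 1) 0
  have e11 := congrFun (congrFun hA 1) 1
  simp only [Matrix.mul_apply, Fin.sum_univ_two, Matrix.one_apply] at e00 e01 e10 e11
  rw [Matrix.det_fin_two] at hd
  simp at e00 e01 e10 e11
  set a := A 0 0
  set b := A 0 1
  set c := A 1 0
  set d := A 1 1
  have h1 : a * (a + d) = 2 := by linear_combination e00 + hd
  have had : a + d ≠ 0 := by
    intro h; rw [h, mul_zero] at h1; exact h2 h1.symm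
  have hb : b = 0 := by
    have : b * (a + d) = 0 := by linear_combination e01
    exact (mul_eq_zero.mp this).resolve_right had
  have hc : c = 0 := by
    have : c * (a + d) = 0 := by linear_combination e10
    exact (mul_eq_zero.mp this).resolve_right had
  have ha2 : a * a = 1 := by rw [hb] at e00; simpa using e00
  have hadp : a * d = 1 := by rw [hb] at hd; simpa using hd
  have hda : d = a := by
    have ha0 : a ≠ 0 := by intro h; rw [h] at ha2; simp at ha2
    have : a * d = a * a := by rw [hadp, ha2]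
    exact mul_left_cancel₀ ha0 this
  rcases mul_self_eq_one_iff.mp ha2 with h | h
  · left
    ext i j
    fin_cases i <;> fin_cases j <;> simp
    · exact h
    · exact hb
    · exact hc
    · show d = 1; rw [hda, h]
  · right
    ext i j
    fin_cases i <;> fin_cases j <;> simp
    · exact h
    · exact hb
    · exact hc
    · show d = -1; rw [hda, h]

end Cfsg.Agent.Lead.GL3Inv
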