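import Mathlib
import Cfsg.Agent.Lead.GL3InvB

/-!
Lead library: a finite group `X` embedded in `GL₃(F)` (with `2 ≠ 0` in `F`) having a central involution `t` of
determinant one: block form, the character `lam` on the one-dimensional part, and consequences:
* if `X` is a nonabelian `2`-group then `t` lies in the commutator subgroup of `X`;
* if `X` has a subgroup of order `8` and exponent `2` then `X` has a central involution of determinant `-1`.
-/

set_option autoImplicit false

namespace Cfsg.Agent.Lead.GL3Inv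

open Matrix

variable {F : Type*} [Field F] {X : Type*} [Group X]

theorem units_mul_self (u : Fˣ) (h : u * u = 1) : u = 1 ∨ u = -1 := by
  have h1 : (u : F) * (u : F) = 1 := by
    have := congrArg Units.val h
    simpa using this
  rcases mul_self_eq_one_iff.mp h1 with h2 | h2
  · left; exact Units.ext h2
  · right; exact Units.ext (by simpa using h2)

theorem units_neg_one_ne_one (h2 : (2 : F) ≠ 0) : (-1 : Fˣ) ≠ 1 := by
  intro h
  have h1 : (-1 : F) = 1 := by
    have := congrArg Units.val h
    simpa using this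
  apply h2
  have : (1 : F) + 1 = 0 := by nth_rewrite 1 [← h1]; simp
  rw [← one_add_one_eq_two]; exact this

/-- the determinant character -/
def mu (f : X →* GL (Fin 3) F) : X →* Fˣ := Matrix.GeneralLinearGroup.det.comp f

/-- Block-form data for an embedding `X → GL₃(F)`. -/
structure BlockData (F : Type*) [Field F] (X : Type*) [Group X] (f : X →* GL (Fin 3) F) (t : X) where
  f' : X →* GL (Fin 3) F
  inj : Function.Injective f'
  det_eq : ∀ x, Matrix.GeneralLinearGroup.det (f' x) = Matrix.GeneralLinearGroup.det (f x)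
  ft : ((f' t : GL (Fin 3) F) : Matrix (Fin 3) (Fin 3) F) = dm F
  blk : ∀ x, IsBlk ((f' x : GL (Fin 3) F) : Matrix (Fin 3) (Fin 3) F)

theorem exists_blockData (h2 : (2 : F) ≠ 0) (f : X →* GL (Fin 3) F) (hf : Function.Injective f)
    (t : X) (htc : t ∈ Subgroup.center X) (ht2 : t * t = 1) (ht1 : t ≠ 1)
    (hdet : Matrix.GeneralLinearGroup.det (f t) = 1) : Nonempty (BlockData F X f t) := by
  classical
  have hm2 : ((f t : GL (Fin 3) F) : Matrix (Fin 3) (Fin 3) F) * (f t : GL (Fin 3) F) = 1 := by
    rw [← Units.val_mul, ← map_mul, ht2, map_one, Units.val_one]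
  have hm1 : ((f t : GL (Fin 3) F) : Matrix (Fin 3) (Fin 3) F) ≠ 1 := by
    intro h
    apply ht1
    apply hf
    rw [map_one]
    exact Units.ext h
  have hmd : ((f t : GL (Fin 3) F) : Matrix (Fin 3) (Fin 3) F).det = 1 := by
    rw [← Matrix.GeneralLinearGroup.val_det_apply, hdet, Units.val_one]
  obtain ⟨g, hgu, hg⟩ := exists_conj_diag h2 _ hm2 hm1 hmd
  set gU : GL (Fin 3) F := Matrix.GeneralLinearGroup.mk'' g hgu with hgU
  have hgUv : ((gU : GL (Fin 3) F) : Matrix (Fin 3) (Fin 3) F) = g := rfl
  set f' : X →* GL (Fin 3) F := (MulAut.conj gU⁻¹).toMonoidHom.comp f with hf'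
  have hf'x : ∀ x, f' x = gU⁻¹ * f x * gU := by
    intro x
    simp [hf']
  have hft : ((f' t : GL (Fin 3) F) : Matrix (Fin 3) (Fin 3) F) = dm F := by
    rw [hf'x, mul_assoc, Units.val_mul, Units.val_mul, hgUv, hg, ← hgUv, ← Matrix.mul_assoc,
      ← Units.val_mul, inv_mul_cancel, Units.val_one, Matrix.one_mul]
    rfl
  refine ⟨⟨f', ?_, ?_, hft, ?_⟩⟩
  · intro x y hxy
    rw [hf'x, hf'x] at hxy
    apply hf
    exact mul_left_cancel (mul_right_cancel hxy)
  · intro x
    rw [hf'x, map_mul, map_mul, map_inv, mul_comm, ← mul_assoc, mul_inv_cancel, one_mul]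
  · intro x
    apply isBlk_of_commute h2
    rw [← hft, ← Units.val_mul, ← Units.val_mul, ← map_mul, ← map_mul]
    congr 2
    exact Subgroup.mem_center_iff.mp htc x

namespace BlockData

variable {f : X →* GL (Fin 3) F} {t : X} (d : BlockData F X f t)

/-- the character of `X` on the one-dimensional part, as a monoid homomorphism to `F` -/
def lam0 : X →* F where
  toFun x := ((d.f' x : GL (Fin 3) F) : Matrix (Fin 3) (Fin 3) F) 2 2
  map_one' := by simp
  map_mul' x y := by
    rw [map_mul, Units.val_mul, (d.blk x).mul_22]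

/-- the character of `X` on the one-dimensional part -/
def lam : X →* Fˣ := d.lam0.toHomUnits

theorem lam_val (x : X) : ((d.lam x : Fˣ) : F) = ((d.f' x : GL (Fin 3) F) : Matrix (Fin 3) (Fin 3) F) 2 2 := by
  unfold lam
  rw [MonoidHom.coe_toHomUnits]
  rfl

theorem mu_val (x : X) : ((mu f x : Fˣ) : F) = ((d.f' x : GL (Fin 3) F) : Matrix (Fin 3) (Fin 3) F).det := by
  unfold mu
  rw [MonoidHom.comp_apply, ← d.det_eq, Matrix.GeneralLinearGroup.val_det_apply]

/-- an involution with `mu = 1` and `lam = 1` is `1` or `t` -/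
theorem eq_one_or_eq_t (h2 : (2 : F) ≠ 0) (w : X) (hw2 : w * w = 1) (hmu : mu f w = 1) (hlam : d.lam w = 1) :
    w = 1 ∨ w = t := by
  set W := ((d.f' w : GL (Fin 3) F) : Matrix (Fin 3) (Fin 3) F) with hW
  have hWb : IsBlk W := d.blk w
  have hWW : W * W = 1 := by
    rw [hW, ← Units.val_mul, ← map_mul, hw2, map_one, Units.val_one]
  have hW22 : W 2 2 = 1 := by
    rw [hW, ← d.lam_val, hlam, Units.val_one]
  have hWd : W.det = 1 := by
    rw [hW, ← d.mu_val, hmu, Units.val_one]
  have hul2 : ul W * ul W = 1 := by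
    rw [← hWb.ul_mul, hWW, ul_one]
  have huld : (ul W).det = 1 := by
    have := hWb.det
    rw [hWd, hW22, mul_one] at this
    exact this.symm
  rcases two_lemma h2 (ul W) hul2 huld with h | h
  · left
    have : W = 1 := hWb.ext' isBlk_one (by rw [h, ul_one]) (by rw [hW22]; simp)
    apply d.inj
    rw [map_one]
    exact Units.ext this
  · right
    have : W = dm F := hWb.ext' isBlk_dm (by rw [h, ul_dm]) (by rw [hW22, dm_22])
    apply d.inj
    apply Units.ext
    rw [d.ft]
    exact this

end BlockData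

end Cfsg.Agent.Lead.GL3Inv
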