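import Mathlib
import Cfsg.Agent.Lead.GL3InvC

/-!
Lead library: consequences of the block form for a finite `2`-group `X` embedded in `GL₃(F)`:
* `mem_commutator_of_central`: a central involution of determinant one of a nonabelian `X` lies in `X'`;
* `exists_central_det_neg`: if `X` has a subgroup of order `8` and exponent `2`, it has a central involution of
  determinant `-1`.
-/

set_option autoImplicit false

namespace Cfsg.Agent.Lead.GL3Inv

open Matrix
open scoped commutatorElement

variable {F : Type*} [Field F] {X : Type*} [Group X]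

theorem IsBlk.mul {M N : Matrix (Fin 3) (Fin 3) F} (hM : IsBlk M) (hN : IsBlk N) : IsBlk (M * N) := by
  obtain ⟨h02, h12, h20, h21⟩ := hM
  obtain ⟨k02, k12, k20, k21⟩ := hN
  refine ⟨?_, ?_, ?_, ?_⟩ <;>
    simp [Matrix.mul_apply, Fin.sum_univ_three, h02, h12, h20, h21, k02, k12, k20, k21]

theorem commute_of_ul_scalar {W M : Matrix (Fin 3) (Fin 3) F} (hW : IsBlk W) (hM : IsBlk M)
    (h : ul W = 1 ∨ ul W = -1) : W * M = M * W := by
  apply (hW.mul hM).ext' (hM.mul hW)
  · rw [hW.ul_mul, hM.ul_mul]
    rcases h with h | h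
    · rw [h, one_mul, mul_one]
    · rw [h, neg_one_mul, mul_neg_one]
  · rw [hW.mul_22, hM.mul_22, mul_comm]

theorem mem_commutator_of_central [Finite X] (h2 : (2 : F) ≠ 0) (hX : IsPGroup 2 X)
    (f : X →* GL (Fin 3) F) (hf : Function.Injective f) (hna : ¬ ∀ a b : X, a * b = b * a)
    (t : X) (htc : t ∈ Subgroup.center X) (ht2 : t * t = 1) (ht1 : t ≠ 1) (hdet : mu f t = 1) :
    t ∈ commutator X := by
  classical
  obtain ⟨d⟩ := exists_blockData h2 f hf t htc ht2 ht1 hdet
  push Not at hna
  obtain ⟨a, b, hab⟩ := hna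
  have : Fact (Nat.Prime 2) := ⟨Nat.prime_two⟩
  have hKne : commutator X ≠ ⊥ := by
    intro h
    have hmem : ⁅a, b⁆ ∈ commutator X := by
      rw [commutator_def]
      exact Subgroup.commutator_mem_commutator (Subgroup.mem_top a) (Subgroup.mem_top b)
    rw [h, Subgroup.mem_bot, commutatorElement_eq_one_iff_mul_comm] at hmem
    exact hab hmem
  have hdvd : 2 ∣ Nat.card ↥(commutator X) := by
    obtain ⟨n, hn⟩ := (hX.to_subgroup (commutator X)).exists_card_eq
    rcases Nat.eq_zero_or_pos n with h0 | h0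
    · exfalso
      rw [h0, pow_zero] at hn
      exact hKne (Subgroup.card_eq_one.mp hn)
    · rw [hn]
      exact dvd_pow_self 2 (by omega)
  obtain ⟨w, hw⟩ := exists_prime_orderOf_dvd_card' 2 hdvd
  have hw2 : (w : X) * (w : X) = 1 := by
    have : w ^ 2 = 1 := by rw [← hw]; exact pow_orderOf_eq_one w
    have := congrArg Subtype.val this
    simpa [pow_two] using this
  have hw1 : (w : X) ≠ 1 := by
    intro h
    have : w = 1 := Subtype.ext h
    rw [this, orderOf_one] at hw
    omega
  have hmu : mu f (w : X) = 1 := MonoidHom.mem_ker.mp (Abelianization.commutator_subset_ker (mu f) w.2)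
  have hlam : d.lam (w : X) = 1 := MonoidHom.mem_ker.mp (Abelianization.commutator_subset_ker d.lam w.2)
  rcases d.eq_one_or_eq_t h2 (w : X) hw2 hmu hlam with h | h
  · exact absurd h hw1
  · rw [← h]; exact w.2

theorem exists_central_det_neg (h2 : (2 : F) ≠ 0)
    (f : X →* GL (Fin 3) F) (hf : Function.Injective f)
    (t : X) (htc : t ∈ Subgroup.center X) (ht2 : t * t = 1) (ht1 : t ≠ 1) (hdet : mu f t = 1)
    (E : Subgroup X) (hE8 : Nat.card E = 8) (hE2 : ∀ e ∈ E, e * e = 1) :
    ∃ c ∈ Subgroup.center X, c * c = 1 ∧ mu f c = -1 := by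
  classical
  obtain ⟨d⟩ := exists_blockData h2 f hf t htc ht2 ht1 hdet
  have : Finite ↥E := Nat.finite_of_card_ne_zero (by rw [hE8]; norm_num)
  have hneg := units_neg_one_ne_one h2
  set Ψ : ↥E →* Fˣ × Fˣ := ((mu f).prod d.lam).comp E.subtype with hΨ
  have hΨe : ∀ e : ↥E, Ψ e = (mu f (e : X), d.lam (e : X)) := fun _ => rfl
  have hval : ∀ e : ↥E, (mu f (e : X) = 1 ∨ mu f (e : X) = -1) ∧ (d.lam (e : X) = 1 ∨ d.lam (e : X) = -1) := by
    intro e
    constructor
    · apply units_mul_self
      rw [← map_mul, hE2 _ e.2, map_one]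
    · apply units_mul_self
      rw [← map_mul, hE2 _ e.2, map_one]
  -- the kernel has at most two elements
  have hker : ∀ e : ↥E, e ∈ Ψ.ker → (e : X) = 1 ∨ (e : X) = t := by
    intro e he
    rw [MonoidHom.mem_ker, hΨe, Prod.mk_eq_one] at he
    exact d.eq_one_or_eq_t h2 (e : X) (hE2 _ e.2) he.1 he.2
  have hkcard : Nat.card ↥Ψ.ker ≤ 2 := by
    have hinj : Function.Injective (fun e : ↥Ψ.ker => decide (((e : ↥E) : X) = 1)) := by
      intro e e' hee
      simp only [decide_eq_decide] at hee
      apply Subtype.ext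
      apply Subtype.ext
      rcases hker e e.2 with h | h <;> rcases hker e' e'.2 with h' | h'
      · rw [h, h']
      · exfalso; rw [h'] at hee; exact ht1 (hee.mp h)
      · exfalso; rw [h] at hee; exact ht1 (hee.mpr h')
      · rw [h, h']
    have := Nat.card_le_card_of_injective _ hinj
    simpa using this
  by_cases hex : ∃ e : ↥E, mu f (e : X) = -1 ∧ d.lam (e : X) = -1
  · obtain ⟨e, he1, he2⟩ := hex
    refine ⟨(e : X), ?_, hE2 _ e.2, he1⟩
    -- centrality
    set W := ((d.f' (e : X) : GL (Fin 3) F) : Matrix (Fin 3) (Fin 3) F) with hW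
    have hWb : IsBlk W := d.blk _
    have hWW : W * W = 1 := by
      rw [hW, ← Units.val_mul, ← map_mul, hE2 _ e.2, map_one, Units.val_one]
    have hW22 : W 2 2 = -1 := by
      rw [hW, ← d.lam_val, he2]; simp
    have hWd : W.det = -1 := by
      rw [hW, ← d.mu_val, he1]; simp
    have hul2 : ul W * ul W = 1 := by
      rw [← hWb.ul_mul, hWW, ul_one]
    have huld : (ul W).det = 1 := by
      have := hWb.det
      rw [hWd, hW22] at this
      have h3 : (ul W).det * -1 = -1 := this.symm
      linear_combination -h3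
    have hsc := two_lemma h2 (ul W) hul2 huld
    rw [Subgroup.mem_center_iff]
    intro x
    apply d.inj
    apply Units.ext
    rw [map_mul, map_mul, Units.val_mul, Units.val_mul]
    exact (commute_of_ul_scalar hWb (d.blk x) hsc).symm
  · exfalso
    push Not at hex
    have hrcard : Nat.card ↥Ψ.range ≤ 3 := by
      have hinj : Function.Injective (fun r : ↥Ψ.range =>
          (if (r : Fˣ × Fˣ) = (1, 1) then 0 else if (r : Fˣ × Fˣ) = (1, -1) then 1 else 2 : Fin 3)) := by
        have hform : ∀ r : ↥Ψ.range, (r : Fˣ × Fˣ) = (1, 1) ∨ (r : Fˣ × Fˣ) = (1, -1) ∨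
            (r : Fˣ × Fˣ) = (-1, 1) := by
          intro r
          obtain ⟨e, he⟩ := r.2
          rw [← he, hΨe]
          rcases (hval e).1 with h | h <;> rcases (hval e).2 with h' | h'
          · left; rw [h, h']
          · right; left; rw [h, h']
          · right; right; rw [h, h']
          · exact absurd h' (hex e h)
        have hne1 : ((1 : Fˣ), (-1 : Fˣ)) ≠ (1, 1) := by
          intro h; exact hneg (Prod.mk.inj h).2
        have hne2 : ((-1 : Fˣ), (1 : Fˣ)) ≠ (1, 1) := by
          intro h; exact hneg (Prod.mk.inj h).1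
        have hne3 : ((-1 : Fˣ), (1 : Fˣ)) ≠ (1, -1) := by
          intro h; exact hneg (Prod.mk.inj h).1
        intro r r' hrr
        apply Subtype.ext
        rcases hform r with h | h | h <;> rcases hform r' with h' | h' | h' <;>
          simp only [h, h', hne1, hne2, hne3, if_true, if_false] at hrr ⊢ <;>
          first | rfl | (exfalso; revert hrr; decide)
      have := Nat.card_le_card_of_injective _ hinj
      simpa using this
    have hprod := Subgroup.card_mul_index Ψ.ker
    rw [Subgroup.index_ker, hE8] at hprod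
    have : Nat.card ↥Ψ.ker * Nat.card ↥Ψ.range ≤ 2 * 3 := Nat.mul_le_mul hkcard hrcard
    omega

end Cfsg.Agent.Lead.GL3Inv
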