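import Mathlib
import Cfsg.Agent.Lead.GL3InvD
import Cfsg.Agent.Helper5.ExtremalTransfer

/-!
Lead library: a group without subgroups of index two whose Sylow `2`-subgroup embeds in `GL₃(F)` (`2 ≠ 0` in `F`)
and contains a subgroup of order `8` and exponent `2` has abelian Sylow `2`-subgroups.
-/

set_option autoImplicit false

namespace Cfsg.Agent.Lead.GL3Inv

open Matrix

variable {F : Type*} [Field F]

/-- a homomorphism to the units of a field which is nontrivial on an involution yields a subgroup of index two -/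
theorem exists_index_two_of_hom {G : Type*} [Group G] [Finite G] (ψ : G →* Fˣ) (y : G)
    (hy2 : y * y = 1) (hy : ψ y ≠ 1) : ∃ H : Subgroup G, H.index = 2 := by
  classical
  set K : Subgroup Fˣ := ψ.range with hK
  have : Finite ↥K := by
    rw [hK]
    exact Finite.of_surjective ψ.rangeRestrict ψ.rangeRestrict_surjective
  have hcyc : IsCyclic ↥K := isCyclic_subgroup_units K
  obtain ⟨k0, hk0⟩ := hcyc.exists_generator
  have hord : orderOf k0 = Nat.card ↥K := orderOf_eq_card_of_forall_mem_zpowers hk0
  set n := Nat.card ↥K with hn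
  have hnpos : 0 < n := Nat.card_pos
  -- `n` is even
  have heven : 2 ∣ n := by
    let z : ↥K := ⟨ψ y, ⟨y, rfl⟩⟩
    have hz2 : z ^ 2 = 1 := by
      apply Subtype.ext
      show (ψ y) ^ 2 = 1
      rw [pow_two, ← map_mul, hy2, map_one]
    have hz1 : z ≠ 1 := by
      intro h
      exact hy (congrArg Subtype.val h)
    have hoz : orderOf z = 2 := orderOf_eq_prime hz2 hz1
    rw [← hoz]
    exact orderOf_dvd_natCard z
  set H' : Subgroup ↥K := Subgroup.zpowers (k0 ^ 2) with hH'
  have hcardH' : Nat.card ↥H' = n / 2 := by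
    rw [hH', Nat.card_zpowers, orderOf_pow, hord]
    congr 1
    exact Nat.gcd_eq_right heven
  have hidx : H'.index = 2 := by
    have h1 := Subgroup.card_mul_index H'
    rw [hcardH'] at h1
    obtain ⟨m, hm⟩ := heven
    rw [← hn, hm] at h1
    have hmpos : 0 < m := by omega
    have h3 : 2 * m / 2 = m := by omega
    rw [h3] at h1
    have h4 : m * H'.index = m * 2 := by rw [h1]; ring
    exact Nat.eq_of_mul_eq_mul_left hmpos h4
  refine ⟨H'.comap ψ.rangeRestrict, ?_⟩
  rw [Subgroup.index_comap_of_surjective H' ψ.rangeRestrict_surjective]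
  exact hidx

theorem two_ne_zero_of_odd_card [Fintype F] (hF : Odd (Fintype.card F)) : (2 : F) ≠ 0 := by
  intro h
  have h1 : ringChar F ∣ 2 := by
    apply ringChar.dvd
    exact_mod_cast h
  have h2 : ringChar F = 2 := by
    rcases (Nat.dvd_prime Nat.prime_two).mp h1 with h3 | h3
    · exact absurd h3 (CharP.ringChar_ne_one)
    · exact h3
  have h3 := FiniteField.even_card_of_char_two h2
  rcases hF with ⟨k, hk⟩
  omega

theorem comm_of_sylow_gl3 {G : Type*} [Group G] [Finite G] (hG : ∀ H : Subgroup G, H.index ≠ 2)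
    (X : Sylow 2 G) (h2 : (2 : F) ≠ 0)
    (f : ↥(X : Subgroup G) →* GL (Fin 3) F) (hf : Function.Injective f)
    (E : Subgroup G) (hE : E ≤ (X : Subgroup G)) (hE2 : ∀ e ∈ E, e * e = 1) (hE8 : Nat.card E = 8) :
    ∀ a b : ↥(X : Subgroup G), a * b = b * a := by
  classical
  by_contra hna
  have : Fact (Nat.Prime 2) := ⟨Nat.prime_two⟩
  have hXp : IsPGroup 2 ↥(X : Subgroup G) := X.isPGroup'
  have hneg := units_neg_one_ne_one h2
  -- the subgroup `E` inside `X`
  set E' : Subgroup ↥(X : Subgroup G) := E.subgroupOf (X : Subgroup G) with hE'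
  have hE'8 : Nat.card ↥E' = 8 := by
    rw [← hE8]
    exact Nat.card_congr (Subgroup.subgroupOfEquivOfLe hE).toEquiv
  have hE'2 : ∀ e ∈ E', e * e = 1 := by
    intro e he
    apply Subtype.ext
    exact hE2 _ (Subgroup.mem_subgroupOf.mp he)
  -- a central involution
  have hnt : Nontrivial ↥(X : Subgroup G) := by
    have : Finite ↥E' := Nat.finite_of_card_ne_zero (by rw [hE'8]; norm_num)
    have h1 : 1 < Nat.card ↥E' := by rw [hE'8]; norm_num
    obtain ⟨a, b, hab⟩ := Finite.one_lt_card_iff_nontrivial.mp h1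
    exact ⟨⟨(a : ↥(X : Subgroup G)), (b : ↥(X : Subgroup G)), fun h => hab (Subtype.ext h)⟩⟩
  have hcnt : Nontrivial ↥(Subgroup.center ↥(X : Subgroup G)) := hXp.center_nontrivial
  have hdvd : 2 ∣ Nat.card ↥(Subgroup.center ↥(X : Subgroup G)) := by
    obtain ⟨n, hn⟩ := (hXp.to_subgroup (Subgroup.center ↥(X : Subgroup G))).exists_card_eq
    rcases Nat.eq_zero_or_pos n with h0 | h0
    · exfalso
      rw [h0, pow_zero] at hn
      have := Finite.one_lt_card_iff_nontrivial.mpr hcnt
      omega
    · rw [hn]
      exact dvd_pow_self 2 (by omega)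
  obtain ⟨t1, ht1o⟩ := exists_prime_orderOf_dvd_card' 2 hdvd
  have ht1c : (t1 : ↥(X : Subgroup G)) ∈ Subgroup.center ↥(X : Subgroup G) := t1.2
  have ht12 : (t1 : ↥(X : Subgroup G)) * (t1 : ↥(X : Subgroup G)) = 1 := by
    have : t1 ^ 2 = 1 := by
      have h3 := pow_orderOf_eq_one t1
      rwa [ht1o] at h3
    have := congrArg Subtype.val this
    simpa [pow_two] using this
  have ht11 : (t1 : ↥(X : Subgroup G)) ≠ 1 := by
    intro h
    have : t1 = 1 := Subtype.ext h
    rw [this, orderOf_one] at ht1o
    omega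
  -- a central involution of determinant `-1`
  obtain ⟨c, hcc, hc2, hcmu⟩ : ∃ c ∈ Subgroup.center ↥(X : Subgroup G), c * c = 1 ∧ mu f c = -1 := by
    have h3 : mu f (t1 : ↥(X : Subgroup G)) = 1 ∨ mu f (t1 : ↥(X : Subgroup G)) = -1 := by
      apply units_mul_self
      rw [← map_mul, ht12, map_one]
    rcases h3 with h3 | h3
    · exact exists_central_det_neg h2 f hf (t1 : ↥(X : Subgroup G)) ht1c ht12 ht11 h3 E' hE'8 hE'2
    · exact ⟨(t1 : ↥(X : Subgroup G)), ht1c, ht12, h3⟩
  have hc1 : c ≠ 1 := by
    intro h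
    rw [h, map_one] at hcmu
    exact hneg hcmu.symm
  -- the transfer argument
  set T : Subgroup G := (mu f).ker.map (X : Subgroup G).subtype with hT
  have hTS : T ≤ (X : Subgroup G) := by
    rw [hT]
    rintro _ ⟨x, -, rfl⟩
    exact x.2
  have hTsub : T.subgroupOf (X : Subgroup G) = (mu f).ker := by
    rw [hT]
    exact Subgroup.comap_map_eq_self_of_injective (Subgroup.subtype_injective _) _
  have hTn : (T.subgroupOf (X : Subgroup G)).Normal := by
    rw [hTsub]; infer_instance
  have hTmem : ∀ s : ↥(X : Subgroup G), (s : G) ∈ T ↔ mu f s = 1 := by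
    intro s
    rw [← Subgroup.mem_subgroupOf, hTsub, MonoidHom.mem_ker]
  have hy2 : (c : G) ^ 2 = 1 := by
    have := congrArg Subtype.val hc2
    simpa [pow_two] using this
  have hϕy : ∀ s : ↥(X : Subgroup G), (s : G) ∉ T → (s : G) ^ 2 = 1 → mu f s = -1 := by
    intro s hsT hs2
    have h3 : mu f s = 1 ∨ mu f s = -1 := by
      apply units_mul_self
      rw [← map_mul]
      have : s * s = 1 := by
        apply Subtype.ext
        simpa [pow_two] using hs2
      rw [this, map_one]
    rcases h3 with h3 | h3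
    · exact absurd ((hTmem s).mpr h3) hsT
    · exact h3
  have htr : MonoidHom.transfer (mu f) (c : G) = 1 := by
    by_contra h
    obtain ⟨H, hH⟩ := exists_index_two_of_hom (MonoidHom.transfer (mu f)) (c : G)
      (by rw [← pow_two]; exact hy2) h
    exact hG H hH
  obtain ⟨g, hgT, -, hsub⟩ := Cfsg.Agent.Helper5.exists_extremal_conj X T hTS hTn (mu f) (-1) hneg
    (by simp) (c : G) hy2 (fun s hs => (hTmem s).mp hs) hϕy htr
  -- conjugation by `g` maps `X` into itself
  have hconj : ∀ x : ↥(X : Subgroup G), g⁻¹ * (x : G) * g ∈ (X : Subgroup G) := by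
    intro x
    apply hsub
    refine Subgroup.mem_inf.mpr ⟨x.2, ?_⟩
    rw [Subgroup.mem_centralizer_singleton_iff]
    have := Subgroup.mem_center_iff.mp hcc x
    have := congrArg Subtype.val this
    simpa using this
  let α0 : ↥(X : Subgroup G) →* ↥(X : Subgroup G) :=
    { toFun := fun x => ⟨g⁻¹ * (x : G) * g, hconj x⟩
      map_one' := by apply Subtype.ext; simp
      map_mul' := by
        intro x y
        apply Subtype.ext
        show g⁻¹ * ((x : G) * (y : G)) * g = (g⁻¹ * (x : G) * g) * (g⁻¹ * (y : G) * g)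
        group }
  have hα0inj : Function.Injective α0 := by
    intro x y hxy
    have := congrArg Subtype.val hxy
    apply Subtype.ext
    have h3 : g⁻¹ * (x : G) * g = g⁻¹ * (y : G) * g := this
    exact mul_left_cancel (mul_right_cancel h3)
  have hα0bij : Function.Bijective α0 := Finite.injective_iff_bijective.mp hα0inj
  let α : ↥(X : Subgroup G) ≃* ↥(X : Subgroup G) := MulEquiv.ofBijective α0 hα0bij
  have hαc : ((α c : ↥(X : Subgroup G)) : G) = g⁻¹ * (c : G) * g := rfl
  -- `α c` is a central involution of determinant one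
  have htc : α c ∈ Subgroup.center ↥(X : Subgroup G) := by
    rw [Subgroup.mem_center_iff]
    intro s
    obtain ⟨s0, rfl⟩ := α.surjective s
    rw [← map_mul, ← map_mul, Subgroup.mem_center_iff.mp hcc s0]
  have ht2 : α c * α c = 1 := by rw [← map_mul, hc2, map_one]
  have ht1 : α c ≠ 1 := by
    intro h
    apply hc1
    exact α.injective (by rw [h, map_one])
  have htmu : mu f (α c) = 1 := by
    rw [← hTmem, hαc]
    exact hgT
  have hmem := mem_commutator_of_central h2 hXp f hf hna (α c) htc ht2 ht1 htmu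
  -- hence `c` lies in the commutator subgroup
  have hchar : (commutator ↥(X : Subgroup G)).Characteristic := by
    rw [commutator_def]; infer_instance
  have hcmem : c ∈ commutator ↥(X : Subgroup G) := by
    have := hchar.fixed α
    rw [← this]
    exact hmem
  have : mu f c = 1 := MonoidHom.mem_ker.mp (Abelianization.commutator_subset_ker (mu f) hcmem)
  rw [this] at hcmu
  exact hneg hcmu.symm

end Cfsg.Agent.Lead.GL3Inv
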