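import Mathlib
import Cfsg.Agent.Helper1.Gaschutz
import Cfsg.Agent.Helper1.Basic
import Cfsg.Agent.Helper1.Coprime
import Cfsg.Agent.Helper4.Camina

set_option autoImplicit false

namespace Cfsg.Agent.Lead

open Cfsg.Agent.Helper1

universe u

variable {G : Type u} [Group G]

/-- The `p`-primary part of an abelian subgroup. -/
def pPart (A : Subgroup G) (hA : ∀ x ∈ A, ∀ y ∈ A, x * y = y * x) (p : ℕ) : Subgroup G where
  carrier := {x | x ∈ A ∧ ∃ k : ℕ, x ^ (p ^ k) = 1}
  one_mem' := ⟨A.one_mem, 0, by simp⟩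
  mul_mem' := by
    rintro x y ⟨hx, k, hk⟩ ⟨hy, l, hl⟩
    refine ⟨A.mul_mem hx hy, k + l, ?_⟩
    have hc : Commute x y := hA x hx y hy
    rw [hc.mul_pow, pow_add, pow_mul, hk, one_pow, one_mul, mul_comm (p ^ k), pow_mul, hl, one_pow]
  inv_mem' := by
    rintro x ⟨hx, k, hk⟩
    exact ⟨A.inv_mem hx, k, by rw [inv_pow, hk, inv_one]⟩

theorem mem_pPart {A : Subgroup G} {hA : ∀ x ∈ A, ∀ y ∈ A, x * y = y * x} {p : ℕ} {x : G} :
    x ∈ pPart A hA p ↔ x ∈ A ∧ ∃ k : ℕ, x ^ (p ^ k) = 1 := Iff.rfl

theorem pPart_le (A : Subgroup G) (hA : ∀ x ∈ A, ∀ y ∈ A, x * y = y * x) (p : ℕ) :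
    pPart A hA p ≤ A := fun _ hx => hx.1

theorem pPart_normal (A : Subgroup G) [hAn : A.Normal] (hA : ∀ x ∈ A, ∀ y ∈ A, x * y = y * x)
    (p : ℕ) : (pPart A hA p).Normal := by
  refine ⟨fun x hx g => ?_⟩
  obtain ⟨hxA, k, hk⟩ := hx
  refine ⟨hAn.conj_mem x hxA g, k, ?_⟩
  rw [conj_pow, hk, mul_one, mul_inv_cancel]

theorem pPart_isPGroup (A : Subgroup G) (hA : ∀ x ∈ A, ∀ y ∈ A, x * y = y * x)
    (p : ℕ) : IsPGroup p (pPart A hA p) := by
  rintro ⟨x, hxA, k, hk⟩
  exact ⟨k, Subtype.ext hk⟩

theorem card_pPart [Finite G] (A : Subgroup G) (hA : ∀ x ∈ A, ∀ y ∈ A, x * y = y * x)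
    (p : ℕ) [hp : Fact p.Prime] :
    Nat.card (pPart A hA p) = p ^ (Nat.card A).factorization p := by
  have hQ : IsPGroup p ((pPart A hA p).subgroupOf A) :=
    (pPart_isPGroup A hA p).comap_of_injective A.subtype A.subtype_injective
  obtain ⟨P, hQP⟩ := hQ.exists_le_sylow
  have hPQ : (P : Subgroup A) ≤ (pPart A hA p).subgroupOf A := by
    intro x hx
    rw [Subgroup.mem_subgroupOf]
    obtain ⟨k, hk⟩ := P.isPGroup' ⟨x, hx⟩
    refine ⟨x.2, k, ?_⟩
    have := congrArg (fun y : P => ((y : A) : G)) hk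
    simpa using this
  have heq : (pPart A hA p).subgroupOf A = P := le_antisymm hQP hPQ
  rw [← card_subgroupOf_of_le (pPart_le A hA p), heq, P.card_eq_multiplicity]


theorem exists_complement_pPart [Finite G] (A : Subgroup G) [hAn : A.Normal]
    (hA : ∀ x ∈ A, ∀ y ∈ A, x * y = y * x) (p : ℕ) [hp : Fact p.Prime] (K : Subgroup G)
    (hKA : K ⊓ A = ⊥) (hKcard : Nat.card K = p ^ (A.index).factorization p) :
    ∃ H : Subgroup G, Subgroup.IsComplement' (pPart A hA p) H := by
  haveI := pPart_normal A hA p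
  haveI : IsMulCommutative (pPart A hA p) := ⟨⟨fun a b => Subtype.ext (hA a a.2.1 b b.2.1)⟩⟩
  have hdisj : K ⊓ pPart A hA p = ⊥ := by
    rw [eq_bot_iff, ← hKA]
    exact inf_le_inf_left _ (pPart_le A hA p)
  have hKn : K ≤ Subgroup.normalizer ((pPart A hA p : Subgroup G) : Set G) := by
    rw [Subgroup.normalizer_eq_top]; exact le_top
  have hUcard := card_sup_of_le_normalizer hKn hdisj
  rw [hKcard, card_pPart] at hUcard
  have hG : Nat.card G = Nat.card A * A.index := (A.card_mul_index).symm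
  have hA0 : Nat.card A ≠ 0 := Nat.card_pos.ne'
  have hi0 : A.index ≠ 0 := Subgroup.index_ne_zero_of_finite
  have hfac : (Nat.card G).factorization p
      = (Nat.card A).factorization p + (A.index).factorization p := by
    rw [hG, Nat.factorization_mul hA0 hi0]; rfl
  have hU : Nat.card (pPart A hA p ⊔ K : Subgroup G) = p ^ (Nat.card G).factorization p := by
    rw [hUcard, hfac, pow_add, mul_comm]
  have hidx : (pPart A hA p ⊔ K : Subgroup G).index
      = Nat.card G / p ^ (Nat.card G).factorization p := by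
    have := (pPart A hA p ⊔ K : Subgroup G).card_mul_index
    rw [hU] at this
    exact (Nat.div_eq_of_eq_mul_right (pow_pos hp.out.pos _) this.symm).symm
  have hcop : (Nat.card (pPart A hA p)).Coprime (pPart A hA p ⊔ K : Subgroup G).index := by
    rw [card_pPart, hidx]
    exact Nat.Coprime.pow_left _ (Nat.coprime_ordCompl hp.out Nat.card_pos.ne')
  exact gaschutz_exists (pPart A hA p) _ hcop K hdisj rfl


theorem index_inf_of_coprime [Finite G] (H K : Subgroup G) (h : (H.index).Coprime K.index) :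
    (H ⊓ K).index = H.index * K.index := by
  apply Nat.le_antisymm (Subgroup.index_inf_le)
  apply Nat.le_of_dvd (Nat.pos_of_ne_zero Subgroup.index_ne_zero_of_finite)
  exact h.mul_dvd_of_dvd_of_dvd (Subgroup.index_dvd_of_le inf_le_left)
    (Subgroup.index_dvd_of_le inf_le_right)

theorem index_iInf_of_complements [Finite G] (A : Subgroup G)
    (hA : ∀ x ∈ A, ∀ y ∈ A, x * y = y * x) (H : ℕ → Subgroup G) (s : Finset ℕ)
    (hs : ∀ p ∈ s, p.Prime)
    (hH : ∀ p ∈ s, (H p).index = p ^ (Nat.card A).factorization p) :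
    (⨅ p ∈ s, H p).index = ∏ p ∈ s, p ^ (Nat.card A).factorization p := by
  classical
  induction s using Finset.induction_on with
  | empty => simp
  | insert q s hq ih =>
    rw [Finset.iInf_insert, Finset.prod_insert hq]
    have ih' := ih (fun p hp => hs p (Finset.mem_insert_of_mem hp))
      (fun p hp => hH p (Finset.mem_insert_of_mem hp))
    have hq' := hH q (Finset.mem_insert_self _ _)
    rw [index_inf_of_coprime, hq', ih']
    rw [hq', ih']
    apply Nat.Coprime.prod_right
    intro p hp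
    apply Nat.Coprime.pow
    rw [Nat.coprime_primes (hs q (Finset.mem_insert_self _ _))
      (hs p (Finset.mem_insert_of_mem hp))]
    rintro rfl
    exact hq hp


/-- (⇐) of the Sylow-wise complement criterion. -/
theorem exists_complement_of_sylow_complements [Finite G] (A : Subgroup G) [hAn : A.Normal]
    (hA : ∀ x ∈ A, ∀ y ∈ A, x * y = y * x)
    (h : ∀ p : ℕ, p.Prime → p ∣ A.index → ∃ (S : Sylow p (G ⧸ A)) (K : Subgroup G),
      K ⊓ A = ⊥ ∧ K ⊔ A = (S : Subgroup (G ⧸ A)).comap (QuotientGroup.mk' A)) :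
    ∃ K : Subgroup G, K.IsComplement' A := by
  classical
  -- complements of the primary parts
  have hex : ∀ p : ℕ, ∃ Hp : Subgroup G, p ∈ (Nat.card A).primeFactors →
      Subgroup.IsComplement' (pPart A hA p) Hp := by
    intro p
    by_cases hp : p ∈ (Nat.card A).primeFactors
    · have hpp : p.Prime := Nat.prime_of_mem_primeFactors hp
      haveI : Fact p.Prime := ⟨hpp⟩
      by_cases hdvd : p ∣ A.index
      · obtain ⟨S, K, hK1, hK2⟩ := h p hpp hdvd
        have hKn : K ≤ Subgroup.normalizer (A : Set G) := by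
          rw [Subgroup.normalizer_eq_top]; exact le_top
        have h1 := card_sup_of_le_normalizer hKn hK1
        rw [sup_comm, hK2, Cfsg.Agent.Helper4.card_comap_mk', mul_comm] at h1
        have hKc : Nat.card K = Nat.card (S : Subgroup (G ⧸ A)) :=
          (Nat.eq_of_mul_eq_mul_right Nat.card_pos h1).symm
        have hKcard : Nat.card K = p ^ (A.index).factorization p := by
          rw [hKc, S.card_eq_multiplicity]; rfl
        obtain ⟨Hp, hHp⟩ := exists_complement_pPart A hA p K hK1 hKcard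
        exact ⟨Hp, fun _ => hHp⟩
      · have hKcard : Nat.card (⊥ : Subgroup G) = p ^ (A.index).factorization p := by
          rw [Subgroup.card_bot, Nat.factorization_eq_zero_of_not_dvd hdvd, pow_zero]
        obtain ⟨Hp, hHp⟩ := exists_complement_pPart A hA p ⊥ (bot_inf_eq A) hKcard
        exact ⟨Hp, fun _ => hHp⟩
    · exact ⟨⊤, fun h => absurd h hp⟩
  choose H hH using hex
  have hidx : ∀ p ∈ (Nat.card A).primeFactors,
      (H p).index = p ^ (Nat.card A).factorization p := by
    intro p hp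
    haveI : Fact p.Prime := ⟨Nat.prime_of_mem_primeFactors hp⟩
    rw [(hH p hp).index_eq_card, card_pPart]
  have hindex := index_iInf_of_complements A hA H (Nat.card A).primeFactors
    (fun p hp => Nat.prime_of_mem_primeFactors hp) hidx
  have hprod : ∏ p ∈ (Nat.card A).primeFactors, p ^ (Nat.card A).factorization p
      = Nat.card A := by
    have := Nat.prod_factorization_pow_eq_self (n := Nat.card A) Nat.card_pos.ne'
    rw [Finsupp.prod, Nat.support_factorization] at this
    exact this
  rw [hprod] at hindex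
  refine ⟨⨅ p ∈ (Nat.card A).primeFactors, H p, ?_⟩
  apply Subgroup.isComplement'_of_card_mul_and_disjoint
  · have := Subgroup.card_mul_index (⨅ p ∈ (Nat.card A).primeFactors, H p)
    rw [hindex] at this
    exact this
  · rw [disjoint_iff, eq_bot_iff]
    intro x hx
    have hxH : x ∈ ⨅ p ∈ (Nat.card A).primeFactors, H p := hx.1
    have hxA : x ∈ A := hx.2
    rw [Subgroup.mem_bot]
    by_contra hx1
    have hord : orderOf x ≠ 1 := fun h => hx1 (orderOf_eq_one_iff.mp h)
    have hord0 : orderOf x ≠ 0 := (orderOf_pos x).ne'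
    obtain ⟨p, hpp, hpd⟩ := Nat.exists_prime_and_dvd hord
    have hy : orderOf (x ^ (orderOf x / p)) = p := orderOf_pow_orderOf_div hord0 hpd
    have hyA : x ^ (orderOf x / p) ∈ A := A.pow_mem hxA _
    have hpA : p ∈ (Nat.card A).primeFactors := by
      rw [Nat.mem_primeFactors]
      refine ⟨hpp, ?_, Nat.card_pos.ne'⟩
      have := orderOf_dvd_natCard (⟨x ^ (orderOf x / p), hyA⟩ : A)
      rw [Subgroup.orderOf_mk, hy] at this
      exact this
    have hyH : x ^ (orderOf x / p) ∈ H p := by
      have h1 : x ∈ H p := by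
        rw [Subgroup.mem_iInf] at hxH
        have := hxH p
        rw [Subgroup.mem_iInf] at this
        exact this hpA
      exact (H p).pow_mem h1 _
    have hyP : x ^ (orderOf x / p) ∈ pPart A hA p := by
      refine ⟨hyA, 1, ?_⟩
      have := pow_orderOf_eq_one (x ^ (orderOf x / p))
      rw [hy] at this
      rw [pow_one]; exact this
    have hbot := (hH p hpA).disjoint.eq_bot
    have : x ^ (orderOf x / p) ∈ (pPart A hA p ⊓ H p : Subgroup G) := ⟨hyP, hyH⟩
    rw [hbot, Subgroup.mem_bot] at this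
    rw [this, orderOf_one] at hy
    exact hpp.one_lt.ne hy


/-- (⇒) of the Sylow-wise complement criterion. -/
theorem sylow_complements_of_complement [Finite G] (A : Subgroup G) [hAn : A.Normal]
    (K : Subgroup G) (hK : K.IsComplement' A) (p : ℕ) (hp : p.Prime) :
    ∃ (S : Sylow p (G ⧸ A)) (K' : Subgroup G),
      K' ⊓ A = ⊥ ∧ K' ⊔ A = (S : Subgroup (G ⧸ A)).comap (QuotientGroup.mk' A) := by
  haveI : Fact p.Prime := ⟨hp⟩
  obtain ⟨P⟩ := (inferInstance : Nonempty (Sylow p K))
  obtain ⟨K', hK'⟩ : ∃ K' : Subgroup G, K' = (P : Subgroup K).map K.subtype := ⟨_, rfl⟩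
  have hK'K : K' ≤ K := hK' ▸ Subgroup.map_subtype_le _
  have hdisj : K' ⊓ A = ⊥ := by
    rw [eq_bot_iff, ← hK.disjoint.eq_bot]
    exact inf_le_inf_right _ hK'K
  have hK'p : IsPGroup p K' := hK' ▸ P.isPGroup'.map _
  have hK'card : Nat.card K' = Nat.card (P : Subgroup K) := by
    rw [hK']
    exact Nat.card_congr ((P : Subgroup K).equivMapOfInjective K.subtype
      K.subtype_injective).toEquiv.symm
  have hQp : IsPGroup p (K'.map (QuotientGroup.mk' A)) := hK'p.map _
  have hidx : (K'.map (QuotientGroup.mk' A)).index = (P : Subgroup K).index := by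
    rw [Subgroup.index_map, MonoidHom.range_eq_top.mpr (QuotientGroup.mk'_surjective A),
      Subgroup.index_top, mul_one, QuotientGroup.ker_mk']
    have hKn : K' ≤ Subgroup.normalizer (A : Set G) := by
      rw [Subgroup.normalizer_eq_top]; exact le_top
    have h1 := card_sup_of_le_normalizer hKn hdisj
    have h2 := (A ⊔ K' : Subgroup G).card_mul_index
    have h3 := hK.card_mul
    have h4 := (P : Subgroup K).card_mul_index
    rw [sup_comm] at h1 h2
    rw [h1, hK'card] at h2
    rw [← h3, ← h4] at h2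
    have hpos : 0 < Nat.card (P : Subgroup K) * Nat.card A :=
      Nat.mul_pos Nat.card_pos Nat.card_pos
    apply Nat.eq_of_mul_eq_mul_left hpos
    rw [h2]; ring
  have hnd : ¬ p ∣ (K'.map (QuotientGroup.mk' A)).index := by
    rw [hidx]; exact P.not_dvd_index
  refine ⟨hQp.toSylow hnd, K', hdisj, ?_⟩
  rw [IsPGroup.toSylow_coe, Subgroup.comap_map_eq, QuotientGroup.ker_mk']

end Cfsg.Agent.Lead
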