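import Mathlib

/-!
# A `p`-group (`p ≥ 3`) acting faithfully and irreducibly on an abelian `p'`-group cannot have two
generating sets `C`, `D` with `V = C_V(d) C_V(c)` for all `c ∈ C`, `d ∈ D`.
-/

namespace Cfsg.Agent.Lead.GenPairFin

open scoped commutatorElement

variable {R V : Type*} [Group R] [CommGroup V] [MulDistribMulAction R V]

/-- Fixed points of `g` on `V`. -/
def fix (g : R) : Subgroup V where
  carrier := {v | g • v = v}
  mul_mem' := by
    intro a b ha hb
    simp only [Set.mem_setOf_eq] at *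
    rw [smul_mul', ha, hb]
  one_mem' := smul_one g
  inv_mem' := by
    intro a ha
    simp only [Set.mem_setOf_eq] at *
    rw [smul_inv', ha]

theorem mem_fix {g : R} {v : V} : v ∈ fix (V := V) g ↔ g • v = v := Iff.rfl

/-- `y ^ (s.val)` for `s : ZMod p`. -/
def ys (p : ℕ) (y : R) (s : ZMod p) : R := y ^ s.val

theorem ys_add {p : ℕ} [NeZero p] {y : R} (hy : y ^ p = 1) (s t : ZMod p) :
    ys p y (s + t) = ys p y s * ys p y t := by
  unfold ys
  rw [ZMod.val_add, ← pow_eq_pow_mod _ hy, pow_add]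

theorem ys_zero {p : ℕ} [NeZero p] (y : R) : ys p y 0 = 1 := by
  unfold ys
  rw [ZMod.val_zero, pow_zero]

/-- the norm-like product `∏_{k<p} u^k • v` is fixed by `u` when `u^p = 1`. -/
theorem smul_prod_range {p : ℕ} (u : R) (hu : u ^ p = 1) (v : V) :
    u • (∏ k ∈ Finset.range p, (u ^ k) • v) = ∏ k ∈ Finset.range p, (u ^ k) • v := by
  rw [Finset.smul_prod']
  have h1 : ∀ k, u • (u ^ k) • v = (u ^ (k + 1)) • v := by
    intro k
    rw [smul_smul, ← pow_succ']
  simp only [h1]
  have h2 := Finset.prod_range_succ (fun k => (u ^ k) • v) p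
  have h3 := Finset.prod_range_succ' (fun k => (u ^ k) • v) p
  rw [h2] at h3
  simp only [hu, pow_zero, one_smul] at h3
  exact (mul_right_cancel h3).symm

omit [CommGroup V] [MulDistribMulAction R V] in
theorem central_pow {y : R} (hyc : ∀ r : R, r * y = y * r) (k : ℕ) (r : R) :
    r * y ^ k = y ^ k * r := by
  induction k with
  | zero => simp
  | succ k ih => rw [pow_succ, ← mul_assoc, ih, mul_assoc, hyc, ← mul_assoc]

omit [CommGroup V] [MulDistribMulAction R V] in
theorem conj_pow (b g y : R) (hyc : ∀ r : R, r * y = y * r) (hb : b * g * b⁻¹ = g * y) (k : ℕ) :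
    b ^ k * g * (b ^ k)⁻¹ = g * y ^ k := by
  induction k with
  | zero => simp
  | succ k ih =>
    have : b ^ (k + 1) * g * (b ^ (k + 1))⁻¹ = b * (b ^ k * g * (b ^ k)⁻¹) * b⁻¹ := by
      rw [pow_succ']; group
    rw [this, ih]
    have h2 : b * (g * y ^ k) * b⁻¹ = (b * g * b⁻¹) * (b * y ^ k * b⁻¹) := by group
    rw [h2, hb, central_pow hyc k b, mul_inv_cancel_right, mul_assoc, ← pow_succ']

theorem card_fix_pow_le [Finite V] {p : ℕ} [hp : Fact p.Prime] (hpV : (Nat.card V).Coprime p)
    (g y b : R) (hyc : ∀ r : R, r * y = y * r) (hyp : y ^ p = 1)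
    (hfix : ∀ t : ℕ, 0 < t → t < p → fix (V := V) (y ^ t) = ⊥)
    (hb : b * g * b⁻¹ = g * y) :
    Nat.card (fix (V := V) g) ^ p ≤ Nat.card V := by
  classical
  haveI : NeZero p := ⟨hp.out.ne_zero⟩
  -- powers of y are central
  have hyck : ∀ (k : ℕ) (r : R), r * y ^ k = y ^ k * r := by
    intro k r
    induction k with
    | zero => simp
    | succ k ih => rw [pow_succ, ← mul_assoc, ih, mul_assoc, hyc, ← mul_assoc]
  -- conjugation by powers of b
  have hbk : ∀ k : ℕ, b ^ k * g * (b ^ k)⁻¹ = g * y ^ k := by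
    intro k
    induction k with
    | zero => simp
    | succ k ih =>
      have : b ^ (k + 1) * g * (b ^ (k + 1))⁻¹ = b * (b ^ k * g * (b ^ k)⁻¹) * b⁻¹ := by
        rw [pow_succ']; group
      rw [this, ih]
      have h2 : b * (g * y ^ k) * b⁻¹ = (b * g * b⁻¹) * (b * y ^ k * b⁻¹) := by group
      rw [h2, hb, hyck k b, mul_inv_cancel_right, mul_assoc, ← pow_succ']
  -- each `fix (g * y^k)` is at least as big as `fix g`
  have hcard : ∀ k : ℕ, Nat.card (fix (V := V) g) ≤ Nat.card (fix (V := V) (g * y ^ k)) := by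
    intro k
    refine Nat.card_le_card_of_injective
      (fun v => ⟨(b ^ k) • v.1, ?_⟩) ?_
    · rw [mem_fix, ← hbk k, smul_smul]
      have : b ^ k * g * (b ^ k)⁻¹ * b ^ k = b ^ k * g := by group
      rw [this, ← smul_smul, mem_fix.1 v.2]
    · intro v w hvw
      have := congrArg Subtype.val hvw
      simp only at this
      exact Subtype.ext (smul_left_cancel _ this)
  -- the product map
  let X : ZMod p → Subgroup V := fun s => fix (g * ys p y s)
  let Φ : ((s : ZMod p) → X s) → V := fun w => ∏ s, (w s : V)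
  have hΦinj : Function.Injective Φ := by
    intro w w' hww
    -- reduce to kernel
    have hker : ∀ w : (s : ZMod p) → X s, Φ w = 1 → ∀ s₀, (w s₀ : V) = 1 := by
      intro w hw s₀
      -- the operator T
      let h₀ : R := g * ys p y s₀
      let T : V → V := fun v => ∏ k ∈ Finset.range p, (h₀ ^ k) • v
      have hTmul : ∀ (s : Finset (ZMod p)) (f : ZMod p → V), T (∏ i ∈ s, f i) = ∏ i ∈ s, T (f i) := by
        intro s f
        simp only [T]
        rw [Finset.prod_comm]
        refine Finset.prod_congr rfl fun k _ => ?_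
        rw [Finset.smul_prod']
      have hT1 : T 1 = 1 := by
        simp only [T, smul_one, Finset.prod_const_one]
      -- action of powers of h₀ on X s
      have hpow : ∀ (s : ZMod p) (v : V), v ∈ X s → ∀ k : ℕ,
          (h₀ ^ k) • v = ((ys p y (s₀ - s)) ^ k) • v := by
        intro s v hv k
        have hh : h₀ = (g * ys p y s) * ys p y (s₀ - s) := by
          simp only [h₀]
          rw [mul_assoc, ← ys_add hyp, add_sub_cancel]
        have hcomm : (g * ys p y s) * ys p y (s₀ - s) = ys p y (s₀ - s) * (g * ys p y s) := by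
          unfold ys
          exact hyck _ _
        induction k with
        | zero => simp
        | succ k ih =>
          rw [pow_succ', ← smul_smul, ih, hh, hcomm, ← smul_smul, smul_smul _ ((ys p y (s₀ - s)) ^ k),
            ]
          have hc2 : (g * ys p y s) * (ys p y (s₀ - s)) ^ k = (ys p y (s₀ - s)) ^ k * (g * ys p y s) := by
            unfold ys
            rw [← pow_mul]
            exact hyck _ _
          rw [hc2, ← smul_smul, mem_fix.1 hv, smul_smul, ← pow_succ']
      have hTs : ∀ s : ZMod p, s ≠ s₀ → T (w s : V) = 1 := by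
        intro s hs
        simp only [T]
        have h1 : ∀ k ∈ Finset.range p, (h₀ ^ k) • (w s : V) = ((ys p y (s₀ - s)) ^ k) • (w s : V) :=
          fun k _ => hpow s _ (w s).2 k
        rw [Finset.prod_congr rfl h1]
        have hu : (ys p y (s₀ - s)) ^ p = 1 := by
          unfold ys
          rw [← pow_mul, mul_comm, pow_mul, hyp, one_pow]
        have hfixed := smul_prod_range (ys p y (s₀ - s)) hu (w s : V)
        have hmem : (∏ k ∈ Finset.range p, ((ys p y (s₀ - s)) ^ k) • (w s : V)) ∈
            fix (V := V) (y ^ (s₀ - s).val) := hfixed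
        have hval0 : 0 < (s₀ - s).val := by
          rw [Nat.pos_iff_ne_zero, Ne, ZMod.val_eq_zero, sub_eq_zero]
          exact fun h => hs h.symm
        rw [hfix _ hval0 (ZMod.val_lt _)] at hmem
        exact Subgroup.mem_bot.1 hmem
      have hTs₀ : T (w s₀ : V) = (w s₀ : V) ^ p := by
        simp only [T]
        have h1 : ∀ k ∈ Finset.range p, (h₀ ^ k) • (w s₀ : V) = (w s₀ : V) := by
          intro k _
          rw [hpow s₀ _ (w s₀).2 k, sub_self, ys_zero, one_pow, one_smul]
        rw [Finset.prod_congr rfl h1, Finset.prod_const, Finset.card_range]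
      have hTΦ : T (Φ w) = (w s₀ : V) ^ p := by
        simp only [Φ]
        rw [hTmul, ← Finset.mul_prod_erase Finset.univ _ (Finset.mem_univ s₀), hTs₀,
          Finset.prod_eq_one, mul_one]
        intro s hs
        exact hTs s (Finset.ne_of_mem_erase hs)
      rw [hw, hT1] at hTΦ
      -- coprimality
      have hord : orderOf (w s₀ : V) ∣ p := orderOf_dvd_of_pow_eq_one hTΦ.symm
      have hord2 : orderOf (w s₀ : V) ∣ Nat.card V := orderOf_dvd_natCard _
      have h1 : orderOf (w s₀ : V) = 1 := Nat.eq_one_of_dvd_coprimes hpV hord2 hord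
      exact orderOf_eq_one_iff.1 h1
    -- apply to w * w'⁻¹
    funext s₀
    have hΦmul : Φ (fun s => w s * (w' s)⁻¹) = 1 := by
      simp only [Φ, Subgroup.coe_mul, Subgroup.coe_inv]
      rw [Finset.prod_mul_distrib, Finset.prod_inv_distrib]
      have : (∏ s, (w s : V)) = ∏ s, (w' s : V) := hww
      rw [this, mul_inv_cancel]
    have := hker _ hΦmul s₀
    simp only [Subgroup.coe_mul, Subgroup.coe_inv] at this
    exact Subtype.ext (mul_inv_eq_one.1 this)
  have h1 : Nat.card ((s : ZMod p) → X s) ≤ Nat.card V := Nat.card_le_card_of_injective Φ hΦinj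
  rw [Nat.card_pi] at h1
  calc Nat.card (fix (V := V) g) ^ p = ∏ _s : ZMod p, Nat.card (fix (V := V) g) := by
        rw [Finset.prod_const, Finset.card_univ, ZMod.card]
    _ ≤ ∏ s : ZMod p, Nat.card (X s) := Finset.prod_le_prod' fun s _ => hcard s.val
    _ ≤ Nat.card V := h1

/-- In a nonabelian nilpotent group there is a noncentral element of the second centre. -/
theorem exists_second_center [Group.IsNilpotent R] (hab : ¬ ∀ a b : R, a * b = b * a) :
    ∃ a : R, (∀ g r : R, r * ⁅a, g⁆ = ⁅a, g⁆ * r) ∧ ∃ g : R, g * a ≠ a * g := by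
  by_contra hcon
  push Not at hcon
  -- then `Z₂ = Z₁`
  have h21 : Subgroup.upperCentralSeries R 2 = Subgroup.upperCentralSeries R 1 := by
    apply le_antisymm
    · intro a ha
      rw [Subgroup.upperCentralSeries_one, Subgroup.mem_center_iff]
      have h1 : ∀ g r : R, r * ⁅a, g⁆ = ⁅a, g⁆ * r := by
        intro g r
        have := (Subgroup.mem_upperCentralSeries_succ_iff (n := 1)).1 ha g
        rw [Subgroup.upperCentralSeries_one, Subgroup.mem_center_iff] at this
        exact this r
      exact hcon a h1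
    · exact Subgroup.upperCentralSeries_mono R (by norm_num)
  have hall : ∀ n : ℕ, Subgroup.upperCentralSeries R (n + 1) = Subgroup.upperCentralSeries R 1 := by
    intro n
    induction n with
    | zero => rfl
    | succ n ih =>
      ext a
      rw [Subgroup.mem_upperCentralSeries_succ_iff, ← h21, Subgroup.mem_upperCentralSeries_succ_iff]
      simp only [ih]
  obtain ⟨n, hn⟩ := (Group.IsNilpotent.nilpotent' (G := R))
  have hcen : Subgroup.center R = ⊤ := by
    rw [← Subgroup.upperCentralSeries_one]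
    cases n with
    | zero =>
      rw [Subgroup.upperCentralSeries_zero] at hn
      apply le_antisymm le_top
      rw [← hn]; exact bot_le
    | succ n => rw [← hall n, hn]
  apply hab
  intro a b
  have : b ∈ Subgroup.center R := by rw [hcen]; exact Subgroup.mem_top b
  exact Subgroup.mem_center_iff.1 this a

theorem fin_contra [Finite R] [Finite V] {p : ℕ} [hp : Fact p.Prime] (hp3 : 3 ≤ p)
    (hR : IsPGroup p R) (hpV : (Nat.card V).Coprime p) (hV : Nontrivial V) (hRnt : Nontrivial R)
    (hfaith : ∀ g : R, (∀ v : V, g • v = v) → g = 1)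
    (hirr : ∀ X : Subgroup V, (∀ (g : R) (v : V), v ∈ X → g • v ∈ X) → X = ⊥ ∨ X = ⊤)
    (C D : Set R) (hC : Subgroup.closure C = ⊤) (hD : Subgroup.closure D = ⊤)
    (hfact : ∀ c ∈ C, ∀ d ∈ D, ∀ v : V, ∃ a b : V, v = a * b ∧ d • a = a ∧ c • b = b) : False := by
  classical
  -- central nonidentity elements act without fixed points
  have hcent : ∀ u : R, (∀ r : R, r * u = u * r) → u ≠ 1 → fix (V := V) u = ⊥ := by
    intro u hu hu1
    rcases hirr (fix u) (by
      intro g v hv
      rw [mem_fix, smul_smul, ← hu g, ← smul_smul, mem_fix.1 hv]) with h | h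
    · exact h
    · exfalso
      apply hu1
      apply hfaith
      intro v
      have : v ∈ fix (V := V) u := by rw [h]; exact Subgroup.mem_top v
      exact this
  -- the factorization gives a cardinality bound
  have hbound : ∀ c ∈ C, ∀ d ∈ D, Nat.card V ≤ Nat.card (fix (V := V) d) * Nat.card (fix (V := V) c) := by
    intro c hc d hd
    rw [← Nat.card_prod]
    refine Nat.card_le_card_of_surjective (fun ab : fix (V := V) d × fix (V := V) c => (ab.1 : V) * ab.2) ?_
    intro v
    obtain ⟨a, b, hv, ha, hb⟩ := hfact c hc d hd v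
    exact ⟨(⟨a, ha⟩, ⟨b, hb⟩), hv.symm⟩
  have hV2 : 2 ≤ Nat.card V := by
    have := Finite.one_lt_card (α := V)
    omega
  have hnotle : ∀ (H : Subgroup R), H ≠ ⊤ → ∀ S : Set R, Subgroup.closure S = ⊤ → ∃ c ∈ S, c ∉ H := by
    intro H hH S hS
    by_contra hcon
    push Not at hcon
    apply hH
    apply le_antisymm le_top
    rw [← hS, Subgroup.closure_le]
    exact hcon
  by_cases hab : ∀ a b : R, a * b = b * a
  · -- abelian case
    have hbot : (⊥ : Subgroup R) ≠ ⊤ := by
      intro h
      obtain ⟨x, hx⟩ := exists_ne (1 : R)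
      have : x ∈ (⊥ : Subgroup R) := by rw [h]; exact Subgroup.mem_top x
      exact hx (Subgroup.mem_bot.1 this)
    obtain ⟨c, hcC, hc1⟩ := hnotle ⊥ hbot C hC
    obtain ⟨d, hdD, hd1⟩ := hnotle ⊥ hbot D hD
    have h1 := hbound c hcC d hdD
    rw [hcent c (fun r => hab r c) (fun h => hc1 (h ▸ Subgroup.mem_bot.2 rfl)),
      hcent d (fun r => hab r d) (fun h => hd1 (h ▸ Subgroup.mem_bot.2 rfl))] at h1
    simp at h1
    omega
  · -- nonabelian case
    haveI : Group.IsNilpotent R := hR.isNilpotent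
    obtain ⟨a, ha2, g₀, hg₀⟩ := exists_second_center hab
    have hHtop : Subgroup.centralizer ({a} : Set R) ≠ ⊤ := by
      intro h
      have : g₀ ∈ Subgroup.centralizer ({a} : Set R) := by rw [h]; exact Subgroup.mem_top _
      rw [Subgroup.mem_centralizer_iff] at this
      exact hg₀ (this a rfl).symm
    have key : ∀ g : R, g ∉ Subgroup.centralizer ({a} : Set R) →
        Nat.card (fix (V := V) g) ^ p ≤ Nat.card V := by
      intro g hg
      -- `y₀ = ⁅a, g⁆⁻¹`-type central element
      obtain ⟨y₀, hy₀⟩ : ∃ y₀ : R, y₀ = ⁅a⁻¹, g⁆ := ⟨_, rfl⟩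
      -- a⁻¹ g a = g * y for central y
      have hcentral : ∀ r : R, r * ⁅a, g⁆ = ⁅a, g⁆ * r := ha2 g
      -- define y by a⁻¹ * g * a = g * y
      obtain ⟨y, hy⟩ : ∃ y : R, y = g⁻¹ * a⁻¹ * g * a := ⟨_, rfl⟩
      have hyc : ∀ r : R, r * y = y * r := by
        intro r
        -- y = a⁻¹ * ⁅a, g⁆⁻¹... compute: ⁅a,g⁆ = a g a⁻¹ g⁻¹ ; y = g⁻¹ a⁻¹ g a = g⁻¹ * ⁅a,g⁆⁻¹ * g = ⁅a,g⁆⁻¹
        have h2 : ∀ r : R, r * ⁅a, g⁆⁻¹ = ⁅a, g⁆⁻¹ * r := by
          intro r
          have := hcentral r
          calc r * ⁅a, g⁆⁻¹ = ⁅a, g⁆⁻¹ * (⁅a, g⁆ * r) * ⁅a, g⁆⁻¹ := by group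
            _ = ⁅a, g⁆⁻¹ * (r * ⁅a, g⁆) * ⁅a, g⁆⁻¹ := by rw [this]
            _ = ⁅a, g⁆⁻¹ * r := by group
        have hyeq : y = ⁅a, g⁆⁻¹ := by
          have h1 : (g * a)⁻¹ * ⁅a, g⁆⁻¹ * (g * a) = ⁅a, g⁆⁻¹ := by
            rw [h2 (g * a)⁻¹, mul_assoc, inv_mul_cancel, mul_one]
          rw [hy, ← h1, commutatorElement_def]
          group
        rw [hyeq]
        have := hcentral r
        calc r * ⁅a, g⁆⁻¹ = ⁅a, g⁆⁻¹ * (⁅a, g⁆ * r) * ⁅a, g⁆⁻¹ := by group
          _ = ⁅a, g⁆⁻¹ * (r * ⁅a, g⁆) * ⁅a, g⁆⁻¹ := by rw [this]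
          _ = ⁅a, g⁆⁻¹ * r := by group
      have hy1 : y ≠ 1 := by
        intro h
        apply hg
        rw [Subgroup.mem_centralizer_iff]
        intro x hx
        rw [Set.mem_singleton_iff] at hx
        subst hx
        have : g⁻¹ * x⁻¹ * g * x = 1 := by rw [← hy]; exact h
        have h2 : g * x = x * g := by
          calc g * x = x * g * (g⁻¹ * x⁻¹ * g * x) := by group
            _ = x * g := by rw [this, mul_one]
        exact h2.symm
      have hb0 : a⁻¹ * g * (a⁻¹)⁻¹ = g * y := by rw [hy]; group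
      -- order of y is p^j
      obtain ⟨j, hj⟩ := (IsPGroup.iff_orderOf.1 hR) y
      have hj0 : j ≠ 0 := by
        intro h
        rw [h, pow_zero, orderOf_eq_one_iff] at hj
        exact hy1 hj
      obtain ⟨m, hm⟩ : ∃ m, m = p ^ (j - 1) := ⟨_, rfl⟩
      have hm0 : m ≠ 0 := by rw [hm]; exact pow_ne_zero _ hp.out.ne_zero
      have hmdvd : m ∣ orderOf y := by
        rw [hj, hm]; exact pow_dvd_pow p (Nat.sub_le j 1)
      have hord : orderOf (y ^ m) = p := by
        rw [orderOf_pow_of_dvd hm0 hmdvd, hj, hm, Nat.pow_div (Nat.sub_le j 1) hp.out.pos]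
        have : j - (j - 1) = 1 := by omega
        rw [this, pow_one]
      have hyc' : ∀ r : R, r * y ^ m = y ^ m * r := fun r => central_pow hyc m r
      have hyp' : (y ^ m) ^ p = 1 := by rw [← hord]; exact pow_orderOf_eq_one _
      refine card_fix_pow_le hpV g (y ^ m) ((a⁻¹) ^ m) hyc' hyp' ?_ (conj_pow _ _ _ hyc hb0 m)
      intro t ht0 htp
      apply hcent
      · exact fun r => central_pow hyc' t r
      · apply pow_ne_one_of_lt_orderOf (by omega)
        rw [hord]; exact htp
    obtain ⟨c, hcC, hc⟩ := hnotle _ hHtop C hC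
    obtain ⟨d, hdD, hd⟩ := hnotle _ hHtop D hD
    have h1 := hbound c hcC d hdD
    have h2 := key c hc
    have h3 := key d hd
    have h4 : Nat.card V ^ p ≤ Nat.card V ^ 2 := by
      calc Nat.card V ^ p ≤ (Nat.card (fix (V := V) d) * Nat.card (fix (V := V) c)) ^ p :=
            Nat.pow_le_pow_left h1 p
        _ = Nat.card (fix (V := V) d) ^ p * Nat.card (fix (V := V) c) ^ p := mul_pow _ _ _
        _ ≤ Nat.card V * Nat.card V := Nat.mul_le_mul h3 h2
        _ = Nat.card V ^ 2 := (sq _).symm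
    have h5 : Nat.card V ^ 2 < Nat.card V ^ p := Nat.pow_lt_pow_right (by omega) (by omega)
    omega

end Cfsg.Agent.Lead.GenPairFin
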