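import Mathlib
import Cfsg.Agent.Lead.GexH

set_option autoImplicit false

/-!
The main theorem: a generalized extraspecial strongly closed subgroup, not of the two exceptional
shapes, is normal in a saturated fusion system.
-/

namespace Cfsg.Agent.Lead.Gex

open Cfsg Cfsg.FusionSystem Cfsg.Agent.Lead Cfsg.Agent.Lead.Meta

open scoped commutatorElement

variable {Ω : Type*} [Group Ω] {S : Subgroup Ω}

/-- In a group of order two, two non-identity elements are equal. -/
theorem eq_of_card_two {H : Type*} [Group H] (hcard : Nat.card H = 2) {a b : H} (ha : a ≠ 1)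
    (hb : b ≠ 1) : a = b := by
  haveI : Fact (Nat.Prime 2) := ⟨Nat.prime_two⟩
  have : Finite H := Nat.finite_of_card_ne_zero (by rw [hcard]; norm_num)
  have htop := zpowers_eq_top_of_prime_card hcard ha
  have hbm : b ∈ Subgroup.zpowers a := by rw [htop]; exact Subgroup.mem_top b
  obtain ⟨k, hk⟩ := mem_powers_iff_mem_zpowers.mpr hbm
  have ha2 : a ^ 2 = 1 := by
    have := pow_card_eq_one' (G := H) (x := a)
    rwa [hcard] at this
  have hk' : a ^ k = b := hk
  rcases Nat.even_or_odd' k with ⟨m, hm | hm⟩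
  · exfalso
    apply hb
    rw [← hk', hm, pow_mul, ha2, one_pow]
  · rw [← hk', hm, pow_succ, pow_mul, ha2, one_pow, one_mul]

set_option maxHeartbeats 800000 in
theorem le_of_centric_radical [Finite S] (p : ℕ) [hp : Fact p.Prime] (hS : IsPGroup p S)
    (F : FusionSystem S) (hF : F.IsSaturated p) {P Q : Subgroup Ω} (hP : F.StronglyClosed P)
    (hge : frattini ↥P = commutator ↥P ∧ Nat.card ↥(commutator ↥P) = p)
    (h2 : p = 2 → ¬ ∃ (A : Type) (_ : CommGroup A), (∀ a : A, a ^ 2 = 1) ∧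
      Nonempty (↥P ≃* DihedralGroup 4 × A))
    (hodd : p ≠ 2 → ¬ ∃ (E : Type) (_ : Group E) (A : Type) (_ : CommGroup A),
      Cfsg.IsExtraspecial p E ∧ Nat.card E = p ^ 3 ∧ Monoid.exponent E = p ∧
      (∀ a : A, a ^ p = 1) ∧ Nonempty (↥P ≃* E × A))
    (hc : F.IsCentric Q) (hfn : F.IsFullyNormalized Q) (hr : F.IsRadical p Q) : P ≤ Q := by
  by_contra hPQ
  have h := setup_of p hS F hF hP hge hc hfn hr
  have hPS := hP.1
  haveI : Finite P := Fusion.finite_of_le hPS
  have hPp : IsPGroup p P := hS.to_le hPS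
  obtain ⟨α, hαA, z, hz, hαz⟩ := h.exists_moving hPQ
  have hα : Moves ((commutator ↥P).map P.subtype) α := ⟨z, hz, hαz⟩
  have hz1 := Setup.moves_ne_one hαz
  obtain ⟨d, hdP, hdQ⟩ := SetLike.not_le_iff_exists.mp hPQ
  obtain ⟨z'P, hz'Pdef⟩ : ∃ z'P : ↥P, z'P = ⟨((α z : Q) : Ω), h.moved_mem_P hαA hz⟩ := ⟨_, rfl⟩
  have hz'Pcoe : (z'P : Ω) = ((α z : Q) : Ω) := by rw [hz'Pdef]
  have hmemZ : ∀ w : ↥P, w ∈ commutator ↥P → (w : Ω) ∈ (commutator ↥P).map P.subtype :=
    fun w hw => ⟨w, hw, rfl⟩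
  have fZc : ∀ g : ↥P, ∀ w ∈ commutator ↥P, g * w = w * g := by
    intro g w hw
    apply Subtype.ext
    exact h.hZc g.1 (hPS g.2) w.1 (hmemZ w hw)
  have fcomm : ∀ a b : ↥P, a * b * a⁻¹ * b⁻¹ ∈ commutator ↥P := by
    intro a b
    have h1 : ⁅a, b⁆ ∈ ⁅(⊤ : Subgroup ↥P), ⊤⁆ :=
      Subgroup.commutator_mem_commutator (Subgroup.mem_top a) (Subgroup.mem_top b)
    rw [← commutator_def, commutatorElement_def] at h1
    exact h1
  have fMab : ∀ a ∈ Q.subgroupOf P, ∀ b ∈ Q.subgroupOf P, a * b = b * a := by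
    intro a ha b hb
    rw [Subgroup.mem_subgroupOf] at ha hb
    have h1 := h.M_comm hαA hα (a := ⟨a.1, ha⟩) (b := ⟨b.1, hb⟩)
      (Subgroup.mem_subgroupOf.mpr a.2) (Subgroup.mem_subgroupOf.mpr b.2)
    apply Subtype.ext
    have h2 : (a : Ω) * (b : Ω) = (b : Ω) * (a : Ω) := congrArg Subtype.val h1
    exact h2
  have fMexp : ∀ a ∈ Q.subgroupOf P, a ^ p = 1 := by
    intro a ha
    rw [Subgroup.mem_subgroupOf] at ha
    have h1 := h.M_exp hαA hα (a := ⟨a.1, ha⟩) (Subgroup.mem_subgroupOf.mpr a.2)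
    apply Subtype.ext
    have h2 := congrArg Subtype.val h1
    rw [Subgroup.coe_pow] at h2
    rw [Subgroup.coe_pow]
    exact h2
  have fZM : commutator ↥P ≤ Q.subgroupOf P := by
    intro w hw
    rw [Subgroup.mem_subgroupOf]
    exact h.Z_le_Q hα (hmemZ w hw)
  have fz' : z'P ∈ Q.subgroupOf P := by
    rw [Subgroup.mem_subgroupOf, hz'Pcoe]
    exact (α z).2
  have fC : ∀ c : ↥P, c * z'P = z'P * c → c ∈ Q.subgroupOf P := by
    intro c hcz
    rw [Subgroup.mem_subgroupOf]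
    have h1 := congrArg Subtype.val hcz
    rw [Subgroup.coe_mul, Subgroup.coe_mul, hz'Pcoe] at h1
    exact h.mem_Q_of_comm hαA hα hz hz1 c.2 h1
  have hdM : (⟨d, hdP⟩ : P) ∉ Q.subgroupOf P := by
    rw [Subgroup.mem_subgroupOf]
    exact hdQ
  have hpowZ : ∀ g : ↥P, g ^ p ∈ commutator ↥P := by
    intro g
    rw [← hge.1]
    exact Cfsg.Agent.Helper1.IsPGroup.pow_mem_frattini hPp g
  have hZpow : ∀ w ∈ commutator ↥P, w ^ p = 1 := by
    intro w hw
    have h1 : (⟨w, hw⟩ : commutator ↥P) ^ Nat.card (commutator ↥P) = 1 := pow_card_eq_one'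
    rw [hge.2] at h1
    have h2 := congrArg Subtype.val h1
    rw [Subgroup.coe_pow] at h2
    exact h2
  by_cases hp2 : p = 2
  · subst hp2
    -- an involution outside `Q`
    have hex : ∃ x : ↥P, x ∉ Q.subgroupOf P ∧ x ^ 2 = 1 := by
      by_cases hd2 : (⟨d, hdP⟩ : P) ^ 2 = 1
      · exact ⟨⟨d, hdP⟩, hdM, hd2⟩
      · obtain ⟨dP, hdPdef⟩ : ∃ dP : ↥P, dP = ⟨d, hdP⟩ := ⟨_, rfl⟩
        rw [← hdPdef] at hd2 hdM
        refine ⟨dP * z'P, ?_, ?_⟩
        · intro hmem
          apply hdM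
          have h1 : dP = (dP * z'P) * z'P⁻¹ := by group
          rw [h1]
          exact Subgroup.mul_mem _ hmem (Subgroup.inv_mem _ fz')
        · have he : dP⁻¹ * z'P * dP * z'P⁻¹ ∈ commutator ↥P := by
            have := fcomm dP⁻¹ z'P
            rwa [inv_inv] at this
          have he1 : dP⁻¹ * z'P * dP * z'P⁻¹ ≠ 1 := by
            intro h1
            apply hdM
            have h2 : dP⁻¹ * z'P = z'P * dP⁻¹ := by
              calc dP⁻¹ * z'P = (dP⁻¹ * z'P * dP * z'P⁻¹) * (z'P * dP⁻¹) := by group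
                _ = z'P * dP⁻¹ := by rw [h1, one_mul]
            have h3 := fC dP⁻¹ h2
            have h4 := Subgroup.inv_mem _ h3
            rwa [inv_inv] at h4
          have heq : (⟨dP ^ 2, hpowZ dP⟩ : commutator ↥P) =
              ⟨dP⁻¹ * z'P * dP * z'P⁻¹, he⟩ := by
            apply eq_of_card_two hge.2
            · intro h1
              exact hd2 (congrArg Subtype.val h1)
            · intro h1
              exact he1 (congrArg Subtype.val h1)
          have heq' : dP ^ 2 = dP⁻¹ * z'P * dP * z'P⁻¹ := congrArg Subtype.val heq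
          have hz2 : z'P ^ 2 = 1 := fMexp z'P fz'
          have he2 : (dP⁻¹ * z'P * dP * z'P⁻¹) ^ 2 = 1 := hZpow _ he
          calc (dP * z'P) ^ 2 = (dP * z'P) * (dP * z'P) := pow_two _
            _ = (dP * dP) * (dP⁻¹ * z'P * dP * z'P⁻¹) * (z'P * z'P) := by group
            _ = dP ^ 2 * (dP⁻¹ * z'P * dP * z'P⁻¹) * z'P ^ 2 := by rw [← pow_two, ← pow_two]
            _ = (dP⁻¹ * z'P * dP * z'P⁻¹) ^ 2 := by rw [heq', hz2, mul_one, pow_two]
            _ = 1 := he2
    obtain ⟨x, hxM, hx2⟩ := hex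
    have hsd : SData 2 (commutator ↥P) (Q.subgroupOf P) x z'P :=
      { hZcard := hge.2
        hZc := fZc
        hcomm := fcomm
        hMab := fMab
        hMexp := fMexp
        hZM := fZM
        hz' := fz'
        hC := fC
        hx := hxM
        hxp := hx2 }
    obtain ⟨A, iA, hA, e⟩ := hsd.exists_dihedral
    exact h2 rfl ⟨A, iA, hA, e⟩
  · -- exponent `p`
    have hcen : commutator ↥P ≤ Subgroup.center ↥P := by
      intro w hw
      rw [Subgroup.mem_center_iff]
      intro g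
      exact fZc g w hw
    have hpodd : p * (p - 1) / 2 = p * ((p - 1) / 2) := by
      apply Nat.mul_div_assoc
      have hodd' : Odd p := hp.out.odd_of_ne_two hp2
      obtain ⟨k, hk⟩ := hodd'
      exact ⟨k, by omega⟩
    have hexp : ∀ g : ↥P, g ^ p = 1 := by
      intro g
      by_cases hgQ : (g : Ω) ∈ Q
      · exact fMexp g (Subgroup.mem_subgroupOf.mpr hgQ)
      · obtain ⟨q₁, hq₁P, hq₁Q, hq₁⟩ := h.exists_pow_inv hαA hα g.2 hgQ
        have hq : ((⟨q₁, hq₁P⟩ : P) * g) ^ p = (g ^ p)⁻¹ := by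
          apply Subtype.ext
          rw [Subgroup.coe_pow, Subgroup.coe_mul, Subgroup.coe_inv, Subgroup.coe_pow]
          exact hq₁
        have hform := Cfsg.Agent.S0841.result hcen (⟨q₁, hq₁P⟩ : P) g p
        have hq₁p : (⟨q₁, hq₁P⟩ : P) ^ p = 1 := fMexp _ (Subgroup.mem_subgroupOf.mpr hq₁Q)
        have hcmem : g⁻¹ * (⟨q₁, hq₁P⟩ : P)⁻¹ * g * ⟨q₁, hq₁P⟩ ∈ commutator ↥P := by
          have := fcomm g⁻¹ (⟨q₁, hq₁P⟩ : P)⁻¹
          rwa [inv_inv, inv_inv] at this
        rw [hq, hq₁p, one_mul, hpodd, pow_mul, hZpow _ hcmem, one_pow, mul_one] at hform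
        have h3 : (g ^ p) ^ 2 = 1 := by
          rw [pow_two]
          nth_rewrite 1 [← hform]
          exact inv_mul_cancel _
        have h4 : (g ^ p) ^ p = 1 := hZpow _ (hpowZ g)
        have h5 : orderOf (g ^ p) ∣ Nat.gcd 2 p :=
          Nat.dvd_gcd (orderOf_dvd_of_pow_eq_one h3) (orderOf_dvd_of_pow_eq_one h4)
        have h6 : Nat.gcd 2 p = 1 := by
          rw [Nat.gcd_comm]
          exact (Nat.Prime.coprime_iff_not_dvd hp.out).mpr (fun hdvd =>
            hp2 ((Nat.prime_dvd_prime_iff_eq hp.out Nat.prime_two).mp hdvd))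
        rw [h6, Nat.dvd_one, orderOf_eq_one_iff] at h5
        exact h5
    have hsd : SData p (commutator ↥P) (Q.subgroupOf P) (⟨d, hdP⟩ : P) z'P :=
      { hZcard := hge.2
        hZc := fZc
        hcomm := fcomm
        hMab := fMab
        hMexp := fMexp
        hZM := fZM
        hz' := fz'
        hC := fC
        hx := hdM
        hxp := hexp _ }
    obtain ⟨E', iE', A', iA', h1, h2', h3, h4, e⟩ := hsd.exists_extra hexp
    exact hodd hp2 ⟨E', iE', A', iA', h1, h2', h3, h4, e⟩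

/-- A generalized extraspecial strongly closed subgroup is normal in a saturated fusion system. -/
theorem isNormal_of_genExtraspecial [Finite S] (p : ℕ) [hp : Fact p.Prime] (hS : IsPGroup p S)
    (F : FusionSystem S) (hF : F.IsSaturated p) {P : Subgroup Ω} (hP : F.StronglyClosed P)
    (hge : frattini ↥P = commutator ↥P ∧ Nat.card ↥(commutator ↥P) = p)
    (h2 : p = 2 → ¬ ∃ (A : Type) (_ : CommGroup A), (∀ a : A, a ^ 2 = 1) ∧
      Nonempty (↥P ≃* DihedralGroup 4 × A))
    (hodd : p ≠ 2 → ¬ ∃ (E : Type) (_ : Group E) (A : Type) (_ : CommGroup A),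
      Cfsg.IsExtraspecial p E ∧ Nat.card E = p ^ 3 ∧ Monoid.exponent E = p ∧
      (∀ a : A, a ^ p = 1) ∧ Nonempty (↥P ≃* E × A)) : F.IsNormal P := by
  apply Fusion.isNormal_of_forall_essential p hS F hF P
  intro R hR
  have hRS : R ≤ S := by
    rcases hR with rfl | hess
    · exact le_rfl
    · exact hess.1.1
  have hPR : P ≤ R := by
    rcases hR with rfl | hess
    · exact hP.1
    · exact le_of_centric_radical p hS F hF hP hge h2 hodd hess.1 hess.2.1
        (Fusion.isRadical_of_isEssential p hS F hess)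
  refine ⟨hPR, fun α hα => ?_⟩
  haveI : Finite R := Fusion.finite_of_le hRS
  apply Fusion.map_aut_eq_of_le
  rintro _ ⟨x, hx, rfl⟩
  rw [SetLike.mem_coe, Subgroup.mem_subgroupOf] at hx
  rw [Subgroup.mem_subgroupOf]
  exact aut_map_mem F hP hRS hα x hx

end Cfsg.Agent.Lead.Gex
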