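import Mathlib
import Cfsg.Agent.Lead.GlThK
import Cfsg.Agent.Helper1.StrongClosedNPCe

set_option autoImplicit false

/-!
Glauberman-Thompson for fusion systems relative to a strongly closed subgroup, part L: the induction.
-/

namespace Cfsg.Agent.Lead.GlTh

open Cfsg Cfsg.FusionSystem Cfsg.Agent.Lead Cfsg.Agent.Helper1 Cfsg.Agent.Helper1.ThompsonRed

universe u

theorem normalizer_inf_le {G : Type*} [Group G] (A B : Subgroup G) :
    Subgroup.normalizer (A : Set G) ⊓ Subgroup.normalizer (B : Set G) ≤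
      Subgroup.normalizer ((A ⊓ B : Subgroup G) : Set G) := by
  intro x hx
  obtain ⟨hA, hB⟩ := Subgroup.mem_inf.mp hx
  rw [Subgroup.mem_normalizer_iff] at hA hB ⊢
  intro y
  rw [Subgroup.mem_inf, Subgroup.mem_inf, ← hA y, ← hB y]

theorem main_auxD (p : ℕ) [Fact p.Prime] (W : CharFunctor.{u})
    (hne : ∀ (R : Type u) [Group R] [Finite R], IsPGroup p R → Nontrivial R → W.W R ≠ ⊥)
    (hgrp : ∀ (G : Type u) [Group G] [Finite G] (P : Sylow p G) (D : Subgroup G),
      IsStronglyClosed D (P : Subgroup G) →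
      HasNormalPComplement p ↥(Subgroup.normalizer (W.of D : Set G)) →
        HasNormalPComplement p G) :
    ∀ (n : ℕ) (Ω : Type u) [Group Ω] (S : Subgroup Ω) [Finite S], Nat.card S = n → IsPGroup p S →
      ∀ (F : FusionSystem S) (D : Subgroup Ω), F.IsSaturated p → F.StronglyClosed D →
        NP p F (W.of D) → Inner p F := by
  intro n
  induction n using Nat.strong_induction_on with
  | _ n ih =>
  intro Ω _ S _ hn hS F D hF hD hW
  by_cases hDbot : D = ⊥
  · have h1 : W.of D = ⊥ := le_bot_iff.mp (hDbot ▸ W.of_le D)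
    rw [h1] at hW
    exact inner_of_np_bot F hW
  by_contra hni
  have IH : ∀ (Ω' : Type u) [Group Ω'] (S' : Subgroup Ω') [Finite S'],
      Nat.card S' < Nat.card S → IsPGroup p S' →
      ∀ (F' : FusionSystem S') (D' : Subgroup Ω'), F'.IsSaturated p → F'.StronglyClosed D' →
        NP p F' (W.of D') → Inner p F' :=
    fun Ω' _ S' _ hlt hS' F' D' hF' hD' hW' =>
      ih (Nat.card S') (hn ▸ hlt) Ω' S' rfl hS' F' D' hF' hD' hW'
  have hDS : D ≤ S := hD.1
  have hSnD := le_normalizer_of_stronglyClosed F hD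
  let Bad : Subgroup Ω → Prop := fun Q => Q ≠ ⊥ ∧ F.IsFullyNormalized Q ∧ ¬ NP p F Q
  have hbad : ∃ Q, Bad Q := by
    unfold Inner at hni
    push Not at hni
    obtain ⟨P, hPS, α, hα, hαk⟩ := hni
    haveI : Finite P := Fusion.finite_of_le hPS
    have hnpP : ¬ NP p F P := by
      intro h
      obtain ⟨k, hk⟩ := h P le_rfl (Fusion.le_normalizerIn hPS) α hα (map_top_subgroupOf P α)
      exact hαk k hk
    obtain ⟨P', hfn, hcard, -, himp⟩ := exists_fullyNormalized_np p hS F hF hPS
    refine ⟨P', ?_, hfn, fun h => hnpP (himp h)⟩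
    intro hbot
    have h1 : Nat.card P = 1 := by rw [← hcard, hbot, Subgroup.card_bot]
    have hsub : Subsingleton P := (Nat.card_eq_one_iff_unique.mp h1).1
    apply hαk 0
    ext x
    exact congrArg Subtype.val (Subsingleton.elim _ _)
  let f : Subgroup Ω → ℕ := fun Q => Nat.card (normalizerIn S Q) * (Nat.card S + 1) + Nat.card Q
  have hfB : ∀ Q ∈ {Q | Bad Q}, f Q ≤ Nat.card S * (Nat.card S + 1) + Nat.card S := by
    intro Q hQ
    have h1 : Nat.card (normalizerIn S Q) ≤ Nat.card S := Subgroup.card_le_of_le inf_le_left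
    have h2 : Nat.card Q ≤ Nat.card S := Subgroup.card_le_of_le hQ.2.1.1
    exact Nat.add_le_add (Nat.mul_le_mul_right _ h1) h2
  obtain ⟨Q, hQbad, hmax⟩ := exists_max_of_bddAbove {Q | Bad Q} hbad f _ hfB
  obtain ⟨hQne, hQfn, hQnp⟩ := hQbad
  have hQS := hQfn.1
  haveI : Finite Q := Fusion.finite_of_le hQS
  obtain ⟨N, hN⟩ := Cfsg.Agent.S5096.result F Q hQS
  have hNsat := Fusion.normalizerSystem_isSaturated p hS F hF Q hQfn N hN
  have hNni : ¬ Inner p N := fun h => hQnp ((np_iff_normalizer_inner F hQS N hN).mpr h)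
  have hRS : normalizerIn S Q ≤ S := inf_le_left
  haveI : Finite ↥(normalizerIn S Q) := Fusion.finite_of_le hRS
  have hRp : IsPGroup p ↥(normalizerIn S Q) := hS.to_le hRS
  have hQR : Q ≤ normalizerIn S Q := Fusion.le_normalizerIn hQS
  have hQcard : 1 < Nat.card Q := Q.one_lt_card_iff_ne_bot.mpr hQne
  have hNsub := normalizerSystem_hom_subset F N hN
  -- the strongly closed subgroup of the normalizer system
  have hD₁ : N.StronglyClosed (D ⊓ normalizerIn S Q) := by
    refine ⟨inf_le_right, fun R' hR' φ hφ x => ?_⟩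
    exact Subgroup.mem_inf.mpr ⟨hD.2 R' (hR'.trans inf_le_left) φ (hNsub R' hφ) x,
      (N.le_of_mem hφ).2 x⟩
  have hD₁S : D ⊓ normalizerIn S Q ≤ S := inf_le_left.trans hDS
  haveI : Finite ↥(D ⊓ normalizerIn S Q) := Fusion.finite_of_le hD₁S
  have hD₁p : IsPGroup p ↥(D ⊓ normalizerIn S Q) := hS.to_le hD₁S
  have hD₁ne : D ⊓ normalizerIn S Q ≠ ⊥ := by
    haveI : (D.subgroupOf S).Normal := by
      constructor
      intro d hd s
      rw [Subgroup.mem_subgroupOf] at hd ⊢
      exact (Subgroup.mem_normalizer_iff.mp (hSnD s.2) d).mp hd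
    have hDne' : D.subgroupOf S ≠ ⊥ := by
      intro h
      apply hDbot
      rw [Subgroup.subgroupOf_eq_bot] at h
      rw [eq_bot_iff]
      intro d hd
      have : d ∈ D ⊓ S := Subgroup.mem_inf.mpr ⟨hd, hDS hd⟩
      rw [disjoint_iff.mp h] at this
      exact this
    obtain ⟨b, hbD, hbZ, hb1⟩ :=
      Cfsg.Agent.Helper6.exists_mem_center_of_normal_ne_bot p hS (D.subgroupOf S) hDne'
    rw [Subgroup.mem_subgroupOf] at hbD
    intro h
    apply hb1
    have hbN : (b : Ω) ∈ Subgroup.normalizer (Q : Set Ω) := by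
      apply mem_normalizer_of_conj_mem_of_finite
      intro y hy
      have h2 := Subgroup.mem_center_iff.mp hbZ ⟨y, hQS hy⟩
      have h3 : y * (b : Ω) = (b : Ω) * y := congrArg Subtype.val h2
      have h4 : (b : Ω) * y * (b : Ω)⁻¹ = y := by rw [← h3]; group
      rw [h4]
      exact hy
    have h5 : (b : Ω) ∈ D ⊓ normalizerIn S Q :=
      Subgroup.mem_inf.mpr ⟨hbD, Subgroup.mem_inf.mpr ⟨b.2, hbN⟩⟩
    rw [h, Subgroup.mem_bot] at h5
    exact Subtype.ext h5
  have hD₁nt : 1 < Nat.card ↥(D ⊓ normalizerIn S Q) :=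
    (D ⊓ normalizerIn S Q).one_lt_card_iff_ne_bot.mpr hD₁ne
  have hW₁ne := of_ne_bot' W p hne (D ⊓ normalizerIn S Q) hD₁p hD₁nt
  have hReq : normalizerIn S Q = S := by
    by_contra hRne
    have hRlt : Nat.card ↥(normalizerIn S Q) < Nat.card S :=
      card_lt_of_lt (lt_of_le_of_ne hRS hRne)
    have h1 : ¬ NP p N (W.of (D ⊓ normalizerIn S Q)) :=
      fun h => hNni (IH Ω (normalizerIn S Q) hRlt hRp N _ hNsat hD₁ h)
    unfold NP at h1
    push Not at h1
    obtain ⟨P, hWP, hPN, α, hα, hαW, hαk⟩ := h1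
    have hPR : P ≤ normalizerIn S Q := hPN.trans inf_le_left
    have hα' := (Fusion.mem_autGroup_iff N hPR α).mp hα
    rw [hN P] at hα'
    obtain ⟨-, -, -, ψ, hψ, hψP, hψQ⟩ := hα'
    obtain ⟨β, hβ, hβP, hβQ⟩ := exists_aut_sup F α ψ hψ hψP hψQ
    have hPQR : P ⊔ Q ≤ normalizerIn S Q := sup_le hPR hQR
    haveI : Finite ↥(P ⊔ Q) := Fusion.finite_of_le (hPQR.trans hRS)
    have hRnD₁ : normalizerIn S Q ≤
        Subgroup.normalizer ((D ⊓ normalizerIn S Q : Subgroup Ω) : Set Ω) :=
      (le_inf (hRS.trans hSnD) Subgroup.le_normalizer).trans (normalizer_inf_le _ _)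
    have hRnW : normalizerIn S Q ≤
        Subgroup.normalizer (W.of (D ⊓ normalizerIn S Q) : Set Ω) :=
      hRnD₁.trans (W.normalizer_le _)
    have hW₁S : W.of (D ⊓ normalizerIn S Q) ≤ S := (W.of_le _).trans hD₁S
    have hnpW₁ : ¬ NP p F (W.of (D ⊓ normalizerIn S Q)) := by
      intro h
      obtain ⟨k, hk⟩ := h (P ⊔ Q) (hWP.trans le_sup_left)
        (le_inf (hPQR.trans hRS) (hPQR.trans hRnW)) β hβ (by
          apply Fusion.map_aut_eq_of_le
          rintro _ ⟨x, hx, rfl⟩
          rw [SetLike.mem_coe, Subgroup.mem_subgroupOf] at hx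
          rw [Subgroup.mem_subgroupOf]
          have hxP : (x : Ω) ∈ P := hWP hx
          have h2 : x = Subgroup.inclusion le_sup_left ⟨x.1, hxP⟩ := rfl
          have h3 : α ⟨x.1, hxP⟩ ∈
              ((W.of (D ⊓ normalizerIn S Q)).subgroupOf P).map α.toMonoidHom :=
            ⟨_, by rw [SetLike.mem_coe, Subgroup.mem_subgroupOf]; exact hx, rfl⟩
          rw [hαW, Subgroup.mem_subgroupOf] at h3
          show ((β x : ↥(P ⊔ Q)) : Ω) ∈ _
          rw [h2, hβP]
          exact h3)
      exact hαk k (pow_eq_one_of_restrict le_sup_left α β hβP hk)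
    obtain ⟨W₁', hfn', hcard', hNle, himp⟩ := exists_fullyNormalized_np p hS F hF hW₁S
    haveI : Finite ↥(W.of (D ⊓ normalizerIn S Q)) := Fusion.finite_of_le hW₁S
    have hWcard := (W.of (D ⊓ normalizerIn S Q)).one_lt_card_iff_ne_bot.mpr hW₁ne
    have hbad' : Bad W₁' := by
      refine ⟨?_, hfn', fun h => hnpW₁ (himp h)⟩
      intro hbot
      rw [← hcard', hbot, Subgroup.card_bot] at hWcard
      exact lt_irrefl _ hWcard
    have h5 : f W₁' ≤ f Q := hmax W₁' hbad'
    have h2 : Nat.card ↥(normalizerIn S Q) < Nat.card ↥(normalizerIn S (normalizerIn S Q)) :=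
      Fusion.card_lt_card_normalizerIn hS hRS hRne
    have h3 : normalizerIn S (normalizerIn S Q) ≤
        normalizerIn S (W.of (D ⊓ normalizerIn S Q)) := by
      refine le_inf inf_le_left ?_
      refine le_trans ?_ (W.normalizer_le _)
      exact (le_inf (inf_le_left.trans hSnD) inf_le_right).trans (normalizer_inf_le _ _)
    haveI : Finite ↥(normalizerIn S (W.of (D ⊓ normalizerIn S Q))) :=
      Fusion.finite_of_le (inf_le_left : normalizerIn S (W.of (D ⊓ normalizerIn S Q)) ≤ S)
    have h4 : Nat.card ↥(normalizerIn S (normalizerIn S Q)) ≤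
        Nat.card ↥(normalizerIn S (W.of (D ⊓ normalizerIn S Q))) := Subgroup.card_le_of_le h3
    have hQle : Nat.card Q ≤ Nat.card S := Subgroup.card_le_of_le hQS
    have h6 : Nat.card ↥(normalizerIn S Q) + 1 ≤ Nat.card ↥(normalizerIn S W₁') := by omega
    have h7 := Nat.mul_le_mul_right (Nat.card S + 1) h6
    simp only [f] at h5
    rw [Nat.add_mul, one_mul] at h7
    omega
  have hSR : S ≤ normalizerIn S Q := hReq.ge
  have hD₁eq : D ⊓ normalizerIn S Q = D := inf_eq_left.mpr (hDS.trans hSR)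
  apply hNni
  apply step3D p hRp W hne hgrp ?_ N hNsat (Fusion.normalizerSystem_isNormal F hQS N hN) hQne hD₁
    ?_ ?_
  · intro Ω' _ S' _ hlt
    exact IH Ω' S' (lt_of_lt_of_le hlt (Subgroup.card_le_of_le hRS))
  · intro P hWP hPN α hα hαW
    have hαF : α ∈ F.autGroup P := autGroup_mono N F hNsub P hα
    rw [hD₁eq] at hWP hPN hαW
    exact hW P hWP (le_inf ((hPN.trans inf_le_left).trans hRS) (hPN.trans inf_le_right)) α hαF hαW
  · intro U hUR hRnU hQU
    have hUS : U ≤ S := hUR.trans hRS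
    have hSnU : S ≤ Subgroup.normalizer (U : Set Ω) := hSR.trans hRnU
    have hNU : normalizerIn S U = S := le_antisymm inf_le_left (le_inf le_rfl hSnU)
    have hUfn : F.IsFullyNormalized U := by
      refine ⟨hUS, fun U' _ => ?_⟩
      rw [hNU]
      exact Subgroup.card_le_of_le inf_le_left
    have hUnp : NP p F U := by
      by_contra h
      have hbadU : Bad U := by
        refine ⟨?_, hUfn, h⟩
        intro hbot
        rw [hbot, Subgroup.card_bot] at hQU
        omega
      have h5 : f U ≤ f Q := hmax U hbadU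
      simp only [f] at h5
      rw [hNU, hReq] at h5
      omega
    intro P hUP hPN α hα hαU
    exact hUnp P hUP (le_inf ((hPN.trans inf_le_left).trans hRS) (hPN.trans inf_le_right)) α
      (autGroup_mono N F hNsub P hα) hαU

variable {Ω : Type u} [Group Ω] {S : Subgroup Ω}

/-- Glauberman-Thompson for fusion systems relative to a strongly closed subgroup, `p` odd. -/
theorem inner_of_np_zjD [Finite S] (p : ℕ) [Fact p.Prime] (hp : p ≠ 2) (hS : IsPGroup p S)
    (F : FusionSystem S) (hF : F.IsSaturated p) {D : Subgroup Ω} (hD : F.StronglyClosed D)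
    (h : NP p F (centerThompsonAOf D)) : Inner p F := by
  apply main_auxD p zjFunctor (fun R _ _ hR hnt => zjFunctor_ne_bot R hR hnt) ?_ (Nat.card S) Ω S rfl
    hS F D hF hD
  · rw [zjFunctor_of]
    exact h
  · intro G _ _ P D' hD' hP
    rw [zjFunctor_of] at hP
    exact Cfsg.Agent.Helper1.StrongClosedNPC.glauberman_thompson_closed hp G P D' hD' hP

theorem mainD [Finite S] (p : ℕ) [Fact p.Prime] (hS : IsPGroup p S) (F : FusionSystem S)
    (hF : F.IsSaturated p) (hp : p ≠ 2) (D : Subgroup Ω) (hD : F.StronglyClosed D) :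
    (∀ P : Subgroup Ω, F.Hom P = (innerFusionSystem S).Hom P) ↔
      ∀ N : FusionSystem (normalizerIn S (centerThompsonAOf D)),
        F.IsNormalizerSystem (centerThompsonAOf D) N →
        ∀ P : Subgroup Ω, N.Hom P =
          (innerFusionSystem (normalizerIn S (centerThompsonAOf D))).Hom P := by
  have hWD : centerThompsonAOf D ≤ D := by
    rw [← zjFunctor_of]
    exact zjFunctor.of_le D
  have hWS : centerThompsonAOf D ≤ S := hWD.trans hD.1
  have hSn : S ≤ Subgroup.normalizer (centerThompsonAOf D : Set Ω) := by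
    rw [← zjFunctor_of]
    exact (le_normalizer_of_stronglyClosed F hD).trans (zjFunctor.normalizer_le D)
  have hNW : normalizerIn S (centerThompsonAOf D) = S := le_antisymm inf_le_left (le_inf le_rfl hSn)
  have hfn : F.IsFullyNormalized (centerThompsonAOf D) := by
    refine ⟨hWS, fun U' _ => ?_⟩
    rw [hNW]
    exact Subgroup.card_le_of_le inf_le_left
  have hRS : normalizerIn S (centerThompsonAOf D) ≤ S := inf_le_left
  haveI : Finite ↥(normalizerIn S (centerThompsonAOf D)) := Fusion.finite_of_le hRS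
  have hRp : IsPGroup p ↥(normalizerIn S (centerThompsonAOf D)) := hS.to_le hRS
  constructor
  · intro h N hN
    have h1 : Inner p F := (inner_iff_hom p hS F hF).mpr h
    have h2 : NP p F (centerThompsonAOf D) := np_of_inner h1 _
    have h3 : Inner p N := (np_iff_normalizer_inner F hWS N hN).mp h2
    have hNsat := Fusion.normalizerSystem_isSaturated p hS F hF _ hfn N hN
    exact (inner_iff_hom p hRp N hNsat).mp h3
  · intro h
    obtain ⟨N, hN⟩ := Cfsg.Agent.S5096.result F (centerThompsonAOf D) hWS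
    have hNsat := Fusion.normalizerSystem_isSaturated p hS F hF _ hfn N hN
    have h3 : Inner p N := (inner_iff_hom p hRp N hNsat).mpr (h N hN)
    have h2 : NP p F (centerThompsonAOf D) := (np_iff_normalizer_inner F hWS N hN).mpr h3
    exact (inner_iff_hom p hS F hF).mp (inner_of_np_zjD p hp hS F hF hD h2)

end Cfsg.Agent.Lead.GlTh
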