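import Mathlib

/-!
# Glauberman's window calculus, part A: generic group lemmas

Elementwise commuting of subgroups, the centre of a subgroup as a subgroup of the ambient
group, maximality of subgroups of index `p`, and normality of subgroups of index `p` in a
`p`-group.  Everything is stated inside one ambient group `G`.
-/

set_option autoImplicit false
open Pointwise

namespace Cfsg.Agent.Lead.Glaub

variable {G : Type*} [Group G]

/-- `H` and `K` commute elementwise. -/
def Comm (H K : Subgroup G) : Prop := ∀ x ∈ H, ∀ y ∈ K, x * y = y * x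

theorem Comm.symm {H K : Subgroup G} (h : Comm H K) : Comm K H :=
  fun x hx y hy => (h y hy x hx).symm

theorem Comm.mono {H K H' K' : Subgroup G} (h : Comm H K) (hH : H' ≤ H) (hK : K' ≤ K) :
    Comm H' K' :=
  fun x hx y hy => h x (hH hx) y (hK hy)

theorem comm_iff_le_centralizer {H K : Subgroup G} :
    Comm H K ↔ H ≤ Subgroup.centralizer (K : Set G) := by
  constructor
  · intro h x hx
    rw [Subgroup.mem_centralizer_iff]
    intro y hy
    exact (h x hx y hy).symm
  · intro h x hx y hy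
    have := Subgroup.mem_centralizer_iff.mp (h hx) y hy
    exact this.symm

theorem Comm.sup_left {H₁ H₂ K : Subgroup G} (h₁ : Comm H₁ K) (h₂ : Comm H₂ K) :
    Comm (H₁ ⊔ H₂) K := by
  rw [comm_iff_le_centralizer] at *
  exact sup_le h₁ h₂

theorem Comm.sup_right {H K₁ K₂ : Subgroup G} (h₁ : Comm H K₁) (h₂ : Comm H K₂) :
    Comm H (K₁ ⊔ K₂) :=
  (Comm.sup_left h₁.symm h₂.symm).symm

theorem Comm.iSup_right {ι : Sort*} {H : Subgroup G} {K : ι → Subgroup G}
    (h : ∀ i, Comm H (K i)) : Comm H (⨆ i, K i) := by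
  apply Comm.symm
  rw [comm_iff_le_centralizer]
  exact iSup_le fun i => comm_iff_le_centralizer.mp (h i).symm

theorem Comm.smul (σ : MulAut G) {H K : Subgroup G} (h : Comm H K) : Comm (σ • H) (σ • K) := by
  intro x hx y hy
  obtain ⟨x', hx', rfl⟩ := (Subgroup.mem_smul_pointwise_iff_exists _ _ _).mp hx
  obtain ⟨y', hy', rfl⟩ := (Subgroup.mem_smul_pointwise_iff_exists _ _ _).mp hy
  simp only [MulAut.smul_def]
  rw [← map_mul, ← map_mul, h x' hx' y' hy']

theorem Comm.bot_left (K : Subgroup G) : Comm ⊥ K := by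
  intro x hx y _
  rw [Subgroup.mem_bot] at hx
  subst hx
  simp

/-- `M` normalises `A` (elementwise form). -/
def Nml (M A : Subgroup G) : Prop := ∀ x ∈ M, ∀ a ∈ A, x * a * x⁻¹ ∈ A

theorem nml_iff_le_normalizer {M A : Subgroup G} :
    Nml M A ↔ M ≤ Subgroup.normalizer (A : Set G) :=
  Subgroup.le_normalizer_iff.symm

theorem Nml.sup_left {M₁ M₂ A : Subgroup G} (h₁ : Nml M₁ A) (h₂ : Nml M₂ A) :
    Nml (M₁ ⊔ M₂) A := by
  rw [nml_iff_le_normalizer] at *
  exact sup_le h₁ h₂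

theorem Nml.mono {M M' A : Subgroup G} (h : Nml M A) (hM : M' ≤ M) : Nml M' A :=
  fun x hx a ha => h x (hM hx) a ha

theorem Nml.smul (σ : MulAut G) {M A : Subgroup G} (h : Nml M A) : Nml (σ • M) (σ • A) := by
  intro x hx a ha
  obtain ⟨x', hx', rfl⟩ := (Subgroup.mem_smul_pointwise_iff_exists _ _ _).mp hx
  obtain ⟨a', ha', rfl⟩ := (Subgroup.mem_smul_pointwise_iff_exists _ _ _).mp ha
  refine (Subgroup.mem_smul_pointwise_iff_exists _ _ _).mpr ⟨x' * a' * x'⁻¹, h x' hx' a' ha', ?_⟩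
  simp only [MulAut.smul_def, map_mul, map_inv]

/-- conjugation by the inverse also stays inside. -/
theorem Nml.inv_conj {M A : Subgroup G} (h : Nml M A) {x a : G} (hx : x ∈ M) (ha : a ∈ A) :
    x⁻¹ * a * x ∈ A := by
  have := h x⁻¹ (inv_mem hx) a ha
  simpa using this

/-- The centre of `M`, as a subgroup of the ambient group. -/
def Cen (M : Subgroup G) : Subgroup G := M ⊓ Subgroup.centralizer (M : Set G)

theorem mem_Cen {M : Subgroup G} {x : G} : x ∈ Cen M ↔ x ∈ M ∧ ∀ y ∈ M, y * x = x * y := by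
  unfold Cen
  rw [Subgroup.mem_inf, Subgroup.mem_centralizer_iff]
  rfl

theorem Cen_le (M : Subgroup G) : Cen M ≤ M := inf_le_left

theorem comm_Cen (M : Subgroup G) : Comm (Cen M) M :=
  fun x hx y hy => ((mem_Cen.mp hx).2 y hy).symm

theorem le_Cen {M Z : Subgroup G} (hZM : Z ≤ M) (hc : Comm Z M) : Z ≤ Cen M :=
  fun x hx => mem_Cen.mpr ⟨hZM hx, fun y hy => (hc x hx y hy).symm⟩

theorem Cen_smul (σ : MulAut G) (M : Subgroup G) : σ • Cen M = Cen (σ • M) := by
  apply le_antisymm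
  · intro x hx
    obtain ⟨x', hx', rfl⟩ := (Subgroup.mem_smul_pointwise_iff_exists _ _ _).mp hx
    exact le_Cen (Subgroup.pointwise_smul_le_pointwise_smul_iff.mpr (Cen_le M))
      (Comm.smul σ (comm_Cen M)) ((Subgroup.mem_smul_pointwise_iff_exists _ _ _).mpr ⟨x', hx', rfl⟩)
  · intro x hx
    rw [mem_Cen] at hx
    obtain ⟨x', hx', rfl⟩ := (Subgroup.mem_smul_pointwise_iff_exists _ _ _).mp hx.1
    refine (Subgroup.mem_smul_pointwise_iff_exists _ _ _).mpr ⟨x', mem_Cen.mpr ⟨hx', ?_⟩, rfl⟩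
    intro y hy
    have := hx.2 (σ • y) ((Subgroup.mem_smul_pointwise_iff_exists _ _ _).mpr ⟨y, hy, rfl⟩)
    simp only [MulAut.smul_def] at this
    rw [← map_mul, ← map_mul] at this
    exact σ.injective this

/-- If `M` normalises `Q` then `M` normalises the centre of `Q`. -/
theorem Nml.Cen {M Q : Subgroup G} (h : Nml M Q) : Nml M (Cen Q) := by
  intro x hx w hw
  rw [mem_Cen] at hw ⊢
  refine ⟨h x hx w hw.1, ?_⟩
  intro q hq
  have h1 : x⁻¹ * q * x ∈ Q := h.inv_conj hx hq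
  have h2 := hw.2 _ h1
  calc q * (x * w * x⁻¹) = x * ((x⁻¹ * q * x) * w) * x⁻¹ := by group
    _ = x * (w * (x⁻¹ * q * x)) * x⁻¹ := by rw [h2]
    _ = x * w * x⁻¹ * q := by group

/-- An element of `A` centralising `A` and a central `Z` centralises `Z ⊔ A`. -/
theorem Cen_le_Cen_of_sup {M Z A : Subgroup G} (hM : M = Z ⊔ A) (hZ : Z ≤ Cen M) :
    Cen A ≤ Cen M := by
  have hAM : A ≤ M := hM ▸ le_sup_right
  refine le_Cen ((Cen_le A).trans hAM) ?_
  rw [hM]
  refine Comm.sup_right ?_ (comm_Cen A)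
  exact ((comm_Cen M).mono hZ ((Cen_le A).trans hAM)).symm

variable [Finite G]

/-- Subgroups between `A` and `M` when `|M| = p |A|`. -/
theorem eq_or_eq_of_card_eq_mul {p : ℕ} (hp : p.Prime) {A X M : Subgroup G} (hAX : A ≤ X)
    (hXM : X ≤ M) (hc : Nat.card M = p * Nat.card A) : X = A ∨ X = M := by
  obtain ⟨k, hk⟩ := Subgroup.card_dvd_of_le hAX
  have hA0 : 0 < Nat.card A := Nat.card_pos
  have h2 : Nat.card X ∣ Nat.card M := Subgroup.card_dvd_of_le hXM
  rw [hc, hk, mul_comm p] at h2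
  have hkp : k ∣ p := Nat.dvd_of_mul_dvd_mul_left hA0 h2
  rcases (Nat.dvd_prime hp).mp hkp with rfl | rfl
  · left
    exact (Subgroup.eq_of_le_of_card_ge hAX (by rw [hk]; simp)).symm
  · right
    exact Subgroup.eq_of_le_of_card_ge hXM (by rw [hc, hk, mul_comm])

/-- Two distinct subgroups of index `p` generate. -/
theorem sup_eq_of_card_eq_mul {p : ℕ} (hp : p.Prime) {A B M : Subgroup G} (hAM : A ≤ M)
    (hBM : B ≤ M) (hc : Nat.card M = p * Nat.card A) (hBA : ¬ B ≤ A) : A ⊔ B = M := by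
  rcases eq_or_eq_of_card_eq_mul hp (le_sup_left : A ≤ A ⊔ B) (sup_le hAM hBM) hc with h | h
  · exact absurd (h ▸ (le_sup_right : B ≤ A ⊔ B)) hBA
  · exact h

omit [Finite G] in
/-- A subgroup of index `p` in a group of order `p ^ (k+1)` is normalised by it. -/
theorem nml_of_card {p : ℕ} (hp : p.Prime) {A M : Subgroup G} (hAM : A ≤ M) (k : ℕ)
    (hM : Nat.card M = p ^ (k + 1)) (hA : Nat.card A = p ^ k) : Nml M A := by
  rw [nml_iff_le_normalizer, ← Subgroup.normal_subgroupOf_iff_le_normalizer hAM]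
  apply Subgroup.normal_of_index_eq_minFac_card
  have h1 : Nat.card (A.subgroupOf M) = Nat.card A :=
    Nat.card_congr (Subgroup.subgroupOfEquivOfLe hAM).toEquiv
  have h2 := Subgroup.card_mul_index (A.subgroupOf M)
  rw [h1, hA, hM] at h2
  rw [hM, Nat.Prime.pow_minFac hp (Nat.succ_ne_zero k)]
  have hpk : 0 < p ^ k := pow_pos hp.pos k
  rw [pow_succ] at h2
  exact Nat.eq_of_mul_eq_mul_left hpk h2

theorem relIndex_mul_card_of_le {H K : Subgroup G} (h : H ≤ K) :
    H.relIndex K * Nat.card H = Nat.card K := by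
  have h1 : Nat.card (H.subgroupOf K) = Nat.card H :=
    Nat.card_congr (Subgroup.subgroupOfEquivOfLe h).toEquiv
  have h2 := Subgroup.card_mul_index (H.subgroupOf K)
  rw [h1, mul_comm] at h2
  exact h2

/-- `|H| |K| ≤ |H ⊔ K| |H ⊓ K|`. -/
theorem card_mul_card_le (H K : Subgroup G) :
    Nat.card H * Nat.card K ≤ Nat.card (H ⊔ K : Subgroup G) * Nat.card (H ⊓ K : Subgroup G) := by
  have h0 : H.relIndex (H ⊔ K) ≠ 0 := by
    unfold Subgroup.relIndex
    exact Subgroup.index_ne_zero_of_finite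
  have h1 : H.relIndex K ≤ H.relIndex (H ⊔ K) :=
    Subgroup.relIndex_le_of_le_right le_sup_right h0
  have h2 : (H ⊓ K).relIndex K = H.relIndex K := Subgroup.inf_relIndex_right H K
  have h3 : (H ⊓ K).relIndex K * Nat.card (H ⊓ K : Subgroup G) = Nat.card K :=
    relIndex_mul_card_of_le inf_le_right
  have h4 : H.relIndex (H ⊔ K) * Nat.card H = Nat.card (H ⊔ K : Subgroup G) :=
    relIndex_mul_card_of_le le_sup_left
  calc Nat.card H * Nat.card K
      = Nat.card H * (H.relIndex K * Nat.card (H ⊓ K : Subgroup G)) := by rw [← h3, h2]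
    _ ≤ Nat.card H * (H.relIndex (H ⊔ K) * Nat.card (H ⊓ K : Subgroup G)) := by gcongr
    _ = Nat.card (H ⊔ K : Subgroup G) * Nat.card (H ⊓ K : Subgroup G) := by rw [← h4]; ring

/-- The centre of a nontrivial `p`-subgroup is nontrivial. -/
theorem Cen_ne_bot {p : ℕ} [Fact p.Prime] {M : Subgroup G} (hM : IsPGroup p M) (hne : M ≠ ⊥) :
    Cen M ≠ ⊥ := by
  have : Nontrivial M := (Subgroup.nontrivial_iff_ne_bot M).mpr hne
  have hlt := hM.bot_lt_center
  obtain ⟨z, hz, hz1⟩ := SetLike.exists_of_lt hlt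
  intro hbot
  apply hz1
  rw [Subgroup.mem_bot]
  have hzc : (z : G) ∈ Cen M := by
    rw [mem_Cen]
    refine ⟨z.2, fun y hy => ?_⟩
    have := Subgroup.mem_center_iff.mp hz ⟨y, hy⟩
    exact congrArg Subtype.val this
  rw [hbot, Subgroup.mem_bot] at hzc
  exact Subtype.ext hzc

end Cfsg.Agent.Lead.Glaub
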