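import Cfsg.Agent.Lead.GlaubA

/-!
# Glauberman's window calculus, part B: translates, windows, and the non-stalling chain

`Pc σ P k = σ ^ k • P`, `Win σ P i j = ⋂_{i ≤ k ≤ j} Pc σ P k`.  Under the hypotheses of
Glauberman's theorem (`P ∩ σP` normal of index `p` in `σP`, and no nontrivial normal
subgroup of `P` is `σ`-invariant), `P` is a `p`-group of order `p ^ t` and a window of
length `d + 1 ≤ t + 1` has order `p ^ (t - d)`.
-/

set_option autoImplicit false
open Pointwise

namespace Cfsg.Agent.Lead.Glaub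

variable {G : Type*} [Group G]

/-- The translates `σ ^ k • P`. -/
def Pc (σ : MulAut G) (P : Subgroup G) (k : ℤ) : Subgroup G := (σ ^ k) • P

/-- The window `⋂_{i ≤ k ≤ j} σ ^ k • P`. -/
def Win (σ : MulAut G) (P : Subgroup G) (i j : ℤ) : Subgroup G :=
  ⨅ k : ℤ, ⨅ (_ : i ≤ k ∧ k ≤ j), Pc σ P k

variable {σ : MulAut G} {P : Subgroup G}

theorem mem_Win {i j : ℤ} {x : G} :
    x ∈ Win σ P i j ↔ ∀ k, i ≤ k → k ≤ j → x ∈ Pc σ P k := by
  unfold Win
  simp only [Subgroup.mem_iInf]
  constructor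
  · intro h k h1 h2
    exact h k ⟨h1, h2⟩
  · intro h k hk
    exact h k hk.1 hk.2

theorem Pc_zero : Pc σ P 0 = P := by simp [Pc]

theorem Pc_one : Pc σ P 1 = σ • P := by simp [Pc]

theorem smul_Pc (s k : ℤ) : (σ ^ s) • Pc σ P k = Pc σ P (k + s) := by
  unfold Pc
  rw [smul_smul, ← zpow_add, add_comm]

theorem smul_mem_Pc_iff (s k : ℤ) (x : G) : (σ ^ s) • x ∈ Pc σ P (k + s) ↔ x ∈ Pc σ P k := by
  rw [← smul_Pc, Subgroup.smul_mem_pointwise_smul_iff]

theorem smul_Win (s i j : ℤ) : (σ ^ s) • Win σ P i j = Win σ P (i + s) (j + s) := by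
  ext x
  rw [Subgroup.mem_pointwise_smul_iff_inv_smul_mem, mem_Win, mem_Win]
  constructor
  · intro h k h1 h2
    have h3 := h (k - s) (by omega) (by omega)
    rw [← smul_mem_Pc_iff s, smul_inv_smul] at h3
    simpa using h3
  · intro h k h1 h2
    have h3 := h (k + s) (by omega) (by omega)
    rw [← smul_mem_Pc_iff s, smul_inv_smul]
    exact h3

theorem Win_self (i : ℤ) : Win σ P i i = Pc σ P i := by
  ext x
  rw [mem_Win]
  constructor
  · intro h
    exact h i le_rfl le_rfl
  · intro h k h1 h2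
    have : k = i := by omega
    subst this
    exact h

theorem Win_mono {i j i' j' : ℤ} (hi : i' ≤ i) (hj : j ≤ j') : Win σ P i' j' ≤ Win σ P i j := by
  intro x hx
  rw [mem_Win] at hx ⊢
  intro k h1 h2
  exact hx k (by omega) (by omega)

theorem Win_le_Pc {i j k : ℤ} (h1 : i ≤ k) (h2 : k ≤ j) : Win σ P i j ≤ Pc σ P k :=
  fun _ hx => mem_Win.mp hx k h1 h2

theorem Win_inf {i j i' j' : ℤ} (h1 : i' ≤ j + 1) (h2 : i ≤ j' + 1) :
    Win σ P i j ⊓ Win σ P i' j' = Win σ P (min i i') (max j j') := by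
  apply le_antisymm
  · intro x hx
    rw [Subgroup.mem_inf, mem_Win, mem_Win] at hx
    rw [mem_Win]
    intro k hk1 hk2
    by_cases hc : i ≤ k ∧ k ≤ j
    · exact hx.1 k hc.1 hc.2
    · refine hx.2 k ?_ ?_ <;> omega
  · exact le_inf (Win_mono (min_le_left _ _) (le_max_left _ _))
      (Win_mono (min_le_right _ _) (le_max_right _ _))

theorem card_smul_eq (τ : MulAut G) (H : Subgroup G) :
    Nat.card (τ • H : Subgroup G) = Nat.card H :=
  (Nat.card_congr (Subgroup.equivSMul τ H).toEquiv).symm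

theorem card_Win_shift (s i j : ℤ) :
    Nat.card (Win σ P (i + s) (j + s)) = Nat.card (Win σ P i j) := by
  rw [← smul_Win, card_smul_eq]

theorem card_Pc (k : ℤ) : Nat.card (Pc σ P k) = Nat.card P := card_smul_eq _ _

/-! ### `P` is a `p`-group -/

section pgroup

variable [Finite G]

theorem isPGroup_of_hyp (σ : MulAut G) (P : Subgroup G) (p : ℕ) (hp : p.Prime)
    (hN : ((P ⊓ σ • P).subgroupOf (σ • P)).Normal)
    (hidx : (P ⊓ σ • P).relIndex (σ • P) = p)
    (h1 : ∀ Q : Subgroup G, Q ≤ P → (Q.subgroupOf P).Normal → σ • Q = Q → Q = ⊥) :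
    IsPGroup p P := by
  classical
  have key : ∀ y ∈ σ • P, (orderOf y).Coprime p → y ∈ P := by
    intro y hy hco
    have hidx' : ((P ⊓ σ • P).subgroupOf (σ • P)).index = p := hidx
    have hd1 : orderOf (QuotientGroup.mk' ((P ⊓ σ • P).subgroupOf (σ • P)) ⟨y, hy⟩) ∣
        orderOf (⟨y, hy⟩ : (σ • P : Subgroup G)) := orderOf_map_dvd _ _
    have hd2 : orderOf (QuotientGroup.mk' ((P ⊓ σ • P).subgroupOf (σ • P)) ⟨y, hy⟩) ∣ p := by
      rw [← hidx']
      exact orderOf_dvd_natCard _
    have hd3 : orderOf (⟨y, hy⟩ : (σ • P : Subgroup G)) = orderOf y := Subgroup.orderOf_mk _ _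
    rw [hd3] at hd1
    have hd4 : orderOf (QuotientGroup.mk' ((P ⊓ σ • P).subgroupOf (σ • P)) ⟨y, hy⟩) = 1 :=
      Nat.eq_one_of_dvd_coprimes hco hd1 hd2
    rw [orderOf_eq_one_iff, QuotientGroup.mk'_apply, QuotientGroup.eq_one_iff,
      Subgroup.mem_subgroupOf] at hd4
    exact hd4.1
  let E : Set G := {x | x ∈ P ∧ (orderOf x).Coprime p}
  have hQP : Subgroup.closure E ≤ P := (Subgroup.closure_le P).mpr fun x hx => hx.1
  have hQn : ((Subgroup.closure E).subgroupOf P).Normal := by
    rw [Subgroup.normal_subgroupOf_iff_le_normalizer hQP, ← nml_iff_le_normalizer]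
    intro y hy x hx
    induction hx using Subgroup.closure_induction with
    | mem x hx =>
      refine Subgroup.subset_closure ⟨P.mul_mem (P.mul_mem hy hx.1) (P.inv_mem hy), ?_⟩
      have : orderOf (y * x * y⁻¹) = orderOf x := by
        have := MulEquiv.orderOf_eq (MulAut.conj y) x
        rwa [MulAut.conj_apply] at this
      rw [this]
      exact hx.2
    | one => simp
    | mul a b _ _ ha hb =>
      have : y * (a * b) * y⁻¹ = (y * a * y⁻¹) * (y * b * y⁻¹) := by group
      rw [this]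
      exact mul_mem ha hb
    | inv a _ ha =>
      have : y * a⁻¹ * y⁻¹ = (y * a * y⁻¹)⁻¹ := by group
      rw [this]
      exact inv_mem ha
  have hσmem : ∀ x ∈ Subgroup.closure E, σ x ∈ Subgroup.closure E := by
    intro x hx'
    induction hx' using Subgroup.closure_induction with
    | mem x hx =>
      have h2 : orderOf (σ x) = orderOf x := MulEquiv.orderOf_eq σ x
      refine Subgroup.subset_closure ⟨key (σ x) ?_ (h2 ▸ hx.2), h2 ▸ hx.2⟩
      exact (Subgroup.mem_smul_pointwise_iff_exists _ _ _).mpr ⟨x, hx.1, rfl⟩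
    | one => simp
    | mul a b _ _ ha hb =>
      rw [map_mul]
      exact mul_mem ha hb
    | inv a _ ha =>
      rw [map_inv]
      exact inv_mem ha
  have hσle : σ • Subgroup.closure E ≤ Subgroup.closure E := by
    intro x hx
    obtain ⟨x', hx', rfl⟩ := (Subgroup.mem_smul_pointwise_iff_exists _ _ _).mp hx
    rw [MulAut.smul_def]
    exact hσmem x' hx'
  have hσ : σ • Subgroup.closure E = Subgroup.closure E :=
    Subgroup.eq_of_le_of_card_ge hσle (by rw [card_smul_eq])
  have hbot := h1 _ hQP hQn hσ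
  intro ⟨x, hx⟩
  have ho : orderOf x ≠ 0 := (orderOf_pos x).ne'
  obtain ⟨a, m, hm, hxm⟩ := Nat.exists_eq_pow_mul_and_not_dvd ho p hp.ne_one
  refine ⟨a, ?_⟩
  have hE : x ^ p ^ a ∈ E := by
    refine ⟨P.pow_mem hx _, ?_⟩
    have hdvd : orderOf (x ^ p ^ a) ∣ m := by
      apply orderOf_dvd_of_pow_eq_one
      rw [← pow_mul, ← hxm, pow_orderOf_eq_one]
    have hcm : Nat.Coprime m p := ((Nat.Prime.coprime_iff_not_dvd hp).mpr hm).symm
    exact Nat.Coprime.coprime_dvd_left hdvd hcm
  have h3 : x ^ p ^ a ∈ Subgroup.closure E := Subgroup.subset_closure hE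
  rw [hbot, Subgroup.mem_bot] at h3
  exact Subtype.ext (by simpa using h3)

end pgroup

/-! ### The chain does not stall -/

section chain

variable [Finite G]

/-- Intersecting with a subgroup of index `p` drops the order by a factor `1` or `p`. -/
theorem card_inf_dichotomy {p : ℕ} (hp : p.Prime) {X A M : Subgroup G} (hM : IsPGroup p M)
    (hXM : X ≤ M) (hAM : A ≤ M) (hc : Nat.card M = p * Nat.card A) :
    Nat.card X = Nat.card (X ⊓ A : Subgroup G) ∨
      Nat.card X = p * Nat.card (X ⊓ A : Subgroup G) := by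
  have : Fact p.Prime := ⟨hp⟩
  obtain ⟨a, ha⟩ := (hM.to_le hXM).exists_card_eq
  obtain ⟨b, hb⟩ := (hM.to_le ((inf_le_left : X ⊓ A ≤ X).trans hXM)).exists_card_eq
  have h1 := card_mul_card_le X A
  have h2 : Nat.card (X ⊔ A : Subgroup G) ≤ Nat.card M :=
    Subgroup.card_le_of_le (sup_le hXM hAM)
  have h3 : Nat.card (X ⊓ A : Subgroup G) ∣ Nat.card X := Subgroup.card_dvd_of_le inf_le_left
  have hA0 : 0 < Nat.card A := Nat.card_pos
  have h4 : Nat.card X ≤ p * Nat.card (X ⊓ A : Subgroup G) := by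
    have h5 : Nat.card X * Nat.card A ≤ (p * Nat.card (X ⊓ A : Subgroup G)) * Nat.card A := by
      calc Nat.card X * Nat.card A
          ≤ Nat.card (X ⊔ A : Subgroup G) * Nat.card (X ⊓ A : Subgroup G) := h1
        _ ≤ Nat.card M * Nat.card (X ⊓ A : Subgroup G) := Nat.mul_le_mul_right _ h2
        _ = (p * Nat.card (X ⊓ A : Subgroup G)) * Nat.card A := by rw [hc]; ring
    exact Nat.le_of_mul_le_mul_right h5 hA0
  rw [ha, hb] at h3 h4
  rw [ha, hb]
  have hba : b ≤ a := (Nat.pow_dvd_pow_iff_le_right hp.one_lt).mp h3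
  have hab : a ≤ b + 1 := by
    rw [← pow_succ'] at h4
    exact (Nat.pow_le_pow_iff_right hp.one_lt).mp h4
  rcases Nat.lt_or_ge b a with h | h
  · right
    have : a = b + 1 := by omega
    rw [this, pow_succ']
  · left
    have : a = b := by omega
    rw [this]

omit [Finite G] in
theorem isPGroup_Pc {p : ℕ} (hP : IsPGroup p P) (k : ℤ) : IsPGroup p (Pc σ P k) :=
  hP.of_equiv (Subgroup.equivSMul (σ ^ k) P)

omit [Finite G] in
theorem Win_zero_le (j : ℤ) (hj : 0 ≤ j) : Win σ P 0 j ≤ P := by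
  have := Win_le_Pc (σ := σ) (P := P) (i := 0) (j := j) (k := 0) le_rfl hj
  rwa [Pc_zero] at this

/-- one step of the chain. -/
theorem card_Win_step {p : ℕ} (hp : p.Prime) (hP : IsPGroup p P)
    (hc01 : Nat.card P = p * Nat.card (Win σ P 0 1)) (d : ℤ) (hd : 0 ≤ d) :
    Nat.card (Win σ P 0 d) = Nat.card (Win σ P 0 (d + 1)) ∨
      Nat.card (Win σ P 0 d) = p * Nat.card (Win σ P 0 (d + 1)) := by
  have hinf : Win σ P 0 d ⊓ Win σ P d (d + 1) = Win σ P 0 (d + 1) := by
    rw [Win_inf (by omega) (by omega)]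
    congr 1 <;> omega
  rw [← hinf]
  refine card_inf_dichotomy hp (isPGroup_Pc hP d) (Win_le_Pc hd le_rfl)
    (Win_le_Pc le_rfl (by omega)) ?_
  rw [card_Pc, hc01]
  have := card_Win_shift (σ := σ) (P := P) d 0 1
  rw [zero_add, add_comm 1 d] at this
  rw [this]

/-- At the first stall the window is trivial. -/
theorem stall_bot {p : ℕ} (hp : p.Prime) (hP : IsPGroup p P)
    (h1 : ∀ Q : Subgroup G, Q ≤ P → (Q.subgroupOf P).Normal → σ • Q = Q → Q = ⊥)
    (m : ℤ) (hm0 : 0 ≤ m)
    (hm : Nat.card (Win σ P 0 (m + 1)) = Nat.card (Win σ P 0 m))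
    (hfirst : ∀ d : ℤ, 0 ≤ d → d < m →
      Nat.card (Win σ P 0 d) = p * Nat.card (Win σ P 0 (d + 1))) :
    Win σ P 0 m = ⊥ := by
  have : Fact p.Prime := ⟨hp⟩
  have hD1 : Win σ P 0 (m + 1) = Win σ P 0 m :=
    Subgroup.eq_of_le_of_card_ge (Win_mono le_rfl (by omega)) (by rw [hm])
  have hD2 : Win σ P 0 m ≤ Win σ P 1 (m + 1) := by
    rw [← hD1]
    exact Win_mono (by omega) le_rfl
  have hD3 : σ • Win σ P 0 m = Win σ P 0 m := by
    have h := smul_Win (σ := σ) (P := P) 1 0 m
    rw [zpow_one, zero_add] at h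
    rw [h]
    refine (Subgroup.eq_of_le_of_card_ge hD2 ?_).symm
    have h2 := card_Win_shift (σ := σ) (P := P) 1 0 m
    rw [zero_add] at h2
    rw [h2]
  have hDz : ∀ s : ℤ, (σ ^ s) • Win σ P 0 m = Win σ P 0 m := by
    intro s
    have h : σ ∈ MulAction.stabilizer (MulAut G) (Win σ P 0 m) := hD3
    exact MulAction.mem_stabilizer_iff.mp (Subgroup.zpow_mem _ h s)
  have hDP : Win σ P 0 m ≤ P := Win_zero_le m hm0
  obtain ⟨b, hb⟩ := (hP.to_le hDP).exists_card_eq
  have hnml : ∀ k : ℕ, (k : ℤ) ≤ m → Nml (Win σ P 0 (m - k)) (Win σ P 0 m) := by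
    intro k
    induction k with
    | zero =>
      intro _ x hx a ha
      simp only [Nat.cast_zero, sub_zero] at hx
      exact mul_mem (mul_mem hx ha) (inv_mem hx)
    | succ k ih =>
      intro hk
      have ih' := ih (by push_cast at hk; omega)
      push_cast at hk ⊢
      by_cases hk0 : k = 0
      · subst hk0
        simp only [Nat.cast_zero, zero_add, sub_zero] at ih' hk ⊢
        refine nml_of_card hp (Win_mono le_rfl (by omega)) b ?_ hb
        have := hfirst (m - 1) (by omega) (by omega)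
        rw [this, sub_add_cancel, hb, pow_succ']
      · have hk1 : 1 ≤ k := Nat.one_le_iff_ne_zero.mpr hk0
        -- e = m - (k+1)
        have he0 : 0 ≤ m - (k + 1) := by omega
        have hAeq : m - (k : ℤ) = (m - (k + 1)) + 1 := by ring
        rw [hAeq] at ih'
        -- B = Win (-1) e normalises D
        have hB : Nml (Win σ P (-1) (m - (k + 1))) (Win σ P 0 m) := by
          have h := Nml.smul (σ ^ (-1 : ℤ)) ih'
          rw [hDz, smul_Win] at h
          have e1 : (0 : ℤ) + -1 = -1 := by ring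
          have e2 : m - ((k : ℤ) + 1) + 1 + -1 = m - (k + 1) := by ring
          rwa [e1, e2] at h
        have hAM : Win σ P 0 (m - (k + 1) + 1) ≤ Win σ P 0 (m - (k + 1)) :=
          Win_mono le_rfl (by omega)
        have hBM : Win σ P (-1) (m - (k + 1)) ≤ Win σ P 0 (m - (k + 1)) :=
          Win_mono (by omega) le_rfl
        have hcM := hfirst (m - (k + 1)) he0 (by omega)
        have hcB : Nat.card (Win σ P (-1) (m - (k + 1))) =
            Nat.card (Win σ P 0 (m - (k + 1) + 1)) := by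
          have h := card_Win_shift (σ := σ) (P := P) (-1) 0 (m - (k + 1) + 1)
          have e1 : (0 : ℤ) + -1 = -1 := by ring
          have e2 : m - ((k : ℤ) + 1) + 1 + -1 = m - (k + 1) := by ring
          rwa [e1, e2] at h
        have hnot : ¬ Win σ P (-1) (m - (k + 1)) ≤ Win σ P 0 (m - (k + 1) + 1) := by
          intro hle
          have hBA : Win σ P (-1) (m - (k + 1)) = Win σ P 0 (m - (k + 1) + 1) :=
            Subgroup.eq_of_le_of_card_ge hle (by rw [hcB])
          have hinf : Win σ P (-1) (m - (k + 1)) ⊓ Win σ P 0 (m - (k + 1) + 1) =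
              Win σ P (-1) (m - (k + 1) + 1) := by
            rw [Win_inf (by omega) (by omega)]
            congr 1
            omega
          rw [hBA, inf_idem] at hinf
          have hc2 : Nat.card (Win σ P (-1) (m - (k + 1) + 1)) =
              Nat.card (Win σ P 0 (m - (k + 1) + 1 + 1)) := by
            have h := card_Win_shift (σ := σ) (P := P) (-1) 0 (m - (k + 1) + 1 + 1)
            have e1 : (0 : ℤ) + -1 = -1 := by ring
            have e2 : m - ((k : ℤ) + 1) + 1 + 1 + -1 = m - (k + 1) + 1 := by ring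
            rwa [e1, e2] at h
          have hc3 := hfirst (m - (k + 1) + 1) (by omega) (by omega)
          rw [← hc2, ← hinf] at hc3
          have hpos : 0 < Nat.card (Win σ P 0 (m - (k + 1) + 1)) := Nat.card_pos
          have hp2 := hp.two_le
          nlinarith
        have hsup := sup_eq_of_card_eq_mul hp hAM hBM hcM hnot
        rw [← hsup]
        exact ih'.sup_left hB
  obtain ⟨m', rfl⟩ := Int.eq_ofNat_of_zero_le hm0
  have hfin := hnml m' le_rfl
  rw [sub_self, Win_self, Pc_zero] at hfin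
  refine h1 _ hDP ?_ hD3
  rw [Subgroup.normal_subgroupOf_iff_le_normalizer hDP, ← nml_iff_le_normalizer]
  exact hfin

/-- Orders of all windows. -/
theorem exists_card_Win {p : ℕ} (hp : p.Prime)
    (hN : ((P ⊓ σ • P).subgroupOf (σ • P)).Normal)
    (hidx : (P ⊓ σ • P).relIndex (σ • P) = p)
    (h1 : ∀ Q : Subgroup G, Q ≤ P → (Q.subgroupOf P).Normal → σ • Q = Q → Q = ⊥) :
    ∃ t : ℕ, 1 ≤ t ∧ IsPGroup p P ∧ ∀ (i j : ℤ) (m : ℕ), i ≤ j → (m : ℤ) + (j - i) = t →
      Nat.card (Win σ P i j) = p ^ m := by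
  have hP := isPGroup_of_hyp σ P p hp hN hidx h1
  have hW01 : Win σ P 0 1 = P ⊓ σ • P := by
    have h := Win_inf (σ := σ) (P := P) (i := 0) (j := 0) (i' := 1) (j' := 1) (by omega) (by omega)
    rw [Win_self, Win_self, Pc_zero, Pc_one] at h
    rw [h]
    congr 1
  have hc01 : Nat.card P = p * Nat.card (Win σ P 0 1) := by
    have h := relIndex_mul_card_of_le (inf_le_right : P ⊓ σ • P ≤ σ • P)
    rw [hidx, card_smul_eq] at h
    rw [hW01, h]
  have hstep := fun d hd => card_Win_step (σ := σ) hp hP hc01 d hd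
  -- a stall exists
  have hex : ∃ m : ℕ, Nat.card (Win σ P 0 ((m : ℤ) + 1)) = Nat.card (Win σ P 0 m) := by
    by_contra hcon
    push Not at hcon
    have hall : ∀ d : ℕ, Nat.card (Win σ P 0 0) = p ^ d * Nat.card (Win σ P 0 d) := by
      intro d
      induction d with
      | zero => simp
      | succ d ih =>
        rcases hstep d (by omega) with h | h
        · exact absurd h.symm (hcon d)
        · rw [ih, h]
          push_cast
          ring
    have h2 := hall (Nat.card (Win σ P 0 0))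
    have h3 : 0 < Nat.card (Win σ P 0 ((Nat.card (Win σ P 0 0) : ℕ) : ℤ)) := Nat.card_pos
    have h4 : Nat.card (Win σ P 0 0) < p ^ Nat.card (Win σ P 0 0) :=
      Nat.lt_pow_self hp.one_lt
    nlinarith
  classical
  let m := Nat.find hex
  have hm : Nat.card (Win σ P 0 ((m : ℤ) + 1)) = Nat.card (Win σ P 0 m) := Nat.find_spec hex
  have hfirstN : ∀ d : ℕ, d < m →
      Nat.card (Win σ P 0 d) = p * Nat.card (Win σ P 0 ((d : ℤ) + 1)) := by
    intro d hd
    rcases hstep d (by omega) with h | h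
    · exact absurd h.symm (Nat.find_min hex hd)
    · exact h
  have hfirst : ∀ d : ℤ, 0 ≤ d → d < m →
      Nat.card (Win σ P 0 d) = p * Nat.card (Win σ P 0 (d + 1)) := by
    intro d hd0 hdm
    obtain ⟨d', rfl⟩ := Int.eq_ofNat_of_zero_le hd0
    exact hfirstN d' (by exact_mod_cast hdm)
  have hbot := stall_bot hp hP h1 (m : ℤ) (by omega) hm hfirst
  have hdown : ∀ k : ℕ, k ≤ m → Nat.card (Win σ P 0 ((m : ℤ) - k)) = p ^ k := by
    intro k
    induction k with
    | zero =>
      intro _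
      simp only [Nat.cast_zero, sub_zero, pow_zero]
      rw [hbot]
      simp
    | succ k ih =>
      intro hk
      have h := hfirst ((m : ℤ) - (k + 1 : ℕ)) (by push_cast; omega) (by push_cast; omega)
      have e : ((m : ℤ) - (k + 1 : ℕ)) + 1 = (m : ℤ) - k := by push_cast; ring
      rw [e, ih (by omega)] at h
      rw [h, pow_succ']
  have hm1 : 1 ≤ m := by
    by_contra hlt
    have hm0 : m = 0 := by omega
    have h := hm
    rw [hm0] at h
    simp only [Nat.cast_zero, zero_add] at h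
    rw [Win_self, Pc_zero, hc01] at h
    have hpos : 0 < Nat.card (Win σ P 0 1) := Nat.card_pos
    have hp2 := hp.two_le
    nlinarith
  refine ⟨m, hm1, hP, ?_⟩
  intro i j k hij hk
  have h := card_Win_shift (σ := σ) (P := P) i 0 (j - i)
  rw [zero_add, sub_add_cancel] at h
  rw [h]
  have e : j - i = (m : ℤ) - k := by omega
  rw [e]
  exact hdown k (by omega)

end chain

end Cfsg.Agent.Lead.Glaub
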