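import Cfsg.Agent.Lead.GlaubB

/-!
# Glauberman's window calculus, part C: the generator-indexed windows `V a b`

Given that a window `Win i j` (`0 ≤ j - i ≤ t`) has order `p ^ (t - (j - i))`, the subgroup
`V a b = Win (b - t + 1) a` has order `p ^ (b - a + 1)`; it behaves like `⟨x_a, …, x_b⟩` for a
"generating sequence" `x_k` with `σ x_k = x_{k+1}`.
-/

set_option autoImplicit false
set_option linter.unusedSectionVars false
open Pointwise

namespace Cfsg.Agent.Lead.Glaub

variable {G : Type*} [Group G]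

/-- The window system. -/
structure Sys (σ : MulAut G) (P : Subgroup G) (p t : ℕ) : Prop where
  prime : p.Prime
  pos : 1 ≤ t
  pgroup : IsPGroup p P
  card : ∀ (i j : ℤ) (m : ℕ), i ≤ j → (m : ℤ) + (j - i) = t → Nat.card (Win σ P i j) = p ^ m

/-- `V a b = ⟨x_a, …, x_b⟩`. -/
def V (σ : MulAut G) (P : Subgroup G) (t : ℕ) (a b : ℤ) : Subgroup G :=
  Win σ P (b - t + 1) a

variable {σ : MulAut G} {P : Subgroup G} {p t : ℕ}

theorem V_mono {a b a' b' : ℤ} (ha : a' ≤ a) (hb : b ≤ b') : V σ P t a b ≤ V σ P t a' b' :=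
  Win_mono (by omega) ha

theorem V_inf {a b a' b' : ℤ} (h1 : b' - a ≤ t) (h2 : b - a' ≤ t) :
    V σ P t a b ⊓ V σ P t a' b' = V σ P t (max a a') (min b b') := by
  unfold V
  rw [Win_inf (by omega) (by omega)]
  congr 1
  omega

theorem V_smul (s a b : ℤ) : (σ ^ s) • V σ P t a b = V σ P t (a + s) (b + s) := by
  unfold V
  rw [smul_Win]
  congr 1
  omega

theorem V_full (a : ℤ) : V σ P t a (a + t - 1) = Pc σ P a := by
  unfold V
  have : a + t - 1 - t + 1 = a := by ring
  rw [this, Win_self]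

theorem V_le_Pc {a b k : ℤ} (hk : k ≤ a) (hb : b ≤ k + t - 1) : V σ P t a b ≤ Pc σ P k := by
  rw [← V_full (t := t)]
  exact V_mono hk hb

theorem V_le_P {a b : ℤ} (ha : 0 ≤ a) (hb : b ≤ t - 1) : V σ P t a b ≤ P := by
  have := V_le_Pc (σ := σ) (P := P) (t := t) (a := a) (b := b) (k := 0) ha (by omega)
  rwa [Pc_zero] at this

theorem Comm.shift {a b a' b' : ℤ} (s : ℤ) (h : Comm (V σ P t a b) (V σ P t a' b')) :
    Comm (V σ P t (a + s) (b + s)) (V σ P t (a' + s) (b' + s)) := by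
  have := Comm.smul (σ ^ s) h
  rwa [V_smul, V_smul] at this

variable [Finite G]

namespace Sys

variable (S : Sys σ P p t)
include S

theorem V_card (a b : ℤ) (m : ℕ) (hm : (m : ℤ) = b - a + 1) (hmt : m ≤ t) :
    Nat.card (V σ P t a b) = p ^ m :=
  S.card _ _ m (by omega) (by omega)

theorem V_bot {a b : ℤ} (h : b < a) : V σ P t a b = ⊥ := by
  have h1 : V σ P t a b ≤ V σ P t a (a - 1) := V_mono le_rfl (by omega)
  have h2 : Nat.card (V σ P t a (a - 1)) = p ^ 0 := S.V_card a (a - 1) 0 (by simp) (by omega)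
  rw [pow_zero, Subgroup.card_eq_one] at h2
  rw [h2] at h1
  exact le_bot_iff.mp h1

theorem V_ne_bot {a b : ℤ} (h1 : a ≤ b) (h2 : b - a ≤ t - 1) : V σ P t a b ≠ ⊥ := by
  intro h
  have hc := S.V_card a b (b - a + 1).toNat (by omega) (by omega)
  rw [h, Subgroup.card_bot] at hc
  have h3 : 1 ≤ (b - a + 1).toNat := by omega
  have := Nat.one_lt_pow (Nat.ne_of_gt h3) S.prime.one_lt
  omega

theorem V_pgroup {a b : ℤ} (h2 : b - a ≤ t - 1) : IsPGroup p (V σ P t a b) :=
  (isPGroup_Pc S.pgroup a).to_le (V_le_Pc le_rfl (by omega))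

theorem V_sup {a b c d : ℤ} (h1 : a ≤ d) (h2 : d ≤ c + 1) (h3 : c ≤ b) (h4 : b - a ≤ t - 1) :
    V σ P t a c ⊔ V σ P t d b = V σ P t a b := by
  have hle : V σ P t a c ⊔ V σ P t d b ≤ V σ P t a b :=
    sup_le (V_mono le_rfl h3) (V_mono h1 le_rfl)
  refine Subgroup.eq_of_le_of_card_ge hle ?_
  have hinf : V σ P t a c ⊓ V σ P t d b = V σ P t d c := by
    rw [V_inf (by omega) (by omega)]
    congr 1 <;> omega
  have hmul := card_mul_card_le (V σ P t a c) (V σ P t d b)
  rw [hinf, S.V_card a c (c - a + 1).toNat (by omega) (by omega),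
    S.V_card d b (b - d + 1).toNat (by omega) (by omega),
    S.V_card d c (c - d + 1).toNat (by omega) (by omega)] at hmul
  rw [S.V_card a b (b - a + 1).toNat (by omega) (by omega)]
  have he : (c - a + 1).toNat + (b - d + 1).toNat = (b - a + 1).toNat + (c - d + 1).toNat := by
    omega
  rw [← pow_add, he, pow_add] at hmul
  exact Nat.le_of_mul_le_mul_right hmul (pow_pos S.prime.pos _)

theorem V_nml_left {a b : ℤ} (h1 : a ≤ b) (h2 : b - a ≤ t - 1) :
    Nml (V σ P t a b) (V σ P t (a + 1) b) :=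
  nml_of_card S.prime (V_mono (by omega) le_rfl) (b - a).toNat
    (S.V_card a b ((b - a).toNat + 1) (by omega) (by omega))
    (S.V_card (a + 1) b (b - a).toNat (by omega) (by omega))

theorem V_nml_right {a b : ℤ} (h1 : a ≤ b) (h2 : b - a ≤ t - 1) :
    Nml (V σ P t a b) (V σ P t a (b - 1)) :=
  nml_of_card S.prime (V_mono le_rfl (by omega)) (b - a).toNat
    (S.V_card a b ((b - a).toNat + 1) (by omega) (by omega))
    (S.V_card a (b - 1) (b - a).toNat (by omega) (by omega))

theorem V_card_succ {a b : ℤ} (h1 : a ≤ b) (h2 : b - a ≤ t - 1) :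
    Nat.card (V σ P t a b) = p * Nat.card (V σ P t a (b - 1)) := by
  rw [S.V_card a b ((b - a).toNat + 1) (by omega) (by omega),
    S.V_card a (b - 1) (b - a).toNat (by omega) (by omega), pow_succ']

theorem V_card_succ' {a b : ℤ} (h1 : a ≤ b) (h2 : b - a ≤ t - 1) :
    Nat.card (V σ P t a b) = p * Nat.card (V σ P t (a + 1) b) := by
  rw [S.V_card a b ((b - a).toNat + 1) (by omega) (by omega),
    S.V_card (a + 1) b (b - a).toNat (by omega) (by omega), pow_succ']

end Sys

end Cfsg.Agent.Lead.Glaub
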