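import Cfsg.Agent.Lead.GlaubC

/-!
# Glauberman's window calculus, part D: the abelian length `l`

`l` is the largest length of an abelian window `V 0 (l-1)`.  We compute the centres of the
windows `V 0 j` (`l - 1 ≤ j ≤ t - 1`), and derive the two inequalities
`2 l ≤ t + n` (from `P ∩ Z(K) = 1`) and `2 t ≤ 3 l` (when `l < t`).
-/

set_option autoImplicit false
set_option linter.unusedSectionVars false
open Pointwise

namespace Cfsg.Agent.Lead.Glaub

variable {G : Type*} [Group G] [Finite G]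
variable {σ : MulAut G} {P : Subgroup G} {p t : ℕ}

theorem V_congr {a b a' b' : ℤ} (ha : a = a') (hb : b = b') : V σ P t a b = V σ P t a' b' := by
  subst ha
  subst hb
  rfl

/-- The abelian length. -/
structure Lam (σ : MulAut G) (P : Subgroup G) (t l : ℕ) : Prop where
  one_le : 1 ≤ l
  le : l ≤ t
  ab : Comm (V σ P t 0 ((l : ℤ) - 1)) (V σ P t 0 ((l : ℤ) - 1))
  nab : l < t → ¬ Comm (V σ P t 0 l) (V σ P t 0 l)

theorem comm_of_card_prime {p : ℕ} (hp : p.Prime) (H : Subgroup G) (hc : Nat.card H = p) :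
    Comm H H := by
  have : Fact p.Prime := ⟨hp⟩
  have hcyc : IsCyclic H := isCyclic_of_prime_card hc
  intro x hx y hy
  let _ := IsCyclic.commGroup (α := H)
  have := mul_comm (⟨x, hx⟩ : H) ⟨y, hy⟩
  exact congrArg Subtype.val this

theorem Sys.exists_lam (S : Sys σ P p t) : ∃ l, Lam σ P t l := by
  classical
  have h1t := S.pos
  have hP1 : Comm (V σ P t 0 (((1 : ℕ) : ℤ) - 1)) (V σ P t 0 (((1 : ℕ) : ℤ) - 1)) := by
    apply comm_of_card_prime S.prime
    have := S.V_card 0 (((1 : ℕ) : ℤ) - 1) 1 (by simp) h1t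
    rw [this, pow_one]
  refine ⟨Nat.findGreatest
    (fun l : ℕ => Comm (V σ P t 0 ((l : ℤ) - 1)) (V σ P t 0 ((l : ℤ) - 1))) t, ?_, ?_, ?_, ?_⟩
  · exact Nat.le_findGreatest h1t hP1
  · exact Nat.findGreatest_le t
  · exact Nat.findGreatest_spec (P := fun l : ℕ =>
      Comm (V σ P t 0 ((l : ℤ) - 1)) (V σ P t 0 ((l : ℤ) - 1))) h1t hP1
  · intro hlt hc
    have := Nat.findGreatest_is_greatest (P := fun l : ℕ =>
      Comm (V σ P t 0 ((l : ℤ) - 1)) (V σ P t 0 ((l : ℤ) - 1))) (Nat.lt_succ_self _) hlt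
    apply this
    simp only [Nat.succ_eq_add_one, Nat.cast_add, Nat.cast_one, add_sub_cancel_right]
    exact hc

namespace Lam

variable {l : ℕ} (S : Sys σ P p t) (L : Lam σ P t l)
include S L

theorem ab_short {a b : ℤ} (h : b - a ≤ l - 1) : Comm (V σ P t a b) (V σ P t a b) := by
  have h1 : Comm (V σ P t (0 + a) ((l : ℤ) - 1 + a)) (V σ P t (0 + a) ((l : ℤ) - 1 + a)) :=
    L.ab.shift a
  exact h1.mono (V_mono (by omega) (by omega)) (V_mono (by omega) (by omega))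

theorem comm_pair {a b a' b' : ℤ} (h1 : b - a' ≤ l - 1) (h2 : b' - a ≤ l - 1)
    (h3 : b - a ≤ l - 1) (h4 : b' - a' ≤ l - 1) : Comm (V σ P t a b) (V σ P t a' b') :=
  (L.ab_short S (a := min a a') (b := max b b') (by omega)).mono
    (V_mono (min_le_left _ _) (le_max_left _ _)) (V_mono (min_le_right _ _) (le_max_right _ _))

theorem noncomm (hl : l < t) : ¬ Comm (V σ P t 0 0) (V σ P t l l) := by
  have h1l := L.one_le
  intro hc
  apply L.nab hl
  have e1 : V σ P t 0 ((l : ℤ) - 1) ⊔ V σ P t l l = V σ P t 0 l :=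
    S.V_sup (by omega) (by omega) (by omega) (by omega)
  have e2 : V σ P t 0 0 ⊔ V σ P t 1 ((l : ℤ) - 1) = V σ P t 0 ((l : ℤ) - 1) :=
    S.V_sup (by omega) (by omega) (by omega) (by omega)
  have c2 : Comm (V σ P t 0 ((l : ℤ) - 1)) (V σ P t l l) := by
    rw [← e2]
    exact Comm.sup_left hc (L.comm_pair S (by omega) (by omega) (by omega) (by omega))
  rw [← e1]
  exact Comm.sup_left (Comm.sup_right L.ab c2)
    (Comm.sup_right c2.symm (L.ab_short S (by omega)))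

theorem V_le_Cen {j : ℤ} (h1 : (l : ℤ) - 1 ≤ j) (h2 : j ≤ t - 1) :
    V σ P t (j - l + 1) ((l : ℤ) - 1) ≤ Cen (V σ P t 0 j) := by
  have h1l := L.one_le
  apply le_Cen (V_mono (by omega) h1)
  by_cases hb : (l : ℤ) - 1 < j - l + 1
  · rw [S.V_bot hb]
    exact Comm.bot_left _
  · push Not at hb
    rw [← S.V_sup (a := 0) (c := (l : ℤ) - 1) (d := j - l + 1) (b := j) (by omega) (by omega) h1
      (by omega)]
    exact Comm.sup_right (L.comm_pair S (by omega) (by omega) (by omega) (by omega))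
      (L.comm_pair S (by omega) (by omega) (by omega) (by omega))

theorem Cen_le_V (k : ℕ) (h2 : (l : ℤ) - 1 + k ≤ t - 1) :
    Cen (V σ P t 0 ((l : ℤ) - 1 + k)) ≤ V σ P t k ((l : ℤ) - 1) := by
  have h1l := L.one_le
  have : Fact p.Prime := ⟨S.prime⟩
  induction k with
  | zero =>
    simp only [Nat.cast_zero, add_zero]
    exact Cen_le _
  | succ k ih =>
    push_cast at h2 ⊢
    have hl : l < t := by omega
    have ih' := ih (by omega)
    -- the centre of `A = V 0 j`, `j = l - 1 + k`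
    have hA : Cen (V σ P t 0 ((l : ℤ) - 1 + k)) = V σ P t k ((l : ℤ) - 1) := by
      apply le_antisymm ih'
      have h := L.V_le_Cen S (j := (l : ℤ) - 1 + k) (by omega) (by omega)
      rwa [V_congr (σ := σ) (P := P) (t := t)
        (show (l : ℤ) - 1 + k - l + 1 = k by ring) rfl] at h
    -- the centre of `B = V 1 (j+1)`
    have hB : Cen (V σ P t 1 ((l : ℤ) - 1 + (k + 1))) = V σ P t ((k : ℤ) + 1) l := by
      have h := congrArg (fun H => (σ ^ (1 : ℤ)) • H) hA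
      simp only [Cen_smul, V_smul] at h
      rwa [V_congr (σ := σ) (P := P) (t := t) (show (0 : ℤ) + 1 = 1 by ring)
        (show (l : ℤ) - 1 + k + 1 = (l : ℤ) - 1 + (k + 1) by ring),
        V_congr (σ := σ) (P := P) (t := t) (show (k : ℤ) + 1 = k + 1 by ring)
        (show (l : ℤ) - 1 + 1 = l by ring)] at h
    have hAne : Cen (V σ P t 0 ((l : ℤ) - 1 + k)) ≠ ⊥ :=
      Cen_ne_bot (S.V_pgroup (by omega)) (S.V_ne_bot (by omega) (by omega))
    have hk : (k : ℤ) ≤ l - 1 := by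
      by_contra hcon
      push Not at hcon
      apply hAne
      rw [hA]
      exact S.V_bot hcon
    have hAM : V σ P t 0 ((l : ℤ) - 1 + k) ≤ V σ P t 0 ((l : ℤ) - 1 + (k + 1)) :=
      V_mono le_rfl (by omega)
    have hBM : V σ P t 1 ((l : ℤ) - 1 + (k + 1)) ≤ V σ P t 0 ((l : ℤ) - 1 + (k + 1)) :=
      V_mono (by omega) le_rfl
    have hcA : Nat.card (V σ P t 0 ((l : ℤ) - 1 + (k + 1))) =
        p * Nat.card (V σ P t 0 ((l : ℤ) - 1 + k)) := by
      have h := S.V_card_succ (a := 0) (b := (l : ℤ) - 1 + (k + 1)) (by omega) (by omega)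
      rwa [V_congr (σ := σ) (P := P) (t := t) (a := 0) rfl
        (show (l : ℤ) - 1 + (k + 1) - 1 = (l : ℤ) - 1 + k by ring)] at h
    have hcB : Nat.card (V σ P t 0 ((l : ℤ) - 1 + (k + 1))) =
        p * Nat.card (V σ P t 1 ((l : ℤ) - 1 + (k + 1))) := by
      have h := S.V_card_succ' (a := 0) (b := (l : ℤ) - 1 + (k + 1)) (by omega) (by omega)
      rwa [V_congr (σ := σ) (P := P) (t := t) (show (0 : ℤ) + 1 = 1 by ring) rfl] at h
    -- `Z ≤ A`
    have hZA : Cen (V σ P t 0 ((l : ℤ) - 1 + (k + 1))) ≤ V σ P t 0 ((l : ℤ) - 1 + k) := by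
      by_contra hnot
      have hsup := sup_eq_of_card_eq_mul S.prime hAM (Cen_le _) hcA hnot
      have hle : Cen (V σ P t 0 ((l : ℤ) - 1 + k)) ≤ Cen (V σ P t 0 ((l : ℤ) - 1 + (k + 1))) :=
        Cen_le_Cen_of_sup (by rw [sup_comm]; exact hsup.symm) le_rfl
      rw [hA] at hle
      have hc : Comm (V σ P t k k) (V σ P t ((l : ℤ) - 1 + (k + 1)) ((l : ℤ) - 1 + (k + 1))) :=
        (comm_Cen _).mono ((V_mono le_rfl hk).trans hle) (V_mono (by omega) le_rfl)
      have hc' := hc.shift (-(k : ℤ))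
      rw [V_congr (σ := σ) (P := P) (t := t) (show (k : ℤ) + -k = 0 by ring)
        (show (k : ℤ) + -k = 0 by ring),
        V_congr (σ := σ) (P := P) (t := t) (show (l : ℤ) - 1 + (k + 1) + -k = l by ring)
        (show (l : ℤ) - 1 + (k + 1) + -k = l by ring)] at hc'
      exact L.noncomm S hl hc'
    -- `Z ≤ B`
    have hZB : Cen (V σ P t 0 ((l : ℤ) - 1 + (k + 1))) ≤ V σ P t 1 ((l : ℤ) - 1 + (k + 1)) := by
      by_contra hnot
      have hsup := sup_eq_of_card_eq_mul S.prime hBM (Cen_le _) hcB hnot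
      have hle : Cen (V σ P t 1 ((l : ℤ) - 1 + (k + 1))) ≤
          Cen (V σ P t 0 ((l : ℤ) - 1 + (k + 1))) :=
        Cen_le_Cen_of_sup (by rw [sup_comm]; exact hsup.symm) le_rfl
      rw [hB] at hle
      have hc : Comm (V σ P t l l) (V σ P t 0 0) :=
        (comm_Cen _).mono ((V_mono (by omega) le_rfl).trans hle) (V_mono le_rfl (by omega))
      exact L.noncomm S hl hc.symm
    have hZ1 : Cen (V σ P t 0 ((l : ℤ) - 1 + (k + 1))) ≤ Cen (V σ P t 0 ((l : ℤ) - 1 + k)) :=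
      le_Cen hZA ((comm_Cen _).mono le_rfl hAM)
    have hZ2 : Cen (V σ P t 0 ((l : ℤ) - 1 + (k + 1))) ≤
        Cen (V σ P t 1 ((l : ℤ) - 1 + (k + 1))) :=
      le_Cen hZB ((comm_Cen _).mono le_rfl hBM)
    rw [hA] at hZ1
    rw [hB] at hZ2
    have hinf := le_inf hZ1 hZ2
    rw [V_inf (by omega) (by omega)] at hinf
    rwa [V_congr (σ := σ) (P := P) (t := t) (show max (k : ℤ) (k + 1) = k + 1 by omega)
      (show min ((l : ℤ) - 1) l = (l : ℤ) - 1 by omega)] at hinf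

theorem Cen_V {j : ℤ} (h1 : (l : ℤ) - 1 ≤ j) (h2 : j ≤ t - 1) :
    Cen (V σ P t 0 j) = V σ P t (j - l + 1) ((l : ℤ) - 1) := by
  apply le_antisymm _ (L.V_le_Cen S h1 h2)
  have h := L.Cen_le_V S (j - (l - 1)).toNat (by omega)
  rwa [V_congr (σ := σ) (P := P) (t := t) (a := 0) rfl
    (show (l : ℤ) - 1 + ((j - (l - 1)).toNat : ℤ) = j by omega),
    V_congr (σ := σ) (P := P) (t := t) (show ((j - (l - 1)).toNat : ℤ) = j - l + 1 by omega)
    rfl] at h

/-- **First inequality**: `2 l ≤ t + n`, from `P ∩ Z(K) = 1`. -/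
theorem two_mul_le (n : ℕ) (K : Subgroup G) (hPK : P ≤ K)
    (hKc : ∀ X : Subgroup G, (∀ i : ℕ, i ≤ n → Comm X (Pc σ P i)) → Comm X K)
    (h2 : P ⊓ (Subgroup.center K).map K.subtype = ⊥) : 2 * l ≤ t + n := by
  have h1l := L.one_le
  have hlt := L.le
  by_contra hcon
  push Not at hcon
  have hXK : Comm (V σ P t ((l : ℤ) - 1) ((l : ℤ) - 1)) K := by
    apply hKc
    intro i hi
    rw [← V_full (t := t), ← S.V_sup (a := (i : ℤ)) (c := (l : ℤ) - 1) (d := (l : ℤ) - 1)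
      (b := (i : ℤ) + t - 1) (by omega) (by omega) (by omega) (by omega)]
    exact Comm.sup_right (L.comm_pair S (by omega) (by omega) (by omega) (by omega))
      (L.comm_pair S (by omega) (by omega) (by omega) (by omega))
  have hXP : V σ P t ((l : ℤ) - 1) ((l : ℤ) - 1) ≤ P := V_le_P (by omega) (by omega)
  have hXle : V σ P t ((l : ℤ) - 1) ((l : ℤ) - 1) ≤
      P ⊓ (Subgroup.center K).map K.subtype := by
    intro x hx
    refine ⟨hXP hx, ⟨⟨x, hPK (hXP hx)⟩, ?_, rfl⟩⟩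
    rw [SetLike.mem_coe, Subgroup.mem_center_iff]
    intro y
    apply Subtype.ext
    exact (hXK x hx y y.2).symm
  rw [h2] at hXle
  exact S.V_ne_bot (a := (l : ℤ) - 1) (b := (l : ℤ) - 1) le_rfl (by omega) (le_bot_iff.mp hXle)

/-- **Second inequality**: `2 t ≤ 3 l` when `l < t`. -/
theorem two_t_le (hl : l < t) : 2 * t ≤ 3 * l := by
  have h1l := L.one_le
  have : Fact p.Prime := ⟨S.prime⟩
  -- the centre of `Q = V 1 (t-1)`
  have hCQ : Cen (V σ P t 1 ((t : ℤ) - 1)) = V σ P t ((t : ℤ) - l) l := by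
    have h := L.Cen_V S (j := (t : ℤ) - 2) (by omega) (by omega)
    have h' := congrArg (fun H => (σ ^ (1 : ℤ)) • H) h
    simp only [Cen_smul, V_smul] at h'
    rwa [V_congr (σ := σ) (P := P) (t := t) (show (0 : ℤ) + 1 = 1 by ring)
      (show (t : ℤ) - 2 + 1 = (t : ℤ) - 1 by ring),
      V_congr (σ := σ) (P := P) (t := t) (show (t : ℤ) - 2 - l + 1 + 1 = (t : ℤ) - l by ring)
      (show (l : ℤ) - 1 + 1 = l by ring)] at h'
  have hQne : Cen (V σ P t 1 ((t : ℤ) - 1)) ≠ ⊥ :=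
    Cen_ne_bot (S.V_pgroup (by omega)) (S.V_ne_bot (by omega) (by omega))
  have ht2l : (t : ℤ) - l ≤ l := by
    by_contra hcon
    push Not at hcon
    apply hQne
    rw [hCQ]
    exact S.V_bot hcon
  -- `P_0` and `P_1` normalise `Q`, hence `Z(Q)`
  have hN0 : Nml (V σ P t 0 ((t : ℤ) - 1)) (Cen (V σ P t 1 ((t : ℤ) - 1))) := by
    have h := S.V_nml_left (a := 0) (b := (t : ℤ) - 1) (by omega) (by omega)
    rw [V_congr (σ := σ) (P := P) (t := t) (show (0 : ℤ) + 1 = 1 by ring) rfl] at h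
    exact h.Cen
  have hN1 : Nml (V σ P t 1 t) (Cen (V σ P t 1 ((t : ℤ) - 1))) :=
    (S.V_nml_right (a := 1) (b := (t : ℤ)) (by omega) (by omega)).Cen
  rw [hCQ] at hN0 hN1
  -- a non-commuting pair
  have hnc := L.noncomm S hl
  unfold Comm at hnc
  push Not at hnc
  obtain ⟨x, hx, y, hy, hxy⟩ := hnc
  -- (c1) `c ∈ V 1 (l-1)`
  have hc1 : x * y * x⁻¹ * y⁻¹ ∈ V σ P t 1 ((l : ℤ) - 1) := by
    have hNl : Nml (V σ P t 0 l) (V σ P t 1 l) := by
      have h := S.V_nml_left (a := 0) (b := (l : ℤ)) (by omega) (by omega)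
      rwa [V_congr (σ := σ) (P := P) (t := t) (show (0 : ℤ) + 1 = 1 by ring) rfl] at h
    have hNr : Nml (V σ P t 0 l) (V σ P t 0 ((l : ℤ) - 1)) :=
      S.V_nml_right (a := 0) (b := (l : ℤ)) (by omega) (by omega)
    have hxM : x ∈ V σ P t 0 l := V_mono (σ := σ) (P := P) (t := t) le_rfl (by omega) hx
    have hyM : y ∈ V σ P t 0 l := V_mono (σ := σ) (P := P) (t := t) (by omega) le_rfl hy
    have h1 : x * y * x⁻¹ * y⁻¹ ∈ V σ P t 1 l := by
      have hy1 : y ∈ V σ P t 1 l := V_mono (σ := σ) (P := P) (t := t) (by omega) le_rfl hy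
      exact mul_mem (hNl x hxM y hy1) (inv_mem hy1)
    have h2 : x * y * x⁻¹ * y⁻¹ ∈ V σ P t 0 ((l : ℤ) - 1) := by
      have hx1 : x ∈ V σ P t 0 ((l : ℤ) - 1) :=
        V_mono (σ := σ) (P := P) (t := t) le_rfl (by omega) hx
      have h3 := hNr y hyM x⁻¹ (inv_mem hx1)
      have e : x * y * x⁻¹ * y⁻¹ = x * (y * x⁻¹ * y⁻¹) := by group
      rw [e]
      exact mul_mem hx1 h3
    have h3 : x * y * x⁻¹ * y⁻¹ ∈ V σ P t 1 l ⊓ V σ P t 0 ((l : ℤ) - 1) := ⟨h1, h2⟩
    rw [V_inf (by omega) (by omega)] at h3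
    rwa [V_congr (σ := σ) (P := P) (t := t) (show max (1 : ℤ) 0 = 1 by omega)
      (show min (l : ℤ) ((l : ℤ) - 1) = (l : ℤ) - 1 by omega)] at h3
  -- (c2) `c ∈ V (t-l) l`
  have hc2 : x * y * x⁻¹ * y⁻¹ ∈ V σ P t ((t : ℤ) - l) l := by
    have hy1 : y ∈ V σ P t ((t : ℤ) - l) l :=
      V_mono (σ := σ) (P := P) (t := t) ht2l le_rfl hy
    have hx0 : x ∈ V σ P t 0 ((t : ℤ) - 1) :=
      V_mono (σ := σ) (P := P) (t := t) le_rfl (by omega) hx
    exact mul_mem (hN0 x hx0 y hy1) (inv_mem hy1)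
  -- (c3) `c ∈ V 0 (2l-t)`
  have hc3 : x * y * x⁻¹ * y⁻¹ ∈ V σ P t 0 (2 * (l : ℤ) - t) := by
    have hx' : (σ ^ ((t : ℤ) - l)) • x ∈ V σ P t ((t : ℤ) - l) l := by
      have h : (σ ^ ((t : ℤ) - l)) • x ∈ (σ ^ ((t : ℤ) - l)) • V σ P t 0 0 :=
        Subgroup.smul_mem_pointwise_smul _ _ _ hx
      rw [V_smul] at h
      exact V_mono (σ := σ) (P := P) (t := t) (by omega) (by omega) h
    have hy' : (σ ^ ((t : ℤ) - l)) • y ∈ V σ P t 1 t := by
      have h : (σ ^ ((t : ℤ) - l)) • y ∈ (σ ^ ((t : ℤ) - l)) • V σ P t l l :=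
        Subgroup.smul_mem_pointwise_smul _ _ _ hy
      rw [V_smul] at h
      exact V_mono (σ := σ) (P := P) (t := t) (by omega) (by omega) h
    have h3 := hN1 _ hy' _ (inv_mem hx')
    have h4 := mul_mem hx' h3
    have e : (σ ^ ((t : ℤ) - l)) • x * ((σ ^ ((t : ℤ) - l)) • y * ((σ ^ ((t : ℤ) - l)) • x)⁻¹ *
        ((σ ^ ((t : ℤ) - l)) • y)⁻¹) = (σ ^ ((t : ℤ) - l)) • (x * y * x⁻¹ * y⁻¹) := by
      simp only [MulAut.smul_def, map_mul, map_inv]
      group
    rw [e, V_congr (σ := σ) (P := P) (t := t)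
      (show (t : ℤ) - l = 0 + ((t : ℤ) - l) by ring)
      (show (l : ℤ) = 2 * (l : ℤ) - t + ((t : ℤ) - l) by ring), ← V_smul,
      Subgroup.smul_mem_pointwise_smul_iff] at h4
    exact h4
  -- combine
  by_contra hcon
  push Not at hcon
  have h5 : x * y * x⁻¹ * y⁻¹ ∈ V σ P t 1 ((l : ℤ) - 1) ⊓ V σ P t ((t : ℤ) - l) l := ⟨hc1, hc2⟩
  rw [V_inf (by omega) (by omega)] at h5
  have h6 : x * y * x⁻¹ * y⁻¹ ∈
      V σ P t (max 1 ((t : ℤ) - l)) (min ((l : ℤ) - 1) l) ⊓ V σ P t 0 (2 * (l : ℤ) - t) :=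
    ⟨h5, hc3⟩
  rw [V_inf (by omega) (by omega), S.V_bot (by omega), Subgroup.mem_bot] at h6
  apply hxy
  have e : x * y = (x * y * x⁻¹ * y⁻¹) * (y * x) := by group
  rw [e, h6, one_mul]

end Lam

end Cfsg.Agent.Lead.Glaub
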