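import Mathlib
import Cfsg.Agent.Lead.GoldCritC
import Cfsg.Agent.Gold.Exist
import Cfsg.Agent.Helper5.GoldOdd
import Cfsg.Agent.Helper4.GoldLabB
import Cfsg.Agent.Helper9.GoldE3b
import Cfsg.Agent.Helper5.GoldTwoD

set_option autoImplicit false

/-!
# S2858 project: the final case analysis (critical distance at least two is impossible)

Glue of the pieces: counting (helper5), labelled shifts and E3a (helper4), E3b (helper9), `b = 2` (helper1, helper5),
existence of a critical path (helper3), Lemma X / Lemma Y (lead).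
-/

namespace Cfsg.Agent.Lead.Gold

open MulAction Cfsg.Agent.Gold
open scoped commutatorElement

variable {G : Type*} [Group G] {V : Type*} [MulAction G V] {Γ : SimpleGraph V}

/-- `b` odd and `S1` at the start of a critical walk is impossible. -/
theorem dead_odd_cw (h : Loc3 G Γ) {b : ℕ} {a : ℕ → V} (hb : 3 ≤ b) (hodd : Odd b)
    (c : CritWalk G Γ b a) (hS : S1 G Γ (a 0)) : False := by
  obtain ⟨t, ht, htQ, -⟩ := c.exists_t h
  have hT := type1_iff_S1.2 hS
  refine Cfsg.Agent.Helper5.Gold.odd_subcase_one_false h hodd hb c.hno a c.hadj ht htQ ?_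
    (S1.relIndex_Dk h hS).le (fun g hg hc => cent_Zv h hg hc)
  intro j hj δ hδ
  exact (Type1.walk h c.hadj hT j hj).inf_le_Dk h hδ

/-- `b` even at least four and `S1` at the start of a critical walk is impossible. -/
theorem dead_sub1_even_cw (h : Loc3 G Γ) {b : ℕ} {a : ℕ → V} (hb : 4 ≤ b) (heven : Even b)
    (c : CritWalk G Γ b a) (hS : S1 G Γ (a 0)) : False := by
  by_cases hsib : ∀ μ, Γ.Adj (a 1) μ → μ ≠ a 0 → μ ≠ a 2 → Zv G Γ μ ≤ Qk G Γ (a b)
  · obtain ⟨t, ht, htQ, htE⟩ := c.exists_t h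
    have htx : t ∈ stabilizer G (a 0) := (inf_le_left : Ed G (a 0) (a 1) ≤ _) htE
    have hT := type1_iff_S1.2 hS
    refine Cfsg.Agent.Helper9.Gold.e3b_tight h c heven hb ht htQ ?_ (S1.relIndex_Dk h hS) ?_ hsib
    · intro j hj δ hδ
      exact (Type1.walk h c.hadj hT j hj).inf_le_Dk h hδ
    · intro u hu
      rw [Cfsg.Agent.Helper5.Gold.Vn_zero]
      exact S1.comm_mem_Zv h hS htx hu
  · push Not at hsib
    obtain ⟨μ, hμ, hμ0, -, hμc⟩ := hsib
    exact Cfsg.Agent.Helper4.Gold.dead_sub1_even_sib_cw h hb heven c hS hμ hμ0 hμc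

/-- critical distance at least two is impossible -/
theorem no_b_ge_two (h : Loc3 G Γ)
    {b : ℕ} {a : ℕ → V} (hb : 2 ≤ b) (c : CritWalk G Γ b a) : False := by
  rcases Nat.even_or_odd b with heven | hodd
  · by_cases hb4 : 4 ≤ b
    · by_cases hS : S1 G Γ (a 0)
      · exact dead_sub1_even_cw h hb4 heven c hS
      · exact Cfsg.Agent.Helper4.Gold.dead_sub2_even_cw h hb4 heven c hS
    · have hb2 : b = 2 := by
        obtain ⟨k, hk⟩ := heven
        omega
      subst hb2
      exact Cfsg.Agent.Helper5.Gold.dead_two_cw h c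
  · have hb3 : 3 ≤ b := by
      obtain ⟨k, hk⟩ := hodd
      omega
    by_cases hS : S1 G Γ (a 0)
    · exact dead_odd_cw h hb3 hodd c hS
    · by_cases hSb : S1 G Γ (a b)
      · have cr := c.reverse h
        exact dead_odd_cw h hb3 hodd cr (by simpa using hSb)
      · exact Cfsg.Agent.Helper4.Gold.dead_sub2_odd_cw h hb3 hodd c hS hSb

/-- **There is an adjacent critical pair.** -/
theorem exists_adj_crit_of (h : Loc3 G Γ) [Nonempty V] :
    ∃ x y, Γ.Adj x y ∧ ¬ Zv G Γ x ≤ Qk G Γ y := by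
  obtain ⟨b, a, hmin, hp⟩ := Cfsg.Agent.Gold.exists_CPath h
  have c : CritWalk G Γ b a := ⟨hmin, hp.adj, hp.crit⟩
  have hpos := c.pos h
  by_cases hb1 : b = 1
  · subst hb1
    exact ⟨a 0, a 1, hp.adj 0 (by norm_num), hp.crit⟩
  · exact (no_b_ge_two h (by omega) c).elim

end Cfsg.Agent.Lead.Gold
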