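import Mathlib
import Cfsg.Prelude.Def_Solvable
import Cfsg.Agent.Helper1.Fitting2
import Cfsg.Agent.Helper1.Cores
import Cfsg.Agent.Helper1.SylowInt

set_option autoImplicit false

/-!
Three lemmas on finite solvable groups used for Hall–Higman type arguments with the prime `3`:
subgroups centralizing a Sylow subgroup lie in the `p'`-core, and two consequences.
-/

namespace Cfsg.Agent.Lead.HH3

open Cfsg Cfsg.Agent.Helper1
open scoped Pointwise commutatorElement

/-- the image of a subgroup centralizing `T` centralizes the image of `T`. -/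
theorem map_le_centralizer_map {G H : Type*} [Group G] [Group H] (f : G →* H)
    {B T : Subgroup G} (h : B ≤ Subgroup.centralizer (T : Set G)) :
    B.map f ≤ Subgroup.centralizer ((T.map f : Subgroup H) : Set H) := by
  rintro _ ⟨b, hb, rfl⟩
  rw [Subgroup.mem_centralizer_iff]
  rintro _ ⟨t, ht, rfl⟩
  have h1 := (Subgroup.mem_centralizer_iff.1 (h hb)) t ht
  rw [← map_mul, ← map_mul, h1]

/-- a subgroup which is both a `p`-group and of order prime to `p` is trivial. -/
theorem eq_bot_of_isPGroup_of_coprime {G : Type*} [Group G] [Finite G] {p : ℕ} [hp : Fact p.Prime]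
    {H : Subgroup G} (h1 : IsPGroup p H) (h2 : (Nat.card H).Coprime p) : H = ⊥ := by
  obtain ⟨n, hn⟩ := IsPGroup.iff_card.1 h1
  rw [hn] at h2
  rcases Nat.eq_zero_or_pos n with h0 | h0
  · rw [h0, pow_zero] at hn
    exact Subgroup.card_eq_one.1 hn
  · exfalso
    have h3 : p ∣ p ^ n := dvd_pow_self p (Nat.pos_iff_ne_zero.1 h0)
    have h4 : p ∣ Nat.gcd (p ^ n) p := Nat.dvd_gcd h3 dvd_rfl
    rw [Nat.Coprime] at h2
    rw [h2] at h4
    exact hp.out.one_lt.ne' (Nat.dvd_one.1 h4)

/-- L1: in a finite solvable group a `p'`-subgroup centralizing a Sylow `p`-subgroup lies in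
`O_{p'}`. -/
theorem le_pPrimeCore_of_le_centralizer_sylow {G : Type*} [Group G] [Finite G]
    [Group.IsSolvable G] (p : ℕ) [Fact p.Prime] (T : Sylow p G) (B : Subgroup G)
    (hBT : B ≤ Subgroup.centralizer ((T : Subgroup G) : Set G))
    (hB : (Nat.card ↥B).Coprime p) : B ≤ Cfsg.pPrimeCore p G := by
  set K := Cfsg.pPrimeCore p G with hK
  set π := QuotientGroup.mk' K with hπ
  have hπs : Function.Surjective π := QuotientGroup.mk'_surjective _
  have hsolv : Group.IsSolvable (G ⧸ K) := Group.isSolvable_of_surjective hπs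
  have h1 := centralizer_pCore_le (G := G ⧸ K) p (pPrimeCore_quotient_pPrimeCore p)
  set Tb : Sylow p (G ⧸ K) := T.mapSurjective hπs with hTb
  have hTbcoe : (Tb : Subgroup (G ⧸ K)) = (T : Subgroup G).map π := rfl
  have hOle : Cfsg.pCore p (G ⧸ K) ≤ (T : Subgroup G).map π := by
    rw [← hTbcoe]; exact pCore_le_sylow Tb
  have h2 : B.map π ≤ Cfsg.pCore p (G ⧸ K) :=
    (map_le_centralizer_map π hBT).trans ((Subgroup.centralizer_le hOle).trans h1)
  have h3 : IsPGroup p (B.map π) := (pCore_isPGroup (G := G ⧸ K) p).to_le h2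
  have h4 : (Nat.card (B.map π)).Coprime p :=
    Nat.Coprime.coprime_dvd_left (Subgroup.card_map_dvd _ _) hB
  have h5 : B.map π = ⊥ := eq_bot_of_isPGroup_of_coprime h3 h4
  have h6 : B ≤ π.ker := (Subgroup.map_eq_bot_iff _).1 h5
  rwa [hπ, QuotientGroup.ker_mk'] at h6

/-- L2 -/
theorem four_le_pPrimeCore {S : Type*} [Group S] [Finite S] [Group.IsSolvable S]
    (B : Subgroup S) (hB : Nat.card ↥B = 3) (Q : Subgroup S) (hQ : IsPGroup 2 ↥Q)
    (hBQ : B ≤ Subgroup.normalizer (Q : Set S)) (hQB : ⁅Q, B⁆ = Q) (P : Sylow 3 S)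
    (hBZ : (Subgroup.center ↥(P : Subgroup S)).map (P : Subgroup S).subtype = B) :
    Q ≤ Cfsg.pPrimeCore 3 S := by
  have _ := hB
  have _ := hBQ
  have : Fact (Nat.Prime 3) := ⟨by norm_num⟩
  have : Fact (Nat.Prime 2) := ⟨by norm_num⟩
  set K := Cfsg.pPrimeCore 3 S with hK
  set π := QuotientGroup.mk' K with hπ
  have hπs : Function.Surjective π := QuotientGroup.mk'_surjective _
  have hsolv : Group.IsSolvable (S ⧸ K) := Group.isSolvable_of_surjective hπs
  have h1 := centralizer_pCore_le (G := S ⧸ K) 3 (pPrimeCore_quotient_pPrimeCore 3)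
  set Pb : Sylow 3 (S ⧸ K) := P.mapSurjective hπs with hPb
  have hPbcoe : (Pb : Subgroup (S ⧸ K)) = (P : Subgroup S).map π := rfl
  have hOle : Cfsg.pCore 3 (S ⧸ K) ≤ (P : Subgroup S).map π := by
    rw [← hPbcoe]; exact pCore_le_sylow Pb
  have hBP : B ≤ Subgroup.centralizer ((P : Subgroup S) : Set S) := by
    rw [← hBZ]
    rintro _ ⟨z, hz, rfl⟩
    rw [Subgroup.mem_centralizer_iff]
    intro t ht
    have h2 := (Subgroup.mem_center_iff.1 hz) ⟨t, ht⟩
    have h3 := congrArg Subtype.val h2
    simpa using h3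
  have h2 : B.map π ≤ Cfsg.pCore 3 (S ⧸ K) :=
    (map_le_centralizer_map π hBP).trans ((Subgroup.centralizer_le hOle).trans h1)
  have h3 : Q.map π = ⁅Q.map π, B.map π⁆ := by
    rw [← Subgroup.map_commutator, hQB]
  have h4 : Q.map π ≤ Cfsg.pCore 3 (S ⧸ K) := by
    rw [h3]
    exact (Subgroup.commutator_mono le_top h2).trans
      ((Subgroup.commutator_le_right _ _))
  have h5 : IsPGroup 3 (Q.map π) := (pCore_isPGroup (G := S ⧸ K) 3).to_le h4
  have h6 : IsPGroup 2 (Q.map π) := hQ.map π
  have h7 : (Nat.card (Q.map π)).Coprime 3 := by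
    obtain ⟨n, hn⟩ := IsPGroup.iff_card.1 h6
    rw [hn]
    exact Nat.Coprime.pow_left n (by norm_num)
  have h8 : Q.map π = ⊥ := eq_bot_of_isPGroup_of_coprime h5 h7
  have h9 : Q ≤ π.ker := (Subgroup.map_eq_bot_iff _).1 h8
  rwa [hπ, QuotientGroup.ker_mk'] at h9

/-- L3 -/
theorem isPGroup_two_commutator {S : Type*} [Group S] [Finite S] [Group.IsSolvable S]
    (N B : Subgroup S) [N.Normal] (hN : (Nat.card ↥N).Coprime 3) (hB : Nat.card ↥B = 3)
    (hpair : ∀ q : ℕ, q.Prime → q ≠ 2 → ∀ T : Subgroup S, T ≤ N → IsPGroup q ↥T →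
      B ≤ Subgroup.normalizer (T : Set S) → B ≤ Subgroup.centralizer (T : Set S)) :
    IsPGroup 2 ↥⁅N, B⁆ := by
  have hcomN : ⁅N, B⁆ ≤ N := Subgroup.commutator_le_left N B
  have key : ∀ q : ℕ, q.Prime → q ∣ Nat.card ↥⁅N, B⁆ → q = 2 := by
    intro q hq hdvd
    by_contra hq2
    have hqN : q ∣ Nat.card N := hdvd.trans (Subgroup.card_dvd_of_le hcomN)
    have hq3 : q ≠ 3 := by
      rintro rfl
      have h1 : (3 : ℕ) ∣ Nat.gcd (Nat.card N) 3 := Nat.dvd_gcd hqN dvd_rfl
      rw [Nat.Coprime] at hN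
      rw [hN] at h1
      norm_num at h1
    have : Fact q.Prime := ⟨hq⟩
    have hcop : (Nat.card B).Coprime (Nat.card N) := by
      rw [hB]; exact hN.symm
    have hBN : B ≤ Subgroup.normalizer (N : Set S) := by
      rw [Subgroup.normalizer_eq_top]; exact le_top
    have hBsolv : Group.IsSolvable B := inferInstance
    obtain ⟨T, hT⟩ := exists_invariant_sylow (p := q) B N hBN hcop (Or.inl hBsolv)
    set T' : Subgroup S := (T : Subgroup N).map N.subtype with hT'
    have hT'N : T' ≤ N := Subgroup.map_subtype_le _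
    have hT'q : IsPGroup q T' := T.2.map N.subtype
    have hcent : B ≤ Subgroup.centralizer (T' : Set S) := hpair q hq hq2 T' hT'N hT'q hT
    -- pass to `M = N ⊔ B`
    set M : Subgroup S := N ⊔ B with hM
    have hNM : N ≤ M := le_sup_left
    have hBM : B ≤ M := le_sup_right
    have hT'M : T' ≤ M := hT'N.trans hNM
    have hcardM : Nat.card M ∣ Nat.card N * 3 := by
      have h1 := card_sup_dvd B N
      rw [sup_comm, hB, mul_comm] at h1
      exact h1
    have hfac : (Nat.card M).factorization q = (Nat.card N).factorization q := by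
      apply le_antisymm
      · have h1 : (Nat.card M).factorization q ≤ (Nat.card N * 3).factorization q :=
          (Nat.factorization_le_iff_dvd Nat.card_pos.ne'
            (Nat.mul_ne_zero Nat.card_pos.ne' (by norm_num))).2 hcardM q
        rw [Nat.factorization_mul Nat.card_pos.ne' (by norm_num)] at h1
        have h2 : (Nat.factorization 3) q = 0 := by
          rw [Nat.Prime.factorization (by norm_num : Nat.Prime 3)]
          simp [Ne.symm hq3]
        simpa [h2] using h1
      · exact (Nat.factorization_le_iff_dvd Nat.card_pos.ne' Nat.card_pos.ne').2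
          (Subgroup.card_dvd_of_le hNM) q
    have hcardT : Nat.card (T'.subgroupOf M) = q ^ (Nat.card M).factorization q := by
      rw [card_subgroupOf_of_le hT'M, hT', card_map_subtype, T.card_eq_multiplicity, hfac]
    set TM : Sylow q M := Sylow.ofCard (T'.subgroupOf M) hcardT with hTM
    have hMsolv : Group.IsSolvable M := inferInstance
    have hcentM : B.subgroupOf M ≤
        Subgroup.centralizer (((TM : Subgroup M)) : Set M) := by
      intro b hb
      rw [Subgroup.mem_centralizer_iff]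
      intro t ht
      have ht' : (t : S) ∈ T' := by
        have : t ∈ T'.subgroupOf M := ht
        exact Subgroup.mem_subgroupOf.1 this
      have hb' : (b : S) ∈ B := Subgroup.mem_subgroupOf.1 hb
      have h1 := (Subgroup.mem_centralizer_iff.1 (hcent hb')) (t : S) ht'
      exact Subtype.ext (by simpa using h1)
    have hcardBM : (Nat.card (B.subgroupOf M)).Coprime q := by
      rw [card_subgroupOf_of_le hBM, hB]
      exact (Nat.coprime_primes (by norm_num) hq).2 (Ne.symm hq3)
    have hL1 := le_pPrimeCore_of_le_centralizer_sylow q TM (B.subgroupOf M) hcentM hcardBM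
    have h2 : ⁅N.subgroupOf M, B.subgroupOf M⁆ ≤ Cfsg.pPrimeCore q M :=
      (Subgroup.commutator_mono le_top hL1).trans (Subgroup.commutator_le_right _ _)
    have h3 : (⁅N.subgroupOf M, B.subgroupOf M⁆).map M.subtype = ⁅N, B⁆ := by
      rw [Subgroup.map_commutator, Subgroup.map_subgroupOf_eq_of_le hNM,
        Subgroup.map_subgroupOf_eq_of_le hBM]
    have h4 : Nat.card ↥⁅N, B⁆ = Nat.card ↥⁅N.subgroupOf M, B.subgroupOf M⁆ := by
      rw [← h3, card_map_subtype]
    have h5 : (Nat.card ↥⁅N.subgroupOf M, B.subgroupOf M⁆).Coprime q :=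
      Nat.Coprime.coprime_dvd_left (Subgroup.card_dvd_of_le h2) (card_pPrimeCore_coprime q)
    rw [← h4] at h5
    have h6 : q ∣ Nat.gcd (Nat.card ↥⁅N, B⁆) q := Nat.dvd_gcd hdvd dvd_rfl
    rw [Nat.Coprime] at h5
    rw [h5] at h6
    exact hq.one_lt.ne' (Nat.dvd_one.1 h6)
  have hne : Nat.card ↥⁅N, B⁆ ≠ 0 := Nat.card_pos.ne'
  have hpow := Nat.eq_prime_pow_of_unique_prime_dvd hne (fun {d} hd hdd => key d hd hdd)
  exact IsPGroup.of_card hpow

end Cfsg.Agent.Lead.HH3
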