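import Mathlib
import Cfsg.Agent.Helper9.HH3.IndZ2
import Cfsg.Agent.Helper9.HH3.Four3
import Cfsg.Agent.Helper9.HH3.Maschke
import Cfsg.Agent.Helper1.Coprime

/-!
Piece F for S4415: the module decomposition `E = [E, R] ⊕ C_E(R)` with `R ⟨b⟩` faithful and
irreducible on `[E, R]`.
-/

set_option autoImplicit false

namespace Cfsg.Agent.Lead.HH3

open Cfsg.Agent.Helper9.HH3

/-- members of `⟨b⟩` when `b ^ 3 = 1`. -/
theorem mem_zpowers_of_cube {S : Type*} [Group S] {b a : S} (hb3 : b ^ 3 = 1)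
    (ha : a ∈ Subgroup.zpowers b) : a = 1 ∨ a = b ∨ a = b⁻¹ := by
  obtain ⟨j, rfl⟩ := Subgroup.mem_zpowers_iff.1 ha
  have hb3' : b ^ (3 : ℤ) = 1 := by
    have : b ^ (3 : ℤ) = b ^ (3 : ℕ) := by norm_cast
    rw [this, hb3]
  have h1 : b ^ j = b ^ (j % 3) := by
    conv_lhs => rw [← Int.mul_ediv_add_emod j 3]
    rw [zpow_add, zpow_mul, hb3', one_zpow, one_mul]
  have h2 : 0 ≤ j % 3 := Int.emod_nonneg j (by norm_num)
  have h3 : j % 3 < 3 := Int.emod_lt_of_pos j (by norm_num)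
  rw [h1]
  have h4 : j % 3 = 0 ∨ j % 3 = 1 ∨ j % 3 = 2 := by omega
  rcases h4 with h | h | h
  · left; rw [h, zpow_zero]
  · right; left; rw [h, zpow_one]
  · right; right
    rw [h]
    have : b ^ (2 : ℤ) * b = 1 := by
      rw [← zpow_add_one]; exact hb3'
    exact eq_inv_of_mul_eq_one_left this

theorem two_pow_mod_three (k : ℕ) : 2 ^ k % 3 = 1 ∨ 2 ^ k % 3 = 2 := by
  induction k with
  | zero => left; norm_num
  | succ k ih =>
    rw [pow_succ, Nat.mul_mod]
    rcases ih with h | h <;> rw [h] <;> norm_num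

theorem decomposition {S E : Type*} [Group S] [AddCommGroup E] [Module (ZMod 3) E] [Finite E]
    {ρ : Representation (ZMod 3) S E} {b : S} {v₀ : E} (hc : Cub ρ b v₀) {z₁ z₂ z₃ : S}
    (hf : FourCfg b z₁ z₂ z₃) {R : Subgroup S} [Finite ↥R] (hB : BAct b R)
    (hR2 : IsPGroup 2 ↥R) (hz1 : z₁ ∈ R) (hz2 : z₂ ∈ R) :
    commE ρ R ⊓ fixE ρ R = ⊥ ∧ commE ρ R ⊔ fixE ρ R = ⊤ ∧
    (∀ r ∈ R ⊔ Subgroup.zpowers b, ∀ v ∈ commE ρ R, ρ r v ∈ commE ρ R) ∧
    (∀ r ∈ R ⊔ Subgroup.zpowers b, (∀ v ∈ commE ρ R, ρ r v = v) → r = 1) ∧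
    (∀ N : Submodule (ZMod 3) E, N ≤ commE ρ R →
      (∀ r ∈ R ⊔ Subgroup.zpowers b, ∀ v ∈ N, ρ r v ∈ N) → N = ⊥ ∨ N = commE ρ R) := by
  have h3 : ¬ 3 ∣ Nat.card R := by
    obtain ⟨n, hn⟩ := IsPGroup.iff_card.1 hR2
    rw [hn]
    intro h
    have := (Nat.Prime.dvd_of_dvd_pow Nat.prime_three h)
    omega
  have hcompl := isCompl_fixE_commE ρ R h3
  have hnorm : Subgroup.zpowers b ≤ Subgroup.normalizer (R : Set S) := by
    rw [Subgroup.zpowers_le, Subgroup.mem_normalizer_iff]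
    intro r
    constructor
    · exact hB.inv r
    · intro h
      have := hB.inv' h
      have e : b⁻¹ * (b * r * b⁻¹) * b = r := by group
      rwa [e] at this
  have hconj : ∀ a ∈ Subgroup.zpowers b, ∀ x ∈ R, a * x * a⁻¹ ∈ R := by
    intro a ha x hx
    exact (Subgroup.mem_normalizer_iff.1 (hnorm ha) x).1 hx
  -- invariance of `[E, R]`
  have hinvR : ∀ r ∈ R, ∀ v ∈ commE ρ R, ρ r v ∈ commE ρ R := fun r hr v hv =>
    commE_self_invariant ρ hr hv
  have hinvB : ∀ a ∈ Subgroup.zpowers b, ∀ v ∈ commE ρ R, ρ a v ∈ commE ρ R := fun a ha v hv =>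
    map_mem_commE ρ (hconj a ha) hv
  have hdecomp : ∀ g ∈ R ⊔ Subgroup.zpowers b, ∃ n ∈ R, ∃ a ∈ Subgroup.zpowers b, g = n * a :=
    fun g hg => Cfsg.Agent.Helper1.mem_sup_of_le_normalizer hnorm hg
  have hinv : ∀ r ∈ R ⊔ Subgroup.zpowers b, ∀ v ∈ commE ρ R, ρ r v ∈ commE ρ R := by
    intro g hg v hv
    obtain ⟨n, hn, a, ha, rfl⟩ := hdecomp g hg
    rw [rho_mul_apply]
    exact hinvR n hn _ (hinvB a ha v hv)
  -- `R` is not trivial on `[E, R]`, hence neither is `b`
  have hbnt : ¬ ∀ v ∈ commE ρ R, ρ b v = v := by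
    intro hbt
    have h1 := triv_of_comm_eq hB.gen hinvR hbt
    have h2 : z₁ = 1 := eq_one_of_trivial_on_commE ρ hc.faith R h3 hz1 (h1 z₁ hz1)
    exact hf.ne h2
  refine ⟨?_, ?_, hinv, ?_, ?_⟩
  · rw [inf_comm]; exact hcompl.inf_eq_bot
  · rw [sup_comm]; exact hcompl.sup_eq_top
  · -- faithful
    intro g hg htriv
    obtain ⟨n, hn, a, ha, rfl⟩ := hdecomp g hg
    -- on `[E, R]`, `a` acts as `n⁻¹`
    have h1 : ∀ v ∈ commE ρ R, ρ a v = ρ n⁻¹ v := by
      intro v hv
      have := htriv v hv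
      rw [rho_mul_apply] at this
      have h2 := congrArg (ρ n⁻¹) this
      rwa [rho_inv_apply] at h2
    have h2 : ∀ m : ℕ, ∀ v ∈ commE ρ R, ρ (a ^ m) v = ρ (n⁻¹ ^ m) v := by
      intro m
      induction m with
      | zero => intro v _; rw [pow_zero, pow_zero]
      | succ m ih =>
        intro v hv
        rw [pow_succ, pow_succ, rho_mul_apply, rho_mul_apply, h1 v hv]
        exact ih _ (hinvR _ (R.inv_mem hn) v hv)
    obtain ⟨k, hk⟩ := hR2 ⟨n, hn⟩
    have hk' : n ^ (2 ^ k) = 1 := by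
      have := congrArg Subtype.val hk
      simpa using this
    have h4 : ∀ v ∈ commE ρ R, ρ (a ^ (2 ^ k)) v = v := by
      intro v hv
      rw [h2 _ v hv, inv_pow, hk', inv_one, rho_one_apply]
    have ha3 : a ^ 3 = 1 := by
      rcases mem_zpowers_of_cube hB.b3 ha with h | h | h
      · rw [h, one_pow]
      · rw [h, hB.b3]
      · rw [h, inv_pow, hB.b3, inv_one]
    -- `a` is trivial on `[E, R]`
    have h5 : ∀ v ∈ commE ρ R, ρ a v = v := by
      have hmod : 2 ^ k % 3 = 1 ∨ 2 ^ k % 3 = 2 := two_pow_mod_three k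
      have hq : 2 ^ k = 3 * (2 ^ k / 3) + 2 ^ k % 3 := (Nat.div_add_mod _ _).symm
      have hpow : a ^ (2 ^ k) = a ^ (2 ^ k % 3) := by
        conv_lhs => rw [hq]
        rw [pow_add, pow_mul, ha3, one_pow, one_mul]
      rcases hmod with h | h
      · rw [hpow, h, pow_one] at h4
        exact h4
      · rw [hpow, h] at h4
        intro v hv
        have h6 : a = (a ^ 2) ^ 2 := by
          rw [← pow_mul]
          have : a ^ (2 * 2) = a ^ 3 * a := by rw [← pow_succ]
          rw [this, ha3, one_mul]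
        rw [h6, pow_two, rho_mul_apply, h4 v hv, h4 v hv]
    -- so `n` is trivial on `[E, R]`, hence `n = 1`
    have h6 : ∀ v ∈ commE ρ R, ρ n v = v := by
      intro v hv
      have := htriv v hv
      rwa [rho_mul_apply, h5 v hv] at this
    have hn1 : n = 1 := eq_one_of_trivial_on_commE ρ hc.faith R h3 hn h6
    rw [hn1, one_mul]
    rcases mem_zpowers_of_cube hB.b3 ha with h | h | h
    · exact h
    · exfalso; apply hbnt; rw [← h]; exact h5
    · exfalso; apply hbnt
      intro v hv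
      have h7 := h5 v hv
      rw [h] at h7
      have := congrArg (ρ b) h7
      rw [rho_apply_inv] at this
      exact this.symm
  · -- irreducible
    intro N hNle hNinv
    by_cases hN0 : N = ⊥
    · exact Or.inl hN0
    right
    have hNR : ∀ r ∈ R, ∀ v ∈ N, ρ r v ∈ N := fun r hr v hv =>
      hNinv r (Subgroup.mem_sup_left hr) v hv
    have hNb : ∀ v ∈ N, ρ b v ∈ N := fun v hv =>
      hNinv b (Subgroup.mem_sup_right (Subgroup.mem_zpowers b)) v hv
    have hNnb : ∀ v ∈ N, nb ρ b v ∈ N := fun v hv => N.sub_mem (hNb v hv) hv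
    -- (a) `b` is not trivial on `N`
    have ha : ¬ ∀ v ∈ N, ρ b v = v := by
      intro hbt
      have h1 := triv_of_comm_eq hB.gen hNR hbt
      apply hN0
      rw [eq_bot_iff]
      intro v hv
      have h2 : v ∈ fixE ρ R := fun r hr => h1 r hr v hv
      have := eq_zero_of_mem_fixE_of_mem_commE ρ R h3 h2 (hNle hv)
      rw [this]; exact Submodule.zero_mem _
    -- (b) `(b - 1)^2` is not zero on `N`
    have hb : ¬ ∀ v ∈ N, nb ρ b (nb ρ b v) = 0 := by
      intro hq
      have h1 : N ≤ W0 ρ z₁ z₂ :=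
        hf.triv_of_quadratic (hNR z₁ hz1) (hNR z₂ hz2) hq
      exact ha (fun v hv => hf.b_triv_W0 hc v (h1 hv))
    simp only [not_forall] at hb
    obtain ⟨v, hv, hvq⟩ := hb
    obtain ⟨c, d, hcd⟩ := hc.rng v
    have hsq : nb ρ b (nb ρ b v) = c • nb ρ b (nb ρ b v₀) := by
      rw [hcd, map_add, map_smul, map_smul, hc.nb_p1, smul_zero, add_zero]
    have hc0 : c ≠ 0 := by
      intro h0
      apply hvq
      rw [hsq, h0, zero_smul]
    have hp2 : nb ρ b (nb ρ b v₀) ∈ N := by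
      have h1 : nb ρ b (nb ρ b v) ∈ N := hNnb _ (hNnb v hv)
      rw [hsq] at h1
      have h2 := N.smul_mem c⁻¹ h1
      rwa [smul_smul, inv_mul_cancel₀ hc0, one_smul] at h2
    have hp1 : nb ρ b v₀ ∈ N := by
      have h1 : nb ρ b v ∈ N := hNnb v hv
      rw [hcd] at h1
      have h2 : c • nb ρ b v₀ ∈ N := by
        have := N.sub_mem h1 (N.smul_mem d hp2)
        rwa [add_sub_cancel_right] at this
      have h4 := N.smul_mem c⁻¹ h2
      rwa [smul_smul, inv_mul_cancel₀ hc0, one_smul] at h4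
    have hall : ∀ x, nb ρ b x ∈ N := by
      intro x
      obtain ⟨c', d', h⟩ := hc.rng x
      rw [h]
      exact N.add_mem (N.smul_mem _ hp1) (N.smul_mem _ hp2)
    -- (c) the subgroup of elements `g` with `(g - 1) E ≤ N`
    let K : Subgroup S :=
      { carrier := {g | ∀ x, ρ g x - x ∈ N}
        mul_mem' := by
          intro g h hg hh x
          have h1 : ρ (g * h) x - x = (ρ g (ρ h x) - ρ h x) + (ρ h x - x) := by
            rw [rho_mul_apply]; abel
          rw [h1]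
          exact N.add_mem (hg _) (hh _)
        one_mem' := by
          intro x
          rw [rho_one_apply, sub_self]; exact N.zero_mem
        inv_mem' := by
          intro g hg x
          have h1 : ρ g⁻¹ x - x = -(ρ g (ρ g⁻¹ x) - ρ g⁻¹ x) := by
            rw [rho_apply_inv]; abel
          rw [h1]
          exact N.neg_mem (hg _) }
    have hbK : b ∈ K := fun x => hall x
    have hRK : R ≤ K := by
      apply hB.le_of_comm K
      intro r hr
      have h1 : r * b * r⁻¹ ∈ K := by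
        intro x
        have h2 : ρ (r * b * r⁻¹) x - x = ρ r (ρ b (ρ r⁻¹ x) - ρ r⁻¹ x) := by
          rw [rho_mul_apply, rho_mul_apply, map_sub, rho_apply_inv]
        rw [h2]
        exact hNR r hr _ (hall _)
      exact K.mul_mem h1 (K.inv_mem hbK)
    apply le_antisymm hNle
    rw [commE_le_iff]
    intro g hg x
    exact hRK hg x

end Cfsg.Agent.Lead.HH3
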