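import Mathlib
import Cfsg.Prelude.Def_HallClasses

set_option autoImplicit false

/-!
# Sets of primes `π` for which every finite group has a Hall `π`-subgroup
-/

namespace Cfsg.Agent.Lead.HallU

open scoped Pointwise

section general

variable {G : Type*} [Group G] [Finite G]

theorem conj_smul_eq_map (g : G) (P : Subgroup G) :
    MulAut.conj g • P = P.map (MulAut.conj g).toMonoidHom := rfl

theorem hall_dvd {π : Set ℕ} {H : Subgroup G} (hH : Cfsg.IsPiHall π H) {l : ℕ} (hl : l.Prime)
    (hπ : l ∈ π) (hd : l ∣ Nat.card G) : l ∣ Nat.card H := by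
  rw [← H.card_mul_index] at hd
  rcases (Nat.Prime.dvd_mul hl).mp hd with h | h
  · exact h
  · exact absurd h (hH.2 l hl hπ)

/-- a Hall `π`-subgroup contains a conjugate of every element of prime order `l ∈ π` -/
theorem hall_conj_mem {π : Set ℕ} {H : Subgroup G} (hH : Cfsg.IsPiHall π H) {l : ℕ}
    [hl : Fact l.Prime] (hπ : l ∈ π) {c : G} (hc : orderOf c = l) :
    ∃ x : G, x * c * x⁻¹ ∈ H := by
  obtain ⟨P⟩ : Nonempty (Sylow l H) := inferInstance
  have hcardP := P.card_eq_multiplicity
  have hfac : (Nat.card H).factorization l = (Nat.card G).factorization l := by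
    rw [← H.card_mul_index, Nat.factorization_mul Nat.card_pos.ne' (Subgroup.index_ne_zero_of_finite),
      Finsupp.add_apply, Nat.factorization_eq_zero_of_not_dvd (hH.2 l hl.1 hπ), add_zero]
  have hP'card : Nat.card ((P : Subgroup H).map H.subtype) = l ^ (Nat.card G).factorization l := by
    rw [Subgroup.card_map_of_injective H.subtype_injective, hcardP, hfac]
  let S := Sylow.ofCard ((P : Subgroup H).map H.subtype) hP'card
  have hpg : IsPGroup l (Subgroup.zpowers c) :=
    IsPGroup.of_card (n := 1) (by rw [Nat.card_zpowers, hc, pow_one])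
  obtain ⟨Q, hQ⟩ := hpg.exists_le_sylow
  obtain ⟨x, hx⟩ := MulAction.exists_smul_eq G Q S
  refine ⟨x, ?_⟩
  have h1 : c ∈ (Q : Subgroup G) := hQ (Subgroup.mem_zpowers c)
  have h2 : x * c * x⁻¹ ∈ ((x • Q : Sylow l G) : Subgroup G) := by
    rw [Sylow.coe_subgroup_smul, conj_smul_eq_map]
    exact ⟨c, h1, rfl⟩
  rw [hx] at h2
  obtain ⟨y, _, hy⟩ := h2
  rw [← hy]
  exact y.2

end general

section perm

open Equiv Equiv.Perm MulAction

/-- a subgroup of `S_q` of order divisible by the prime `q` is transitive -/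
theorem perm_transitive {q : ℕ} (hq : q.Prime) (H : Subgroup (Perm (Fin q)))
    (hd : q ∣ Nat.card H) : IsPretransitive H (Fin q) := by
  haveI := Fact.mk hq
  obtain ⟨g, hg⟩ := exists_prime_orderOf_dvd_card' q hd
  have ho : orderOf (g : Perm (Fin q)) = q := by rw [Subgroup.orderOf_coe]; exact hg
  have hcyc : (g : Perm (Fin q)).IsCycle := by
    apply isCycle_of_prime_order'
    · rw [ho]; exact hq
    · rw [ho, Fintype.card_fin]; have := hq.pos; omega
  have hsupp : ∀ x : Fin q, (g : Perm (Fin q)) x ≠ x := by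
    have h1 : (g : Perm (Fin q)).support.card = q := by rw [← hcyc.orderOf, ho]
    have h2 : (g : Perm (Fin q)).support = Finset.univ := by
      apply Finset.eq_univ_of_card
      rw [h1, Fintype.card_fin]
    intro x
    have : x ∈ (g : Perm (Fin q)).support := by rw [h2]; exact Finset.mem_univ x
    exact Equiv.Perm.mem_support.mp this
  refine ⟨fun x y => ?_⟩
  obtain ⟨i, hi⟩ := hcyc.exists_pow_eq (hsupp x) (hsupp y)
  refine ⟨g ^ i, ?_⟩
  show ((g ^ i : H) : Perm (Fin q)) x = y
  rw [Subgroup.coe_pow]; exact hi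

theorem perm_primitive {q : ℕ} (hq : q.Prime) (H : Subgroup (Perm (Fin q)))
    (hd : q ∣ Nat.card H) : IsPreprimitive H (Fin q) := by
  haveI := perm_transitive hq H hd
  apply IsPreprimitive.of_prime_card
  rw [Nat.card_eq_fintype_card, Fintype.card_fin]; exact hq

/-- `S_q` has no Hall `π`-subgroup when `π` contains two primes `p < q` but not `2` -/
theorem no_hall_A {π : Set ℕ} {p q : ℕ} (hp : p.Prime) (hq : q.Prime) (hpq : p < q)
    (hpπ : p ∈ π) (hqπ : q ∈ π) (h2 : 2 ∉ π) : ¬ Cfsg.IsEPiGroup π (Perm (Fin q)) := by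
  rintro ⟨H, hH⟩
  haveI := Fact.mk hp
  have hcardG : Nat.card (Perm (Fin q)) = q.factorial := by
    rw [Nat.card_perm, Nat.card_eq_fintype_card, Fintype.card_fin]
  have hqH : q ∣ Nat.card H := by
    apply hall_dvd hH hq hqπ
    rw [hcardG]; exact (hq.dvd_factorial).mpr le_rfl
  have hprim := perm_primitive hq H hqH
  -- a `p`-cycle
  obtain ⟨c, hc⟩ := (Equiv.Perm.exists_with_cycleType_iff (α := Fin q) (m := {p})).mpr
    ⟨by simp only [Multiset.sum_singleton, Fintype.card_fin]; exact hpq.le,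
     by intro a ha; rw [Multiset.mem_singleton] at ha; rw [ha]; exact hp.two_le⟩
  have hcyc : c.IsCycle := by
    rw [← card_cycleType_eq_one, hc, Multiset.card_singleton]
  have hord : orderOf c = p := by
    rw [← lcm_cycleType, hc, Multiset.lcm_singleton, normalize_eq]
  have hsupp : c.support.card = p := by
    rw [← sum_cycleType, hc, Multiset.sum_singleton]
  obtain ⟨x, hx⟩ := hall_conj_mem hH hpπ hord
  have hgc : (x * c * x⁻¹).IsCycle := hcyc.conj
  have hgs : (x * c * x⁻¹).support.card = p := by rw [card_support_conj]; exact hsupp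
  -- two-fold transitivity
  have hsn : (((x * c * x⁻¹).support : Set (Fin q))ᶜ).ncard = (q - p - 1) + 1 := by
    have h1 := Set.ncard_add_ncard_compl ((x * c * x⁻¹).support : Set (Fin q))
    rw [Set.ncard_coe_finset, hgs, Nat.card_eq_fintype_card, Fintype.card_fin] at h1
    omega
  have hsn' : (q - p - 1) + 2 < Nat.card (Fin q) := by
    rw [Nat.card_eq_fintype_card, Fintype.card_fin]
    have := hp.two_le
    omega
  have h2t : IsMultiplyPretransitive H (Fin q) 2 :=
    hprim.is_two_pretransitive hsn hsn' (isPretransitive_of_isCycle_mem hgc hx)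
  -- the order is even
  have hq3 : 3 ≤ q := by have := hp.two_le; omega
  let a : Fin q := ⟨0, by omega⟩
  let b : Fin q := ⟨1, by omega⟩
  have hab : a ≠ b := by
    intro h; have := congrArg Fin.val h; simp [a, b] at this
  have hs2 : ({a, b} : Set (Fin q)).ncard = 2 := Set.ncard_pair hab
  have hidx := h2t.index_of_fixingSubgroup_mul hs2
  rw [Nat.card_eq_fintype_card, Fintype.card_fin] at hidx
  have hfac : q.factorial = q * (q - 1) * (q - 2).factorial := by
    obtain ⟨k, rfl⟩ : ∃ k, q = k + 2 := ⟨q - 2, by omega⟩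
    simp only [Nat.add_sub_cancel, Nat.factorial_succ]
    have : k + 2 - 1 = k + 1 := by omega
    rw [this]; ring
  rw [hfac] at hidx
  have hidx' : (fixingSubgroup H ({a, b} : Set (Fin q))).index = q * (q - 1) :=
    Nat.eq_of_mul_eq_mul_right (Nat.factorial_pos _) hidx
  have hodd : ¬ 2 ∣ q := by
    intro h
    have := (Nat.prime_dvd_prime_iff_eq Nat.prime_two hq).mp h
    omega
  have h2d : 2 ∣ Nat.card H := by
    refine Dvd.dvd.trans ?_ (Subgroup.index_dvd_card (fixingSubgroup H ({a, b} : Set (Fin q))))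
    rw [hidx']
    apply Dvd.dvd.mul_left
    omega
  exact h2 (hH.1 2 Nat.prime_two h2d)

/-- `S_q` has no Hall `π`-subgroup when `2, q ∈ π` and some prime `r < q` is not in `π` -/
theorem no_hall_B1 {π : Set ℕ} {q r : ℕ} (hq : q.Prime) (hr : r.Prime) (hrq : r < q)
    (h2π : 2 ∈ π) (hqπ : q ∈ π) (hrπ : r ∉ π) : ¬ Cfsg.IsEPiGroup π (Perm (Fin q)) := by
  rintro ⟨H, hH⟩
  haveI := Fact.mk Nat.prime_two
  have hcardG : Nat.card (Perm (Fin q)) = q.factorial := by
    rw [Nat.card_perm, Nat.card_eq_fintype_card, Fintype.card_fin]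
  have hqH : q ∣ Nat.card H := by
    apply hall_dvd hH hq hqπ
    rw [hcardG]; exact (hq.dvd_factorial).mpr le_rfl
  have hprim := perm_primitive hq H hqH
  have hq3 : 3 ≤ q := by have := hr.two_le; omega
  let a : Fin q := ⟨0, by omega⟩
  let b : Fin q := ⟨1, by omega⟩
  have hab : a ≠ b := by
    intro h; have := congrArg Fin.val h; simp [a, b] at this
  have hsw : (Equiv.swap a b).IsSwap := ⟨a, b, hab, rfl⟩
  obtain ⟨x, hx⟩ := hall_conj_mem hH h2π hsw.orderOf
  have hsw' : (x * Equiv.swap a b * x⁻¹).IsSwap := by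
    rw [← card_support_eq_two, card_support_conj, card_support_eq_two]
    exact hsw
  have htop : H = ⊤ := subgroup_eq_top_of_isPreprimitive_of_isSwap_mem hprim _ hsw' hx
  have hrH : r ∣ Nat.card H := by
    rw [htop, Subgroup.card_top, hcardG]
    exact (hr.dvd_factorial).mpr hrq.le
  exact hrπ (hH.1 r hr hrH)

/-- `A_{r+1}` has no Hall `π`-subgroup when `r ≥ 5` is the least prime outside `π` -/
theorem no_hall_B2 {π : Set ℕ} {r : ℕ} (hr : r.Prime) (hr5 : 5 ≤ r) (hrπ : r ∉ π)
    (hlt : ∀ l : ℕ, l.Prime → l < r → l ∈ π) :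
    ¬ Cfsg.IsEPiGroup π (alternatingGroup (Fin (r + 1))) := by
  rintro ⟨H, hH⟩
  haveI : Nontrivial (Fin (r + 1)) := Fin.nontrivial_iff_two_le.mpr (by omega)
  have hcard2 : 2 * Nat.card (alternatingGroup (Fin (r + 1))) = (r + 1).factorial := by
    rw [two_mul_nat_card_alternatingGroup, Nat.card_perm, Nat.card_eq_fintype_card,
      Fintype.card_fin]
  have hsimple : IsSimpleGroup (alternatingGroup (Fin (r + 1))) := by
    apply alternatingGroup.isSimpleGroup
    rw [Nat.card_eq_fintype_card, Fintype.card_fin]; omega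
  have hr2 : ¬ r ∣ 2 := by
    intro h
    have := Nat.le_of_dvd (by norm_num) h
    omega
  have hrA : r ∣ Nat.card (alternatingGroup (Fin (r + 1))) := by
    have h1 : r ∣ 2 * Nat.card (alternatingGroup (Fin (r + 1))) := by
      rw [hcard2]; exact (hr.dvd_factorial).mpr (by omega)
    rcases (Nat.Prime.dvd_mul hr).mp h1 with h | h
    · exact absurd h hr2
    · exact h
  have hHtop : H ≠ ⊤ := by
    intro h
    apply hrπ
    apply hH.1 r hr
    rw [h, Subgroup.card_top]; exact hrA
  -- the index is `r`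
  have hidxdvd : H.index ∣ (r + 1).factorial := by
    rw [← hcard2]
    exact Dvd.dvd.mul_left (Subgroup.index_dvd_card H) 2
  have hprimes : ∀ {d : ℕ}, d.Prime → d ∣ H.index → d = r := by
    intro d hd hdi
    have h1 : d ∉ π := fun h => hH.2 d hd h hdi
    have h2 : ¬ d < r := fun h => h1 (hlt d hd h)
    have h3 : d ≤ r + 1 := (hd.dvd_factorial).mp (hdi.trans hidxdvd)
    rcases Nat.lt_or_ge r d with h4 | h4
    · exfalso
      have h5 : d = r + 1 := by omega
      rcases hr.eq_two_or_odd with h6 | h6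
      · omega
      · have h7 : 2 ∣ d := by omega
        have := (Nat.prime_dvd_prime_iff_eq Nat.prime_two hd).mp h7
        omega
    · omega
  have hidx0 : H.index ≠ 0 := Subgroup.index_ne_zero_of_finite
  have hpow := Nat.eq_prime_pow_of_unique_prime_dvd hidx0 hprimes
  have hidx1 : H.index ≠ 1 := fun h => hHtop (Subgroup.index_eq_one.mp h)
  have hidx : H.index = r := by
    set k := H.index.primeFactorsList.length with hk
    rcases Nat.lt_or_ge k 2 with h | h
    · have : k = 0 ∨ k = 1 := by omega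
      rcases this with h0 | h1
      · rw [h0, pow_zero] at hpow; exact absurd hpow hidx1
      · rw [h1, pow_one] at hpow; exact hpow
    · exfalso
      have h1 : r ^ 2 ∣ H.index := by
        rw [hpow]; exact pow_dvd_pow r h
      have h2 : r ^ 2 ∣ (r + 1).factorial := h1.trans hidxdvd
      have h3 : (r + 1).factorial = r * ((r + 1) * (r - 1).factorial) := by
        obtain ⟨m, rfl⟩ : ∃ m, r = m + 1 := ⟨r - 1, by omega⟩
        simp only [Nat.add_sub_cancel, Nat.factorial_succ]
        ring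
      rw [h3, sq] at h2
      have h4 : r ∣ (r + 1) * (r - 1).factorial := Nat.dvd_of_mul_dvd_mul_left hr.pos h2
      rcases (Nat.Prime.dvd_mul hr).mp h4 with h5 | h5
      · have : r ∣ 1 := (Nat.dvd_add_right (dvd_refl r)).mp h5
        have := Nat.le_of_dvd (by norm_num) this
        omega
      · have := (hr.dvd_factorial).mp h5
        omega
  -- the action on the cosets of `H` is faithful
  have hker : (MulAction.toPermHom (alternatingGroup (Fin (r + 1)))
      ((alternatingGroup (Fin (r + 1))) ⧸ H)).ker = ⊥ := by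
    rcases (MonoidHom.normal_ker (MulAction.toPermHom (alternatingGroup (Fin (r + 1)))
      ((alternatingGroup (Fin (r + 1))) ⧸ H))).eq_bot_or_eq_top with h | h
    · exact h
    · exfalso
      apply hHtop
      rw [eq_top_iff, ← h, ← Subgroup.normalCore_eq_ker]
      exact Subgroup.normalCore_le H
  have hinj : Function.Injective (MulAction.toPermHom (alternatingGroup (Fin (r + 1)))
      ((alternatingGroup (Fin (r + 1))) ⧸ H)) := (MonoidHom.ker_eq_bot_iff _).mp hker
  have hle := Nat.card_le_card_of_injective _ hinj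
  rw [Nat.card_perm] at hle
  have hq : Nat.card ((alternatingGroup (Fin (r + 1))) ⧸ H) = r := hidx
  rw [hq] at hle
  have h1 : (r + 1).factorial ≤ 2 * r.factorial := by
    rw [← hcard2]; exact Nat.mul_le_mul_left 2 hle
  rw [Nat.factorial_succ] at h1
  have h2 : 0 < r.factorial := Nat.factorial_pos r
  nlinarith

end perm

section easy

variable {π : Set ℕ}

theorem epi_of_le_one (h : ∀ p q : ℕ, p.Prime → q.Prime → p ∈ π → q ∈ π → p = q)
    (G : Type*) [Group G] [Finite G] : Cfsg.IsEPiGroup π G := by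
  by_cases hex : ∃ p : ℕ, p.Prime ∧ p ∈ π
  · obtain ⟨p, hp, hpπ⟩ := hex
    haveI := Fact.mk hp
    obtain ⟨P⟩ : Nonempty (Sylow p G) := inferInstance
    refine ⟨P, ?_, ?_⟩
    · intro l hl hd
      rw [P.card_eq_multiplicity] at hd
      have := (Nat.prime_dvd_prime_iff_eq hl hp).mp (hl.dvd_of_dvd_pow hd)
      rw [this]; exact hpπ
    · intro l hl hlπ
      rw [h l p hl hp hlπ hpπ]
      exact P.not_dvd_index
  · push Not at hex
    refine ⟨⊥, ?_, ?_⟩
    · intro l hl hd
      rw [Subgroup.card_bot] at hd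
      exact absurd (Nat.dvd_one.mp hd) hl.one_lt.ne'
    · intro l hl hlπ
      exact absurd hlπ (hex l hl)

theorem dpi_of_le_one (h : ∀ p q : ℕ, p.Prime → q.Prime → p ∈ π → q ∈ π → p = q)
    (G : Type*) [Group G] [Finite G] : Cfsg.IsDPiGroup π G := by
  intro H K hH hK
  by_cases hex : ∃ p : ℕ, p.Prime ∧ p ∈ π
  · obtain ⟨p, hp, hpπ⟩ := hex
    haveI := Fact.mk hp
    have hsyl : ∀ P : Sylow p G, Cfsg.IsPiSubgroup π (P : Subgroup G) := by
      intro P l hl hd
      rw [P.card_eq_multiplicity] at hd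
      have := (Nat.prime_dvd_prime_iff_eq hl hp).mp (hl.dvd_of_dvd_pow hd)
      rw [this]; exact hpπ
    have key : ∀ M : Subgroup G, Maximal (Cfsg.IsPiSubgroup π) M → ∃ P : Sylow p G, M = P := by
      intro M hM
      have hpg : IsPGroup p M := by
        have hpow := Nat.eq_prime_pow_of_unique_prime_dvd (n := Nat.card M) (p := p)
          Nat.card_pos.ne' (fun {d} hd hdd => h d p hd hp (hM.1 d hd hdd) hpπ)
        exact IsPGroup.of_card hpow
      obtain ⟨P, hP⟩ := hpg.exists_le_sylow
      exact ⟨P, le_antisymm hP (hM.2 (hsyl P) hP)⟩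
    obtain ⟨P, rfl⟩ := key H hH
    obtain ⟨Q, rfl⟩ := key K hK
    obtain ⟨g, hg⟩ := MulAction.exists_smul_eq G P Q
    refine ⟨g, ?_⟩
    rw [← hg, Sylow.coe_subgroup_smul, conj_smul_eq_map]
  · push Not at hex
    have key : ∀ M : Subgroup G, Maximal (Cfsg.IsPiSubgroup π) M → M = ⊥ := by
      intro M hM
      rw [← Subgroup.card_eq_one]
      by_contra hne
      obtain ⟨l, hl, hd⟩ := Nat.exists_prime_and_dvd hne
      exact hex l hl (hM.1 l hl hd)
    rw [key H hH, key K hK]
    exact ⟨1, by rw [Subgroup.map_bot]⟩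

theorem epi_of_all (h : ∀ p : ℕ, p.Prime → p ∈ π) (G : Type*) [Group G] [Finite G] :
    Cfsg.IsEPiGroup π G := by
  refine ⟨⊤, fun p hp _ => h p hp, fun p hp _ hd => ?_⟩
  rw [Subgroup.index_top] at hd
  exact hp.one_lt.ne' (Nat.dvd_one.mp hd)

theorem dpi_of_all (h : ∀ p : ℕ, p.Prime → p ∈ π) (G : Type*) [Group G] [Finite G] :
    Cfsg.IsDPiGroup π G := by
  intro H K hH hK
  have key : ∀ M : Subgroup G, Maximal (Cfsg.IsPiSubgroup π) M → M = ⊤ := by
    intro M hM
    exact top_le_iff.mp (hM.2 (fun p hp _ => h p hp) le_top)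
  rw [key H hH, key K hK]
  refine ⟨1, ?_⟩
  rw [Subgroup.map_top_of_surjective]
  exact (MulAut.conj (1 : G)).surjective

theorem epi_of_dpi {G : Type*} [Group G] [Finite G] (hD : Cfsg.IsDPiGroup π G) :
    Cfsg.IsEPiGroup π G := by
  have hbot : Cfsg.IsPiSubgroup π (⊥ : Subgroup G) := by
    intro l hl hd
    rw [Subgroup.card_bot] at hd
    exact absurd (Nat.dvd_one.mp hd) hl.one_lt.ne'
  obtain ⟨H, -, hH⟩ := Finite.exists_le_maximal hbot
  refine ⟨H, hH.1, ?_⟩
  intro p hp hpπ hd
  haveI := Fact.mk hp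
  obtain ⟨P⟩ : Nonempty (Sylow p G) := inferInstance
  have hP : Cfsg.IsPiSubgroup π (P : Subgroup G) := by
    intro l hl hdl
    rw [P.card_eq_multiplicity] at hdl
    have := (Nat.prime_dvd_prime_iff_eq hl hp).mp (hl.dvd_of_dvd_pow hdl)
    rw [this]; exact hpπ
  obtain ⟨K, hPK, hK⟩ := Finite.exists_le_maximal hP
  obtain ⟨g, hg⟩ := hD H K hH hK
  have hcard : Nat.card K = Nat.card H := by
    rw [hg, Subgroup.card_map_of_injective (MulAut.conj g).injective]
  have h1 : Nat.card (P : Subgroup G) ∣ Nat.card H := by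
    rw [← hcard]; exact Subgroup.card_dvd_of_le hPK
  -- `p` divides the index, but the full `p`-part divides the order of `H`
  have h2 : p ^ ((Nat.card G).factorization p + 1) ∣ Nat.card ↥H * H.index := by
    rw [pow_succ]
    exact Nat.mul_dvd_mul (by rw [← P.card_eq_multiplicity]; exact h1) hd
  rw [H.card_mul_index] at h2
  have h3 := (Nat.Prime.pow_dvd_iff_le_factorization hp Nat.card_pos.ne').mp h2
  omega

end easy

/-- the main theorem -/
theorem main (π : Set ℕ) :
    ((∀ (G : Type) [Group G] [Finite G], Cfsg.IsEPiGroup π G) ↔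
      ((∀ p q : ℕ, p.Prime → q.Prime → p ∈ π → q ∈ π → p = q) ∨ ∀ p : ℕ, p.Prime → p ∈ π)) ∧
    ((∀ (G : Type) [Group G] [Finite G], Cfsg.IsDPiGroup π G) ↔
      ((∀ p q : ℕ, p.Prime → q.Prime → p ∈ π → q ∈ π → p = q) ∨ ∀ p : ℕ, p.Prime → p ∈ π)) := by
  classical
  have hard : (∀ (G : Type) [Group G] [Finite G], Cfsg.IsEPiGroup π G) →
      ((∀ p q : ℕ, p.Prime → q.Prime → p ∈ π → q ∈ π → p = q) ∨ ∀ p : ℕ, p.Prime → p ∈ π) := by
    intro hE
    by_contra hcon
    rw [not_or] at hcon
    obtain ⟨h1, h2⟩ := hcon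
    push Not at h1 h2
    obtain ⟨p, q, hp, hq, hpπ, hqπ, hpq⟩ := h1
    have hexr : ∃ r : ℕ, r.Prime ∧ r ∉ π := h2
    by_cases h2π : 2 ∈ π
    · -- an odd prime in `π`
      obtain ⟨q', hq', hq'π, hq'2⟩ : ∃ q' : ℕ, q'.Prime ∧ q' ∈ π ∧ q' ≠ 2 := by
        by_cases hp2 : p = 2
        · exact ⟨q, hq, hqπ, fun h => hpq (by rw [hp2, h])⟩
        · exact ⟨p, hp, hpπ, hp2⟩
      set r₀ := Nat.find hexr with hr₀
      have hr₀spec : r₀.Prime ∧ r₀ ∉ π := Nat.find_spec hexr
      have hr₀min : ∀ l : ℕ, l.Prime → l < r₀ → l ∈ π := by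
        intro l hl hlt
        by_contra hlπ
        exact Nat.find_min hexr hlt ⟨hl, hlπ⟩
      by_cases hB1 : ∃ q'' : ℕ, q''.Prime ∧ q'' ∈ π ∧ r₀ < q''
      · obtain ⟨q'', hq'', hq''π, hlt⟩ := hB1
        exact no_hall_B1 hq'' hr₀spec.1 hlt h2π hq''π hr₀spec.2 (hE _)
      · push Not at hB1
        have h3 : q' ≤ r₀ := hB1 q' hq' hq'π
        have h4 : q' ≠ r₀ := fun h => hr₀spec.2 (h ▸ hq'π)
        have h5 : 3 ≤ q' := by
          have := hq'.two_le
          omega
        have h6 : 5 ≤ r₀ := by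
          have h7 : 4 ≤ r₀ := by omega
          rcases Nat.lt_or_ge 4 r₀ with h8 | h8
          · exact h8
          · exfalso
            have : r₀ = 4 := by omega
            rw [this] at hr₀spec
            exact absurd hr₀spec.1 (by norm_num)
        exact no_hall_B2 hr₀spec.1 h6 hr₀spec.2 hr₀min (hE _)
    · rcases Nat.lt_or_ge p q with h | h
      · exact no_hall_A hp hq h hpπ hqπ h2π (hE _)
      · have h' : q < p := lt_of_le_of_ne h (Ne.symm hpq)
        exact no_hall_A hq hp h' hqπ hpπ h2π (hE _)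
  refine ⟨⟨hard, ?_⟩, ⟨fun hD => hard (fun G _ _ => epi_of_dpi (hD G)), ?_⟩⟩
  · rintro (h | h) G _ _
    · exact epi_of_le_one h G
    · exact epi_of_all h G
  · rintro (h | h) G _ _
    · exact dpi_of_le_one h G
    · exact dpi_of_all h G

end Cfsg.Agent.Lead.HallU
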