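import Mathlib
import Cfsg.Agent.Lead.FusionFocal
import Cfsg.Agent.Helper1.CNGroup
import Cfsg.Agent.Helper1.NilpCoprime

set_option autoImplicit false

namespace Cfsg.Agent.Lead

open Cfsg.Agent.Helper1
open scoped commutatorElement

universe u

variable {G : Type u} [Group G]

/-- The descending series `M, [M,G], [M,G,G], …`. -/
def hcSeq (M : Subgroup G) : ℕ → Subgroup G
  | 0 => M
  | n + 1 => ⁅hcSeq M n, (⊤ : Subgroup G)⁆

theorem hcSeq_normal (M : Subgroup G) [hM : M.Normal] : ∀ n, (hcSeq M n).Normal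
  | 0 => hM
  | n + 1 => by
    have := hcSeq_normal M n
    exact Subgroup.commutator_normal _ _

theorem hcSeq_le (M : Subgroup G) [M.Normal] : ∀ n, hcSeq M n ≤ M
  | 0 => le_rfl
  | n + 1 => by
    have := hcSeq_normal M n
    exact (Subgroup.commutator_le_left _ _).trans (hcSeq_le M n)

theorem hcSeq_le_upperCentralSeries (M : Subgroup G) :
    ∀ i j : ℕ, hcSeq M (j + i) = ⊥ → hcSeq M j ≤ Subgroup.upperCentralSeries G i := by
  intro i
  induction i with
  | zero =>
    intro j h
    rw [Nat.add_zero] at h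
    rw [h]; exact bot_le
  | succ i ih =>
    intro j h x hx
    rw [Subgroup.mem_upperCentralSeries_succ_iff]
    intro y
    have h1 : ⁅x, y⁆ ∈ hcSeq M (j + 1) :=
      Subgroup.commutator_mem_commutator hx (Subgroup.mem_top y)
    have h2 : hcSeq M (j + 1 + i) = ⊥ := by
      rw [show j + 1 + i = j + (i + 1) by omega]; exact h
    exact ih (j + 1) h2 h1

/-- A `p`-element commuting with all `p'`-elements of a finite group lies in the hypercenter. -/
theorem exists_mem_upperCentralSeries_of_pElement [Finite G] {p : ℕ} [Fact p.Prime] (y : G) (k : ℕ)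
    (hy : orderOf y = p ^ k) (hc : ∀ z : G, (orderOf z).Coprime p → y * z = z * y) :
    ∃ n : ℕ, y ∈ Subgroup.upperCentralSeries G n := by
  have hKn : (Cfsg.pResidual p G).Normal := pResidual_normal' p
  -- `y` centralizes `K`
  have hyK : Cfsg.pResidual p G ≤ Subgroup.centralizer ({y} : Set G) := by
    unfold Cfsg.pResidual
    rw [Subgroup.closure_le]
    intro z hz
    rw [SetLike.mem_coe, Subgroup.mem_centralizer_singleton_iff]
    exact (hc z hz).symm
  -- a Sylow subgroup containing `y`
  have hzp : IsPGroup p (Subgroup.zpowers y) := by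
    apply IsPGroup.of_card (n := k)
    rw [Nat.card_zpowers]; exact hy
  obtain ⟨Q, hQ⟩ := hzp.exists_le_sylow
  have hyQ : y ∈ (Q : Subgroup G) := hQ (Subgroup.mem_zpowers y)
  -- decomposition `G = Q K`
  have hdec : ∀ a : G, ∃ q ∈ (Q : Subgroup G), ∃ c ∈ Cfsg.pResidual p G, a = q * c := by
    intro a
    have h1 : a ∈ ((Q : Subgroup G) ⊔ Cfsg.pResidual p G : Subgroup G) := by
      rw [sup_comm, pResidual_sup_sylow' Q]; trivial
    have h2 : a ∈ ((((Q : Subgroup G) ⊔ Cfsg.pResidual p G : Subgroup G)) : Set G) := h1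
    rw [Subgroup.mul_normal] at h2
    obtain ⟨q, hq, c, hc', rfl⟩ := h2
    exact ⟨q, hq, c, hc', rfl⟩
  -- the normal closure
  set M := Subgroup.normalClosure ({y} : Set G) with hM
  have hMn : M.Normal := Subgroup.normalClosure_normal
  have hyM : y ∈ M := Subgroup.subset_normalClosure (Set.mem_singleton y)
  have hMK : M ≤ Subgroup.centralizer ((Cfsg.pResidual p G : Subgroup G) : Set G) := by
    apply Subgroup.normalClosure_le_normal
    intro x hx
    rw [Set.mem_singleton_iff] at hx
    subst hx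
    rw [SetLike.mem_coe, Subgroup.mem_centralizer_iff]
    intro c hc'
    have := Subgroup.mem_centralizer_singleton_iff.mp (hyK hc')
    exact this
  have hcommK : ∀ x ∈ M, ∀ c ∈ Cfsg.pResidual p G, c * x = x * c := by
    intro x hx c hc'
    exact Subgroup.mem_centralizer_iff.mp (hMK hx) c hc'
  have hMQ : M ≤ (Q : Subgroup G) := by
    rw [hM, Subgroup.normalClosure, Subgroup.closure_le]
    intro a ha
    rw [Group.mem_conjugatesOfSet_iff] at ha
    obtain ⟨b, hb, hba⟩ := ha
    rw [Set.mem_singleton_iff] at hb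
    subst hb
    obtain ⟨d, hd⟩ := isConj_iff.mp hba
    obtain ⟨q, hq, c, hc', rfl⟩ := hdec d
    have hcy : c * b = b * c := hcommK b hyM c hc'
    have : a = q * b * q⁻¹ := by
      rw [← hd]
      calc q * c * b * (q * c)⁻¹ = q * (c * b) * c⁻¹ * q⁻¹ := by group
        _ = q * (b * c) * c⁻¹ * q⁻¹ := by rw [hcy]
        _ = q * b * q⁻¹ := by group
    rw [SetLike.mem_coe, this]
    exact Subgroup.mul_mem _ (Subgroup.mul_mem _ hq hyQ) (Subgroup.inv_mem _ hq)
  -- descent
  have hstep : ∀ i : ℕ, hcSeq M i ≤ (Q : Subgroup G).lowerCentralSeries i := by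
    intro i
    induction i with
    | zero => exact hMQ
    | succ i ih =>
      show ⁅hcSeq M i, (⊤ : Subgroup G)⁆ ≤ _
      rw [Subgroup.commutator_le]
      intro x hx a _
      obtain ⟨q, hq, c, hc', rfl⟩ := hdec a
      have hxM : x ∈ M := hcSeq_le M i hx
      have hcx : c * x⁻¹ = x⁻¹ * c := hcommK x⁻¹ (M.inv_mem hxM) c hc'
      have e : ⁅x, q * c⁆ = ⁅x, q⁆ := by
        rw [commutatorElement_def, commutatorElement_def]
        calc x * (q * c) * x⁻¹ * (q * c)⁻¹ = x * q * (c * x⁻¹) * c⁻¹ * q⁻¹ := by group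
          _ = x * q * (x⁻¹ * c) * c⁻¹ * q⁻¹ := by rw [hcx]
          _ = x * q * x⁻¹ * q⁻¹ := by group
      rw [e, Subgroup.lowerCentralSeries_succ]
      exact Subgroup.commutator_mem_commutator (ih hx) hq
  have hnil : Group.IsNilpotent ↥(Q : Subgroup G) := Q.2.isNilpotent
  obtain ⟨n, hn⟩ := (Subgroup.isNilpotent_iff_lowerCentralSeries (S := (Q : Subgroup G))).mp hnil
  have hbot : hcSeq M (0 + n) = ⊥ := by
    rw [Nat.zero_add, ← le_bot_iff, ← hn]; exact hstep n
  exact ⟨n, hcSeq_le_upperCentralSeries M n 0 hbot hyM⟩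

/-- Elements generating a nilpotent subgroup with every element lie in the hypercenter. -/
theorem mem_iSup_upperCentralSeries_of_nilpotent_pairs [Finite G] (g : G)
    (h : ∀ x : G, Group.IsNilpotent ↥(Subgroup.closure ({x, g} : Set G))) :
    g ∈ ⨆ n : ℕ, Subgroup.upperCentralSeries G n := by
  apply mem_of_forall_primePow_mem
  intro y hy hpp
  obtain ⟨p, k, hp, hk, hpk⟩ := (isPrimePow_nat_iff _).mp hpp
  have := Fact.mk hp
  obtain ⟨n, hn⟩ := exists_mem_upperCentralSeries_of_pElement (p := p) y k hpk.symm (by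
    intro z hz
    have hgK : g ∈ Subgroup.closure ({z, g} : Set G) := Subgroup.subset_closure (by simp)
    have hyK : y ∈ Subgroup.closure ({z, g} : Set G) :=
      (Subgroup.zpowers_le.mpr hgK) hy
    have hzK : z ∈ Subgroup.closure ({z, g} : Set G) := Subgroup.subset_closure (by simp)
    apply commute_of_coprime_orderOf_of_mem (h z) hyK hzK
    rw [← hpk]
    exact (Nat.Coprime.pow_right k hz).symm)
  exact (le_iSup (fun n => Subgroup.upperCentralSeries G n) n) hn

/-- The upper central series of the ambient group restricts into that of a subgroup. -/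
theorem mem_upperCentralSeries_subgroup (H : Subgroup G) :
    ∀ (n : ℕ) (h : H), (h : G) ∈ Subgroup.upperCentralSeries G n →
      h ∈ Subgroup.upperCentralSeries H n := by
  intro n
  induction n with
  | zero =>
    intro h hh
    rw [Subgroup.upperCentralSeries_zero, Subgroup.mem_bot] at hh ⊢
    exact Subtype.ext hh
  | succ n ih =>
    intro h hh
    rw [Subgroup.mem_upperCentralSeries_succ_iff] at hh ⊢
    intro y
    apply ih
    have : ((⁅h, y⁆ : H) : G) = ⁅(h : G), (y : G)⁆ := by
      simp [commutatorElement_def]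
    rw [this]
    exact hh y

/-- Hypercentral elements generate nilpotent subgroups with every element. -/
theorem isNilpotent_closure_pair_of_mem_upperCentralSeries (g x : G) (n : ℕ)
    (hg : g ∈ Subgroup.upperCentralSeries G n) :
    Group.IsNilpotent ↥(Subgroup.closure ({x, g} : Set G)) := by
  set H := Subgroup.closure ({x, g} : Set G) with hH
  have hxH : x ∈ H := Subgroup.subset_closure (by simp)
  have hgH : g ∈ H := Subgroup.subset_closure (by simp)
  set Z := Subgroup.upperCentralSeries H n with hZ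
  have hgZ : (⟨g, hgH⟩ : H) ∈ Z := mem_upperCentralSeries_subgroup H n ⟨g, hgH⟩ hg
  have key : ∀ (a : G) (ha : a ∈ H), (QuotientGroup.mk (⟨a, ha⟩ : H) : H ⧸ Z) ∈
      Subgroup.zpowers (QuotientGroup.mk (⟨x, hxH⟩ : H) : H ⧸ Z) := by
    intro a ha
    induction ha using Subgroup.closure_induction with
    | mem a ha =>
      rcases ha with rfl | ha
      · exact Subgroup.mem_zpowers _
      · rw [Set.mem_singleton_iff] at ha
        subst ha
        have : (QuotientGroup.mk (⟨a, hgH⟩ : H) : H ⧸ Z) = 1 :=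
          (QuotientGroup.eq_one_iff _).mpr hgZ
        rw [this]
        exact Subgroup.one_mem _
    | one => exact Subgroup.one_mem _
    | mul a b ha hb iha ihb =>
      have : (QuotientGroup.mk (⟨a * b, H.mul_mem ha hb⟩ : H) : H ⧸ Z) =
          QuotientGroup.mk (⟨a, ha⟩ : H) * QuotientGroup.mk (⟨b, hb⟩ : H) := rfl
      rw [this]
      exact Subgroup.mul_mem _ iha ihb
    | inv a ha iha =>
      have : (QuotientGroup.mk (⟨a⁻¹, H.inv_mem ha⟩ : H) : H ⧸ Z) =
          (QuotientGroup.mk (⟨a, ha⟩ : H))⁻¹ := rfl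
      rw [this]
      exact Subgroup.inv_mem _ iha
  have htop : Subgroup.upperCentralSeries H (n + 1) = ⊤ := by
    rw [eq_top_iff]
    intro a _
    rw [Subgroup.mem_upperCentralSeries_succ_iff]
    intro b
    rw [← hZ, ← QuotientGroup.eq_one_iff]
    obtain ⟨i, hi⟩ := Subgroup.mem_zpowers_iff.mp (key a.1 a.2)
    obtain ⟨j, hj⟩ := Subgroup.mem_zpowers_iff.mp (key b.1 b.2)
    have ha' : (QuotientGroup.mk a : H ⧸ Z) = QuotientGroup.mk (⟨x, hxH⟩ : H) ^ i := hi.symm
    have hb' : (QuotientGroup.mk b : H ⧸ Z) = QuotientGroup.mk (⟨x, hxH⟩ : H) ^ j := hj.symm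
    have : (QuotientGroup.mk ⁅a, b⁆ : H ⧸ Z) = ⁅(QuotientGroup.mk a : H ⧸ Z), QuotientGroup.mk b⁆ := by
      simp [commutatorElement_def]
    rw [this, ha', hb', commutatorElement_eq_one_iff_commute]
    exact (Commute.refl _).zpow_zpow i j
  exact ⟨⟨n + 1, htop⟩⟩

/-- `S3939`. -/
theorem nilpotent_pairs_iff_mem_hypercenter [Finite G] (g : G) :
    (∀ x : G, Group.IsNilpotent ↥(Subgroup.closure ({x, g} : Set G))) ↔
      g ∈ ⨆ n : ℕ, Subgroup.upperCentralSeries G n := by
  constructor
  · exact mem_iSup_upperCentralSeries_of_nilpotent_pairs g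
  · intro hg x
    have hdir : Directed (· ≤ ·) (fun n : ℕ => Subgroup.upperCentralSeries G n) :=
      (Subgroup.upperCentralSeries_mono G).directed_le
    obtain ⟨n, hn⟩ := (Subgroup.mem_iSup_of_directed hdir).mp hg
    exact isNilpotent_closure_pair_of_mem_upperCentralSeries g x n hn

end Cfsg.Agent.Lead
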