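import Mathlib
import Cfsg.Agent.Lead.OmegaTwo
import Cfsg.Agent.Helper1.FrobPCompl2
import Cfsg.Prelude.Def_Transfer

set_option autoImplicit false

namespace Cfsg.Agent.Lead

universe u

open scoped commutatorElement

variable {G : Type u} [Group G]

/-- If `g r g⁻¹ = r z` with `z` commuting with `g`, then `g^k r g^{-k} = r z^k`. -/
theorem conj_pow_eq_mul_pow {g r z : G} (h : g * r * g⁻¹ = r * z) (hz : g * z = z * g) (k : ℕ) :
    g ^ k * r * (g ^ k)⁻¹ = r * z ^ k := by
  induction k with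
  | zero => simp
  | succ k ih =>
    have hzk : g * z ^ k * g⁻¹ = z ^ k := by
      have : Commute g (z ^ k) := (show Commute g z from hz).pow_right k
      rw [this.eq, mul_assoc, mul_inv_cancel, mul_one]
    calc g ^ (k + 1) * r * (g ^ (k + 1))⁻¹ = g * (g ^ k * r * (g ^ k)⁻¹) * g⁻¹ := by
          rw [pow_succ']; group
      _ = g * (r * z ^ k) * g⁻¹ := by rw [ih]
      _ = (g * r * g⁻¹) * (g * z ^ k * g⁻¹) := by group
      _ = r * z * z ^ k := by rw [h, hzk]
      _ = r * z ^ (k + 1) := by rw [pow_succ', mul_assoc]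

variable [Finite G] {p : ℕ} [Fact p.Prime]

/-- A `p'`-element normalizing a `p`-group `Q` centralizes `Q ∩ Z_n(G)`. -/
theorem commute_of_mem_upperCentralSeries {Q : Subgroup G} (hQ : IsPGroup p Q) {g : G}
    (hg : g ∈ Subgroup.normalizer (Q : Set G)) (hcop : (orderOf g).Coprime p) :
    ∀ (n : ℕ) (r : G), r ∈ Q → r ∈ Subgroup.upperCentralSeries G n → g * r = r * g := by
  intro n
  induction n with
  | zero =>
    intro r _ hr
    rw [Subgroup.upperCentralSeries_zero, Subgroup.mem_bot] at hr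
    rw [hr, mul_one, one_mul]
  | succ n ih =>
    intro r hrQ hr
    rw [Subgroup.mem_upperCentralSeries_succ_iff] at hr
    -- `z = r⁻¹ g r g⁻¹`
    have hgr : g * r * g⁻¹ ∈ Q := (Subgroup.mem_normalizer_iff.mp hg r).mp hrQ
    have hzQ : r⁻¹ * (g * r * g⁻¹) ∈ Q := Q.mul_mem (Q.inv_mem hrQ) hgr
    have hzZ : r⁻¹ * (g * r * g⁻¹) ∈ Subgroup.upperCentralSeries G n := by
      have h1 := hr g
      have h3 := Subgroup.inv_mem _ h1
      have h4 : r⁻¹ * (⁅r, g⁆)⁻¹ * r⁻¹⁻¹ ∈ Subgroup.upperCentralSeries G n :=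
        (inferInstance : (Subgroup.upperCentralSeries G n).Normal).conj_mem _ h3 r⁻¹
      have e2 : r⁻¹ * (⁅r, g⁆)⁻¹ * r⁻¹⁻¹ = r⁻¹ * (g * r * g⁻¹) := by
        rw [commutatorElement_def]; group
      rwa [e2] at h4
    have hzg := ih _ hzQ hzZ
    have hconj : g * r * g⁻¹ = r * (r⁻¹ * (g * r * g⁻¹)) := by group
    have hk := conj_pow_eq_mul_pow hconj hzg (orderOf g)
    rw [pow_orderOf_eq_one, one_mul, inv_one, mul_one] at hk
    have hz1 : (r⁻¹ * (g * r * g⁻¹)) ^ orderOf g = 1 := by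
      have := congrArg (fun t => r⁻¹ * t) hk
      simpa using this.symm
    obtain ⟨m, hm⟩ := (IsPGroup.iff_orderOf.mp hQ) ⟨_, hzQ⟩
    have hord : orderOf (r⁻¹ * (g * r * g⁻¹)) = p ^ m := by
      rw [← hm]; simp
    have hdvd : orderOf (r⁻¹ * (g * r * g⁻¹)) ∣ orderOf g := orderOf_dvd_of_pow_eq_one hz1
    have hcop' : (orderOf (r⁻¹ * (g * r * g⁻¹))).Coprime (orderOf g) := by
      rw [hord]
      exact (Nat.Coprime.pow_right m hcop).symm
    have h1 : orderOf (r⁻¹ * (g * r * g⁻¹)) = 1 := Nat.Coprime.eq_one_of_dvd hcop' hdvd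
    rw [orderOf_eq_one_iff] at h1
    have : g * r * g⁻¹ = r := by
      have := congrArg (fun t => r * t) h1
      simpa using this
    have := congrArg (fun t => t * g) this
    simpa using this

/-- `S1947`. -/
theorem hasNormalPComplement_of_omega_hypercentral (n : ℕ)
    (h : ∀ a : G, (a ^ p = 1 ∨ (p = 2 ∧ a ^ 4 = 1)) → a ∈ Subgroup.upperCentralSeries G n) :
    Cfsg.HasNormalPComplement p G := by
  obtain ⟨P⟩ : Nonempty (Sylow p G) := inferInstance
  have hN : ∃ N : Subgroup G, N.Normal ∧ N.IsComplement' (P : Subgroup G) := by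
    rw [Cfsg.Agent.Helper1.frobenius_normal_pcomplement_iff P]
    intro Q hQP g hg hcop
    have hQ : IsPGroup p Q := P.2.to_le hQP
    have hcomm := commute_of_mem_upperCentralSeries hQ hg hcop n
    rw [Subgroup.mem_centralizer_iff]
    intro r hr
    by_cases hp2 : p = 2
    · subst hp2
      have := centralizes_of_centralizes_order_four g hcop Q hQ hg
        (fun r hr h4 => hcomm r hr (h r (Or.inr ⟨rfl, h4⟩))) r hr
      exact this.symm
    · have := Cfsg.Agent.Helper1.centralizes_of_centralizes_order_p hp2 g hcop Q hQ hg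
        (fun r hr hord => hcomm r hr (h r (Or.inl (by rw [← hord]; exact pow_orderOf_eq_one r)))) r hr
      exact this.symm
  obtain ⟨N, hNn, hNc⟩ := hN
  exact ⟨P, N, hNn, hNc⟩

end Cfsg.Agent.Lead
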