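import Mathlib
import Cfsg.Agent.Helper2.Balance5

set_option autoImplicit false

namespace Cfsg.Agent.Lead

open scoped IsMulCommutative

universe u

/-- Cocycle averaging: an automorphism `α` of a finite group which moves every element only by an
element of an abelian normal subgroup `Z`, and fixes pointwise a subgroup `T` of index coprime to
`|Z|`, is conjugation by an element of `Z`. -/
theorem inner_of_cocycle {G : Type u} [Group G] [Finite G] (α : MulAut G) (Z T : Subgroup G)
    [hZn : Z.Normal] [IsMulCommutative Z] (hcop : (Nat.card Z).Coprime T.index)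
    (hT : ∀ t ∈ T, α t = t) (hc : ∀ g : G, α g * g⁻¹ ∈ Z) :
    ∃ e ∈ Z, ∀ g, α g = e * g * e⁻¹ := by
  classical
  haveI : Fintype (G ⧸ T) := Fintype.ofFinite _
  obtain ⟨c, hcdef⟩ : ∃ c : G → Z, ∀ g, (c g : G) = α g * g⁻¹ :=
    ⟨fun g => ⟨α g * g⁻¹, hc g⟩, fun g => rfl⟩
  have hc_mul : ∀ h g, c (h * g) = c h * MulAut.conjNormal h (c g) := by
    intro h g
    apply Subtype.ext
    rw [Subgroup.coe_mul, MulAut.conjNormal_apply, hcdef, hcdef, hcdef, map_mul]
    group
  have hc_T : ∀ g t, t ∈ T → c (g * t) = c g := by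
    intro g t ht
    apply Subtype.ext
    rw [hcdef, hcdef, map_mul, hT t ht]
    group
  obtain ⟨d, hd⟩ : ∃ d : Z, d = ∏ q : G ⧸ T, c q.out := ⟨_, rfl⟩
  have key : ∀ h : G, c h ^ T.index * MulAut.conjNormal h d = d := by
    intro h
    have h1 : ∀ q : G ⧸ T, c ((h • q).out) = c h * MulAut.conjNormal h (c q.out) := by
      intro q
      rw [← hc_mul]
      have h2 : (h * q.out)⁻¹ * (h • q).out ∈ T := by
        rw [← QuotientGroup.eq]
        rw [QuotientGroup.out_eq']
        conv_rhs => rw [← QuotientGroup.out_eq' q]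
        rfl
      have h3 : (h • q).out = h * q.out * ((h * q.out)⁻¹ * (h • q).out) := by group
      rw [h3, hc_T _ _ h2]
    have h4 : c h ^ T.index * MulAut.conjNormal h d
        = ∏ q : G ⧸ T, (c h * MulAut.conjNormal h (c q.out)) := by
      rw [Finset.prod_mul_distrib, Finset.prod_const, Finset.card_univ, hd, map_prod]
      congr 2
      rw [Subgroup.index, Nat.card_eq_fintype_card]
    rw [h4, Finset.prod_congr rfl (fun q _ => (h1 q).symm)]
    conv_rhs => rw [hd]
    exact Fintype.prod_equiv (MulAction.toPerm h) _ _ (fun q => rfl)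
  obtain ⟨E, hE⟩ : ∃ E : Z, E ^ T.index = d := ⟨(powCoprime hcop).symm d, (powCoprime hcop).apply_symm_apply d⟩
  have hmain : ∀ h : G, c h * MulAut.conjNormal h E * E⁻¹ = 1 := by
    intro h
    apply (powCoprime hcop).injective
    show (c h * MulAut.conjNormal h E * E⁻¹) ^ T.index = 1 ^ T.index
    rw [one_pow, mul_pow, mul_pow, inv_pow, ← map_pow, hE, key h, mul_inv_cancel]
  refine ⟨E, E.2, fun g => ?_⟩
  have h1 := congrArg Subtype.val (hmain g)
  rw [Subgroup.coe_mul, Subgroup.coe_mul, MulAut.conjNormal_apply, hcdef, Subgroup.coe_inv,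
    Subgroup.coe_one] at h1
  -- α g * g⁻¹ * (g * E * g⁻¹) * E⁻¹ = 1
  have h2 : α g = (α g * g⁻¹ * (g * (E : G) * g⁻¹) * (E : G)⁻¹) * ((E : G) * g * (E : G)⁻¹) := by
    group
  rw [h1, one_mul] at h2
  exact h2

/-- With `O_{p'}(G) = 1`, an automorphism fixing a Sylow `p`-subgroup and the layer elementwise is
inner. -/
theorem inner_of_fix_sylow_layer {G : Type u} [Group G] [Finite G] {p : ℕ} [Fact p.Prime]
    (hcore : Cfsg.pPrimeCore p G = ⊥) (T : Sylow p G) (α : MulAut G)
    (hfixT : ∀ x ∈ (T : Subgroup G), α x = x) (hfixE : ∀ x ∈ Cfsg.layer G, α x = x) :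
    ∃ g : G, ∀ x : G, α x = g * x * g⁻¹ := by
  have hFT : Cfsg.fittingSubgroup G ≤ (T : Subgroup G) :=
    (Cfsg.Agent.Helper2.fittingSubgroup_le_pCore_of_pPrimeCore_eq_bot p hcore).trans
      (Cfsg.Agent.Helper1.pCore_le_sylow T)
  -- fixed points
  have hfix : ∀ x ∈ Cfsg.generalizedFittingSubgroup G, α x = x := by
    have hle : Cfsg.generalizedFittingSubgroup G ≤ (α.toMonoidHom.eqLocus (MonoidHom.id G)) := by
      apply sup_le
      · intro x hx; exact hfixE x hx
      · intro x hx; exact hfixT x (hFT hx)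
    intro x hx
    exact hle hx
  haveI hFn : (Cfsg.generalizedFittingSubgroup G).Normal := inferInstance
  obtain ⟨Z, hZ⟩ : ∃ Z : Subgroup G, Z = Cfsg.generalizedFittingSubgroup G ⊓
      Subgroup.centralizer (Cfsg.generalizedFittingSubgroup G : Set G) := ⟨_, rfl⟩
  haveI hZn : Z.Normal := by
    rw [hZ]
    haveI : (Subgroup.centralizer (Cfsg.generalizedFittingSubgroup G : Set G)).Normal :=
      Subgroup.normal_centralizer
    infer_instance
  haveI hZc : IsMulCommutative Z := ⟨⟨fun a b => by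
    apply Subtype.ext
    have ha : (a : G) ∈ Cfsg.generalizedFittingSubgroup G ⊓
      Subgroup.centralizer (Cfsg.generalizedFittingSubgroup G : Set G) := hZ ▸ a.2
    have hb : (b : G) ∈ Cfsg.generalizedFittingSubgroup G ⊓
      Subgroup.centralizer (Cfsg.generalizedFittingSubgroup G : Set G) := hZ ▸ b.2
    exact (Subgroup.mem_centralizer_iff.1 hb.2 a ha.1)⟩⟩
  have hZF : Z ≤ Cfsg.fittingSubgroup G := by
    apply Cfsg.Agent.Helper1.le_fittingSubgroup hZn
    infer_instance
  have hZp : IsPGroup p Z := T.isPGroup'.to_le (hZF.trans hFT)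
  have hcop : (Nat.card Z).Coprime (T : Subgroup G).index := by
    obtain ⟨n, hn⟩ := IsPGroup.iff_card.1 hZp
    rw [hn]
    apply Nat.Coprime.pow_left
    rw [Nat.Prime.coprime_iff_not_dvd Fact.out]
    exact T.not_dvd_index
  have hc : ∀ g : G, α g * g⁻¹ ∈ Z := by
    intro g
    have hcent : α g * g⁻¹ ∈ Subgroup.centralizer (Cfsg.generalizedFittingSubgroup G : Set G) := by
      rw [Subgroup.mem_centralizer_iff]
      intro x hx
      have hx' : g⁻¹ * x * g ∈ Cfsg.generalizedFittingSubgroup G := by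
        have := hFn.conj_mem x hx g⁻¹
        rwa [inv_inv] at this
      have h1 := hfix _ hx'
      rw [map_mul, map_mul, hfix x hx, map_inv] at h1
      -- (α g)⁻¹ * x * α g = g⁻¹ * x * g
      have h2 : x * (α g * g⁻¹) = α g * ((α g)⁻¹ * x * α g) * g⁻¹ := by group
      rw [h2, h1]
      group
    rw [hZ]
    exact ⟨Cfsg.Agent.Helper2.centralizer_generalizedFittingSubgroup_le hcent, hcent⟩
  obtain ⟨e, -, he⟩ := inner_of_cocycle α Z (T : Subgroup G) hcop hfixT hc
  exact ⟨e, he⟩

end Cfsg.Agent.Lead
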