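import Mathlib

set_option autoImplicit false

namespace Cfsg.Agent.Lead.InvSubDim

open Module

set_option linter.unusedSectionVars false

variable {F V : Type*} [Field F] [AddCommGroup V] [Module F V] [FiniteDimensional F V]

/-- Subspaces of every smaller dimension exist. -/
theorem exists_le_finrank_eq (E : Submodule F V) (d : ℕ) (hd : d ≤ finrank F E) :
    ∃ W : Submodule F V, W ≤ E ∧ finrank F W = d := by
  let b := Module.finBasis F E
  let v : Fin d → V := fun i => (b (Fin.castLE hd i) : V)
  have hli : LinearIndependent F v := by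
    have h1 : LinearIndependent F (fun i : Fin d => b (Fin.castLE hd i)) :=
      b.linearIndependent.comp _ (Fin.castLE_injective hd)
    exact h1.map' E.subtype (Submodule.ker_subtype E)
  refine ⟨Submodule.span F (Set.range v), ?_, ?_⟩
  · rw [Submodule.span_le]
    rintro _ ⟨i, rfl⟩
    exact (b (Fin.castLE hd i)).2
  · rw [finrank_span_eq_card hli, Fintype.card_fin]

variable (f : V →ₗ[F] V)

/-- `W` is `f`-invariant. -/
def Inv (W : Submodule F V) : Prop := W ≤ W.comap f

theorem inv_iff (W : Submodule F V) : Inv f W ↔ W.map f ≤ W := by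
  unfold Inv
  rw [Submodule.map_le_iff_le_comap]

theorem Inv.sup {A B : Submodule F V} (hA : Inv f A) (hB : Inv f B) : Inv f (A ⊔ B) :=
  sup_le (hA.trans (Submodule.comap_mono le_sup_left)) (hB.trans (Submodule.comap_mono le_sup_right))

theorem Inv.inf {A B : Submodule F V} (hA : Inv f A) (hB : Inv f B) : Inv f (A ⊓ B) := by
  unfold Inv
  rw [Submodule.comap_inf]
  exact inf_le_inf hA hB

theorem inv_bot : Inv f (⊥ : Submodule F V) := bot_le

theorem inv_of_le_eigenspace {W : Submodule F V} (hW : W ≤ Module.End.eigenspace f 1) :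
    Inv f W := by
  intro w hw
  rw [Submodule.mem_comap]
  have := Module.End.mem_eigenspace_iff.mp (hW hw)
  rw [this, one_smul]
  exact hw

section family

variable {ι : Type*} [DecidableEq ι] (U : ι → Submodule F V) (a : ℕ)
  (hind : iSupIndep U) (hinv : ∀ j, Inv f (U j)) (hdim : ∀ j, finrank F (U j) = a)
  (hirr : ∀ j, ∀ W : Submodule F V, W ≤ U j → Inv f W → W = ⊥ ∨ W = U j)

include hinv in
theorem inv_finset_sup (t : Finset ι) : Inv f (t.sup U) := by
  induction t using Finset.induction_on with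
  | empty => rw [Finset.sup_empty]; exact inv_bot f
  | insert j t hj ih => rw [Finset.sup_insert]; exact (hinv j).sup f ih

include hind hdim in
theorem finrank_finset_sup (t : Finset ι) : finrank F (t.sup U : Submodule F V) = t.card * a := by
  induction t using Finset.induction_on with
  | empty => rw [Finset.sup_empty, Finset.card_empty, zero_mul]; exact finrank_bot F V
  | insert j t hj ih =>
    rw [Finset.sup_insert, Finset.card_insert_of_notMem hj]
    have hdisj : Disjoint (U j) (t.sup U) :=
      (hind.supIndep' (insert j t)) (Finset.subset_insert j t) (Finset.mem_insert_self j t) hj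
    have h1 := Submodule.finrank_sup_add_finrank_inf_eq (U j) (t.sup U)
    rw [hdisj.eq_bot, finrank_bot, add_zero, hdim j, ih] at h1
    rw [h1]; ring

include hind hinv hdim hirr in
theorem dvd_finrank_of_le_sup (t : Finset ι) :
    ∀ W : Submodule F V, W ≤ t.sup U → Inv f W → a ∣ finrank F W := by
  induction t using Finset.induction_on with
  | empty =>
    intro W hW _
    rw [Finset.sup_empty, le_bot_iff] at hW
    rw [hW, finrank_bot]
    exact dvd_zero a
  | insert j t hj ih =>
    intro W hW hWinv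
    rw [Finset.sup_insert] at hW
    set N := t.sup U with hN
    have hNinv : Inv f N := inv_finset_sup f U hinv t
    have hdisj : Disjoint (U j) N :=
      (hind.supIndep' (insert j t)) (Finset.subset_insert j t) (Finset.mem_insert_self j t) hj
    have h1 : a ∣ finrank F (W ⊓ N : Submodule F V) := ih _ inf_le_right (hWinv.inf f hNinv)
    have h2inv : Inv f ((W ⊔ N) ⊓ U j) := (hWinv.sup f hNinv).inf f (hinv j)
    have h2 : finrank F ((W ⊔ N) ⊓ U j : Submodule F V) = 0 ∨
        finrank F ((W ⊔ N) ⊓ U j : Submodule F V) = a := by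
      rcases hirr j _ inf_le_right h2inv with h | h
      · left; rw [h, finrank_bot]
      · right; rw [h, hdim j]
    have hmod : W ⊔ N = N ⊔ (W ⊔ N) ⊓ U j := by
      have h3 : (N ⊔ U j) ⊓ (W ⊔ N) = N ⊔ U j ⊓ (W ⊔ N) :=
        sup_inf_assoc_of_le (U j) (le_sup_right : N ≤ W ⊔ N)
      have h4 : (N ⊔ U j) ⊓ (W ⊔ N) = W ⊔ N := by
        apply inf_eq_right.mpr
        rw [sup_comm N (U j)]
        exact sup_le hW le_sup_right
      calc W ⊔ N = (N ⊔ U j) ⊓ (W ⊔ N) := h4.symm
        _ = N ⊔ U j ⊓ (W ⊔ N) := h3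
        _ = N ⊔ (W ⊔ N) ⊓ U j := by rw [inf_comm (U j)]
    have hdisj2 : N ⊓ ((W ⊔ N) ⊓ U j) = ⊥ := by
      rw [eq_bot_iff]
      calc N ⊓ ((W ⊔ N) ⊓ U j) ≤ N ⊓ U j := inf_le_inf_left _ inf_le_right
        _ = U j ⊓ N := inf_comm _ _
        _ = ⊥ := hdisj.eq_bot
    have e1 := Submodule.finrank_sup_add_finrank_inf_eq W N
    have e2 := Submodule.finrank_sup_add_finrank_inf_eq N ((W ⊔ N) ⊓ U j)
    rw [hdisj2, finrank_bot, add_zero, ← hmod] at e2
    have e3 : finrank F W = finrank F (W ⊓ N : Submodule F V) +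
        finrank F ((W ⊔ N) ⊓ U j : Submodule F V) := by omega
    rw [e3]
    rcases h2 with h | h
    · rw [h, add_zero]; exact h1
    · rw [h]; exact Dvd.dvd.add h1 (dvd_refl a)

end family

theorem decomp (E Utot : Submodule F V) (hE : E = Module.End.eigenspace f 1)
    (hdisj : Disjoint E Utot) (hsup : E ⊔ Utot = ⊤) (hUinv : Inv f Utot) (W : Submodule F V)
    (hW : Inv f W) : W = (W ⊓ E) ⊔ (W ⊓ Utot) := by
  apply le_antisymm _ (sup_le inf_le_left inf_le_left)
  intro w hw
  have hwtop : w ∈ E ⊔ Utot := by rw [hsup]; exact Submodule.mem_top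
  obtain ⟨e, he, u, hu, rfl⟩ := Submodule.mem_sup.mp hwtop
  have hfe : f e = e := by
    rw [hE] at he
    have := Module.End.mem_eigenspace_iff.mp he
    rwa [one_smul] at this
  have hmemE : ∀ x : V, f x - x = 0 → x ∈ E := by
    intro x hx
    rw [hE, Module.End.mem_eigenspace_iff, one_smul]
    exact sub_eq_zero.mp hx
  set W₂ := W ⊓ Utot with hW₂
  obtain ⟨g, hgdef⟩ : ∃ g : V →ₗ[F] V, g = f - LinearMap.id := ⟨_, rfl⟩
  have hg : ∀ x : V, g x = f x - x := by
    intro x
    rw [hgdef, LinearMap.sub_apply, LinearMap.id_apply]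
  have hg₂ : ∀ x ∈ W₂, g x ∈ W₂ := by
    intro x hx
    rw [hg]
    exact W₂.sub_mem ⟨hW hx.1, hUinv hx.2⟩ hx
  obtain ⟨g₂, hg₂def⟩ : ∃ g₂ : W₂ →ₗ[F] W₂, g₂ = g.restrict hg₂ := ⟨_, rfl⟩
  have hg₂v : ∀ x : W₂, ((g₂ x : W₂) : V) = g (x : V) := by
    intro x
    rw [hg₂def]
    rfl
  have hinj : Function.Injective g₂ := by
    rw [← LinearMap.ker_eq_bot, LinearMap.ker_eq_bot']
    intro x hx
    have h1 : g (x : V) = 0 := by
      rw [← hg₂v, hx]
      rfl
    rw [hg] at h1
    have h2 : (x : V) ∈ E ⊓ Utot := ⟨hmemE _ h1, x.2.2⟩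
    rw [hdisj.eq_bot, Submodule.mem_bot] at h2
    exact Subtype.ext h2
  have hsurj : Function.Surjective g₂ := LinearMap.surjective_of_injective hinj
  have hgu : g u ∈ W₂ := by
    rw [hg]
    refine ⟨?_, Utot.sub_mem (hUinv hu) hu⟩
    have h1 : f (e + u) - (e + u) ∈ W := W.sub_mem (hW hw) hw
    have h2 : f (e + u) - (e + u) = f u - u := by rw [map_add, hfe]; abel
    rwa [h2] at h1
  obtain ⟨u', hu'⟩ := hsurj ⟨_, hgu⟩
  have h3 : g (u' : V) = g u := by
    rw [← hg₂v, hu']
  have h4 : f (u - u') - (u - u') = 0 := by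
    rw [hg, hg] at h3
    have h6 : f (u - u') - (u - u') = (f u - u) - (f (u' : V) - (u' : V)) := by
      rw [map_sub]; abel
    rw [h6, h3, sub_self]
  have h5 : u - (u' : V) ∈ E ⊓ Utot := ⟨hmemE _ h4, Utot.sub_mem hu u'.2.2⟩
  rw [hdisj.eq_bot, Submodule.mem_bot, sub_eq_zero] at h5
  have huW : u ∈ W₂ := h5 ▸ u'.2
  have heW : e ∈ W := by
    have := W.sub_mem hw huW.1
    rwa [add_sub_cancel_right] at this
  exact Submodule.add_mem_sup ⟨heW, he⟩ huW

theorem main {s a : ℕ} (ha : 1 ≤ a) (U : Fin s → Submodule F V)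
    (hUinv : ∀ j, (U j).map f ≤ U j) (hUdim : ∀ j, Module.finrank F ↥(U j) = a)
    (hUirr : ∀ j, ∀ W : Submodule F V, W ≤ U j → W.map f ≤ W → W = ⊥ ∨ W = U j)
    (hdec : DirectSum.IsInternal
      (fun o : Option (Fin s) => o.elim (Module.End.eigenspace f 1) U))
    (m : ℕ) (hmV : m < Module.finrank F V) :
    (∃ W : Submodule F V, Module.finrank F ↥W = m ∧ W.map f ≤ W) ↔
    (m ≤ Module.finrank F ↥(Module.End.eigenspace f 1) ∨
      (a ≤ m ∧ m % a ≤ Module.finrank F ↥(Module.End.eigenspace f 1))) := by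
  classical
  set E := Module.End.eigenspace f 1 with hE
  have hindM := hdec.submodule_iSupIndep
  have htop := hdec.submodule_iSup_eq_top
  have hindU : iSupIndep U := hindM.comp (Option.some_injective _)
  set Utot := (Finset.univ : Finset (Fin s)).sup U with hUtot
  have hUtot_le : Utot ≤ ⨆ (o : Option (Fin s)) (_ : o ≠ none),
      (fun o : Option (Fin s) => o.elim E U) o :=
    Finset.sup_le fun j _ => le_iSup₂_of_le (some j) (Option.some_ne_none j) le_rfl
  have hdisj : Disjoint E Utot := (hindM none).mono_right hUtot_le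
  have hsup : E ⊔ Utot = ⊤ := by
    rw [iSup_option] at htop
    rw [hUtot, Finset.sup_univ_eq_iSup]
    exact htop
  have hinvU : ∀ j, Inv f (U j) := fun j => (inv_iff f _).mpr (hUinv j)
  have hirr : ∀ j, ∀ W : Submodule F V, W ≤ U j → Inv f W → W = ⊥ ∨ W = U j :=
    fun j W hW hi => hUirr j W hW ((inv_iff f W).mp hi)
  have hUtot_inv : Inv f Utot := inv_finset_sup f U hinvU _
  have hUtot_dim : finrank F Utot = s * a := by
    rw [hUtot, finrank_finset_sup U a hindU hUdim, Finset.card_univ, Fintype.card_fin]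
  have hV : finrank F V = finrank F E + s * a := by
    have h1 := Submodule.finrank_sup_add_finrank_inf_eq E Utot
    rw [hsup, hdisj.eq_bot, finrank_bot, add_zero, finrank_top, hUtot_dim] at h1
    exact h1
  constructor
  · rintro ⟨W, hWm, hWinv⟩
    have hWi : Inv f W := (inv_iff f W).mpr hWinv
    have hdec' := decomp f E Utot rfl hdisj hsup hUtot_inv W hWi
    have h1 := Submodule.finrank_sup_add_finrank_inf_eq (W ⊓ E) (W ⊓ Utot)
    have h2 : (W ⊓ E) ⊓ (W ⊓ Utot) = ⊥ := by
      rw [eq_bot_iff]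
      exact (inf_le_inf inf_le_right inf_le_right).trans hdisj.eq_bot.le
    rw [h2, finrank_bot, add_zero, ← hdec', hWm] at h1
    have h3 : finrank F (W ⊓ E : Submodule F V) ≤ finrank F E := Submodule.finrank_mono inf_le_right
    have h4 : a ∣ finrank F (W ⊓ Utot : Submodule F V) :=
      dvd_finrank_of_le_sup f U a hindU hinvU hUdim hirr Finset.univ _ inf_le_right
        (hWi.inf f hUtot_inv)
    obtain ⟨k, hk⟩ := h4
    rcases Nat.eq_zero_or_pos k with hk0 | hk0
    · left
      rw [hk, hk0, mul_zero, add_zero] at h1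
      rw [h1]; exact h3
    · right
      have h5 : a ≤ a * k := Nat.le_mul_of_pos_right a hk0
      refine ⟨by omega, ?_⟩
      rw [h1, hk, Nat.add_mul_mod_self_left]
      exact (Nat.mod_le _ _).trans h3
  · rintro (hle | ⟨ham, hmod⟩)
    · obtain ⟨W, hWE, hWd⟩ := exists_le_finrank_eq E m hle
      exact ⟨W, hWd, (inv_iff f W).mp (inv_of_le_eigenspace f hWE)⟩
    · set q := m / a with hq
      set k := min q s with hk
      have hdm : a * q + m % a = m := Nat.div_add_mod m a
      have hkq : k ≤ q := min_le_left _ _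
      have hks : k ≤ s := min_le_right _ _
      have hka : k * a ≤ m := (Nat.mul_le_mul_right a hkq).trans (Nat.div_mul_le_self m a)
      have hd₁ : m - k * a ≤ finrank F E := by
        rcases le_total q s with h | h
        · have : k = q := min_eq_left h
          rw [this]
          have : m - q * a = m % a := by
            have : q * a = a * q := mul_comm _ _
            omega
          rw [this]; exact hmod
        · have : k = s := min_eq_right h
          rw [this]
          omega
      obtain ⟨W₁, hW₁E, hW₁d⟩ := exists_le_finrank_eq E (m - k * a) hd₁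
      obtain ⟨t, -, htc⟩ := Finset.exists_subset_card_eq
        (s := (Finset.univ : Finset (Fin s))) (n := k) (by rw [Finset.card_univ, Fintype.card_fin]; exact hks)
      refine ⟨W₁ ⊔ t.sup U, ?_, ?_⟩
      · have h1 := Submodule.finrank_sup_add_finrank_inf_eq W₁ (t.sup U)
        have h2 : W₁ ⊓ t.sup U = ⊥ := by
          rw [eq_bot_iff]
          exact (inf_le_inf hW₁E (Finset.sup_mono (Finset.subset_univ t))).trans hdisj.eq_bot.le
        rw [h2, finrank_bot, add_zero, hW₁d, finrank_finset_sup U a hindU hUdim, htc] at h1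
        omega
      · exact (inv_iff f _).mp ((inv_of_le_eigenspace f hW₁E).sup f (inv_finset_sup f U hinvU t))

end Cfsg.Agent.Lead.InvSubDim
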