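import Mathlib

set_option autoImplicit false

namespace Cfsg.Agent.Lead

open scoped commutatorElement

/-- `S1176`. -/
theorem orderOf_mul_eq_four_of_class_two {G : Type*} [Group G] [Finite G] (x₀ : G)
    (hx₀ : orderOf x₀ = 2)
    (ha : ∀ x : G, IsConj x₀ x →
      IsPGroup 2 ↥(Subgroup.closure {y : G | IsConj x₀ y ∧ Commute y x}) ∧
      ⁅⁅Subgroup.closure {y : G | IsConj x₀ y ∧ Commute y x},
        Subgroup.closure {y : G | IsConj x₀ y ∧ Commute y x}⁆,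
        Subgroup.closure {y : G | IsConj x₀ y ∧ Commute y x}⁆ = ⊥)
    (hb : ∀ x y : G, IsConj x₀ x → IsConj x₀ y → x ≠ y → Commute x y → IsConj x₀ (x * y))
    (x y : G) (hx : IsConj x₀ x) (hy : IsConj x₀ y) (heven : Even (orderOf (x * y)))
    (hgt : 2 < orderOf (x * y)) : orderOf (x * y) = 4 := by
  have hx₀2 : x₀ ^ 2 = 1 := by rw [← hx₀]; exact pow_orderOf_eq_one x₀
  have hsq : ∀ t : G, IsConj x₀ t → t * t = 1 := by
    intro t ht
    obtain ⟨c, hc⟩ := isConj_iff.mp ht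
    rw [← hc]
    have : c * x₀ * c⁻¹ * (c * x₀ * c⁻¹) = c * (x₀ ^ 2) * c⁻¹ := by rw [pow_two]; group
    rw [this, hx₀2]; group
  have hxx : x * x = 1 := hsq x hx
  have hyy : y * y = 1 := hsq y hy
  have hxinv : x⁻¹ = x := inv_eq_of_mul_eq_one_left hxx
  have hyinv : y⁻¹ = y := inv_eq_of_mul_eq_one_left hyy
  obtain ⟨w, hw⟩ : ∃ w, w = x * y := ⟨_, rfl⟩
  rw [← hw] at heven hgt ⊢
  -- `x w = w⁻¹ x`
  have hxw : x * w = w⁻¹ * x := by
    rw [hw, mul_inv_rev, hxinv, hyinv, ← mul_assoc, hxx, one_mul, mul_assoc, hxx, mul_one]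
  have hxwi : ∀ i : ℕ, x * w ^ i = (w ^ i)⁻¹ * x := by
    intro i
    induction i with
    | zero => simp
    | succ i ih =>
      calc x * w ^ (i + 1) = (x * w ^ i) * w := by rw [pow_succ, mul_assoc]
        _ = (w ^ i)⁻¹ * (x * w) := by rw [ih, mul_assoc]
        _ = (w ^ i)⁻¹ * (w⁻¹ * x) := by rw [hxw]
        _ = (w ^ (i + 1))⁻¹ * x := by rw [pow_succ', mul_inv_rev, mul_assoc]
  obtain ⟨k, hk⟩ := heven
  have hk2 : 2 ≤ k := by omega
  obtain ⟨z, hz⟩ : ∃ z, z = w ^ k := ⟨_, rfl⟩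
  have hzz : z * z = 1 := by
    rw [hz, ← pow_add, ← hk]; exact pow_orderOf_eq_one w
  have hz1 : z ≠ 1 := by
    intro h
    rw [hz] at h
    have := orderOf_dvd_of_pow_eq_one h
    have hle := Nat.le_of_dvd (by omega) this
    omega
  have hzinv : z⁻¹ = z := inv_eq_of_mul_eq_one_left hzz
  have hxz : x * z = z * x := by
    rw [hz, hxwi k, ← hz, hzinv]
  -- `x z` is in `D`
  have hD : ∀ j : ℕ, IsConj x₀ (x * w ^ j) := by
    intro j
    rcases Nat.even_or_odd' j with ⟨i, rfl | rfl⟩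
    · have e : x * w ^ (2 * i) = (w ^ i)⁻¹ * x * ((w ^ i)⁻¹)⁻¹ := by
        calc x * w ^ (2 * i) = (x * w ^ i) * w ^ i := by rw [two_mul, pow_add, mul_assoc]
          _ = (w ^ i)⁻¹ * x * w ^ i := by rw [hxwi i]
          _ = (w ^ i)⁻¹ * x * ((w ^ i)⁻¹)⁻¹ := by rw [inv_inv]
      rw [e]
      exact hx.trans (isConj_iff.mpr ⟨(w ^ i)⁻¹, rfl⟩)
    · have e : x * w ^ (2 * i + 1) = (w ^ i)⁻¹ * y * ((w ^ i)⁻¹)⁻¹ := by
        have hsplit : w ^ (2 * i + 1) = w ^ i * w * w ^ i := by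
          rw [← pow_succ, ← pow_add]; congr 1; omega
        have hxw' : x * w = y := by rw [hw, ← mul_assoc, hxx, one_mul]
        calc x * w ^ (2 * i + 1) = x * (w ^ i * w * w ^ i) := by rw [hsplit]
          _ = (x * w ^ i) * w * w ^ i := by simp only [mul_assoc]
          _ = (w ^ i)⁻¹ * x * w * w ^ i := by rw [hxwi i]
          _ = (w ^ i)⁻¹ * (x * w) * w ^ i := by simp only [mul_assoc]
          _ = (w ^ i)⁻¹ * y * ((w ^ i)⁻¹)⁻¹ := by rw [hxw', inv_inv]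
      rw [e]
      exact hy.trans (isConj_iff.mpr ⟨(w ^ i)⁻¹, rfl⟩)
  have hxzD : IsConj x₀ (x * z) := by rw [hz]; exact hD k
  have hne : x ≠ x * z := by
    intro h
    apply hz1
    have := mul_left_cancel (a := x) (b := 1) (c := z) (by rw [mul_one]; exact h)
    exact this.symm
  have hcomm : Commute x (x * z) := by
    show x * (x * z) = x * z * x
    rw [mul_assoc, ← hxz]
  have hzD : IsConj x₀ z := by
    have := hb x (x * z) hx hxzD hne hcomm
    rwa [← mul_assoc, hxx, one_mul] at this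
  -- `y` commutes with `z`
  have hyz : y * z = z * y := by
    have hy' : y = x * w := by rw [hw, ← mul_assoc, hxx, one_mul]
    have hwz : w * z = z * w := by
      rw [hz]; exact ((Commute.refl w).pow_right k).eq
    rw [hy', mul_assoc, hwz, ← mul_assoc, hxz, mul_assoc]
  obtain ⟨-, hcl⟩ := ha z hzD
  have hxW : x ∈ Subgroup.closure {t : G | IsConj x₀ t ∧ Commute t z} :=
    Subgroup.subset_closure ⟨hx, hxz⟩
  have hyW : y ∈ Subgroup.closure {t : G | IsConj x₀ t ∧ Commute t z} :=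
    Subgroup.subset_closure ⟨hy, hyz⟩
  have h1 : ⁅⁅x, y⁆, x⁆ = 1 := by
    have : ⁅⁅x, y⁆, x⁆ ∈ ⁅⁅Subgroup.closure {t : G | IsConj x₀ t ∧ Commute t z},
        Subgroup.closure {t : G | IsConj x₀ t ∧ Commute t z}⁆,
        Subgroup.closure {t : G | IsConj x₀ t ∧ Commute t z}⁆ :=
      Subgroup.commutator_mem_commutator (Subgroup.commutator_mem_commutator hxW hyW) hxW
    rw [hcl] at this
    exact Subgroup.mem_bot.mp this
  have h4 : w ^ 4 = 1 := by
    have c1 : ⁅x, y⁆ = w ^ 2 := by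
      rw [commutatorElement_def, hxinv, hyinv, pow_two, hw]; simp only [mul_assoc]
    have c2 : ⁅w ^ 2, x⁆ = w ^ 4 := by
      rw [commutatorElement_def, hxinv]
      have h2 := hxwi 2
      have h3 : x * (w ^ 2)⁻¹ = w ^ 2 * x := by
        calc x * (w ^ 2)⁻¹ = w ^ 2 * ((w ^ 2)⁻¹ * x) * (w ^ 2)⁻¹ := by group
          _ = w ^ 2 * (x * w ^ 2) * (w ^ 2)⁻¹ := by rw [h2]
          _ = w ^ 2 * x := by group
      calc w ^ 2 * x * (w ^ 2)⁻¹ * x = w ^ 2 * (x * (w ^ 2)⁻¹) * x := by simp only [mul_assoc]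
        _ = w ^ 2 * (w ^ 2 * x) * x := by rw [h3]
        _ = w ^ 4 := by rw [mul_assoc, mul_assoc, hxx, mul_one, ← pow_add]
    rw [← c2, ← c1, h1]
  have hdvd : orderOf w ∣ 4 := orderOf_dvd_of_pow_eq_one h4
  have hle : orderOf w ≤ 4 := Nat.le_of_dvd (by norm_num) hdvd
  interval_cases h : orderOf w
  · omega
  · rfl

end Cfsg.Agent.Lead
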