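import Mathlib
import Cfsg.Prelude.Def_Local
import Cfsg.Prelude.Def_IsolatedElements
import Cfsg.Agent.Helper5.Isolated
import Cfsg.Agent.Helper5.SPEFitting
import Cfsg.Agent.Helper1.OmegaOdd
import Cfsg.Agent.Helper1.FrobPCompl2
import Cfsg.Agent.Helper2.Layer4

/-!
Isolated elements of odd prime order in groups of `p`-rank at most two (lead): the key lemma.
A component cannot be centralized by an element of order `p` of the Sylow subgroup outside `⟨x⟩`.
-/

set_option autoImplicit false

namespace Cfsg.Agent.Lead.IsoRank2

open scoped commutatorElement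

variable {G : Type*} [Group G]

/-- a subgroup of order `p ^ 2` is generated by an element of order `p` and any element outside
its cyclic group -/
theorem closure_pair_eq [Finite G] {p : ℕ} [hp : Fact p.Prime] (A : Subgroup G)
    (hA : Nat.card A = p ^ 2) (u v : G) (hu : orderOf u = p) (huA : u ∈ A) (hvA : v ∈ A)
    (hv : v ∉ Subgroup.zpowers u) : Subgroup.closure {u, v} = A := by
  have hle : Subgroup.closure {u, v} ≤ A := by
    rw [Subgroup.closure_le]
    rintro w (rfl | rfl)
    exacts [huA, hvA]
  have hlt : Subgroup.zpowers u < Subgroup.closure {u, v} := by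
    refine lt_of_le_of_ne ?_ ?_
    · rw [Subgroup.zpowers_le]; exact Subgroup.subset_closure (by simp)
    · intro h; apply hv; rw [h]; exact Subgroup.subset_closure (by simp)
  have hcard_lt : p < Nat.card (Subgroup.closure {u, v}) := by
    have := Cfsg.Agent.Helper1.card_lt_card_of_lt hlt
    rwa [Nat.card_zpowers, hu] at this
  have hdvd : Nat.card (Subgroup.closure {u, v}) ∣ p ^ 2 := by
    rw [← hA]; exact Subgroup.card_dvd_of_le hle
  obtain ⟨k, hk, hkeq⟩ := (Nat.dvd_prime_pow hp.out).mp hdvd
  have hk2 : k = 2 := by
    interval_cases k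
    · rw [hkeq, pow_zero] at hcard_lt; have := hp.out.one_lt; omega
    · rw [hkeq, pow_one] at hcard_lt; omega
    · rfl
  apply Subgroup.eq_of_le_of_card_ge hle
  rw [hA, hkeq, hk2]

/-- in a group of `p`-rank at most two, an abelian subgroup of exponent `p` containing two
independent elements of order `p` has order `p ^ 2` -/
theorem card_eq_sq [Finite G] {p : ℕ} [hp : Fact p.Prime] (hrank : Cfsg.PRankLE p 2 G)
    (x y : G) (hx : orderOf x = p) (hyx : y ∉ Subgroup.zpowers x) (E : Subgroup G)
    (hEc : IsMulCommutative E) (hEe : ∀ a ∈ E, a ^ p = 1) (hxE : x ∈ E) (hyE : y ∈ E) :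
    Nat.card E = p ^ 2 := by
  have hle := hrank E hEc hEe
  have hEp : IsPGroup p E := by
    intro a
    refine ⟨1, ?_⟩
    rw [pow_one]
    apply Subtype.ext
    simpa using hEe a a.2
  obtain ⟨k, hk⟩ := IsPGroup.iff_card.mp hEp
  have hlt : Subgroup.zpowers x < E := by
    refine lt_of_le_of_ne ?_ ?_
    · rw [Subgroup.zpowers_le]; exact hxE
    · intro h; apply hyx; rw [h]; exact hyE
  have hcard_lt : p < Nat.card E := by
    have := Cfsg.Agent.Helper1.card_lt_card_of_lt hlt
    rwa [Nat.card_zpowers, hx] at this
  have hp1 := hp.out.one_lt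
  have hk2 : k = 2 := by
    rw [hk] at hle hcard_lt
    have h1 : k ≤ 2 := (Nat.pow_le_pow_iff_right hp1).mp hle
    interval_cases k
    · rw [pow_zero] at hcard_lt; omega
    · rw [pow_one] at hcard_lt; omega
    · rfl
  rw [hk, hk2]

/-- exponent `p` for the closure of a commuting set of elements of exponent `p` -/
theorem closure_exponent {p : ℕ} (s : Set G) (hcomm : ∀ a ∈ s, ∀ b ∈ s, a * b = b * a)
    (hs : ∀ a ∈ s, a ^ p = 1) : ∀ a ∈ Subgroup.closure s, a ^ p = 1 := by
  have hEc : IsMulCommutative (Subgroup.closure s) := Subgroup.isMulCommutative_closure hcomm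
  intro a ha
  induction ha using Subgroup.closure_induction with
  | mem a ha => exact hs a ha
  | one => exact one_pow p
  | mul a b ha hb iha ihb =>
    have hab : Commute a b := by
      have := hEc.is_comm.comm (⟨a, ha⟩ : Subgroup.closure s) ⟨b, hb⟩
      exact congrArg Subtype.val this
    rw [hab.mul_pow, iha, ihb, one_mul]
  | inv a ha iha => rw [inv_pow, iha, inv_one]

/-- rank two: an element of exponent `p` commuting with two independent commuting elements of
order `p` lies in the subgroup they generate, which has order `p ^ 2`. -/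
theorem rank_two [Finite G] {p : ℕ} [hp : Fact p.Prime] (hrank : Cfsg.PRankLE p 2 G)
    (x y : G) (hx : orderOf x = p) (hy : orderOf y = p) (hxy : x * y = y * x)
    (hyx : y ∉ Subgroup.zpowers x) :
    Nat.card (Subgroup.closure {x, y}) = p ^ 2 ∧
    ∀ a : G, a * x = x * a → a * y = y * a → a ^ p = 1 → a ∈ Subgroup.closure {x, y} := by
  have hxp : x ^ p = 1 := by rw [← hx]; exact pow_orderOf_eq_one x
  have hyp : y ^ p = 1 := by rw [← hy]; exact pow_orderOf_eq_one y
  have key : ∀ a : G, a * x = x * a → a * y = y * a → a ^ p = 1 →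
      Nat.card (Subgroup.closure {x, y, a}) = p ^ 2 := by
    intro a hax hay hap
    have hcomm : ∀ b ∈ ({x, y, a} : Set G), ∀ c ∈ ({x, y, a} : Set G), b * c = c * b := by
      intro b hb c hc
      rcases hb with rfl | rfl | rfl <;> rcases hc with rfl | rfl | rfl
      · rfl
      · exact hxy
      · exact hax.symm
      · exact hxy.symm
      · rfl
      · exact hay.symm
      · exact hax
      · exact hay
      · rfl
    have hexp : ∀ b ∈ ({x, y, a} : Set G), b ^ p = 1 := by
      intro b hb
      rcases hb with rfl | rfl | rfl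
      exacts [hxp, hyp, hap]
    exact card_eq_sq hrank x y hx hyx _ (Subgroup.isMulCommutative_closure hcomm)
      (closure_exponent _ hcomm hexp) (Subgroup.subset_closure (by simp))
      (Subgroup.subset_closure (by simp))
  have hmem : ∀ a : G, a * x = x * a → a * y = y * a → a ^ p = 1 →
      Subgroup.closure {x, y} = Subgroup.closure {x, y, a} := by
    intro a hax hay hap
    exact closure_pair_eq _ (key a hax hay hap) x y hx (Subgroup.subset_closure (by simp))
      (Subgroup.subset_closure (by simp)) hyx
  constructor
  · have h1 := hmem 1 (by simp) (by simp) (one_pow p)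
    rw [h1]
    exact key 1 (by simp) (by simp) (one_pow p)
  · intro a hax hay hap
    rw [hmem a hax hay hap]
    exact Subgroup.subset_closure (by simp)

end Cfsg.Agent.Lead.IsoRank2
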