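import Mathlib
import Cfsg.Agent.Lead.IsoRank2A

/-!
Isolated elements of odd prime order in groups of `p`-rank at most two (lead): the key lemma.
A component cannot be centralized by an element of order `p` of the Sylow subgroup outside `⟨x⟩`.
-/

set_option autoImplicit false

namespace Cfsg.Agent.Lead.IsoRank2

open Cfsg.Agent.Helper1 Cfsg.Agent.Helper2 Cfsg.Agent.Helper5
open scoped commutatorElement

variable {G : Type*} [Group G]

/-- Frobenius' criterion for a subgroup `L`, stated with subgroups of the ambient group -/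
theorem pnilpotent_of_local [Finite G] {p : ℕ} [hp : Fact p.Prime] (L : Subgroup G)
    (Q : Sylow p ↥L)
    (h : ∀ R : Subgroup G, R ≤ (Q : Subgroup ↥L).map L.subtype → ∀ g ∈ L,
      g ∈ Subgroup.normalizer (R : Set G) → (orderOf g).Coprime p → ∀ r ∈ R, g * r = r * g) :
    ∃ N : Subgroup ↥L, N.Normal ∧ N.IsComplement' (Q : Subgroup ↥L) := by
  rw [frobenius_normal_pcomplement_iff Q]
  intro R' hR'Q g hg hcop
  have hR : R'.map L.subtype ≤ (Q : Subgroup ↥L).map L.subtype := Subgroup.map_mono hR'Q
  have hgN : (g : G) ∈ Subgroup.normalizer ((R'.map L.subtype : Subgroup G) : Set G) := by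
    rw [Subgroup.mem_normalizer_iff]
    intro w
    constructor
    · rintro ⟨w', hw', rfl⟩
      exact ⟨g * w' * g⁻¹, (Subgroup.mem_normalizer_iff.mp hg w').mp hw', rfl⟩
    · rintro ⟨z', hz', hz⟩
      have hwL : w ∈ L := by
        have : w = (g : G)⁻¹ * (z' : G) * g := by
          have : (z' : G) = g * w * (g : G)⁻¹ := hz
          rw [this]; group
        rw [this]
        exact L.mul_mem (L.mul_mem (L.inv_mem g.2) z'.2) g.2
      have h1 : g * ⟨w, hwL⟩ * g⁻¹ = z' := Subtype.ext hz.symm
      have h2 : (⟨w, hwL⟩ : ↥L) ∈ R' := by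
        rw [Subgroup.mem_normalizer_iff.mp hg ⟨w, hwL⟩, h1]
        exact hz'
      exact ⟨⟨w, hwL⟩, h2, rfl⟩
  have hord : (orderOf (g : G)).Coprime p := by rwa [Subgroup.orderOf_coe]
  have h3 := h _ hR (g : G) g.2 hgN hord
  rw [Subgroup.mem_centralizer_iff]
  intro r hr
  apply Subtype.ext
  have := h3 (r : G) ⟨r, hr, rfl⟩
  simpa using this.symm

/-- a perfect finite group with a normal `p`-complement has trivial Sylow `p`-subgroups -/
theorem sylow_eq_bot_of_perfect {H : Type*} [Group H] [Finite H] {p : ℕ} [hp : Fact p.Prime]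
    (hperf : Group.IsPerfect H) (Q : Sylow p H) (N : Subgroup H) (hN : N.Normal)
    (hc : N.IsComplement' (Q : Subgroup H)) : (Q : Subgroup H) = ⊥ := by
  have hidx : N.index = Nat.card (Q : Subgroup H) := by
    have h1 := hc.card_mul_card
    have h2 := N.card_mul_index
    have hpos : 0 < Nat.card N := Nat.card_pos
    exact Nat.eq_of_mul_eq_mul_left hpos (h2.trans h1.symm)
  have hQp : IsPGroup p (H ⧸ N) := by
    obtain ⟨n, hn⟩ := IsPGroup.iff_card.mp Q.2
    apply IsPGroup.of_card (n := n)
    rw [← hn, ← hidx, Subgroup.index_eq_card]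
  have hnil : Group.IsNilpotent (H ⧸ N) := hQp.isNilpotent
  have hsol : Group.IsSolvable (H ⧸ N) := inferInstance
  have hss : Subsingleton (H ⧸ N) := by
    by_contra hns
    rw [not_subsingleton_iff_nontrivial] at hns
    exact Group.IsPerfect.not_isSolvable (G := H ⧸ N) hsol
  have hNtop : N = ⊤ := by
    rw [eq_top_iff]
    intro a _
    rw [← QuotientGroup.eq_one_iff]
    exact Subsingleton.elim _ _
  have : N.index = 1 := by rw [hNtop]; exact Subgroup.index_top
  rw [hidx] at this
  exact Subgroup.card_eq_one.mp this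

/-- **Key lemma.** `x` isolated of odd prime order `p` in a group of `p`-rank at most two with
`O_{p'}(G) = 1`: no element `y` of order `p` of a Sylow `p`-subgroup containing `x`, outside
`⟨x⟩`, centralizes a component. -/
theorem key [Finite G] {p : ℕ} [hp : Fact p.Prime] (hp2 : p ≠ 2)
    (hcore : Cfsg.pPrimeCore p G = ⊥) (hrank : Cfsg.PRankLE p 2 G) (x : G) (hx : orderOf x = p)
    (hiso : Cfsg.IsIsolated x) (S : Sylow p G) (hxS : x ∈ (S : Subgroup G)) (L : Subgroup G)
    (hL : Cfsg.IsComponent L) (y : G) (hyS : y ∈ (S : Subgroup G)) (hy : orderOf y = p)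
    (hyL : ∀ l ∈ L, y * l = l * y) (hyx : y ∉ Subgroup.zpowers x) : False := by
  have hxc : ∀ s ∈ (S : Subgroup G), s * x = x * s :=
    central_of_isIsolated_in_pgroup (S : Subgroup G) S.2 x hxS hiso
  have hxy : x * y = y * x := (hxc y hyS).symm
  obtain ⟨hAcard, hAmem⟩ := rank_two hrank x y hx hy hxy hyx
  set A : Subgroup G := Subgroup.closure {x, y} with hAdef
  have hxA : x ∈ A := Subgroup.subset_closure (by simp)
  have hyA : y ∈ A := Subgroup.subset_closure (by simp)
  have hAc : IsMulCommutative A := by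
    apply Subgroup.isMulCommutative_closure
    intro b hb c hc
    rcases hb with rfl | rfl <;> rcases hc with rfl | rfl
    · rfl
    · exact hxy
    · exact hxy.symm
    · rfl
  have hAcomm : ∀ a ∈ A, ∀ b ∈ A, a * b = b * a := by
    intro a ha b hb
    have := hAc.is_comm.comm (⟨a, ha⟩ : A) ⟨b, hb⟩
    exact congrArg Subtype.val this
  -- the Sylow subgroup of `L`
  obtain ⟨Q, hQ⟩ := sylow_inf_subnormal p L hL.1 S
  have hdvd : p ∣ Nat.card L := by
    by_contra hnd
    have hcop : (Nat.card L).Coprime p :=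
      (Nat.Coprime.symm ((Nat.Prime.coprime_iff_not_dvd hp.out).mpr hnd))
    have := le_pPrimeCore_of_subnormal L hL.1 hcop
    rw [hcore] at this
    exact component_ne_bot hL (eq_bot_iff.mpr this)
  have hQ1 : (Q : Subgroup L) ≠ ⊥ := Q.ne_bot_of_dvd_card hdvd
  -- Frobenius' criterion
  have hloc : ∀ R : Subgroup G, R ≤ (Q : Subgroup ↥L).map L.subtype → ∀ g ∈ L,
      g ∈ Subgroup.normalizer (R : Set G) → (orderOf g).Coprime p → ∀ r ∈ R, g * r = r * g := by
    intro R hR g hgL hgN hcop
    have hRS : R ≤ (S : Subgroup G) := by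
      intro r hr
      obtain ⟨r', hr', rfl⟩ := hR hr
      rw [hQ] at hr'
      exact Subgroup.mem_subgroupOf.mp hr'
    have hRL : R ≤ L := by
      intro r hr
      obtain ⟨r', _, rfl⟩ := hR hr
      exact r'.2
    have hgy : g * y = y * g := (hyL g hgL).symm
    apply centralizes_of_centralizes_order_p hp2 g hcop R (S.2.to_le hRS) hgN
    intro r hr hord
    have hrp : r ^ p = 1 := by rw [← hord]; exact pow_orderOf_eq_one r
    have hrA : r ∈ A := hAmem r (hxc r (hRS hr)) (hyL r (hRL hr)).symm hrp
    have hr' : g * r * g⁻¹ ∈ R := (Subgroup.mem_normalizer_iff.mp hgN r).mp hr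
    have hr'p : (g * r * g⁻¹) ^ p = 1 := by rw [conj_pow, hrp]; group
    have hr'A : g * r * g⁻¹ ∈ A :=
      hAmem _ (hxc _ (hRS hr')) (hyL _ (hRL hr')).symm hr'p
    by_cases hry : r ∈ Subgroup.zpowers y
    · obtain ⟨k, rfl⟩ := Subgroup.mem_zpowers_iff.mp hry
      exact (Commute.zpow_right (show Commute g y from hgy) k)
    · have hcl : Subgroup.closure {y, r} = A := closure_pair_eq A hAcard y r hy hyA hrA hry
      have hconj : ∀ w ∈ Subgroup.closure {y, r}, g * w * g⁻¹ ∈ A := by
        intro w hw
        induction hw using Subgroup.closure_induction with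
        | mem w hw =>
          rcases hw with rfl | rfl
          · have : g * w * g⁻¹ = w := by rw [hgy]; group
            rw [this]; exact hyA
          · exact hr'A
        | one => simp
        | mul a b _ _ iha ihb =>
          have : g * (a * b) * g⁻¹ = (g * a * g⁻¹) * (g * b * g⁻¹) := by group
          rw [this]; exact A.mul_mem iha ihb
        | inv a _ iha =>
          have : g * a⁻¹ * g⁻¹ = (g * a * g⁻¹)⁻¹ := by group
          rw [this]; exact A.inv_mem iha
      have hgxA : g * x * g⁻¹ ∈ A := hconj x (by rw [hcl]; exact hxA)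
      have hfix : g * x * g⁻¹ = x := hiso g (hAcomm x hxA _ hgxA)
      have hgx : g * x = x * g := by
        calc g * x = g * x * g⁻¹ * g := by group
          _ = x * g := by rw [hfix]
      have hAle : A ≤ Subgroup.centralizer {g} := by
        rw [hAdef, Subgroup.closure_le]
        rintro w (rfl | rfl)
        · exact Subgroup.mem_centralizer_singleton_iff.mpr hgx.symm
        · exact Subgroup.mem_centralizer_singleton_iff.mpr hgy.symm
      exact (Subgroup.mem_centralizer_singleton_iff.mp (hAle hrA)).symm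
  obtain ⟨N, hNn, hNc⟩ := pnilpotent_of_local L Q hloc
  exact hQ1 (sylow_eq_bot_of_perfect hL.2.1 Q N hNn hNc)

end Cfsg.Agent.Lead.IsoRank2
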