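import Mathlib
import Cfsg.Agent.Lead.IsoRank2B

/-!
Isolated elements of odd prime order in groups of `p`-rank at most two (lead): with `O_{p'}(G) = 1`
and a non-central isolated element of order `p`, the generalized Fitting subgroup is a non-abelian
simple group.
-/

set_option autoImplicit false

namespace Cfsg.Agent.Lead.IsoRank2

open Cfsg.Agent.Helper1 Cfsg.Agent.Helper2 Cfsg.Agent.Helper5
open scoped commutatorElement

variable {G : Type*} [Group G]

/-- two elements of order `p`, one in the cyclic group of the other, generate the same group -/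
theorem mem_zpowers_symm [Finite G] {p : ℕ} (x y : G) (hx : orderOf x = p)
    (hy : orderOf y = p) (h : y ∈ Subgroup.zpowers x) : x ∈ Subgroup.zpowers y := by
  have hle : Subgroup.zpowers y ≤ Subgroup.zpowers x := by rw [Subgroup.zpowers_le]; exact h
  have heq : Subgroup.zpowers y = Subgroup.zpowers x := by
    apply Subgroup.eq_of_le_of_card_ge hle
    rw [Nat.card_zpowers, Nat.card_zpowers, hx, hy]
  rw [heq]
  exact Subgroup.mem_zpowers x

/-- a nontrivial `p`-subgroup contains an element of order `p` -/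
theorem exists_orderOf_eq [Finite G] {p : ℕ} [hp : Fact p.Prime] (Q : Subgroup G)
    (hQ : IsPGroup p Q) (hne : Q ≠ ⊥) : ∃ y ∈ Q, orderOf y = p := by
  obtain ⟨n, hn⟩ := IsPGroup.iff_card.mp hQ
  have hn0 : n ≠ 0 := by
    rintro rfl
    rw [pow_zero] at hn
    exact hne (Subgroup.card_eq_one.mp hn)
  have hdvd : p ∣ Nat.card Q := by rw [hn]; exact dvd_pow_self p hn0
  obtain ⟨y, hy⟩ := exists_prime_orderOf_dvd_card' p hdvd
  exact ⟨(y : G), y.2, by rw [Subgroup.orderOf_coe]; exact hy⟩

theorem main [Finite G] {p : ℕ} [hp : Fact p.Prime] (hp2 : p ≠ 2)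
    (hcore : Cfsg.pPrimeCore p G = ⊥) (hrank : Cfsg.PRankLE p 2 G) (x : G) (hx : orderOf x = p)
    (hiso : Cfsg.IsIsolated x) (hnc : x ∉ Subgroup.center G) :
    ∃ K : Subgroup G, Cfsg.generalizedFittingSubgroup G = K ∧ IsSimpleGroup ↥K ∧
      ¬ IsMulCommutative ↥K := by
  have hpp : p.Prime := hp.out
  have hxp : IsPGroup p (Subgroup.zpowers x) :=
    IsPGroup.of_card (n := 1) (by rw [Nat.card_zpowers, hx, pow_one])
  obtain ⟨S, hS⟩ := hxp.exists_le_sylow
  have hxS : x ∈ (S : Subgroup G) := hS (Subgroup.mem_zpowers x)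
  have hxc : ∀ s ∈ (S : Subgroup G), s * x = x * s :=
    central_of_isIsolated_in_pgroup (S : Subgroup G) S.2 x hxS hiso
  -- `x ∉ O_p(G)`
  have hxQ : x ∉ Cfsg.pCore p G := by
    intro hxQ
    apply hnc
    have hQc : ∀ r ∈ Cfsg.pCore p G, r * x = x * r :=
      central_of_isIsolated_in_pgroup _ (isPGroup_pCore p) x hxQ hiso
    rw [Subgroup.mem_center_iff]
    intro g
    have hg : g * x * g⁻¹ ∈ Cfsg.pCore p G := (Cfsg.pCore_normal p G).conj_mem x hxQ g
    have h1 : g * x * g⁻¹ = x := hiso g (hQc _ hg).symm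
    calc g * x = (g * x * g⁻¹) * g := by group
      _ = x * g := by rw [h1]
  -- `F(G) ≤ O_p(G)`
  have hF : Cfsg.fittingSubgroup G ≤ Cfsg.pCore p G := by
    rw [fittingSubgroup_eq_fitJoin]
    unfold fitJoin
    apply iSup_le
    intro q
    have hq : Fact (q : ℕ).Prime := ⟨q.2⟩
    by_cases hqp : (q : ℕ) = p
    · rw [hqp]
    · have : Cfsg.pCore (q : ℕ) G ≤ Cfsg.pPrimeCore p G := by
        apply Cfsg.Agent.Helper5.le_pPrimeCore inferInstance
        have hQ : IsPGroup (q : ℕ) (Cfsg.pCore (q : ℕ) G) := isPGroup_pCore (q : ℕ)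
        obtain ⟨n, hn⟩ := IsPGroup.iff_card.mp hQ
        rw [hn]
        apply Nat.Coprime.pow_left
        exact (Nat.coprime_primes q.2 hpp).mpr hqp
      rw [hcore] at this
      exact this.trans bot_le
  have hQF : Cfsg.pCore p G ≤ Cfsg.fittingSubgroup G := by
    rw [fittingSubgroup_eq_fitJoin]
    exact pCore_le_fitJoin p
  have hQS : Cfsg.pCore p G ≤ (S : Subgroup G) := Cfsg.Agent.Helper5.pCore_le_sylow S
  -- there is a component
  obtain ⟨K, hK⟩ : ∃ K : Subgroup G, Cfsg.IsComponent K := by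
    by_contra hno
    push Not at hno
    have hE : Cfsg.layer G = ⊥ := by
      unfold Cfsg.layer
      rw [sSup_eq_bot]
      intro K hK
      exact absurd hK (hno K)
    have hFstar : Cfsg.generalizedFittingSubgroup G = Cfsg.fittingSubgroup G := by
      unfold Cfsg.generalizedFittingSubgroup; rw [hE, bot_sup_eq]
    have hc := centralizer_generalizedFittingSubgroup_le (G := G)
    rw [hFstar] at hc
    apply hxQ
    apply hF
    apply hc
    rw [Subgroup.mem_centralizer_iff]
    intro f hf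
    exact hxc f (hQS (hF hf))
  -- elements of `O_p(G)` centralize components
  have hQL : ∀ L : Subgroup G, Cfsg.IsComponent L → ∀ y ∈ Cfsg.pCore p G, ∀ l ∈ L,
      y * l = l * y := by
    intro L hL y hy l hl
    exact (layer_commute_fitting (component_le_layer hL hl) (hQF hy)).symm
  -- `O_p(G) = 1`
  have hQ1 : Cfsg.pCore p G = ⊥ := by
    by_contra hne
    obtain ⟨y, hyQ, hy⟩ := exists_orderOf_eq (Cfsg.pCore p G) (isPGroup_pCore p) hne
    apply key hp2 hcore hrank x hx hiso S hxS K hK y (hQS hyQ) hy (hQL K hK y hyQ)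
    intro hyx
    apply hxQ
    have := mem_zpowers_symm x y hx hy hyx
    exact (Subgroup.zpowers_le.mpr hyQ) this
  have hF1 : Cfsg.fittingSubgroup G = ⊥ := by
    rw [eq_bot_iff, ← hQ1]; exact hF
  have hFstar : Cfsg.generalizedFittingSubgroup G = Cfsg.layer G := by
    unfold Cfsg.generalizedFittingSubgroup; rw [hF1, sup_bot_eq]
  -- every component contains an element of order `p` of `S`
  have hmeet : ∀ L : Subgroup G, Cfsg.IsComponent L →
      ∃ y ∈ (S : Subgroup G), y ∈ L ∧ orderOf y = p := by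
    intro L hL
    have hdvd : p ∣ Nat.card L := by
      by_contra hnd
      have hcop : (Nat.card L).Coprime p :=
        (Nat.Coprime.symm ((Nat.Prime.coprime_iff_not_dvd hpp).mpr hnd))
      have := le_pPrimeCore_of_subnormal L hL.1 hcop
      rw [hcore] at this
      exact component_ne_bot hL (eq_bot_iff.mpr this)
    obtain ⟨Q, hQ⟩ := sylow_inf_subnormal p L hL.1 S
    have hQne : (Q : Subgroup L) ≠ ⊥ := Q.ne_bot_of_dvd_card hdvd
    obtain ⟨y, hyQ, hy⟩ := exists_orderOf_eq (Q : Subgroup L) Q.2 hQne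
    refine ⟨(y : G), ?_, y.2, by rw [Subgroup.orderOf_coe]; exact hy⟩
    rw [hQ] at hyQ
    exact Subgroup.mem_subgroupOf.mp hyQ
  -- centre of a component is trivial
  have hcen : ∀ L : Subgroup G, Cfsg.IsComponent L → ∀ y ∈ L, (∀ l ∈ L, y * l = l * y) → y = 1 := by
    intro L hL y hyL hyc
    have hs : IsSimpleGroup ↥L := component_simple_of_fitting_eq_bot hL hF1
    rcases (inferInstance : (Subgroup.center ↥L).Normal).eq_bot_or_eq_top with h | h
    · have : (⟨y, hyL⟩ : ↥L) ∈ Subgroup.center ↥L := by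
        rw [Subgroup.mem_center_iff]
        intro l
        exact Subtype.ext (hyc l l.2).symm
      rw [h, Subgroup.mem_bot] at this
      exact congrArg Subtype.val this
    · exfalso
      apply component_not_commutative hL
      intro a ha b hb
      have : (⟨a, ha⟩ : ↥L) ∈ Subgroup.center ↥L := by rw [h]; trivial
      have := Subgroup.mem_center_iff.mp this ⟨b, hb⟩
      exact (congrArg Subtype.val this).symm
  -- elements of distinct components commute
  have hcc : ∀ L₁ L₂ : Subgroup G, Cfsg.IsComponent L₁ → Cfsg.IsComponent L₂ → L₁ ≠ L₂ →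
      ∀ a ∈ L₁, ∀ b ∈ L₂, a * b = b * a := by
    intro L₁ L₂ h1 h2 hne a ha b hb
    have hcomm : ⁅L₁, L₂⁆ = ⊥ := components_commute h1 h2 hne
    have h3 : ⁅a, b⁆ ∈ ⁅L₁, L₂⁆ := Subgroup.commutator_mem_commutator ha hb
    rw [hcomm, Subgroup.mem_bot] at h3
    exact commutatorElement_eq_one_iff_mul_comm.mp h3
  -- uniqueness of the component
  have huniq : ∀ L : Subgroup G, Cfsg.IsComponent L → L = K := by
    intro L hL
    by_contra hne
    obtain ⟨y₁, hy₁S, hy₁L, hy₁⟩ := hmeet L hL
    obtain ⟨y₂, hy₂S, hy₂K, hy₂⟩ := hmeet K hK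
    by_cases h1 : y₁ ∈ Subgroup.zpowers x
    · by_cases h2 : y₂ ∈ Subgroup.zpowers x
      · -- `y₁ ∈ ⟨x⟩ = ⟨y₂⟩ ≤ K`
        have hx2 := mem_zpowers_symm x y₂ hx hy₂ h2
        have hy₁K : y₁ ∈ K :=
          (Subgroup.zpowers_le.mpr hy₂K) ((Subgroup.zpowers_le.mpr hx2) h1)
        have : y₁ = 1 := hcen L hL y₁ hy₁L (fun l hl => (hcc L K hL hK hne l hl y₁ hy₁K).symm)
        rw [this, orderOf_one] at hy₁
        exact hpp.one_lt.ne hy₁
      · exact key hp2 hcore hrank x hx hiso S hxS L hL y₂ hy₂S hy₂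
          (fun l hl => (hcc L K hL hK hne l hl y₂ hy₂K).symm) h2
    · exact key hp2 hcore hrank x hx hiso S hxS K hK y₁ hy₁S hy₁
        (fun l hl => hcc L K hL hK hne y₁ hy₁L l hl) h1
  have hlayer : Cfsg.layer G = K := by
    apply le_antisymm
    · unfold Cfsg.layer
      apply sSup_le
      intro L hL
      rw [huniq L hL]
    · exact component_le_layer hK
  refine ⟨K, hFstar.trans hlayer, component_simple_of_fitting_eq_bot hK hF1, ?_⟩
  intro hcomm
  apply component_not_commutative hK
  intro a ha b hb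
  have := hcomm.is_comm.comm (⟨a, ha⟩ : ↥K) ⟨b, hb⟩
  exact congrArg Subtype.val this

end Cfsg.Agent.Lead.IsoRank2
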