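import Mathlib

/-!
# A 3-group of exponent 9 over a ring of characteristic 3 with a "Frobenius" endomorphism

`TA K f` is the group of "twisted" unitriangular `6 × 6` matrices `1 + a` over `K`, where
`a₁₂ = x₁`, `a₂₃ = f x₁`, `a₃₆ = f (f x₂)`, `a₁₄ = - f (f x₁)`, `a₄₅ = f x₁`, `a₅₆ = x₂`,
`a₁₃ = p`, `a₂₆ = q`, `a₁₅ = r`, `a₄₆ = s`, `a₁₆ = u`, all other entries above the diagonal zero.
The cube of such an element is `x₁ (f x₁) (f² x₂) - (f² x₁) (f x₁) x₂` in the corner.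
-/

set_option autoImplicit false
set_option linter.unusedSimpArgs false
set_option linter.unusedVariables false

namespace Cfsg.Agent.Lead.IsoSolv

/-- the underlying set of the group: seven coordinates -/
@[ext]
structure TA (K : Type) [CommRing K] (f : K →+* K) where
  x1 : K
  x2 : K
  p : K
  q : K
  r : K
  s : K
  u : K

variable {K : Type} [CommRing K] {f : K →+* K}

namespace TA

instance : One (TA K f) := ⟨⟨0, 0, 0, 0, 0, 0, 0⟩⟩

instance : Mul (TA K f) :=
  ⟨fun a b => ⟨a.x1 + b.x1, a.x2 + b.x2, a.p + b.p + a.x1 * f b.x1,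
    a.q + b.q + f a.x1 * f (f b.x2), a.r + b.r - f (f a.x1) * f b.x1,
    a.s + b.s + f a.x1 * b.x2,
    a.u + b.u + a.x1 * b.q + a.p * f (f b.x2) - f (f a.x1) * b.s + a.r * b.x2⟩⟩

instance : Inv (TA K f) :=
  ⟨fun a => ⟨-a.x1, -a.x2, -a.p + a.x1 * f a.x1, -a.q + f a.x1 * f (f a.x2),
    -a.r - f (f a.x1) * f a.x1, -a.s + f a.x1 * a.x2,
    -a.u + (a.x1 * a.q + a.p * f (f a.x2) - f (f a.x1) * a.s + a.r * a.x2)
      - (a.x1 * f a.x1 * f (f a.x2) - f (f a.x1) * f a.x1 * a.x2)⟩⟩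

@[simp] theorem one_x1 : (1 : TA K f).x1 = 0 := rfl
@[simp] theorem one_x2 : (1 : TA K f).x2 = 0 := rfl
@[simp] theorem one_p : (1 : TA K f).p = 0 := rfl
@[simp] theorem one_q : (1 : TA K f).q = 0 := rfl
@[simp] theorem one_r : (1 : TA K f).r = 0 := rfl
@[simp] theorem one_s : (1 : TA K f).s = 0 := rfl
@[simp] theorem one_u : (1 : TA K f).u = 0 := rfl

@[simp] theorem mul_x1 (a b : TA K f) : (a * b).x1 = a.x1 + b.x1 := rfl
@[simp] theorem mul_x2 (a b : TA K f) : (a * b).x2 = a.x2 + b.x2 := rfl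
@[simp] theorem mul_p (a b : TA K f) : (a * b).p = a.p + b.p + a.x1 * f b.x1 := rfl
@[simp] theorem mul_q (a b : TA K f) : (a * b).q = a.q + b.q + f a.x1 * f (f b.x2) := rfl
@[simp] theorem mul_r (a b : TA K f) : (a * b).r = a.r + b.r - f (f a.x1) * f b.x1 := rfl
@[simp] theorem mul_s (a b : TA K f) : (a * b).s = a.s + b.s + f a.x1 * b.x2 := rfl
@[simp] theorem mul_u (a b : TA K f) : (a * b).u =
    a.u + b.u + a.x1 * b.q + a.p * f (f b.x2) - f (f a.x1) * b.s + a.r * b.x2 := rfl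

@[simp] theorem inv_x1 (a : TA K f) : (a⁻¹).x1 = -a.x1 := rfl
@[simp] theorem inv_x2 (a : TA K f) : (a⁻¹).x2 = -a.x2 := rfl
@[simp] theorem inv_p (a : TA K f) : (a⁻¹).p = -a.p + a.x1 * f a.x1 := rfl
@[simp] theorem inv_q (a : TA K f) : (a⁻¹).q = -a.q + f a.x1 * f (f a.x2) := rfl
@[simp] theorem inv_r (a : TA K f) : (a⁻¹).r = -a.r - f (f a.x1) * f a.x1 := rfl
@[simp] theorem inv_s (a : TA K f) : (a⁻¹).s = -a.s + f a.x1 * a.x2 := rfl
@[simp] theorem inv_u (a : TA K f) : (a⁻¹).u =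
    -a.u + (a.x1 * a.q + a.p * f (f a.x2) - f (f a.x1) * a.s + a.r * a.x2)
      - (a.x1 * f a.x1 * f (f a.x2) - f (f a.x1) * f a.x1 * a.x2) := rfl

instance : Group (TA K f) :=
  Group.ofLeftAxioms
    (by
      intro a b c
      ext <;> simp only [mul_x1, mul_x2, mul_p, mul_q, mul_r, mul_s, mul_u, map_add, map_mul,
        map_sub] <;> ring)
    (by
      intro a
      ext <;> simp)
    (by
      intro a
      ext <;> simp only [mul_x1, mul_x2, mul_p, mul_q, mul_r, mul_s, mul_u, inv_x1, inv_x2,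
        inv_p, inv_q, inv_r, inv_s, inv_u, one_x1, one_x2, one_p, one_q, one_r, one_s, one_u,
        map_neg, map_add, map_mul, map_sub] <;> ring)

/-- the cube of an element, in characteristic 3 -/
theorem cube (h3 : (3 : K) = 0) (a : TA K f) :
    a ^ 3 = ⟨0, 0, 0, 0, 0, 0,
      a.x1 * f a.x1 * f (f a.x2) - f (f a.x1) * f a.x1 * a.x2⟩ := by
  have e : a ^ 3 = a * a * a := by rw [pow_succ, pow_two]
  rw [e]
  ext <;> simp only [mul_x1, mul_x2, mul_p, mul_q, mul_r, mul_s, mul_u, map_add, map_mul,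
        map_sub]
  · linear_combination a.x1 * h3
  · linear_combination a.x2 * h3
  · linear_combination (a.p + a.x1 * f a.x1) * h3
  · linear_combination (a.q + f a.x1 * f (f a.x2)) * h3
  · linear_combination (a.r - f (f a.x1) * f a.x1) * h3
  · linear_combination (a.s + f a.x1 * a.x2) * h3
  · linear_combination (a.u + a.x1 * a.q + a.p * f (f a.x2) - f (f a.x1) * a.s + a.r * a.x2) * h3

/-- every element has order dividing 9, in characteristic 3 -/
theorem pow_nine (h3 : (3 : K) = 0) (a : TA K f) : a ^ 9 = 1 := by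
  have e : a ^ 9 = (a ^ 3) ^ 3 := by rw [← pow_mul]
  rw [e, cube h3 (a ^ 3), cube h3 a]
  ext <;> simp

end TA

end Cfsg.Agent.Lead.IsoSolv
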