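import Mathlib
import Cfsg.Agent.Lead.IsoSolvA

/-!
# Automorphisms of `TA K f`: scalings and the Frobenius
-/

set_option autoImplicit false
set_option linter.unusedSimpArgs false
set_option linter.unusedVariables false

namespace Cfsg.Agent.Lead.IsoSolv

variable {K : Type} [CommRing K] {f : K →+* K}

namespace TA

/-- scaling by `w`: the generators are multiplied by `w` -/
def scalFun (w : K) (a : TA K f) : TA K f :=
  ⟨w * a.x1, w * a.x2, w * f w * a.p, f w * f (f w) * a.q, f (f w) * f w * a.r,
    f w * w * a.s, w * f w * f (f w) * a.u⟩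

theorem scalFun_mul (w : K) (a b : TA K f) :
    scalFun w (a * b) = scalFun w a * scalFun w b := by
  ext <;> simp only [scalFun, mul_x1, mul_x2, mul_p, mul_q, mul_r, mul_s, mul_u, map_add,
    map_mul, map_sub] <;> ring

theorem scalFun_one (a : TA K f) : scalFun (1 : K) a = a := by
  ext <;> simp [scalFun]

theorem scalFun_comp (w w' : K) (a : TA K f) :
    scalFun w (scalFun w' a) = scalFun (w * w') a := by
  ext <;> simp only [scalFun, map_mul] <;> ring

/-- scaling by a unit, as an automorphism -/
def scal (z : Kˣ) : TA K f ≃* TA K f where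
  toFun := scalFun (z : K)
  invFun := scalFun ((z⁻¹ : Kˣ) : K)
  left_inv a := by rw [scalFun_comp, Units.inv_mul, scalFun_one]
  right_inv a := by rw [scalFun_comp, Units.mul_inv, scalFun_one]
  map_mul' := scalFun_mul (z : K)

@[simp] theorem scal_apply (z : Kˣ) (a : TA K f) : scal z a = scalFun (z : K) a := rfl

/-- scaling, as a homomorphism from the units -/
def scalHom : Kˣ →* MulAut (TA K f) where
  toFun := scal
  map_one' := by
    ext a : 1
    simp [scalFun_one]
  map_mul' z w := by
    ext a : 1
    simp [scalFun_comp]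

@[simp] theorem scalHom_apply (z : Kˣ) (a : TA K f) : scalHom z a = scalFun (z : K) a := rfl

/-- apply `f` to all coordinates -/
def frobFun (a : TA K f) : TA K f :=
  ⟨f a.x1, f a.x2, f a.p, f a.q, f a.r, f a.s, f a.u⟩

theorem frobFun_mul (a b : TA K f) : frobFun (a * b) = frobFun a * frobFun b := by
  ext <;> simp only [frobFun, mul_x1, mul_x2, mul_p, mul_q, mul_r, mul_s, mul_u, map_add,
    map_mul, map_sub]

/-- the Frobenius automorphism, when `f ^ 4 = 1` -/
def frobAut (hf : ∀ x, f (f (f (f x))) = x) : TA K f ≃* TA K f where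
  toFun := frobFun
  invFun a := frobFun (frobFun (frobFun a))
  left_inv a := by ext <;> simp [frobFun, hf]
  right_inv a := by ext <;> simp [frobFun, hf]
  map_mul' := frobFun_mul

@[simp] theorem frobAut_apply (hf : ∀ x, f (f (f (f x))) = x) (a : TA K f) :
    frobAut hf a = frobFun a := rfl

theorem frobAut_pow_four (hf : ∀ x, f (f (f (f x))) = x) : (frobAut hf) ^ 4 = 1 := by
  ext a : 1
  have : ((frobAut hf) ^ 4) a = frobFun (frobFun (frobFun (frobFun a))) := by
    simp [pow_succ, MulAut.mul_apply]
  rw [this]
  ext <;> simp [frobFun, hf]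

theorem frobAut_sq_apply (hf : ∀ x, f (f (f (f x))) = x) (a : TA K f) :
    ((frobAut hf) ^ 2) a = frobFun (frobFun a) := by
  simp [pow_succ, MulAut.mul_apply]

/-- conjugating a scaling by the Frobenius -/
theorem frob_mul_scal (hf : ∀ x, f (f (f (f x))) = x) (z : Kˣ) :
    frobAut hf * scalHom z = scalHom (Units.map (f : K →* K) z) * frobAut hf := by
  ext a : 1
  simp only [MulAut.mul_apply, scalHom_apply, frobAut_apply]
  ext <;> simp [frobFun, scalFun]

end TA

end Cfsg.Agent.Lead.IsoSolv
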