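import Mathlib
import Cfsg.Agent.Lead.IsoSolvB

/-!
# The Frobenius group of order 20 and its action on `TA K f`
-/

set_option autoImplicit false
set_option linter.unusedSimpArgs false
set_option linter.unusedVariables false

namespace Cfsg.Agent.Lead.IsoSolv

/-- the Frobenius group of order 20, as pairs `(i, j)` standing for `ζ ^ i * σ ^ j` with
`σ ζ σ⁻¹ = ζ ^ 3` -/
@[ext]
structure F20 where
  i : ZMod 5
  j : ZMod 4
deriving DecidableEq, Fintype

namespace F20

instance : One F20 := ⟨⟨0, 0⟩⟩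
instance : Mul F20 := ⟨fun a b => ⟨a.i + 3 ^ a.j.val * b.i, a.j + b.j⟩⟩
instance : Inv F20 := ⟨fun a => ⟨-(3 ^ (-a.j).val * a.i), -a.j⟩⟩

theorem mul_def (a b : F20) : a * b = ⟨a.i + 3 ^ a.j.val * b.i, a.j + b.j⟩ := rfl
theorem one_def : (1 : F20) = ⟨0, 0⟩ := rfl
theorem inv_def (a : F20) : a⁻¹ = ⟨-(3 ^ (-a.j).val * a.i), -a.j⟩ := rfl

@[simp] theorem mul_i (a b : F20) : (a * b).i = a.i + 3 ^ a.j.val * b.i := rfl
@[simp] theorem mul_j (a b : F20) : (a * b).j = a.j + b.j := rfl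
@[simp] theorem one_i : (1 : F20).i = 0 := rfl
@[simp] theorem one_j : (1 : F20).j = 0 := rfl
@[simp] theorem inv_i (a : F20) : (a⁻¹).i = -(3 ^ (-a.j).val * a.i) := rfl
@[simp] theorem inv_j (a : F20) : (a⁻¹).j = -a.j := rfl

theorem three_pow_add : ∀ x y : ZMod 4, (3 : ZMod 5) ^ (x + y).val = 3 ^ x.val * 3 ^ y.val := by
  decide

instance : Group F20 :=
  Group.ofLeftAxioms
    (by
      intro a b c
      ext
      · simp only [mul_i, mul_j, three_pow_add]; ring
      · simp only [mul_j]; ring)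
    (by
      intro a
      ext <;> simp)
    (by
      intro a
      ext <;> simp)

end F20

end Cfsg.Agent.Lead.IsoSolv

namespace Cfsg.Agent.Lead.IsoSolv

namespace F20

/-- the involution `σ ^ 2` -/
def tInv : F20 := ⟨0, 2⟩

set_option maxRecDepth 100000 in
theorem pow_five_of_j : ∀ g : F20, g.j = 0 → g ^ 5 = 1 := by decide

set_option maxRecDepth 100000 in
theorem cases_of_j : ∀ g : F20, g.j ≠ 0 →
    g ^ 4 = 1 ∧ ∃ c : F20, (g = c * tInv * c⁻¹ ∨ g ^ 2 = c * tInv * c⁻¹) := by decide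

set_option maxRecDepth 100000 in
theorem tInv_sq : tInv ^ 2 = 1 := by decide

end F20

end Cfsg.Agent.Lead.IsoSolv
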