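import Mathlib
import Cfsg.Agent.Lead.IsoSolvC

/-!
# The action of the Frobenius group of order 20 on `TA K f`
-/

set_option autoImplicit false
set_option linter.unusedSimpArgs false
set_option linter.unusedVariables false

namespace Cfsg.Agent.Lead.IsoSolv

/-- the data needed: characteristic 3, `f` of order dividing 4, a fifth root of unity `z` with
`f z = z ^ 3` -/
structure Data (K : Type) [Field K] (f : K →+* K) where
  h3 : (3 : K) = 0
  hf : ∀ x, f (f (f (f x))) = x
  z : Kˣ
  hz5 : z ^ 5 = 1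
  hfz : f (z : K) = (z : K) ^ 3
  hz1 : z ≠ 1

variable {K : Type} [Field K] {f : K →+* K}

namespace Data

variable (D : Data K f)

theorem map_z : Units.map (f : K →* K) D.z = D.z ^ 3 := by
  ext
  simp [D.hfz]

theorem map_iter (b c : ℕ) :
    (Units.map (f : K →* K))^[b] (D.z ^ c) = D.z ^ (3 ^ b * c) := by
  induction b with
  | zero => simp
  | succ n ih =>
    rw [Function.iterate_succ_apply', ih, map_pow, D.map_z, ← pow_mul, pow_succ]
    congr 1
    ring

theorem frob_pow_mul_scal (b : ℕ) (w : Kˣ) :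
    (TA.frobAut D.hf) ^ b * TA.scalHom w =
      TA.scalHom ((Units.map (f : K →* K))^[b] w) * (TA.frobAut D.hf) ^ b := by
  induction b with
  | zero => simp
  | succ n ih =>
    rw [pow_succ', mul_assoc, ih, ← mul_assoc, TA.frob_mul_scal, mul_assoc,
      Function.iterate_succ_apply']

theorem z_pow_val (n : ℕ) : D.z ^ ((n : ZMod 5).val) = D.z ^ n := by
  rw [ZMod.val_natCast]
  exact (pow_eq_pow_mod n D.hz5).symm

theorem frob_pow_val (n : ℕ) :
    (TA.frobAut D.hf) ^ ((n : ZMod 4).val) = (TA.frobAut D.hf) ^ n := by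
  rw [ZMod.val_natCast]
  exact (pow_eq_pow_mod n (TA.frobAut_pow_four D.hf)).symm

/-- the action -/
def phiFun (g : F20) : MulAut (TA K f) :=
  TA.scalHom (D.z ^ g.i.val) * (TA.frobAut D.hf) ^ g.j.val

theorem phiFun_mul (g h : F20) : D.phiFun (g * h) = D.phiFun g * D.phiFun h := by
  unfold phiFun
  have e1 : (g * h).i = ((g.i.val + 3 ^ g.j.val * h.i.val : ℕ) : ZMod 5) := by
    simp [F20.mul_i]
  have e2 : (g * h).j = ((g.j.val + h.j.val : ℕ) : ZMod 4) := by
    simp [F20.mul_j]
  rw [e1, e2, D.z_pow_val, D.frob_pow_val]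
  have e3 : TA.scalHom (D.z ^ g.i.val) * (TA.frobAut D.hf) ^ g.j.val *
      (TA.scalHom (D.z ^ h.i.val) * (TA.frobAut D.hf) ^ h.j.val) =
      TA.scalHom (D.z ^ g.i.val) * ((TA.frobAut D.hf) ^ g.j.val *
      TA.scalHom (D.z ^ h.i.val)) * (TA.frobAut D.hf) ^ h.j.val := by
    simp only [mul_assoc]
  rw [e3, D.frob_pow_mul_scal, D.map_iter, ← mul_assoc, ← map_mul, ← pow_add, mul_assoc,
    ← pow_add]

/-- the action, as a homomorphism -/
def phi : F20 →* MulAut (TA K f) :=
  MonoidHom.mk' D.phiFun D.phiFun_mul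

theorem phi_apply (g : F20) :
    D.phi g = TA.scalHom (D.z ^ g.i.val) * (TA.frobAut D.hf) ^ g.j.val := rfl

end Data

end Cfsg.Agent.Lead.IsoSolv
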