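import Mathlib

/-!
# Element orders in a semidirect product `N ⋊ G`
-/

set_option autoImplicit false
set_option linter.unusedSimpArgs false
set_option linter.unusedVariables false

namespace Cfsg.Agent.Lead.IsoSolv

open SemidirectProduct

variable {N G : Type*} [Group N] [Group G] (φ : G →* MulAut N)

theorem eq_inl_of_right_eq_one (x : N ⋊[φ] G) (hx : x.right = 1) : x = inl x.left := by
  ext
  · simp
  · simp [hx]

theorem pow_right (x : N ⋊[φ] G) (k : ℕ) : (x ^ k).right = x.right ^ k := by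
  have := map_pow (rightHom : N ⋊[φ] G →* G) x k
  simpa [rightHom] using this

/-- if `g` has no fixed points on `N`, every element of the coset `N g` is conjugate to `g` -/
theorem fpf_conj [Finite N] (g : G) (hfix : ∀ n : N, φ g n = n → n = 1) (a : N) :
    ∃ b : N, (⟨a, g⟩ : N ⋊[φ] G) = inl b * inr g * (inl b)⁻¹ := by
  have hinj : Function.Injective (fun b : N => b * φ g b⁻¹) := by
    intro b c hbc
    beta_reduce at hbc
    have h2 : b * (φ g b)⁻¹ = c * (φ g c)⁻¹ := by simpa [map_inv] using hbc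
    have h3 : c⁻¹ * b = (φ g c)⁻¹ * φ g b := by
      calc c⁻¹ * b = c⁻¹ * (b * (φ g b)⁻¹) * φ g b := by group
        _ = c⁻¹ * (c * (φ g c)⁻¹) * φ g b := by rw [h2]
        _ = (φ g c)⁻¹ * φ g b := by group
    have h1 : φ g (c⁻¹ * b) = c⁻¹ * b := by rw [map_mul, map_inv, h3]
    have h4 := hfix _ h1
    have : b = c := by
      have := congrArg (fun x => c * x) h4
      simpa using this
    exact this
  obtain ⟨b, hb⟩ := (Finite.injective_iff_surjective.mp hinj) a
  refine ⟨b, ?_⟩
  ext
  · simp only [mul_left, left_inl, right_inl, map_one, MulAut.one_apply, left_inr, mul_one,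
      inv_left, inv_right, inv_one, mul_right, right_inr, one_mul]
    rw [← hb]
  · simp

theorem pow_eq_one_of_fpf [Finite N] (g : G) (hfix : ∀ n : N, φ g n = n → n = 1) (a : N) (k : ℕ)
    (hk : g ^ k = 1) : (⟨a, g⟩ : N ⋊[φ] G) ^ k = 1 := by
  obtain ⟨b, hb⟩ := fpf_conj φ g hfix a
  rw [hb, conj_pow, ← map_pow, hk, map_one, mul_one, mul_inv_cancel]

/-- the key order bound for elements lying over elements of order dividing 4 -/
theorem pow_twelve (h9 : ∀ n : N, n ^ 9 = 1) (t' : G) (ht' : t' ^ 2 = 1)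
    (hexp : ∀ n : N, φ t' n = n → n ^ 3 = 1) (g : G) (hg4 : g ^ 4 = 1)
    (hg : g = t' ∨ g ^ 2 = t') (a : N) : (⟨a, g⟩ : N ⋊[φ] G) ^ 12 = 1 := by
  set h : N ⋊[φ] G := ⟨a, g⟩ with hh
  have hr : h.right = g := rfl
  -- `h ^ 4` lies in `N`
  have h4r : (h ^ 4).right = 1 := by rw [pow_right, hr, hg4]
  set u := (h ^ 4).left with hu
  have h4 : h ^ 4 = inl u := eq_inl_of_right_eq_one φ _ h4r
  have h36 : h ^ 36 = 1 := by
    have : h ^ 36 = (h ^ 4) ^ 9 := by rw [← pow_mul]
    rw [this, h4, ← map_pow, h9, map_one]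
  -- the 2-part
  set k := h ^ 9 with hk
  have hkr : k.right = g := by
    rw [hk, pow_right, hr]
    have : g ^ 9 = (g ^ 4) ^ 2 * g := by rw [← pow_mul, ← pow_succ]
    rw [this, hg4, one_pow, one_mul]
  have hk4 : k ^ 4 = 1 := by rw [hk, ← pow_mul]; exact h36
  -- an involution `τ` over `t'` commuting with `h ^ 4`
  obtain ⟨τ, hτr, hτ2, hτc⟩ : ∃ τ : N ⋊[φ] G, τ.right = t' ∧ τ ^ 2 = 1 ∧ Commute τ (h ^ 4) := by
    rcases hg with hg | hg
    · refine ⟨k, by rw [hkr, hg], ?_, ?_⟩
      · have h2r : (k ^ 2).right = 1 := by rw [pow_right, hkr, hg, ht']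
        have h2 : k ^ 2 = inl (k ^ 2).left := eq_inl_of_right_eq_one φ _ h2r
        set v := (k ^ 2).left
        have hv2 : v ^ 2 = 1 := by
          have : (inl (v ^ 2) : N ⋊[φ] G) = 1 := by
            rw [map_pow, ← h2, ← pow_mul]; exact hk4
          exact inl_injective (by rw [this, map_one])
        have hv : v = 1 := by
          have h8 : v ^ 8 = 1 := by
            have : v ^ 8 = (v ^ 2) ^ 4 := by rw [← pow_mul]
            rw [this, hv2, one_pow]
          have h9' := h9 v
          rw [pow_succ, h8, one_mul] at h9'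
          exact h9'
        rw [h2, hv, map_one]
      · rw [hk]
        exact (Commute.refl h).pow_pow 9 4
    · refine ⟨k ^ 2, by rw [pow_right, hkr, hg], by rw [← pow_mul]; exact hk4, ?_⟩
      rw [hk, ← pow_mul]
      exact (Commute.refl h).pow_pow _ 4
  set b := τ.left with hb
  have hτ : τ = ⟨b, t'⟩ := by
    ext
    · rfl
    · exact hτr
  have hbt : b * φ t' b = 1 := by
    have := congrArg SemidirectProduct.left hτ2
    rw [pow_two, hτ] at this
    simpa using this
  have hφb : φ t' b = b⁻¹ := eq_inv_of_mul_eq_one_right hbt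
  set c := b ^ 5 with hc
  have hcc : c * c = b := by
    rw [hc, ← pow_add]
    have h9' := h9 b
    rw [pow_succ, h9', one_mul]
  have hφc : φ t' c = c⁻¹ := by rw [hc, map_pow, hφb, inv_pow]
  have hτconj : τ = inl c * inr t' * (inl c)⁻¹ := by
    rw [hτ]
    ext
    · simp only [mul_left, left_inl, right_inl, map_one, MulAut.one_apply, left_inr, mul_one,
        inv_left, inv_right, inv_one, mul_right, right_inr, one_mul]
      rw [map_inv, hφc, inv_inv, hcc]
    · simp
  -- conjugate `u`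
  set u' := c⁻¹ * u * c with hu'
  have hcomm : Commute (inr t' : N ⋊[φ] G) (inl u') := by
    have e1 : (inr t' : N ⋊[φ] G) = (inl c)⁻¹ * τ * inl c := by
      rw [hτconj]; group
    have e2 : (inl u' : N ⋊[φ] G) = (inl c)⁻¹ * h ^ 4 * inl c := by
      rw [hu', map_mul, map_mul, map_inv, h4]
    rw [e1, e2]
    have := hτc
    unfold Commute SemiconjBy at this ⊢
    calc (inl c)⁻¹ * τ * inl c * ((inl c)⁻¹ * h ^ 4 * inl c)
        = (inl c)⁻¹ * (τ * h ^ 4) * inl c := by group
      _ = (inl c)⁻¹ * (h ^ 4 * τ) * inl c := by rw [this]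
      _ = (inl c)⁻¹ * h ^ 4 * inl c * ((inl c)⁻¹ * τ * inl c) := by group
  have hfixu : φ t' u' = u' := by
    have := congrArg SemidirectProduct.left hcomm.eq
    simpa using this
  have hu3' : u' ^ 3 = 1 := hexp _ hfixu
  have hu3 : u ^ 3 = 1 := by
    have : u = c * u' * c⁻¹ := by rw [hu']; group
    rw [this, conj_pow, hu3', mul_one, mul_inv_cancel]
  have : h ^ 12 = (h ^ 4) ^ 3 := by rw [← pow_mul]
  rw [this, h4, ← map_pow, hu3, map_one]

end Cfsg.Agent.Lead.IsoSolv
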