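import Mathlib
import Cfsg.Agent.Lead.IsoSolvD
import Cfsg.Agent.Lead.IsoSolvE

/-!
# The solvable group `TA K f ⋊ F20` and its element orders
-/

set_option autoImplicit false
set_option linter.unusedSimpArgs false
set_option linter.unusedVariables false
set_option linter.style.haveILetI false

namespace Cfsg.Agent.Lead.IsoSolv

open SemidirectProduct

variable {K : Type} [Field K] {f : K →+* K}

namespace TA

/-- the coordinates -/
def toTuple (a : TA K f) : K × K × K × K × K × K × K := (a.x1, a.x2, a.p, a.q, a.r, a.s, a.u)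

theorem toTuple_injective : Function.Injective (toTuple : TA K f → _) := by
  intro a b h
  simp only [toTuple, Prod.mk.injEq] at h
  obtain ⟨h1, h2, h3, h4, h5, h6, h7⟩ := h
  ext <;> assumption

instance [Finite K] : Finite (TA K f) := Finite.of_injective _ toTuple_injective

theorem isPGroup (h3 : (3 : K) = 0) : IsPGroup 3 (TA K f) := fun a => ⟨2, pow_nine h3 a⟩

theorem isSolvable [Finite K] (h3 : (3 : K) = 0) : Group.IsSolvable (TA K f) := by
  haveI : Fact (Nat.Prime 3) := ⟨Nat.prime_three⟩
  haveI := (isPGroup (f := f) h3).isNilpotent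
  infer_instance

/-- a scaling with suitable non-trivial weights has no non-trivial fixed point -/
theorem eq_one_of_scalFun_eq {w : K} (hw1 : w ≠ 1) (hw2 : w * f w ≠ 1)
    (hw3 : f w * f (f w) ≠ 1) (hw4 : w * f w * f (f w) ≠ 1) (a : TA K f)
    (h : scalFun w a = a) : a = 1 := by
  have key : ∀ c x : K, c ≠ 1 → c * x = x → x = 0 := by
    intro c x hc hx
    have : (c - 1) * x = 0 := by rw [sub_mul, hx, one_mul, sub_self]
    rcases mul_eq_zero.mp this with h | h
    · exact absurd (sub_eq_zero.mp h) hc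
    · exact h
  have h1 := congrArg TA.x1 h
  have h2 := congrArg TA.x2 h
  have h3 := congrArg TA.p h
  have h4 := congrArg TA.q h
  have h5 := congrArg TA.r h
  have h6 := congrArg TA.s h
  have h7 := congrArg TA.u h
  simp only [scalFun] at h1 h2 h3 h4 h5 h6 h7
  ext
  · exact key _ _ hw1 h1
  · exact key _ _ hw1 h2
  · exact key _ _ hw2 h3
  · exact key _ _ hw3 h4
  · exact key _ _ (by rwa [mul_comm]) h5
  · exact key _ _ (by rwa [mul_comm]) h6
  · exact key _ _ hw4 h7

end TA

namespace Data

variable (D : Data K f)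

theorem orderOf_z : orderOf D.z = 5 :=
  haveI : Fact (Nat.Prime 5) := ⟨by norm_num⟩
  orderOf_eq_prime D.hz5 D.hz1

theorem z_pow_ne_one (k : ℕ) (hk : ¬ 5 ∣ k) : ((D.z : K)) ^ k ≠ 1 := by
  intro h
  apply hk
  rw [← D.orderOf_z]
  apply orderOf_dvd_of_pow_eq_one
  ext
  simpa using h

theorem f_z_pow (m : ℕ) : f ((D.z : K) ^ m) = ((D.z : K) ^ m) ^ 3 := by
  rw [map_pow, D.hfz, ← pow_mul, ← pow_mul, mul_comm]

/-- the group -/
abbrev H := TA K f ⋊[D.phi] F20

instance [Finite K] : Finite D.H := Finite.of_equiv _ (equivProd (φ := D.phi)).symm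

/-- projection of `F20` onto its cyclic quotient of order 4 -/
def jHom : F20 →* Multiplicative (ZMod 4) where
  toFun g := Multiplicative.ofAdd g.j
  map_one' := rfl
  map_mul' g h := rfl

/-- the cyclic normal subgroup of order 5 of `F20` -/
def iHom : Multiplicative (ZMod 5) →* F20 where
  toFun x := ⟨Multiplicative.toAdd x, 0⟩
  map_one' := rfl
  map_mul' x y := by
    ext <;> simp [F20.mul_i, F20.mul_j]

instance F20_isSolvable : Group.IsSolvable F20 := by
  apply Group.isSolvable_of_ker_le_range iHom jHom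
  intro g hg
  rw [MonoidHom.mem_ker] at hg
  refine ⟨Multiplicative.ofAdd g.i, ?_⟩
  ext
  · rfl
  · have : g.j = 0 := by
      have := congrArg Multiplicative.toAdd hg
      simpa [jHom] using this
    rw [this]; rfl

theorem H_isSolvable [Finite K] : Group.IsSolvable D.H := by
  haveI := TA.isSolvable (f := f) D.h3
  apply Group.isSolvable_of_ker_le_range (inl : TA K f →* D.H) (rightHom : D.H →* F20)
  rw [range_inl_eq_ker_rightHom]

/-- the action of an element with `j = 0`, `i ≠ 0` has no fixed points -/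
theorem fix_of_j_eq_zero (g : F20) (hj : g.j = 0) (hi : g.i ≠ 0) (a : TA K f)
    (h : D.phi g a = a) : a = 1 := by
  have hφ : D.phi g a = TA.scalFun ((D.z : K) ^ g.i.val) a := by
    rw [D.phi_apply, hj]
    have h0 : (0 : ZMod 4).val = 0 := rfl
    rw [h0, pow_zero, mul_one, TA.scalHom_apply, Units.val_pow_eq_pow_val]
  rw [hφ] at h
  have hm : ¬ 5 ∣ g.i.val := by
    intro hd
    apply hi
    have := (ZMod.natCast_eq_zero_iff g.i.val 5).mpr hd
    rwa [ZMod.natCast_zmod_val] at this
  have h5 : Nat.Prime 5 := by norm_num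
  have hk : ∀ k : ℕ, ¬ 5 ∣ k → ((D.z : K) ^ g.i.val) ^ k ≠ 1 := by
    intro k hk
    rw [← pow_mul]
    apply D.z_pow_ne_one
    intro hd
    rcases (Nat.Prime.dvd_mul h5).mp hd with h | h
    · exact hm h
    · exact hk h
  set w := (D.z : K) ^ g.i.val with hw
  have hfw : f w = w ^ 3 := D.f_z_pow _
  have hffw : f (f w) = w ^ 9 := by rw [hfw, map_pow, hfw, ← pow_mul]
  apply TA.eq_one_of_scalFun_eq (w := w) _ _ _ _ a h
  · have := hk 1 (by norm_num)
    simpa using this
  · have := hk 4 (by norm_num)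
    rw [hfw]
    intro h'
    apply this
    rw [← h']; ring
  · have := hk 12 (by norm_num)
    rw [hffw, hfw]
    intro h'
    apply this
    rw [← h']; ring
  · have := hk 13 (by norm_num)
    rw [hffw, hfw]
    intro h'
    apply this
    rw [← h']; ring

/-- elements fixed by the involution `σ ^ 2` have order dividing 3 -/
theorem cube_of_fix_tInv (a : TA K f) (h : D.phi F20.tInv a = a) : a ^ 3 = 1 := by
  have hφ : D.phi F20.tInv a = TA.frobFun (TA.frobFun a) := by
    rw [D.phi_apply]
    have h1 : F20.tInv.i.val = 0 := rfl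
    have h2 : F20.tInv.j.val = 2 := rfl
    rw [h1, h2, pow_zero, map_one, one_mul, TA.frobAut_sq_apply]
  rw [hφ] at h
  have h1 : f (f a.x1) = a.x1 := congrArg TA.x1 h
  have h2 : f (f a.x2) = a.x2 := congrArg TA.x2 h
  rw [TA.cube D.h3, h1, h2]
  ext <;> simp

theorem cube_of_fix_conj (c : F20) (a : TA K f) (h : D.phi (c * F20.tInv * c⁻¹) a = a) :
    a ^ 3 = 1 := by
  set m := (D.phi c)⁻¹ a with hm
  have ha : a = D.phi c m := by rw [hm, MulAut.apply_inv_self]
  have h1 : D.phi F20.tInv m = m := by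
    have e : D.phi (c * F20.tInv * c⁻¹) a = D.phi c (D.phi F20.tInv m) := by
      rw [map_mul, map_mul, map_inv]
      rfl
    rw [e] at h
    apply (D.phi c).injective
    rw [h, ← ha]
  have h2 := D.cube_of_fix_tInv _ h1
  rw [ha, ← map_pow, h2, map_one]

/-- every element of `H` has order dividing 12, 5 or 9 -/
theorem pow_cases [Finite K] (h : D.H) : h ^ 12 = 1 ∨ h ^ 5 = 1 ∨ h ^ 9 = 1 := by
  obtain ⟨a, g⟩ := h
  by_cases hj : g.j = 0
  · by_cases hi : g.i = 0
    · right; right
      have hg : g = 1 := by ext <;> assumption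
      have : (⟨a, g⟩ : D.H) = inl a := by
        rw [hg]; rfl
      rw [this, ← map_pow, TA.pow_nine D.h3, map_one]
    · right; left
      exact pow_eq_one_of_fpf D.phi g (D.fix_of_j_eq_zero g hj hi) a 5 (F20.pow_five_of_j g hj)
  · left
    obtain ⟨hg4, c, hc⟩ := F20.cases_of_j g hj
    apply pow_twelve D.phi (TA.pow_nine D.h3) (c * F20.tInv * c⁻¹) _
      (fun n hn => D.cube_of_fix_conj c n hn) g hg4 hc a
    rw [conj_pow, F20.tInv_sq, mul_one, mul_inv_cancel]

end Data

end Cfsg.Agent.Lead.IsoSolv
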