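import Mathlib

/-!
# Groups whose set of element orders is `{1, 2, 3, 4, 5, 6, 9, 12}`
-/

set_option autoImplicit false

namespace Cfsg.Agent.Lead.IsoSolv

/-- the set `{1, 2, 3, 4, 5, 6, 9, 12}` -/
def specSet : Set ℕ := {n | n ∣ 12 ∨ n ∣ 5 ∨ n ∣ 9}

theorem exists_orderOf_of_dvd {G : Type*} [Group G] {N : ℕ} (hN : N ≠ 0) (g : G)
    (hg : orderOf g = N) {n : ℕ} (hn : n ∣ N) : ∃ x : G, orderOf x = n := by
  refine ⟨g ^ (N / n), ?_⟩
  have hd : N / n ∣ N := Nat.div_dvd_of_dvd hn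
  have hne : N / n ≠ 0 := by
    intro h0
    rw [h0] at hd
    exact hN (zero_dvd_iff.mp hd)
  rw [orderOf_pow_of_dvd hne (by rw [hg]; exact hd), hg]
  exact Nat.div_div_self hn hN

theorem range_orderOf_eq {G : Type*} [Group G]
    (h1 : ∀ g : G, g ^ 12 = 1 ∨ g ^ 5 = 1 ∨ g ^ 9 = 1)
    (h12 : ∃ g : G, orderOf g = 12) (h5 : ∃ g : G, orderOf g = 5)
    (h9 : ∃ g : G, orderOf g = 9) : Set.range (orderOf : G → ℕ) = specSet := by
  ext n
  constructor
  · rintro ⟨g, rfl⟩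
    rcases h1 g with h | h | h
    · exact Or.inl (orderOf_dvd_of_pow_eq_one h)
    · exact Or.inr (Or.inl (orderOf_dvd_of_pow_eq_one h))
    · exact Or.inr (Or.inr (orderOf_dvd_of_pow_eq_one h))
  · rintro (h | h | h)
    · obtain ⟨g, hg⟩ := h12
      exact exists_orderOf_of_dvd (by norm_num) g hg h
    · obtain ⟨g, hg⟩ := h5
      exact exists_orderOf_of_dvd (by norm_num) g hg h
    · obtain ⟨g, hg⟩ := h9
      exact exists_orderOf_of_dvd (by norm_num) g hg h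

end Cfsg.Agent.Lead.IsoSolv
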