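import Mathlib
import Cfsg.Agent.Lead.IsoSolvF
import Cfsg.Agent.Lead.SpecSet

/-!
# Elements of orders 5, 9, 12 in `TA K f ⋊ F20`, and the concrete instance over `GF(81)`
-/

set_option autoImplicit false
set_option linter.unusedSimpArgs false
set_option linter.unusedVariables false
set_option linter.style.haveILetI false

namespace Cfsg.Agent.Lead.IsoSolv

open SemidirectProduct

theorem F20.zeta_ne_one : (⟨1, 0⟩ : F20) ≠ 1 := by decide

variable {K : Type} [Field K] {f : K →+* K}

namespace Data

variable (D : Data K f)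

theorem exists_order_five : ∃ h : D.H, orderOf h = 5 := by
  haveI : Fact (Nat.Prime 5) := ⟨by norm_num⟩
  refine ⟨inr ⟨1, 0⟩, orderOf_eq_prime ?_ ?_⟩
  · rw [← map_pow, F20.pow_five_of_j _ rfl, map_one]
  · intro h
    have := inr_injective (φ := D.phi) (h.trans (map_one _).symm)
    exact F20.zeta_ne_one this

theorem exists_order_nine : ∃ h : D.H, orderOf h = 9 := by
  haveI : Fact (Nat.Prime 3) := ⟨by norm_num⟩
  set y : TA K f := ⟨1, (D.z : K), 0, 0, 0, 0, 0⟩ with hy
  refine ⟨inl y, ?_⟩
  rw [orderOf_injective (inl : TA K f →* D.H) inl_injective y]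
  have h9 : (9 : ℕ) = 3 ^ (1 + 1) := by norm_num
  rw [h9]
  apply orderOf_eq_prime_pow
  · rw [pow_one, TA.cube D.h3]
    intro h
    have hu := congrArg TA.u h
    simp only [hy, map_one, one_mul, TA.one_u] at hu
    -- `f (f z) = z ^ 9 = z ^ 4`, so `z ^ 3 = 1`
    have hffz : f (f (D.z : K)) = (D.z : K) ^ 9 := by
      rw [D.hfz, map_pow, D.hfz, ← pow_mul]
    rw [hffz] at hu
    have hz5 : (D.z : K) ^ 5 = 1 := by
      have := congrArg Units.val D.hz5
      simpa using this
    have h8 : (D.z : K) ^ 8 = 1 := by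
      have hne : (D.z : K) ≠ 0 := D.z.ne_zero
      have : (D.z : K) * ((D.z : K) ^ 8 - 1) = 0 := by
        rw [← hu]; ring
      rcases mul_eq_zero.mp this with h | h
      · exact absurd h hne
      · exact sub_eq_zero.mp h
    exact D.z_pow_ne_one 8 (by norm_num) h8
  · rw [← h9]
    exact TA.pow_nine D.h3 y

theorem exists_order_twelve : ∃ h : D.H, orderOf h = 12 := by
  haveI : Fact (Nat.Prime 3) := ⟨by norm_num⟩
  set a₀ : TA K f := ⟨1, 0, 0, 0, 0, 0, 0⟩ with ha₀
  set σ : F20 := ⟨0, 1⟩ with hσ
  have hfix : D.phi σ a₀ = a₀ := by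
    rw [D.phi_apply]
    have h1 : σ.i.val = 0 := rfl
    have h2 : σ.j.val = 1 := rfl
    rw [h1, h2, pow_zero, map_one, one_mul, pow_one, TA.frobAut_apply]
    ext <;> simp [TA.frobFun, ha₀]
  have hcomm : Commute (inl a₀ : D.H) (inr σ) := by
    unfold Commute SemiconjBy
    apply SemidirectProduct.ext
    · simp only [mul_left, left_inl, right_inl, map_one, MulAut.one_apply, left_inr, mul_one,
        one_mul]
      exact hfix.symm
    · simp
  have ho3 : orderOf (inl a₀ : D.H) = 3 := by
    rw [orderOf_injective (inl : TA K f →* D.H) inl_injective a₀]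
    apply orderOf_eq_prime
    · rw [TA.cube D.h3]
      ext <;> simp [ha₀]
    · intro h
      have := congrArg TA.x1 h
      simp [ha₀] at this
  have ho4 : orderOf (inr σ : D.H) = 4 := by
    rw [orderOf_injective (inr : F20 →* D.H) inr_injective σ]
    have h4 : (4 : ℕ) = 2 ^ (1 + 1) := by norm_num
    rw [h4]
    haveI : Fact (Nat.Prime 2) := ⟨by norm_num⟩
    apply orderOf_eq_prime_pow
    · decide
    · decide
  refine ⟨inl a₀ * inr σ, ?_⟩
  rw [hcomm.orderOf_mul_eq_mul_orderOf_of_coprime (by rw [ho3, ho4]; norm_num), ho3, ho4]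

theorem range_orderOf [Finite K] : Set.range (orderOf : D.H → ℕ) = specSet :=
  range_orderOf_eq D.pow_cases D.exists_order_twelve D.exists_order_five D.exists_order_nine

end Data

/-- the field with 81 elements -/
abbrev K81 := GaloisField 3 4

instance : Fact (Nat.Prime 3) := ⟨Nat.prime_three⟩

/-- the Frobenius of `K81` -/
noncomputable abbrev frob81 : K81 →+* K81 := frobenius K81 3

theorem exists_data : Nonempty (Data K81 frob81) := by
  haveI : Fintype K81 := Fintype.ofFinite K81
  have hcard : Fintype.card K81 = 81 := by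
    rw [← Nat.card_eq_fintype_card, GaloisField.card 3 4 (by norm_num)]
    norm_num
  have h3 : (3 : K81) = 0 := by
    have := CharP.cast_eq_zero K81 3
    exact_mod_cast this
  have hf : ∀ x : K81, frob81 (frob81 (frob81 (frob81 x))) = x := by
    intro x
    simp only [frob81, frobenius_def]
    have := FiniteField.pow_card x
    rw [hcard] at this
    rw [← pow_mul, ← pow_mul, ← pow_mul]
    exact this
  haveI : Fact (Nat.Prime 5) := ⟨by norm_num⟩
  have hdvd : 5 ∣ Nat.card K81ˣ := by
    rw [Nat.card_units, GaloisField.card 3 4 (by norm_num)]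
    norm_num
  obtain ⟨z, hz⟩ := exists_prime_orderOf_dvd_card' 5 hdvd
  refine ⟨⟨h3, hf, z, ?_, ?_, ?_⟩⟩
  · rw [← hz]; exact pow_orderOf_eq_one z
  · simp [frob81, frobenius_def]
  · intro h
    rw [h, orderOf_one] at hz
    norm_num at hz

end Cfsg.Agent.Lead.IsoSolv
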