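import Mathlib
import Cfsg.Agent.Helper1.OmegaOdd
import Cfsg.Agent.Helper1.FrobPCompl2
import Cfsg.Prelude.Def_IsolatedElements
import Cfsg.Prelude.Def_CaseTheorems

set_option autoImplicit false

namespace Cfsg.Agent.Lead

universe u

/-- In a group of `p`-rank at most one, commuting elements `y, z` with `y ^ p = 1` and `z` of order `p`
satisfy `y ∈ ⟨z⟩`. -/
theorem mem_zpowers_of_pRankLE_one {G : Type u} [Group G] [Finite G] {p : ℕ} [Fact p.Prime]
    (hrk : Cfsg.PRankLE p 1 G) (y z : G) (hy : y ^ p = 1) (hz : orderOf z = p)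
    (hyz : y * z = z * y) : y ∈ Subgroup.zpowers z := by
  set E : Subgroup G := Subgroup.closure {y, z} with hE
  have hcomm : ∀ a ∈ ({y, z} : Set G), ∀ b ∈ ({y, z} : Set G), a * b = b * a := by
    intro a ha b hb
    rcases ha with rfl | rfl <;> rcases hb with rfl | rfl
    · rfl
    · exact hyz
    · exact hyz.symm
    · rfl
  have hEc : IsMulCommutative E := Subgroup.isMulCommutative_closure hcomm
  have hzp : z ^ p = 1 := by rw [← hz]; exact pow_orderOf_eq_one z
  have hexp : ∀ a ∈ E, a ^ p = 1 := by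
    intro a ha
    induction ha using Subgroup.closure_induction with
    | mem a ha =>
      rcases ha with rfl | rfl
      · exact hy
      · exact hzp
    | one => exact one_pow p
    | mul a b ha hb iha ihb =>
      have hab : Commute a b := by
        have := hEc.is_comm.comm (⟨a, ha⟩ : E) ⟨b, hb⟩
        exact congrArg Subtype.val this
      rw [hab.mul_pow, iha, ihb, one_mul]
    | inv a ha iha => rw [inv_pow, iha, inv_one]
  have hcard := hrk E hEc hexp
  rw [pow_one] at hcard
  have hzE : Subgroup.zpowers z ≤ E := by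
    rw [Subgroup.zpowers_le]
    exact Subgroup.subset_closure (by simp)
  have heq : Subgroup.zpowers z = E := by
    apply Subgroup.eq_of_le_of_card_ge hzE
    rw [Nat.card_zpowers, hz]
    exact hcard
  rw [heq]
  exact Subgroup.subset_closure (by simp)

/-- `p` odd, `p`-rank at most one: an isolated element of order `p` is central modulo `O_{p'}(G)`. -/
theorem inZStar_of_isolated_rank_one {G : Type u} [Group G] [Finite G] {p : ℕ} [Fact p.Prime]
    (hp : p ≠ 2) (hrk : Cfsg.PRankLE p 1 G) (x : G) (hx : orderOf x = p)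
    (hiso : Cfsg.IsIsolated x) : Cfsg.InZStar p x := by
  have hpp : p.Prime := Fact.out
  have hxp : IsPGroup p (Subgroup.zpowers x) :=
    IsPGroup.of_card (n := 1) (by rw [Nat.card_zpowers, hx, pow_one])
  obtain ⟨P, hP⟩ := hxp.exists_le_sylow
  have hxP : x ∈ (P : Subgroup G) := hP (Subgroup.mem_zpowers x)
  have hx1 : x ≠ 1 := by
    intro h
    rw [h, orderOf_one] at hx
    exact hpp.one_lt.ne hx
  -- a central element of order `p` in `P`
  have hPnt : Nontrivial (P : Subgroup G) := ⟨⟨⟨x, hxP⟩, 1, fun h => hx1 (congrArg Subtype.val h)⟩⟩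
  have hZnt : Nontrivial (Subgroup.center (P : Subgroup G)) := P.2.center_nontrivial
  have hZp : IsPGroup p (Subgroup.center (P : Subgroup G)) := P.2.to_subgroup _
  obtain ⟨m, hm⟩ := IsPGroup.iff_card.mp hZp
  have hm0 : m ≠ 0 := by
    rintro rfl
    rw [pow_zero] at hm
    have := Finite.one_lt_card_iff_nontrivial.mpr hZnt
    omega
  have hpdvd : p ∣ Nat.card (Subgroup.center (P : Subgroup G)) := by
    rw [hm]; exact dvd_pow_self p hm0
  obtain ⟨z0, hz0⟩ := exists_prime_orderOf_dvd_card' p hpdvd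
  set z : G := ((z0 : (P : Subgroup G)) : G) with hz
  have hzo : orderOf z = p := by
    rw [hz, Subgroup.orderOf_coe, Subgroup.orderOf_coe]
    exact hz0
  have hzP : z ∈ (P : Subgroup G) := (z0 : (P : Subgroup G)).2
  have hzc : ∀ y ∈ (P : Subgroup G), y * z = z * y := by
    intro y hy
    have h1 := Subgroup.mem_center_iff.mp z0.2 ⟨y, hy⟩
    exact congrArg Subtype.val h1
  -- every `y ∈ P` with `y ^ p = 1` lies in `⟨z⟩`
  have hA : ∀ y ∈ (P : Subgroup G), y ^ p = 1 → y ∈ Subgroup.zpowers z := fun y hy hyp =>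
    mem_zpowers_of_pRankLE_one hrk y z hyp hzo (hzc y hy)
  have hxp1 : x ^ p = 1 := by rw [← hx]; exact pow_orderOf_eq_one x
  have hxz : Subgroup.zpowers x = Subgroup.zpowers z := by
    apply Subgroup.eq_of_le_of_card_ge
    · rw [Subgroup.zpowers_le]; exact hA x hxP hxp1
    · rw [Nat.card_zpowers, Nat.card_zpowers, hx, hzo]
  have hA' : ∀ y ∈ (P : Subgroup G), y ^ p = 1 → y ∈ Subgroup.zpowers x := by
    rw [hxz]; exact hA
  have hxc : ∀ y ∈ (P : Subgroup G), y * x = x * y := by
    intro y hy
    have hxz' : x ∈ Subgroup.zpowers z := by rw [← hxz]; exact Subgroup.mem_zpowers x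
    obtain ⟨k, rfl⟩ := Subgroup.mem_zpowers_iff.mp hxz'
    exact (Commute.zpow_right (show Commute y z from hzc y hy) k)
  -- Frobenius criterion
  have hN : ∃ N : Subgroup G, N.Normal ∧ N.IsComplement' (P : Subgroup G) := by
    rw [Cfsg.Agent.Helper1.frobenius_normal_pcomplement_iff P]
    intro Q hQP g hg hcop
    have hcen := Cfsg.Agent.Helper1.centralizes_of_centralizes_order_p hp g hcop Q
      (P.2.to_le hQP) hg (fun r hr hord => by
        have hrp : r ^ p = 1 := by rw [← hord]; exact pow_orderOf_eq_one r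
        have hr1 : r ∈ Subgroup.zpowers x := hA' r (hQP hr) hrp
        -- `x ∈ ⟨r⟩`
        have hrx : Subgroup.zpowers r = Subgroup.zpowers x := by
          apply Subgroup.eq_of_le_of_card_ge
          · rw [Subgroup.zpowers_le]; exact hr1
          · rw [Nat.card_zpowers, Nat.card_zpowers, hx, hord]
        have hxQ : x ∈ Q := by
          have : x ∈ Subgroup.zpowers r := by rw [hrx]; exact Subgroup.mem_zpowers x
          exact (Subgroup.zpowers_le.mpr hr) this
        have hgx : g * x * g⁻¹ ∈ Q := (Subgroup.mem_normalizer_iff.mp hg x).mp hxQ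
        have hgxp : (g * x * g⁻¹) ^ p = 1 := by
          rw [conj_pow, hxp1]; group
        have hgx' : g * x * g⁻¹ ∈ Subgroup.zpowers x := hA' _ (hQP hgx) hgxp
        have hcomm : Commute x (g * x * g⁻¹) := by
          obtain ⟨k, hk⟩ := Subgroup.mem_zpowers_iff.mp hgx'
          rw [← hk]
          exact (Commute.refl x).zpow_right k
        have hfix : g * x * g⁻¹ = x := hiso g hcomm
        have hgxc : g * x = x * g := by
          calc g * x = g * x * g⁻¹ * g := by group
            _ = x * g := by rw [hfix]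
        obtain ⟨k, rfl⟩ := Subgroup.mem_zpowers_iff.mp hr1
        exact (Commute.zpow_right (show Commute g x from hgxc) k))
    rw [Subgroup.mem_centralizer_iff]
    intro h hh
    exact (hcen h hh).symm
  obtain ⟨K, hKn, hKc⟩ := hN
  -- `K ≤ O_{p'}(G)`
  have hKcop : (Nat.card K).Coprime p := by
    have hcard : Nat.card K * Nat.card (P : Subgroup G) = Nat.card G := hKc.card_mul_card
    have hPcard := P.card_eq_multiplicity
    have hne : Nat.card G ≠ 0 := Nat.card_pos.ne'
    rw [Nat.coprime_comm, hpp.coprime_iff_not_dvd]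
    intro hdvd
    obtain ⟨e, he⟩ : ∃ e, e = (Nat.card G).factorization p := ⟨_, rfl⟩
    rw [← he] at hPcard
    have h1 : p ^ (e + 1) ∣ Nat.card G := by
      rw [← hcard, hPcard]
      have : Nat.card K * p ^ e = p ^ e * Nat.card K := mul_comm _ _
      rw [this, pow_succ]
      exact mul_dvd_mul_left _ hdvd
    have h2 := (hpp.pow_dvd_iff_le_factorization hne).mp h1
    omega
  have hKle : K ≤ Cfsg.pPrimeCore p G := le_sSup ⟨hKn, hKcop⟩
  intro g
  apply hKle
  obtain ⟨⟨k, y⟩, hky⟩ := hKc.2 g
  simp only at hky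
  rw [← hky]
  have hyx : (y : G) * x * (y : G)⁻¹ = x := by
    rw [hxc y y.2, mul_inv_cancel_right]
  have : (k : G) * (y : G) * x * ((k : G) * (y : G))⁻¹ * x⁻¹ =
      (k : G) * (x * (k : G)⁻¹ * x⁻¹) := by
    calc (k : G) * (y : G) * x * ((k : G) * (y : G))⁻¹ * x⁻¹
        = (k : G) * ((y : G) * x * (y : G)⁻¹) * (k : G)⁻¹ * x⁻¹ := by group
      _ = (k : G) * x * (k : G)⁻¹ * x⁻¹ := by rw [hyx]
      _ = (k : G) * (x * (k : G)⁻¹ * x⁻¹) := by group
  rw [this]
  exact K.mul_mem k.2 (hKn.conj_mem _ (K.inv_mem k.2) x)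

end Cfsg.Agent.Lead
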