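import Mathlib

/-!
Helper library (lead): computational facts about the alternating group of degree five, used for
the order of a group with the involution pattern of the Hall-Janko group.
-/

set_option autoImplicit false

namespace Cfsg.Agent.Lead.J2

abbrev A5 := alternatingGroup (Fin 5)

theorem a5_card : Nat.card A5 = 60 := by
  rw [Nat.card_eq_fintype_card]
  decide +kernel

/-- Pairs `(a, b)`: `a` an involution, `b` with `b ^ 2 = 1`, and `a * b` of odd order. -/
theorem a5_pairs :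
    (Finset.univ.filter (fun p : A5 × A5 =>
      p.1 ≠ 1 ∧ p.1 ^ 2 = 1 ∧ p.2 ^ 2 = 1 ∧ (p.1 * p.2) ^ 15 = 1)).card = 195 := by
  decide +kernel

theorem a5_invol : (Finset.univ.filter (fun a : A5 => a ≠ 1 ∧ a ^ 2 = 1)).card = 15 := by
  decide +kernel

/-- An involution commutes with exactly three involutions. -/
theorem a5_comm : ∀ y : A5, y ≠ 1 → y ^ 2 = 1 →
    (Finset.univ.filter (fun x : A5 => x ≠ 1 ∧ x ^ 2 = 1 ∧ x * y = y * x)).card = 3 := by
  decide +kernel

theorem a5_five : ∃ g : A5, g ^ 5 = 1 ∧ g ≠ 1 := by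
  decide +kernel

theorem a5_pow_fifteen (x : A5) (k : ℕ) (hk : Odd k) (hx : x ^ k = 1) : x ^ 15 = 1 := by
  have h1 : orderOf x ∣ k := orderOf_dvd_of_pow_eq_one hx
  have h2 : orderOf x ∣ 60 := by
    have := orderOf_dvd_natCard x
    rwa [a5_card] at this
  have h3 : Odd (orderOf x) := by
    obtain ⟨c, hc⟩ := h1
    rw [hc] at hk
    exact (Nat.odd_mul.mp hk).1
  have h4 : orderOf x ∣ 15 := by
    have h5 : Nat.Coprime (orderOf x) 4 := by
      have : Nat.Coprime (orderOf x) 2 := (Nat.coprime_two_right).mpr h3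
      have h6 : Nat.Coprime (orderOf x) (2 ^ 2) := Nat.Coprime.pow_right 2 this
      simpa using h6
    have h7 : orderOf x ∣ 4 * 15 := by simpa using h2
    exact h5.dvd_of_dvd_mul_left h7
  exact orderOf_dvd_iff_pow_eq_one.mp h4

theorem a5_invol' : Nat.card {a : A5 // a ≠ 1 ∧ a * a = 1} = 15 := by
  rw [Nat.card_eq_fintype_card, Fintype.card_subtype]
  decide +kernel

theorem a5_comm' : ∀ y : A5, y ≠ 1 → y * y = 1 →
    Nat.card {x : A5 // x ≠ 1 ∧ x * x = 1 ∧ x * y = y * x} = 3 := by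
  intro y h1 h2
  rw [Nat.card_eq_fintype_card, Fintype.card_subtype]
  revert y
  decide +kernel

theorem a5_pairs' :
    Nat.card {p : A5 × A5 // p.1 ≠ 1 ∧ p.1 * p.1 = 1 ∧ p.2 * p.2 = 1 ∧ (p.1 * p.2) ^ 15 = 1} =
      195 := by
  rw [Nat.card_eq_fintype_card, Fintype.card_subtype]
  decide +kernel

end Cfsg.Agent.Lead.J2
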