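import Mathlib
import Cfsg.Agent.Helper3.LargeXB
import Cfsg.Agent.Lead.J2A5
import Cfsg.Agent.Helper2.ClassCount

/-!
Helper library (lead): counting involutions in an extraspecial group of order 32 admitting an
automorphism of order five which fixes only the centre.
-/

set_option autoImplicit false

namespace Cfsg.Agent.Lead.J2

open Cfsg.Agent.Helper3.LargeX

variable {G : Type*} [Group G]

/-- A finite set closed under left multiplication by a four-group has size divisible by four. -/
theorem four_dvd_card [DecidableEq G] (u z : G) (hu : u * u = 1) (hz : z * z = 1)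
    (huz : u * z = z * u) (hu1 : u ≠ 1) (hz1 : z ≠ 1) (hne : u ≠ z) :
    ∀ (n : ℕ) (T : Finset G), T.card = n → (∀ x ∈ T, u * x ∈ T) → (∀ x ∈ T, z * x ∈ T) →
      4 ∣ n := by
  intro n
  induction n using Nat.strong_induction_on with
  | _ n ih =>
    intro T hT hTu hTz
    rcases T.eq_empty_or_nonempty with rfl | ⟨y, hy⟩
    · simp at hT; subst hT; exact dvd_zero 4
    · have huu : ∀ x : G, u * (u * x) = x := fun x => by rw [← mul_assoc, hu, one_mul]
      have hzz : ∀ x : G, z * (z * x) = x := fun x => by rw [← mul_assoc, hz, one_mul]
      have hzu : ∀ x : G, z * (u * x) = u * (z * x) := fun x => by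
        rw [← mul_assoc, ← mul_assoc, huz]
      have huz1 : u * z ≠ 1 := by
        intro h1
        apply hne
        calc u = u * (z * z) := by rw [hz, mul_one]
          _ = (u * z) * z := by rw [mul_assoc]
          _ = z := by rw [h1, one_mul]
      set O : Finset G := {y, u * y, z * y, u * (z * y)} with hO
      have hOT : O ⊆ T := by
        intro x hx
        simp only [hO, Finset.mem_insert, Finset.mem_singleton] at hx
        rcases hx with rfl | rfl | rfl | rfl
        · exact hy
        · exact hTu _ hy
        · exact hTz _ hy
        · exact hTu _ (hTz _ hy)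
      have e1 : y ≠ u * y := fun e => hu1 (by
        have : u * y = 1 * y := by rw [one_mul]; exact e.symm
        exact mul_right_cancel this)
      have e2 : y ≠ z * y := fun e => hz1 (by
        have : z * y = 1 * y := by rw [one_mul]; exact e.symm
        exact mul_right_cancel this)
      have e3 : y ≠ u * (z * y) := fun e => huz1 (by
        have : (u * z) * y = 1 * y := by rw [one_mul, mul_assoc]; exact e.symm
        exact mul_right_cancel this)
      have e4 : u * y ≠ z * y := fun e => hne (mul_right_cancel e)
      have e5 : u * y ≠ u * (z * y) := fun e => e2 (mul_left_cancel e)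
      have e6 : z * y ≠ u * (z * y) := fun e => hu1 (by
        have : u * (z * y) = 1 * (z * y) := by rw [one_mul]; exact e.symm
        exact mul_right_cancel this)
      have hOcard : O.card = 4 := by
        rw [hO, Finset.card_insert_of_notMem, Finset.card_insert_of_notMem,
          Finset.card_insert_of_notMem, Finset.card_singleton]
        · simp only [Finset.mem_singleton]; exact e6
        · simp only [Finset.mem_insert, Finset.mem_singleton]
          rintro (e | e)
          · exact e4 e
          · exact e5 e
        · simp only [Finset.mem_insert, Finset.mem_singleton]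
          rintro (e | e | e)
          · exact e1 e
          · exact e2 e
          · exact e3 e
      have hclu : ∀ x ∈ O, u * x ∈ O := by
        intro x hx
        simp only [hO, Finset.mem_insert, Finset.mem_singleton] at hx ⊢
        rcases hx with rfl | rfl | rfl | rfl
        · right; left; rfl
        · left; exact huu _
        · right; right; right; rfl
        · right; right; left; exact huu _
      have hclz : ∀ x ∈ O, z * x ∈ O := by
        intro x hx
        simp only [hO, Finset.mem_insert, Finset.mem_singleton] at hx ⊢
        rcases hx with rfl | rfl | rfl | rfl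
        · right; right; left; rfl
        · right; right; right; exact hzu _
        · left; exact hzz _
        · right; left; rw [← hzu, hzz]
      have hle := Finset.card_le_card hOT
      have h1 : (T \ O).card = n - 4 := by
        rw [Finset.card_sdiff_of_subset hOT, hT, hOcard]
      have h2 := ih (n - 4) (by omega) (T \ O) h1 (by
        intro x hx
        rw [Finset.mem_sdiff] at hx ⊢
        refine ⟨hTu x hx.1, fun hO' => hx.2 ?_⟩
        have := hclu _ hO'
        rwa [huu] at this) (by
        intro x hx
        rw [Finset.mem_sdiff] at hx ⊢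
        refine ⟨hTz x hx.1, fun hO' => hx.2 ?_⟩
        have := hclz _ hO'
        rwa [hzz] at this)
      omega

/-- Conjugation by an element of order dividing five on an invariant finite set: the number of
points is congruent to the number of fixed points. -/
theorem card_modEq_conj_fixed [DecidableEq G] (g : G) (hg : g ^ 5 = 1) (s : Finset G)
    (hs : ∀ x ∈ s, g * x * g⁻¹ ∈ s) :
    s.card ≡ (s.filter (fun x => g * x * g⁻¹ = x)).card [MOD 5] := by
  have : Fact (Nat.Prime 5) := ⟨by norm_num⟩
  let f : Function.End ↥s := fun x => ⟨g * x * g⁻¹, hs x x.2⟩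
  have hiter : ∀ (k : ℕ) (x : ↥s), (((f ^ k) x : ↥s) : G) = g ^ k * x * (g ^ k)⁻¹ := by
    intro k
    induction k with
    | zero => intro x; simp; rfl
    | succ k ih =>
      intro x
      rw [pow_succ']
      show g * (((f ^ k) x : ↥s) : G) * g⁻¹ = _
      rw [ih x, pow_succ']
      group
  have hf : f ^ 5 ^ 1 = 1 := by
    funext x
    apply Subtype.ext
    rw [pow_one, hiter, hg]
    simp
    rfl
  have h := Equiv.Perm.card_fixedPoints_modEq (p := 5) (n := 1) hf
  have e : ↥(Function.fixedPoints f) ≃ ↥(s.filter (fun x => g * x * g⁻¹ = x)) :=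
    { toFun := fun x => ⟨x.1.1, Finset.mem_filter.mpr ⟨x.1.2, congrArg Subtype.val x.2⟩⟩
      invFun := fun y => ⟨⟨y.1, (Finset.mem_filter.mp y.2).1⟩,
        Subtype.ext (Finset.mem_filter.mp y.2).2⟩
      left_inv := fun x => rfl
      right_inv := fun y => rfl }
  have h3 : Fintype.card ↥(Function.fixedPoints f) =
      (s.filter (fun x => g * x * g⁻¹ = x)).card := by
    rw [← Nat.card_eq_fintype_card, Nat.card_congr e, Nat.card_eq_fintype_card, Fintype.card_coe]
  rw [Fintype.card_coe, h3] at h
  exact h

/-- The noncentral involutions of the extraspecial group `Q` of order 32, acted on by an element of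
order five without fixed points outside the centre: there are ten of them, and two of them
commute only if they are equal modulo the centre. -/
theorem card_noncentral_invol [Finite G] {Q : Subgroup G} {z : G} (h : LX Q z)
    (hsq : ∀ a ∈ Q, a * a = 1 ∨ a * a = z) (hQ32 : Nat.card Q = 32) (g : G) (hg5 : g ^ 5 = 1)
    (hgz : g * z = z * g) (hgQ : ¬ ∀ q ∈ Q, g * q = q * g) :
    Nat.card {x : G // x ∈ Q ∧ x ≠ 1 ∧ x ≠ z ∧ x * x = 1} = 10 ∧
    ∀ u u' : G, u ∈ Q → u ≠ 1 → u ≠ z → u * u = 1 → u' ∈ Q → u' ≠ 1 → u' ≠ z → u' * u' = 1 →
      u * u' = u' * u → u' = u ∨ u' = u * z := by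
  classical
  have : Fintype G := Fintype.ofFinite G
  set QF : Finset G := Finset.univ.filter (fun x => x ∈ Q) with hQF
  have hQFcard : QF.card = 32 := by
    rw [← hQ32]
    exact (Cfsg.Agent.Helper2.natCard_subtype_eq_card_filter (fun x => x ∈ Q)).symm
  have hmemQF : ∀ x, x ∈ QF ↔ x ∈ Q := fun x => by simp [hQF]
  have hgn : ∀ q ∈ Q, g * q * g⁻¹ ∈ Q := h.norm g hgz
  have hzz : z * z = 1 := h.z_sq
  have hz1 : z ≠ 1 := h.z_ne
  -- Step A: the fixed points of `g` on `Q`.
  have hfix : ∀ q ∈ Q, g * q = q * g → q = 1 ∨ q = z := by
    set D : Subgroup G := Q ⊓ Subgroup.centralizer {g} with hD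
    have hDQ : D ≤ Q := inf_le_left
    have hDdvd : Nat.card D ∣ 32 := hQ32 ▸ Subgroup.card_dvd_of_le hDQ
    have hmod := card_modEq_conj_fixed g hg5 QF
      (fun x hx => (hmemQF _).mpr (hgn x ((hmemQF x).mp hx)))
    have hDcard : Nat.card D = (Finset.univ.filter (fun x : G => x ∈ D)).card :=
      Cfsg.Agent.Helper2.natCard_subtype_eq_card_filter (fun x => x ∈ D)
    have hDF : (QF.filter (fun x => g * x * g⁻¹ = x)).card = Nat.card D := by
      rw [hDcard]
      congr 1
      ext x
      simp only [Finset.mem_filter, hmemQF, Finset.mem_univ, true_and, hD, Subgroup.mem_inf,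
        Subgroup.mem_centralizer_singleton_iff]
      constructor
      · rintro ⟨h1, h2⟩
        refine ⟨h1, ?_⟩
        calc x * g = (g * x * g⁻¹) * g := by rw [h2]
          _ = g * x := by group
      · rintro ⟨h1, h2⟩
        refine ⟨h1, ?_⟩
        calc g * x * g⁻¹ = (x * g) * g⁻¹ := by rw [h2]
          _ = x := by group
    rw [hQFcard, hDF] at hmod
    have hD2 : Nat.card D = 2 ∨ Nat.card D = 32 := by
      have hmem : Nat.card D ∈ Nat.divisors 32 := Nat.mem_divisors.mpr ⟨hDdvd, by norm_num⟩
      have hdiv : Nat.divisors 32 = {1, 2, 4, 8, 16, 32} := by decide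
      rw [hdiv] at hmem
      simp only [Finset.mem_insert, Finset.mem_singleton] at hmem
      rcases hmem with e | e | e | e | e | e
      · rw [e] at hmod; exact absurd hmod (by decide)
      · left; exact e
      · rw [e] at hmod; exact absurd hmod (by decide)
      · rw [e] at hmod; exact absurd hmod (by decide)
      · rw [e] at hmod; exact absurd hmod (by decide)
      · right; exact e
    rcases hD2 with hD2 | hD32
    · intro q hq hgq
      by_contra hcon
      push Not at hcon
      have h1D : (1 : G) ∈ D := one_mem _
      have hzD : z ∈ D :=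
        ⟨h.z_mem, Subgroup.mem_centralizer_singleton_iff.mpr hgz.symm⟩
      have hqD : q ∈ D := ⟨hq, Subgroup.mem_centralizer_singleton_iff.mpr hgq.symm⟩
      have h3 : 2 < Nat.card D := by
        rw [hDcard, Finset.two_lt_card_iff]
        exact ⟨1, z, q, by simp [h1D], by simp [hzD], by simp [hqD], hz1.symm, hcon.1.symm,
          hcon.2.symm⟩
      omega
    · exfalso
      apply hgQ
      have hDeq : D = Q := Subgroup.eq_of_le_of_card_ge hDQ (by rw [hD32, hQ32])
      intro q hq
      have hq' : q ∈ D := hDeq ▸ hq
      exact (Subgroup.mem_centralizer_singleton_iff.mp hq'.2).symm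
  -- Step B: centralizers of noncentral elements have order sixteen.
  have hcent16 : ∀ x ∈ Q, x ≠ 1 → x ≠ z →
      (QF.filter (fun q => q * x = x * q)).card = 16 ∧
      (QF.filter (fun q => ¬ q * x = x * q)).card = 16 := by
    intro x hx hx1 hxz
    obtain ⟨q0, hq0, hq0x⟩ := h.exists_noncomm hx hx1 hxz
    have hsum := Finset.card_filter_add_card_filter_not (s := QF) (fun q => q * x = x * q)
    have hbij : (QF.filter (fun q => q * x = x * q)).card =
        (QF.filter (fun q => ¬ q * x = x * q)).card := by
      apply Finset.card_bij (fun q _ => q0 * q)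
      · intro q hq
        simp only [Finset.mem_filter, hmemQF] at hq ⊢
        refine ⟨Q.mul_mem hq0 hq.1, ?_⟩
        apply h.not_comm_of_conj
        calc q0 * q * x * (q0 * q)⁻¹ = q0 * (q * x * q⁻¹) * q0⁻¹ := by group
          _ = q0 * (x * q * q⁻¹) * q0⁻¹ := by rw [hq.2]
          _ = q0 * x * q0⁻¹ := by group
          _ = z * x := hq0x
      · intro a _ b _ hab
        exact mul_left_cancel hab
      · intro b hb
        simp only [Finset.mem_filter, hmemQF] at hb
        have hbx : b * x * b⁻¹ = z * x := (h.comm_or hb.1 hx).resolve_left hb.2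
        refine ⟨q0⁻¹ * b, ?_, by group⟩
        simp only [Finset.mem_filter, hmemQF]
        exact ⟨Q.mul_mem (Q.inv_mem hq0) hb.1, h.mul_comm_of_conj hq0 hq0x hbx⟩
    rw [hQFcard] at hsum
    omega
  -- Step C: there is a noncentral involution.
  have hSne : ∃ u, u ∈ Q ∧ u ≠ 1 ∧ u ≠ z ∧ u * u = 1 := by
    have hlt : ({1, z} : Finset G).card < QF.card := by
      rw [hQFcard]
      exact lt_of_le_of_lt Finset.card_le_two (by norm_num)
    obtain ⟨x, hxQF, hxn⟩ := Finset.exists_mem_notMem_of_card_lt_card hlt
    have hxQ : x ∈ Q := (hmemQF x).mp hxQF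
    simp only [Finset.mem_insert, Finset.mem_singleton, not_or] at hxn
    obtain ⟨hx1, hxz⟩ := hxn
    rcases hsq x hxQ with hxx | hxx
    · exact ⟨x, hxQ, hx1, hxz, hxx⟩
    · obtain ⟨h16, -⟩ := hcent16 x hxQ hx1 hxz
      have hlt2 : ({1, z, x, z * x} : Finset G).card <
          (QF.filter (fun q => q * x = x * q)).card := by
        rw [h16]
        exact lt_of_le_of_lt Finset.card_le_four (by norm_num)
      obtain ⟨y, hyF, hyn⟩ := Finset.exists_mem_notMem_of_card_lt_card hlt2
      simp only [Finset.mem_filter, hmemQF] at hyF
      simp only [Finset.mem_insert, Finset.mem_singleton, not_or] at hyn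
      obtain ⟨hy1, hyz, hyx, hyzx⟩ := hyn
      obtain ⟨hyQ, hyc⟩ := hyF
      rcases hsq y hyQ with hyy | hyy
      · exact ⟨y, hyQ, hy1, hyz, hyy⟩
      · refine ⟨x * y, Q.mul_mem hxQ hyQ, ?_, ?_, ?_⟩
        · intro e
          apply hyzx
          calc y = (z * (x * x)) * y := by rw [hxx, hzz, one_mul]
            _ = z * x * (x * y) := by group
            _ = z * x := by rw [e, mul_one]
        · intro e
          apply hyx
          have : x * y = x * x := by rw [e, hxx]
          exact mul_left_cancel this
        · calc x * y * (x * y) = x * (y * x) * y := by group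
            _ = x * (x * y) * y := by rw [hyc]
            _ = (x * x) * (y * y) := by group
            _ = 1 := by rw [hxx, hyy, hzz]
  set S : Finset G := QF.filter (fun x => x ≠ 1 ∧ x ≠ z ∧ x * x = 1) with hS
  have hScard : Nat.card {x : G // x ∈ Q ∧ x ≠ 1 ∧ x ≠ z ∧ x * x = 1} = S.card := by
    rw [Cfsg.Agent.Helper2.natCard_subtype_eq_card_filter]
    congr 1
    ext x
    simp [hS, hQF]
  have hmemS : ∀ x, x ∈ S ↔ x ∈ Q ∧ x ≠ 1 ∧ x ≠ z ∧ x * x = 1 := fun x => by
    simp [hS, hQF]
  -- Step D: the count relative to a fixed noncentral involution.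
  have key : ∀ u, u ∈ Q → u ≠ 1 → u ≠ z → u * u = 1 →
      S.card = 10 ∧ ∀ u' ∈ S, u * u' = u' * u → u' = u ∨ u' = u * z := by
    intro u huQ hu1 huz huu
    have hzu : z * u = u * z := (h.z_comm u huQ).symm
    obtain ⟨hC16, hA16⟩ := hcent16 u huQ hu1 huz
    set A : Finset G := QF.filter (fun q => ¬ q * u = u * q) with hA
    set C : Finset G := QF.filter (fun q => q * u = u * q) with hC
    have hmemA : ∀ x, x ∈ A ↔ x ∈ Q ∧ ¬ x * u = u * x := fun x => by simp [hA, hQF]
    have hmemC : ∀ x, x ∈ C ↔ x ∈ Q ∧ x * u = u * x := fun x => by simp [hC, hQF]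
    -- the square of `u * y` for `y` not commuting with `u`
    have hsqA : ∀ y, y ∈ Q → ¬ y * u = u * y → (u * y) * (u * y) = z * (y * y) := by
      intro y hyQ hyu
      have hyc : y * u * y⁻¹ = z * u := (h.comm_or hyQ huQ).resolve_left hyu
      have hyu' : y * u = z * u * y := by
        calc y * u = (y * u * y⁻¹) * y := by group
          _ = z * u * y := by rw [hyc]
      calc u * y * (u * y) = u * (y * u) * y := by group
        _ = u * (z * u * y) * y := by rw [hyu']
        _ = u * (z * u) * (y * y) := by group
        _ = u * (u * z) * (y * y) := by rw [hzu]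
        _ = (u * u) * z * (y * y) := by group
        _ = z * (y * y) := by rw [huu, one_mul]
    have hA1 : (A.filter (fun y => y * y = 1)).card = 8 := by
      have hsum := Finset.card_filter_add_card_filter_not (s := A) (fun y => y * y = 1)
      have hbij : (A.filter (fun y => y * y = 1)).card =
          (A.filter (fun y => ¬ y * y = 1)).card := by
        apply Finset.card_bij (fun y _ => u * y)
        · intro y hy
          simp only [Finset.mem_filter, hmemA] at hy ⊢
          obtain ⟨⟨hyQ, hyu⟩, hyy⟩ := hy
          refine ⟨⟨Q.mul_mem huQ hyQ, ?_⟩, ?_⟩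
          · intro e
            apply hyu
            have : u * (y * u) = u * (u * y) := by rw [← mul_assoc, e]
            exact mul_left_cancel this
          · rw [hsqA y hyQ hyu, hyy, mul_one]
            exact hz1
        · intro a _ b _ hab
          exact mul_left_cancel hab
        · intro b hb
          simp only [Finset.mem_filter, hmemA] at hb
          obtain ⟨⟨hbQ, hbu⟩, hbb⟩ := hb
          have hbb' : b * b = z := (hsq b hbQ).resolve_left hbb
          refine ⟨u * b, ?_, by rw [← mul_assoc, huu, one_mul]⟩
          simp only [Finset.mem_filter, hmemA]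
          refine ⟨⟨Q.mul_mem huQ hbQ, ?_⟩, ?_⟩
          · intro e
            apply hbu
            have : u * (b * u) = u * (u * b) := by rw [← mul_assoc, e]
            exact mul_left_cancel this
          · rw [hsqA b hbQ hbu, hbb', hzz]
      rw [hA16] at hsum
      omega
    set T : Finset G :=
      C.filter (fun y => y ≠ 1 ∧ y ≠ z ∧ y ≠ u ∧ y ≠ u * z ∧ y * y = 1) with hT
    have hmemT : ∀ y, y ∈ T ↔ (y ∈ Q ∧ y * u = u * y) ∧
        y ≠ 1 ∧ y ≠ z ∧ y ≠ u ∧ y ≠ u * z ∧ y * y = 1 := fun y => by
      simp only [hT, Finset.mem_filter, hmemC]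
    have huz1 : u * z ≠ 1 := by
      intro e
      apply huz
      calc u = u * (z * z) := by rw [hzz, mul_one]
        _ = (u * z) * z := by rw [mul_assoc]
        _ = z := by rw [e, one_mul]
    have hT4 : 4 ∣ T.card := by
      refine four_dvd_card u z huu hzz hzu.symm hu1 hz1 huz T.card T rfl ?_ ?_
      · intro y hy
        rw [hmemT] at hy ⊢
        obtain ⟨⟨hyQ, hyu⟩, hy1, hyz, hyu', hyuz, hyy⟩ := hy
        refine ⟨⟨Q.mul_mem huQ hyQ, by rw [mul_assoc, hyu]⟩, ?_, ?_, ?_, ?_, ?_⟩
        · intro e
          apply hyu'
          have : u * y = u * u := by rw [e, huu]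
          exact mul_left_cancel this
        · intro e
          apply hyuz
          calc y = (u * u) * y := by rw [huu, one_mul]
            _ = u * (u * y) := by rw [mul_assoc]
            _ = u * z := by rw [e]
        · intro e
          apply hy1
          have : u * y = u * 1 := by rw [e, mul_one]
          exact mul_left_cancel this
        · intro e
          exact hyz (mul_left_cancel e)
        · calc u * y * (u * y) = u * (y * u) * y := by group
            _ = u * (u * y) * y := by rw [hyu]
            _ = (u * u) * (y * y) := by group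
            _ = 1 := by rw [huu, hyy, one_mul]
      · intro y hy
        rw [hmemT] at hy ⊢
        obtain ⟨⟨hyQ, hyu⟩, hy1, hyz, hyu', hyuz, hyy⟩ := hy
        have hzy : z * y = y * z := (h.z_comm y hyQ).symm
        refine ⟨⟨Q.mul_mem h.z_mem hyQ, ?_⟩, ?_, ?_, ?_, ?_, ?_⟩
        · calc z * y * u = z * (y * u) := by group
            _ = z * (u * y) := by rw [hyu]
            _ = (z * u) * y := by group
            _ = (u * z) * y := by rw [hzu]
            _ = u * (z * y) := by group
        · intro e
          apply hyz
          have : z * y = z * z := by rw [e, hzz]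
          exact mul_left_cancel this
        · intro e
          apply hy1
          have : z * y = z * 1 := by rw [e, mul_one]
          exact mul_left_cancel this
        · intro e
          apply hyuz
          calc y = (z * z) * y := by rw [hzz, one_mul]
            _ = z * (z * y) := by rw [mul_assoc]
            _ = z * u := by rw [e]
            _ = u * z := hzu
        · intro e
          apply hyu'
          rw [← hzu] at e
          exact mul_left_cancel e
        · calc z * y * (z * y) = z * (y * z) * y := by group
            _ = z * (z * y) * y := by rw [hzy]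
            _ = (z * z) * (y * y) := by group
            _ = 1 := by rw [hzz, hyy, one_mul]
    have hT12 : T.card ≤ 12 := by
      have hF : ({1, z, u, u * z} : Finset G) ⊆ C := by
        intro x hx
        simp only [Finset.mem_insert, Finset.mem_singleton] at hx
        rw [hmemC]
        rcases hx with rfl | rfl | rfl | rfl
        · exact ⟨one_mem _, by rw [one_mul, mul_one]⟩
        · exact ⟨h.z_mem, hzu⟩
        · exact ⟨huQ, rfl⟩
        · refine ⟨Q.mul_mem huQ h.z_mem, ?_⟩
          calc u * z * u = u * (z * u) := by group
            _ = u * (u * z) := by rw [hzu]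
      have hFcard : ({1, z, u, u * z} : Finset G).card = 4 := by
        rw [Finset.card_insert_of_notMem, Finset.card_insert_of_notMem,
          Finset.card_insert_of_notMem, Finset.card_singleton]
        · simp only [Finset.mem_singleton]
          intro e
          apply hz1
          have : u * 1 = u * z := by rw [mul_one]; exact e
          exact (mul_left_cancel this).symm
        · simp only [Finset.mem_insert, Finset.mem_singleton]
          rintro (e | e)
          · exact huz e.symm
          · apply hu1
            have : 1 * z = u * z := by rw [one_mul]; exact e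
            exact (mul_right_cancel this).symm
        · simp only [Finset.mem_insert, Finset.mem_singleton]
          rintro (e | e | e)
          · exact hz1 e.symm
          · exact hu1 e.symm
          · exact huz1 e.symm
      have hsub : T ⊆ C \ ({1, z, u, u * z} : Finset G) := by
        intro y hy
        rw [Finset.mem_sdiff]
        have hy' := (hmemT y).mp hy
        refine ⟨(hmemC y).mpr hy'.1, ?_⟩
        simp only [Finset.mem_insert, Finset.mem_singleton, not_or]
        exact ⟨hy'.2.1, hy'.2.2.1, hy'.2.2.2.1, hy'.2.2.2.2.1⟩
      have := Finset.card_le_card hsub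
      rw [Finset.card_sdiff_of_subset hF, hC16, hFcard] at this
      omega
    -- decomposition of `S`
    have hSA : S.filter (fun x => ¬ x * u = u * x) = A.filter (fun y => y * y = 1) := by
      ext x
      simp only [Finset.mem_filter, hmemS, hmemA]
      constructor
      · rintro ⟨⟨hxQ, -, -, hxx⟩, hxu⟩
        exact ⟨⟨hxQ, hxu⟩, hxx⟩
      · rintro ⟨⟨hxQ, hxu⟩, hxx⟩
        refine ⟨⟨hxQ, ?_, ?_, hxx⟩, hxu⟩
        · rintro rfl
          exact hxu (by rw [one_mul, mul_one])
        · rintro rfl
          exact hxu hzu
    have huzsq : u * z * (u * z) = 1 := by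
      calc u * z * (u * z) = u * (z * u) * z := by group
        _ = u * (u * z) * z := by rw [hzu]
        _ = (u * u) * (z * z) := by group
        _ = 1 := by rw [huu, hzz, one_mul]
    have hSC : S.filter (fun x => x * u = u * x) = insert u (insert (u * z) T) := by
      ext x
      simp only [Finset.mem_filter, hmemS, Finset.mem_insert, hmemT]
      constructor
      · rintro ⟨⟨hxQ, hx1, hxz, hxx⟩, hxu⟩
        by_cases e1 : x = u
        · left; exact e1
        · by_cases e2 : x = u * z
          · right; left; exact e2
          · right; right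
            exact ⟨⟨hxQ, hxu⟩, hx1, hxz, e1, e2, hxx⟩
      · rintro (rfl | rfl | ⟨⟨hxQ, hxu⟩, hx1, hxz, -, -, hxx⟩)
        · exact ⟨⟨huQ, hu1, huz, huu⟩, rfl⟩
        · refine ⟨⟨Q.mul_mem huQ h.z_mem, huz1, ?_, huzsq⟩, ?_⟩
          · intro e
            apply hu1
            have : u * z = 1 * z := by rw [one_mul]; exact e
            exact mul_right_cancel this
          · calc u * z * u = u * (z * u) := by group
              _ = u * (u * z) := by rw [hzu]
        · exact ⟨⟨hxQ, hx1, hxz, hxx⟩, hxu⟩
    have hSsum := Finset.card_filter_add_card_filter_not (s := S) (fun x => x * u = u * x)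
    have hSCcard : (S.filter (fun x => x * u = u * x)).card = T.card + 2 := by
      rw [hSC, Finset.card_insert_of_notMem, Finset.card_insert_of_notMem]
      · intro hmem
        exact ((hmemT _).mp hmem).2.2.2.2.1 rfl
      · simp only [Finset.mem_insert, not_or]
        refine ⟨?_, fun hmem => ((hmemT _).mp hmem).2.2.2.1 rfl⟩
        intro e
        apply hz1
        have : u * 1 = u * z := by rw [mul_one]; exact e
        exact (mul_left_cancel this).symm
    -- divisibility by five
    have h5 : 5 ∣ S.card := by
      have hmod := card_modEq_conj_fixed g hg5 S (by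
        intro x hx
        rw [hmemS] at hx ⊢
        obtain ⟨hxQ, hx1, hxz, hxx⟩ := hx
        refine ⟨hgn x hxQ, ?_, ?_, ?_⟩
        · intro e
          apply hx1
          calc x = g⁻¹ * (g * x * g⁻¹) * g := by group
            _ = 1 := by rw [e]; group
        · intro e
          apply hxz
          calc x = g⁻¹ * (g * x * g⁻¹) * g := by group
            _ = g⁻¹ * (z * g) := by rw [e]; group
            _ = g⁻¹ * (g * z) := by rw [hgz]
            _ = z := by group
        · calc g * x * g⁻¹ * (g * x * g⁻¹) = g * (x * x) * g⁻¹ := by group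
            _ = 1 := by rw [hxx]; group)
      have hempty : S.filter (fun x => g * x * g⁻¹ = x) = ∅ := by
        rw [Finset.filter_eq_empty_iff]
        intro x hx e
        rw [hmemS] at hx
        have : g * x = x * g := by
          calc g * x = (g * x * g⁻¹) * g := by group
            _ = x * g := by rw [e]
        rcases hfix x hx.1 this with e1 | e1
        · exact hx.2.1 e1
        · exact hx.2.2.1 e1
      rw [hempty, Finset.card_empty] at hmod
      exact (Nat.modEq_zero_iff_dvd).mp hmod
    rw [hSCcard, hSA, hA1] at hSsum
    obtain ⟨a, ha⟩ := hT4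
    obtain ⟨b, hb⟩ := h5
    have hT0 : T.card = 0 := by omega
    refine ⟨by omega, ?_⟩
    intro u' hu' hcomm
    have hmem : u' ∈ S.filter (fun x => x * u = u * x) := by
      rw [Finset.mem_filter]
      exact ⟨hu', hcomm.symm⟩
    rw [hSC, Finset.card_eq_zero.mp hT0] at hmem
    simpa using hmem
  obtain ⟨u0, hu0Q, hu01, hu0z, hu0u0⟩ := hSne
  refine ⟨by rw [hScard]; exact (key u0 hu0Q hu01 hu0z hu0u0).1, ?_⟩
  intro u u' huQ hu1 huz huu hu'Q hu'1 hu'z hu'u' hcomm
  exact (key u huQ hu1 huz huu).2 u' ((hmemS u').mpr ⟨hu'Q, hu'1, hu'z, hu'u'⟩) hcomm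

end Cfsg.Agent.Lead.J2
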