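import Mathlib
import Cfsg.Prelude.Def_TwoFusion
import Cfsg.Agent.Lead.J2Q
import Cfsg.Agent.Lead.LargeSetting
import Cfsg.Agent.Helper2.ThompsonOrder
import Cfsg.Agent.Helper1.Coprime

/-!
Helper library (lead): the order of a group with two classes of involutions whose centralizers
have the shape found in the Hall-Janko group, via the order formula of Thompson.
-/

set_option autoImplicit false

namespace Cfsg.Agent.Lead.J2

open Cfsg.Agent.Helper3.LargeX

variable {G : Type*} [Group G]

theorem ord2_iff {x : G} : orderOf x = 2 ↔ x ≠ 1 ∧ x * x = 1 := by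
  have : Fact (Nat.Prime 2) := ⟨Nat.prime_two⟩
  rw [orderOf_eq_prime_iff, pow_two]
  exact and_comm

theorem isConj_ord2 {x y : G} (h : IsConj x y) (hy : orderOf y = 2) : orderOf x = 2 := by
  obtain ⟨c, hc⟩ := isConj_iff.mp h
  rw [← hy, ← hc, Cfsg.Agent.Helper2.orderOf_conj_eq]

/-- An involution in the cyclic group generated by the product of two involutions commutes with
both of them. -/
theorem comm_of_mem_zpowers {u v x : G} (hu : u * u = 1) (hv : v * v = 1) (hx : x * x = 1)
    (hmem : x ∈ Subgroup.zpowers (u * v)) : u * x = x * u ∧ v * x = x * v := by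
  obtain ⟨k, rfl⟩ := hmem
  have hui : u⁻¹ = u := inv_eq_of_mul_eq_one_left hu
  have hvi : v⁻¹ = v := inv_eq_of_mul_eq_one_left hv
  have hxi : ((u * v) ^ k)⁻¹ = (u * v) ^ k := inv_eq_of_mul_eq_one_left hx
  have h1 : u * (u * v) * u⁻¹ = (u * v)⁻¹ := by
    rw [mul_inv_rev, hui, hvi, ← mul_assoc, hu, one_mul]
  have h2 : v * (u * v) * v⁻¹ = (u * v)⁻¹ := by
    rw [mul_inv_rev, hui, hvi, mul_assoc, mul_assoc, hv, mul_one]
  have h3 : u * (u * v) ^ k * u⁻¹ = (u * v) ^ k := by
    rw [← conj_zpow, h1, inv_zpow, hxi]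
  have h4 : v * (u * v) ^ k * v⁻¹ = (u * v) ^ k := by
    rw [← conj_zpow, h2, inv_zpow, hxi]
  constructor
  · calc u * (u * v) ^ k = (u * (u * v) ^ k * u⁻¹) * u := by group
      _ = (u * v) ^ k * u := by rw [h3]
  · calc v * (u * v) ^ k = (v * (u * v) ^ k * v⁻¹) * v := by group
      _ = (u * v) ^ k * v := by rw [h4]

theorem natCard_conj_equiv (d : G) (P P' : G → Prop) (h : ∀ x, P x ↔ P' (d * x * d⁻¹)) :
    Nat.card {x // P x} = Nat.card {x // P' x} :=
  Nat.card_congr (Equiv.subtypeEquiv (MulAut.conj d).toEquiv (by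
    intro x
    simpa [MulAut.conj_apply] using h x))

theorem natCard_subgroup_equiv {H : Type*} [Group H] (B : Subgroup G) (e : B ≃* H)
    (P : G → Prop) (P' : H → Prop) (h : ∀ b : B, P b ↔ P' (e b)) :
    Nat.card {x : G // x ∈ B ∧ P x} = Nat.card {a : H // P' a} :=
  Nat.card_congr ((Equiv.subtypeSubtypeEquivSubtypeInter (fun x => x ∈ B) P).symm.trans
    (Equiv.subtypeEquiv e.toEquiv h))

/-- The number of conjugates of `a` commuting with `b` depends only on the class of `b`. -/
theorem natCard_class_comm (a b c : G) (hbc : IsConj b c) :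
    Nat.card {x : G // IsConj x a ∧ x * b = b * x} =
      Nat.card {x : G // IsConj x a ∧ x * c = c * x} := by
  obtain ⟨d, hd⟩ := isConj_iff.mp hbc
  apply natCard_conj_equiv d
  intro x
  have hconj : IsConj (d * x * d⁻¹) x := (isConj_iff.mpr ⟨d, rfl⟩ : IsConj x (d * x * d⁻¹)).symm
  constructor
  · rintro ⟨h1, h2⟩
    refine ⟨hconj.trans h1, ?_⟩
    rw [← hd]
    calc d * x * d⁻¹ * (d * b * d⁻¹) = d * (x * b) * d⁻¹ := by group
      _ = d * (b * x) * d⁻¹ := by rw [h2]
      _ = d * b * d⁻¹ * (d * x * d⁻¹) := by group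
  · rintro ⟨h1, h2⟩
    refine ⟨hconj.symm.trans h1, ?_⟩
    rw [← hd] at h2
    calc x * b = d⁻¹ * (d * x * d⁻¹ * (d * b * d⁻¹)) * d := by group
      _ = d⁻¹ * (d * b * d⁻¹ * (d * x * d⁻¹)) * d := by rw [h2]
      _ = b * x := by group

theorem coe_eq_iff {H : Type*} [Group H] (B : Subgroup G) (e : B ≃* H) (b c : B) :
    (b : G) = c ↔ e b = e c :=
  ⟨fun h => congrArg e (Subtype.ext h), fun h => congrArg Subtype.val (e.injective h)⟩

/-- The hypotheses on the two classes of involutions. -/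
structure Pat (z t : G) (Q V B : Subgroup G) : Prop where
  hz : orderOf z = 2
  ht : orderOf t = 2
  hzt : ¬ IsConj z t
  lx : LX Q z
  hsq : ∀ a ∈ Q, a * a = 1 ∨ a * a = z
  hQz : ∀ x ∈ Q, orderOf x = 2 → IsConj x z
  hCz : ∀ x, x * z = z * x → orderOf x = 2 → x ∉ Q → IsConj x t
  hVB : Cfsg.IsInternalDirectProduct V B (Subgroup.centralizer ({t} : Set G))
  hV2 : ∀ v ∈ V, v * v = 1
  htV : t ∈ V
  hBz : ∀ x ∈ B, orderOf x = 2 → IsConj x z
  hCt : ∀ x ∈ Subgroup.centralizer ({t} : Set G), orderOf x = 2 → x ∉ B → IsConj x t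

namespace Pat

variable {z t : G} {Q V B : Subgroup G}

theorem factA (p : Pat z t Q V B) (x : G) :
    (IsConj x z ∧ x * t = t * x) ↔ (x ∈ B ∧ x ≠ 1 ∧ x * x = 1) := by
  constructor
  · rintro ⟨hx, hxt⟩
    have h2 : orderOf x = 2 := isConj_ord2 hx p.hz
    refine ⟨?_, ord2_iff.mp h2⟩
    by_contra hxB
    have := p.hCt x (Subgroup.mem_centralizer_singleton_iff.mpr hxt) h2 hxB
    exact p.hzt (hx.symm.trans this)
  · rintro ⟨hxB, hx⟩
    have h2 : orderOf x = 2 := ord2_iff.mpr hx
    exact ⟨p.hBz x hxB h2, Subgroup.mem_centralizer_singleton_iff.mp (p.hVB.2.1 hxB)⟩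

theorem factQ (p : Pat z t Q V B) (x : G) :
    (IsConj x z ∧ x * z = z * x) ↔ (x ∈ Q ∧ x ≠ 1 ∧ x * x = 1) := by
  constructor
  · rintro ⟨hx, hxz⟩
    have h2 : orderOf x = 2 := isConj_ord2 hx p.hz
    refine ⟨?_, ord2_iff.mp h2⟩
    by_contra hxQ
    exact p.hzt (hx.symm.trans (p.hCz x hxz h2 hxQ))
  · rintro ⟨hxQ, hx⟩
    exact ⟨p.hQz x hxQ (ord2_iff.mpr hx), p.lx.z_comm x hxQ⟩

theorem factT (p : Pat z t Q V B) {x : G} (hx : IsConj x t) : x ∉ Q ∧ x ≠ 1 ∧ x * x = 1 := by
  have h2 : orderOf x = 2 := isConj_ord2 hx p.ht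
  refine ⟨fun hxQ => ?_, ord2_iff.mp h2⟩
  exact p.hzt ((p.hQz x hxQ h2).symm.trans hx)

theorem card_Ct [Finite G] (p : Pat z t Q V B) (hV : Nat.card V = 4) (e : B ≃* A5) :
    Nat.card (Subgroup.centralizer ({t} : Set G)) = 240 := by
  obtain ⟨-, -, hcomm, hinf, hsup⟩ := p.hVB
  have hBN : B ≤ Subgroup.normalizer (V : Set G) := by
    refine le_trans ?_ (Subgroup.centralizer_le_normalizer (V : Set G))
    intro b hb
    rw [Subgroup.mem_centralizer_iff]
    intro v hv
    exact hcomm v hv b hb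
  have h := Cfsg.Agent.Helper1.card_sup_of_le_normalizer hBN (by rw [inf_comm]; exact hinf)
  rw [hsup, hV, Nat.card_congr e.toEquiv, a5_card] at h
  exact h

theorem card_class_Ct (p : Pat z t Q V B) (e : B ≃* A5) :
    Nat.card {x : G // IsConj x z ∧ x * t = t * x} = 15 := by
  rw [Nat.card_congr (Equiv.subtypeEquivRight (p.factA)),
    natCard_subgroup_equiv B e (fun x => x ≠ 1 ∧ x * x = 1) (fun a => a ≠ 1 ∧ a * a = 1) ?_]
  · exact a5_invol'
  · intro b
    have h1 := coe_eq_iff B e b 1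
    have h2 := coe_eq_iff B e (b * b) 1
    rw [map_one] at h1 h2
    rw [map_mul] at h2
    exact and_congr (not_congr h1) h2

/-- A conjugate of `z` commuting with a conjugate of `t`: exactly three conjugates of `z` commute
with both. -/
theorem lemmaE (p : Pat z t Q V B) (e : B ≃* A5) (y w : G) (hy : IsConj y z) (hw : IsConj w t)
    (hyw : y * w = w * y) :
    Nat.card {x : G // IsConj x z ∧ x * y = y * x ∧ x * w = w * x} = 3 := by
  obtain ⟨d, hd⟩ := isConj_iff.mp hw
  set y' := d * y * d⁻¹ with hy'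
  have hy'z : IsConj y' z := ((isConj_iff.mpr ⟨d, rfl⟩ : IsConj y y').symm).trans hy
  have hy't : y' * t = t * y' := by
    rw [← hd, hy']
    calc d * y * d⁻¹ * (d * w * d⁻¹) = d * (y * w) * d⁻¹ := by group
      _ = d * (w * y) * d⁻¹ := by rw [hyw]
      _ = d * w * d⁻¹ * (d * y * d⁻¹) := by group
  obtain ⟨hy'B, hy'1, hy'2⟩ := (p.factA y').mp ⟨hy'z, hy't⟩
  have step1 : Nat.card {x : G // IsConj x z ∧ x * y = y * x ∧ x * w = w * x} =
      Nat.card {x : G // IsConj x z ∧ x * y' = y' * x ∧ x * t = t * x} := by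
    apply natCard_conj_equiv d
    intro x
    have hconj : IsConj x (d * x * d⁻¹) := isConj_iff.mpr ⟨d, rfl⟩
    have e1 : ∀ a b : G, (d * a * d⁻¹) * (d * b * d⁻¹) = d * (a * b) * d⁻¹ := fun a b => by group
    have e2 : ∀ a b : G, d * a * d⁻¹ = d * b * d⁻¹ ↔ a = b := fun a b => by
      constructor
      · intro h
        exact mul_left_cancel (mul_right_cancel h)
      · intro h; rw [h]
    rw [← hd, hy', e1, e1, e1, e1, e2, e2]
    exact and_congr ⟨fun h => hconj.symm.trans h, fun h => hconj.trans h⟩ Iff.rfl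
  have step2 : Nat.card {x : G // IsConj x z ∧ x * y' = y' * x ∧ x * t = t * x} =
      Nat.card {x : G // x ∈ B ∧ (x ≠ 1 ∧ x * x = 1 ∧ x * y' = y' * x)} := by
    apply Nat.card_congr
    apply Equiv.subtypeEquivRight
    intro x
    constructor
    · rintro ⟨h1, h2, h3⟩
      obtain ⟨h4, h5, h6⟩ := (p.factA x).mp ⟨h1, h3⟩
      exact ⟨h4, h5, h6, h2⟩
    · rintro ⟨h4, h5, h6, h2⟩
      obtain ⟨h1, h3⟩ := (p.factA x).mpr ⟨h4, h5, h6⟩
      exact ⟨h1, h2, h3⟩
  rw [step1, step2, natCard_subgroup_equiv B e (fun x => x ≠ 1 ∧ x * x = 1 ∧ x * y' = y' * x)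
    (fun a => a ≠ 1 ∧ a * a = 1 ∧ a * e ⟨y', hy'B⟩ = e ⟨y', hy'B⟩ * a) ?_]
  · apply a5_comm'
    · intro h
      apply hy'1
      have := (coe_eq_iff B e ⟨y', hy'B⟩ 1).mpr (by rw [h, map_one])
      exact this
    · have := (coe_eq_iff B e (⟨y', hy'B⟩ * ⟨y', hy'B⟩) 1).mp (by
        show y' * y' = 1
        exact hy'2)
      rw [map_mul, map_one] at this
      exact this
  · intro b
    have h1 := coe_eq_iff B e b 1
    have h2 := coe_eq_iff B e (b * b) 1
    have h3 := coe_eq_iff B e (b * ⟨y', hy'B⟩) (⟨y', hy'B⟩ * b)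
    rw [map_one] at h1 h2
    rw [map_mul] at h2
    rw [map_mul, map_mul] at h3
    exact and_congr (not_congr h1) (and_congr h2 h3)

end Pat

namespace Pat

variable {z t : G} {Q V B : Subgroup G}

open Cfsg.Agent.Helper2 (natCard_subtype_eq_card_filter)

/-- The number of conjugates of `t` in the centralizer of `z`, by double counting. -/
theorem card_T [Finite G] (p : Pat z t Q V B) (e : B ≃* A5)
    (hCz : Nat.card (Subgroup.centralizer ({z} : Set G)) = 1920)
    (hCt : Nat.card (Subgroup.centralizer ({t} : Set G)) = 240) :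
    Nat.card {v : G // IsConj v t ∧ v * z = z * v} = 120 := by
  classical
  have : Fintype G := Fintype.ofFinite G
  set N := Nat.card {v : G // IsConj v t ∧ v * z = z * v} with hN
  set zG : Finset G := Finset.univ.filter (fun x => IsConj x z) with hzG
  set tG : Finset G := Finset.univ.filter (fun x => IsConj x t) with htG
  have hzGcard : zG.card * 1920 = Nat.card G := by
    rw [← hCz, ← Cfsg.Agent.Helper2.card_isConj_mul_card_centralizer z]
    congr 1
    rw [Nat.card_congr (Equiv.subtypeEquivRight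
      (fun x => (isConj_comm : IsConj z x ↔ IsConj x z))), natCard_subtype_eq_card_filter]
  have htGcard : tG.card * 240 = Nat.card G := by
    rw [← hCt, ← Cfsg.Agent.Helper2.card_isConj_mul_card_centralizer t]
    congr 1
    rw [Nat.card_congr (Equiv.subtypeEquivRight
      (fun x => (isConj_comm : IsConj t x ↔ IsConj x t))), natCard_subtype_eq_card_filter]
  have hdc : ∑ w ∈ tG, (zG.filter (fun y => y * w = w * y)).card =
      ∑ y ∈ zG, (tG.filter (fun w => y * w = w * y)).card := by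
    simp only [Finset.card_filter]
    exact Finset.sum_comm
  have hL : ∑ w ∈ tG, (zG.filter (fun y => y * w = w * y)).card = tG.card * 15 := by
    apply Finset.sum_const_nat
    intro w hw
    have hw' : IsConj w t := by simpa [htG] using hw
    rw [hzG, Finset.filter_filter, ← natCard_subtype_eq_card_filter,
      natCard_class_comm z w t hw', p.card_class_Ct e]
  have hR : ∑ y ∈ zG, (tG.filter (fun w => y * w = w * y)).card = zG.card * N := by
    apply Finset.sum_const_nat
    intro y hy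
    have hy' : IsConj y z := by simpa [hzG] using hy
    rw [htG, Finset.filter_filter, ← natCard_subtype_eq_card_filter, hN,
      ← natCard_class_comm t y z hy']
    apply Nat.card_congr
    apply Equiv.subtypeEquivRight
    intro w
    exact and_congr Iff.rfl eq_comm
  rw [hL, hR] at hdc
  have hpos : 0 < Nat.card G := Nat.card_pos
  have hmain : Nat.card G * (15 * 1920) = Nat.card G * (N * 240) := by
    calc Nat.card G * (15 * 1920) = (tG.card * 240) * (15 * 1920) := by rw [htGcard]
      _ = (tG.card * 15) * (240 * 1920) := by ring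
      _ = (zG.card * N) * (240 * 1920) := by rw [hdc]
      _ = (zG.card * 1920) * (N * 240) := by ring
      _ = Nat.card G * (N * 240) := by rw [hzGcard]
  have := Nat.eq_of_mul_eq_mul_left hpos hmain
  omega

/-- A conjugate of `t` in the centralizer of `z` commutes with exactly two noncentral involutions
of `Q`. -/
theorem card_S_comm [Finite G] (p : Pat z t Q V B) (e : B ≃* A5) (v : G) (hv : IsConj v t)
    (hvz : v * z = z * v) :
    Nat.card {u : G // (u ∈ Q ∧ u ≠ 1 ∧ u ≠ z ∧ u * u = 1) ∧ u * v = v * u} = 2 := by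
  classical
  have : Fintype G := Fintype.ofFinite G
  have hE := p.lemmaE e z v (IsConj.refl z) hv hvz.symm
  rw [natCard_subtype_eq_card_filter] at hE ⊢
  have hset : Finset.univ.filter (fun x => IsConj x z ∧ x * z = z * x ∧ x * v = v * x) =
      insert z (Finset.univ.filter
        (fun u => (u ∈ Q ∧ u ≠ 1 ∧ u ≠ z ∧ u * u = 1) ∧ u * v = v * u)) := by
    ext x
    simp only [Finset.mem_filter, Finset.mem_univ, true_and, Finset.mem_insert]
    constructor
    · rintro ⟨h1, h2, h3⟩
      obtain ⟨h4, h5, h6⟩ := (p.factQ x).mp ⟨h1, h2⟩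
      by_cases hxz : x = z
      · left; exact hxz
      · right; exact ⟨⟨h4, h5, hxz, h6⟩, h3⟩
    · rintro (hxz | ⟨⟨h4, h5, hxz, h6⟩, h3⟩)
      · rw [hxz]
        exact ⟨IsConj.refl _, rfl, hvz.symm⟩
      · obtain ⟨h1, h2⟩ := (p.factQ x).mpr ⟨h4, h5, h6⟩
        exact ⟨h1, h2, h3⟩
  rw [hset, Finset.card_insert_of_notMem] at hE
  · omega
  · simp

end Pat

namespace Pat

variable {z t : G} {Q V B : Subgroup G}

open Cfsg.Agent.Helper2 (natCard_subtype_eq_card_filter)
open Cfsg.Agent.Lead.LargeQuot (mem_zpowers_of_sq)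

/-- The pairs counted in the first term of the order formula. -/
theorem n1_iff (p : Pat z t Q V B)
    (hF2 : ∀ u u' : G, u ∈ Q → u ≠ 1 → u ≠ z → u * u = 1 → u' ∈ Q → u' ≠ 1 → u' ≠ z →
      u' * u' = 1 → u * u' = u' * u → u' = u ∨ u' = u * z) (u v : G) :
    (IsConj z u ∧ IsConj t v ∧ z ∈ Subgroup.zpowers (u * v)) ↔
      ((u ∈ Q ∧ u ≠ 1 ∧ u ≠ z ∧ u * u = 1) ∧ (IsConj v t ∧ v * z = z * v) ∧
        ¬ u * v = v * u) := by
  obtain ⟨hz1, hzz⟩ := ord2_iff.mp p.hz
  constructor
  · rintro ⟨hzu, htv, hmem⟩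
    obtain ⟨hu1, huu⟩ := ord2_iff.mp (isConj_ord2 hzu.symm p.hz)
    obtain ⟨hvQ, hv1, hvv⟩ := p.factT htv.symm
    obtain ⟨huz, hvz⟩ := comm_of_mem_zpowers huu hvv hzz hmem
    obtain ⟨huQ, -, -⟩ := (p.factQ u).mp ⟨hzu.symm, huz⟩
    have hune : u ≠ z := by
      intro e
      rw [e] at hmem
      have hsq : z * v * (z * v) = 1 := by
        calc z * v * (z * v) = z * (v * z) * v := by group
          _ = z * (z * v) * v := by rw [hvz]
          _ = (z * z) * (v * v) := by group
          _ = 1 := by rw [hzz, hvv, one_mul]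
      rcases (mem_zpowers_of_sq hsq).mp hmem with h1 | h1
      · exact hz1 h1
      · apply hv1
        have : z * 1 = z * v := by rw [mul_one]; exact h1
        exact (mul_left_cancel this).symm
    refine ⟨⟨huQ, hu1, hune, huu⟩, ⟨htv.symm, hvz⟩, ?_⟩
    intro hc
    have hsq : u * v * (u * v) = 1 := by
      calc u * v * (u * v) = u * (v * u) * v := by group
        _ = u * (u * v) * v := by rw [hc]
        _ = (u * u) * (v * v) := by group
        _ = 1 := by rw [huu, hvv, one_mul]
    rcases (mem_zpowers_of_sq hsq).mp hmem with h1 | h1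
    · exact hz1 h1
    · apply hvQ
      have : v = u * z := by
        calc v = (u * u) * v := by rw [huu, one_mul]
          _ = u * (u * v) := by rw [mul_assoc]
          _ = u * z := by rw [← h1]
      rw [this]
      exact Q.mul_mem huQ p.lx.z_mem
  · rintro ⟨⟨huQ, hu1, hune, huu⟩, ⟨htv, hvz⟩, hnc⟩
    refine ⟨(p.hQz u huQ (ord2_iff.mpr ⟨hu1, huu⟩)).symm, htv.symm, ?_⟩
    obtain ⟨-, hv1, hvv⟩ := p.factT htv
    have hvi : v⁻¹ = v := inv_eq_of_mul_eq_one_left hvv
    have hui : u⁻¹ = u := inv_eq_of_mul_eq_one_left huu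
    set u' := v * u * v⁻¹ with hu'
    have hu'Q : u' ∈ Q := p.lx.norm v hvz u huQ
    have hu'1 : u' ≠ 1 := by
      intro e
      apply hu1
      calc u = v⁻¹ * (v * u * v⁻¹) * v := by group
        _ = 1 := by rw [← hu', e]; group
    have hu'z : u' ≠ z := by
      intro e
      apply hune
      calc u = v⁻¹ * (v * u * v⁻¹) * v := by group
        _ = v⁻¹ * (z * v) := by rw [← hu', e]; group
        _ = v⁻¹ * (v * z) := by rw [hvz]
        _ = z := by group
    have hu'u' : u' * u' = 1 := by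
      calc u' * u' = v * (u * u) * v⁻¹ := by rw [hu']; group
        _ = 1 := by rw [huu]; group
    have hsq : (u * v) ^ 2 = u * u' := by
      rw [pow_two, hu', hvi]
      group
    by_cases hc : u * u' = u' * u
    · rcases hF2 u u' huQ hu1 hune huu hu'Q hu'1 hu'z hu'u' hc with h1 | h1
      · exfalso
        apply hnc
        calc u * v = (v * u * v⁻¹) * v := by rw [← hu', h1]
          _ = v * u := by group
      · have : (u * v) ^ 2 = z := by
          rw [hsq, h1, ← mul_assoc, huu, one_mul]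
        rw [← this]
        exact Subgroup.pow_mem _ (Subgroup.mem_zpowers _) 2
    · have h1 : u * u' * u⁻¹ = z * u' := (p.lx.comm_or huQ hu'Q).resolve_left hc
      have : (u * v) ^ 4 = z := by
        calc (u * v) ^ 4 = ((u * v) ^ 2) ^ 2 := by rw [← pow_mul]
          _ = (u * u') * (u * u') := by rw [hsq, pow_two]
          _ = (u * u' * u⁻¹) * u' := by rw [hui]; group
          _ = z * (u' * u') := by rw [h1]; group
          _ = z := by rw [hu'u', mul_one]
      rw [← this]
      exact Subgroup.pow_mem _ (Subgroup.mem_zpowers _) 4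

theorem card_n1 [Finite G] (p : Pat z t Q V B) (e : B ≃* A5)
    (hS : Nat.card {x : G // x ∈ Q ∧ x ≠ 1 ∧ x ≠ z ∧ x * x = 1} = 10)
    (hF2 : ∀ u u' : G, u ∈ Q → u ≠ 1 → u ≠ z → u * u = 1 → u' ∈ Q → u' ≠ 1 → u' ≠ z →
      u' * u' = 1 → u * u' = u' * u → u' = u ∨ u' = u * z)
    (hN : Nat.card {v : G // IsConj v t ∧ v * z = z * v} = 120) :
    Nat.card {q : G × G // IsConj z q.1 ∧ IsConj t q.2 ∧ z ∈ Subgroup.zpowers (q.1 * q.2)} =
      960 := by
  classical
  have : Fintype G := Fintype.ofFinite G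
  rw [Nat.card_congr (Equiv.subtypeEquivRight (fun q : G × G => p.n1_iff hF2 q.1 q.2)),
    natCard_subtype_eq_card_filter]
  rw [natCard_subtype_eq_card_filter] at hS hN
  set S : Finset G := Finset.univ.filter (fun x => x ∈ Q ∧ x ≠ 1 ∧ x ≠ z ∧ x * x = 1) with hSdef
  set TC : Finset G := Finset.univ.filter (fun v => IsConj v t ∧ v * z = z * v) with hTC
  have hset : Finset.univ.filter (fun q : G × G => (q.1 ∈ Q ∧ q.1 ≠ 1 ∧ q.1 ≠ z ∧ q.1 * q.1 = 1) ∧
      (IsConj q.2 t ∧ q.2 * z = z * q.2) ∧ ¬ q.1 * q.2 = q.2 * q.1) =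
      (S ×ˢ TC).filter (fun q => ¬ q.1 * q.2 = q.2 * q.1) := by
    ext q
    simp only [Finset.mem_filter, Finset.mem_univ, true_and, Finset.mem_product, hSdef, hTC]
    tauto
  rw [hset, Finset.card_filter, Finset.sum_product_right]
  have hconst : ∀ v ∈ TC, (∑ u ∈ S, if ¬ u * v = v * u then 1 else 0) = 8 := by
    intro v hv
    have hv' : IsConj v t ∧ v * z = z * v := by simpa [hTC] using hv
    rw [← Finset.card_filter]
    have h2 := p.card_S_comm e v hv'.1 hv'.2
    rw [natCard_subtype_eq_card_filter, ← Finset.filter_filter] at h2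
    have hsum := Finset.card_filter_add_card_filter_not (s := S) (fun u => u * v = v * u)
    rw [← hSdef] at h2
    omega
  rw [Finset.sum_const_nat hconst, hN]

end Pat

namespace Pat

variable {z t : G} {Q V B : Subgroup G}

open Cfsg.Agent.Lead.LargeQuot (mem_zpowers_of_sq)

/-- The pairs counted in the second term of the order formula. -/
theorem card_n2 [Finite G] (p : Pat z t Q V B) (e : B ≃* A5) :
    Nat.card {q : G × G // IsConj z q.1 ∧ IsConj t q.2 ∧ t ∈ Subgroup.zpowers (q.1 * q.2)} =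
      195 := by
  obtain ⟨ht1, htt⟩ := ord2_iff.mp p.ht
  obtain ⟨hVC, hBC, hcomm, hinf, hsup⟩ := p.hVB
  have htC : ∀ b ∈ B, t * b = b * t := fun b hb => hcomm t p.htV b hb
  have hbot : ∀ x, x ∈ V → x ∈ B → x = 1 := by
    intro x hxV hxB
    have : x ∈ V ⊓ B := ⟨hxV, hxB⟩
    rw [hinf] at this
    exact Subgroup.mem_bot.mp this
  have htB : t ∉ B := fun h => ht1 (hbot t p.htV h)
  -- the embedding of the alternating group
  set ι : A5 → G := fun a => ((e.symm a : B) : G) with hι
  have hιB : ∀ a, ι a ∈ B := fun a => (e.symm a).2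
  have hιmul : ∀ a b, ι (a * b) = ι a * ι b := fun a b => by
    simp only [hι, map_mul, Subgroup.coe_mul]
  have hιone : ι 1 = 1 := by simp only [hι, map_one, Subgroup.coe_one]
  have hιinj : ∀ a b, ι a = ι b → a = b := fun a b h =>
    e.symm.injective (Subtype.ext h)
  have hιpow : ∀ a (n : ℕ), ι (a ^ n) = ι a ^ n := fun a n => by
    simp only [hι, map_pow, Subgroup.coe_pow]
  have hιe : ∀ (x : G) (hx : x ∈ B), ι (e ⟨x, hx⟩) = x := fun x hx => by
    simp only [hι, MulEquiv.symm_apply_apply]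
  rw [← a5_pairs']
  symm
  apply Nat.card_congr
  refine Equiv.ofBijective (fun pr => ⟨(ι pr.1.1, t * ι pr.1.2), ?_⟩) ⟨?_, ?_⟩
  · obtain ⟨⟨a, b⟩, ha1, haa, hbb, hab⟩ := pr
    simp only at ha1 haa hbb hab ⊢
    have hu1 : ι a ≠ 1 := fun h => ha1 (hιinj a 1 (by rw [h, hιone]))
    have huu : ι a * ι a = 1 := by rw [← hιmul, haa, hιone]
    have hb2 : ι b * ι b = 1 := by rw [← hιmul, hbb, hιone]
    have htb : t * ι b = ι b * t := htC _ (hιB b)
    have htu : t * ι a = ι a * t := htC _ (hιB a)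
    refine ⟨((p.factA (ι a)).mpr ⟨hιB a, hu1, huu⟩).1.symm, ?_, ?_⟩
    · refine (p.hCt (t * ι b) ?_ ?_ ?_).symm
      · exact Subgroup.mul_mem _ (hVC p.htV) (hBC (hιB b))
      · rw [ord2_iff]
        constructor
        · intro h
          apply htB
          have : t = (ι b)⁻¹ := eq_inv_of_mul_eq_one_left h
          rw [this]
          exact B.inv_mem (hιB b)
        · calc t * ι b * (t * ι b) = t * (ι b * t) * ι b := by group
            _ = t * (t * ι b) * ι b := by rw [htb]
            _ = (t * t) * (ι b * ι b) := by group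
            _ = 1 := by rw [htt, hb2, one_mul]
      · intro h
        apply htB
        have : t = (t * ι b) * (ι b)⁻¹ := by group
        rw [this]
        exact B.mul_mem h (B.inv_mem (hιB b))
    · have hpow : (ι a * (t * ι b)) ^ 15 = t := by
        have e1 : ι a * (t * ι b) = t * (ι a * ι b) := by
          calc ι a * (t * ι b) = (ι a * t) * ι b := by group
            _ = (t * ι a) * ι b := by rw [htu]
            _ = t * (ι a * ι b) := by group
        have hcm : Commute t (ι a * ι b) := htC _ (B.mul_mem (hιB a) (hιB b))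
        rw [e1, hcm.mul_pow, ← hιmul, ← hιpow, hab, hιone, mul_one]
        calc t ^ 15 = (t * t) ^ 7 * t := by
              rw [← pow_two, ← pow_mul, ← pow_succ]
          _ = t := by rw [htt, one_pow, one_mul]
      have hm := Subgroup.pow_mem _ (Subgroup.mem_zpowers (ι a * (t * ι b))) 15
      rw [hpow] at hm
      exact hm
  · rintro ⟨⟨a, b⟩, h1⟩ ⟨⟨a', b'⟩, h2⟩ h
    simp only [Subtype.mk.injEq, Prod.mk.injEq] at h
    obtain ⟨h3, h4⟩ := h
    have h5 := hιinj _ _ h3
    have h6 := hιinj _ _ (mul_left_cancel h4)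
    subst h5 h6
    rfl
  · rintro ⟨⟨u, v⟩, hzu, htv, hmem⟩
    simp only at hzu htv hmem
    obtain ⟨hu1, huu⟩ := ord2_iff.mp (isConj_ord2 hzu.symm p.hz)
    obtain ⟨hv1, hvv⟩ := ord2_iff.mp (isConj_ord2 htv.symm p.ht)
    obtain ⟨hut, hvt⟩ := comm_of_mem_zpowers huu hvv htt hmem
    obtain ⟨huB, -, -⟩ := (p.factA u).mp ⟨hzu.symm, hut⟩
    have hvC : v ∈ V ⊔ B := by
      rw [hsup]
      exact Subgroup.mem_centralizer_singleton_iff.mpr hvt
    have hBN : B ≤ Subgroup.normalizer (V : Set G) := by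
      refine le_trans ?_ (Subgroup.centralizer_le_normalizer (V : Set G))
      intro b hb
      rw [Subgroup.mem_centralizer_iff]
      intro w hw
      exact hcomm w hw b hb
    obtain ⟨w, hwV, b', hb'B, hvwb⟩ := Cfsg.Agent.Helper1.mem_sup_of_le_normalizer hBN hvC
    have hww : w * w = 1 := p.hV2 w hwV
    have hwb : w * b' = b' * w := hcomm w hwV b' hb'B
    have hb2 : b' * b' = 1 := by
      have h1 : v * v = (w * w) * (b' * b') := by
        rw [hvwb]
        calc w * b' * (w * b') = w * (b' * w) * b' := by group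
          _ = w * (w * b') * b' := by rw [hwb]
          _ = (w * w) * (b' * b') := by group
      rw [hvv, hww, one_mul] at h1
      exact h1.symm
    obtain ⟨k, hk⟩ := hmem
    simp only at hk
    have hxB : u * b' ∈ B := B.mul_mem huB hb'B
    have e1 : u * v = w * (u * b') := by
      rw [hvwb]
      calc u * (w * b') = (u * w) * b' := by group
        _ = (w * u) * b' := by rw [hcomm w hwV u huB]
        _ = w * (u * b') := by group
    have hcm : Commute w (u * b') := hcomm w hwV _ hxB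
    rw [e1, hcm.mul_zpow] at hk
    have hcV : (u * b') ^ k ∈ V := by
      have : (u * b') ^ k = (w ^ k)⁻¹ * t := by rw [← hk]; group
      rw [this]
      exact V.mul_mem (V.inv_mem (V.zpow_mem hwV k)) p.htV
    have hc1 : (u * b') ^ k = 1 := hbot _ hcV (B.zpow_mem hxB k)
    rw [hc1, mul_one] at hk
    have hwt : w = t := by
      have : t ∈ Subgroup.zpowers w := ⟨k, hk⟩
      rcases (mem_zpowers_of_sq hww).mp this with h1 | h1
      · exact absurd h1 ht1
      · exact h1.symm
    rw [hwt] at hk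
    have hkodd : Odd k := by
      rcases Int.even_or_odd k with ⟨m, hm⟩ | ho
      · exfalso
        apply ht1
        rw [← hk, hm, zpow_add, ← (Commute.refl t).mul_zpow, htt, one_zpow]
      · exact ho
    have hnat : (u * b') ^ k.natAbs = 1 := by
      rcases Int.natAbs_eq k with h1 | h1
      · rw [h1, zpow_natCast] at hc1
        exact hc1
      · rw [h1, zpow_neg, zpow_natCast, inv_eq_one] at hc1
        exact hc1
    have hnodd : Odd k.natAbs := Int.natAbs_odd.mpr hkodd
    set a : A5 := e ⟨u, huB⟩ with ha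
    set b : A5 := e ⟨b', hb'B⟩ with hb
    have hιa : ι a = u := hιe u huB
    have hιb : ι b = b' := hιe b' hb'B
    have hab : (a * b) ^ 15 = 1 := by
      apply a5_pow_fifteen (a * b) k.natAbs hnodd
      apply hιinj
      rw [hιpow, hιmul, hιa, hιb, hnat, hιone]
    refine ⟨⟨(a, b), ?_, ?_, ?_, hab⟩, ?_⟩
    · intro h
      have h' : a = 1 := h
      apply hu1
      rw [← hιa, h', hιone]
    · apply hιinj
      show ι (a * a) = ι 1
      rw [hιmul, hιa, huu, hιone]
    · apply hιinj
      show ι (b * b) = ι 1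
      rw [hιmul, hιb, hb2, hιone]
    · apply Subtype.ext
      show (ι a, t * ι b) = (u, v)
      rw [hιa, hιb, hvwb, hwt]

/-- The order of the group. -/
theorem order_eq [Finite G] (p : Pat z t Q V B) (e : B ≃* A5)
    (hcl : ∀ x : G, orderOf x = 2 → IsConj x z ∨ IsConj x t)
    (hQ32 : Nat.card Q = 32) (hV : Nat.card V = 4)
    (hCz : Nat.card (Subgroup.centralizer ({z} : Set G)) = 1920)
    (g : G) (hg5 : g ^ 5 = 1) (hgz : g * z = z * g) (hgQ : ¬ ∀ q ∈ Q, g * q = q * g) :
    Nat.card G = 604800 := by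
  have hCt := p.card_Ct hV e
  obtain ⟨hS, hF2⟩ := card_noncentral_invol p.lx p.hsq hQ32 g hg5 hgz hgQ
  have hN := p.card_T e hCz hCt
  have h1 := p.card_n1 e hS hF2 hN
  have h2 := p.card_n2 e
  have h3 := Cfsg.Agent.Helper2.thompson_order_formula_two z t p.hz p.ht p.hzt
    (fun x hx => (hcl x hx).imp IsConj.symm IsConj.symm)
  rw [h1, h2, hCz, hCt] at h3
  exact h3

end Pat

end Cfsg.Agent.Lead.J2
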