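import Mathlib
import Cfsg.Prelude.Def_JComponents
import Cfsg.Agent.Lead.J51G

/-!
Lead: exclusion of the case where `L` contains every 2-local subgroup containing the Sylow 2-subgroup `S = T`,
and the main assembly of S2951 -- S2954 (modulo `P2Prop`, `P3Prop`, `KillProp`).
-/

set_option autoImplicit false
set_option linter.unusedSectionVars false
set_option linter.style.haveILetI false

namespace Cfsg.Agent.Lead.J51

open Cfsg Cfsg.Agent.Lead.JComp Cfsg.Agent.Helper1.JLS Cfsg.Agent.Lead.JUniq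

universe u

variable {G : Type u} [Group G] [Finite G]

/-- the 2-part of the order: a Sylow 2-subgroup of a group of order `8 * 3` or `16 * 3` -/
theorem card_of_sylowIn {T P : Subgroup G} (hT : Cfsg.IsSylowTwoIn T P) {a : ℕ}
    (hP : Nat.card ↥P = 2 ^ a * 3) : Nat.card ↥T = 2 ^ a := by
  obtain ⟨hle, h2, hodd⟩ := hT
  obtain ⟨k, hk⟩ := IsPGroup.iff_card.1 h2
  have h1 : T.relIndex P * Nat.card ↥T = Nat.card ↥P := Cfsg.Agent.Helper1.relIndex_mul_card_of_le hle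
  rw [hk, hP] at h1
  rw [hk]
  -- `r * 2^k = 2^a * 3` with `r` odd
  have hka : k ≤ a := by
    have hd : 2 ^ k ∣ 2 ^ a * 3 := ⟨T.relIndex P, by rw [← h1, mul_comm]⟩
    have hc : Nat.Coprime (2 ^ k) 3 := Nat.Coprime.pow_left k (by norm_num)
    exact (Nat.pow_dvd_pow_iff_le_right (by norm_num)).mp (hc.dvd_of_dvd_mul_right hd)
  obtain ⟨j, rfl⟩ := Nat.exists_eq_add_of_le hka
  rcases Nat.eq_zero_or_pos j with rfl | hj
  · rfl
  · exfalso
    have h3 : T.relIndex P = 2 ^ j * 3 := by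
      have : T.relIndex P * 2 ^ k = (2 ^ j * 3) * 2 ^ k := by rw [h1, pow_add]; ring
      exact Nat.eq_of_mul_eq_mul_right (pow_pos (by norm_num) k) this
    rw [h3] at hodd
    have : Even (2 ^ j * 3) := (Nat.even_pow.2 ⟨even_two, hj.ne'⟩).mul_right 3
    exact (Nat.not_odd_iff_even.2 this) hodd

namespace Cfg

variable {M T K L : Subgroup G}

/-- `K` is transitive on `W_K ∖ 1` -/
theorem W_transitive (c : Cfg M T K L) {x y : G} (hx : x ∈ Cfsg.wOf K) (hx1 : x ≠ 1)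
    (hy : y ∈ Cfsg.wOf K) (hy1 : y ≠ 1) : ∃ g : G, g * x * g⁻¹ = y := by
  by_cases hxy : x = y
  · exact ⟨1, by rw [hxy]; group⟩
  obtain ⟨d, hd, hdR⟩ := SetLike.not_le_iff_exists.mp c.ctx.R_ne_K
  have hdX : d ∈ K ⊔ Cfsg.thompsonSubgroupOf 2 T := le_sup_left (a := K) hd
  have henum := four_enum (Cfsg.wOf K) c.ctx.hW4 c.ctx.hWsq hx hy hx1 hy1 hxy
  have hff : ∀ w ∈ Cfsg.wOf K, w ≠ 1 → d * w * d⁻¹ ≠ w := fun w hw hw1 e =>
    hw1 (c.ctx.fixedfree hd hdR hw e)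
  have hne1 : ∀ w : G, w ≠ 1 → d * w * d⁻¹ ≠ 1 := by
    intro w hw1 e
    apply hw1
    have : w = d⁻¹ * (d * w * d⁻¹) * d := by group
    rw [this, e]; group
  have hx2 : x * x = 1 := c.ctx.hWsq x hx
  have hxy1 : x * y ≠ 1 := by
    intro e
    apply hxy
    have : x⁻¹ = x := inv_eq_of_mul_eq_one_left hx2
    rw [← this]
    exact (eq_inv_of_mul_eq_one_right e).symm ▸ rfl
  have hxyW : x * y ∈ Cfsg.wOf K := Subgroup.mul_mem _ hx hy
  rcases henum _ (c.ctx.conj_W hdX hx) with h | h | h | h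
  · exact absurd h (hne1 x hx1)
  · exact absurd h (hff x hx hx1)
  · exact ⟨d, h⟩
  · -- `d x d⁻¹ = x y`; then `d (x y) d⁻¹ = y`
    rcases henum _ (c.ctx.conj_W hdX hxyW) with h' | h' | h' | h'
    · exact absurd h' (hne1 _ hxy1)
    · -- `d (x y) d⁻¹ = x`: then `d y d⁻¹ = y`
      exfalso
      apply hff y hy hy1
      have e1 : d * (x * y) * d⁻¹ = (d * x * d⁻¹) * (d * y * d⁻¹) := by group
      rw [e1, h] at h'
      -- `x y (d y d⁻¹) = x`
      have e2 : d * y * d⁻¹ = (x * y)⁻¹ * x := eq_inv_mul_of_mul_eq h'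
      rw [e2]
      have hy2 : y * y = 1 := c.ctx.hWsq y hy
      have hyinv : y⁻¹ = y := inv_eq_of_mul_eq_one_left hy2
      have hxinv : x⁻¹ = x := inv_eq_of_mul_eq_one_left hx2
      rw [mul_inv_rev, hyinv, hxinv, mul_assoc, hx2, mul_one]
    · refine ⟨d * d, ?_⟩
      have e1 : d * d * x * (d * d)⁻¹ = d * (d * x * d⁻¹) * d⁻¹ := by group
      rw [e1, h, h']
    · exact absurd h' (hff _ hxyW hxy1)

/-- the case where every 2-local subgroup containing the Sylow 2-subgroup `S = T` lies in `L` is impossible -/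
theorem caseR_false (hP2 : P2Prop G) (hP3 : P3Prop G) (hkill : KillProp G) (hO : Cfsg.pCore 2 G = ⊥)
    (c : Cfg M T K L) (S : Sylow 2 G) (hTS : T = (S : Subgroup G))
    (hR : ∀ N : Subgroup G, Cfsg.IsTwoLocal N → (S : Subgroup G) ≤ N → N ≤ L) : False := by
  haveI : Fact (Nat.Prime 2) := ⟨Nat.prime_two⟩
  have hS1 : (S : Subgroup G) ≠ ⊥ := hTS ▸ c.T1
  have hSL : (S : Subgroup G) ≤ L := hTS ▸ c.T_le
  have hJ1 : Cfsg.thompsonSubgroupOf 2 (S : Subgroup G) ≠ ⊥ := thompsonSubgroupOf_ne_bot S.2 hS1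
  have hNJ : Subgroup.normalizer (Cfsg.thompsonSubgroupOf 2 (S : Subgroup G) : Set G) ≤ L := by
    apply hR _ ⟨_, S.2.to_le (Cfsg.Agent.Lead.thompsonSubgroupOf_le 2 _), hJ1, rfl⟩
    exact Subgroup.le_normalizer.trans (normalizer_le_normalizer_thompsonSubgroupOf 2 _)
  -- `V = Ω₁(Z(O₂(L)))`
  have hVsq : ∀ v ∈ Cfsg.omegaCenterOf (Cfsg.pCoreOf 2 L), v * v = 1 := fun v hv =>
    (JComp.mem_omegaCenterOf hv).2.2
  have hVO : Cfsg.omegaCenterOf (Cfsg.pCoreOf 2 L) ≤ Cfsg.pCoreOf 2 L := fun v hv =>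
    (JComp.mem_omegaCenterOf hv).1
  have hV2 : IsPGroup 2 ↥(Cfsg.omegaCenterOf (Cfsg.pCoreOf 2 L)) :=
    (Cfsg.Agent.Lead.LLem.isPGroup_pCoreOf L).to_le hVO
  have hLV : L ≤ Subgroup.normalizer (Cfsg.omegaCenterOf (Cfsg.pCoreOf 2 L) : Set G) :=
    (Cfsg.Agent.Lead.KInf.pCoreOf_le_normalizer 2 L).trans (normalizer_le_normalizer_omegaCenterOf _)
  by_cases hstr : Cfsg.straddlingTwoSubgroups L = ∅
  · -- `L` is strongly embedded
    have hSE : Cfsg.IsStronglyEmbedded L :=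
      (Cfsg.Agent.S2947.result c.hL c.hN c.hZ hO S L c.hLmax.1 hNJ).mpr hstr
    obtain ⟨v, hv, hv1⟩ := exists_mem_omegaCenterOf (Cfsg.Agent.Lead.LLem.isPGroup_pCoreOf L)
      c.pCoreOf_ne_bot
    have hvL : v ∈ L := Cfsg.Agent.Lead.LLem.pCoreOf_le L (hVO hv)
    have hv2 : orderOf v = 2 := orderOf_eq_prime (by rw [pow_two]; exact hVsq v hv) hv1
    have hall : ∀ x ∈ L, x * x = 1 → x ∈ Cfsg.omegaCenterOf (Cfsg.pCoreOf 2 L) := by
      intro x hxL hx2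
      by_cases hx1 : x = 1
      · rw [hx1]; exact Subgroup.one_mem _
      have hxo : orderOf x = 2 := orderOf_eq_prime (by rw [pow_two]; exact hx2) hx1
      obtain ⟨g, hg⟩ := isConj_iff.mp (Cfsg.Agent.Helper2.isConj_of_invol hSE hv2 hxo)
      have hgL : g ∈ L := by
        apply Cfsg.Agent.Helper2.mem_of_invol_mem_inter hSE hxo hxL
        rw [Cfsg.Agent.Helper2.mem_cj_iff, ← hg]
        have : g⁻¹ * (g * v * g⁻¹) * g = v := by group
        rw [this]; exact hvL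
      rw [← hg]
      exact (Subgroup.mem_normalizer_iff.mp (hLV hgL) v).mp hv
    have hJV : Cfsg.thompsonSubgroupOf 2 T ≤ Cfsg.omegaCenterOf (Cfsg.pCoreOf 2 L) := by
      apply thompson_le_of_forall T
      intro A hA a ha
      exact hall a (c.T_le (hA.1 ha)) (ea_sq hA.2.1 ha)
    exact c.not_le_normalizer hV2 hJV (c.K_le.trans hLV)
  · -- a maximal straddling subgroup of `L`
    obtain ⟨T', hT'max⟩ := exists_maxStraddling (Set.nonempty_iff_ne_empty.mpr hstr)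
    obtain ⟨hT'2, hT'1, hT'L, N', hN'2, hT'N', hN'L⟩ := hT'max.1
    obtain ⟨l, hlL, hl⟩ := exists_conj_le_of_sylowIn c.sylow hT'2 hT'L
    -- the Sylow subgroup `S₁ = l⁻¹ S l ⊇ T'`
    have hS₁ : ((l⁻¹ • S : Sylow 2 G) : Subgroup G) =
        (S : Subgroup G).map (MulAut.conj l⁻¹).toMonoidHom := sylow_smul_coe l⁻¹ S
    have hmemS₁ : ∀ x : G, x ∈ ((l⁻¹ • S : Sylow 2 G) : Subgroup G) ↔ l * x * l⁻¹ ∈ (S : Subgroup G) := by
      intro x
      rw [hS₁]
      constructor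
      · rintro ⟨s, hs, rfl⟩
        have : l * ((MulAut.conj l⁻¹).toMonoidHom s) * l⁻¹ = s := by
          show l * (l⁻¹ * s * l⁻¹⁻¹) * l⁻¹ = s
          group
        rw [this]; exact hs
      · intro h
        refine ⟨l * x * l⁻¹, h, ?_⟩
        show l⁻¹ * (l * x * l⁻¹) * l⁻¹⁻¹ = x
        group
    have hT'S₁ : T' ≤ ((l⁻¹ • S : Sylow 2 G) : Subgroup G) := by
      intro x hx
      rw [hmemS₁, ← hTS]
      exact hl ⟨x, hx, rfl⟩
    have hS₁L : ((l⁻¹ • S : Sylow 2 G) : Subgroup G) ≤ L := by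
      intro x hx
      rw [hmemS₁] at hx
      have : x = l⁻¹ * (l * x * l⁻¹) * l := by group
      rw [this]
      exact L.mul_mem (L.mul_mem (L.inv_mem hlL) (hSL hx)) hlL
    have hne : T' ≠ ((l⁻¹ • S : Sylow 2 G) : Subgroup G) := by
      intro e
      apply hN'L
      have h1 : N'.map (MulAut.conj l).toMonoidHom ≤ L := by
        apply hR _ (isTwoLocal_conj hN'2 l)
        intro s hs
        refine ⟨l⁻¹ * s * l, hT'N' ?_, ?_⟩
        · rw [e, hmemS₁]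
          have : l * (l⁻¹ * s * l) * l⁻¹ = s := by group
          rw [this]; exact hs
        · show l * (l⁻¹ * s * l) * l⁻¹ = s
          group
      intro x hx
      have h2 : l * x * l⁻¹ ∈ L := h1 ⟨x, hx, rfl⟩
      have : x = l⁻¹ * (l * x * l⁻¹) * l := by group
      rw [this]
      exact L.mul_mem (L.mul_mem (L.inv_mem hlL) h2) hlL
    obtain ⟨K'', hK''⟩ := s2949 c.hL c.hN c.hZ S L hNJ T' hT'max
    obtain ⟨L'', hL''1, hL''2, -⟩ := s2950_strong c.hL c.hN c.hZ S hNJ hT'max hK''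
    have c'' : Cfg L T' K'' L'' := ⟨c.hL, c.hN, c.hZ, ⟨S, hNJ⟩, hT'max, hK'', hL''1, hL''2⟩
    obtain ⟨-, P₁, P₂, -, hP₁max, -, hP₁syl, -, hiso⟩ := c''.bodies_of_strict hP2 hP3 _ hT'S₁ hne
    have hPQ : ∀ Q : Subgroup G, Q ≤ P₁ → Q ≠ ⊥ → IsPGroup 2 ↥Q →
        P₁ ≤ Subgroup.normalizer (Q : Set G) → Subgroup.normalizer (Q : Set G) ≤ P₁ :=
      fun Q _ hQ1 hQ2 hle => (hP₁max.2 _ ⟨Q, hQ2, hQ1, rfl⟩ hle).le
    have hinf : ((l⁻¹ • S : Sylow 2 G) : Subgroup G) ⊓ P₁ = T' :=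
      eq_of_isSylowTwoIn hP₁syl ((l⁻¹ • S : Sylow 2 G).2.to_le inf_le_left)
        (le_inf hT'S₁ hP₁syl.1) inf_le_right
    have hlt : ¬ ((l⁻¹ • S : Sylow 2 G) : Subgroup G) ≤ P₁ := by
      intro h
      apply hne
      rw [← hinf]
      exact (inf_eq_left.mpr h)
    have hVS₁ : Cfsg.omegaCenterOf (Cfsg.pCoreOf 2 L) ≤ ((l⁻¹ • S : Sylow 2 G) : Subgroup G) := by
      intro v hv
      rw [hmemS₁, ← hTS]
      apply c.pCoreOf_le_T
      exact (Subgroup.mem_normalizer_iff.mp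
        (Cfsg.Agent.Lead.KInf.pCoreOf_le_normalizer 2 L hlL) v).mp (hVO hv)
    have hVn := hS₁L.trans hLV
    have hV4 : 4 ≤ Nat.card ↥(Cfsg.omegaCenterOf (Cfsg.pCoreOf 2 L)) := by
      rw [← c.ctx.hW4]
      exact Subgroup.card_le_of_le c.W_le_V
    rcases hiso with ⟨⟨e⟩, -⟩ | ⟨⟨e⟩, -⟩
    · have hcardP : Nat.card ↥P₁ = 2 ^ 3 * 3 := by
        rw [Nat.card_congr e.toEquiv, Nat.card_eq_fintype_card, Fintype.card_perm, Fintype.card_fin]
        rfl
      have hcardT := card_of_sylowIn hP₁syl hcardP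
      refine hkill.1 _ P₁ _ (l⁻¹ • S : Sylow 2 G).2 ⟨e⟩ hPQ ?_ hlt hVS₁ hVn hVsq hV4
      rw [hinf, hcardT]; norm_num
    · have hcardP : Nat.card ↥P₁ = 2 ^ 4 * 3 := by
        rw [Nat.card_congr e.toEquiv, Nat.card_prod, Nat.card_eq_fintype_card, Fintype.card_perm,
          Fintype.card_fin, Nat.card_eq_fintype_card]
        rfl
      have hcardT := card_of_sylowIn hP₁syl hcardP
      refine hkill.2 _ P₁ _ (l⁻¹ • S : Sylow 2 G).2 ⟨e⟩ hPQ ?_ hlt hVS₁ hVn hVsq hV4 ?_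
      · rw [hinf, hcardT]; norm_num
      · intro hV4' x hx hx1 y hy hy1
        have hVW : Cfsg.wOf K = Cfsg.omegaCenterOf (Cfsg.pCoreOf 2 L) :=
          Subgroup.eq_of_le_of_card_ge c.W_le_V (by rw [hV4', c.ctx.hW4])
        rw [← hVW] at hx hy
        exact c.W_transitive hx hx1 hy hy1

end Cfg

end Cfsg.Agent.Lead.J51
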