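import Mathlib
import Cfsg.Prelude.Def_JComponents
import Cfsg.Agent.Lead.J51H

/-!
Lead: S2951 -- S2954 modulo `P2Prop`, `P3Prop`, `KillProp`.
-/

set_option autoImplicit false
set_option linter.unusedSectionVars false
set_option linter.style.haveILetI false

namespace Cfsg.Agent.Lead.J51

open Cfsg Cfsg.Agent.Lead.JComp Cfsg.Agent.Helper1.JLS Cfsg.Agent.Lead.JUniq

universe u

variable {G : Type u} [Group G] [Finite G]

/-- `N_G(Ω₁(Z(S))) ≤ N_G(S)` when `C_G(Ω₁(Z(S))) ≤ N_G(S)` -/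
theorem normalizer_omega_le
    (hZ : ∀ S : Sylow 2 G, Subgroup.centralizer (Cfsg.omegaCenterOf (S : Subgroup G) : Set G) ≤
      Subgroup.normalizer ((S : Subgroup G) : Set G)) (S : Sylow 2 G) :
    Subgroup.normalizer (Cfsg.omegaCenterOf (S : Subgroup G) : Set G) ≤
      Subgroup.normalizer ((S : Subgroup G) : Set G) := by
  haveI : Fact (Nat.Prime 2) := ⟨Nat.prime_two⟩
  intro n hn
  -- `n S n⁻¹ ≤ C_G(Z) ≤ N_G(S)`
  have h1 : ((n • S : Sylow 2 G) : Subgroup G) ≤ Subgroup.normalizer ((S : Subgroup G) : Set G) := by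
    refine le_trans ?_ (hZ S)
    rw [sylow_smul_coe]
    rintro _ ⟨s, hs, rfl⟩
    rw [Subgroup.mem_centralizer_iff]
    intro z hz
    have hz' : n⁻¹ * z * n ∈ Cfsg.omegaCenterOf (S : Subgroup G) := by
      have := (Subgroup.mem_normalizer_iff.mp (Subgroup.inv_mem _ hn) z).mp hz
      simpa using this
    have h2 := (JComp.mem_omegaCenterOf hz').2.1 s hs
    show z * (n * s * n⁻¹) = n * s * n⁻¹ * z
    calc z * (n * s * n⁻¹) = n * ((n⁻¹ * z * n) * s) * n⁻¹ := by group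
      _ = n * (s * (n⁻¹ * z * n)) * n⁻¹ := by rw [h2]
      _ = n * s * n⁻¹ * z := by group
  have h2 : ((n • S : Sylow 2 G) : Subgroup G) ≤ (S : Subgroup G) := by
    have h3 := (n • S : Sylow 2 G).2.inf_normalizer_sylow S
    have h4 : ((n • S : Sylow 2 G) : Subgroup G) ⊓ Subgroup.normalizer ((S : Subgroup G) : Set G) =
        ((n • S : Sylow 2 G) : Subgroup G) := inf_eq_left.mpr h1
    have h5 : ((n • S : Sylow 2 G) : Subgroup G) =
        ((n • S : Sylow 2 G) : Subgroup G) ⊓ (S : Subgroup G) := h4.symm.trans h3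
    rw [h5]
    exact inf_le_right
  have h3 : (n • S : Sylow 2 G) = S := by
    apply Sylow.ext
    apply Subgroup.eq_of_le_of_card_ge h2
    rw [sylow_smul_coe, Subgroup.card_map_of_injective (MulAut.conj n).injective]
  exact Sylow.smul_eq_iff_mem_normalizer.mp h3

namespace Cfg

variable {M T K L : Subgroup G}

/-- S2951 -/
theorem tri (hP2 : P2Prop G) (hP3 : P3Prop G) (hkill : KillProp G) (hO : Cfsg.pCore 2 G = ⊥)
    (c : Cfg M T K L) (S : Sylow 2 G) (hTS : T ≤ (S : Subgroup G)) : Tri T L S := by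
  by_cases hNJ : Subgroup.normalizer (Cfsg.thompsonSubgroupOf 2 T : Set G) ≤ L
  · have hTeq : T = (S : Subgroup G) := by
      by_contra hne
      obtain ⟨m, hm, hmL⟩ := c.exists_normalizer_not_mem S hTS hne
      exact hmL (hNJ (normalizer_le_normalizer_thompsonSubgroupOf 2 T hm))
    by_cases hR : ∃ N : Subgroup G, Cfsg.IsTwoLocal N ∧ (S : Subgroup G) ≤ N ∧ ¬ N ≤ L
    · obtain ⟨N, hN2, hSN, hNL⟩ := hR
      obtain ⟨K', L', c'⟩ := c.exists_second S hTeq (hTeq ▸ hNJ) hN2 hSN hNL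
      exact c.tri_of_second c' S hTeq
    · push Not at hR
      exact (c.caseR_false hP2 hP3 hkill hO S hTeq hR).elim
  · exact c.tri_of_not_le S hTS hNJ

/-- S2952 -/
theorem T_normalizes (hP2 : P2Prop G) (hP3 : P3Prop G) (hkill : KillProp G) (hO : Cfsg.pCore 2 G = ⊥)
    (c : Cfg M T K L) : T ≤ Subgroup.normalizer (K : Set G) := by
  haveI : Fact (Nat.Prime 2) := ⟨Nat.prime_two⟩
  obtain ⟨S, hTS⟩ := c.T2.exists_le_sylow
  exact (hP2 _ _ _ _ c (c.omegaT_eq_of_tri S hTS (c.tri hP2 hP3 hkill hO S hTS))).1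

/-- S2953 and S2954 -/
theorem bodies (hP2 : P2Prop G) (hP3 : P3Prop G) (hkill : KillProp G) (hO : Cfsg.pCore 2 G = ⊥)
    (c : Cfg M T K L) : Body53 T ∧ Body54 T := by
  haveI : Fact (Nat.Prime 2) := ⟨Nat.prime_two⟩
  obtain ⟨S, hTS⟩ := c.T2.exists_le_sylow
  have htri := c.tri hP2 hP3 hkill hO S hTS
  have hΩ := c.omegaT_eq_of_tri S hTS htri
  by_cases hNT : ∃ m ∈ Subgroup.normalizer (T : Set G), m ∉ L
  · obtain ⟨m, hm, hmL⟩ := hNT
    exact c.bodies_of_normalizer hP2 hP3 hm hmL hΩ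
  · push Not at hNT
    have hTeq : T = (S : Subgroup G) := by
      by_contra hne
      obtain ⟨m, hm, hmL⟩ := c.exists_normalizer_not_mem S hTS hne
      exact hmL (hNT m hm)
    have hNJ : Subgroup.normalizer (Cfsg.thompsonSubgroupOf 2 T : Set G) ≤ L := by
      intro n hn
      apply hNT
      have h1 : n ∈ Subgroup.normalizer
          (Cfsg.omegaCenterOf (Cfsg.thompsonSubgroupOf 2 T) : Set G) :=
        normalizer_le_normalizer_omegaCenterOf _ hn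
      rw [← hΩ] at h1
      have h2 := normalizer_omega_le c.hZ S
      rw [← hTeq] at h2
      exact h2 h1
    by_cases hR : ∃ N : Subgroup G, Cfsg.IsTwoLocal N ∧ (S : Subgroup G) ≤ N ∧ ¬ N ≤ L
    · obtain ⟨N, hN2, hSN, hNL⟩ := hR
      obtain ⟨K', L', c'⟩ := c.exists_second S hTeq (hTeq ▸ hNJ) hN2 hSN hNL
      exact ⟨pair53 hP2 c c' hΩ c'.hK.2.1, pair54 hP3 c c' hΩ c'.hK.2.1⟩
    · push Not at hR
      exact (c.caseR_false hP2 hP3 hkill hO S hTeq hR).elim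

end Cfg

section statements

variable (hP2 : P2Prop G) (hP3 : P3Prop G) (hkill : KillProp G)
  (hL : Cfsg.IsCharacteristicTwoType G)
  (hN : ∀ N : Subgroup G, Cfsg.IsTwoLocal N → Group.IsSolvable ↥N)
  (hZ : ∀ S : Sylow 2 G, Subgroup.centralizer (Cfsg.omegaCenterOf (S : Subgroup G) : Set G) ≤
    Subgroup.normalizer ((S : Subgroup G) : Set G))
  (hO : Cfsg.pCore 2 G = ⊥) (S : Sylow 2 G) (M : Subgroup G)
  (hMJ : Subgroup.normalizer (Cfsg.thompsonSubgroupOf 2 (S : Subgroup G) : Set G) ≤ M)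
  (T : Subgroup G) (hT : T ∈ Cfsg.maxStraddlingTwoSubgroups M)

include hP2 hP3 hkill hL hN hZ hO hMJ hT

theorem s2951 (hTS : T ≤ (S : Subgroup G)) (K : Subgroup G) (hK : K ∈ Cfsg.jComponentsOutside M T)
    (L : Subgroup G) (hLmax : Cfsg.IsMaximalTwoLocal L) (hKL : K ⊔ Cfsg.thompsonSubgroupOf 2 T ≤ L)
    (Z Z₀ : Subgroup G) (hZdef : Z = Cfsg.omegaCenterOf (S : Subgroup G))
    (hZ₀ : Z₀ = Cfsg.omegaCenterOf (Cfsg.thompsonSubgroupOf 2 T)) :
    Z₀ ⊓ Cfsg.wOf K ≠ ⊥ ∧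
      ((Z = Z₀ ∧ Nat.card ↥Z₀ = 2) ∨ (Z = Z₀ ∧ Nat.card ↥Z₀ = 4 ∧ T = (S : Subgroup G)) ∨
        (Cfsg.omegaCenterOf T = Z₀ ∧ Nat.card ↥Z₀ = 4 ∧
          (L ⊓ Subgroup.centralizer (Z₀ : Set G)).relIndex (Subgroup.normalizer (Z₀ : Set G)) = 2)) := by
  have c : Cfg M T K L := ⟨hL, hN, hZ, ⟨S, hMJ⟩, hT, hK, hLmax, hKL⟩
  subst hZdef hZ₀
  refine ⟨?_, c.tri hP2 hP3 hkill hO S hTS⟩
  intro e
  have := c.s2946.1
  rw [e, Subgroup.card_bot] at this
  norm_num at this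

theorem s2952 (K : Subgroup G) (hK : K ∈ Cfsg.jComponentsOutside M T) :
    (K.subgroupOf (K ⊔ T)).Normal := by
  obtain ⟨L, hLmax, hKL, -⟩ := s2950_strong hL hN hZ S hMJ hT hK
  have c : Cfg M T K L := ⟨hL, hN, hZ, ⟨S, hMJ⟩, hT, hK, hLmax, hKL⟩
  have h := c.T_normalizes hP2 hP3 hkill hO
  exact (Subgroup.normal_subgroupOf_iff_le_normalizer le_sup_left).2
    (sup_le Subgroup.le_normalizer h)

theorem s2953_s2954 : Body53 T ∧ Body54 T := by
  obtain ⟨K, hK⟩ := s2949 hL hN hZ S M hMJ T hT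
  obtain ⟨L, hLmax, hKL, -⟩ := s2950_strong hL hN hZ S hMJ hT hK
  have c : Cfg M T K L := ⟨hL, hN, hZ, ⟨S, hMJ⟩, hT, hK, hLmax, hKL⟩
  exact c.bodies hP2 hP3 hkill hO

end statements

end Cfsg.Agent.Lead.J51
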