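import Mathlib
import Cfsg.Agent.Lead.JUniqA
import Cfsg.Agent.Helper4.NormalizerGrow

/-!
Lead: the abstract part of `kill_S4C2`: a subgroup `P` with a central involution `c`, `C_G(c) ≤ P`, whose Sylow
2-subgroup `T' = S ∩ P` looks like `D₈ × C₂` (hypotheses `D16`), inside a strictly larger 2-group `S` with a normal
elementary abelian subgroup `V` of order at least 4: contradiction.
-/

set_option autoImplicit false
set_option linter.unusedSectionVars false
set_option linter.style.haveILetI false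

namespace Cfsg.Agent.Lead.J5K

variable {G : Type*} [Group G]

/-- the structural hypotheses on `T' ≅ D₈ × C₂` inside `P ≅ S₄ × C₂` -/
structure D16 (P T' U : Subgroup G) (c z : G) : Prop where
  hTP : T' ≤ P
  hcT : c ∈ T'
  hc2 : c * c = 1
  hc1 : c ≠ 1
  hcP : ∀ p ∈ P, p * c = c * p
  hzT : z ∈ T'
  hz2 : z * z = 1
  hz1 : z ≠ 1
  hzc : ∀ a ∈ T', a * z = z * a
  center : ∀ y ∈ T', (∀ a ∈ T', a * y = y * a) → y = 1 ∨ y = z ∨ y = c ∨ y = c * z
  nsq : ∀ p ∈ P, p * p ≠ c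
  zsq : ∃ r ∈ T', r * r = z
  hUT : U ≤ T'
  hU2 : ∀ a ∈ U, a * a = 1
  hZU : ∀ y ∈ T', (∀ a ∈ T', a * y = y * a) → y ∈ U
  same : ∀ a ∈ T', ∀ b ∈ T', a * a = 1 → b * b = 1 → ¬ (∀ x ∈ T', x * a = a * x) →
    ¬ (∀ x ∈ T', x * b = b * x) → (a ∈ U ↔ b ∈ U) → a * b = b * a
  diff : ∀ a ∈ T', ∀ b ∈ T', a * a = 1 → b * b = 1 → ¬ (∀ x ∈ T', x * a = a * x) →
    ¬ (∀ x ∈ T', x * b = b * x) → a ∈ U → b ∉ U → a * b ≠ b * a
  exf : ∃ f ∈ U, ¬ (∀ x ∈ T', x * f = f * x)

theorem comm_of_sq {V : Subgroup G} (hVsq : ∀ v ∈ V, v * v = 1) {a b : G} (ha : a ∈ V) (hb : b ∈ V) :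
    a * b = b * a := by
  have h1 := hVsq _ (V.mul_mem ha hb)
  have ia : a⁻¹ = a := inv_eq_of_mul_eq_one_left (hVsq a ha)
  have ib : b⁻¹ = b := inv_eq_of_mul_eq_one_left (hVsq b hb)
  calc a * b = (a * b)⁻¹ := (inv_eq_of_mul_eq_one_left h1).symm
    _ = b⁻¹ * a⁻¹ := mul_inv_rev _ _
    _ = b * a := by rw [ia, ib]

section main

variable [Finite G] {P T' U S V : Subgroup G} {c z : G}

/-- the standing hypotheses -/
structure Sit (P T' U S V : Subgroup G) (c z : G) : Prop where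
  d : D16 P T' U c z
  hS2 : IsPGroup 2 ↥S
  hST : S ⊓ P = T'
  hcC : Subgroup.centralizer ({c} : Set G) ≤ P
  hUN : Subgroup.normalizer (U : Set G) ≤ P
  hVS : V ≤ S
  hVn : S ≤ Subgroup.normalizer (V : Set G)
  hVsq : ∀ v ∈ V, v * v = 1

namespace Sit

theorem T_le_S (h : Sit P T' U S V c z) : T' ≤ S := by
  rw [← h.hST]; exact inf_le_left

/-- `T' = C_S(c)` -/
theorem mem_T_of_comm (h : Sit P T' U S V c z) {s : G} (hs : s ∈ S) (hsc : s * c = c * s) : s ∈ T' := by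
  rw [← h.hST]
  refine ⟨hs, h.hcC ?_⟩
  rw [Subgroup.mem_centralizer_iff]
  intro y hy
  rw [Set.mem_singleton_iff] at hy
  subst hy
  exact hsc.symm

theorem conj_mem_T (_h : Sit P T' U S V c z) {n : G} (hn : n ∈ Subgroup.normalizer (T' : Set G))
    {a : G} (ha : a ∈ T') : n * a * n⁻¹ ∈ T' :=
  (Subgroup.mem_normalizer_iff.mp hn a).mp ha

theorem conj_inv_mem_T (_h : Sit P T' U S V c z) {n : G} (hn : n ∈ Subgroup.normalizer (T' : Set G))
    {a : G} (ha : a ∈ T') : n⁻¹ * a * n ∈ T' := by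
  have := (Subgroup.mem_normalizer_iff.mp (Subgroup.inv_mem _ hn) a).mp ha
  simpa using this

/-- centrality in `T'` is preserved by conjugation with elements of `N(T')` -/
theorem conj_central (h : Sit P T' U S V c z) {n : G} (hn : n ∈ Subgroup.normalizer (T' : Set G))
    {a : G} (hc : ∀ x ∈ T', x * a = a * x) : ∀ x ∈ T', x * (n * a * n⁻¹) = n * a * n⁻¹ * x := by
  intro x hx
  have h1 := hc _ (h.conj_inv_mem_T hn hx)
  calc x * (n * a * n⁻¹) = n * ((n⁻¹ * x * n) * a) * n⁻¹ := by group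
    _ = n * (a * (n⁻¹ * x * n)) * n⁻¹ := by rw [h1]
    _ = n * a * n⁻¹ * x := by group

theorem central_of_conj_central (h : Sit P T' U S V c z) {n : G}
    (hn : n ∈ Subgroup.normalizer (T' : Set G)) {a : G}
    (hc : ∀ x ∈ T', x * (n * a * n⁻¹) = n * a * n⁻¹ * x) : ∀ x ∈ T', x * a = a * x := by
  have := h.conj_central (Subgroup.inv_mem _ hn) hc
  intro x hx
  have h1 := this x hx
  have e : n⁻¹ * (n * a * n⁻¹) * n⁻¹⁻¹ = a := by group
  rwa [e] at h1

/-- Lemma A: an element of `N_S(T') ∖ T'` maps `c` to `c z` -/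
theorem conj_c (h : Sit P T' U S V c z) {n : G} (hnS : n ∈ S)
    (hn : n ∈ Subgroup.normalizer (T' : Set G)) (hnT : n ∉ T') : n * c * n⁻¹ = c * z := by
  have hyT := h.conj_mem_T hn h.d.hcT
  have hcen : ∀ x ∈ T', x * c = c * x := fun x hx => h.d.hcP x (h.d.hTP hx)
  have hycen := h.conj_central hn hcen
  have hy1 : n * c * n⁻¹ ≠ 1 := by
    intro e
    apply h.d.hc1
    have : c = n⁻¹ * (n * c * n⁻¹) * n := by group
    rw [this, e]; group
  have hyc : n * c * n⁻¹ ≠ c := by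
    intro e
    apply hnT
    apply h.mem_T_of_comm hnS
    calc n * c = (n * c * n⁻¹) * n := by group
      _ = c * n := by rw [e]
  rcases h.d.center _ hyT hycen with e | e | e | e
  · exact absurd e hy1
  · exfalso
    obtain ⟨r, hr, hrr⟩ := h.d.zsq
    apply h.d.nsq (n⁻¹ * r * n) (h.d.hTP (h.conj_inv_mem_T hn hr))
    calc n⁻¹ * r * n * (n⁻¹ * r * n) = n⁻¹ * (r * r) * n := by group
      _ = n⁻¹ * (n * c * n⁻¹) * n := by rw [hrr, e]
      _ = c := by group
  · exact absurd e hyc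
  · exact e

/-- Lemma B: an element of `N_S(T') ∖ T'` maps no non-central involution of `T'` to one commuting with it -/
theorem conj_not_comm (h : Sit P T' U S V c z) {n : G} (hnS : n ∈ S)
    (hn : n ∈ Subgroup.normalizer (T' : Set G)) (hnT : n ∉ T') {a : G} (ha : a ∈ T')
    (ha2 : a * a = 1) (hanc : ¬ (∀ x ∈ T', x * a = a * x)) :
    n * a * n⁻¹ * a ≠ a * (n * a * n⁻¹) := by
  intro hcomm
  apply hnT
  rw [← h.hST]
  refine ⟨hnS, h.hUN ?_⟩
  -- `n` normalizes `U`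
  have sq_conj : ∀ b : G, b * b = 1 → (n * b * n⁻¹) * (n * b * n⁻¹) = 1 := by
    intro b hb
    calc (n * b * n⁻¹) * (n * b * n⁻¹) = n * (b * b) * n⁻¹ := by group
      _ = 1 := by rw [hb]; group
  have nc_conj : ∀ b : G, ¬ (∀ x ∈ T', x * b = b * x) →
      ¬ (∀ x ∈ T', x * (n * b * n⁻¹) = n * b * n⁻¹ * x) :=
    fun b hb hc => hb (h.central_of_conj_central hn hc)
  have ha'T := h.conj_mem_T hn ha
  have ha'2 := sq_conj a ha2
  have ha'nc := nc_conj a hanc
  have haU : a ∈ U ↔ n * a * n⁻¹ ∈ U := by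
    constructor
    · intro hU
      by_contra hU'
      exact h.d.diff a ha _ ha'T ha2 ha'2 hanc ha'nc hU hU' hcomm.symm
    · intro hU'
      by_contra hU
      exact h.d.diff _ ha'T a ha ha'2 ha2 ha'nc hanc hU' hU hcomm
  have key : ∀ b ∈ T', b * b = 1 → ¬ (∀ x ∈ T', x * b = b * x) → (b ∈ U ↔ n * b * n⁻¹ ∈ U) := by
    intro b hb hb2 hbnc
    have hb'T := h.conj_mem_T hn hb
    have hb'2 := sq_conj b hb2
    have hb'nc := nc_conj b hbnc
    have conj_comm : b * a = a * b → (n * b * n⁻¹) * (n * a * n⁻¹) = (n * a * n⁻¹) * (n * b * n⁻¹) := by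
      intro e
      calc (n * b * n⁻¹) * (n * a * n⁻¹) = n * (b * a) * n⁻¹ := by group
        _ = n * (a * b) * n⁻¹ := by rw [e]
        _ = (n * a * n⁻¹) * (n * b * n⁻¹) := by group
    have conj_comm' : (n * b * n⁻¹) * (n * a * n⁻¹) = (n * a * n⁻¹) * (n * b * n⁻¹) → b * a = a * b := by
      intro e
      have e' : n * (b * a) * n⁻¹ = n * (a * b) * n⁻¹ := by
        calc n * (b * a) * n⁻¹ = (n * b * n⁻¹) * (n * a * n⁻¹) := by group
          _ = (n * a * n⁻¹) * (n * b * n⁻¹) := e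
          _ = n * (a * b) * n⁻¹ := by group
      exact mul_left_cancel (mul_right_cancel e')
    by_cases hba : (b ∈ U ↔ a ∈ U)
    · -- `b` commutes with `a`
      have e1 := h.d.same b hb a ha hb2 ha2 hbnc hanc hba
      have e2 := conj_comm e1
      have hb'a' : (n * b * n⁻¹ ∈ U ↔ n * a * n⁻¹ ∈ U) := by
        constructor
        · intro hU
          by_contra hU'
          exact h.d.diff _ hb'T _ ha'T hb'2 ha'2 hb'nc ha'nc hU hU' e2
        · intro hU'
          by_contra hU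
          exact h.d.diff _ ha'T _ hb'T ha'2 hb'2 ha'nc hb'nc hU' hU e2.symm
      rw [hba, hb'a', haU]
    · -- `b` does not commute with `a`
      have hne : (n * b * n⁻¹) * (n * a * n⁻¹) ≠ (n * a * n⁻¹) * (n * b * n⁻¹) := by
        intro e
        have e1 := conj_comm' e
        by_cases hbU : b ∈ U
        · have haU' : a ∉ U := fun haU' => hba ⟨fun _ => haU', fun _ => hbU⟩
          exact h.d.diff b hb a ha hb2 ha2 hbnc hanc hbU haU' e1
        · have haU' : a ∈ U := by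
            by_contra haU'
            exact hba ⟨fun hb' => absurd hb' hbU, fun ha' => absurd ha' haU'⟩
          exact h.d.diff a ha b hb ha2 hb2 hanc hbnc haU' hbU e1.symm
      have hb'a' : ¬ (n * b * n⁻¹ ∈ U ↔ n * a * n⁻¹ ∈ U) := by
        intro hiff
        exact hne (h.d.same _ hb'T _ ha'T hb'2 ha'2 hb'nc ha'nc hiff)
      rw [← haU] at hb'a'
      constructor
      · intro hbU
        by_contra hb'U
        apply hb'a'
        have haU' : a ∉ U := fun haU' => hba ⟨fun _ => haU', fun _ => hbU⟩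
        exact ⟨fun hx => absurd hx hb'U, fun hx => absurd hx haU'⟩
      · intro hb'U
        by_contra hbU
        apply hb'a'
        have haU' : a ∈ U := by
          by_contra haU'
          exact hba ⟨fun hb' => absurd hb' hbU, fun ha' => absurd ha' haU'⟩
        exact ⟨fun _ => haU', fun _ => hb'U⟩
  apply Cfsg.Agent.Lead.JUniq.mem_normalizer_of_map_conj_le
  rintro _ ⟨u, hu, rfl⟩
  show n * u * n⁻¹ ∈ U
  have huT := h.d.hUT hu
  by_cases hucen : ∀ x ∈ T', x * u = u * x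
  · exact h.d.hZU _ (h.conj_mem_T hn huT) (h.conj_central hn hucen)
  · exact (key u huT (h.d.hU2 u hu) hucen).mp hu

/-- Step 1: `V ∩ T'` is central in `T'` -/
theorem central_of_mem (h : Sit P T' U S V c z) (hlt : ¬ S ≤ P) {a : G} (haV : a ∈ V) (haT : a ∈ T') :
    ∀ x ∈ T', x * a = a * x := by
  by_contra hanc
  have hTS : T' < S := by
    refine lt_of_le_of_ne h.T_le_S ?_
    intro e
    apply hlt
    rw [← e]
    exact h.d.hTP
  haveI : Fact (Nat.Prime 2) := ⟨Nat.prime_two⟩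
  obtain ⟨t, htS, htN, htT⟩ := Cfsg.Agent.Helper4.exists_mem_normalizer_not_mem S h.hS2 T' hTS
  have ha2 := h.hVsq a haV
  have hconjV : t * a * t⁻¹ ∈ V := (Subgroup.mem_normalizer_iff.mp (h.hVn htS) a).mp haV
  exact h.conj_not_comm htS htN htT haT ha2 hanc (comm_of_sq h.hVsq hconjV haV)

/-- Step 2: `V` is not contained in `T'` -/
theorem V_not_le (h : Sit P T' U S V c z) (hlt : ¬ S ≤ P) (hV4 : 4 ≤ Nat.card ↥V)
    (hIn : Nat.card ↥V = 4 → ∀ x ∈ V, x ≠ 1 → ∀ y ∈ V, y ≠ 1 → ∃ g : G, g * x * g⁻¹ = y) :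
    ¬ V ≤ T' := by
  classical
  intro hVT
  have hsub : (V : Set G) ⊆ (({1, z, c, c * z} : Finset G) : Set G) := by
    intro y hy
    have := h.d.center y (hVT hy) (h.central_of_mem hlt hy (hVT hy))
    simp only [Finset.coe_insert, Finset.coe_singleton, Set.mem_insert_iff, Set.mem_singleton_iff]
    exact this
  have hcard : Nat.card ↥V = (V : Set G).ncard := (Nat.card_coe_set_eq _)
  have hle : (V : Set G).ncard ≤ (({1, z, c, c * z} : Finset G) : Set G).ncard :=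
    Set.ncard_le_ncard hsub (Finset.finite_toSet _)
  have hle4 : (({1, z, c, c * z} : Finset G) : Set G).ncard ≤ 4 := by
    rw [Set.ncard_coe_finset]
    exact Finset.card_le_four
  have hV4' : Nat.card ↥V = 4 := by omega
  have heq : (V : Set G) = (({1, z, c, c * z} : Finset G) : Set G) := by
    apply Set.eq_of_subset_of_ncard_le hsub _ (Finset.finite_toSet _)
    omega
  have hzV : z ∈ V := by
    have : z ∈ (V : Set G) := by rw [heq]; simp
    exact this
  have hcV : c ∈ V := by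
    have : c ∈ (V : Set G) := by rw [heq]; simp
    exact this
  obtain ⟨g, hg⟩ := hIn hV4' z hzV h.d.hz1 c hcV h.d.hc1
  obtain ⟨r, hr, hrr⟩ := h.d.zsq
  have hpp : (g * r * g⁻¹) * (g * r * g⁻¹) = c := by
    calc (g * r * g⁻¹) * (g * r * g⁻¹) = g * (r * r) * g⁻¹ := by group
      _ = c := by rw [hrr, hg]
  have hpP : g * r * g⁻¹ ∈ P := by
    apply h.hcC
    rw [Subgroup.mem_centralizer_iff]
    intro y hy
    rw [Set.mem_singleton_iff] at hy
    subst hy
    rw [← hpp]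
    group
  exact h.d.nsq _ hpP hpp

/-- the contradiction -/
theorem false (h : Sit P T' U S V c z) (hlt : ¬ S ≤ P) (hV4 : 4 ≤ Nat.card ↥V)
    (hIn : Nat.card ↥V = 4 → ∀ x ∈ V, x ≠ 1 → ∀ y ∈ V, y ≠ 1 → ∃ g : G, g * x * g⁻¹ = y) :
    False := by
  have hVT := h.V_not_le hlt hV4 hIn
  haveI : Fact (Nat.Prime 2) := ⟨Nat.prime_two⟩
  -- an element `v ∈ V` normalizing `T'`, not in `T'`
  have hTN : T' ≤ Subgroup.normalizer (V : Set G) := le_trans h.T_le_S h.hVn
  have hW2 : IsPGroup 2 ↥(T' ⊔ V) := h.hS2.to_le (sup_le h.T_le_S h.hVS)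
  have hlt' : T' < T' ⊔ V := by
    refine lt_of_le_of_ne le_sup_left ?_
    intro e
    apply hVT
    rw [e]
    exact le_sup_right
  obtain ⟨n, hnW, hnN, hnT⟩ := Cfsg.Agent.Helper4.exists_mem_normalizer_not_mem (T' ⊔ V) hW2 T' hlt'
  have hn' : n ∈ ((T' ⊔ V : Subgroup G) : Set G) := hnW
  rw [Subgroup.coe_mul_of_left_le_normalizer_right T' V hTN] at hn'
  obtain ⟨a, ha, v, hv, rfl⟩ := Set.mem_mul.1 hn'
  have ha : a ∈ T' := ha
  have hv : v ∈ V := hv
  have hvN : v ∈ Subgroup.normalizer (T' : Set G) := by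
    have : v = a⁻¹ * (a * v) := by group
    rw [this]
    exact Subgroup.mul_mem _ (Subgroup.inv_mem _ (Subgroup.le_normalizer ha)) hnN
  have hvT : v ∉ T' := fun hvT => hnT (Subgroup.mul_mem _ ha hvT)
  have hvS : v ∈ S := h.hVS hv
  -- a non-central involution `f` of `T'`
  obtain ⟨f, hfU, hfnc⟩ := h.d.exf
  have hfT := h.d.hUT hfU
  have hf2 := h.d.hU2 f hfU
  have hw : v * f * v⁻¹ * f⁻¹ ∈ T' := Subgroup.mul_mem _ (h.conj_mem_T hvN hfT) (Subgroup.inv_mem _ hfT)
  have hwV : v * f * v⁻¹ * f⁻¹ ∈ V := by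
    have h1 : f * v⁻¹ * f⁻¹ ∈ V :=
      (Subgroup.mem_normalizer_iff.mp (h.hVn (h.T_le_S hfT)) v⁻¹).mp (Subgroup.inv_mem _ hv)
    have : v * f * v⁻¹ * f⁻¹ = v * (f * v⁻¹ * f⁻¹) := by group
    rw [this]
    exact Subgroup.mul_mem _ hv h1
  have hwc := h.central_of_mem hlt hwV hw
  apply h.conj_not_comm hvS hvN hvT hfT hf2 hfnc
  have e1 : v * f * v⁻¹ = (v * f * v⁻¹ * f⁻¹) * f := by group
  have e2 := hwc f hfT
  calc v * f * v⁻¹ * f = (v * f * v⁻¹ * f⁻¹) * f * f := by rw [← e1]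
    _ = f * (v * f * v⁻¹ * f⁻¹) * f := by rw [e2]
    _ = f * ((v * f * v⁻¹ * f⁻¹) * f) := by group
    _ = f * (v * f * v⁻¹) := by rw [← e1]

end Sit

end main

end Cfsg.Agent.Lead.J5K
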