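import Mathlib

/-!
Lead: the concrete facts on `X = S₄ × C₂` used in `kill_S4C2`: the Sylow 2-subgroup `T₀ = C_X(v₀)` (order 16), its
center `{1, v₀, c₀, c₀ v₀}`, the normal elementary abelian subgroup `U₀ = V₄ × C₂`, and the commutation pattern of the
non-central involutions of `T₀`.  All by `decide`.
-/

set_option autoImplicit false

namespace Cfsg.Agent.Lead.J5K

open Equiv

/-- the model group `S₄ × C₂` -/
abbrev X := Equiv.Perm (Fin 4) × Multiplicative (ZMod 2)

/-- a double transposition -/
def v₀ : X := (swap 0 1 * swap 2 3, 1)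
/-- the central involution -/
def c₀ : X := (1, Multiplicative.ofAdd 1)

/-- membership in the Sylow 2-subgroup `C_X(v₀)` -/
def InT (x : X) : Prop := x * v₀ = v₀ * x
instance : DecidablePred InT := fun x => by unfold InT; infer_instance

/-- membership in the center of `C_X(v₀)` -/
def Zt (y : X) : Prop := y = 1 ∨ y = v₀ ∨ y = c₀ ∨ y = c₀ * v₀
instance : DecidablePred Zt := fun x => by unfold Zt; infer_instance

/-- membership in `V₄ × C₂` -/
def InU (x : X) : Prop :=
  x.1 = 1 ∨ x.1 = swap 0 1 * swap 2 3 ∨ x.1 = swap 0 2 * swap 1 3 ∨ x.1 = swap 0 3 * swap 1 2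
instance : DecidablePred InU := fun x => by unfold InU; infer_instance

/-- non-central involutions of `C_X(v₀)` -/
def NC (x : X) : Prop := InT x ∧ x * x = 1 ∧ ¬ Zt x
instance : DecidablePred NC := fun x => by unfold NC; infer_instance

set_option maxRecDepth 100000 in
theorem f_a : ∀ x : X, x * x ≠ c₀ := by decide

set_option maxRecDepth 100000 in
theorem f_b : ∀ y : X, InT y → (∀ a : X, InT a → a * y = y * a) → Zt y := by decide

set_option maxRecDepth 100000 in
theorem f_b' : ∀ y a : X, Zt y → InT a → a * y = y * a := by decide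

set_option maxRecDepth 100000 in
theorem f_r : ∃ r : X, InT r ∧ r * r = v₀ := by decide

set_option maxRecDepth 100000 in
theorem f_ii : ∀ a b : X, NC a → NC b → InU a → InU b → a * b = b * a := by decide

set_option maxRecDepth 100000 in
theorem f_ii' : ∀ a b : X, NC a → NC b → ¬ InU a → ¬ InU b → a * b = b * a := by decide

set_option maxRecDepth 100000 in
theorem f_iii : ∀ a b : X, NC a → NC b → InU a → ¬ InU b → a * b ≠ b * a := by decide

set_option maxRecDepth 100000 in
theorem f_f : ∃ f : X, NC f ∧ InU f := by decide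

set_option maxRecDepth 100000 in
theorem f_U_mul : ∀ a b : X, InU a → InU b → InU (a * b) := by decide

set_option maxRecDepth 100000 in
theorem f_U_conj : ∀ g a : X, InU a → InU (g * a * g⁻¹) := by decide

set_option maxRecDepth 100000 in
theorem f_U_sq : ∀ a : X, InU a → a * a = 1 := by decide

set_option maxRecDepth 100000 in
theorem f_U_T : ∀ a : X, InU a → InT a := by decide

set_option maxRecDepth 100000 in
theorem f_Z_U : ∀ a : X, Zt a → InU a := by decide

set_option maxRecDepth 100000 in
theorem f_card : Fintype.card {x : X // InT x} = 16 := by decide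

set_option maxRecDepth 100000 in
theorem f_cc : ∀ x : X, x * c₀ = c₀ * x := by decide

set_option maxRecDepth 100000 in
theorem f_cT : InT c₀ := by decide

set_option maxRecDepth 100000 in
theorem f_c2 : c₀ * c₀ = 1 := by decide

set_option maxRecDepth 100000 in
theorem f_c1 : c₀ ≠ 1 := by decide

set_option maxRecDepth 100000 in
theorem f_vT : InT v₀ := by decide

set_option maxRecDepth 100000 in
theorem f_v2 : v₀ * v₀ = 1 := by decide

set_option maxRecDepth 100000 in
theorem f_v1 : v₀ ≠ 1 := by decide

set_option maxRecDepth 100000 in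
theorem f_U_one : InU 1 := by decide

/-- the Sylow 2-subgroup `C_X(v₀)` -/
def T0 : Subgroup X where
  carrier := {x | InT x}
  mul_mem' := by
    intro a b ha hb
    simp only [Set.mem_ofPred_eq, InT] at ha hb ⊢
    rw [mul_assoc, hb, ← mul_assoc, ha, mul_assoc]
  one_mem' := by simp [InT]
  inv_mem' := by
    intro a ha
    simp only [Set.mem_ofPred_eq, InT] at ha ⊢
    calc a⁻¹ * v₀ = a⁻¹ * (v₀ * a) * a⁻¹ := by group
      _ = a⁻¹ * (a * v₀) * a⁻¹ := by rw [ha]
      _ = v₀ * a⁻¹ := by group

theorem mem_T0 {x : X} : x ∈ T0 ↔ InT x := Iff.rfl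

/-- the subgroup `V₄ × C₂` -/
def U0 : Subgroup X where
  carrier := {x | InU x}
  mul_mem' := fun {a b} ha hb => f_U_mul a b ha hb
  one_mem' := f_U_one
  inv_mem' := by
    intro a ha
    have : a⁻¹ = a := inv_eq_of_mul_eq_one_left (f_U_sq a ha)
    simp only [Set.mem_ofPred_eq] at ha ⊢
    rw [this]
    exact ha

theorem mem_U0 {x : X} : x ∈ U0 ↔ InU x := Iff.rfl

theorem card_T0 : Nat.card ↥T0 = 16 := by
  have h : Nat.card ↥T0 = Nat.card {x : X // InT x} := Nat.card_congr (Equiv.refl _)
  rw [h, Nat.card_eq_fintype_card]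
  exact f_card

theorem card_X : Nat.card X = 48 := by
  rw [Nat.card_eq_fintype_card]
  rfl

theorem factorization_X : (Nat.card X).factorization 2 = 4 := by
  rw [card_X]
  have : (48 : ℕ) = 2 ^ 4 * 3 := by norm_num
  rw [this, Nat.factorization_mul (by norm_num) (by norm_num), Nat.Prime.factorization_pow Nat.prime_two]
  simp [Nat.factorization_eq_zero_of_not_dvd]

end Cfsg.Agent.Lead.J5K
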