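import Mathlib
import Cfsg.Agent.Lead.J5KA
import Cfsg.Agent.Lead.J5KB

/-!
Lead: `kill_S4C2`: transport of the facts on `S₄ × C₂` to a subgroup `P ≅ S₄ × C₂` of `G` and the final contradiction.
-/

set_option autoImplicit false
set_option linter.unusedSectionVars false
set_option linter.style.haveILetI false

namespace Cfsg.Agent.Lead.J5K

variable {G : Type*} [Group G] [Finite G]

theorem centralizer_singleton_le_normalizer_zpowers (c : G) :
    Subgroup.centralizer ({c} : Set G) ≤ Subgroup.normalizer (Subgroup.zpowers c : Set G) := by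
  intro p hp
  apply Cfsg.Agent.Lead.JUniq.mem_normalizer_of_map_conj_le
  rintro _ ⟨_, ⟨k, rfl⟩, rfl⟩
  have hpc : Commute p c := by
    rw [Subgroup.mem_centralizer_iff] at hp
    exact (hp c rfl).symm
  have h1 : p * c ^ k * p⁻¹ = c ^ k := by
    have := (hpc.zpow_right k).eq
    rw [this]
    group
  show p * c ^ k * p⁻¹ ∈ Subgroup.zpowers c
  rw [h1]
  exact ⟨k, rfl⟩

theorem isPGroup_zpowers_of_sq {c : G} (hc2 : c * c = 1) : IsPGroup 2 ↥(Subgroup.zpowers c) := by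
  rintro ⟨_, ⟨k, rfl⟩⟩
  refine ⟨1, Subtype.ext ?_⟩
  show (c ^ k) ^ 2 ^ 1 = 1
  rw [pow_one, ← zpow_natCast, ← zpow_mul, mul_comm, zpow_mul, zpow_natCast, pow_two, hc2, one_zpow]

theorem sit_of_hom {S P V : Subgroup G} (φ : X →* G) (hφ : Function.Injective φ)
    (hr : ∀ g, g ∈ P ↔ ∃ x, φ x = g) (hT : ∀ x, φ x ∈ S ⊓ P ↔ InT x)
    (hS2 : IsPGroup 2 ↥S)
    (hP : ∀ Q : Subgroup G, Q ≤ P → Q ≠ ⊥ → IsPGroup 2 ↥Q → P ≤ Subgroup.normalizer (Q : Set G) →
      Subgroup.normalizer (Q : Set G) ≤ P)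
    (hVS : V ≤ S) (hVn : S ≤ Subgroup.normalizer (V : Set G)) (hVsq : ∀ v ∈ V, v * v = 1) :
    Sit P (S ⊓ P) (U0.map φ) S V (φ c₀) (φ v₀) := by
  have hTx : ∀ a ∈ S ⊓ P, ∃ x, InT x ∧ φ x = a := by
    intro a ha
    obtain ⟨x, rfl⟩ := (hr a).mp ha.2
    exact ⟨x, (hT x).mp ha, rfl⟩
  have hcomm : ∀ x y : X, φ x * φ y = φ y * φ x ↔ x * y = y * x := by
    intro x y
    rw [← map_mul, ← map_mul, hφ.eq_iff]
  have hcen : ∀ y : X, (∀ a ∈ S ⊓ P, a * φ y = φ y * a) ↔ (∀ a : X, InT a → a * y = y * a) := by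
    intro y
    constructor
    · intro h a ha
      exact (hcomm a y).mp (h _ ((hT a).mpr ha))
    · intro h a ha
      obtain ⟨x, hx, rfl⟩ := hTx a ha
      exact (hcomm x y).mpr (h x hx)
  have hUmem : ∀ x : X, φ x ∈ U0.map φ ↔ InU x := by
    intro x
    rw [Subgroup.mem_map]
    constructor
    · rintro ⟨y, hy, hyx⟩
      rw [← hφ hyx]
      exact hy
    · intro h
      exact ⟨x, h, rfl⟩
  have hsq : ∀ x : X, φ x * φ x = 1 ↔ x * x = 1 := by
    intro x
    rw [← map_mul, ← map_one φ, hφ.eq_iff]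
  have hone : ∀ x : X, φ x = 1 ↔ x = 1 := by
    intro x
    rw [← map_one φ, hφ.eq_iff]
  have hNC : ∀ x : X, InT x → φ x * φ x = 1 → ¬ (∀ a ∈ S ⊓ P, a * φ x = φ x * a) → NC x := by
    intro x hx h2 hnc
    refine ⟨hx, (hsq x).mp h2, fun hz => hnc ?_⟩
    rw [hcen]
    intro a ha
    exact f_b' x a hz ha
  have hcP : ∀ p ∈ P, p * φ c₀ = φ c₀ * p := by
    intro p hp
    obtain ⟨x, rfl⟩ := (hr p).mp hp
    exact (hcomm x c₀).mpr (f_cc x)
  have hc1 : φ c₀ ≠ 1 := fun h => f_c1 ((hone _).mp h)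
  have hc2 : φ c₀ * φ c₀ = 1 := (hsq _).mpr f_c2
  have hd : D16 P (S ⊓ P) (U0.map φ) (φ c₀) (φ v₀) := by
    refine
      { hTP := inf_le_right
        hcT := (hT _).mpr f_cT
        hc2 := hc2
        hc1 := hc1
        hcP := hcP
        hzT := (hT _).mpr f_vT
        hz2 := (hsq _).mpr f_v2
        hz1 := fun h => f_v1 ((hone _).mp h)
        hzc := ?_
        center := ?_
        nsq := ?_
        zsq := ?_
        hUT := ?_
        hU2 := ?_
        hZU := ?_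
        same := ?_
        diff := ?_
        exf := ?_ }
    · intro a ha
      obtain ⟨x, hx, rfl⟩ := hTx a ha
      exact (hcomm x v₀).mpr hx
    · intro y hy hyc
      obtain ⟨x, hx, rfl⟩ := hTx y hy
      rw [hcen] at hyc
      rcases f_b x hx hyc with h | h | h | h
      · left; rw [h, map_one]
      · right; left; rw [h]
      · right; right; left; rw [h]
      · right; right; right; rw [h, map_mul]
    · intro p hp h
      obtain ⟨x, rfl⟩ := (hr p).mp hp
      rw [← map_mul, hφ.eq_iff] at h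
      exact f_a x h
    · obtain ⟨r, hr1, hr2⟩ := f_r
      refine ⟨φ r, (hT r).mpr hr1, ?_⟩
      rw [← map_mul, hr2]
    · rintro _ ⟨x, hx, rfl⟩
      exact (hT x).mpr (f_U_T x hx)
    · rintro _ ⟨x, hx, rfl⟩
      exact (hsq x).mpr (f_U_sq x hx)
    · intro y hy hyc
      obtain ⟨x, hx, rfl⟩ := hTx y hy
      rw [hcen] at hyc
      exact (hUmem x).mpr (f_Z_U x (f_b x hx hyc))
    · intro a ha b hb ha2 hb2 hanc hbnc hiff
      obtain ⟨x, hx, rfl⟩ := hTx a ha
      obtain ⟨y, hy, rfl⟩ := hTx b hb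
      have hxN := hNC x hx ha2 hanc
      have hyN := hNC y hy hb2 hbnc
      rw [hUmem, hUmem] at hiff
      rw [hcomm]
      by_cases hxU : InU x
      · exact f_ii x y hxN hyN hxU (hiff.mp hxU)
      · exact f_ii' x y hxN hyN hxU (fun h => hxU (hiff.mpr h))
    · intro a ha b hb ha2 hb2 hanc hbnc haU hbU
      obtain ⟨x, hx, rfl⟩ := hTx a ha
      obtain ⟨y, hy, rfl⟩ := hTx b hb
      have hxN := hNC x hx ha2 hanc
      have hyN := hNC y hy hb2 hbnc
      rw [hUmem] at haU hbU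
      rw [Ne, hcomm]
      exact f_iii x y hxN hyN haU hbU
    · obtain ⟨f, hfN, hfU⟩ := f_f
      refine ⟨φ f, (hUmem f).mpr hfU, fun h => hfN.2.2 ?_⟩
      rw [hcen] at h
      exact f_b f hfN.1 h
  have hcP' : φ c₀ ∈ P := (hr _).mpr ⟨c₀, rfl⟩
  refine
    { d := hd
      hS2 := hS2
      hST := rfl
      hcC := ?_
      hUN := ?_
      hVS := hVS
      hVn := hVn
      hVsq := hVsq }
  · refine le_trans (centralizer_singleton_le_normalizer_zpowers (φ c₀)) ?_
    apply hP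
    · rw [Subgroup.zpowers_le]
      exact hcP'
    · intro h
      apply hc1
      have : φ c₀ ∈ Subgroup.zpowers (φ c₀) := Subgroup.mem_zpowers _
      rw [h, Subgroup.mem_bot] at this
      exact this
    · exact isPGroup_zpowers_of_sq hc2
    · intro p hp
      apply centralizer_singleton_le_normalizer_zpowers
      rw [Subgroup.mem_centralizer_iff]
      intro y hy
      rw [Set.mem_singleton_iff] at hy
      subst hy
      exact (hcP p hp).symm
  · apply hP
    · rintro _ ⟨x, _, rfl⟩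
      exact (hr _).mpr ⟨x, rfl⟩
    · intro h
      apply hc1
      have : φ c₀ ∈ U0.map φ := (hUmem c₀).mpr (f_Z_U c₀ (Or.inr (Or.inr (Or.inl rfl))))
      rw [h, Subgroup.mem_bot] at this
      exact this
    · rintro ⟨_, ⟨x, hx, rfl⟩⟩
      refine ⟨1, Subtype.ext ?_⟩
      show (φ x) ^ 2 ^ 1 = 1
      rw [pow_one, pow_two]
      exact (hsq x).mpr (f_U_sq x hx)
    · intro p hp
      obtain ⟨g, rfl⟩ := (hr p).mp hp
      apply Cfsg.Agent.Lead.JUniq.mem_normalizer_of_map_conj_le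
      rintro _ ⟨_, ⟨x, hx, rfl⟩, rfl⟩
      show φ g * φ x * (φ g)⁻¹ ∈ U0.map φ
      rw [← map_inv, ← map_mul, ← map_mul, hUmem]
      exact f_U_conj g x hx

/-- the second half of `KillProp` -/
theorem kill_S4C2 (S P V : Subgroup G) (hS2 : IsPGroup 2 ↥S)
    (e : ↥P ≃* Equiv.Perm (Fin 4) × Multiplicative (ZMod 2))
    (hP : ∀ Q : Subgroup G, Q ≤ P → Q ≠ ⊥ → IsPGroup 2 ↥Q → P ≤ Subgroup.normalizer (Q : Set G) →
      Subgroup.normalizer (Q : Set G) ≤ P)
    (hsyl : Nat.card ↥(S ⊓ P) = 16) (hlt : ¬ S ≤ P)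
    (hVS : V ≤ S) (hVn : S ≤ Subgroup.normalizer (V : Set G)) (hVsq : ∀ v ∈ V, v * v = 1)
    (hV4 : 4 ≤ Nat.card ↥V)
    (hIn : Nat.card ↥V = 4 → ∀ x ∈ V, x ≠ 1 → ∀ y ∈ V, y ≠ 1 → ∃ g : G, g * x * g⁻¹ = y) : False := by
  haveI : Fact (Nat.Prime 2) := ⟨Nat.prime_two⟩
  let e₀ : ↥P ≃* X := e
  let H : Subgroup X := ((S ⊓ P).subgroupOf P).map e₀.toMonoidHom
  have hH : Nat.card ↥H = 16 := by
    rw [Subgroup.card_map_of_injective e₀.injective,
      Nat.card_congr (Subgroup.subgroupOfEquivOfLe (inf_le_right : S ⊓ P ≤ P)).toEquiv, hsyl]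
  have hHc : Nat.card ↥H = 2 ^ (Nat.card X).factorization 2 := by
    rw [hH, factorization_X]; norm_num
  have hTc : Nat.card ↥T0 = 2 ^ (Nat.card X).factorization 2 := by
    rw [card_T0, factorization_X]; norm_num
  obtain ⟨g, hg⟩ := MulAction.exists_smul_eq X (Sylow.ofCard H hHc) (Sylow.ofCard T0 hTc)
  have hg' : H.map (MulAut.conj g).toMonoidHom = T0 :=
    congrArg (fun Q : Sylow 2 X => (Q : Subgroup X)) hg
  let e' : ↥P ≃* X := e₀.trans (MulAut.conj g)
  let φ : X →* G := P.subtype.comp e'.symm.toMonoidHom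
  have hφ : Function.Injective φ := P.subtype_injective.comp e'.symm.injective
  have hr : ∀ a, a ∈ P ↔ ∃ x, φ x = a := by
    intro a
    constructor
    · intro ha
      refine ⟨e' ⟨a, ha⟩, ?_⟩
      show ((e'.symm (e' ⟨a, ha⟩) : ↥P) : G) = a
      rw [MulEquiv.symm_apply_apply]
    · rintro ⟨x, rfl⟩
      exact (e'.symm x).2
  have hT : ∀ x, φ x ∈ S ⊓ P ↔ InT x := by
    intro x
    rw [← mem_T0, ← hg']
    constructor
    · intro hx
      refine ⟨e₀ (e'.symm x), ⟨e'.symm x, ?_, rfl⟩, ?_⟩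
      · exact Subgroup.mem_subgroupOf.mpr hx
      · show e' (e'.symm x) = x
        rw [MulEquiv.apply_symm_apply]
    · rintro ⟨_, ⟨p, hp, rfl⟩, rfl⟩
      have : e'.symm ((MulAut.conj g).toMonoidHom (e₀.toMonoidHom p)) = p := by
        show e'.symm (e' p) = p
        rw [MulEquiv.symm_apply_apply]
      show ((e'.symm ((MulAut.conj g).toMonoidHom (e₀.toMonoidHom p)) : ↥P) : G) ∈ S ⊓ P
      rw [this]
      exact Subgroup.mem_subgroupOf.mp hp
  exact (sit_of_hom φ hφ hr hT hS2 hP hVS hVn hVsq).false hlt hV4 hIn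

end Cfsg.Agent.Lead.J5K
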