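import Mathlib
import Cfsg.Agent.Lead.J51I
import Cfsg.Agent.Lead.J5KC
import Cfsg.Agent.Helper1.J52E
import Cfsg.Agent.Helper1.J5KB

/-!
Lead: `KillProp` from the two kill lemmas (`Helper1.J5K.kill_S4`, `Lead.J5K.kill_S4C2`).
-/

set_option autoImplicit false

namespace Cfsg.Agent.Lead.J51

universe u

theorem killProp (G : Type u) [Group G] [Finite G] : KillProp G :=
  ⟨fun S P V hS2 ⟨e⟩ hP hsyl hlt hVS hVn hVsq hV4 =>
      Cfsg.Agent.Helper1.J5K.kill_S4 S P V hS2 e hP hsyl hlt hVS hVn hVsq hV4,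
    fun S P V hS2 ⟨e⟩ hP hsyl hlt hVS hVn hVsq hV4 hIn =>
      Cfsg.Agent.Lead.J5K.kill_S4C2 S P V hS2 e hP hsyl hlt hVS hVn hVsq hV4 hIn⟩

end Cfsg.Agent.Lead.J51
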