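import Mathlib
import Cfsg.Agent.Lead.J51G
import Cfsg.Agent.S2858
import Cfsg.Agent.Helper8.Ord6

/-!
Lead: the S₄-amalgam theorem S2858 for two subgroups `P₁, P₂` of an ambient finite group, in the form needed for S2954:
two subgroups satisfying `Clause T P_i` with `O₂(⟨P₁, P₂⟩) = 1` are both `S₄` or both `S₄ × C₂`.
-/

set_option autoImplicit false
set_option linter.unusedSectionVars false
set_option linter.style.haveILetI false

namespace Cfsg.Agent.Lead.J5P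

open Cfsg Cfsg.Agent.Lead.J51

universe u

variable {G : Type u} [Group G]

/-- `O_p(P)` computed inside a larger subgroup `H` -/
theorem pCoreOf_subgroupOf (p : ℕ) {P H : Subgroup G} (hPH : P ≤ H) :
    (Cfsg.pCoreOf p (P.subgroupOf H)).map H.subtype = Cfsg.pCoreOf p P := by
  rw [← Cfsg.Agent.Lead.LLem.pCoreOf_map H.subtype H.subtype_injective, Subgroup.map_subgroupOf_eq_of_le hPH]

theorem mem_pCoreOf_subgroupOf (p : ℕ) {P H : Subgroup G} (hPH : P ≤ H) (x : ↥H) :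
    x ∈ Cfsg.pCoreOf p (P.subgroupOf H) ↔ (x : G) ∈ Cfsg.pCoreOf p P := by
  rw [← pCoreOf_subgroupOf p hPH]
  constructor
  · intro hx
    exact ⟨x, hx, rfl⟩
  · rintro ⟨y, hy, hyx⟩
    have : y = x := H.subtype_injective hyx
    rw [← this]
    exact hy

/-- `(O_p(P)).subgroupOf P = O_p(↥P)` -/
theorem pCoreOf_subgroupOf_self (p : ℕ) (P : Subgroup G) :
    (Cfsg.pCoreOf p P).subgroupOf P = Cfsg.pCore p ↥P := by
  unfold Cfsg.pCoreOf Subgroup.subgroupOf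
  exact Subgroup.comap_map_eq_self_of_injective P.subtype_injective _

theorem index_pCore (p : ℕ) (P : Subgroup G) :
    (Cfsg.pCore p ↥P).index = (Cfsg.pCoreOf p P).relIndex P := by
  rw [Subgroup.relIndex, pCoreOf_subgroupOf_self]

variable [Finite G]

/-- `P / O₂(P) ≅ S₃` from the clause -/
theorem quot_iso_of_clause {T P : Subgroup G} (hc : Clause T P) :
    Nonempty (↥P ⧸ Cfsg.pCore 2 ↥P ≃* Equiv.Perm (Fin 3)) := by
  obtain ⟨-, -, h6, hna, -, -⟩ := hc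
  apply Cfsg.Agent.Helper8.Ord6.mulEquiv_perm_three
  · rw [← Subgroup.index_eq_card, index_pCore, h6]
  · intro hab
    apply hna
    rw [Subgroup.commutator_le]
    intro a ha b hb
    have h1 := hab (QuotientGroup.mk (⟨a, ha⟩ : ↥P)) (QuotientGroup.mk (⟨b, hb⟩ : ↥P))
    have h2 : (QuotientGroup.mk ((⟨a, ha⟩ : ↥P) * ⟨b, hb⟩ * (⟨a, ha⟩ : ↥P)⁻¹ * (⟨b, hb⟩ : ↥P)⁻¹) :
        ↥P ⧸ Cfsg.pCore 2 ↥P) = 1 := by
      simp only [QuotientGroup.mk_mul, QuotientGroup.mk_inv]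
      rw [h1]
      group
    rw [QuotientGroup.eq_one_iff] at h2
    exact ⟨_, h2, rfl⟩

theorem pCoreOf_le_T {T P : Subgroup G} (hc : Clause T P) : Cfsg.pCoreOf 2 P ≤ T := by
  haveI : Fact (Nat.Prime 2) := ⟨Nat.prime_two⟩
  obtain ⟨-, ⟨hTP, hT2, hodd⟩, -⟩ := hc
  apply Cfsg.Agent.Lead.KInf.pCoreOf_le_of_sylow hTP hT2
  intro h2
  rcases hodd with ⟨k, hk⟩
  omega

/-- `|P : T| = 3` from the clause -/
theorem relIndex_eq_three {T P : Subgroup G} (hc : Clause T P) : T.relIndex P = 3 := by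
  have hOT := pCoreOf_le_T hc
  obtain ⟨-, ⟨hTP, hT2, hodd⟩, h6, -⟩ := hc
  have hmul := Subgroup.relIndex_mul_relIndex _ _ _ hOT hTP
  rw [h6] at hmul
  obtain ⟨n, hn⟩ := hT2.index ((Cfsg.pCoreOf 2 P).subgroupOf T)
  have hn' : (Cfsg.pCoreOf 2 P).relIndex T = 2 ^ n := hn
  rw [hn'] at hmul
  rcases hodd with ⟨k, hk⟩
  rw [hk] at hmul ⊢
  have hdvd : (2 * k + 1) ∣ 6 := ⟨2 ^ n, by rw [← hmul]; ring⟩
  have hle : 2 * k + 1 ≤ 6 := Nat.le_of_dvd (by norm_num) hdvd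
  have hk3 : k ≤ 2 := by omega
  interval_cases k
  · exfalso
    simp only [mul_zero, zero_add, mul_one] at hmul
    have h2n : n ≤ 6 := by
      by_contra hcon
      push Not at hcon
      have : 2 ^ 7 ≤ 2 ^ n := Nat.pow_le_pow_right (by norm_num) hcon
      omega
    interval_cases n <;> omega
  · rfl
  · exfalso
    omega

/-- two distinct subgroups with the clause meet in `T` -/
theorem inf_eq_T {T P₁ P₂ : Subgroup G} (hc₁ : Clause T P₁) (hc₂ : Clause T P₂) (hne : P₁ ≠ P₂) :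
    P₁ ⊓ P₂ = T := by
  have h31 := relIndex_eq_three hc₁
  have h32 := relIndex_eq_three hc₂
  have hT1 : T ≤ P₁ := hc₁.2.1.1
  have hT2 : T ≤ P₂ := hc₂.2.1.1
  have hTD : T ≤ P₁ ⊓ P₂ := le_inf hT1 hT2
  have hmul := Subgroup.relIndex_mul_relIndex _ _ _ hTD (inf_le_left : P₁ ⊓ P₂ ≤ P₁)
  rw [h31] at hmul
  have hprime : Nat.Prime 3 := Nat.prime_three
  have hd : T.relIndex (P₁ ⊓ P₂) ∣ 3 := ⟨_, hmul.symm⟩
  rcases (Nat.dvd_prime hprime).mp hd with h1 | h3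
  · exact le_antisymm (Subgroup.relIndex_eq_one.mp h1) hTD
  · exfalso
    rw [h3] at hmul
    have h1 : (P₁ ⊓ P₂).relIndex P₁ = 1 := by omega
    have hP12 : P₁ ≤ P₂ := le_trans (Subgroup.relIndex_eq_one.mp h1) inf_le_right
    have hmul2 := Subgroup.relIndex_mul_relIndex _ _ _ hT1 hP12
    rw [h31, h32] at hmul2
    have h1' : P₁.relIndex P₂ = 1 := by omega
    exact hne (le_antisymm hP12 (Subgroup.relIndex_eq_one.mp h1'))

section hyps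

variable {T P H : Subgroup G}

theorem h1_of (hPH : P ≤ H) (hc : Clause T P) :
    P.subgroupOf H ⊓ Subgroup.centralizer (Cfsg.pCoreOf 2 (P.subgroupOf H) : Set ↥H) ≤
      Cfsg.pCoreOf 2 (P.subgroupOf H) := by
  rintro x ⟨hxP, hxC⟩
  rw [mem_pCoreOf_subgroupOf 2 hPH]
  apply hc.1
  rw [Subgroup.mem_centralizer_iff]
  intro y hy
  have hyH : y ∈ H := hPH (Cfsg.Agent.Lead.LLem.pCoreOf_le P hy)
  have hy' : (⟨y, hyH⟩ : ↥H) ∈ Cfsg.pCoreOf 2 (P.subgroupOf H) := by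
    rw [mem_pCoreOf_subgroupOf 2 hPH]
    exact hy
  have := (Subgroup.mem_centralizer_iff.mp hxC) _ hy'
  exact congrArg (fun t : ↥H => (t : G)) this

theorem h2_of (hPH : P ≤ H) (hc : Clause T P) :
    ∃ S : Sylow 2 ↥(P.subgroupOf H),
      (S : Subgroup ↥(P.subgroupOf H)) = (T.subgroupOf H).subgroupOf (P.subgroupOf H) := by
  haveI : Fact (Nat.Prime 2) := ⟨Nat.prime_two⟩
  obtain ⟨-, ⟨hTP, hT2, hodd⟩, -⟩ := hc
  have hp : IsPGroup 2 ↥((T.subgroupOf H).subgroupOf (P.subgroupOf H)) :=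
    (hT2.comap_subtype (K := H)).comap_subtype
  have hidx : ¬ 2 ∣ ((T.subgroupOf H).subgroupOf (P.subgroupOf H)).index := by
    have h1 : ((T.subgroupOf H).subgroupOf (P.subgroupOf H)).index = T.relIndex P :=
      Subgroup.relIndex_subgroupOf hPH
    rw [h1]
    rcases hodd with ⟨k, hk⟩
    omega
  exact ⟨hp.toSylow hidx, IsPGroup.toSylow_coe _ _⟩

theorem h4_of (hPH : P ≤ H) (hc : Clause T P) :
    Nonempty (↥(P.subgroupOf H) ⧸ Cfsg.pCore 2 ↥(P.subgroupOf H) ≃* Equiv.Perm (Fin 3)) := by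
  obtain ⟨f⟩ := quot_iso_of_clause hc
  let ε : ↥(P.subgroupOf H) ≃* ↥P := Subgroup.subgroupOfEquivOfLe hPH
  have hε : (Cfsg.pCore 2 ↥(P.subgroupOf H)).map ε.toMonoidHom = Cfsg.pCore 2 ↥P :=
    Cfsg.Agent.Lead.LLem.pCore_map_equiv' ε
  exact ⟨(QuotientGroup.congr _ _ ε hε).trans f⟩

theorem h5_of (hPH : P ≤ H) (hc : Clause T P) :
    ¬ P.subgroupOf H ≤ Subgroup.centralizer
      (Cfsg.omegaOne 2 (T.subgroupOf H ⊓ Subgroup.centralizer (T.subgroupOf H : Set ↥H)) : Set ↥H) := by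
  intro hle
  obtain ⟨-, ⟨hTP, -, -⟩, -, -, hcomm, -⟩ := hc
  apply hcomm
  rw [Subgroup.commutator_eq_bot_iff_le_centralizer]
  unfold Cfsg.omegaCenterOf Cfsg.omegaOne
  rw [Subgroup.closure_le]
  rintro x ⟨⟨hxT, hxC⟩, hx2⟩
  rw [SetLike.mem_coe, Subgroup.mem_centralizer_iff]
  intro q hq
  have hxH : x ∈ H := hPH (hTP hxT)
  have hqH : q ∈ H := hPH hq
  have hxΩ : (⟨x, hxH⟩ : ↥H) ∈
      Cfsg.omegaOne 2 (T.subgroupOf H ⊓ Subgroup.centralizer (T.subgroupOf H : Set ↥H)) := by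
    unfold Cfsg.omegaOne
    apply Subgroup.subset_closure
    refine ⟨⟨Subgroup.mem_subgroupOf.mpr hxT, ?_⟩, Subtype.ext hx2⟩
    show (⟨x, hxH⟩ : ↥H) ∈ Subgroup.centralizer (T.subgroupOf H : Set ↥H)
    rw [Subgroup.mem_centralizer_iff]
    intro t ht
    apply Subtype.ext
    exact (Subgroup.mem_centralizer_iff.mp hxC) _ (Subgroup.mem_subgroupOf.mp ht)
  have hqQ : (⟨q, hqH⟩ : ↥H) ∈ P.subgroupOf H := Subgroup.mem_subgroupOf.mpr hq
  have := (Subgroup.mem_centralizer_iff.mp (hle hqQ)) _ hxΩ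
  exact (congrArg (fun t : ↥H => (t : G)) this).symm

end hyps

/-- the S₄-amalgam theorem inside an ambient finite group -/
theorem isoAlt_of_clause {T P₁ P₂ : Subgroup G} (hc₁ : Clause T P₁) (hc₂ : Clause T P₂) (hne : P₁ ≠ P₂)
    (hcore : Cfsg.pCoreOf 2 (P₁ ⊔ P₂) = ⊥) : IsoAlt P₁ P₂ := by
  have hP1 : P₁ ≤ P₁ ⊔ P₂ := le_sup_left
  have hP2 : P₂ ≤ P₁ ⊔ P₂ := le_sup_right
  have hT2 : IsPGroup 2 ↥T := hc₁.2.1.2.1
  have hinf := inf_eq_T hc₁ hc₂ hne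
  have hgen : P₁.subgroupOf (P₁ ⊔ P₂) ⊔ P₂.subgroupOf (P₁ ⊔ P₂) = ⊤ := by
    rw [← Subgroup.subgroupOf_sup hP1 hP2, Subgroup.subgroupOf_self]
  have hT : T.subgroupOf (P₁ ⊔ P₂) = P₁.subgroupOf (P₁ ⊔ P₂) ⊓ P₂.subgroupOf (P₁ ⊔ P₂) := by
    rw [← hinf]
    rfl
  have hcore' : Cfsg.pCore 2 ↥(P₁ ⊔ P₂) = ⊥ := by
    unfold Cfsg.pCoreOf at hcore
    exact (Subgroup.map_eq_bot_iff_of_injective _ (Subgroup.subtype_injective _)).mp hcore
  have h₃ : ∀ N : Subgroup ↥(P₁ ⊔ P₂), N.Normal → N ≤ T.subgroupOf (P₁ ⊔ P₂) → N = ⊥ := by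
    intro N hN hNT
    have hp : IsPGroup 2 ↥N := (hT2.comap_subtype (K := P₁ ⊔ P₂)).to_le hNT
    have := Cfsg.Agent.Helper5.le_pCore hN hp
    rw [hcore'] at this
    exact le_bot_iff.mp this
  have key := Cfsg.Agent.S2858.result (P₁.subgroupOf (P₁ ⊔ P₂)) (P₂.subgroupOf (P₁ ⊔ P₂)) hgen
    (T.subgroupOf (P₁ ⊔ P₂)) hT
    (by
      intro P hP
      rcases hP with rfl | rfl
      · exact h1_of hP1 hc₁
      · exact h1_of hP2 hc₂)
    (by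
      intro P hP
      rcases hP with rfl | rfl
      · exact h2_of hP1 hc₁
      · exact h2_of hP2 hc₂)
    h₃
    (by
      intro P hP
      rcases hP with rfl | rfl
      · exact h4_of hP1 hc₁
      · exact h4_of hP2 hc₂)
    (by
      intro P hP
      rcases hP with rfl | rfl
      · exact h5_of hP1 hc₁
      · exact h5_of hP2 hc₂)
  let ε₁ : ↥(P₁.subgroupOf (P₁ ⊔ P₂)) ≃* ↥P₁ := Subgroup.subgroupOfEquivOfLe hP1
  let ε₂ : ↥(P₂.subgroupOf (P₁ ⊔ P₂)) ≃* ↥P₂ := Subgroup.subgroupOfEquivOfLe hP2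
  rcases key with ⟨⟨f₁⟩, ⟨f₂⟩⟩ | ⟨⟨f₁⟩, ⟨f₂⟩⟩
  · exact Or.inl ⟨⟨ε₁.symm.trans f₁⟩, ⟨ε₂.symm.trans f₂⟩⟩
  · exact Or.inr ⟨⟨(ε₁.symm.trans f₁).trans MulEquiv.prodComm⟩, ⟨(ε₂.symm.trans f₂).trans MulEquiv.prodComm⟩⟩

end Cfsg.Agent.Lead.J5P
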