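import Mathlib
import Cfsg.Agent.Lead.J5PA
import Cfsg.Agent.Lead.J5KB
import Cfsg.Agent.Helper1.J52D

/-!
Lead: piece P3b of S2951--S2954 (`P3Prop`): for two configurations with the same `T` and `K₂ ≰ L₁`, the maximal 2-locals
`L₁, L₂` are distinct and both `S₄` or both `S₄ × C₂`.
-/

set_option autoImplicit false
set_option linter.unusedSectionVars false
set_option linter.style.haveILetI false

namespace Cfsg.Agent.Lead.J5P

open Cfsg Cfsg.Agent.Lead.J51 Cfsg.Agent.Lead.J5K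

universe u

set_option maxRecDepth 100000 in
theorem f_core : ∀ x : X, (∀ g : X, Cfsg.Agent.Lead.J5K.InT (g * x * g⁻¹)) → Cfsg.Agent.Lead.J5K.InU x := by
  decide

set_option maxRecDepth 100000 in
theorem f_U_comm : ∀ a b : X, Cfsg.Agent.Lead.J5K.InU a → Cfsg.Agent.Lead.J5K.InU b → a * b = b * a := by
  decide

/-- `O₂(S₄ × C₂)` is abelian -/
theorem pCore_X_comm : ∀ x ∈ Cfsg.pCore 2 X, ∀ y ∈ Cfsg.pCore 2 X, x * y = y * x := by
  haveI : Fact (Nat.Prime 2) := ⟨Nat.prime_two⟩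
  have hTc : Nat.card ↥T0 = 2 ^ (Nat.card X).factorization 2 := by
    rw [card_T0, factorization_X]; norm_num
  have hle : Cfsg.pCore 2 X ≤ T0 := Cfsg.Agent.Helper5.pCore_le_sylow (Sylow.ofCard T0 hTc)
  have hn : (Cfsg.pCore 2 X).Normal := inferInstance
  have hU : ∀ x ∈ Cfsg.pCore 2 X, Cfsg.Agent.Lead.J5K.InU x := by
    intro x hx
    apply f_core
    intro g
    exact hle (hn.conj_mem x hx g)
  intro x hx y hy
  exact f_U_comm x y (hU x hx) (hU y hy)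

variable {G : Type u} [Group G] [Finite G]

theorem pCoreOf_comm_of_iso {P : Subgroup G} (e : ↥P ≃* X) :
    ∀ x ∈ Cfsg.pCoreOf 2 P, ∀ y ∈ Cfsg.pCoreOf 2 P, x * y = y * x := by
  have hmap : (Cfsg.pCore 2 ↥P).map e.toMonoidHom = Cfsg.pCore 2 X :=
    Cfsg.Agent.Lead.LLem.pCore_map_equiv' e
  rintro _ ⟨x, hx, rfl⟩ _ ⟨y, hy, rfl⟩
  have hx' : e x ∈ Cfsg.pCore 2 X := by rw [← hmap]; exact ⟨x, hx, rfl⟩
  have hy' : e y ∈ Cfsg.pCore 2 X := by rw [← hmap]; exact ⟨y, hy, rfl⟩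
  have h := pCore_X_comm _ hx' _ hy'
  rw [← map_mul, ← map_mul] at h
  have h' := e.injective h
  show (P.subtype x) * (P.subtype y) = (P.subtype y) * (P.subtype x)
  rw [← map_mul, ← map_mul, h']

theorem L_eq_of_iso {M T K L : Subgroup G} (c : Cfg M T K L)
    (hΩ : Cfsg.omegaCenterOf T = Cfsg.omegaCenterOf (Cfsg.thompsonSubgroupOf 2 T))
    (h : Nonempty (↥(K ⊔ T) ≃* Equiv.Perm (Fin 4)) ∨
      Nonempty (↥(K ⊔ T) ≃* Equiv.Perm (Fin 4) × Multiplicative (ZMod 2))) : L = K ⊔ T := by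
  have hcard := c.card_P hΩ
  rcases h with h | h
  · obtain ⟨e⟩ := h
    have h24 : Nat.card ↥(K ⊔ T) = 24 := by
      rw [Nat.card_congr e.toEquiv, Nat.card_perm, Nat.card_fin]; rfl
    exact c.L_eq_of_card_eight hΩ (by omega)
  · obtain ⟨e⟩ := h
    have h48 : Nat.card ↥(K ⊔ T) = 48 := by
      rw [Nat.card_congr e.toEquiv]; exact card_X
    exact c.L_eq_of_card_sixteen hΩ (by omega) (pCoreOf_comm_of_iso e)

/-- piece P3b -/
theorem p3Prop (G : Type u) [Group G] [Finite G] : P3Prop G := by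
  intro M₁ M₂ T K₁ K₂ L₁ L₂ c₁ c₂ hΩ h21
  have hcl₁ := c₁.clause hΩ
  have hcl₂ := c₂.clause hΩ
  have hne : K₁ ⊔ T ≠ K₂ ⊔ T := by
    intro e
    apply h21
    have : K₂ ≤ K₁ ⊔ T := by rw [e]; exact le_sup_left
    exact this.trans (sup_le c₁.K_le c₁.T_le)
  have hcore : Cfsg.pCoreOf 2 ((K₁ ⊔ T) ⊔ (K₂ ⊔ T)) = ⊥ := by
    by_contra hR
    apply h21
    have hN2 : Cfsg.IsTwoLocal (Subgroup.normalizer
        (Cfsg.pCoreOf 2 ((K₁ ⊔ T) ⊔ (K₂ ⊔ T)) : Set G)) :=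
      ⟨_, Cfsg.Agent.Lead.LLem.isPGroup_pCoreOf _, hR, rfl⟩
    have hle := Cfsg.Agent.Lead.KInf.pCoreOf_le_normalizer 2 ((K₁ ⊔ T) ⊔ (K₂ ⊔ T))
    have h1 : K₁ ⊔ Cfsg.thompsonSubgroupOf 2 T ≤ (K₁ ⊔ T) ⊔ (K₂ ⊔ T) :=
      (sup_le_sup_left c₁.J_le_T K₁).trans le_sup_left
    have h2 := c₁.le_L hN2 (h1.trans hle)
    exact ((le_sup_left.trans le_sup_right).trans hle).trans h2
  have hiso := isoAlt_of_clause hcl₁ hcl₂ hne hcore
  have hL₁ : L₁ = K₁ ⊔ T := by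
    apply L_eq_of_iso c₁ hΩ
    rcases hiso with ⟨h, -⟩ | ⟨h, -⟩
    · exact Or.inl h
    · exact Or.inr h
  have hL₂ : L₂ = K₂ ⊔ T := by
    apply L_eq_of_iso c₂ hΩ
    rcases hiso with ⟨-, h⟩ | ⟨-, h⟩
    · exact Or.inl h
    · exact Or.inr h
  refine ⟨?_, ?_⟩
  · intro e
    apply h21
    rw [e]
    exact c₂.K_le
  · rw [hL₁, hL₂]
    exact hiso

end Cfsg.Agent.Lead.J5P
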