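import Mathlib
import Cfsg.Agent.Lead.FusionInner
import Cfsg.Agent.Helper5.PGroupCenter

set_option autoImplicit false

/-!
# An abstract configuration giving a Sylow `2`-subgroup `C₂⟨w⟩`

`j` has order four, `w` is an involution inverting `j`, the centralizer `C` of `j` is abelian,
and a few further axioms hold (modelled on `SL_3(F)`, `j = diag(J,1)`, `w = diag(1,-1,-1)`).
`S0` is the subgroup `C₂ ∪ C₂ w` where `C₂` is the set of `2`-elements of `C`.
We prove: `S0` is a `2`-group; `N_G(S0) ≤ S0 Z` with `Z = C ∩ C(w)` central in `S0`; `S0` is a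
Sylow `2`-subgroup; every nontrivial normal subgroup of `S0` contains `j²`.
-/

namespace Cfsg.Agent.Lead.JW

variable {G : Type*} [Group G]

/-- the abstract configuration -/
structure Cfg (j w : G) : Prop where
  w_sq : w * w = 1
  w_j : w * j * w⁻¹ = j⁻¹
  j_four : (j * j) * (j * j) = 1
  j_sq_ne : j * j ≠ 1
  comm : ∀ x y : G, Commute x j → Commute y j → Commute x y
  cent : ∀ x g : G, Commute x j → Commute x w → Commute g (j * j) → Commute g x
  h3 : ∀ y g : G, Commute y j → ¬ Commute y w → Commute g (j * j) → Commute g y → Commute g j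
  h4 : ∀ x : G, Commute x j → x * x = j * j → x = j ∨ x = j⁻¹ ∨ Commute x w
  h5 : ∀ x : G, Commute x j → Commute x w → x * x = 1 → x = 1 ∨ x = j * j

/-- `x` is a `2`-element of the centralizer of `j` -/
def IsC2 (j x : G) : Prop := Commute x j ∧ ∃ k : ℕ, x ^ 2 ^ k = 1

variable {j w : G}

namespace Cfg

theorem w_inv (c : Cfg j w) : w⁻¹ = w := inv_eq_of_mul_eq_one_right c.w_sq

theorem w_j' (c : Cfg j w) : w * j * w = j⁻¹ := by
  have := c.w_j
  rwa [c.w_inv] at this

theorem conj_comm (c : Cfg j w) {x : G} (hx : Commute x j) : Commute (w * x * w⁻¹) j := by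
  have h1 : Commute (w * x * w⁻¹) (w * j * w⁻¹) := by
    show w * x * w⁻¹ * (w * j * w⁻¹) = w * j * w⁻¹ * (w * x * w⁻¹)
    have : x * j = j * x := hx.eq
    calc w * x * w⁻¹ * (w * j * w⁻¹) = w * (x * j) * w⁻¹ := by group
      _ = w * (j * x) * w⁻¹ := by rw [this]
      _ = w * j * w⁻¹ * (w * x * w⁻¹) := by group
  rw [c.w_j] at h1
  have := h1.inv_right
  rwa [inv_inv] at this

theorem conj_conj (c : Cfg j w) (x : G) : w * (w * x * w⁻¹) * w⁻¹ = x := by
  rw [c.w_inv]
  calc w * (w * x * w) * w = (w * w) * x * (w * w) := by group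
    _ = x := by rw [c.w_sq, one_mul, mul_one]

theorem conj_isC2 (c : Cfg j w) {x : G} (hx : IsC2 j x) : IsC2 j (w * x * w⁻¹) := by
  obtain ⟨h1, k, hk⟩ := hx
  refine ⟨c.conj_comm h1, k, ?_⟩
  rw [conj_pow, hk]
  group

theorem j_isC2 (c : Cfg j w) : IsC2 j j := by
  refine ⟨Commute.refl j, 2, ?_⟩
  have : j ^ 2 ^ 2 = (j * j) * (j * j) := by
    show j ^ 4 = _
    rw [pow_succ, pow_succ, pow_succ, pow_one]
    group
  rw [this, c.j_four]

theorem not_comm_w_j (c : Cfg j w) : ¬ Commute w j := by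
  intro h
  have h1 : w * j * w⁻¹ = j := by
    rw [h.eq]; group
  rw [c.w_j] at h1
  apply c.j_sq_ne
  calc j * j = j * j⁻¹ := by rw [h1]
    _ = 1 := mul_inv_cancel j

theorem z_inv (c : Cfg j w) : (j * j)⁻¹ = j * j := inv_eq_of_mul_eq_one_right c.j_four

theorem comm_z_j (_c : Cfg j w) : Commute (j * j) j := (Commute.refl j).mul_left (Commute.refl j)

theorem comm_z_w (c : Cfg j w) : Commute (j * j) w := by
  have h1 : w * (j * j) * w⁻¹ = j * j := by
    calc w * (j * j) * w⁻¹ = (w * j * w⁻¹) * (w * j * w⁻¹) := by group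
      _ = j⁻¹ * j⁻¹ := by rw [c.w_j]
      _ = (j * j)⁻¹ := by group
      _ = j * j := c.z_inv
  show j * j * w = w * (j * j)
  calc j * j * w = w * (j * j) * w⁻¹ * w := by rw [h1]
    _ = w * (j * j) := by group

/-- the `2`-elements of the centralizer of `j` -/
def C2 (c : Cfg j w) : Subgroup G where
  carrier := {x | IsC2 j x}
  one_mem' := ⟨Commute.one_left j, 0, by simp⟩
  mul_mem' := by
    rintro x y ⟨hx, k, hk⟩ ⟨hy, l, hl⟩
    refine ⟨hx.mul_left hy, k + l, ?_⟩
    rw [(c.comm x y hx hy).mul_pow, pow_add, pow_mul, hk, one_pow, one_mul, mul_comm (2 ^ k),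
      pow_mul, hl, one_pow]
  inv_mem' := by
    rintro x ⟨hx, k, hk⟩
    refine ⟨hx.inv_left, k, ?_⟩
    rw [inv_pow, hk, inv_one]

theorem mem_C2 (c : Cfg j w) {x : G} : x ∈ c.C2 ↔ IsC2 j x := Iff.rfl

theorem conj_mem_C2 (c : Cfg j w) {x : G} (hx : x ∈ c.C2) : w * x * w ∈ c.C2 := by
  have := c.conj_isC2 hx
  rwa [c.w_inv] at this

/-- the subgroup `C₂ ∪ C₂ w` -/
def S0 (c : Cfg j w) : Subgroup G where
  carrier := {x | x ∈ c.C2 ∨ x * w ∈ c.C2}
  one_mem' := Or.inl c.C2.one_mem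
  mul_mem' := by
    rintro x y (hx | hx) (hy | hy)
    · exact Or.inl (c.C2.mul_mem hx hy)
    · right
      have : x * y * w = x * (y * w) := by group
      rw [this]
      exact c.C2.mul_mem hx hy
    · right
      have : x * y * w = (x * w) * (w * y * w) := by
        calc x * y * w = x * (w * w) * y * w := by rw [c.w_sq, mul_one]
          _ = (x * w) * (w * y * w) := by group
      rw [this]
      exact c.C2.mul_mem hx (c.conj_mem_C2 hy)
    · left
      have : x * y = (x * w) * (w * (y * w) * w) := by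
        calc x * y = x * (w * w) * y * (w * w) := by rw [c.w_sq, mul_one, mul_one]
          _ = (x * w) * (w * (y * w) * w) := by group
      rw [this]
      exact c.C2.mul_mem hx (c.conj_mem_C2 hy)
  inv_mem' := by
    rintro x (hx | hx)
    · exact Or.inl (c.C2.inv_mem hx)
    · right
      have : x⁻¹ * w = (w * (x * w) * w)⁻¹ := by
        have h1 : (w * (x * w) * w)⁻¹ = w⁻¹ * w⁻¹ * x⁻¹ * w⁻¹ := by group
        rw [h1, c.w_inv, c.w_sq, one_mul]
      rw [this]
      exact c.C2.inv_mem (c.conj_mem_C2 hx)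

theorem mem_S0 (c : Cfg j w) {x : G} : x ∈ c.S0 ↔ x ∈ c.C2 ∨ x * w ∈ c.C2 := Iff.rfl

theorem C2_le_S0 (c : Cfg j w) : c.C2 ≤ c.S0 := fun _ hx => Or.inl hx

theorem w_mem_S0 (c : Cfg j w) : w ∈ c.S0 := by
  right
  rw [c.w_sq]
  exact c.C2.one_mem

theorem j_mem_S0 (c : Cfg j w) : j ∈ c.S0 := Or.inl c.j_isC2

theorem z_mem_C2 (c : Cfg j w) : j * j ∈ c.C2 := c.C2.mul_mem c.j_isC2 c.j_isC2

/-- square of an element of `C₂ w` -/
theorem sq_of_mul_w (c : Cfg j w) {x : G} (_hx : x * w ∈ c.C2) :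
    x * x = (x * w) * (w * (x * w) * w) := by
  calc x * x = x * (w * w) * x * (w * w) := by rw [c.w_sq, mul_one, mul_one]
    _ = (x * w) * (w * (x * w) * w) := by group

theorem isPGroup_S0 (c : Cfg j w) : IsPGroup 2 c.S0 := by
  rintro ⟨x, hx⟩
  rcases hx with hx | hx
  · obtain ⟨-, k, hk⟩ := hx
    exact ⟨k, Subtype.ext hk⟩
  · have h1 : x * x ∈ c.C2 := by
      rw [c.sq_of_mul_w hx]
      exact c.C2.mul_mem hx (c.conj_mem_C2 hx)
    obtain ⟨-, k, hk⟩ := h1
    refine ⟨k + 1, Subtype.ext ?_⟩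
    show x ^ 2 ^ (k + 1) = 1
    rw [pow_succ, mul_comm, pow_mul, pow_two, hk]

/-- elements commuting with `j` and `w` centralize `S0` -/
theorem comm_of_Z (c : Cfg j w) {t : G} (h1 : Commute t j) (h2 : Commute t w) {s : G}
    (hs : s ∈ c.S0) : Commute t s := by
  rcases hs with hs | hs
  · exact c.comm t s h1 hs.1
  · have h3 : Commute t (s * w) := c.comm t _ h1 hs.1
    have h4 : s = (s * w) * w⁻¹ := by group
    rw [h4]
    exact h3.mul_right h2.inv_right

/-- elements centralizing `S0` commute with `j` and `w` -/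
theorem Z_of_comm (c : Cfg j w) {t : G} (h : ∀ s ∈ c.S0, Commute t s) :
    Commute t j ∧ Commute t w := ⟨h j c.j_mem_S0, h w c.w_mem_S0⟩

/-- the key step: an element of `C` normalizing `S0` lies in `C₂ Z` -/
theorem normalizer_C [Finite G] (c : Cfg j w) {g : G} (hg : Commute g j)
    (hN : g ∈ Subgroup.normalizer (c.S0 : Set G)) :
    ∃ s ∈ c.C2, ∃ t : G, Commute t j ∧ Commute t w ∧ g = s * t := by
  -- `h = g (w g⁻¹ w⁻¹)` lies in `C₂`
  have hgbar : Commute (w * g⁻¹ * w⁻¹) j := c.conj_comm hg.inv_left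
  have hmem : g * w * g⁻¹ ∈ c.S0 := (Subgroup.mem_normalizer_iff.mp hN w).mp c.w_mem_S0
  have hC : Commute (g * (w * g⁻¹ * w⁻¹)) j := hg.mul_left hgbar
  have hh : g * (w * g⁻¹ * w⁻¹) ∈ c.C2 := by
    rcases hmem with h1 | h1
    · exfalso
      -- then `w` commutes with `j`
      have h2 : Commute (g * w * g⁻¹) j := h1.1
      have h3 : g * w * g⁻¹ = (g * (w * g⁻¹ * w⁻¹)) * w := by group
      rw [h3] at h2
      have h4 : Commute ((g * (w * g⁻¹ * w⁻¹))⁻¹ * ((g * (w * g⁻¹ * w⁻¹)) * w)) j :=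
        hC.inv_left.mul_left h2
      rw [inv_mul_cancel_left] at h4
      exact c.not_comm_w_j h4
    · have h3 : g * w * g⁻¹ * w = g * (w * g⁻¹ * w⁻¹) := by rw [c.w_inv]; group
      rwa [h3] at h1
  obtain ⟨-, k, hk⟩ := hh
  -- `g^(2^k)` commutes with `w`
  have hcomm : Commute g (w * g⁻¹ * w⁻¹) := c.comm _ _ hg hgbar
  have h5 : g ^ 2 ^ k * (w * g⁻¹ * w⁻¹) ^ 2 ^ k = 1 := by
    rw [← hcomm.mul_pow]; exact hk
  have h6 : (w * g⁻¹ * w⁻¹) ^ 2 ^ k = w * (g ^ 2 ^ k)⁻¹ * w⁻¹ := by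
    rw [conj_pow, inv_pow]
  rw [h6] at h5
  have ht2 : Commute (g ^ 2 ^ k) w := by
    show g ^ 2 ^ k * w = w * g ^ 2 ^ k
    calc g ^ 2 ^ k * w = g ^ 2 ^ k * (w * (g ^ 2 ^ k)⁻¹ * w⁻¹) * w * g ^ 2 ^ k := by group
      _ = w * g ^ 2 ^ k := by rw [h5, one_mul]
  have ht1 : Commute (g ^ 2 ^ k) j := hg.pow_left _
  -- decompose the order of `g`
  have hpos : 0 < orderOf g := orderOf_pos g
  obtain ⟨a, m, hm, hN'⟩ := Nat.exists_eq_two_pow_mul_odd (Nat.pos_iff_ne_zero.mp hpos)
  have hs : g ^ m ∈ c.C2 := by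
    refine ⟨hg.pow_left _, a, ?_⟩
    rw [← pow_mul, mul_comm, ← hN']
    exact pow_orderOf_eq_one g
  have hcop : Nat.Coprime m (2 ^ k) := by
    apply Nat.Coprime.pow_right
    exact hm.coprime_two_right
  obtain ⟨u, v, huv⟩ := (Nat.isCoprime_iff_coprime.mpr hcop)
  refine ⟨(g ^ m) ^ u, c.C2.zpow_mem hs u, (g ^ 2 ^ k) ^ v, ht1.zpow_left v, ht2.zpow_left v, ?_⟩
  have h7 : g = g ^ (u * (m : ℤ) + v * ((2 ^ k : ℕ) : ℤ)) := by
    rw [huv, zpow_one]
  rw [zpow_add, mul_comm u, mul_comm v, zpow_mul, zpow_mul, zpow_natCast, zpow_natCast] at h7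
  exact h7

/-- `N_G(S0) ≤ S0 Z` -/
theorem normalizer_S0 [Finite G] (c : Cfg j w) (hy : ∃ y : G, IsC2 j y ∧ ¬ Commute (y * y) w)
    {g : G} (hN : g ∈ Subgroup.normalizer (c.S0 : Set G)) :
    ∃ s ∈ c.S0, ∃ t : G, Commute t j ∧ Commute t w ∧ g = s * t := by
  have hN' := Subgroup.mem_normalizer_iff.mp hN
  have hNinv : g⁻¹ ∈ Subgroup.normalizer (c.S0 : Set G) := Subgroup.inv_mem _ hN
  have hNinv' := Subgroup.mem_normalizer_iff.mp hNinv
  -- step (i): `g` commutes with `z`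
  have hz : Commute g (j * j) := by
    have h1 : ∀ s ∈ c.S0, Commute (g * (j * j) * g⁻¹) s := by
      intro s hs
      have hs' : g⁻¹ * s * g⁻¹⁻¹ ∈ c.S0 := (hNinv' s).mp hs
      rw [inv_inv] at hs'
      have h2 : Commute (j * j) (g⁻¹ * s * g) := c.comm_of_Z c.comm_z_j c.comm_z_w hs'
      show g * (j * j) * g⁻¹ * s = s * (g * (j * j) * g⁻¹)
      calc g * (j * j) * g⁻¹ * s = g * ((j * j) * (g⁻¹ * s * g)) * g⁻¹ := by group
        _ = g * ((g⁻¹ * s * g) * (j * j)) * g⁻¹ := by rw [h2.eq]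
        _ = s * (g * (j * j) * g⁻¹) := by group
    obtain ⟨h2, h3⟩ := c.Z_of_comm h1
    have h4 : g * (j * j) * g⁻¹ * (g * (j * j) * g⁻¹) = 1 := by
      calc g * (j * j) * g⁻¹ * (g * (j * j) * g⁻¹) = g * ((j * j) * (j * j)) * g⁻¹ := by group
        _ = 1 := by rw [c.j_four]; group
    rcases c.h5 _ h2 h3 h4 with h5 | h5
    · exfalso
      apply c.j_sq_ne
      calc j * j = g⁻¹ * (g * (j * j) * g⁻¹) * g := by group
        _ = 1 := by rw [h5]; group
    · show g * (j * j) = j * j * g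
      calc g * (j * j) = g * (j * j) * g⁻¹ * g := by group
        _ = j * j * g := by rw [h5]
  -- step (ii): `g⁻¹ j g` lies in `C`
  obtain ⟨y, hy2, hyw⟩ := hy
  have hyw' : ¬ Commute y w := fun h => hyw (h.mul_left h)
  set j' := g⁻¹ * j * g with hj'
  have hj'z : Commute j' (j * j) := (hz.inv_left.mul_left c.comm_z_j.symm).mul_left hz
  have hj'sq : j' * j' = j * j := by
    calc j' * j' = g⁻¹ * (j * j) * g := by rw [hj']; group
      _ = g⁻¹ * (g * (j * j)) := by rw [hz.eq]; group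
      _ = j * j := by group
  have hy' : g * y * g⁻¹ ∈ c.S0 := (hN' y).mp (c.C2_le_S0 hy2)
  have hA : Commute (g * y * g⁻¹) j := by
    rcases hy' with h1 | h1
    · exact h1.1
    · exfalso
      -- the square of `g y g⁻¹` is in `Z`
      set y' := g * y * g⁻¹ with hy'def
      have hsq : y' * y' = (y' * w) * (w * (y' * w) * w) := c.sq_of_mul_w h1
      have hu := h1.1
      have hub : Commute (w * (y' * w) * w) j := (c.conj_mem_C2 h1).1
      have hZ1 : Commute (y' * y') j := by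
        rw [hsq]; exact hu.mul_left hub
      have hZ2 : Commute (y' * y') w := by
        rw [hsq]
        have h2 : Commute (y' * w) (w * (y' * w) * w) := c.comm _ _ hu hub
        show y' * w * (w * (y' * w) * w) * w = w * (y' * w * (w * (y' * w) * w))
        calc y' * w * (w * (y' * w) * w) * w
            = (y' * w) * (w * (y' * w)) * (w * w) := by group
          _ = (w * w) * ((y' * w) * (w * (y' * w))) := by rw [c.w_sq, mul_one, one_mul]
          _ = w * ((w * (y' * w) * w) * (y' * w)) := by group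
          _ = w * (y' * w * (w * (y' * w) * w)) := by rw [h2.eq]
      have h3 : Commute g⁻¹ (y' * y') := c.cent _ _ hZ1 hZ2 hz.inv_left
      have h4 : y' * y' = g * (y * y) * g⁻¹ := by rw [hy'def]; group
      have h5 : y * y = y' * y' := by
        calc y * y = g⁻¹ * (g * (y * y) * g⁻¹) * g := by group
          _ = g⁻¹ * (y' * y') * g := by rw [h4]
          _ = y' * y' * g⁻¹ * g := by rw [h3.eq]
          _ = y' * y' := by group
      apply hyw
      rw [h5]
      exact hZ2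
  have hB : Commute j' y := by
    show j' * y = y * j'
    have h1 : g * y * g⁻¹ * j = j * (g * y * g⁻¹) := hA.eq
    calc j' * y = g⁻¹ * (j * (g * y * g⁻¹)) * g := by rw [hj']; group
      _ = g⁻¹ * (g * y * g⁻¹ * j) * g := by rw [h1]
      _ = y * j' := by rw [hj']; group
  have hj'C : Commute j' j := c.h3 y j' hy2.1 hyw' hj'z hB
  -- step (iii): `j' = j` or `j' = j⁻¹`
  have hcases : j' = j ∨ j' = j⁻¹ := by
    rcases c.h4 j' hj'C hj'sq with h1 | h1 | h1
    · exact Or.inl h1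
    · exact Or.inr h1
    · left
      have h2 : Commute g j' := c.cent j' g hj'C h1 hz
      have h3 : g * j' = j * g := by rw [hj']; group
      have h4 : j' * g = j * g := by rw [← h2.eq]; exact h3
      exact mul_right_cancel h4
  rcases hcases with h1 | h1
  · have hgj : Commute g j := by
      show g * j = j * g
      calc g * j = g * j' := by rw [h1]
        _ = j * g := by rw [hj']; group
    obtain ⟨s, hs, t, ht1, ht2, hst⟩ := c.normalizer_C hgj hN
    exact ⟨s, c.C2_le_S0 hs, t, ht1, ht2, hst⟩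
  · have hgw : Commute (g * w) j := by
      show g * w * j = j * (g * w)
      have h2 : w * j * w = j⁻¹ := c.w_j'
      have h3 : j = w * j⁻¹ * w := by
        rw [← h2]
        calc j = (w * w) * j * (w * w) := by rw [c.w_sq, one_mul, mul_one]
          _ = w * (w * j * w) * w := by group
      have h4 : g * j⁻¹ = j * g := by
        rw [← h1, hj']; group
      calc g * w * j = g * w * (w * j⁻¹ * w) := by rw [← h3]
        _ = g * (w * w) * j⁻¹ * w := by group
        _ = g * j⁻¹ * w := by rw [c.w_sq, mul_one]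
        _ = j * g * w := by rw [h4]
        _ = j * (g * w) := by group
    have hNw : g * w ∈ Subgroup.normalizer (c.S0 : Set G) :=
      Subgroup.mul_mem _ hN (Subgroup.le_normalizer c.w_mem_S0)
    obtain ⟨s, hs, t, ht1, ht2, hst⟩ := c.normalizer_C hgw hNw
    refine ⟨s * w, ?_, t, ht1, ht2, ?_⟩
    · right
      have : s * w * w = s := by
        calc s * w * w = s * (w * w) := by group
          _ = s := by rw [c.w_sq, mul_one]
      rw [this]; exact hs
    · calc g = g * w * w := by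
            calc g = g * (w * w) := by rw [c.w_sq, mul_one]
              _ = g * w * w := by group
        _ = s * t * w := by rw [hst]
        _ = s * (t * w) := by group
        _ = s * (w * t) := by rw [ht2.eq]
        _ = s * w * t := by group

/-- `N_G(S0) ≤ C_G(S0) S0` -/
theorem normalizer_le [Finite G] (c : Cfg j w) (hy : ∃ y : G, IsC2 j y ∧ ¬ Commute (y * y) w) :
    Subgroup.normalizer (c.S0 : Set G) ≤ Subgroup.centralizer (c.S0 : Set G) ⊔ c.S0 := by
  intro g hg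
  obtain ⟨s, hs, t, ht1, ht2, rfl⟩ := c.normalizer_S0 hy hg
  have h1 : s * t = t * s := (c.comm_of_Z ht1 ht2 hs).eq.symm
  rw [h1]
  apply Subgroup.mul_mem_sup _ hs
  apply Subgroup.mem_centralizer_iff.mpr
  intro x hx
  exact (c.comm_of_Z ht1 ht2 hx).eq.symm

/-- `S0` is a Sylow `2`-subgroup -/
theorem exists_sylow [Finite G] (c : Cfg j w) (hy : ∃ y : G, IsC2 j y ∧ ¬ Commute (y * y) w) :
    ∃ P : Sylow 2 G, (P : Subgroup G) = c.S0 := by
  haveI : Fact (Nat.Prime 2) := ⟨Nat.prime_two⟩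
  obtain ⟨P, hP⟩ := c.isPGroup_S0.exists_le_sylow
  refine ⟨P, ?_⟩
  by_contra hne
  obtain ⟨n, hn, hnS⟩ := Fusion.exists_mem_normalizerIn_not_mem (S := (P : Subgroup G))
    P.isPGroup' hP (fun h => hne h.symm)
  obtain ⟨hnP, hnN⟩ := Subgroup.mem_inf.mp hn
  obtain ⟨s, hs, t, ht1, ht2, hst⟩ := c.normalizer_S0 hy hnN
  apply hnS
  rw [hst]
  apply c.S0.mul_mem hs
  apply c.C2_le_S0
  have htP : t ∈ (P : Subgroup G) := by
    have : t = s⁻¹ * n := by rw [hst]; group
    rw [this]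
    exact Subgroup.mul_mem _ (Subgroup.inv_mem _ (hP hs)) hnP
  obtain ⟨k, hk⟩ := P.isPGroup' ⟨t, htP⟩
  refine ⟨ht1, k, ?_⟩
  have := congrArg Subtype.val hk
  simpa using this

/-- a nontrivial subgroup of `S0` normalized by `S0` contains `j²` -/
theorem z_mem_of_normal [Finite G] (c : Cfg j w) (T : Subgroup G) (hTS : T ≤ c.S0)
    (hT : ∀ x ∈ T, ∀ s ∈ c.S0, s * x * s⁻¹ ∈ T) (hbot : T ≠ ⊥) : j * j ∈ T := by
  haveI : Fact (Nat.Prime 2) := ⟨Nat.prime_two⟩
  have hQn : (T.subgroupOf c.S0).Normal := by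
    constructor
    intro x hx u
    rw [Subgroup.mem_subgroupOf] at hx ⊢
    have h1 : ((u * x * u⁻¹ : c.S0) : G) = (u : G) * (x : G) * (u : G)⁻¹ := rfl
    rw [h1]
    exact hT _ hx _ u.2
  have hQ1 : T.subgroupOf c.S0 ≠ ⊥ := by
    intro h
    apply hbot
    rw [Subgroup.subgroupOf_eq_bot] at h
    rw [eq_bot_iff]
    intro x hx
    have : x ∈ T ⊓ c.S0 := ⟨hx, hTS hx⟩
    rw [disjoint_iff.mp h] at this
    exact this
  obtain ⟨x, hxQ, hx1, hxc⟩ :=
    Cfsg.Agent.Helper5.exists_ne_one_mem_center_of_normal c.isPGroup_S0 (T.subgroupOf c.S0) hQ1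
  have hxT : (x : G) ∈ T := Subgroup.mem_subgroupOf.mp hxQ
  have hx1' : (x : G) ≠ 1 := fun h => hx1 (Subtype.ext h)
  have hxc' : ∀ s ∈ c.S0, Commute (x : G) s := by
    intro s hs
    exact (congrArg Subtype.val (hxc ⟨s, hs⟩)).symm
  obtain ⟨hZ1, hZ2⟩ := c.Z_of_comm hxc'
  obtain ⟨k0, hk0⟩ := c.isPGroup_S0 x
  have hk0' : (x : G) ^ 2 ^ k0 = 1 := by
    have := congrArg Subtype.val hk0
    simpa using this
  -- the least such exponent
  classical
  have hex : ∃ k : ℕ, (x : G) ^ 2 ^ k = 1 := ⟨k0, hk0'⟩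
  set k := Nat.find hex with hk
  have hkspec : (x : G) ^ 2 ^ k = 1 := Nat.find_spec hex
  have hk0 : k ≠ 0 := by
    intro h0
    rw [h0, pow_zero, pow_one] at hkspec
    exact hx1' hkspec
  obtain ⟨k', hk'⟩ := Nat.exists_eq_succ_of_ne_zero hk0
  have hmin : (x : G) ^ 2 ^ k' ≠ 1 := by
    apply Nat.find_min hex
    rw [← hk, hk']
    exact Nat.lt_succ_self k'
  have hsq : (x : G) ^ 2 ^ k' * (x : G) ^ 2 ^ k' = 1 := by
    rw [← pow_two, ← pow_mul, ← pow_succ, ← Nat.succ_eq_add_one, ← hk']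
    exact hkspec
  rcases c.h5 _ (hZ1.pow_left _) (hZ2.pow_left _) hsq with h1 | h1
  · exact absurd h1 hmin
  · rw [← h1]
    exact T.pow_mem hxT _

/-- producing the element `y` from an element `y₀` of `C` whose square does not commute with `w`
but whose fourth power does -/
theorem exists_y [Finite G] (_c : Cfg j w) (y0 : G) (h0 : Commute y0 j)
    (h1 : ¬ Commute (y0 * y0) w) (h2 : Commute ((y0 * y0) * (y0 * y0)) w) :
    ∃ y : G, IsC2 j y ∧ ¬ Commute (y * y) w := by
  have hpos : 0 < orderOf y0 := orderOf_pos y0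
  obtain ⟨a, m, hm, hN'⟩ := Nat.exists_eq_two_pow_mul_odd (Nat.pos_iff_ne_zero.mp hpos)
  refine ⟨y0 ^ m, ⟨h0.pow_left _, a, ?_⟩, ?_⟩
  · rw [← pow_mul, mul_comm, ← hN']
    exact pow_orderOf_eq_one y0
  · intro h3
    apply h1
    obtain ⟨l, hl⟩ := hm
    have h4 : y0 ^ m * y0 ^ m = ((y0 * y0) * (y0 * y0)) ^ l * (y0 * y0) := by
      rw [hl]
      have e1 : y0 * y0 = y0 ^ 2 := (pow_two y0).symm
      rw [e1, ← pow_add y0 2 2, ← pow_add, ← pow_mul, ← pow_add]
      congr 1
      ring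
    rw [h4] at h3
    have h5 : y0 * y0 = (((y0 * y0) * (y0 * y0)) ^ l)⁻¹ *
        (((y0 * y0) * (y0 * y0)) ^ l * (y0 * y0)) := by group
    rw [h5]
    exact (h2.pow_left l).inv_left.mul_left h3

end Cfg

end Cfsg.Agent.Lead.JW
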