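import Mathlib
import Cfsg.Agent.Lead.JWCfgA

set_option autoImplicit false

/-!
# The abstract configuration, part B: restriction to subgroups, strongly closed subgroups
-/

namespace Cfsg.Agent.Lead.JW

variable {G : Type*} [Group G] {j w : G}

namespace Cfg

/-- the configuration restricts to any subgroup containing `j` and `w` -/
theorem subgroup (c : Cfg j w) (H : Subgroup G) (hj : j ∈ H) (hw : w ∈ H) :
    Cfg (⟨j, hj⟩ : H) ⟨w, hw⟩ where
  w_sq := Subtype.ext c.w_sq
  w_j := Subtype.ext c.w_j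
  j_four := Subtype.ext c.j_four
  j_sq_ne := fun h => c.j_sq_ne (congrArg Subtype.val h)
  comm := fun x y hx hy => Subtype.ext
    (c.comm x.1 y.1 (congrArg Subtype.val hx.eq) (congrArg Subtype.val hy.eq)).eq
  cent := fun x g hx hxw hg => Subtype.ext
    (c.cent x.1 g.1 (congrArg Subtype.val hx.eq) (congrArg Subtype.val hxw.eq)
      (congrArg Subtype.val hg.eq)).eq
  h3 := fun y g hy hyw hg hgy => Subtype.ext
    (c.h3 y.1 g.1 (congrArg Subtype.val hy.eq) (fun h => hyw (Subtype.ext h.eq))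
      (congrArg Subtype.val hg.eq) (congrArg Subtype.val hgy.eq)).eq
  h4 := by
    intro x hx hxx
    rcases c.h4 x.1 (congrArg Subtype.val hx.eq) (congrArg Subtype.val hxx) with h | h | h
    · exact Or.inl (Subtype.ext h)
    · exact Or.inr (Or.inl (Subtype.ext h))
    · exact Or.inr (Or.inr (Subtype.ext h.eq))
  h5 := by
    intro x hx hxw hxx
    rcases c.h5 x.1 (congrArg Subtype.val hx.eq) (congrArg Subtype.val hxw.eq)
      (congrArg Subtype.val hxx) with h | h
    · exact Or.inl (Subtype.ext h)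
    · exact Or.inr (Subtype.ext h)

theorem mem_C2_subgroup (c : Cfg j w) (H : Subgroup G) (hj : j ∈ H) (hw : w ∈ H) (x : H) :
    x ∈ (c.subgroup H hj hw).C2 ↔ x.1 ∈ c.C2 := by
  constructor
  · rintro ⟨h1, k, hk⟩
    exact ⟨congrArg Subtype.val h1.eq, k, congrArg Subtype.val hk⟩
  · rintro ⟨h1, k, hk⟩
    exact ⟨Subtype.ext h1.eq, k, Subtype.ext hk⟩

theorem w_ne_one (c : Cfg j w) : w ≠ 1 := by
  intro h
  apply c.not_comm_w_j
  rw [h]
  exact Commute.one_left j

/-- strongly closed subgroups of `S0` are trivial, when all involutions are conjugate and every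
element of `C₂` is of norm one, or becomes conjugate to `j` after multiplying by `w`, or is a
product of a norm one element and a conjugate of a norm one element -/
theorem closed_of_inv [Finite G] (c : Cfg j w)
    (hinv : ∀ t : G, t ≠ 1 → t * t = 1 → ∃ g : G, g * (j * j) * g⁻¹ = t)
    (hAB : ∀ x ∈ c.C2, x * (w * x * w) = 1 ∨ (∃ g : G, g * j * g⁻¹ = x * w) ∨
      (∃ x₁ x₃ g : G, x₁ ∈ c.C2 ∧ x₁ * (w * x₁ * w) = 1 ∧ x₃ ∈ c.C2 ∧ x₃ * (w * x₃ * w) = 1 ∧
        x = x₁ * (g * x₃ * g⁻¹)))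
    (T : Subgroup G) (hTS : T ≤ c.S0)
    (hcl : ∀ x ∈ T, ∀ g : G, g * x * g⁻¹ ∈ c.S0 → g * x * g⁻¹ ∈ T) :
    T = ⊥ ∨ T = c.S0 := by
  by_cases hbot : T = ⊥
  · exact Or.inl hbot
  right
  apply le_antisymm hTS
  have hz : j * j ∈ T := c.z_mem_of_normal T hTS (fun x hx s hs => hcl x hx s
    (Subgroup.mul_mem _ (Subgroup.mul_mem _ hs (hTS hx)) (Subgroup.inv_mem _ hs))) hbot
  -- involutions of `S0` lie in `T`
  have hinvT : ∀ t ∈ c.S0, t ≠ 1 → t * t = 1 → t ∈ T := by
    intro t htS ht1 htt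
    obtain ⟨g, hg⟩ := hinv t ht1 htt
    rw [← hg] at htS ⊢
    exact hcl _ hz g htS
  have hw : w ∈ T := hinvT w c.w_mem_S0 c.w_ne_one c.w_sq
  have hmulw : ∀ x ∈ c.C2, x * w ∈ c.S0 := by
    intro x hx
    right
    have : x * w * w = x := by rw [mul_assoc, c.w_sq, mul_one]
    rw [this]; exact hx
  have hback : ∀ x : G, x * w ∈ T → x ∈ T := by
    intro x hx
    have : x = (x * w) * w := by rw [mul_assoc, c.w_sq, mul_one]
    rw [this]
    exact T.mul_mem hx hw
  -- norm one elements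
  have hnorm : ∀ x ∈ c.C2, x * (w * x * w) = 1 → x ∈ T := by
    intro x hx hxx
    apply hback
    apply hinvT _ (hmulw x hx)
    · intro h
      apply c.not_comm_w_j
      have : x = w := by
        have h1 : x = w⁻¹ := eq_inv_of_mul_eq_one_left h
        rw [h1, c.w_inv]
      rw [← this]
      exact hx.1
    · calc x * w * (x * w) = x * (w * x * w) := by group
        _ = 1 := hxx
  have hj : j ∈ T := by
    apply hnorm j c.j_isC2
    rw [c.w_j', mul_inv_cancel]
  have hC : c.C2 ≤ T := by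
    intro x hx
    rcases hAB x hx with h | ⟨g, hg⟩ | ⟨x₁, x₃, g, hx₁, hn₁, hx₃, hn₃, hprod⟩
    · exact hnorm x hx h
    · apply hback
      rw [← hg]
      apply hcl j hj g
      rw [hg]
      exact hmulw x hx
    · have h1 : x₁ ∈ T := hnorm x₁ hx₁ hn₁
      have h3 : x₃ ∈ T := hnorm x₃ hx₃ hn₃
      have h2 : g * x₃ * g⁻¹ ∈ c.S0 := by
        have : g * x₃ * g⁻¹ = x₁⁻¹ * x := by rw [hprod]; group
        rw [this]
        exact c.C2_le_S0 (c.C2.mul_mem (c.C2.inv_mem hx₁) hx)
      rw [hprod]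
      exact T.mul_mem h1 (hcl x₃ h3 g h2)
  intro x hx
  rcases hx with hx | hx
  · exact hC hx
  · exact hback x (hC hx)

end Cfg

end Cfsg.Agent.Lead.JW
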