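import Mathlib

set_option autoImplicit false

/-!
Existence of a Jordan basis for a nilpotent endomorphism of a finite-dimensional vector space,
through the structure theorem for finitely generated torsion modules over `F[X]`.
-/

namespace Cfsg.Agent.Lead.JordanB

open Polynomial DirectSum

variable {F : Type*} [Field F] {V : Type*} [AddCommGroup V] [Module F V] [FiniteDimensional F V]

theorem dim_powerBasis (k : ℕ) :
    (AdjoinRoot.powerBasis' (monic_X_pow (R := F) k)).dim = k := by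
  rw [AdjoinRoot.powerBasis'_dim, natDegree_X_pow]

/-- the identity between the two presentations of the quotient -/
noncomputable def idEquiv (k : ℕ) :
    AdjoinRoot ((X : F[X]) ^ k) ≃ₗ[F] (F[X] ⧸ Submodule.span F[X] {(X : F[X]) ^ k}) where
  toFun := id
  invFun := id
  map_add' := fun _ _ => rfl
  map_smul' := fun _ _ => rfl
  left_inv := fun _ => rfl
  right_inv := fun _ => rfl

/-- the basis `1, X, …, X^(k-1)` of `F[X] ⧸ (X^k)` -/
noncomputable def quotBasis (k : ℕ) :
    Module.Basis (Fin k) F (F[X] ⧸ Submodule.span F[X] {(X : F[X]) ^ k}) :=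
  (((AdjoinRoot.powerBasis' (monic_X_pow (R := F) k)).basis).reindex
    (finCongr (dim_powerBasis (F := F) k))).map (idEquiv k)

theorem quotBasis_apply (k : ℕ) (t : Fin k) :
    quotBasis (F := F) k t = Submodule.Quotient.mk (X ^ (t : ℕ)) := by
  unfold quotBasis
  rw [Module.Basis.map_apply, Module.Basis.reindex_apply, PowerBasis.coe_basis,
    AdjoinRoot.powerBasis'_gen]
  rfl

theorem dfinsupp_basis_apply {ι R : Type*} [Semiring R] {M : ι → Type*}
    [∀ i, AddCommMonoid (M i)] [∀ i, Module R (M i)] [DecidableEq ι] {η : ι → Type*}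
    (b : ∀ i, Module.Basis (η i) R (M i)) (i : ι) (x : η i) :
    DFinsupp.basis b ⟨i, x⟩ = DFinsupp.single i (b i x) := by
  classical
  apply Module.Basis.apply_eq_iff.mpr
  ext ⟨j, y⟩
  simp only [DFinsupp.basis]
  by_cases h : i = j
  · cases h
    simp [Finsupp.single_apply_left sigma_mk_injective, sigmaFinsuppLequivDFinsupp]
  · simp [sigmaFinsuppLequivDFinsupp, h]

/-- first version: chains of possibly zero length -/
theorem exists_jordan_basis_aux (N : Module.End F V) (hN : IsNilpotent N) :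
    ∃ (d : ℕ) (k : Fin d → ℕ) (v : Fin d → V), (∀ j, (N ^ k j) (v j) = 0) ∧
      ∃ b : Module.Basis (Σ j : Fin d, Fin (k j)) F V,
        ∀ jt : (Σ j : Fin d, Fin (k j)), b jt = (N ^ (jt.2 : ℕ)) (v jt.1) := by
  classical
  obtain ⟨m, hm⟩ := hN
  have hM : Module.IsTorsion' (Module.AEval' N) (Submonoid.powers (X : F[X])) := by
    intro x
    refine ⟨⟨X ^ m, ⟨m, rfl⟩⟩, ?_⟩
    obtain ⟨y, rfl⟩ := (Module.AEval'.of N).surjective x
    show (X ^ m : F[X]) • (Module.AEval'.of N y) = 0
    rw [Module.AEval'.X_pow_smul_of, hm]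
    simp
  obtain ⟨d, k, ⟨e⟩⟩ := Module.torsion_by_prime_power_decomposition
    (R := F[X]) (M := Module.AEval' N) Polynomial.irreducible_X hM
  -- the composite `F`-linear equivalence
  let E : (⨁ i : Fin d, F[X] ⧸ Submodule.span F[X] {(X : F[X]) ^ k i}) ≃ₗ[F] V :=
    (e.restrictScalars F).symm ≪≫ₗ (Module.AEval'.of N).symm
  let B₀ : Module.Basis (Σ j : Fin d, Fin (k j)) F
      (⨁ i : Fin d, F[X] ⧸ Submodule.span F[X] {(X : F[X]) ^ k i}) :=
    DFinsupp.basis (fun i => quotBasis (F := F) (k i))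
  let g : Fin d → (⨁ i : Fin d, F[X] ⧸ Submodule.span F[X] {(X : F[X]) ^ k i}) :=
    fun j => DirectSum.lof F[X] (Fin d) (fun i => F[X] ⧸ Submodule.span F[X] {(X : F[X]) ^ k i}) j
      (Submodule.Quotient.mk 1)
  have hE : ∀ (f : F[X]) y, E (f • y) = (aeval N f) (E y) := by
    intro f y
    show (Module.AEval'.of N).symm (e.symm (f • y)) = _
    rw [map_smul, Module.AEval.of_symm_smul]
    rfl
  have hB₀ : ∀ jt : (Σ j : Fin d, Fin (k j)), B₀ jt = (X ^ (jt.2 : ℕ) : F[X]) • g jt.1 := by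
    rintro ⟨j, t⟩
    show DFinsupp.basis (fun i => quotBasis (F := F) (k i)) ⟨j, t⟩ = _
    rw [dfinsupp_basis_apply]
    simp only [g]
    rw [← map_smul, quotBasis_apply]
    show _ = DFinsupp.single j _
    congr 1
    rw [← Submodule.Quotient.mk_smul, smul_eq_mul, mul_one]
  refine ⟨d, k, fun j => E (g j), ?_, B₀.map E, ?_⟩
  · intro j
    have h1 := hE (X ^ k j) (g j)
    rw [map_pow, aeval_X] at h1
    rw [← h1]
    have h2 : (X ^ k j : F[X]) • g j = 0 := by
      simp only [g]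
      rw [← map_smul, ← Submodule.Quotient.mk_smul, smul_eq_mul, mul_one]
      have : (Submodule.Quotient.mk ((X : F[X]) ^ k j) :
          F[X] ⧸ Submodule.span F[X] {(X : F[X]) ^ k j}) = 0 := by
        rw [Submodule.Quotient.mk_eq_zero]
        exact Submodule.mem_span_singleton_self _
      rw [this, map_zero]
    rw [h2, map_zero]
  · intro jt
    rw [Module.Basis.map_apply, hB₀, hE, map_pow, aeval_X]

/-- Existence of a Jordan basis for a nilpotent endomorphism. -/
theorem exists_jordan_basis (N : Module.End F V) (hN : IsNilpotent N) :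
    ∃ (s : ℕ) (lam : Fin s → ℕ) (v : Fin s → V), (∀ j, 0 < lam j) ∧
      (∀ j, (N ^ lam j) (v j) = 0) ∧
      LinearIndependent F
        (fun jt : (Σ j : Fin s, Fin (lam j)) => (N ^ (jt.2 : ℕ)) (v jt.1)) ∧
      Submodule.span F
        (Set.range (fun jt : (Σ j : Fin s, Fin (lam j)) => (N ^ (jt.2 : ℕ)) (v jt.1))) = ⊤ := by
  classical
  obtain ⟨d, k, v, hv, b, hb⟩ := exists_jordan_basis_aux N hN
  let ε : Fin (Fintype.card {j : Fin d // 0 < k j}) ≃ {j : Fin d // 0 < k j} :=
    (Fintype.equivFin {j : Fin d // 0 < k j}).symm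
  let φ : (Σ j : Fin (Fintype.card {j : Fin d // 0 < k j}), Fin (k (ε j).1)) →
      (Σ j : Fin d, Fin (k j)) := fun jt => ⟨(ε jt.1).1, jt.2⟩
  have hφi : Function.Injective φ := by
    rintro ⟨j, t⟩ ⟨j', t'⟩ h
    simp only [φ, Sigma.mk.injEq] at h
    obtain ⟨h1, h2⟩ := h
    have h3 : j = j' := ε.injective (Subtype.ext h1)
    subst h3
    rw [heq_eq_eq] at h2
    rw [h2]
  have hφs : Function.Surjective φ := by
    rintro ⟨j, t⟩
    have hpos : 0 < k j := lt_of_le_of_lt (Nat.zero_le _) t.2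
    obtain ⟨j', hj'⟩ : ∃ j', (ε j').1 = j := ⟨ε.symm ⟨j, hpos⟩, by simp⟩
    subst hj'
    exact ⟨⟨j', t⟩, rfl⟩
  have hfam : (fun jt : (Σ j : Fin (Fintype.card {j : Fin d // 0 < k j}), Fin (k (ε j).1)) =>
      (N ^ (jt.2 : ℕ)) (v (ε jt.1).1)) = (b : (Σ j : Fin d, Fin (k j)) → V) ∘ φ := by
    funext jt
    rw [Function.comp_apply, hb]
  refine ⟨Fintype.card {j : Fin d // 0 < k j}, fun j => k (ε j).1, fun j => v (ε j).1,
    fun j => (ε j).2, fun j => hv _, ?_, ?_⟩
  · rw [hfam]
    exact b.linearIndependent.comp φ hφi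
  · rw [hfam, Set.range_comp, hφs.range_eq, Set.image_univ]
    exact b.span_eq

end Cfsg.Agent.Lead.JordanB
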