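import Mathlib
import Cfsg.Prelude.Def_ConjugacyFunctors
import Cfsg.Prelude.Def_Transfer
import Cfsg.Agent.Lead.KInfD
import Cfsg.Agent.S1973
import Cfsg.Agent.S1974

/-!
The lower K-infinity subgroup controls weak closure of elements (`p` odd), and the weak closure
of `p`-th powers of central elements (all `p`).
-/

set_option autoImplicit false

universe u

namespace Cfsg.Agent.Lead.KInf

open Cfsg Subgroup

variable {G : Type u} [Group G] [Finite G] {p : ℕ} [Fact p.Prime]

theorem controlsWeakClosure_of_subDetermined (hp : p ≠ 2)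
    (W : ∀ (Q : Type u) [Group Q], Subgroup Q)
    (hW : Cfsg.IsCharPFunctor.{u} p W) (hWs : SubDetermined.{u} p W)
    (hWZ : ∀ (Q : Type u) [Group Q] [Finite Q], IsPGroup p Q → center Q ≤ W Q) :
    Cfsg.ControlsWeakClosureOfElementsIn p (Cfsg.inducedFunctor (G := G) W) ⊤ := by
  apply Cfsg.Agent.S1973.result (Cfsg.inducedFunctor (G := G) W)
    (Cfsg.Agent.Helper1.FT.isConjugacyFunctor_induced W hW)
    (fun P hP => zcent_le_induced W hWZ P hP) ?_ ⊤
  intro H T hTH hT hidx hnn
  obtain ⟨g, hgT, hgQ, hq⟩ := hloc_quad W hW hWs H T hTH hT hidx hnn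
  refine ⟨g, hgT, hgQ, ?_⟩
  intro U V _ hU
  have h2 : 2 ≤ p - 1 := by
    have := (Fact.out : p.Prime).two_le
    omega
  have : Cfsg.iterCommutator (U.map H.subtype) (zpowers g) (p - 1) = ⊥ := by
    apply iterCommutator_eq_bot_of_two _ _ ?_ (p - 1) h2
    apply le_bot_iff.mp
    rw [← hq]
    exact commutator_mono (commutator_mono hU le_rfl) le_rfl
  rw [this]
  exact bot_le

theorem weaklyClosed_powers_of_subDetermined
    (W : ∀ (Q : Type u) [Group Q], Subgroup Q)
    (hW : Cfsg.IsCharPFunctor.{u} p W) (hWs : SubDetermined.{u} p W)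
    (hWZ : ∀ (Q : Type u) [Group Q] [Finite Q], IsPGroup p Q → center Q ≤ W Q)
    (S : Sylow p G) (Z : Subgroup G)
    (hZ : Z = Subgroup.closure ((fun z : G => z ^ p) ''
      (((S : Subgroup G) ⊓ Subgroup.centralizer (((S : Subgroup G) : Subgroup G) : Set G) :
        Subgroup G) : Set G))) :
    (∀ x ∈ Z ⊓ Subgroup.centralizer ((Subgroup.normalizer
        ((Cfsg.inducedFunctor W (S : Subgroup G) : Subgroup G) : Set G) : Subgroup G) : Set G),
      ∀ g : G, g * x * g⁻¹ ∈ (S : Subgroup G) → g * x * g⁻¹ = x) ∧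
    ∀ A : Subgroup G, A ≤ Z → Subgroup.normalizer
        ((Cfsg.inducedFunctor W (S : Subgroup G) : Subgroup G) : Set G) ≤
          Subgroup.normalizer ((A : Subgroup G) : Set G) →
      Cfsg.IsWeaklyClosed A (S : Subgroup G) := by
  apply Cfsg.Agent.S1974.result S (Cfsg.inducedFunctor (G := G) W)
    (Cfsg.Agent.Helper1.FT.isConjugacyFunctor_induced W hW)
    (fun P hP => zcent_le_induced W hWZ P hP) ?_ Z hZ
  intro H T hTH hT hidx hnn
  exact hloc_quad W hW hWs H T hTH hT hidx hnn

end Cfsg.Agent.Lead.KInf
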