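import Mathlib
import Cfsg.Prelude.Def_ConjugacyFunctors
import Cfsg.Agent.Lead.KInfG

/-!
For `p ≥ 5` a characteristic subgroup of a finite `p`-group `P` whose normalizer controls transfer
wherever `P` is a Sylow subgroup: the lower K-infinity subgroup.
-/

set_option autoImplicit false

universe u

namespace Cfsg.Agent.Lead.KInf

open Cfsg Subgroup

variable {p : ℕ} [Fact p.Prime]

omit [Fact p.Prime] in
theorem characteristic_of_isCharPFunctor (W : ∀ (Q : Type u) [Group Q], Subgroup Q)
    (hW : Cfsg.IsCharPFunctor.{u} p W) (P : Type u) [Group P] [Finite P] (hP : IsPGroup p P) :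
    (W P).Characteristic :=
  characteristic_iff_map_eq.mpr fun φ => hW.2 P P hP φ

omit [Fact p.Prime] in
theorem inducedFunctor_range (W : ∀ (Q : Type u) [Group Q], Subgroup Q)
    (hW : Cfsg.IsCharPFunctor.{u} p W) (P : Type u) [Group P] [Finite P] (hP : IsPGroup p P)
    {G : Type u} [Group G] (ι : P →* G) (hι : Function.Injective ι) :
    Cfsg.inducedFunctor W ι.range = (W P).map ι := by
  have hP' : IsPGroup p ↥(⊤ : Subgroup P) := hP.to_subgroup _
  have h1 := Cfsg.Agent.Helper5.TF.inducedFunctor_map W hW ι hι (⊤ : Subgroup P) hP'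
  rw [← MonoidHom.range_eq_map] at h1
  rw [h1]
  congr 1
  have h2 := hW.2 ↥(⊤ : Subgroup P) P hP' (topEquiv : ↥(⊤ : Subgroup P) ≃* P)
  rw [← h2]
  rfl

theorem exists_char_controls_transfer (hp : 5 ≤ p) (W : ∀ (Q : Type u) [Group Q], Subgroup Q)
    (hW : Cfsg.IsCharPFunctor.{u} p W) (hWs : SubDetermined.{u} p W)
    (P : Type u) [Group P] [Finite P] (hP : IsPGroup p P)
    (G : Type u) [Group G] [Finite G] (ι : P →* G) (hι : Function.Injective ι)
    (hT : ∃ T : Sylow p G, (T : Subgroup G) = ι.range) :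
    ι.range ⊓ commutator G = ι.range ⊓
      (commutator ↥(Subgroup.normalizer (((W P).map ι : Subgroup G) : Set G))).map
        (Subgroup.normalizer (((W P).map ι : Subgroup G) : Set G)).subtype := by
  obtain ⟨T, hT⟩ := hT
  have h1 := transfer_at_sylow hp W hW hWs T
  rw [hT, inducedFunctor_range W hW P hP ι hι] at h1
  rw [map_subtype_commutator]
  exact h1

end Cfsg.Agent.Lead.KInf
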