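import Mathlib
import Cfsg.Prelude.Def_LocalEven
import Cfsg.Prelude.Def_Solvable
import Cfsg.Agent.Helper1.Cores
import Cfsg.Agent.Helper1.Fitting
import Cfsg.Agent.Helper1.QuadStableB

/-!
Consequences of `p`-stability in the normalizer form: subgroups acting quadratically on a normal
`p`-subgroup, or quadratically on two steps of a normal series, lie in `O_p`.
-/

set_option autoImplicit false

namespace Cfsg.Agent.Lead.KInf

open Cfsg Subgroup

section chain

variable {Y : Type*} [Group Y]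

theorem conj_pow_eq_of_chain {y a c : Y} (hc : y * a * y⁻¹ = c * a) (hyc : y * c = c * y) (j : ℕ) :
    y ^ j * a * (y ^ j)⁻¹ = c ^ j * a := by
  induction j with
  | zero => simp
  | succ j ih =>
    have h1 : y * c ^ j = c ^ j * y := by
      have : Commute y c := hyc
      exact (this.pow_right j).eq
    calc y ^ (j + 1) * a * (y ^ (j + 1))⁻¹ = y * (y ^ j * a * (y ^ j)⁻¹) * y⁻¹ := by
          rw [pow_succ']; group
      _ = y * (c ^ j * a) * y⁻¹ := by rw [ih]
      _ = (y * c ^ j) * a * y⁻¹ := by group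
      _ = c ^ j * (y * a * y⁻¹) := by rw [h1]; group
      _ = c ^ j * (c * a) := by rw [hc]
      _ = c ^ (j + 1) * a := by rw [pow_succ]; group

/-- A `p'`-element stabilizing the chain `1 ≤ N ≤ A` with `N` a `p`-group centralizes `A`. -/
theorem centralizes_of_chain [Finite Y] {p : ℕ} [Fact p.Prime] (N A : Subgroup Y)
    (hN : IsPGroup p N) (y : Y) (hy : (orderOf y).Coprime p)
    (hyN : y ∈ centralizer (N : Set Y)) (hyA : ∀ a ∈ A, y * a * y⁻¹ * a⁻¹ ∈ N) :
    y ∈ centralizer (A : Set Y) := by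
  rw [mem_centralizer_iff]
  intro a ha
  obtain ⟨c, hc⟩ : ∃ c, c = y * a * y⁻¹ * a⁻¹ := ⟨_, rfl⟩
  have hcN : c ∈ N := hc ▸ hyA a ha
  have hca : y * a * y⁻¹ = c * a := by rw [hc]; group
  have hyc : y * c = c * y := ((mem_centralizer_iff.mp hyN) c hcN).symm
  have h1 := conj_pow_eq_of_chain hca hyc (orderOf y)
  rw [pow_orderOf_eq_one, inv_one, one_mul, mul_one] at h1
  have h2 : c ^ orderOf y = 1 := by
    have : c ^ orderOf y * a = 1 * a := by rw [← h1, one_mul]
    exact mul_right_cancel this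
  obtain ⟨k, hk⟩ := hN ⟨c, hcN⟩
  have hk' : c ^ (p ^ k) = 1 := by
    have := congrArg Subtype.val hk
    simpa using this
  have h3 : orderOf c ∣ orderOf y := orderOf_dvd_of_pow_eq_one h2
  have h4 : orderOf c ∣ p ^ k := orderOf_dvd_of_pow_eq_one hk'
  have h5 : orderOf c = 1 := by
    have hcop : (orderOf y).Coprime (p ^ k) := Nat.Coprime.pow_right k hy
    exact Nat.eq_one_of_dvd_coprimes hcop h3 h4
  have h6 : c = 1 := orderOf_eq_one_iff.mp h5
  rw [h6, one_mul] at hca
  calc a * y = (y * a * y⁻¹) * y := by rw [hca]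
    _ = y * a := by group

/-- The `p'`-part of an element is a power of it. -/
theorem exists_pow_coprime_order [Finite Y] (p : ℕ) [hp : Fact p.Prime] (y : Y) :
    ∃ k : ℕ, (orderOf (y ^ (p ^ k))).Coprime p := by
  have hpos : 0 < orderOf y := orderOf_pos y
  obtain ⟨k, m, hm, hkm⟩ := Nat.exists_eq_pow_mul_and_not_dvd hpos.ne' p hp.out.ne_one
  refine ⟨k, ?_⟩
  have h1 : orderOf (y ^ (p ^ k)) = m := by
    rw [orderOf_pow' y (pow_ne_zero k hp.out.ne_zero), hkm,
      Nat.gcd_eq_right (Dvd.intro _ rfl)]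
    exact Nat.mul_div_cancel_left m (pow_pos hp.out.pos k)
  rw [h1, Nat.coprime_comm, hp.out.coprime_iff_not_dvd]
  exact hm

/-- A subgroup all of whose `p'`-elements are trivial is a `p`-group. -/
theorem isPGroup_of_coprime_trivial [Finite Y] {p : ℕ} [hp : Fact p.Prime] (D : Subgroup Y)
    (h : ∀ y ∈ D, (orderOf y).Coprime p → y = 1) : IsPGroup p D := by
  intro y
  obtain ⟨k, hk⟩ := exists_pow_coprime_order p (y : Y)
  refine ⟨k, ?_⟩
  apply Subtype.ext
  have := h _ (D.pow_mem y.2 (p ^ k)) hk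
  simpa using this

end chain

section psn

variable {Y : Type*} [Group Y] [Finite Y] {p : ℕ} [hp : Fact p.Prime]

omit [Finite Y] in
/-- `p`-stability for a normal `p`-subgroup `P`: the elements acting quadratically on `P` lie in a
normal subgroup all of whose `p'`-elements centralize `P`. -/
theorem exists_normal_of_stable (hst : Cfsg.IsNormalizerPStable p Y) (P : Subgroup Y) [hPn : P.Normal]
    (hP : IsPGroup p P) :
    ∃ D : Subgroup Y, D.Normal ∧
      (∀ g : Y, ⁅⁅P, zpowers g⁆, zpowers g⁆ = ⊥ → g ∈ D) ∧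
      ∀ y ∈ D, (orderOf y).Coprime p → y ∈ centralizer (P : Set Y) := by
  have hNtop : normalizer (P : Set Y) = ⊤ := normalizer_eq_top P
  have hCn : ((centralizer (P : Set Y)).subgroupOf (normalizer (P : Set Y))).Normal :=
    inferInstance
  obtain ⟨π, hπ⟩ : ∃ π : ↥(normalizer (P : Set Y)) →*
      ↥(normalizer (P : Set Y)) ⧸ (centralizer (P : Set Y)).subgroupOf (normalizer (P : Set Y)),
      π = QuotientGroup.mk' _ := ⟨_, rfl⟩
  obtain ⟨O, hO⟩ : ∃ O : Subgroup (↥(normalizer (P : Set Y)) ⧸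
      (centralizer (P : Set Y)).subgroupOf (normalizer (P : Set Y))),
      O = Cfsg.pCore p _ := ⟨_, rfl⟩
  have hOn : O.Normal := hO ▸ (inferInstance : (Cfsg.pCore p _).Normal)
  have hOp : IsPGroup p O := hO ▸ Cfsg.Agent.Helper1.pCore_isPGroup p
  have hmemN : ∀ y : Y, y ∈ normalizer (P : Set Y) := fun y => hNtop ▸ mem_top y
  refine ⟨(O.comap π).map (normalizer (P : Set Y)).subtype, ?_, ?_, ?_⟩
  · apply Subgroup.Normal.map (hOn.comap π)
    intro y
    exact ⟨⟨y, hmemN y⟩, rfl⟩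
  · intro g hg
    have h1 := hst P hP g (hmemN g) hg
    refine ⟨⟨g, hmemN g⟩, ?_, rfl⟩
    show π ⟨g, hmemN g⟩ ∈ O
    rw [hπ, hO]
    exact h1
  · rintro _ ⟨y₀, hy₀, rfl⟩ hcop
    have hy₀' : π y₀ ∈ O := hy₀
    obtain ⟨k, hk⟩ := hOp ⟨π y₀, hy₀'⟩
    have hk' : π (y₀ ^ (p ^ k)) = 1 := by
      have := congrArg Subtype.val hk
      simpa using this
    have hk'' : y₀ ^ (p ^ k) ∈ (centralizer (P : Set Y)).subgroupOf (normalizer (P : Set Y)) := by
      rw [hπ] at hk'
      exact (QuotientGroup.eq_one_iff _).mp hk'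
    have h2 : ((y₀ : Y)) ^ (p ^ k) ∈ centralizer (P : Set Y) := by
      have := mem_subgroupOf.mp hk''
      simpa using this
    -- `y₀` is a power of `y₀ ^ (p ^ k)`
    have hcop' : Nat.Coprime (p ^ k) (orderOf ((normalizer (P : Set Y)).subtype y₀)) :=
      (Nat.Coprime.pow_right k hcop).symm
    obtain ⟨m, hm⟩ := exists_pow_eq_self_of_coprime hcop'
    have h3 : ((normalizer (P : Set Y)).subtype y₀) =
        (((normalizer (P : Set Y)).subtype y₀) ^ (p ^ k)) ^ m := hm.symm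
    rw [h3]
    exact pow_mem h2 m

/-- Two-step quadratic action forces containment in `O_p`. -/
theorem le_pCore_of_two_step (hst : Cfsg.IsNormalizerPStable p Y) (N : Subgroup Y) [hNn : N.Normal]
    (hst' : Cfsg.IsNormalizerPStable p (Y ⧸ N)) (A : Subgroup Y) [hAn : A.Normal]
    (hA : IsPGroup p A) (hNA : N ≤ A)
    (hcrit : ∀ y : Y, (orderOf y).Coprime p → y ∈ centralizer (A : Set Y) → y = 1)
    (B : Subgroup Y) (h1 : ⁅⁅N, B⁆, B⁆ = ⊥) (h2 : ⁅⁅A, B⁆, B⁆ ≤ N) :
    B ≤ Cfsg.pCore p Y := by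
  obtain ⟨D₁, hD₁n, hD₁q, hD₁c⟩ := exists_normal_of_stable hst N (hA.to_le hNA)
  obtain ⟨π, hπ⟩ : ∃ π : Y →* Y ⧸ N, π = QuotientGroup.mk' N := ⟨_, rfl⟩
  have hπs : Function.Surjective π := hπ ▸ QuotientGroup.mk'_surjective N
  have hπk : ∀ y : Y, π y = 1 ↔ y ∈ N := by
    intro y
    rw [hπ]
    exact QuotientGroup.eq_one_iff y
  have hĀn : (A.map π).Normal := Subgroup.Normal.map hAn π hπs
  obtain ⟨D₂, hD₂n, hD₂q, hD₂c⟩ := exists_normal_of_stable hst' (A.map π) (hA.map π)
  have hDn : (D₁ ⊓ D₂.comap π).Normal := by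
    have := hD₁n
    have : (D₂.comap π).Normal := hD₂n.comap π
    infer_instance
  have hBD : B ≤ D₁ ⊓ D₂.comap π := by
    intro g hg
    have hgB : zpowers g ≤ B := zpowers_le.mpr hg
    refine mem_inf.mpr ⟨hD₁q g ?_, ?_⟩
    · apply le_bot_iff.mp
      rw [← h1]
      exact commutator_mono (commutator_mono le_rfl hgB) hgB
    · show π g ∈ D₂
      apply hD₂q
      have h3 : ⁅⁅A, zpowers g⁆, zpowers g⁆ ≤ N :=
        (commutator_mono (commutator_mono le_rfl hgB) hgB).trans h2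
      have h4 := Subgroup.map_mono (f := π) h3
      rw [map_commutator, map_commutator, MonoidHom.map_zpowers] at h4
      apply le_bot_iff.mp
      refine h4.trans ?_
      rintro _ ⟨n, hn, rfl⟩
      rw [mem_bot, hπk]
      exact hn
  have hDp : IsPGroup p ↥(D₁ ⊓ D₂.comap π) := by
    apply isPGroup_of_coprime_trivial
    intro y hy hcop
    obtain ⟨hy₁, hy₂⟩ := mem_inf.mp hy
    have hy₂' : π y ∈ D₂ := hy₂
    apply hcrit y hcop
    apply centralizes_of_chain N A (hA.to_le hNA) y hcop (hD₁c y hy₁ hcop)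
    intro a ha
    have hcop' : (orderOf (π y)).Coprime p :=
      Nat.Coprime.coprime_dvd_left (orderOf_map_dvd π y) hcop
    have h5 := hD₂c (π y) hy₂' hcop'
    have h6 := (mem_centralizer_iff.mp h5) (π a) ⟨a, ha, rfl⟩
    rw [← hπk, map_mul, map_mul, map_mul, map_inv, map_inv, ← h6]
    group
  exact hBD.trans (Cfsg.Agent.Helper1.le_pCore hDn hDp)

end psn

end Cfsg.Agent.Lead.KInf
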