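import Mathlib
import Cfsg.Prelude.Def_ConjugacyFunctors
import Cfsg.Prelude.Def_LocalEven
import Cfsg.Agent.Lead.KInfB
import Cfsg.Agent.Lead.KInfI
import Cfsg.Agent.Helper1.FTA
import Cfsg.Agent.Helper1.SubnormalCommPCore
import Cfsg.Agent.Helper4.SubnormalNilp

/-!
Groups all of whose sections are `p`-stable in the normalizer form: members of the lower-star
families relative to subgroups containing a critical subgroup `A` of `O_p(X)` lie in `O_p(X)`.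
-/

set_option autoImplicit false

universe u

namespace Cfsg.Agent.Lead.KInf

open Cfsg Subgroup Cfsg.Agent.Helper5.TF
open scoped commutatorElement

/-- Every section of `X` is `p`-stable in the normalizer form. -/
def AllSec (p : ℕ) (X : Type u) [Group X] : Prop :=
  ∀ (Y : Type u) [Group Y], IsSectionOf Y X → Cfsg.IsNormalizerPStable p Y

section rad

variable {X : Type*} [Group X]

/-- The elements of `A` whose commutators with `A` lie in `F` (`A` of class at most two). -/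
def comRad (A F : Subgroup X) (hA2 : ⁅A, A⁆ ≤ centralizer (A : Set X)) : Subgroup X where
  carrier := {x | x ∈ A ∧ ∀ a ∈ A, ⁅x, a⁆ ∈ F}
  one_mem' := ⟨A.one_mem, fun a _ => by rw [commutatorElement_one_left]; exact F.one_mem⟩
  mul_mem' := by
    rintro x y ⟨hx, hx'⟩ ⟨hy, hy'⟩
    refine ⟨A.mul_mem hx hy, fun a ha => ?_⟩
    have h1 : ⁅y, a⁆ ∈ centralizer (A : Set X) := hA2 (commutator_mem_commutator hy ha)
    have h2 : x * ⁅y, a⁆ = ⁅y, a⁆ * x := ((mem_centralizer_iff.mp h1) x hx)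
    have h3 : ⁅x * y, a⁆ = ⁅y, a⁆ * ⁅x, a⁆ := by
      have : ⁅x * y, a⁆ = x * ⁅y, a⁆ * x⁻¹ * ⁅x, a⁆ := by
        simp only [commutatorElement_def]; group
      rw [this, h2]; group
    rw [h3]
    exact F.mul_mem (hy' a ha) (hx' a ha)
  inv_mem' := by
    rintro x ⟨hx, hx'⟩
    refine ⟨A.inv_mem hx, fun a ha => ?_⟩
    have h1 : ⁅x, a⁆ ∈ centralizer (A : Set X) := hA2 (commutator_mem_commutator hx ha)
    have h2 : x * ⁅x, a⁆ = ⁅x, a⁆ * x := ((mem_centralizer_iff.mp h1) x hx)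
    have h3 : ⁅x⁻¹, a⁆ = (⁅x, a⁆)⁻¹ := by
      have : ⁅x⁻¹, a⁆ = x⁻¹ * (⁅x, a⁆)⁻¹ * x := by
        simp only [commutatorElement_def]; group
      rw [this]
      have h4 : x⁻¹ * (⁅x, a⁆)⁻¹ = (⁅x, a⁆)⁻¹ * x⁻¹ := by
        rw [← mul_inv_rev, ← mul_inv_rev, h2]
      rw [h4]; group
    rw [h3]
    exact F.inv_mem (hx' a ha)

theorem mem_comRad {A F : Subgroup X} {hA2 : ⁅A, A⁆ ≤ centralizer (A : Set X)} {x : X} :
    x ∈ comRad A F hA2 ↔ x ∈ A ∧ ∀ a ∈ A, ⁅x, a⁆ ∈ F := Iff.rfl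

theorem comRad_le (A F : Subgroup X) (hA2 : ⁅A, A⁆ ≤ centralizer (A : Set X)) :
    comRad A F hA2 ≤ A := fun _ hx => hx.1

theorem zcent_le_comRad (A F : Subgroup X) (hA2 : ⁅A, A⁆ ≤ centralizer (A : Set X)) :
    A ⊓ centralizer (A : Set X) ≤ comRad A F hA2 := by
  intro x hx
  refine ⟨hx.1, fun a ha => ?_⟩
  have : ⁅x, a⁆ = 1 := by
    rw [commutatorElement_eq_one_iff_mul_comm]
    exact ((mem_centralizer_iff.mp hx.2) a ha).symm
  rw [this]
  exact F.one_mem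

theorem commutator_comRad_le (A F : Subgroup X) (hA2 : ⁅A, A⁆ ≤ centralizer (A : Set X)) :
    ⁅comRad A F hA2, A⁆ ≤ F := by
  rw [commutator_le]
  intro x hx a ha
  exact hx.2 a ha

/-- Elements centralizing `F` and normalizing `A` normalize the radical. -/
theorem conj_mem_comRad (A F : Subgroup X) [hAn : A.Normal]
    (hA2 : ⁅A, A⁆ ≤ centralizer (A : Set X))
    {y : X} (hy : y ∈ centralizer (F : Set X)) {x : X} (hx : x ∈ comRad A F hA2) :
    y * x * y⁻¹ ∈ comRad A F hA2 := by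
  refine ⟨hAn.conj_mem x hx.1 y, fun a ha => ?_⟩
  have ha' : y⁻¹ * a * y⁻¹⁻¹ ∈ A := hAn.conj_mem a ha y⁻¹
  have h1 : ⁅x, y⁻¹ * a * y⁻¹⁻¹⁆ ∈ F := hx.2 _ ha'
  have h2 : ⁅y * x * y⁻¹, a⁆ = y * ⁅x, y⁻¹ * a * y⁻¹⁻¹⁆ * y⁻¹ := by
    simp only [commutatorElement_def]; group
  have h3 : y * ⁅x, y⁻¹ * a * y⁻¹⁻¹⁆ = ⁅x, y⁻¹ * a * y⁻¹⁻¹⁆ * y :=
    ((mem_centralizer_iff.mp hy) _ h1).symm
  rw [h2, h3, mul_assoc, mul_inv_cancel, mul_one]
  exact h1

theorem centralizer_le_normalizer_comRad (A F : Subgroup X) [hAn : A.Normal]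
    (hA2 : ⁅A, A⁆ ≤ centralizer (A : Set X)) :
    centralizer (F : Set X) ≤ normalizer ((comRad A F hA2 : Subgroup X) : Set X) := by
  intro y hy
  rw [mem_normalizer_iff]
  intro x
  constructor
  · exact fun hx => conj_mem_comRad A F hA2 hy hx
  · intro hx
    have := conj_mem_comRad A F hA2 (inv_mem hy) hx
    have e : y⁻¹ * (y * x * y⁻¹) * y⁻¹⁻¹ = x := by group
    rwa [e] at this

end rad

section even

variable {X : Type u} [Group X] [Finite X] {p : ℕ} [hp : Fact p.Prime]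

/-- Quadratic action on `Z(A)` and on `A / Z(A)` forces containment in `O_p`. -/
theorem le_pCore_of_quad_zcent (hall : AllSec p X) (A : Subgroup X) [hAn : A.Normal]
    (hA : IsPGroup p A)
    (hcrit : ∀ y : X, (orderOf y).Coprime p → y ∈ centralizer (A : Set X) → y = 1)
    (B₁ : Subgroup X) (h1 : ⁅⁅A ⊓ centralizer (A : Set X), B₁⁆, B₁⁆ = ⊥)
    (h2 : ⁅⁅A, B₁⁆, B₁⁆ ≤ A ⊓ centralizer (A : Set X)) : B₁ ≤ Cfsg.pCore p X := by
  have : (A ⊓ centralizer (A : Set X)).Normal := zcent_normal A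
  exact le_pCore_of_two_step (hall X (Cfsg.Agent.Helper1.FT.isSectionOf_refl X))
    (A ⊓ centralizer (A : Set X))
    (hall _ (Cfsg.Agent.Helper1.FT.isSectionOf_quotient _)) A hA inf_le_left hcrit B₁ h1 h2

/-- Quadratic action on `A` forces containment in `O_p`. -/
theorem le_pCore_of_quad (hall : AllSec p X) (A : Subgroup X) [hAn : A.Normal]
    (hA : IsPGroup p A)
    (hcrit : ∀ y : X, (orderOf y).Coprime p → y ∈ centralizer (A : Set X) → y = 1)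
    (B₁ : Subgroup X) (h : ⁅⁅A, B₁⁆, B₁⁆ = ⊥) : B₁ ≤ Cfsg.pCore p X := by
  apply le_pCore_of_quad_zcent hall A hA hcrit B₁
  · apply le_bot_iff.mp
    rw [← h]
    exact commutator_mono (commutator_mono inf_le_left le_rfl) le_rfl
  · rw [h]
    exact bot_le

/-- A subgroup containing a normal subgroup with `p`-power quotient (inside a normal subgroup) is
subnormal. -/
theorem isSubnormal_of_pgroup_quotient (E C H : Subgroup X) [hEn : E.Normal] [hCn : C.Normal]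
    (hCH : C ≤ H) (hHE : H ≤ E)
    (hq : ∀ e ∈ E, ∃ k : ℕ, e ^ (p ^ k) ∈ C) : H.IsSubnormal := by
  have hCE : C ≤ E := hCH.trans hHE
  have hCEn : (C.subgroupOf E).Normal := hCn.subgroupOf E
  have hqp : IsPGroup p (↥E ⧸ C.subgroupOf E) := by
    intro x
    obtain ⟨e, rfl⟩ := QuotientGroup.mk_surjective x
    obtain ⟨k, hk⟩ := hq (e : X) e.2
    refine ⟨k, ?_⟩
    rw [← QuotientGroup.mk_pow, QuotientGroup.eq_one_iff, mem_subgroupOf]
    simpa using hk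
  have : Group.IsNilpotent (↥E ⧸ C.subgroupOf E) := hqp.isNilpotent
  have h1 := Cfsg.Agent.Helper4.isSubnormal_of_isNilpotent
    ((H.subgroupOf E).map (QuotientGroup.mk' (C.subgroupOf E)))
  have h2 := h1.comap (QuotientGroup.mk' (C.subgroupOf E))
  rw [comap_map_eq, QuotientGroup.ker_mk'] at h2
  have h3 : H.subgroupOf E ⊔ C.subgroupOf E = H.subgroupOf E := by
    apply sup_eq_left.mpr
    intro x hx
    exact mem_subgroupOf.mpr (hCH (mem_subgroupOf.mp hx))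
  rw [h3] at h2
  exact IsSubnormal.trans hHE h2 hEn.isSubnormal

/-- The even step: members of lower-star families relative to subgroups containing `A` lie in
`O_p(X)`. -/
theorem lower_le_pCore (hall : AllSec p X) (A : Subgroup X) [hAn : A.Normal]
    (hAQ : A ≤ Cfsg.pCore p X) (hA2 : ⁅A, A⁆ ≤ centralizer (A : Set X))
    (hQA : ⁅Cfsg.pCore p X, A⁆ ≤ A ⊓ centralizer (A : Set X))
    (hcrit : ∀ y : X, (orderOf y).Coprime p → y ∈ centralizer (A : Set X) → y = 1)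
    (B R : Subgroup X) (hAR : A ≤ R) (hB : B ∈ Cfsg.kLowerStarFamily R) :
    B ≤ Cfsg.pCore p X := by
  obtain ⟨hB2, hRB, hBu⟩ := hB
  have hA : IsPGroup p A := (Cfsg.Agent.Helper1.pCore_isPGroup p).to_le hAQ
  have hAB : ⁅A, B⁆ ≤ B := le_normalizer_iff_commutator_le_right.mp (hAR.trans hRB)
  have hABA : ⁅A, B⁆ ≤ A := commutator_le_left A B
  -- `Z(B) ≤ O_p`
  have hZBQ : B ⊓ centralizer (B : Set X) ≤ Cfsg.pCore p X := by
    apply le_pCore_of_quad hall A hA hcrit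
    apply le_bot_iff.mp
    calc ⁅⁅A, B ⊓ centralizer (B : Set X)⁆, B ⊓ centralizer (B : Set X)⁆
        ≤ ⁅B, B ⊓ centralizer (B : Set X)⁆ :=
          commutator_mono ((commutator_mono le_rfl inf_le_left).trans hAB) le_rfl
      _ = ⊥ := by rw [commutator_comm]; exact comm_inf_cent_self B
  -- `U₂ = [A, B, B] ≤ Z(B)`
  have hU₂ : ⁅⁅A, B⁆, B⁆ ≤ B ⊓ centralizer (B : Set X) := by
    have h1 : ⁅⁅A, B⁆, B⁆ ≤ ⁅B, B⁆ := commutator_mono hAB le_rfl
    exact h1.trans (le_inf (commutator_le_self B) hB2)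
  have hU₂A : ⁅⁅A, B⁆, B⁆ ≤ A := (commutator_mono hABA le_rfl).trans hABA
  -- `[U₂, [A, B]] = 1`
  have hF1 : ⁅⁅A, B⁆, B⁆ ≤ centralizer ((⁅A, B⁆ : Subgroup X) : Set X) := by
    rw [← commutator_eq_bot_iff_le_centralizer]
    apply le_bot_iff.mp
    calc ⁅⁅⁅A, B⁆, B⁆, ⁅A, B⁆⁆ ≤ ⁅B ⊓ centralizer (B : Set X), B⁆ := commutator_mono hU₂ hAB
      _ = ⊥ := comm_inf_cent_self B
  -- `B` centralizes `[U₂, A]`
  have hstep3 : ⁅⁅⁅A, B⁆, B⁆, A⁆ ≤ ⁅A, A⁆ ⊓ centralizer (B : Set X) := by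
    refine le_inf (commutator_mono hU₂A le_rfl) ?_
    rw [commutator_le]
    intro u hu a ha
    rw [mem_centralizer_iff]
    intro d hd
    have hud : d * u = u * d := (mem_centralizer_iff.mp (hU₂ hu).2) d hd
    have hc : ⁅a⁻¹, d⁆ ∈ ⁅A, B⁆ := commutator_mem_commutator (A.inv_mem ha) hd
    have huc : ⁅a⁻¹, d⁆ * u = u * ⁅a⁻¹, d⁆ := (mem_centralizer_iff.mp (hF1 hu)) _ hc
    have e1 : d * u * d⁻¹ = u := by rw [hud]; group
    have e2 : d * a * d⁻¹ = a * ⁅a⁻¹, d⁆ := by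
      simp only [commutatorElement_def]; group
    have e3 : ⁅a⁻¹, d⁆ * u⁻¹ = u⁻¹ * ⁅a⁻¹, d⁆ := by
      have : u⁻¹ * (⁅a⁻¹, d⁆ * u) * u⁻¹ = u⁻¹ * (u * ⁅a⁻¹, d⁆) * u⁻¹ := by rw [huc]
      have h1 : u⁻¹ * (⁅a⁻¹, d⁆ * u) * u⁻¹ = u⁻¹ * ⁅a⁻¹, d⁆ := by group
      have h2 : u⁻¹ * (u * ⁅a⁻¹, d⁆) * u⁻¹ = ⁅a⁻¹, d⁆ * u⁻¹ := by group
      rw [h1, h2] at this
      exact this.symm
    have e4 : d * ⁅u, a⁆ * d⁻¹ = ⁅u, a⁆ := by
      calc d * ⁅u, a⁆ * d⁻¹ = (d * u * d⁻¹) * (d * a * d⁻¹) * (d * u * d⁻¹)⁻¹ * (d * a * d⁻¹)⁻¹ := by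
            simp only [commutatorElement_def]; group
        _ = u * (a * ⁅a⁻¹, d⁆) * u⁻¹ * (a * ⁅a⁻¹, d⁆)⁻¹ := by rw [e1, e2]
        _ = u * a * (⁅a⁻¹, d⁆ * u⁻¹) * (⁅a⁻¹, d⁆)⁻¹ * a⁻¹ := by group
        _ = u * a * (u⁻¹ * ⁅a⁻¹, d⁆) * (⁅a⁻¹, d⁆)⁻¹ * a⁻¹ := by rw [e3]
        _ = ⁅u, a⁆ := by simp only [commutatorElement_def]; group
    calc d * ⁅u, a⁆ = (d * ⁅u, a⁆ * d⁻¹) * d := by group
      _ = ⁅u, a⁆ * d := by rw [e4]
  -- the radical
  obtain ⟨F₃, hF₃⟩ : ∃ F₃ : Subgroup X, F₃ = ⁅A, A⁆ ⊓ centralizer (B : Set X) := ⟨_, rfl⟩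
  rw [← hF₃] at hstep3
  obtain ⟨X₃, hX₃⟩ : ∃ X₃ : Subgroup X, X₃ = comRad A F₃ hA2 := ⟨_, rfl⟩
  have hX₃A : X₃ ≤ A := hX₃ ▸ comRad_le A F₃ hA2
  have hZX₃ : A ⊓ centralizer (A : Set X) ≤ X₃ := hX₃ ▸ zcent_le_comRad A F₃ hA2
  have hU₂X₃ : ⁅⁅A, B⁆, B⁆ ≤ X₃ := by
    intro u hu
    rw [hX₃]
    exact ⟨hU₂A hu, fun a ha => hstep3 (commutator_mem_commutator hu ha)⟩
  have hX₃F : ⁅X₃, A⁆ ≤ F₃ := hX₃ ▸ commutator_comRad_le A F₃ hA2
  have hF₃B : B ≤ centralizer (F₃ : Set X) := by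
    rw [← commutator_eq_bot_iff_le_centralizer, commutator_comm,
      commutator_eq_bot_iff_le_centralizer, hF₃]
    exact inf_le_right
  obtain ⟨C₃, hC₃⟩ : ∃ C₃ : Subgroup X, C₃ = centralizer ((⁅A, A⁆ : Subgroup X) : Set X) :=
    ⟨_, rfl⟩
  have hC₃n : C₃.Normal := hC₃ ▸ (inferInstance : (centralizer ((⁅A, A⁆ : Subgroup X) : Set X)).Normal)
  have hF₃C : C₃ ≤ centralizer (F₃ : Set X) := by
    rw [hC₃, hF₃]
    exact centralizer_le inf_le_left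
  have hAC₃ : A ≤ C₃ := by
    rw [hC₃, ← commutator_eq_bot_iff_le_centralizer, commutator_comm,
      commutator_eq_bot_iff_le_centralizer]
    exact hA2
  have hNX₃ : centralizer (F₃ : Set X) ≤ normalizer ((X₃ : Subgroup X) : Set X) :=
    hX₃ ▸ centralizer_le_normalizer_comRad A F₃ hA2
  -- the universal property with the test group `X₃`
  have hX₃2 : X₃ ∈ Cfsg.classTwoSubgroups X := by
    show ⁅X₃, X₃⁆ ≤ centralizer (X₃ : Set X)
    exact ((commutator_mono hX₃A hX₃A).trans hA2).trans (centralizer_le hX₃A)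
  have hquad : ⁅⁅X₃, B⁆, B⁆ = ⊥ := by
    have h1 : ⁅B, X₃⁆ ≤ B ⊓ centralizer (B : Set X) := by
      apply hBu X₃ hX₃2 (hX₃A.trans hAR) (hF₃B.trans hNX₃)
      · rw [commutator_eq_bot_iff_le_centralizer]
        have h2 : ⁅X₃, X₃⁆ ≤ F₃ := (commutator_mono le_rfl hX₃A).trans hX₃F
        rw [← commutator_eq_bot_iff_le_centralizer, commutator_comm,
          commutator_eq_bot_iff_le_centralizer]
        exact h2.trans (hF₃ ▸ inf_le_right)
      · apply le_bot_iff.mp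
        have h3 : ⁅B ⊓ centralizer (B : Set X), X₃⁆ ≤ A ⊓ centralizer (A : Set X) :=
          (commutator_mono hZBQ hX₃A).trans hQA
        calc ⁅⁅B ⊓ centralizer (B : Set X), X₃⁆, X₃⁆ ≤ ⁅A ⊓ centralizer (A : Set X), A⁆ :=
              commutator_mono h3 hX₃A
          _ = ⊥ := comm_inf_cent_self A
    apply le_bot_iff.mp
    calc ⁅⁅X₃, B⁆, B⁆ = ⁅⁅B, X₃⁆, B⁆ := by rw [commutator_comm X₃ B]
      _ ≤ ⁅B ⊓ centralizer (B : Set X), B⁆ := commutator_mono h1 le_rfl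
      _ = ⊥ := comm_inf_cent_self B
  -- the subgroup `G₃ = C₃ B`
  obtain ⟨G₃, hG₃⟩ : ∃ G₃ : Subgroup X, G₃ = C₃ ⊔ B := ⟨_, rfl⟩
  have hC₃G₃ : C₃ ≤ G₃ := hG₃ ▸ le_sup_left
  have hBG₃ : B ≤ G₃ := hG₃ ▸ le_sup_right
  have hAG₃ : A ≤ G₃ := hAC₃.trans hC₃G₃
  have hX₃G₃ : X₃ ≤ G₃ := hX₃A.trans hAG₃
  have hG₃N : G₃ ≤ normalizer ((X₃ : Subgroup X) : Set X) :=
    hG₃ ▸ sup_le (hF₃C.trans hNX₃) (hF₃B.trans hNX₃)
  have hNn : (X₃.subgroupOf G₃).Normal := (normal_subgroupOf_iff_le_normalizer hX₃G₃).mpr hG₃N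
  have hAYn : (A.subgroupOf G₃).Normal := hAn.subgroupOf G₃
  have hinj : Function.Injective G₃.subtype := G₃.subtype_injective
  have hBY : B.subgroupOf G₃ ≤ Cfsg.pCore p ↥G₃ := by
    apply le_pCore_of_two_step (hall ↥G₃ (Cfsg.Agent.Helper1.FT.isSectionOf_subgroup G₃))
      (X₃.subgroupOf G₃)
      (hall _ ⟨G₃, QuotientGroup.mk' (X₃.subgroupOf G₃), QuotientGroup.mk'_surjective _⟩)
      (A.subgroupOf G₃) hA.comap_subtype
    · intro x hx
      exact mem_subgroupOf.mpr (hX₃A (mem_subgroupOf.mp hx))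
    · intro y hcop hy
      have h1 : (y : X) ∈ centralizer (A : Set X) := by
        rw [mem_centralizer_iff]
        intro a ha
        have := (mem_centralizer_iff.mp hy) ⟨a, hAG₃ ha⟩ (mem_subgroupOf.mpr ha)
        exact congrArg Subtype.val this
      have h2 : (orderOf (y : X)).Coprime p := by
        rw [Subgroup.orderOf_coe]
        exact hcop
      exact Subtype.ext (hcrit (y : X) h2 h1)
    · rw [← Subgroup.map_eq_bot_iff_of_injective _ hinj, map_commutator, map_commutator,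
        map_subgroupOf_eq_of_le hX₃G₃, map_subgroupOf_eq_of_le hBG₃]
      exact hquad
    · rw [← Subgroup.map_le_map_iff_of_injective hinj, map_commutator, map_commutator,
        map_subgroupOf_eq_of_le hX₃G₃, map_subgroupOf_eq_of_le hBG₃, map_subgroupOf_eq_of_le hAG₃]
      exact hU₂X₃
  -- `G₃` is subnormal in `X`
  have hA'n : (⁅A, A⁆ : Subgroup X).Normal := inferInstance
  obtain ⟨D₁, hD₁n, hD₁q, hD₁c⟩ := exists_normal_of_stable
    (hall X (Cfsg.Agent.Helper1.FT.isSectionOf_refl X)) ⁅A, A⁆ (hA.to_le (commutator_le_self A))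
  have hA'X₃ : ⁅A, A⁆ ≤ X₃ := (le_inf (commutator_le_self A) hA2).trans hZX₃
  have hBD₁ : B ≤ D₁ := by
    intro g hg
    apply hD₁q
    have hgB : zpowers g ≤ B := zpowers_le.mpr hg
    apply le_bot_iff.mp
    rw [← hquad]
    exact commutator_mono (commutator_mono hA'X₃ hgB) hgB
  have := hD₁n
  have hEn : (D₁ ⊔ C₃).Normal := inferInstance
  have hG₃E : G₃ ≤ D₁ ⊔ C₃ := hG₃ ▸ sup_le le_sup_right (hBD₁.trans le_sup_left)
  have hq : ∀ e ∈ D₁ ⊔ C₃, ∃ k : ℕ, e ^ (p ^ k) ∈ C₃ := by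
    intro e he
    obtain ⟨d, hd, c, hc, rfl⟩ := mem_sup_of_normal_right.mp he
    obtain ⟨k, hk⟩ := exists_pow_coprime_order p d
    refine ⟨k, ?_⟩
    have h1 : d ^ (p ^ k) ∈ C₃ := by
      rw [hC₃]
      exact hD₁c _ (D₁.pow_mem hd _) hk
    -- modulo the normal subgroup `C₃`, `(d c)^n = d^n`
    have h2 : ∀ n : ℕ, (d * c) ^ n * (d ^ n)⁻¹ ∈ C₃ := by
      intro n
      induction n with
      | zero => simp [C₃.one_mem]
      | succ n ih =>
        have e : (d * c) ^ (n + 1) * (d ^ (n + 1))⁻¹ =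
            ((d * c) ^ n * (d ^ n)⁻¹) * (d ^ n * (d * c * d⁻¹) * (d ^ n)⁻¹) := by
          rw [pow_succ, pow_succ]; group
        rw [e]
        exact C₃.mul_mem ih (hC₃n.conj_mem _ (hC₃n.conj_mem c hc d) _)
    have := C₃.mul_mem (h2 (p ^ k)) h1
    simpa using this
  have hG₃sub : G₃.IsSubnormal :=
    isSubnormal_of_pgroup_quotient (D₁ ⊔ C₃) C₃ G₃ hC₃G₃ hG₃E hq
  have hOsub : ((Cfsg.pCore p ↥G₃).map G₃.subtype).IsSubnormal :=
    IsSubnormal.trans' (Normal.isSubnormal inferInstance) hG₃sub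
  have hOp : IsPGroup p ↥((Cfsg.pCore p ↥G₃).map G₃.subtype) :=
    (Cfsg.Agent.Helper1.pCore_isPGroup p).map _
  have hOQ := Cfsg.Agent.Helper1.le_pCore_of_isSubnormal hOsub hOp
  intro b hb
  exact hOQ ⟨⟨b, hBG₃ hb⟩, hBY (mem_subgroupOf.mpr hb), rfl⟩

end even

end Cfsg.Agent.Lead.KInf
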