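import Mathlib
import Cfsg.Prelude.Def_ConjugacyFunctors
import Cfsg.Prelude.Def_LocalEven
import Cfsg.Agent.Lead.KInfC
import Cfsg.Agent.Lead.KInfJ
import Cfsg.Agent.Helper1.CriticalSubgroup
import Cfsg.Agent.Helper1.CritAut

/-!
In a finite group `X` with `C_X(O_p(X)) ≤ O_p(X)` all of whose sections are `p`-stable in the
normalizer form, the K-infinity subgroups of a Sylow `p`-subgroup are normal.
-/

set_option autoImplicit false

universe u

namespace Cfsg.Agent.Lead.KInf

open Cfsg Subgroup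

section internal

variable {P : Type*} [Group P]

theorem odd_step_sub (A E B : Subgroup P) (hAE : A ≤ E)
    (hB : B ∈ Cfsg.kUpperStarFamily E) : ⁅⁅A, B⁆, B⁆ = ⊥ := by
  obtain ⟨-, hBE⟩ := hB
  apply le_bot_iff.mp
  calc ⁅⁅A, B⁆, B⁆ ≤ ⁅⁅E, B⁆, B⁆ := commutator_mono (commutator_mono hAE le_rfl) le_rfl
    _ = ⁅⁅B, E⁆, B⁆ := by rw [commutator_comm B]
    _ ≤ ⁅B ⊓ centralizer (B : Set P), B⁆ := commutator_mono hBE le_rfl
    _ = ⊥ := comm_inf_cent_self B

/-- The internal induction, with the local hypotheses as parameters. -/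
theorem all_terms_le (T A : Subgroup P) [A.Normal]
    (hA2 : A ∈ Cfsg.classTwoSubgroups P)
    (hTA : ⁅T, A⁆ ≤ A ⊓ centralizer (A : Set P))
    (Hone : ∀ A₁ : Subgroup P, ⁅⁅A ⊓ centralizer (A : Set P), A₁⁆, A₁⁆ = ⊥ →
      ⁅⁅A, A₁⁆, A₁⁆ ≤ A ⊓ centralizer (A : Set P) → A₁ ≤ T)
    (Heven : ∀ B R : Subgroup P, A ≤ R → B ∈ Cfsg.kLowerStarFamily R → B ≤ T) :
    ∀ n : ℕ, Cfsg.kSeqEven P n ≤ T ∧ Cfsg.kSeqOdd P (n + 1) ≤ T := by
  have hquad : ∀ B : Subgroup P, ⁅⁅A, B⁆, B⁆ = ⊥ → B ≤ T := by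
    intro B hq
    apply Hone B
    · apply le_bot_iff.mp
      rw [← hq]
      exact commutator_mono (commutator_mono inf_le_left le_rfl) le_rfl
    · rw [hq]
      exact bot_le
  intro n
  induction n with
  | zero =>
    have hE0 : Cfsg.kSeqEven P 0 ≤ T := by
      apply sSup_le
      intro B hB
      exact Heven B _ le_top hB
    refine ⟨hE0, ?_⟩
    apply sSup_le
    intro B hB
    by_cases hAl : ∀ A₁ ∈ Cfsg.classTwoSubgroups P, A ≤ normalizer (A₁ : Set P) →
        ⁅A, ⁅A₁, A₁⁆⁆ = ⊥ → ⁅⁅A ⊓ centralizer (A : Set P), A₁⁆, A₁⁆ = ⊥ →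
        ⁅A, A₁⁆ ≤ A ⊓ centralizer (A : Set P)
    · have hAmem : A ∈ Cfsg.kLowerStarFamily (Cfsg.kSeqOdd P 0) := by
        refine ⟨hA2, ?_, ?_⟩
        · rw [normalizer_eq_top]
          exact le_top
        · intro A' hA' _ h1 h2 h3
          exact hAl A' hA' h1 h2 h3
      have hAE : A ≤ Cfsg.kSeqEven P 0 := le_sSup hAmem
      exact hquad B (odd_step_sub A _ B hAE hB)
    · exfalso
      push Not at hAl
      obtain ⟨A₁, _, hAA₁, h1, h2, h3⟩ := hAl
      apply h3
      have h4 : ⁅A, A₁⁆ ≤ A₁ := le_normalizer_iff_commutator_le_right.mp hAA₁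
      have h5 : ⁅A, A₁⁆ ≤ A := commutator_le_left A A₁
      have h6 : ⁅A₁, A₁⁆ ≤ centralizer (A : Set P) := by
        rw [← commutator_eq_bot_iff_le_centralizer, commutator_comm]
        exact h1
      have hA₁T : A₁ ≤ T := by
        apply Hone A₁ h2
        refine le_inf ?_ ?_
        · exact (commutator_mono h5 le_rfl).trans h5
        · exact (commutator_mono h4 le_rfl).trans h6
      rw [commutator_comm]
      exact (commutator_mono hA₁T le_rfl).trans hTA
  | succ n ih =>
    obtain ⟨ihE, ihO⟩ := ih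
    have hAO : A ≤ Cfsg.kSeqOdd P (n + 1) := le_sSup (mem_upper_of_le T A _ hA2 hTA ihE)
    have hE1 : Cfsg.kSeqEven P (n + 1) ≤ T := by
      apply sSup_le
      intro B hB
      exact Heven B _ hAO hB
    refine ⟨hE1, ?_⟩
    apply sSup_le
    intro B hB
    have hAE : A ≤ Cfsg.kSeqEven P (n + 1) := le_sSup (mem_lower_of_le T A _ hA2 hTA ihO)
    exact hquad B (odd_step_sub A _ B hAE hB)

end internal

section critical

variable {X : Type u} [Group X] [Finite X] {p : ℕ} [hp : Fact p.Prime]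

/-- A normal critical subgroup of `O_p(X)`. -/
theorem exists_critical_normal (p : ℕ) [hp : Fact p.Prime] (X : Type u) [Group X] [Finite X] :
    ∃ A : Subgroup X, A.Normal ∧ A ≤ Cfsg.pCore p X ∧ ⁅A, A⁆ ≤ centralizer (A : Set X) ∧
      ⁅Cfsg.pCore p X, A⁆ ≤ A ⊓ centralizer (A : Set X) ∧
      (centralizer ((Cfsg.pCore p X : Subgroup X) : Set X) ≤ Cfsg.pCore p X →
        ∀ y : X, (orderOf y).Coprime p → y ∈ centralizer (A : Set X) → y = 1) := by
  obtain ⟨Q, hQ⟩ : ∃ Q, Q = Cfsg.pCore p X := ⟨_, rfl⟩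
  rw [← hQ]
  have hQn : Q.Normal := hQ ▸ (inferInstance : (Cfsg.pCore p X).Normal)
  have hQp : IsPGroup p ↥Q := hQ ▸ Cfsg.Agent.Helper1.pCore_isPGroup p
  obtain ⟨C, hCchar, -, hC3, hC4⟩ := Cfsg.Agent.Helper1.exists_critical_subgroup (P := ↥Q) hQp
  obtain ⟨A, hA⟩ : ∃ A, A = C.map Q.subtype := ⟨_, rfl⟩
  have hinj : Function.Injective Q.subtype := Q.subtype_injective
  have hAQ : A ≤ Q := hA ▸ map_subtype_le C
  have hAsub : A.subgroupOf Q = C := by
    rw [hA]
    exact comap_map_eq_self_of_injective hinj C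
  have hAchar : (A.subgroupOf Q).Characteristic := by
    rw [hAsub]
    exact hCchar
  have hAn : A.Normal := by
    have h1 := ConjAct.normal_of_characteristic_of_normal (H := Q) (K := A.subgroupOf Q)
    rwa [map_subgroupOf_eq_of_le hAQ] at h1
  have hZ : (C ⊓ centralizer (C : Set ↥Q)).map Q.subtype = A ⊓ centralizer (A : Set X) := by
    rw [Cfsg.Agent.Helper5.KS.map_Z Q.subtype hinj C, hA]
  have hQA : ⁅Q, A⁆ ≤ A ⊓ centralizer (A : Set X) := by
    have := Subgroup.map_mono (f := Q.subtype) hC3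
    rw [map_commutator, hZ, ← MonoidHom.range_eq_map, Q.range_subtype, ← hA] at this
    rwa [commutator_comm]
  have hA2 : ⁅A, A⁆ ≤ centralizer (A : Set X) :=
    (commutator_mono hAQ le_rfl).trans (hQA.trans inf_le_right)
  refine ⟨A, hAn, hAQ, hA2, hQA, ?_⟩
  intro hc y hcop hy
  have hCn : C.Normal := inferInstance
  have hφ : (MulAut.conjNormal y : MulAut ↥Q) = 1 := by
    apply Cfsg.Agent.Helper1.aut_trivial_of_trivial_on_selfcentralizing hQp C hCn hC4
    · exact Nat.Coprime.coprime_dvd_left (orderOf_map_dvd _ y) hcop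
    · intro x hx
      apply Subtype.ext
      rw [MulAut.conjNormal_apply]
      have hxA : (x : X) ∈ A := by
        rw [hA]
        exact ⟨x, hx, rfl⟩
      have := (mem_centralizer_iff.mp hy) (x : X) hxA
      rw [← this]
      group
  have hyC : y ∈ centralizer (Q : Set X) := by
    rw [mem_centralizer_iff]
    intro q hq
    have h1 := congrArg (fun f : MulAut ↥Q => ((f ⟨q, hq⟩ : ↥Q) : X)) hφ
    simp only [MulAut.conjNormal_apply, MulAut.one_apply] at h1
    calc q * y = (y * q * y⁻¹) * y := by rw [h1]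
      _ = y * q := by group
  have hyQ : y ∈ Q := hc hyC
  obtain ⟨k, hk⟩ := hQp ⟨y, hyQ⟩
  have hk' : y ^ (p ^ k) = 1 := by
    have := congrArg Subtype.val hk
    simpa using this
  have h1 : orderOf y ∣ p ^ k := orderOf_dvd_of_pow_eq_one hk'
  have h2 : orderOf y = 1 :=
    Nat.eq_one_of_dvd_coprimes (Nat.Coprime.pow_right k hcop) dvd_rfl h1
  exact orderOf_eq_one_iff.mp h2

end critical

section main

variable {p : ℕ} [hp : Fact p.Prime]

/-- The main theorem: normality of the K-infinity subgroups in `p`-stable `p`-constrained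
groups. -/
theorem induced_normal_of_stable (W : ∀ (Q : Type u) [Group Q], Subgroup Q)
    (hW : Cfsg.IsCharPFunctor.{u} p W) (hWs : SubDetermined.{u} p W)
    {X : Type u} [Group X] [Finite X] (hall : AllSec p X)
    (hc : centralizer ((Cfsg.pCore p X : Subgroup X) : Set X) ≤ Cfsg.pCore p X)
    (T : Sylow p X) : (Cfsg.inducedFunctor (G := X) W (T : Subgroup X)).Normal := by
  by_contra hnn
  obtain ⟨A, hAn, hAQ, hA2, hQA, hcrit'⟩ := exists_critical_normal p X
  have hcrit := hcrit' hc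
  obtain ⟨Q, hQ⟩ : ∃ Q, Q = Cfsg.pCore p X := ⟨_, rfl⟩
  rw [← hQ] at hAQ hQA
  have hQn : Q.Normal := hQ ▸ (inferInstance : (Cfsg.pCore p X).Normal)
  have hQT : Q ≤ (T : Subgroup X) := hQ ▸ Cfsg.Agent.Helper1.pCore_le_sylow T
  have hA : IsPGroup p A := (hQ ▸ Cfsg.Agent.Helper1.pCore_isPGroup p : IsPGroup p Q).to_le hAQ
  have hAT : A ≤ (T : Subgroup X) := hAQ.trans hQT
  have hnn' : ¬ (⊤ : Subgroup X) ≤
      normalizer ((Cfsg.inducedFunctor W (T : Subgroup X) : Subgroup X) : Set X) := by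
    intro h
    apply hnn
    exact normalizer_eq_top_iff.mp (top_le_iff.mp h)
  have hQtop : (⊤ : Subgroup X) ≤ normalizer (Q : Set X) := by
    rw [normalizer_eq_top]
  have hnot := not_all_terms_le W hW hWs T.isPGroup' hQT hQtop hnn'
  apply hnot
  have hinj : Function.Injective (T : Subgroup X).subtype := (T : Subgroup X).subtype_injective
  have hAn' : (A.subgroupOf (T : Subgroup X)).Normal := hAn.subgroupOf _
  have hmapA : (A.subgroupOf (T : Subgroup X)).map (T : Subgroup X).subtype = A :=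
    map_subgroupOf_eq_of_le hAT
  have hmapQ : (Q.subgroupOf (T : Subgroup X)).map (T : Subgroup X).subtype = Q :=
    map_subgroupOf_eq_of_le hQT
  have hA2' : A.subgroupOf (T : Subgroup X) ∈ Cfsg.classTwoSubgroups ↥(T : Subgroup X) := by
    rw [← Cfsg.Agent.Helper5.KS.mem_classTwo_iff (T : Subgroup X).subtype hinj, hmapA]
    exact hA2
  have hQA' : ⁅Q.subgroupOf (T : Subgroup X), A.subgroupOf (T : Subgroup X)⁆ ≤
      A.subgroupOf (T : Subgroup X) ⊓
        centralizer ((A.subgroupOf (T : Subgroup X) : Subgroup ↥(T : Subgroup X)) :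
          Set ↥(T : Subgroup X)) := by
    rw [← map_le_map_iff_of_injective hinj, map_commutator, map_zcent_subgroupOf hAT, hmapA, hmapQ]
    exact hQA
  have hback : ∀ B : Subgroup ↥(T : Subgroup X), B.map (T : Subgroup X).subtype ≤ Q →
      B ≤ Q.subgroupOf (T : Subgroup X) := by
    intro B hB x hx
    exact mem_subgroupOf.mpr (hB ⟨x, hx, rfl⟩)
  apply all_terms_le (Q.subgroupOf (T : Subgroup X)) (A.subgroupOf (T : Subgroup X)) hA2' hQA'
  · intro A₁ h1 h2
    apply hback
    rw [hQ]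
    apply le_pCore_of_quad_zcent hall A hA hcrit
    · have := congrArg (Subgroup.map (T : Subgroup X).subtype) h1
      rw [map_commutator, map_commutator, map_zcent_subgroupOf hAT, Subgroup.map_bot] at this
      exact this
    · have := Subgroup.map_mono (f := (T : Subgroup X).subtype) h2
      rw [map_commutator, map_commutator, map_zcent_subgroupOf hAT, hmapA] at this
      exact this
  · intro B R hAR hB
    apply hback
    rw [hQ]
    have hB' := (Cfsg.Agent.Helper5.KS.mem_lower_iff (T : Subgroup X).subtype hinj R B).mpr hB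
    have hAR' : A ≤ R.map (T : Subgroup X).subtype := by
      rw [← hmapA]
      exact Subgroup.map_mono hAR
    exact lower_le_pCore hall A (hQ ▸ hAQ) hA2 (hQ ▸ hQA) hcrit _ _ hAR' hB'

end main

end Cfsg.Agent.Lead.KInf
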