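import Mathlib
import Cfsg.Prelude.Def_ConjugacyFunctors
import Cfsg.Prelude.Def_LocalEven
import Cfsg.Agent.Lead.KInfK
import Cfsg.Agent.Lead.KInfG
import Cfsg.Agent.Helper1.FSF
import Cfsg.Agent.Helper1.NStableEquiv

/-!
Control of strong fusion by the K-infinity subgroups in groups all of whose sections are
`p`-stable in the normalizer form.
-/

set_option autoImplicit false

universe u

namespace Cfsg.Agent.Lead.KInf

open Cfsg Subgroup Cfsg.Agent.Helper5.TF Cfsg.Agent.Helper1.FT

variable {p : ℕ} [Fact p.Prime]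

theorem allSec_of_sections {G : Type u} [Group G]
    (hst : ∀ (K R : Subgroup G) [hR : (R.subgroupOf K).Normal],
      Cfsg.IsNormalizerPStable p (↥K ⧸ R.subgroupOf K)) : AllSec p G := by
  intro Y _ hsec
  obtain ⟨K, R, hn, ⟨e⟩⟩ := exists_equiv_of_isSectionOf hsec
  exact Cfsg.Agent.Helper1.NStable.isNormalizerPStable_of_mulEquiv e (hst K R)

omit [Fact p.Prime] in
theorem AllSec.of_section {X Y : Type u} [Group X] [Group Y] (h : AllSec p X)
    (hsec : IsSectionOf Y X) : AllSec p Y := by
  intro Z _ hZ
  exact h Z (IsSectionOf.trans hZ hsec)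

/-- Control of strong fusion by a subgroup-determined characteristic functor in a group all of
whose sections are `p`-stable. -/
theorem csf_of_stable (W : ∀ (Q : Type u) [Group Q], Subgroup Q)
    (hW : Cfsg.IsCharPFunctor.{u} p W) (hWs : SubDetermined.{u} p W)
    {G : Type u} [Group G] [Finite G] (hall : AllSec p G) (S : Sylow p G) :
    Cfsg.ControlsStrongFusion p (Cfsg.inducedFunctor (G := G) W (S : Subgroup G)) := by
  have h𝓦 : ∀ W' ∈ ({W} : Set (∀ (Q : Type u) [Group Q], Subgroup Q)),
      Cfsg.IsCharPFunctor.{u} p W' := by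
    rintro W' rfl; exact hW
  apply controlsStrongFusion_of_family_singleton W hW
  apply sf_induction (G := G) {W} h𝓦 ?_ (Nat.card G) G rfl (isSectionOf_refl G)
  intro X _ _ hsecX hpc _ _
  have h1 : Loc1969 p W X := fun T =>
    induced_normal_of_stable W hW hWs (hall.of_section hsecX) hpc T
  have S : Sylow p X := default
  apply top_of_sfs S
  intro A g hA hAg
  have hmem : Cfsg.inducedFunctor (G := X) W ∈ ind {W} X := ⟨W, rfl, rfl⟩
  refine FRel.step hmem ?_ hA hAg
  have hN : Subgroup.normalizer ((Cfsg.inducedFunctor (G := X) W (S : Subgroup X) : Subgroup X) :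
      Set X) = ⊤ := Subgroup.normalizer_eq_top_iff.mpr (h1 S)
  rw [hN]
  exact Subgroup.mem_top g

end Cfsg.Agent.Lead.KInf
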