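import Mathlib
import Cfsg.Prelude.Def_ConjugacyFunctors
import Cfsg.Prelude.Def_LocalEven
import Cfsg.Prelude.Def_Transfer
import Cfsg.Agent.Lead.KInfL
import Cfsg.Agent.Helper1.FrobPCompl2
import Cfsg.Agent.S1978
import Cfsg.Agent.S1990

/-!
Thompson-type normal `p`-complement criteria for the K-infinity subgroups.
-/

set_option autoImplicit false

universe u

namespace Cfsg.Agent.Lead.KInf

open Cfsg Subgroup

section general

variable {Y : Type*} [Group Y] [Finite Y] {p : ℕ} [Fact p.Prime]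

/-- A `p'`-element normalizing a `p`-group `R` and centralizing a normal self-centralizing subgroup
of `R` centralizes `R`. -/
theorem centralizes_selfcentralizing (R K : Subgroup Y) (hR : IsPGroup p R) (hKR : K ≤ R)
    (hKn : R ≤ normalizer (K : Set Y)) (hC : R ⊓ centralizer (K : Set Y) ≤ K) (g : Y)
    (hg : g ∈ normalizer (R : Set Y)) (hcop : (orderOf g).Coprime p)
    (hgK : g ∈ centralizer (K : Set Y)) : g ∈ centralizer (R : Set Y) := by
  apply centralizes_of_chain K R (hR.to_le hKR) g hcop hgK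
  intro a ha
  apply hC
  refine ⟨R.mul_mem ((mem_normalizer_iff.mp hg a).mp ha) (R.inv_mem ha), ?_⟩
  apply mem_centralizer_iff.mpr
  intro k hk
  obtain ⟨k', hk'⟩ : ∃ k', k' = a⁻¹ * k * a := ⟨_, rfl⟩
  have h1 : k' ∈ K := by
    have := (mem_normalizer_iff.mp (hKn (R.inv_mem ha)) k).mp hk
    rw [inv_inv] at this
    exact hk' ▸ this
  have h2 : k' * g = g * k' := (mem_centralizer_iff.mp hgK) _ h1
  have h3 : k * g = g * k := (mem_centralizer_iff.mp hgK) k hk
  have h4 : g⁻¹ * k' = k' * g⁻¹ := by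
    calc g⁻¹ * k' = g⁻¹ * (k' * g) * g⁻¹ := by group
      _ = g⁻¹ * (g * k') * g⁻¹ := by rw [h2]
      _ = k' * g⁻¹ := by group
  have h5 : a * k' = k * a := by rw [hk']; group
  symm
  calc g * a * g⁻¹ * a⁻¹ * k = g * a * (g⁻¹ * k') * a⁻¹ := by rw [hk']; group
    _ = g * a * (k' * g⁻¹) * a⁻¹ := by rw [h4]
    _ = g * (a * k') * g⁻¹ * a⁻¹ := by group
    _ = g * (k * a) * g⁻¹ * a⁻¹ := by rw [h5]
    _ = (g * k) * a * g⁻¹ * a⁻¹ := by group
    _ = (k * g) * a * g⁻¹ * a⁻¹ := by rw [h3]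
    _ = k * (g * a * g⁻¹ * a⁻¹) := by group

end general

section crit

variable {G : Type u} [Group G]

theorem mem_normalizer_sup {A B : Subgroup G} {g : G} (hA : g ∈ normalizer (A : Set G))
    (hB : g ∈ normalizer (B : Set G)) : g ∈ normalizer ((A ⊔ B : Subgroup G) : Set G) := by
  have h1 : A ≤ normalizer ((A ⊔ B : Subgroup G) : Set G) := le_sup_left.trans le_normalizer
  have key : ∀ x : G, x ∈ normalizer (A : Set G) → x ∈ normalizer (B : Set G) →
      ∀ y ∈ A ⊔ B, x * y * x⁻¹ ∈ A ⊔ B := by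
    intro x hxA hxB y hy
    have h2 : (A ⊔ B).map (MulAut.conj x).toMonoidHom ≤ A ⊔ B := by
      rw [Subgroup.map_sup]
      apply sup_le_sup
      · rintro _ ⟨a, ha, rfl⟩
        exact (mem_normalizer_iff.mp hxA a).mp ha
      · rintro _ ⟨b, hb, rfl⟩
        exact (mem_normalizer_iff.mp hxB b).mp hb
    exact h2 ⟨y, hy, rfl⟩
  rw [mem_normalizer_iff]
  intro y
  refine ⟨key g hA hB y, fun hy => ?_⟩
  have := key g⁻¹ (inv_mem hA) (inv_mem hB) _ hy
  rw [inv_inv] at this
  have e : g⁻¹ * (g * y * g⁻¹) * g = y := by group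
  rwa [e] at this

variable [Finite G] {p : ℕ} [Fact p.Prime]

/-- If every `p'`-element of `N_G(K)` centralizes `K`, where `K` is a normal self-centralizing
subgroup of a Sylow `p`-subgroup, then `N_G(K)` has a normal `p`-complement. -/
theorem normalizer_hasNormalPComplement (S : Sylow p G) (K : Subgroup G)
    (hKS : K ≤ (S : Subgroup G)) (hSN : (S : Subgroup G) ≤ normalizer (K : Set G))
    (hC : (S : Subgroup G) ⊓ centralizer (K : Set G) ≤ K)
    (h : ∀ g ∈ normalizer (K : Set G), (orderOf g).Coprime p → g ∈ centralizer (K : Set G)) :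
    Cfsg.HasNormalPComplement p ↥(normalizer (K : Set G)) := by
  obtain ⟨N, hN⟩ : ∃ N, N = normalizer (K : Set G) := ⟨_, rfl⟩
  rw [← hN] at hSN h ⊢
  obtain ⟨P, hP⟩ : ∃ P : Sylow p ↥N, (P : Subgroup ↥N) = (S : Subgroup G).subgroupOf N :=
    ⟨S.subtype hSN, Sylow.coe_subtype _ _⟩
  rw [Cfsg.Agent.Helper1.hasNormalPComplement_iff P,
    Cfsg.Agent.Helper1.frobenius_normal_pcomplement_iff P]
  intro Q hQP g hg hcop
  have hQ'S : Q.map N.subtype ≤ (S : Subgroup G) := by
    rintro _ ⟨q, hq, rfl⟩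
    have := hQP hq
    rw [hP, mem_subgroupOf] at this
    exact this
  obtain ⟨R, hR⟩ : ∃ R, R = Q.map N.subtype ⊔ K := ⟨_, rfl⟩
  have hRS : R ≤ (S : Subgroup G) := hR ▸ sup_le hQ'S hKS
  have hKR : K ≤ R := hR ▸ le_sup_right
  have hQR : Q.map N.subtype ≤ R := hR ▸ le_sup_left
  have hgK : (g : G) ∈ normalizer (K : Set G) := hN ▸ g.2
  have hgQ : (g : G) ∈ normalizer ((Q.map N.subtype : Subgroup G) : Set G) := by
    exact Subgroup.le_normalizer_map (H := Q) N.subtype ⟨g, hg, rfl⟩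
  have hgR : (g : G) ∈ normalizer (R : Set G) := by
    rw [hR]
    exact Cfsg.Agent.Lead.KInf.mem_normalizer_sup hgQ hgK
  have hord : orderOf (g : G) = orderOf g := Subgroup.orderOf_coe g
  have hcen := centralizes_selfcentralizing R K (S.2.to_le hRS) hKR (hRS.trans (hN ▸ hSN))
    ((inf_le_inf_right _ hRS).trans hC) (g : G) hgR (hord ▸ hcop)
    (h (g : G) g.2 (hord ▸ hcop))
  rw [mem_centralizer_iff]
  intro q hq
  apply Subtype.ext
  have hq' : (q : G) ∈ R := hQR ⟨q, hq, rfl⟩
  have := (mem_centralizer_iff.mp hcen) (q : G) hq'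
  simpa using this

/-- The K-infinity subgroups of a Sylow subgroup are self-centralizing in it. -/
theorem sylow_inf_centralizer_le (S : Sylow p G) :
    (S : Subgroup G) ⊓ centralizer ((Cfsg.inducedFunctor Cfsg.kInfLower (S : Subgroup G) :
      Subgroup G) : Set G) ≤ Cfsg.inducedFunctor Cfsg.kInfLower (S : Subgroup G) := by
  rintro s ⟨hsS, hsC⟩
  have h1 := (Cfsg.Agent.S1978.result (P := ↥(S : Subgroup G)) S.isPGroup').1
  have h2 : (⟨s, hsS⟩ : ↥(S : Subgroup G)) ∈
      centralizer ((Cfsg.kInfLower ↥(S : Subgroup G) : Subgroup ↥(S : Subgroup G)) :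
        Set ↥(S : Subgroup G)) := by
    rw [mem_centralizer_iff]
    intro k hk
    apply Subtype.ext
    exact (mem_centralizer_iff.mp hsC) (k : G) ⟨k, hk, rfl⟩
  exact ⟨⟨s, hsS⟩, h1 h2, rfl⟩

/-- `S1988`. -/
theorem npc_of_kInfLower (hp : p ≠ 2) (S : Sylow p G)
    (h : Cfsg.HasNormalPComplement p ↥(normalizer ((Cfsg.inducedFunctor Cfsg.kInfLower
        (S : Subgroup G) : Subgroup G) : Set G)) ∨
      ∀ g ∈ normalizer ((Cfsg.inducedFunctor Cfsg.kInfLower (S : Subgroup G) : Subgroup G) : Set G),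
        (orderOf g).Coprime p →
        g ∈ centralizer ((Cfsg.inducedFunctor Cfsg.kInfLower (S : Subgroup G) : Subgroup G) :
          Set G)) :
    Cfsg.HasNormalPComplement p G := by
  have hN : Cfsg.HasNormalPComplement p ↥(normalizer ((Cfsg.inducedFunctor Cfsg.kInfLower
      (S : Subgroup G) : Subgroup G) : Set G)) := by
    rcases h with h | h
    · exact h
    · apply normalizer_hasNormalPComplement S _ (map_subtype_le _) ?_ (sylow_inf_centralizer_le S) h
      exact Cfsg.Agent.Lead.le_normalizer_functor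
        (Cfsg.Agent.Helper1.FT.isConjugacyFunctor_induced Cfsg.kInfLower
          (isCharPFunctor_kInfLower p)) S.2
  exact Cfsg.Agent.S1990.result hp Cfsg.kInfLower (isCharPFunctor_kInfLower p) S hN
    (fun K R _ hst T => csf_of_stable Cfsg.kInfLower (isCharPFunctor_kInfLower p)
      (subDetermined_kInfLower p) (allSec_of_sections hst) T)

end crit

end Cfsg.Agent.Lead.KInf
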