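import Mathlib
import Cfsg.Prelude.Def_ConjugacyFunctors
import Cfsg.Prelude.Def_LocalEven
import Cfsg.Prelude.Def_PLocal
import Cfsg.Agent.Lead.KInfM
import Cfsg.Agent.Lead.KInfH
import Cfsg.Agent.Helper1.ZJFusQdB
import Cfsg.Agent.Helper1.QdStableIff

/-!
`Qd(p)`-free groups are those in all of whose sections the lower K-infinity subgroup controls
strong fusion.
-/

set_option autoImplicit false

universe u

namespace Cfsg.Agent.Lead.KInf

open Cfsg Subgroup Cfsg.Agent.Lead.Qd Cfsg.Agent.Helper5.TF Cfsg.Agent.Helper1.FT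

variable {p : ℕ} [hp : Fact p.Prime]

/-- In a group isomorphic to `Qd(p)` the lower K-infinity subgroup of a Sylow `p`-subgroup does
not control strong fusion. -/
theorem not_csf_of_equiv_qd {X : Type u} [Group X] [Finite X] (e : X ≃* ↥(Cfsg.qd p))
    (T₀ : Sylow p X)
    (h : Cfsg.ControlsStrongFusion p (Cfsg.inducedFunctor (G := X) Cfsg.kInfLower
      (T₀ : Subgroup X))) : False := by
  obtain ⟨T, hUT, hctl⟩ := h
  obtain ⟨U, hU⟩ : ∃ U, U = Cfsg.inducedFunctor (G := X) Cfsg.kInfLower (T₀ : Subgroup X) :=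
    ⟨_, rfl⟩
  rw [← hU] at hUT hctl
  have hsurj : Function.Surjective e.toMonoidHom := e.surjective
  have hinj : Function.Injective e.toMonoidHom := e.injective
  obtain ⟨VX, hVX⟩ : ∃ VX : Subgroup X, VX = (V p).comap e.toMonoidHom := ⟨_, rfl⟩
  have hVn : (V p).Normal := by unfold V; infer_instance
  have hVXn : VX.Normal := by rw [hVX]; infer_instance
  have hmemV : ∀ x : X, x ∈ VX ↔ e x ∈ V p := by
    intro x; rw [hVX]; exact Iff.rfl
  -- `VX` lies in every Sylow subgroup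
  have hVle : ∀ T' : Sylow p X, VX ≤ (T' : Subgroup X) := by
    intro T' x hx
    have h1 := Cfsg.Agent.Helper1.ZJFus.V_le_sylow p (T'.mapSurjective hsurj) ((hmemV x).mp hx)
    rw [Sylow.coe_mapSurjective] at h1
    obtain ⟨t, ht, hte⟩ := h1
    have : t = x := hinj hte
    exact this ▸ ht
  have hVcomm : ∀ x ∈ VX, ∀ y ∈ VX, x * y = y * x := by
    intro x hx y hy
    apply hinj
    show e (x * y) = e (y * x)
    rw [map_mul, map_mul]
    exact Cfsg.Agent.Helper1.ZJFus.V_comm p _ ((hmemV x).mp hx) _ ((hmemV y).mp hy)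
  have hVcent : centralizer (VX : Set X) ≤ VX := by
    intro x hx
    rw [hmemV]
    apply Cfsg.Agent.Helper1.QdNS.centralizer_V_le p
    rw [mem_centralizer_iff]
    intro v hv
    obtain ⟨y, rfl⟩ := hsurj v
    have hy : y ∈ VX := (hmemV y).mpr hv
    have := (mem_centralizer_iff.mp hx) y hy
    show e y * e x = e x * e y
    rw [← map_mul, ← map_mul, this]
  -- `T₀` normalizes `U`
  have hT₀N : (T₀ : Subgroup X) ≤ normalizer (U : Set X) := by
    rw [hU]
    exact Cfsg.Agent.Lead.le_normalizer_functor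
      (isConjugacyFunctor_induced Cfsg.kInfLower (isCharPFunctor_kInfLower p)) T₀.2
  -- `U` is normal
  have hUn : U.Normal := by
    rw [← normalizer_eq_top_iff, eq_top_iff]
    intro g _
    have hA : ((VX : Subgroup X) : Set X) ⊆ (T : Subgroup X) := hVle T
    obtain ⟨-, hc⟩ := hctl _ hA
    have himg : (fun a => g * a * g⁻¹) '' ((VX : Subgroup X) : Set X) ⊆ (T : Subgroup X) := by
      rintro _ ⟨a, ha, rfl⟩
      exact hVle T (hVXn.conj_mem a ha g)
    obtain ⟨x, hx, hxa⟩ := hc g himg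
    have h1 : x⁻¹ * g ∈ centralizer (VX : Set X) := by
      rw [mem_centralizer_iff]
      intro a ha
      have := hxa a ha
      calc a * (x⁻¹ * g) = x⁻¹ * (x * a * x⁻¹) * g := by group
        _ = x⁻¹ * (g * a * g⁻¹) * g := by rw [this]
        _ = x⁻¹ * g * a := by group
    have h2 : x⁻¹ * g ∈ normalizer (U : Set X) := hT₀N (hVle T₀ (hVcent h1))
    have : g = x * (x⁻¹ * g) := by group
    rw [this]
    exact mul_mem hx h2
  have hUT₀ : U ≤ (T₀ : Subgroup X) := hU ▸ map_subtype_le _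
  have hgood := good_sylow p (T₀.mapSurjective hsurj)
  -- `U ≤ VX`
  have hUV : U ≤ VX := by
    have hn : (U.map e.toMonoidHom).Normal := hUn.map _ hsurj
    have h1 : U.map e.toMonoidHom ≤ ((T₀.mapSurjective hsurj : Sylow p ↥(Cfsg.qd p)) :
        Subgroup ↥(Cfsg.qd p)) := by
      rw [Sylow.coe_mapSurjective]
      exact Subgroup.map_mono hUT₀
    have h2 := hgood.le_V _ h1 hn
    intro x hx
    rw [hmemV]
    exact h2 ⟨x, hx, rfl⟩
  -- `VX ≤ U`
  have hVU : VX ≤ U := by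
    have h1 := sylow_inf_centralizer_le T₀
    rw [← hU] at h1
    intro x hx
    apply h1
    refine ⟨hVle T₀ hx, ?_⟩
    apply mem_centralizer_iff.mpr
    intro y hy
    exact hVcomm y (hUV hy) x hx
  have hUeq : U = VX := le_antisymm hUV hVU
  -- the automorphism
  obtain ⟨ψ, x, hxV, hψx⟩ := hgood.aut
  obtain ⟨f, hf⟩ : ∃ f : ↥(T₀ : Subgroup X) ≃*
      ↥((T₀.mapSurjective hsurj : Sylow p ↥(Cfsg.qd p)) : Subgroup ↥(Cfsg.qd p)),
      ∀ t : ↥(T₀ : Subgroup X), ((f t : ↥((T₀.mapSurjective hsurj : Sylow p ↥(Cfsg.qd p)) :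
        Subgroup ↥(Cfsg.qd p))) : ↥(Cfsg.qd p)) = e (t : X) :=
    ⟨e.subgroupMap (T₀ : Subgroup X), fun t => rfl⟩
  have hchar : (Cfsg.kInfLower ↥(T₀ : Subgroup X)).Characteristic :=
    characteristic_of_isCharPFunctor Cfsg.kInfLower (isCharPFunctor_kInfLower p) _ T₀.isPGroup'
  obtain ⟨ψ', hψ'⟩ : ∃ ψ' : ↥(T₀ : Subgroup X) ≃* ↥(T₀ : Subgroup X),
      ψ' = f.trans (ψ.trans f.symm) := ⟨_, rfl⟩
  have hmemU : ∀ t : ↥(T₀ : Subgroup X), t ∈ Cfsg.kInfLower ↥(T₀ : Subgroup X) ↔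
      e (t : X) ∈ V p := by
    intro t
    rw [← hmemV, ← hUeq, hU]
    constructor
    · intro ht
      exact ⟨t, ht, rfl⟩
    · rintro ⟨t', ht', htt⟩
      have : t' = t := Subtype.ext htt
      exact this ▸ ht'
  have h1 : f.symm x ∈ Cfsg.kInfLower ↥(T₀ : Subgroup X) := by
    rw [hmemU, ← hf, MulEquiv.apply_symm_apply]
    exact hxV
  have h2 : ψ' (f.symm x) ∈ Cfsg.kInfLower ↥(T₀ : Subgroup X) := by
    have := (characteristic_iff_map_eq.mp hchar) ψ'
    rw [← this]
    exact ⟨_, h1, rfl⟩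
  rw [hmemU, ← hf, hψ'] at h2
  simp only [MulEquiv.trans_apply, MulEquiv.apply_symm_apply] at h2
  exact hψx h2

/-- `S1989`. -/
theorem qd_free_iff_kInfLower {G : Type u} [Group G] [Finite G] (hp2 : p ≠ 2) :
    ¬ Cfsg.Involves ↥(Cfsg.qd p) G ↔
      ∀ (K R : Subgroup G) [hR : (R.subgroupOf K).Normal],
        ∀ T : Sylow p (↥K ⧸ R.subgroupOf K),
          Cfsg.ControlsStrongFusion p (Cfsg.inducedFunctor (G := (↥K ⧸ R.subgroupOf K))
            Cfsg.kInfLower (T : Subgroup (↥K ⧸ R.subgroupOf K))) := by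
  constructor
  · intro h K R _ T
    have hst := (Cfsg.Agent.Helper1.QuadFree.qd_free_iff_sections_stable hp2).mp h
    have hsec : IsSectionOf (↥K ⧸ R.subgroupOf K) G :=
      ⟨K, QuotientGroup.mk' _, QuotientGroup.mk'_surjective _⟩
    exact csf_of_stable Cfsg.kInfLower (isCharPFunctor_kInfLower p) (subDetermined_kInfLower p)
      ((allSec_of_sections hst).of_section hsec) T
  · rintro h ⟨K, R, hR, ⟨e⟩⟩
    have T₀ : Sylow p (↥K ⧸ R.subgroupOf K) := default
    exact not_csf_of_equiv_qd e T₀ (h K R T₀)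

end Cfsg.Agent.Lead.KInf
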