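import Mathlib
import Cfsg.Prelude.Def_ConjugacyFunctors
import Cfsg.Agent.Lead.KInfG
import Cfsg.Agent.Helper4.HallConverseC

/-!
Glauberman: for `p ≥ 5`, a group with a nontrivial self-normalizing Sylow `p`-subgroup is not
perfect.  A finite group all of whose Sylow subgroups are self-normalizing has prime power order.
-/

set_option autoImplicit false

universe u

namespace Cfsg.Agent.Lead.KInf

open Cfsg Subgroup

variable {p : ℕ}

/-- For `p ≥ 5`, a nontrivial self-normalizing Sylow `p`-subgroup is not contained in the
commutator subgroup. -/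
theorem sylow_not_le_commutator [hp : Fact p.Prime] (h5 : 5 ≤ p) :
    ∀ (n : ℕ) (G : Type u) [Group G] [Finite G], Nat.card G = n → ∀ S : Sylow p G,
      normalizer ((S : Subgroup G) : Set G) = S → (S : Subgroup G) ≠ ⊥ →
      ¬ (S : Subgroup G) ≤ commutator G := by
  intro n
  induction n using Nat.strong_induction_on with
  | _ n ih =>
    intro G _ _ hcard S hNS hSne hSle
    obtain ⟨K, hK⟩ : ∃ K, K = Cfsg.inducedFunctor Cfsg.kInfLower (S : Subgroup G) := ⟨_, rfl⟩
    obtain ⟨N, hN⟩ : ∃ N, N = normalizer (K : Set G) := ⟨_, rfl⟩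
    have htr := transfer_at_sylow h5 Cfsg.kInfLower (isCharPFunctor_kInfLower p)
      (subDetermined_kInfLower p) S
    rw [← hK, ← hN] at htr
    have hSNN : (S : Subgroup G) ≤ ⁅N, N⁆ := by
      have h1 : (S : Subgroup G) ≤ (S : Subgroup G) ⊓ commutator G := le_inf le_rfl hSle
      rw [htr] at h1
      exact h1.trans inf_le_right
    have hSN : (S : Subgroup G) ≤ N := by
      rw [hN, hK]
      exact Cfsg.Agent.Lead.le_normalizer_functor
        (Cfsg.Agent.Helper1.FT.isConjugacyFunctor_induced Cfsg.kInfLower
          (isCharPFunctor_kInfLower p)) S.2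
    have hKS : K ≤ (S : Subgroup G) := hK ▸ map_subtype_le _
    by_cases hNtop : N = ⊤
    · -- `K` is normal
      have hKn : K.Normal := by
        rw [← normalizer_eq_top_iff, ← hN, hNtop]
      have hKne : K ≠ ⊥ := by
        have hnt : Nontrivial ↥(S : Subgroup G) := by
          rw [Subgroup.nontrivial_iff_ne_bot]
          exact hSne
        have h1 := (isCharPFunctor_kInfLower p).1 ↥(S : Subgroup G) S.isPGroup' hnt
        rw [hK]
        intro h2
        apply h1
        rw [Cfsg.inducedFunctor] at h2
        exact (map_eq_bot_iff_of_injective _ (S : Subgroup G).subtype_injective).mp h2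
      have hlt : Nat.card (G ⧸ K) < n := by
        have h1 := Subgroup.card_eq_card_quotient_mul_card_subgroup K
        have h2 : 1 < Nat.card K := (Subgroup.one_lt_card_iff_ne_bot K).mpr hKne
        have h3 : 0 < Nat.card (G ⧸ K) := Nat.card_pos
        rw [← hcard, h1]
        nlinarith
      have hsurj : Function.Surjective (QuotientGroup.mk' K) := QuotientGroup.mk'_surjective K
      obtain ⟨S', hS'⟩ : ∃ S' : Sylow p (G ⧸ K),
          (S' : Subgroup (G ⧸ K)) = (S : Subgroup G).map (QuotientGroup.mk' K) :=
        ⟨S.mapSurjective hsurj, Sylow.coe_mapSurjective hsurj S⟩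
      have hcomap : ((S : Subgroup G).map (QuotientGroup.mk' K)).comap (QuotientGroup.mk' K) =
          (S : Subgroup G) := by
        rw [comap_map_eq, QuotientGroup.ker_mk']
        exact sup_eq_left.mpr hKS
      have hNS' : normalizer ((S' : Subgroup (G ⧸ K)) : Set (G ⧸ K)) = S' := by
        apply le_antisymm _ le_normalizer
        intro y hy
        obtain ⟨x, rfl⟩ := hsurj y
        rw [hS'] at hy ⊢
        have h1 : x ∈ (normalizer (((S : Subgroup G).map (QuotientGroup.mk' K) :
            Subgroup (G ⧸ K)) : Set (G ⧸ K))).comap (QuotientGroup.mk' K) := hy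
        rw [Subgroup.comap_normalizer_eq_of_surjective _ hsurj, hcomap, hNS] at h1
        exact ⟨x, h1, rfl⟩
      have hS'le : (S' : Subgroup (G ⧸ K)) ≤ commutator (G ⧸ K) := by
        rw [hS', _root_.commutator_def,
          ← Subgroup.map_top_of_surjective (QuotientGroup.mk' K) hsurj,
          ← map_commutator, ← _root_.commutator_def]
        exact Subgroup.map_mono hSle
      by_cases hS'bot : (S' : Subgroup (G ⧸ K)) = ⊥
      · -- `S = K` is normal, so `G = S` is a `p`-group
        have hSK : (S : Subgroup G) ≤ K := by
          rw [hS', Subgroup.map_eq_bot_iff, QuotientGroup.ker_mk'] at hS'bot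
          exact hS'bot
        have hSn : (S : Subgroup G).Normal := by
          have : (S : Subgroup G) = K := le_antisymm hSK hKS
          rw [this]
          exact hKn
        have hStop : (S : Subgroup G) = ⊤ := by
          rw [← hNS]
          exact normalizer_eq_top_iff.mpr hSn
        have hG : IsPGroup p G := by
          have := S.2
          rw [hStop] at this
          exact IsPGroup.of_equiv this Subgroup.topEquiv
        have hnil : Group.IsNilpotent G := hG.isNilpotent
        have hnt : Nontrivial G := by
          have : Nontrivial ↥(S : Subgroup G) := by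
            rw [Subgroup.nontrivial_iff_ne_bot]
            exact hSne
          exact (S : Subgroup G).subtype_injective.nontrivial
        have h1 := Group.IsSolvable.commutator_lt_top_of_nontrivial G
        rw [hStop] at hSle
        exact (lt_irrefl _ (lt_of_le_of_lt hSle h1))
      · exact ih _ hlt (G ⧸ K) rfl S' hNS' hS'bot hS'le
    · have hlt : Nat.card ↥N < n := by
        rw [← hcard]
        exact lt_of_le_of_ne (Subgroup.card_le_card_group N)
          (fun h => hNtop ((Subgroup.card_eq_iff_eq_top N).mp h))
      obtain ⟨S', hS'⟩ : ∃ S' : Sylow p ↥N, (S' : Subgroup ↥N) = (S : Subgroup G).subgroupOf N :=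
        ⟨S.subtype hSN, Sylow.coe_subtype _ _⟩
      have hNS' : normalizer ((S' : Subgroup ↥N) : Set ↥N) = S' := by
        apply le_antisymm _ le_normalizer
        intro y hy
        rw [hS'] at hy ⊢
        rw [mem_subgroupOf, ← hNS]
        rw [mem_normalizer_iff] at hy ⊢
        intro s
        constructor
        · intro hs
          have := (hy ⟨s, hSN hs⟩).mp (by rw [mem_subgroupOf]; exact hs)
          rw [mem_subgroupOf] at this
          exact this
        · intro hs
          have hsN : s ∈ N := by
            have h1 : (y : G)⁻¹ * ((y : G) * s * (y : G)⁻¹) * (y : G) ∈ N :=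
              N.mul_mem (N.mul_mem (N.inv_mem y.2) (hSN hs)) y.2
            have e : (y : G)⁻¹ * ((y : G) * s * (y : G)⁻¹) * (y : G) = s := by group
            rwa [e] at h1
          have := (hy ⟨s, hsN⟩).mpr (by rw [mem_subgroupOf]; exact hs)
          rw [mem_subgroupOf] at this
          exact this
      have hS'ne : (S' : Subgroup ↥N) ≠ ⊥ := by
        rw [hS']
        intro h
        apply hSne
        rw [eq_bot_iff]
        intro s hs
        have : (⟨s, hSN hs⟩ : ↥N) ∈ (S : Subgroup G).subgroupOf N := by
          rw [mem_subgroupOf]; exact hs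
        rw [h, mem_bot] at this
        rw [mem_bot]
        exact congrArg Subtype.val this
      have hS'le : (S' : Subgroup ↥N) ≤ commutator ↥N := by
        intro y hy
        rw [hS', mem_subgroupOf] at hy
        have h1 := hSNN hy
        rw [← Subgroup.map_subtype_commutator] at h1
        obtain ⟨z, hz, hzy⟩ := h1
        have : z = y := Subtype.ext hzy
        exact this ▸ hz
      exact ih _ hlt ↥N rfl S' hNS' hS'ne hS'le

section selfnorm

variable {G : Type u} [Group G] [Finite G]

omit [Finite G] in
theorem normal_of_commutator_le' {M : Subgroup G} (hM : commutator G ≤ M) : M.Normal := by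
  refine ⟨fun n hn g => ?_⟩
  have h1 : g * n * g⁻¹ * n⁻¹ ∈ commutator G := by
    rw [_root_.commutator_def]
    exact Subgroup.commutator_mem_commutator (mem_top g) (mem_top n)
  have : g * n * g⁻¹ = (g * n * g⁻¹ * n⁻¹) * n := by group
  rw [this]
  exact M.mul_mem (hM h1) hn

/-- With a self-normalizing Sylow `q`-subgroup, the abelianization is a `q`-group. -/
theorem index_commutator_dvd {q : ℕ} [hq : Fact q.Prime] (Q : Sylow q G)
    (hQ : normalizer ((Q : Subgroup G) : Set G) = Q) :
    (commutator G).index ∣ Nat.card (Q : Subgroup G) := by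
  obtain ⟨M, hM⟩ : ∃ M, M = (Q : Subgroup G) ⊔ commutator G := ⟨_, rfl⟩
  have hQM : (Q : Subgroup G) ≤ M := hM ▸ le_sup_left
  have hMn : M.Normal := normal_of_commutator_le' (hM ▸ le_sup_right)
  have hfr := Sylow.normalizer_sup_eq_top (Q.subtype hQM)
  rw [Sylow.coe_subtype, Subgroup.subgroupOf_map_subtype, inf_eq_left.mpr hQM, hQ,
    sup_eq_right.mpr hQM] at hfr
  have hcn : (commutator G).Normal := inferInstance
  have h1 := Subgroup.relIndex_sup_right (Q : Subgroup G) (commutator G)
  rw [← hM, hfr, relIndex_top_right] at h1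
  rw [h1]
  exact Subgroup.relIndex_dvd_card _ _

/-- `S1992`. -/
theorem prime_power_of_selfNormalizing
    (h : ∀ q : ℕ, q.Prime → q ∣ Nat.card G → ∀ Q : Sylow q G,
      normalizer ((Q : Subgroup G) : Set G) = Q) : ∃ q : ℕ, q.Prime ∧ IsPGroup q G := by
  by_cases htriv : Nat.card G = 1
  · refine ⟨2, Nat.prime_two, ?_⟩
    have : Fact (Nat.Prime 2) := ⟨Nat.prime_two⟩
    exact IsPGroup.of_card (n := 0) (by rw [htriv, pow_zero])
  have hnt : Nontrivial G := by
    rw [← Finite.one_lt_card_iff_nontrivial]
    have : 0 < Nat.card G := Nat.card_pos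
    omega
  -- the abelianization is a `q`-group for every prime divisor `q`
  have hidx : ∀ q : ℕ, q.Prime → q ∣ Nat.card G → ∃ k, (commutator G).index ∣ q ^ k := by
    intro q hq hqd
    have : Fact q.Prime := ⟨hq⟩
    have Q : Sylow q G := default
    obtain ⟨k, hk⟩ := IsPGroup.iff_card.mp Q.2
    exact ⟨k, hk ▸ index_commutator_dvd Q (h q hq hqd Q)⟩
  by_cases hperf : commutator G = ⊤
  · exfalso
    have hns : ¬ Group.IsSolvable G := by
      intro hs
      have := Group.IsSolvable.commutator_lt_top_of_nontrivial G
      rw [hperf] at this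
      exact lt_irrefl _ this
    obtain ⟨r, hr, hr5, hrd⟩ : ∃ r : ℕ, r.Prime ∧ 5 ≤ r ∧ r ∣ Nat.card G := by
      by_contra hcon
      push Not at hcon
      apply hns
      apply Cfsg.Agent.Helper4.isSolvable_of_two_primes 2 3 Nat.prime_two Nat.prime_three
        (by norm_num)
      intro l hl hld
      have hl5 : l < 5 := by
        by_contra h5
        exact hcon l hl (by omega) hld
      have hl2 := hl.two_le
      interval_cases l
      · left; rfl
      · right; rfl
      · exfalso; revert hl; decide
    have : Fact r.Prime := ⟨hr⟩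
    have S : Sylow r G := default
    have hSne : (S : Subgroup G) ≠ ⊥ := by
      intro hb
      have h1 := S.card_eq_multiplicity
      rw [hb, Subgroup.card_bot] at h1
      have h2 : 0 < (Nat.card G).factorization r :=
        hr.factorization_pos_of_dvd Nat.card_pos.ne' hrd
      have h3 : 1 < r ^ (Nat.card G).factorization r := Nat.one_lt_pow h2.ne' hr.one_lt
      omega
    exact sylow_not_le_commutator hr5 _ G rfl S (h r hr hrd S) hSne (hperf ▸ le_top)
  · obtain ⟨q, hq, hqd⟩ := Nat.exists_prime_and_dvd htriv
    refine ⟨q, hq, ?_⟩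
    have : Fact q.Prime := ⟨hq⟩
    have huniq : ∀ {d : ℕ}, d.Prime → d ∣ Nat.card G → d = q := by
      intro d hd hdd
      by_contra hne
      apply hperf
      obtain ⟨a, ha⟩ := hidx q hq hqd
      obtain ⟨b, hb⟩ := hidx d hd hdd
      have hcop : Nat.Coprime (q ^ a) (d ^ b) :=
        Nat.Coprime.pow a b ((Nat.coprime_primes hq hd).mpr (Ne.symm hne))
      have h1 : (commutator G).index = 1 := Nat.eq_one_of_dvd_coprimes hcop ha hb
      exact Subgroup.index_eq_one.mp h1
    have hcard := Nat.eq_prime_pow_of_unique_prime_dvd Nat.card_pos.ne' huniq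
    exact IsPGroup.of_card hcard

end selfnorm

end Cfsg.Agent.Lead.KInf
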