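import Mathlib
import Cfsg.Prelude.Def_LocalEven

/-!
A form of Clifford's theorem in the language of subgroups: a chief factor `U / V` of a finite
group is generated by minimal `H`-invariant subgroups over `V`, for every subnormal subgroup `H`.
As an application, quadratic action on the terms of an `H`-invariant series gives quadratic action
on the chief factor.
-/

set_option autoImplicit false

namespace Cfsg.Agent.Lead.KInf

open Cfsg Subgroup
open scoped commutatorElement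

section clifford

variable {X : Type*} [Group X]

/-- The conjugate `k N k⁻¹`. -/
def cj (k : X) (N : Subgroup X) : Subgroup X := N.map (MulAut.conj k).toMonoidHom

theorem mem_cj {k x : X} {N : Subgroup X} : x ∈ cj k N ↔ k⁻¹ * x * k ∈ N := by
  unfold cj
  rw [Subgroup.mem_map_equiv]
  simp [MulAut.conj_symm_apply]

theorem cj_mono (k : X) {N M : Subgroup X} (h : N ≤ M) : cj k N ≤ cj k M :=
  Subgroup.map_mono h

theorem cj_inv_cj (k : X) (N : Subgroup X) : cj k⁻¹ (cj k N) = N := by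
  ext x
  rw [mem_cj, mem_cj]
  have e : k⁻¹ * (k⁻¹⁻¹ * x * k⁻¹) * k = x := by group
  rw [e]

theorem cj_cj_inv (k : X) (N : Subgroup X) : cj k (cj k⁻¹ N) = N := by
  have := cj_inv_cj k⁻¹ N
  rwa [inv_inv] at this

theorem cj_eq_of_mem_normalizer {k : X} {N : Subgroup X} (hk : k ∈ normalizer (N : Set X)) :
    cj k N = N := by
  ext x
  rw [mem_cj]
  have h1 := (mem_normalizer_iff.mp (inv_mem hk)) x
  rw [inv_inv] at h1
  exact h1.symm

/-- `N` is an `H`-invariant subgroup between `V` and `U`. -/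
def InvSub (H U V N : Subgroup X) : Prop :=
  V ≤ N ∧ N ≤ U ∧ H ≤ normalizer (N : Set X)

/-- `N` is minimal among the `H`-invariant subgroups strictly above `V`. -/
def SimpSub (H U V N : Subgroup X) : Prop :=
  InvSub H U V N ∧ V < N ∧ ∀ M : Subgroup X, InvSub H U V M → M ≤ N → M = V ∨ M = N

theorem conj_mem_of_mem_normalizer {H : Subgroup X} {k h : X} (hk : k ∈ normalizer (H : Set X))
    (hh : h ∈ H) : k⁻¹ * h * k ∈ H := by
  have h1 := (mem_normalizer_iff.mp (inv_mem hk)) h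
  rw [inv_inv] at h1
  exact h1.mp hh

theorem InvSub.conj' {H U V N : Subgroup X} (h : InvSub H U V N) {k : X}
    (hkH : k ∈ normalizer (H : Set X)) (hkU : k ∈ normalizer (U : Set X))
    (hkV : k ∈ normalizer (V : Set X)) : InvSub H U V (cj k N) := by
  obtain ⟨h1, h2, h3⟩ := h
  refine ⟨?_, ?_, ?_⟩
  · have := cj_mono k h1
    rwa [cj_eq_of_mem_normalizer hkV] at this
  · have := cj_mono k h2
    rwa [cj_eq_of_mem_normalizer hkU] at this
  · intro y hy
    have hy' : k⁻¹ * y * k ∈ normalizer (N : Set X) := h3 (conj_mem_of_mem_normalizer hkH hy)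
    rw [mem_normalizer_iff]
    intro x
    rw [mem_cj, mem_cj]
    have e : k⁻¹ * (y * x * y⁻¹) * k = (k⁻¹ * y * k) * (k⁻¹ * x * k) * (k⁻¹ * y * k)⁻¹ := by group
    rw [e]
    exact (mem_normalizer_iff.mp hy') _

theorem SimpSub.conj' {H U V N : Subgroup X} (h : SimpSub H U V N) {k : X}
    (hkH : k ∈ normalizer (H : Set X)) (hkU : k ∈ normalizer (U : Set X))
    (hkV : k ∈ normalizer (V : Set X)) : SimpSub H U V (cj k N) := by
  obtain ⟨h1, h2, h3⟩ := h
  have hV : cj k V = V := cj_eq_of_mem_normalizer hkV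
  have hV' : cj k⁻¹ V = V := cj_eq_of_mem_normalizer (inv_mem hkV)
  refine ⟨h1.conj' hkH hkU hkV, ?_, ?_⟩
  · refine lt_of_le_of_ne (h1.conj' hkH hkU hkV).1 ?_
    intro heq
    have h4 : cj k⁻¹ (cj k N) = cj k⁻¹ V := by rw [← heq]
    rw [cj_inv_cj, hV'] at h4
    exact h2.ne h4.symm
  · intro M hM hMN
    have hM' : InvSub H U V (cj k⁻¹ M) :=
      hM.conj' (inv_mem hkH) (inv_mem hkU) (inv_mem hkV)
    have hle : cj k⁻¹ M ≤ N := by
      have := cj_mono k⁻¹ hMN
      rwa [cj_inv_cj] at this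
    rcases h3 _ hM' hle with h5 | h5
    · left
      have : cj k (cj k⁻¹ M) =
          cj k V := by rw [h5]
      rwa [cj_cj_inv, hV] at this
    · right
      have : cj k (cj k⁻¹ M) =
          cj k N := by rw [h5]
      rwa [cj_cj_inv] at this

theorem mem_normalizer_sSup {𝒮 : Set (Subgroup X)} {k : X}
    (h1 : ∀ N ∈ 𝒮, cj k N ∈ 𝒮) (h2 : ∀ N ∈ 𝒮, cj k⁻¹ N ∈ 𝒮) :
    k ∈ normalizer ((sSup 𝒮 : Subgroup X) : Set X) := by
  have key : ∀ y : X, (∀ N ∈ 𝒮, cj y N ∈ 𝒮) → cj y (sSup 𝒮) ≤ sSup 𝒮 := by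
    intro y hy
    unfold cj
    rw [Subgroup.map_le_iff_le_comap]
    apply sSup_le
    intro N hN
    rw [← Subgroup.map_le_iff_le_comap]
    exact le_sSup (hy N hN)
  rw [mem_normalizer_iff]
  intro x
  constructor
  · intro hx
    apply key k h1
    rw [mem_cj]
    have e : k⁻¹ * (k * x * k⁻¹) * k = x := by group
    rwa [e]
  · intro hx
    have := key k⁻¹ h2
    have h3 : x ∈ cj k⁻¹ (sSup 𝒮) := by
      rw [mem_cj, inv_inv]
      exact hx
    exact this h3

variable [Finite X]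

theorem exists_simpSub_le {H U V N : Subgroup X} (hN : InvSub H U V N) (hlt : V < N) :
    ∃ N' : Subgroup X, SimpSub H U V N' ∧ N' ≤ N := by
  obtain ⟨N', hle, hmin⟩ := Finite.exists_le_minimal
    (p := fun M : Subgroup X => InvSub H U V M ∧ V < M) (a := N) ⟨hN, hlt⟩
  refine ⟨N', ⟨hmin.prop.1, hmin.prop.2, ?_⟩, hle⟩
  intro M hM hMN
  by_cases hMV : M = V
  · exact Or.inl hMV
  · right
    have hVM : V < M := lt_of_le_of_ne hM.1 (Ne.symm hMV)
    exact le_antisymm hMN (hmin.le_of_le ⟨hM, hVM⟩ hMN)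

/-- Clifford's theorem for subnormal subgroups. -/
theorem le_sSup_simpSub {U V : Subgroup X} (hch : Cfsg.IsChiefFactor U V) {H : Subgroup X}
    (hH : H.IsSubnormal) : U ≤ sSup {N | SimpSub H U V N} := by
  obtain ⟨hlt, hUn, hVn, hmin⟩ := hch
  induction hH with
  | top =>
    apply le_sSup
    refine ⟨⟨hlt.le, le_rfl, ?_⟩, hlt, ?_⟩
    · rw [normalizer_eq_top]
    · intro M hM hMU
      have hMn : M.Normal := normalizer_eq_top_iff.mp (top_le_iff.mp hM.2.2)
      exact hmin M hMn hM.1 hMU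
  | step H K hHK _ hN ih =>
    refine ih.trans ?_
    apply sSup_le
    intro N hNs
    obtain ⟨hNi, hVN, hNmin⟩ := hNs
    have hKH : K ≤ normalizer (H : Set X) := (normal_subgroupOf_iff_le_normalizer hHK).mp hN
    -- the `H`-socle of `N`
    obtain ⟨𝒮, h𝒮⟩ : ∃ 𝒮 : Set (Subgroup X), 𝒮 = {N' | SimpSub H U V N' ∧ N' ≤ N} := ⟨_, rfl⟩
    have hNH : InvSub H U V N := ⟨hNi.1, hNi.2.1, hHK.trans hNi.2.2⟩
    obtain ⟨N₀, hN₀s, hN₀N⟩ := exists_simpSub_le hNH hVN
    have hN₀𝒮 : N₀ ∈ 𝒮 := by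
      rw [h𝒮]
      exact ⟨hN₀s, hN₀N⟩
    have hSle : sSup 𝒮 ≤ N := by
      apply sSup_le
      intro N' hN'
      rw [h𝒮] at hN'
      exact hN'.2
    have hconj : ∀ k ∈ K, ∀ N' ∈ 𝒮, cj k N' ∈ 𝒮 := by
      intro k hk N' hN'
      rw [h𝒮] at hN' ⊢
      have hkU : k ∈ normalizer (U : Set X) := by
        rw [normalizer_eq_top]
        exact mem_top k
      have hkV : k ∈ normalizer (V : Set X) := by
        rw [normalizer_eq_top]
        exact mem_top k
      refine ⟨hN'.1.conj' (hKH hk) hkU hkV, ?_⟩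
      have := cj_mono k hN'.2
      rwa [cj_eq_of_mem_normalizer (hNi.2.2 hk)] at this
    have hSinv : InvSub K U V (sSup 𝒮) := by
      refine ⟨hN₀s.1.1.trans (le_sSup hN₀𝒮), hSle.trans hNi.2.1, ?_⟩
      intro k hk
      exact mem_normalizer_sSup (hconj k hk) (hconj k⁻¹ (inv_mem hk))
    have hSN : sSup 𝒮 = N := by
      rcases hNmin _ hSinv hSle with h | h
      · exfalso
        have : N₀ ≤ V := h ▸ le_sSup hN₀𝒮
        exact (lt_of_lt_of_le hN₀s.2.1 this).false
      · exact h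
    rw [← hSN]
    apply sSup_le_sSup
    intro N' hN'
    rw [h𝒮] at hN'
    exact hN'.1

end clifford

end Cfsg.Agent.Lead.KInf
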