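import Mathlib
import Cfsg.Prelude.Def_LocalEven
import Cfsg.Agent.Lead.KInfP
import Cfsg.Agent.Lead.KInfM
import Cfsg.Agent.Helper1.CritChiefB

/-!
Quadratic action on a chief factor from quadratic action on the two terms of a series invariant
under a subnormal subgroup.
-/

set_option autoImplicit false

namespace Cfsg.Agent.Lead.KInf

open Cfsg Subgroup
open scoped commutatorElement

section quad

variable {X : Type*} [Group X]

/-- The elements of `U` centralized by `B` modulo `V`. -/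
def centMod (U V B : Subgroup X) [hV : V.Normal] : Subgroup X where
  carrier := {x | x ∈ U ∧ ∀ b ∈ B, ⁅x, b⁆ ∈ V}
  one_mem' := ⟨U.one_mem, fun b _ => by rw [commutatorElement_one_left]; exact V.one_mem⟩
  mul_mem' := by
    rintro x y ⟨hx, hx'⟩ ⟨hy, hy'⟩
    refine ⟨U.mul_mem hx hy, fun b hb => ?_⟩
    have e : ⁅x * y, b⁆ = x * ⁅y, b⁆ * x⁻¹ * ⁅x, b⁆ := by
      simp only [commutatorElement_def]; group
    rw [e]
    exact V.mul_mem (hV.conj_mem _ (hy' b hb) x) (hx' b hb)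
  inv_mem' := by
    rintro x ⟨hx, hx'⟩
    refine ⟨U.inv_mem hx, fun b hb => ?_⟩
    have e : ⁅x⁻¹, b⁆ = x⁻¹ * (⁅x, b⁆)⁻¹ * x⁻¹⁻¹ := by
      simp only [commutatorElement_def]; group
    rw [e]
    exact hV.conj_mem _ (V.inv_mem (hx' b hb)) x⁻¹

theorem mem_centMod {U V B : Subgroup X} [hV : V.Normal] {x : X} :
    x ∈ centMod U V B ↔ x ∈ U ∧ ∀ b ∈ B, ⁅x, b⁆ ∈ V := Iff.rfl

theorem le_centMod_self {U V B : Subgroup X} [hV : V.Normal] (hVU : V ≤ U) :
    V ≤ centMod U V B := by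
  intro v hv
  refine ⟨hVU hv, fun b _ => ?_⟩
  have e : ⁅v, b⁆ = v * (b * v⁻¹ * b⁻¹) := by
    simp only [commutatorElement_def]; group
  rw [e]
  exact V.mul_mem hv (hV.conj_mem _ (V.inv_mem hv) b)

/-- `U / V` abelian: `centMod U V B` is normalized by `U`. -/
theorem conj_mem_centMod {U V B : Subgroup X} [hV : V.Normal] (hVU : V ≤ U)
    (hab : ∀ u ∈ U, ∀ u' ∈ U, ⁅u, u'⁆ ∈ V) {x u : X} (hx : x ∈ centMod U V B) (hu : u ∈ U) :
    u * x * u⁻¹ ∈ centMod U V B := by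
  have e : u * x * u⁻¹ = x * ⁅x⁻¹, u⁆ := by
    simp only [commutatorElement_def]; group
  rw [e]
  exact (centMod U V B).mul_mem hx (le_centMod_self hVU (hab _ (U.inv_mem hx.1) _ hu))

/-- The elements of `U` on which `B` acts quadratically modulo `V`. -/
def quadMod (U V B : Subgroup X) [hV : V.Normal] (hVU : V ≤ U)
    (hab : ∀ u ∈ U, ∀ u' ∈ U, ⁅u, u'⁆ ∈ V) : Subgroup X where
  carrier := {x | x ∈ U ∧ ∀ b ∈ B, ⁅x, b⁆ ∈ centMod U V B}
  one_mem' := ⟨U.one_mem, fun b _ => by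
    rw [commutatorElement_one_left]; exact (centMod U V B).one_mem⟩
  mul_mem' := by
    rintro x y ⟨hx, hx'⟩ ⟨hy, hy'⟩
    refine ⟨U.mul_mem hx hy, fun b hb => ?_⟩
    have e : ⁅x * y, b⁆ = x * ⁅y, b⁆ * x⁻¹ * ⁅x, b⁆ := by
      simp only [commutatorElement_def]; group
    rw [e]
    exact (centMod U V B).mul_mem (conj_mem_centMod hVU hab (hy' b hb) hx) (hx' b hb)
  inv_mem' := by
    rintro x ⟨hx, hx'⟩
    refine ⟨U.inv_mem hx, fun b hb => ?_⟩
    have e : ⁅x⁻¹, b⁆ = x⁻¹ * (⁅x, b⁆)⁻¹ * x⁻¹⁻¹ := by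
      simp only [commutatorElement_def]; group
    rw [e]
    exact conj_mem_centMod hVU hab ((centMod U V B).inv_mem (hx' b hb)) (U.inv_mem hx)

/-- Quadratic action on a family of subgroups generating `U` gives quadratic action on `U`
(modulo `V`, with `U / V` abelian). -/
theorem quad_of_le_sSup {U V B : Subgroup X} [hV : V.Normal] (hVU : V ≤ U)
    (hab : ∀ u ∈ U, ∀ u' ∈ U, ⁅u, u'⁆ ∈ V) (hBU : B ≤ normalizer (U : Set X))
    (𝒮 : Set (Subgroup X)) (hU : U ≤ sSup 𝒮)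
    (h𝒮 : ∀ N ∈ 𝒮, N ≤ U ∧ ⁅⁅N, B⁆, B⁆ ≤ V) : ⁅⁅U, B⁆, B⁆ ≤ V := by
  have hcomm : ∀ u ∈ U, ∀ b ∈ B, ⁅u, b⁆ ∈ U := by
    intro u hu b hb
    have e : ⁅u, b⁆ = u * (b * u⁻¹ * b⁻¹) := by
      simp only [commutatorElement_def]; group
    rw [e]
    exact U.mul_mem hu ((mem_normalizer_iff.mp (hBU hb) _).mp (U.inv_mem hu))
  have h1 : sSup 𝒮 ≤ quadMod U V B hVU hab := by
    apply sSup_le
    intro N hN n hn
    obtain ⟨hNU, hNq⟩ := h𝒮 N hN
    refine ⟨hNU hn, fun b hb => ⟨hcomm n (hNU hn) b hb, fun b' hb' => ?_⟩⟩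
    exact hNq (commutator_mem_commutator (commutator_mem_commutator hn hb) hb')
  have h2 : ⁅U, B⁆ ≤ centMod U V B := by
    rw [commutator_le]
    intro u hu b hb
    exact (h1 (hU hu)).2 b hb
  have h3 : ⁅centMod U V B, B⁆ ≤ V := by
    rw [commutator_le]
    intro x hx b hb
    exact hx.2 b hb
  exact (commutator_mono h2 le_rfl).trans h3

theorem mem_normalizer_inf {A B : Subgroup X} {g : X} (hA : g ∈ normalizer (A : Set X))
    (hB : g ∈ normalizer (B : Set X)) : g ∈ normalizer ((A ⊓ B : Subgroup X) : Set X) := by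
  rw [mem_normalizer_iff]
  intro x
  rw [mem_inf, mem_inf, ← mem_normalizer_iff.mp hA x, ← mem_normalizer_iff.mp hB x]

theorem commutator_le_of_le_normalizer {N B : Subgroup X} (h : B ≤ normalizer (N : Set X)) :
    ⁅N, B⁆ ≤ N := by
  rw [commutator_le]
  intro n hn b hb
  have e : ⁅n, b⁆ = n * (b * n⁻¹ * b⁻¹) := by
    simp only [commutatorElement_def]; group
  rw [e]
  exact N.mul_mem hn ((mem_normalizer_iff.mp (h hb) _).mp (N.inv_mem hn))

variable [Finite X]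

/-- If `B` acts quadratically on `X₃` and on `A / X₃`, where `X₃` is normalized by a subnormal
subgroup `G₃ ≥ B`, then `B` acts quadratically on every abelian chief factor inside `A`. -/
theorem quad_chief_of_subnormal {U V : Subgroup X} (hch : Cfsg.IsChiefFactor U V)
    (hab : ∀ u ∈ U, ∀ u' ∈ U, ⁅u, u'⁆ ∈ V) (G₃ X₃ B A : Subgroup X) (hsub : G₃.IsSubnormal)
    (hBG : B ≤ G₃) (hN : G₃ ≤ normalizer (X₃ : Set X)) (hUA : U ≤ A)
    (hq1 : ⁅⁅X₃, B⁆, B⁆ = ⊥) (hq2 : ⁅⁅A, B⁆, B⁆ ≤ X₃) : ⁅⁅U, B⁆, B⁆ ≤ V := by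
  have hcl := le_sSup_simpSub hch hsub
  obtain ⟨hlt, hUn, hVn, hmin⟩ := hch
  have hBU : B ≤ normalizer (U : Set X) := by
    rw [normalizer_eq_top]
    exact le_top
  apply quad_of_le_sSup hlt.le hab hBU _ hcl
  intro N hNs
  obtain ⟨hNi, hVN, hNmin⟩ := hNs
  refine ⟨hNi.2.1, ?_⟩
  have hBN : B ≤ normalizer (N : Set X) := hBG.trans hNi.2.2
  have hMi : InvSub G₃ U V (V ⊔ (N ⊓ X₃)) := by
    refine ⟨le_sup_left, sup_le hlt.le (inf_le_left.trans hNi.2.1), ?_⟩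
    intro y hy
    apply mem_normalizer_sup
    · rw [normalizer_eq_top]
      exact mem_top y
    · exact mem_normalizer_inf (hNi.2.2 hy) (hN hy)
  have hMN : V ⊔ (N ⊓ X₃) ≤ N := sup_le hNi.1 inf_le_left
  rcases hNmin _ hMi hMN with h | h
  · -- `N ⊓ X₃ ≤ V`
    have h1 : N ⊓ X₃ ≤ V := h ▸ le_sup_right
    refine le_trans (le_inf ?_ ?_) h1
    · exact (commutator_mono (commutator_le_of_le_normalizer hBN) le_rfl).trans
        (commutator_le_of_le_normalizer hBN)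
    · exact (commutator_mono (commutator_mono (hNi.2.1.trans hUA) le_rfl) le_rfl).trans hq2
  · -- `N = V ⊔ (N ⊓ X₃)`
    have h1 : ⁅⁅N, B⁆, B⁆ = ⁅⁅V ⊔ (N ⊓ X₃), B⁆, B⁆ := by rw [h]
    rw [h1]
    have h2 := Cfsg.Agent.Helper1.CritChief.iterCommutator_sup_le V (N ⊓ X₃) B 2
    refine le_trans h2 (sup_le le_rfl ?_)
    have h3 : Cfsg.iterCommutator (N ⊓ X₃) B 2 ≤ ⁅⁅X₃, B⁆, B⁆ :=
      commutator_mono (commutator_mono inf_le_right le_rfl) le_rfl
    rw [hq1] at h3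
    exact h3.trans bot_le

end quad

end Cfsg.Agent.Lead.KInf
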