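import Mathlib
import Cfsg.Prelude.Def_ConjugacyFunctors
import Cfsg.Prelude.Def_LocalEven
import Cfsg.Agent.Lead.KInfJ
import Cfsg.Agent.Lead.KInfQ
import Cfsg.Agent.Helper1.QAc
import Cfsg.Agent.Helper1.QAe
import Cfsg.Agent.Helper1.CritChiefB

/-!
Chief factors moved by a subgroup not contained in `O_p`, and the structure attached to a member
of a lower-star family (without any stability hypothesis).
-/

set_option autoImplicit false

universe u

namespace Cfsg.Agent.Lead.KInf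

open Cfsg Subgroup
open scoped commutatorElement

section moved

variable {X : Type*} [Group X] [Finite X] {p : ℕ} [hp : Fact p.Prime]

/-- If `B` centralizes all chief factors below the normal `p`-subgroup `P`, the `p'`-elements of
the normal closure of `B` centralize `P`. -/
theorem coprime_centralizes_of_chief (P : Subgroup X) [hPn : P.Normal] (hP : IsPGroup p P)
    (B : Subgroup X)
    (hno : ∀ U V : Subgroup X, Cfsg.IsChiefFactor U V → U ≤ P → ⁅U, B⁆ ≤ V) :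
    ∀ y ∈ normalClosure (B : Set X), (orderOf y).Coprime p → y ∈ centralizer (P : Set X) := by
  intro y hy hcop
  have hsec : ∀ U V : Subgroup X, Cfsg.IsChiefFactor U V → U ≤ P → ∀ u ∈ U, ⁅y, u⁆ ∈ V := by
    intro U V hch hUP
    have hUn : U.Normal := hch.2.1
    have hVn : V.Normal := hch.2.2.1
    have hcn : (Cfsg.Agent.Helper1.QA.centSec U V).Normal :=
      Cfsg.Agent.Helper1.QA.centSec_normal U V
    have h1 : normalClosure (B : Set X) ≤ Cfsg.Agent.Helper1.QA.centSec U V := by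
      apply normalClosure_le_normal
      intro b hb
      rw [SetLike.mem_coe, Cfsg.Agent.Helper1.QA.mem_centSec]
      intro u hu
      have h2 : ⁅u, b⁆ ∈ V := hno U V hch hUP (commutator_mem_commutator hu hb)
      have h3 : ⁅b, u⁆ = (⁅u, b⁆)⁻¹ := (commutatorElement_inv u b).symm
      rw [h3]
      exact V.inv_mem h2
    exact (Cfsg.Agent.Helper1.QA.mem_centSec U V y).mp (h1 hy)
  have key : ∀ N : Subgroup X, N.Normal → N ≤ P → y ∈ centralizer (N : Set X) := by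
    intro N
    induction N using WellFoundedLT.induction with
    | ind N ih =>
      intro hNn hNP
      by_cases hN : N = ⊥
      · rw [hN, mem_centralizer_iff]
        intro a ha
        have : a = 1 := by simpa using ha
        rw [this, one_mul, mul_one]
      obtain ⟨R₀, hch⟩ := Cfsg.Agent.Helper1.FT.exists_isChiefFactor_below hNn hN
      have hR₀ : y ∈ centralizer (R₀ : Set X) := ih R₀ hch.1 hch.2.2.1 (hch.1.le.trans hNP)
      apply centralizes_of_chain R₀ N (hP.to_le (hch.1.le.trans hNP)) y hcop hR₀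
      intro a ha
      have := hsec N R₀ hch hNP a ha
      rwa [commutatorElement_def] at this
  exact key P hPn le_rfl

/-- A subgroup not contained in `O_p` moves some chief factor inside `A`. -/
theorem exists_chief_moved (A : Subgroup X) [hAn : A.Normal] (hA : IsPGroup p A)
    (hcrit : ∀ y : X, (orderOf y).Coprime p → y ∈ centralizer (A : Set X) → y = 1)
    (B : Subgroup X) (hB : ¬ B ≤ Cfsg.pCore p X) :
    ∃ U V : Subgroup X, Cfsg.IsChiefFactor U V ∧ U ≤ A ∧ ¬ ⁅U, B⁆ ≤ V := by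
  by_contra hcon
  push Not at hcon
  apply hB
  have h1 := coprime_centralizes_of_chief A hA B hcon
  have hDp : IsPGroup p ↥(normalClosure (B : Set X)) := by
    apply isPGroup_of_coprime_trivial
    intro y hy hcop
    exact hcrit y hcop (h1 y hy hcop)
  exact le_normalClosure.trans (Cfsg.Agent.Helper1.le_pCore normalClosure_normal hDp)

omit [Finite X] in
theorem exists_mem_moved {U V B : Subgroup X} (h : ¬ ⁅U, B⁆ ≤ V) :
    ∃ g ∈ B, ¬ ⁅U, zpowers g⁆ ≤ V := by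
  by_contra hcon
  push Not at hcon
  apply h
  rw [commutator_le]
  intro u hu b hb
  exact hcon b hb (commutator_mem_commutator hu (mem_zpowers b))

/-- An element moving a chief factor inside `O_p` lies outside `O_p`. -/
theorem not_mem_pCore_of_moved {U V : Subgroup X} (hch : Cfsg.IsChiefFactor U V)
    (hU : U ≤ Cfsg.pCore p X) {g : X} (hg : ¬ ⁅U, zpowers g⁆ ≤ V) : g ∉ Cfsg.pCore p X := by
  intro hgQ
  apply hg
  have hVn : V.Normal := hch.2.2.1
  have h1 := Cfsg.Agent.Helper1.QA.comm_mem_of_isChiefFactor_of_le hch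
    (Cfsg.Agent.Helper1.pCore_isPGroup p) hU
  rw [commutator_le]
  intro u hu b hb
  have hbQ : b ∈ Cfsg.pCore p X := (zpowers_le.mpr hgQ) hb
  have h2 := h1 b hbQ u hu
  have h3 : ⁅u, b⁆ = (⁅b, u⁆)⁻¹ := (commutatorElement_inv b u).symm
  rw [h3]
  exact V.inv_mem h2

omit [Finite X] in
/-- Quadratic action on `Z(A)` and on `A / Z(A)` gives quadratic action on chief factors in
`A`. -/
theorem quad_chief_of_two_step (A : Subgroup X) [hAn : A.Normal] {U V : Subgroup X}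
    (hch : Cfsg.IsChiefFactor U V) (hUA : U ≤ A) (B₁ : Subgroup X)
    (h1 : ⁅⁅A ⊓ centralizer (A : Set X), B₁⁆, B₁⁆ = ⊥)
    (h2 : ⁅⁅A, B₁⁆, B₁⁆ ≤ A ⊓ centralizer (A : Set X)) : ⁅⁅U, B₁⁆, B₁⁆ ≤ V := by
  have hUn : U.Normal := hch.2.1
  have hVn : V.Normal := hch.2.2.1
  have hNn : (A ⊓ centralizer (A : Set X)).Normal := zcent_normal A
  rcases Cfsg.Agent.Helper1.CritChief.chief_dichotomy (N := A ⊓ centralizer (A : Set X)) hch
    with hd | hd
  · have e : ⁅⁅U, B₁⁆, B₁⁆ = ⁅⁅V ⊔ (U ⊓ (A ⊓ centralizer (A : Set X))), B₁⁆, B₁⁆ := by rw [hd]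
    rw [e]
    have h3 := Cfsg.Agent.Helper1.CritChief.iterCommutator_sup_le V
      (U ⊓ (A ⊓ centralizer (A : Set X))) B₁ 2
    refine le_trans h3 (sup_le le_rfl ?_)
    have h5 : Cfsg.iterCommutator (U ⊓ (A ⊓ centralizer (A : Set X))) B₁ 2 ≤
        ⁅⁅A ⊓ centralizer (A : Set X), B₁⁆, B₁⁆ :=
      commutator_mono (commutator_mono inf_le_right le_rfl) le_rfl
    rw [h1] at h5
    exact h5.trans bot_le
  · refine le_trans (le_inf ?_ ?_) hd
    · exact (commutator_mono (commutator_le_left U _) le_rfl).trans (commutator_le_left U _)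
    · exact (commutator_mono (commutator_mono hUA le_rfl) le_rfl).trans h2

end moved

section lower

variable {X : Type u} [Group X] [Finite X] {p : ℕ} [hp : Fact p.Prime]

omit [Finite X] in
/-- The structure attached to a member `B` of a lower-star family relative to a subgroup
containing `A`, when `Z(B)` lies in a subgroup `Q` with `[Q, A] ≤ Z(A)`. -/
theorem lower_structure (A : Subgroup X) [hAn : A.Normal]
    (hA2 : ⁅A, A⁆ ≤ centralizer (A : Set X)) (Q : Subgroup X)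
    (hQA : ⁅Q, A⁆ ≤ A ⊓ centralizer (A : Set X))
    (B R : Subgroup X) (hAR : A ≤ R) (hB : B ∈ Cfsg.kLowerStarFamily R)
    (hZBQ : B ⊓ centralizer (B : Set X) ≤ Q) :
    ∃ X₃ : Subgroup X,
      centralizer ((⁅A, A⁆ : Subgroup X) : Set X) ⊔ B ≤ normalizer (X₃ : Set X) ∧
      ⁅⁅X₃, B⁆, B⁆ = ⊥ ∧ ⁅⁅A, B⁆, B⁆ ≤ X₃ := by
  obtain ⟨hB2, hRB, hBu⟩ := hB
  have hAB : ⁅A, B⁆ ≤ B := le_normalizer_iff_commutator_le_right.mp (hAR.trans hRB)
  have hABA : ⁅A, B⁆ ≤ A := commutator_le_left A B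
  have hU₂ : ⁅⁅A, B⁆, B⁆ ≤ B ⊓ centralizer (B : Set X) := by
    have h1 : ⁅⁅A, B⁆, B⁆ ≤ ⁅B, B⁆ := commutator_mono hAB le_rfl
    exact h1.trans (le_inf (commutator_le_self B) hB2)
  have hU₂A : ⁅⁅A, B⁆, B⁆ ≤ A := (commutator_mono hABA le_rfl).trans hABA
  have hF1 : ⁅⁅A, B⁆, B⁆ ≤ centralizer ((⁅A, B⁆ : Subgroup X) : Set X) := by
    rw [← commutator_eq_bot_iff_le_centralizer]
    apply le_bot_iff.mp
    calc ⁅⁅⁅A, B⁆, B⁆, ⁅A, B⁆⁆ ≤ ⁅B ⊓ centralizer (B : Set X), B⁆ := commutator_mono hU₂ hAB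
      _ = ⊥ := comm_inf_cent_self B
  have hstep3 : ⁅⁅⁅A, B⁆, B⁆, A⁆ ≤ ⁅A, A⁆ ⊓ centralizer (B : Set X) := by
    refine le_inf (commutator_mono hU₂A le_rfl) ?_
    rw [commutator_le]
    intro u hu a ha
    rw [mem_centralizer_iff]
    intro d hd
    have hud : d * u = u * d := (mem_centralizer_iff.mp (hU₂ hu).2) d hd
    have hc : ⁅a⁻¹, d⁆ ∈ ⁅A, B⁆ := commutator_mem_commutator (A.inv_mem ha) hd
    have huc : ⁅a⁻¹, d⁆ * u = u * ⁅a⁻¹, d⁆ := (mem_centralizer_iff.mp (hF1 hu)) _ hc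
    have e1 : d * u * d⁻¹ = u := by rw [hud]; group
    have e2 : d * a * d⁻¹ = a * ⁅a⁻¹, d⁆ := by
      simp only [commutatorElement_def]; group
    have e3 : ⁅a⁻¹, d⁆ * u⁻¹ = u⁻¹ * ⁅a⁻¹, d⁆ := by
      have : u⁻¹ * (⁅a⁻¹, d⁆ * u) * u⁻¹ = u⁻¹ * (u * ⁅a⁻¹, d⁆) * u⁻¹ := by rw [huc]
      have h1 : u⁻¹ * (⁅a⁻¹, d⁆ * u) * u⁻¹ = u⁻¹ * ⁅a⁻¹, d⁆ := by group
      have h2 : u⁻¹ * (u * ⁅a⁻¹, d⁆) * u⁻¹ = ⁅a⁻¹, d⁆ * u⁻¹ := by group
      rw [h1, h2] at this
      exact this.symm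
    have e4 : d * ⁅u, a⁆ * d⁻¹ = ⁅u, a⁆ := by
      calc d * ⁅u, a⁆ * d⁻¹ = (d * u * d⁻¹) * (d * a * d⁻¹) * (d * u * d⁻¹)⁻¹ * (d * a * d⁻¹)⁻¹ := by
            simp only [commutatorElement_def]; group
        _ = u * (a * ⁅a⁻¹, d⁆) * u⁻¹ * (a * ⁅a⁻¹, d⁆)⁻¹ := by rw [e1, e2]
        _ = u * a * (⁅a⁻¹, d⁆ * u⁻¹) * (⁅a⁻¹, d⁆)⁻¹ * a⁻¹ := by group
        _ = u * a * (u⁻¹ * ⁅a⁻¹, d⁆) * (⁅a⁻¹, d⁆)⁻¹ * a⁻¹ := by rw [e3]
        _ = ⁅u, a⁆ := by simp only [commutatorElement_def]; group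
    calc d * ⁅u, a⁆ = (d * ⁅u, a⁆ * d⁻¹) * d := by group
      _ = ⁅u, a⁆ * d := by rw [e4]
  obtain ⟨F₃, hF₃⟩ : ∃ F₃ : Subgroup X, F₃ = ⁅A, A⁆ ⊓ centralizer (B : Set X) := ⟨_, rfl⟩
  rw [← hF₃] at hstep3
  obtain ⟨X₃, hX₃⟩ : ∃ X₃ : Subgroup X, X₃ = comRad A F₃ hA2 := ⟨_, rfl⟩
  have hX₃A : X₃ ≤ A := hX₃ ▸ comRad_le A F₃ hA2
  have hU₂X₃ : ⁅⁅A, B⁆, B⁆ ≤ X₃ := by
    intro u hu
    rw [hX₃]
    exact ⟨hU₂A hu, fun a ha => hstep3 (commutator_mem_commutator hu ha)⟩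
  have hX₃F : ⁅X₃, A⁆ ≤ F₃ := hX₃ ▸ commutator_comRad_le A F₃ hA2
  have hF₃B : B ≤ centralizer (F₃ : Set X) := by
    rw [← commutator_eq_bot_iff_le_centralizer, commutator_comm,
      commutator_eq_bot_iff_le_centralizer, hF₃]
    exact inf_le_right
  have hF₃C : centralizer ((⁅A, A⁆ : Subgroup X) : Set X) ≤ centralizer (F₃ : Set X) := by
    rw [hF₃]
    exact centralizer_le inf_le_left
  have hNX₃ : centralizer (F₃ : Set X) ≤ normalizer ((X₃ : Subgroup X) : Set X) :=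
    hX₃ ▸ centralizer_le_normalizer_comRad A F₃ hA2
  have hX₃2 : X₃ ∈ Cfsg.classTwoSubgroups X := by
    show ⁅X₃, X₃⁆ ≤ centralizer (X₃ : Set X)
    exact ((commutator_mono hX₃A hX₃A).trans hA2).trans (centralizer_le hX₃A)
  have hquad : ⁅⁅X₃, B⁆, B⁆ = ⊥ := by
    have h1 : ⁅B, X₃⁆ ≤ B ⊓ centralizer (B : Set X) := by
      apply hBu X₃ hX₃2 (hX₃A.trans hAR) (hF₃B.trans hNX₃)
      · rw [commutator_eq_bot_iff_le_centralizer]
        have h2 : ⁅X₃, X₃⁆ ≤ F₃ := (commutator_mono le_rfl hX₃A).trans hX₃F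
        rw [← commutator_eq_bot_iff_le_centralizer, commutator_comm,
          commutator_eq_bot_iff_le_centralizer]
        exact h2.trans (hF₃ ▸ inf_le_right)
      · apply le_bot_iff.mp
        have h3 : ⁅B ⊓ centralizer (B : Set X), X₃⁆ ≤ A ⊓ centralizer (A : Set X) :=
          (commutator_mono hZBQ hX₃A).trans hQA
        calc ⁅⁅B ⊓ centralizer (B : Set X), X₃⁆, X₃⁆ ≤ ⁅A ⊓ centralizer (A : Set X), A⁆ :=
              commutator_mono h3 hX₃A
          _ = ⊥ := comm_inf_cent_self A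
    apply le_bot_iff.mp
    calc ⁅⁅X₃, B⁆, B⁆ = ⁅⁅B, X₃⁆, B⁆ := by rw [commutator_comm X₃ B]
      _ ≤ ⁅B ⊓ centralizer (B : Set X), B⁆ := commutator_mono h1 le_rfl
      _ = ⊥ := comm_inf_cent_self B
  exact ⟨X₃, sup_le (hF₃C.trans hNX₃) (hF₃B.trans hNX₃), hquad, hU₂X₃⟩

/-- `C ⊔ B` is subnormal when `B` lies in a normal subgroup whose `p'`-elements lie in the normal
subgroup `C`. -/
theorem isSubnormal_sup_of_coprime (C D B : Subgroup X) [hCn : C.Normal] [hDn : D.Normal]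
    (hBD : B ≤ D) (hDc : ∀ d ∈ D, (orderOf d).Coprime p → d ∈ C) : (C ⊔ B).IsSubnormal := by
  have hEn : (D ⊔ C).Normal := inferInstance
  have hGE : C ⊔ B ≤ D ⊔ C := sup_le le_sup_right (hBD.trans le_sup_left)
  have hq : ∀ e ∈ D ⊔ C, ∃ k : ℕ, e ^ (p ^ k) ∈ C := by
    intro e he
    obtain ⟨d, hd, c, hc, rfl⟩ := mem_sup_of_normal_right.mp he
    obtain ⟨k, hk⟩ := exists_pow_coprime_order p d
    refine ⟨k, ?_⟩
    have h1 : d ^ (p ^ k) ∈ C := hDc _ (D.pow_mem hd _) hk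
    have h2 : ∀ n : ℕ, (d * c) ^ n * (d ^ n)⁻¹ ∈ C := by
      intro n
      induction n with
      | zero => simp [C.one_mem]
      | succ n ih =>
        have e : (d * c) ^ (n + 1) * (d ^ (n + 1))⁻¹ =
            ((d * c) ^ n * (d ^ n)⁻¹) * (d ^ n * (d * c * d⁻¹) * (d ^ n)⁻¹) := by
          rw [pow_succ, pow_succ]; group
        rw [e]
        exact C.mul_mem ih (hCn.conj_mem _ (hCn.conj_mem c hc d) _)
    have := C.mul_mem (h2 (p ^ k)) h1
    simpa using this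
  exact isSubnormal_of_pgroup_quotient (D ⊔ C) C (C ⊔ B) le_sup_left hGE hq

end lower

end Cfsg.Agent.Lead.KInf
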