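import Mathlib
import Cfsg.Prelude.Def_ConjugacyFunctors
import Cfsg.Prelude.Def_LocalEven
import Cfsg.Agent.Lead.KInfK
import Cfsg.Agent.Lead.KInfR

/-!
If a K-infinity subgroup of a Sylow `p`-subgroup `T` of `X` is not normal in `X`, and `A` is a
normal subgroup of class at most two inside `O_p(X)` with `[O_p(X), A] ≤ Z(A)` whose centralizer
has no nontrivial `p'`-elements, then some element of `T` outside `O_p(X)` acts quadratically and
nontrivially on a chief factor of `X` inside `A` (and nearly quadratically on `A`).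
-/

set_option autoImplicit false

universe u

namespace Cfsg.Agent.Lead.KInf

open Cfsg Subgroup
open scoped commutatorElement

section pieces

variable {X : Type u} [Group X] [Finite X] {p : ℕ} [hp : Fact p.Prime]

theorem two_step_chief (A : Subgroup X) [hAn : A.Normal] (hAQ : A ≤ Cfsg.pCore p X)
    (hcrit : ∀ y : X, (orderOf y).Coprime p → y ∈ centralizer (A : Set X) → y = 1)
    (B₁ : Subgroup X) (h1 : ⁅⁅A ⊓ centralizer (A : Set X), B₁⁆, B₁⁆ = ⊥)
    (h2 : ⁅⁅A, B₁⁆, B₁⁆ ≤ A ⊓ centralizer (A : Set X)) (hB₁ : ¬ B₁ ≤ Cfsg.pCore p X) :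
    ∃ g ∈ B₁, g ∉ Cfsg.pCore p X ∧ ∃ U V : Subgroup X, Cfsg.IsChiefFactor U V ∧ U ≤ A ∧
      ⁅⁅U, zpowers g⁆, zpowers g⁆ ≤ V ∧ ¬ ⁅U, zpowers g⁆ ≤ V := by
  have hA : IsPGroup p A := (Cfsg.Agent.Helper1.pCore_isPGroup p).to_le hAQ
  obtain ⟨U, V, hch, hUA, hmv⟩ := exists_chief_moved A hA hcrit B₁ hB₁
  obtain ⟨g, hg, hgmv⟩ := exists_mem_moved hmv
  have hgB : zpowers g ≤ B₁ := zpowers_le.mpr hg
  refine ⟨g, hg, not_mem_pCore_of_moved hch (hUA.trans hAQ) hgmv, U, V, hch, hUA, ?_, hgmv⟩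
  exact (commutator_mono (commutator_mono le_rfl hgB) hgB).trans
    (quad_chief_of_two_step A hch hUA B₁ h1 h2)

theorem lower_chief (A : Subgroup X) [hAn : A.Normal] (hAQ : A ≤ Cfsg.pCore p X)
    (hA2 : ⁅A, A⁆ ≤ centralizer (A : Set X))
    (hQA : ⁅Cfsg.pCore p X, A⁆ ≤ A ⊓ centralizer (A : Set X))
    (hcrit : ∀ y : X, (orderOf y).Coprime p → y ∈ centralizer (A : Set X) → y = 1)
    (B R : Subgroup X) (hAR : A ≤ R) (hB : B ∈ Cfsg.kLowerStarFamily R)
    (hBQ : ¬ B ≤ Cfsg.pCore p X) :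
    ∃ g ∈ B, g ∉ Cfsg.pCore p X ∧ ∃ U V : Subgroup X, Cfsg.IsChiefFactor U V ∧ U ≤ A ∧
      ⁅⁅U, zpowers g⁆, zpowers g⁆ ≤ V ∧ ¬ ⁅U, zpowers g⁆ ≤ V := by
  have hA : IsPGroup p A := (Cfsg.Agent.Helper1.pCore_isPGroup p).to_le hAQ
  have hRB : R ≤ normalizer (B : Set X) := hB.2.1
  have hAB : ⁅A, B⁆ ≤ B := le_normalizer_iff_commutator_le_right.mp (hAR.trans hRB)
  by_cases hZB : B ⊓ centralizer (B : Set X) ≤ Cfsg.pCore p X
  · by_cases hA' : ∃ U V : Subgroup X, Cfsg.IsChiefFactor U V ∧ U ≤ ⁅A, A⁆ ∧ ¬ ⁅U, B⁆ ≤ V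
    · obtain ⟨U, V, hch, hUA', hmv⟩ := hA'
      obtain ⟨g, hg, hgmv⟩ := exists_mem_moved hmv
      have hUA : U ≤ A := hUA'.trans (commutator_le_self A)
      have hUZ : U ≤ A ⊓ centralizer (A : Set X) := le_inf hUA (hUA'.trans hA2)
      obtain ⟨h1, -⟩ := even_step A R B hAR hB hg
      refine ⟨g, hg, not_mem_pCore_of_moved hch (hUA.trans hAQ) hgmv, U, V, hch, hUA, ?_, hgmv⟩
      have h2 : ⁅⁅U, zpowers g⁆, zpowers g⁆ ≤
          ⁅⁅A ⊓ centralizer (A : Set X), zpowers g⁆, zpowers g⁆ :=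
        commutator_mono (commutator_mono hUZ le_rfl) le_rfl
      rw [h1] at h2
      exact h2.trans bot_le
    · push Not at hA'
      have hA'n : (⁅A, A⁆ : Subgroup X).Normal := inferInstance
      have hA'p : IsPGroup p ↥(⁅A, A⁆ : Subgroup X) := hA.to_le (commutator_le_self A)
      have hDc := coprime_centralizes_of_chief (⁅A, A⁆ : Subgroup X) hA'p B hA'
      have hCn : (centralizer ((⁅A, A⁆ : Subgroup X) : Set X)).Normal := inferInstance
      have hsub : (centralizer ((⁅A, A⁆ : Subgroup X) : Set X) ⊔ B).IsSubnormal :=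
        isSubnormal_sup_of_coprime (p := p) (centralizer ((⁅A, A⁆ : Subgroup X) : Set X))
          (normalClosure (B : Set X)) B le_normalClosure hDc
      obtain ⟨X₃, hN, hq1, hq2⟩ := lower_structure A hA2 (Cfsg.pCore p X) hQA B R hAR hB hZB
      obtain ⟨U, V, hch, hUA, hmv⟩ := exists_chief_moved A hA hcrit B hBQ
      obtain ⟨g, hg, hgmv⟩ := exists_mem_moved hmv
      have hgB : zpowers g ≤ B := zpowers_le.mpr hg
      have hab := Cfsg.Agent.Helper1.QA.comm_mem_of_isChiefFactor hch (hA.to_le hUA)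
      have hq := quad_chief_of_subnormal hch hab _ X₃ B A hsub le_sup_right hN hUA hq1 hq2
      refine ⟨g, hg, not_mem_pCore_of_moved hch (hUA.trans hAQ) hgmv, U, V, hch, hUA, ?_, hgmv⟩
      exact (commutator_mono (commutator_mono le_rfl hgB) hgB).trans hq
  · have hq : ⁅⁅A, B ⊓ centralizer (B : Set X)⁆, B ⊓ centralizer (B : Set X)⁆ = ⊥ := by
      apply le_bot_iff.mp
      calc ⁅⁅A, B ⊓ centralizer (B : Set X)⁆, B ⊓ centralizer (B : Set X)⁆
          ≤ ⁅B, B ⊓ centralizer (B : Set X)⁆ :=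
            commutator_mono ((commutator_mono le_rfl inf_le_left).trans hAB) le_rfl
        _ = ⊥ := by rw [commutator_comm]; exact comm_inf_cent_self B
    have h1 : ⁅⁅A ⊓ centralizer (A : Set X), B ⊓ centralizer (B : Set X)⁆,
        B ⊓ centralizer (B : Set X)⁆ = ⊥ := by
      apply le_bot_iff.mp
      rw [← hq]
      exact commutator_mono (commutator_mono inf_le_left le_rfl) le_rfl
    have h2 : ⁅⁅A, B ⊓ centralizer (B : Set X)⁆, B ⊓ centralizer (B : Set X)⁆ ≤
        A ⊓ centralizer (A : Set X) := by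
      rw [hq]
      exact bot_le
    obtain ⟨g, hg, hgQ, hrest⟩ := two_step_chief A hAQ hcrit _ h1 h2 hZB
    exact ⟨g, hg.1, hgQ, hrest⟩

end pieces

section main

variable {p : ℕ} [hp : Fact p.Prime]

/-- The main theorem: a quadratic element on a chief factor. -/
theorem exists_quadratic_chief (W : ∀ (Q : Type u) [Group Q], Subgroup Q)
    (hW : Cfsg.IsCharPFunctor.{u} p W) (hWs : SubDetermined.{u} p W)
    {X : Type u} [Group X] [Finite X] (T : Sylow p X)
    (hnn : ¬ (Cfsg.inducedFunctor (G := X) W (T : Subgroup X)).Normal)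
    (A : Subgroup X) [hAn : A.Normal] (hAQ : A ≤ Cfsg.pCore p X)
    (hA2 : ⁅A, A⁆ ≤ centralizer (A : Set X))
    (hQA : ⁅Cfsg.pCore p X, A⁆ ≤ A ⊓ centralizer (A : Set X))
    (hcrit : ∀ y : X, (orderOf y).Coprime p → y ∈ centralizer (A : Set X) → y = 1) :
    ∃ g : X, g ∈ (T : Subgroup X) ∧ g ∉ Cfsg.pCore p X ∧
      ⁅⁅A ⊓ centralizer (A : Set X), zpowers g⁆, zpowers g⁆ = ⊥ ∧
      (⁅⁅⁅A, zpowers g⁆, zpowers g⁆, zpowers g⁆ = ⊥ ∨
        ⁅⁅A, zpowers g⁆, zpowers g⁆ ≤ A ⊓ centralizer (A : Set X)) ∧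
      ∃ U V : Subgroup X, Cfsg.IsChiefFactor U V ∧ U ≤ A ∧
        ⁅⁅U, zpowers g⁆, zpowers g⁆ ≤ V ∧ ¬ ⁅U, zpowers g⁆ ≤ V := by
  by_contra hcon
  obtain ⟨Q, hQ⟩ : ∃ Q, Q = Cfsg.pCore p X := ⟨_, rfl⟩
  have hAQ' : A ≤ Q := hQ ▸ hAQ
  have hQA' : ⁅Q, A⁆ ≤ A ⊓ centralizer (A : Set X) := hQ ▸ hQA
  have hQn : Q.Normal := hQ ▸ (inferInstance : (Cfsg.pCore p X).Normal)
  have hQT : Q ≤ (T : Subgroup X) := hQ ▸ Cfsg.Agent.Helper1.pCore_le_sylow T
  have hAT : A ≤ (T : Subgroup X) := hAQ'.trans hQT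
  have hnn' : ¬ (⊤ : Subgroup X) ≤
      normalizer ((Cfsg.inducedFunctor W (T : Subgroup X) : Subgroup X) : Set X) := by
    intro h
    apply hnn
    exact normalizer_eq_top_iff.mp (top_le_iff.mp h)
  have hQtop : (⊤ : Subgroup X) ≤ normalizer (Q : Set X) := by
    rw [normalizer_eq_top]
  have hnot := not_all_terms_le W hW hWs T.isPGroup' hQT hQtop hnn'
  apply hnot
  have hinj : Function.Injective (T : Subgroup X).subtype := (T : Subgroup X).subtype_injective
  have hAn' : (A.subgroupOf (T : Subgroup X)).Normal := hAn.subgroupOf _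
  have hmapA : (A.subgroupOf (T : Subgroup X)).map (T : Subgroup X).subtype = A :=
    map_subgroupOf_eq_of_le hAT
  have hmapQ : (Q.subgroupOf (T : Subgroup X)).map (T : Subgroup X).subtype = Q :=
    map_subgroupOf_eq_of_le hQT
  have hA2' : A.subgroupOf (T : Subgroup X) ∈ Cfsg.classTwoSubgroups ↥(T : Subgroup X) := by
    rw [← Cfsg.Agent.Helper5.KS.mem_classTwo_iff (T : Subgroup X).subtype hinj, hmapA]
    exact hA2
  have hQA'' : ⁅Q.subgroupOf (T : Subgroup X), A.subgroupOf (T : Subgroup X)⁆ ≤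
      A.subgroupOf (T : Subgroup X) ⊓
        centralizer ((A.subgroupOf (T : Subgroup X) : Subgroup ↥(T : Subgroup X)) :
          Set ↥(T : Subgroup X)) := by
    rw [← map_le_map_iff_of_injective hinj, map_commutator, map_zcent_subgroupOf hAT, hmapA, hmapQ]
    exact hQA'
  have hback : ∀ B : Subgroup ↥(T : Subgroup X), B.map (T : Subgroup X).subtype ≤ Q →
      B ≤ Q.subgroupOf (T : Subgroup X) := by
    intro B hB x hx
    exact mem_subgroupOf.mpr (hB ⟨x, hx, rfl⟩)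
  apply all_terms_le (Q.subgroupOf (T : Subgroup X)) (A.subgroupOf (T : Subgroup X)) hA2' hQA''
  · intro A₁ h1 h2
    by_contra hA₁
    apply hcon
    have hB₁ : ¬ A₁.map (T : Subgroup X).subtype ≤ Cfsg.pCore p X := by
      intro h
      exact hA₁ (hback A₁ (hQ ▸ h))
    have h1' : ⁅⁅A ⊓ centralizer (A : Set X), A₁.map (T : Subgroup X).subtype⁆,
        A₁.map (T : Subgroup X).subtype⁆ = ⊥ := by
      have := congrArg (Subgroup.map (T : Subgroup X).subtype) h1
      rw [map_commutator, map_commutator, map_zcent_subgroupOf hAT, Subgroup.map_bot] at this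
      exact this
    have h2' : ⁅⁅A, A₁.map (T : Subgroup X).subtype⁆, A₁.map (T : Subgroup X).subtype⁆ ≤
        A ⊓ centralizer (A : Set X) := by
      have := Subgroup.map_mono (f := (T : Subgroup X).subtype) h2
      rw [map_commutator, map_commutator, map_zcent_subgroupOf hAT, hmapA] at this
      exact this
    obtain ⟨g, hg, hgQ, hrest⟩ := two_step_chief A hAQ hcrit _ h1' h2' hB₁
    have hgB : zpowers g ≤ A₁.map (T : Subgroup X).subtype := zpowers_le.mpr hg
    refine ⟨g, map_subtype_le A₁ hg, hgQ, ?_, Or.inr ?_, hrest⟩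
    · apply le_bot_iff.mp
      rw [← h1']
      exact commutator_mono (commutator_mono le_rfl hgB) hgB
    · exact (commutator_mono (commutator_mono le_rfl hgB) hgB).trans h2'
  · intro B R hAR hB
    by_contra hBQ
    apply hcon
    have hB' := (Cfsg.Agent.Helper5.KS.mem_lower_iff (T : Subgroup X).subtype hinj R B).mpr hB
    have hAR' : A ≤ R.map (T : Subgroup X).subtype := by
      rw [← hmapA]
      exact Subgroup.map_mono hAR
    have hBQ' : ¬ B.map (T : Subgroup X).subtype ≤ Cfsg.pCore p X := by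
      intro h
      exact hBQ (hback B (hQ ▸ h))
    obtain ⟨g, hg, hgQ, hrest⟩ := lower_chief A hAQ hA2 hQA hcrit _ _ hAR' hB' hBQ'
    obtain ⟨e1, e2⟩ := even_step A _ _ hAR' hB' hg
    exact ⟨g, map_subtype_le B hg, hgQ, e1, Or.inl e2, hrest⟩

end main

end Cfsg.Agent.Lead.KInf
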