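import Mathlib
import Cfsg.Prelude.Def_LocalEven
import Cfsg.Agent.Lead.KInfI

/-!
A chief factor on which some element acts quadratically and nontrivially gives a quotient which is
not `p`-stable in the normalizer form.
-/

set_option autoImplicit false

universe u

namespace Cfsg.Agent.Lead.KInf

open Cfsg Subgroup
open scoped commutatorElement

section fixed

variable {Y : Type*} [Group Y] [Finite Y] {p : ℕ} [hp : Fact p.Prime]

/-- A subgroup whose `p'`-elements centralize the nontrivial normal `p`-subgroup `P` centralizes a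
nontrivial element of `P`. -/
theorem exists_central_of_coprime_central (P : Subgroup Y) [hPn : P.Normal] (hP : IsPGroup p P)
    (hne : P ≠ ⊥) (D : Subgroup Y)
    (hD : ∀ y ∈ D, (orderOf y).Coprime p → y ∈ centralizer (P : Set Y)) :
    ∃ z ∈ P, z ≠ 1 ∧ z ∈ centralizer (D : Set Y) := by
  obtain ⟨φ, hφ⟩ : ∃ φ : Y →* MulAut ↥P, φ = MulAut.conjNormal := ⟨_, rfl⟩
  have hφc : ∀ c ∈ centralizer (P : Set Y), φ c = 1 := by
    intro c hc
    rw [hφ]
    ext z
    rw [MulAut.conjNormal_apply, MulAut.one_apply]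
    have := (mem_centralizer_iff.mp hc) (z : Y) z.2
    rw [← this]
    group
  obtain ⟨R, hR⟩ : ∃ R : Subgroup (MulAut ↥P), R = D.map φ := ⟨_, rfl⟩
  have hRp : IsPGroup p ↥R := by
    rintro ⟨x, hx⟩
    rw [hR] at hx
    obtain ⟨d, hd, rfl⟩ := hx
    obtain ⟨k, hk⟩ := exists_pow_coprime_order p d
    refine ⟨k, ?_⟩
    apply Subtype.ext
    show (φ d) ^ (p ^ k) = 1
    rw [← map_pow]
    exact hφc _ (hD _ (D.pow_mem hd _) hk)
  have hcard : p ∣ Nat.card ↥P := by
    rcases hP.card_eq_or_dvd with h | h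
    · exfalso
      exact hne (Subgroup.card_eq_one.mp h)
    · exact h
  have hone : (1 : ↥P) ∈ MulAction.fixedPoints ↥R ↥P := by
    intro r
    rw [Subgroup.smul_def, MulAut.smul_def, map_one]
  obtain ⟨b, hb, hb1⟩ := hRp.exists_fixed_point_of_prime_dvd_card_of_fixed_point (α := ↥P) hcard hone
  refine ⟨(b : Y), b.2, ?_, ?_⟩
  · intro h
    apply hb1
    apply Subtype.ext
    rw [h]
    rfl
  · rw [mem_centralizer_iff]
    intro d hd
    have hmem : φ d ∈ R := by
      rw [hR]
      exact ⟨d, hd, rfl⟩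
    have h1 := hb ⟨φ d, hmem⟩
    rw [Subgroup.smul_def, MulAut.smul_def] at h1
    have h2 : ((φ d) b : Y) = (b : Y) := congrArg Subtype.val h1
    rw [hφ, MulAut.conjNormal_apply] at h2
    calc d * (b : Y) = (d * (b : Y) * d⁻¹) * d := by group
      _ = (b : Y) * d := by rw [h2]

end fixed

section unstable

variable {X : Type u} [Group X] [Finite X] {p : ℕ} [hp : Fact p.Prime]

/-- Quadratic nontrivial action on a chief factor `U / V` (with `U` a `p`-group) shows that
`X / V` is not `p`-stable in the normalizer form. -/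
theorem not_stable_of_chief {U V : Subgroup X} (hch : Cfsg.IsChiefFactor U V)
    (hU : IsPGroup p U) [hVn : V.Normal] {g : X}
    (hq : ⁅⁅U, zpowers g⁆, zpowers g⁆ ≤ V) (hmv : ¬ ⁅U, zpowers g⁆ ≤ V) :
    ¬ Cfsg.IsNormalizerPStable p (X ⧸ V) := by
  intro hst
  obtain ⟨hlt, hUn, -, hmin⟩ := hch
  obtain ⟨π, hπ⟩ : ∃ π : X →* X ⧸ V, π = QuotientGroup.mk' V := ⟨_, rfl⟩
  have hπs : Function.Surjective π := hπ ▸ QuotientGroup.mk'_surjective V
  have hπk : ∀ y : X, π y = 1 ↔ y ∈ V := by
    intro y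
    rw [hπ]
    exact QuotientGroup.eq_one_iff y
  have hPn : (U.map π).Normal := Subgroup.Normal.map hUn π hπs
  have hPp : IsPGroup p ↥(U.map π) := hU.map π
  obtain ⟨D, hDn, hDq, hDc⟩ := exists_normal_of_stable hst (U.map π) hPp
  have hbD : ∀ b ∈ zpowers g, π b ∈ D := by
    intro b hb
    apply hDq
    have hbg : zpowers b ≤ zpowers g := zpowers_le.mpr hb
    have h3 : ⁅⁅U, zpowers b⁆, zpowers b⁆ ≤ V :=
      (commutator_mono (commutator_mono le_rfl hbg) hbg).trans hq
    have h4 := Subgroup.map_mono (f := π) h3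
    rw [map_commutator, map_commutator, MonoidHom.map_zpowers] at h4
    apply le_bot_iff.mp
    refine h4.trans ?_
    rintro _ ⟨n, hn, rfl⟩
    rw [mem_bot, hπk]
    exact hn
  have hne : U.map π ≠ ⊥ := by
    intro h
    apply hlt.not_ge
    intro u hu
    have : π u ∈ U.map π := ⟨u, hu, rfl⟩
    rw [h, mem_bot, hπk] at this
    exact this
  obtain ⟨z, hzP, hz1, hzD⟩ := exists_central_of_coprime_central (U.map π) hPp hne D hDc
  have := hDn
  have hCn : (centralizer (D : Set (X ⧸ V))).Normal := inferInstance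
  have hMn : (((U.map π) ⊓ centralizer (D : Set (X ⧸ V))).comap π ⊓ U).Normal := inferInstance
  have hVM : V ≤ ((U.map π) ⊓ centralizer (D : Set (X ⧸ V))).comap π ⊓ U := by
    intro v hv
    refine mem_inf.mpr ⟨?_, hlt.le hv⟩
    rw [mem_comap, (hπk v).mpr hv]
    exact one_mem _
  rcases hmin _ hMn hVM inf_le_right with h | h
  · obtain ⟨u, hu, rfl⟩ := hzP
    apply hz1
    rw [hπk, ← h]
    refine mem_inf.mpr ⟨?_, hu⟩
    rw [mem_comap]
    exact mem_inf.mpr ⟨⟨u, hu, rfl⟩, hzD⟩
  · apply hmv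
    rw [commutator_le]
    intro u hu b hb
    have hu' : u ∈ ((U.map π) ⊓ centralizer (D : Set (X ⧸ V))).comap π ⊓ U := by
      rw [h]
      exact hu
    have h1 : π u ∈ centralizer (D : Set (X ⧸ V)) := (mem_inf.mp (mem_inf.mp hu').1).2
    have h2 := (mem_centralizer_iff.mp h1) (π b) (hbD b hb)
    rw [← hπk, commutatorElement_def, map_mul, map_mul, map_mul, map_inv, map_inv, ← h2]
    group

end unstable

end Cfsg.Agent.Lead.KInf
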