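import Mathlib
import Cfsg.Agent.Lead.KLh

set_option autoImplicit false

/-!
Generation of a saturated system by `S C_F(Q)` and `N_F(Q C_S(Q))`, in inclusion form.
-/

namespace Cfsg.Agent.Lead.KL

open Cfsg Cfsg.FusionSystem Cfsg.Agent.Lead Cfsg.Agent.Lead.GlTh

universe u

variable {Ω : Type u} [Group Ω] {S : Subgroup Ω}

/-- Generation: for `Q` normal in `F`, any system over `S` containing `S C_F(Q)` and
`N_F(Q C_S(Q))` contains `F`. -/
theorem generation_le [Finite S] (p : ℕ) [Fact p.Prime] (hS : IsPGroup p S)
    (F : FusionSystem S) (hF : F.IsSaturated p) {Q : Subgroup Ω} (hQ : F.IsNormal Q)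
    (NR : FusionSystem (normalizerIn S (Q ⊔ centralizerIn S Q)))
    (hNR : F.IsNormalizerSystem (Q ⊔ centralizerIn S Q) NR) (E : FusionSystem S)
    (hDE : ∀ P, (scSys F Q hQ.1 (Model.le_normalizer_of_isNormal F hQ)).Hom P ⊆ E.Hom P)
    (hNE : ∀ P, NR.Hom P ⊆ E.Hom P) : ∀ P, F.Hom P ⊆ E.Hom P := by
  have hQS := hQ.1
  have hSQ := Model.le_normalizer_of_isNormal F hQ
  have hSC : S ≤ Subgroup.normalizer (centralizerIn S Q : Set Ω) := le_normalizer_centralizerIn hSQ
  have hSR : S ≤ Subgroup.normalizer ((Q ⊔ centralizerIn S Q : Subgroup Ω) : Set Ω) := by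
    intro s hs
    haveI : Finite ↥(Q ⊔ centralizerIn S Q) := Fusion.finite_of_le (sup_le hQS inf_le_left)
    apply mem_normalizer_of_conj_mem_of_finite
    have hle : Q ⊔ centralizerIn S Q ≤
        (Q ⊔ centralizerIn S Q).comap (MulAut.conj s).toMonoidHom := by
      apply sup_le
      · intro y hy
        rw [Subgroup.mem_comap]
        exact le_sup_left (a := Q) ((Subgroup.mem_normalizer_iff.mp (hSQ hs) y).mp hy)
      · intro y hy
        rw [Subgroup.mem_comap]
        exact le_sup_right (a := Q) ((Subgroup.mem_normalizer_iff.mp (hSC hs) y).mp hy)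
    intro y hy
    exact hle hy
  have key : ∀ (k : ℕ) (P : Subgroup Ω), (P = S ∨ F.IsEssential p P) →
      Nat.card S - Nat.card P = k → F.autGroup P ≤ E.autGroup P := by
    intro k
    induction k using Nat.strong_induction_on with
    | _ k ih =>
    intro P hP hk α hα
    have hPS : P ≤ S := by
      rcases hP with rfl | hess
      · exact le_rfl
      · exact hess.1.1
    haveI : Finite P := Fusion.finite_of_le hPS
    have hcardle : Nat.card P ≤ Nat.card S := Subgroup.card_le_of_le hPS
    have hn : ∀ (P' : Subgroup Ω) (φ : P' →* Ω), φ ∈ F.Hom P' → Nat.card P < Nat.card P' →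
        φ ∈ E.Hom P' := by
      intro P' φ hφ hlt
      apply Fusion.alperin_ge p hS F hF E (Nat.card P + 1) ?_ P' φ hφ hlt
      intro P'' hP'' hm
      have hP''S : P'' ≤ S := by
        rcases hP'' with rfl | hess
        · exact le_rfl
        · exact hess.1.1
      haveI : Finite P'' := Fusion.finite_of_le hP''S
      have h1 : Nat.card P'' ≤ Nat.card S := Subgroup.card_le_of_le hP''S
      exact ih (Nat.card S - Nat.card P'') (by omega) P'' hP'' rfl
    have hQP : Q ≤ P := by
      rcases hP with rfl | hess
      · exact hQS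
      · exact Fusion.le_of_isNormal_of_centric_radical p hS F hQ hess.1
          (Fusion.isRadical_of_isEssential p hS F hess)
    have hφ := (Fusion.mem_autGroup_iff F hPS α).mp hα
    by_cases hCP : centralizerIn S Q ≤ P
    · -- the subgroup `Q C_S(Q)` lies in `P`
      rw [Fusion.mem_autGroup_iff E hPS]
      have hRP : Q ⊔ centralizerIn S Q ≤ P := sup_le hQP hCP
      have hPN : P ≤ normalizerIn S (Q ⊔ centralizerIn S Q) := fun x hx =>
        Subgroup.mem_inf.mpr ⟨hPS hx, hSR (hPS hx)⟩
      have hαQ := Fusion.map_aut_eq_of_isNormal F hQ hQP hPS α hα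
      have hαR : ((Q ⊔ centralizerIn S Q).subgroupOf P).map α.toMonoidHom =
          (Q ⊔ centralizerIn S Q).subgroupOf P := by
        apply Fusion.map_aut_eq_of_le
        rw [Subgroup.subgroupOf_sup hQP hCP, Subgroup.map_sup]
        apply sup_le
        · rw [hαQ]
          exact le_sup_left
        · refine le_trans ?_ le_sup_right
          rintro _ ⟨d, hd, rfl⟩
          rw [SetLike.mem_coe, Subgroup.mem_subgroupOf] at hd
          rw [Subgroup.mem_subgroupOf]
          obtain ⟨-, hdC⟩ := Subgroup.mem_inf.mp hd
          refine Subgroup.mem_inf.mpr ⟨hPS (α d).2, ?_⟩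
          rw [Subgroup.mem_centralizer_iff] at hdC ⊢
          intro q hq
          have hq' : (⟨q, hQP hq⟩ : P) ∈ (Q.subgroupOf P).map α.toMonoidHom := by
            rw [hαQ, Subgroup.mem_subgroupOf]; exact hq
          obtain ⟨q₀, hq₀, hq₀q⟩ := hq'
          rw [SetLike.mem_coe, Subgroup.mem_subgroupOf] at hq₀
          have h1 : q₀ * d = d * q₀ := Subtype.ext (hdC _ hq₀)
          have h2 : α q₀ * α d = α d * α q₀ := by rw [← map_mul, ← map_mul, h1]
          have h3 : α q₀ = ⟨q, hQP hq⟩ := hq₀q
          rw [h3] at h2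
          exact congrArg Subtype.val h2
      have hφR : ((Q ⊔ centralizerIn S Q).subgroupOf P).map (P.subtype.comp α.toMonoidHom) =
          Q ⊔ centralizerIn S Q := by
        rw [← Subgroup.map_map, hαR]
        exact (Subgroup.subgroupOf_map_subtype _ _).trans (inf_of_le_left hRP)
      have hφN : P.subtype.comp α.toMonoidHom ∈ NR.Hom P := by
        rw [hNR]
        exact mem_normalizerHom_of_le F hRP hPN _ hφ hφR
      exact hNE P hφN
    · -- `C_S(Q)` does not lie in `P`: Frattini argument
      have hPne : P ≠ S := by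
        intro h
        apply hCP
        rw [h]
        exact inf_le_left
      have hess : F.IsEssential p P := by
        rcases hP with h | h
        · exact absurd h hPne
        · exact h
      have hPc := hess.1
      have hPn := hess.2.1
      obtain ⟨hfc, hfa⟩ := Fusion.fullyCentralized_fullyAutomized_of_fullyNormalized p hS F hF hPn
      have hrec := Fusion.receptive_of_fullyCentralized p hS F hF hfc
      obtain ⟨-, T, hT⟩ := hfa
      haveI : Finite (MulAut P) := inferInstance
      haveI : Finite ↥(F.autGroup P) := inferInstance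
      haveI := fixSub_normal F hQ hQP hPS
      obtain ⟨ν, hν, κ, hκ, hdecomp⟩ := Fusion.frattini_decomp p T (fixSub F Q P) ⟨α, hα⟩
      have hακ : α = (ν : MulAut P) * (κ : MulAut P) :=
        congrArg (fun z : ↥(F.autGroup P) => (z : MulAut P)) hdecomp
      rw [hακ]
      apply Subgroup.mul_mem
      · -- the part normalizing `Aut_{C_S(Q)}(P)` extends
        have hV₀U : ((T : Subgroup (F.autGroup P)) ⊓ fixSub F Q P).map (F.autGroup P).subtype ≤
            autInducedBy S P := by
          rintro _ ⟨t, ht, rfl⟩
          have h1 : t ∈ (T : Subgroup (F.autGroup P)) := ht.1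
          rw [hT, Subgroup.mem_subgroupOf] at h1
          exact h1
        have hInnU : Inn P ≤ autInducedBy S P := Fusion.inn_le_autInducedBy hPS
        have hy : ∃ y ∈ centralizerIn S Q, y ∈ Subgroup.normalizer (P : Set Ω) ∧ y ∉ P := by
          have hPCS : P ⊔ centralizerIn S Q ≤ S := sup_le hPS inf_le_left
          haveI : Finite ↥(P ⊔ centralizerIn S Q) := Fusion.finite_of_le hPCS
          have hne : P ≠ P ⊔ centralizerIn S Q := by
            intro h
            apply hCP
            exact le_sup_right.trans h.ge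
          obtain ⟨z, hz, hzP⟩ := Fusion.exists_mem_normalizerIn_not_mem (hS.to_le hPCS)
            (le_sup_left : P ≤ P ⊔ centralizerIn S Q) hne
          obtain ⟨hz1, hz2⟩ := Subgroup.mem_inf.mp hz
          have hPnC : P ≤ Subgroup.normalizer (centralizerIn S Q : Set Ω) := hPS.trans hSC
          obtain ⟨x, hx, c, hc, rfl⟩ := (mem_sup_iff_of_le_normalizer hPnC z).mp hz1
          refine ⟨c, hc, ?_, ?_⟩
          · have h1 : c = x⁻¹ * (x * c) := by group
            rw [h1]
            exact Subgroup.mul_mem _ (Subgroup.inv_mem _ (Subgroup.le_normalizer hx)) hz2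
          · intro hcP
            exact hzP (P.mul_mem hx hcP)
        obtain ⟨y, hyC, hyN, hyP⟩ := hy
        have hyS : y ∈ S := (Subgroup.mem_inf.mp hyC).1
        have hβU : conjAutHom P ⟨y, hyN⟩ ∈ autInducedBy S P :=
          Fusion.conjAutHom_mem_autInducedBy P ⟨y, hyN⟩ hyS
        have hβF : conjAutHom P ⟨y, hyN⟩ ∈ F.autGroup P :=
          Fusion.autInducedBy_le_autGroup F hPS hβU
        have hβV₀ : conjAutHom P ⟨y, hyN⟩ ∈
            ((T : Subgroup (F.autGroup P)) ⊓ fixSub F Q P).map (F.autGroup P).subtype := by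
          refine ⟨⟨_, hβF⟩, ⟨?_, ?_⟩, rfl⟩
          · show (⟨_, hβF⟩ : F.autGroup P) ∈ (T : Subgroup (F.autGroup P))
            rw [hT, Subgroup.mem_subgroupOf]
            exact hβU
          · intro x hx
            apply Subtype.ext
            show y * (x : Ω) * y⁻¹ = x
            have h1 := Subgroup.mem_centralizer_iff.mp (Subgroup.mem_inf.mp hyC).2 x hx
            rw [← h1]
            group
        have hβI : conjAutHom P ⟨y, hyN⟩ ∉ Inn P := fun h =>
          hyP (Fusion.mem_of_conjAutHom_mem_inn F hPc y hyS hyN h)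
        have hnorm : ∀ v ∈ ((T : Subgroup (F.autGroup P)) ⊓ fixSub F Q P).map
            (F.autGroup P).subtype ⊔ Inn P, (ν : MulAut P) * v * (ν : MulAut P)⁻¹ ∈
            ((T : Subgroup (F.autGroup P)) ⊓ fixSub F Q P).map (F.autGroup P).subtype ⊔ Inn P := by
          have hle : ((T : Subgroup (F.autGroup P)) ⊓ fixSub F Q P).map (F.autGroup P).subtype ⊔
              Inn P ≤ (((T : Subgroup (F.autGroup P)) ⊓ fixSub F Q P).map
                (F.autGroup P).subtype ⊔ Inn P).comap (MulAut.conj (ν : MulAut P)).toMonoidHom := by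
            apply sup_le
            · rintro _ ⟨t, ht, rfl⟩
              rw [Subgroup.mem_comap]
              apply le_sup_left (b := Inn P)
              exact ⟨ν * t * ν⁻¹, (Subgroup.mem_normalizer_iff.mp hν t).mp ht, rfl⟩
            · intro v hv
              rw [Subgroup.mem_comap]
              apply le_sup_right (b := Inn P)
              exact (inferInstance : (Inn P).Normal).conj_mem v hv _
          intro v hv
          exact hle hv
        have hmem := Fusion.mem_extSet_of_normalizes F hrec (ν : MulAut P) ν.2 _ le_sup_right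
          (sup_le hV₀U hInnU) ⟨_, le_sup_left (b := Inn P) hβV₀, hβI⟩ hnorm
        obtain ⟨P', hPP', φ', hφ', hext⟩ := hmem
        have hP'S := Fusion.src_le F hφ'
        haveI : Finite P' := Fusion.finite_of_le hP'S
        have hφ'E := hn P' φ' hφ' (card_lt_of_lt hPP')
        rw [Fusion.mem_autGroup_iff E hPS]
        have h7 := Fusion.restrict_mem E hφ'E hPP'.le
        convert h7 using 1
        ext x
        exact (hext x).symm
      · -- the part centralizing `Q` lies in `S C_F(Q)`
        rw [Fusion.mem_autGroup_iff E hPS]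
        have hκF := (Fusion.mem_autGroup_iff F hPS (κ : MulAut P)).mp κ.2
        have hle : P ⊔ Q ≤ P := sup_le le_rfl hQP
        have hκD : P.subtype.comp (κ : MulAut P).toMonoidHom ∈ (scSys F Q hQS hSQ).Hom P := by
          refine ⟨hκF, (P.subtype.comp (κ : MulAut P).toMonoidHom).comp (Subgroup.inclusion hle),
            Fusion.restrict_mem F hκF hle, fun x => ?_, 1, S.one_mem, fun x => ?_⟩
          · rfl
          · rw [one_mul, inv_one, mul_one]
            show (((κ : MulAut P) ⟨x, _⟩ : P) : Ω) = x
            rw [hκ ⟨x, hQP x.2⟩ x.2]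
        exact hDE P hκD
  intro P φ hφ
  apply Fusion.alperin_ge p hS F hF E 0 ?_ P φ hφ (Nat.zero_le _)
  intro P' hP' _
  exact key _ P' hP' rfl

end Cfsg.Agent.Lead.KL
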