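import Mathlib
import Cfsg.Agent.Lead.PSL2SubA

set_option autoImplicit false

/-! Pairs `(A, B)` of trace-zero elements of `SL₂(F)` with `tr (A B) = 0`: a normal form under
conjugation by invertible matrices, and the centraliser of the standard pair. -/

namespace Cfsg.Agent.Lead.KleinPSL

open Matrix Cfsg.Agent.Lead.DicksonA Cfsg.Agent.Lead.DicksonB Cfsg.Agent.Lead.PSL2Sub
open scoped MatrixGroups

variable {F : Type*} [Field F]

/-- the square of a trace-zero element, as a matrix -/
theorem sq_of_tr (A : SL(2, F)) (hA : DicksonA.tr A = 0) : A.1 * A.1 = -1 := by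
  have h := ch_sl A
  rw [hA, zero_smul, zero_sub] at h
  exact h

/-- the anticommutation relation -/
theorem anticomm_of_tr (A B : SL(2, F)) (hA : DicksonA.tr A = 0) (hB : DicksonA.tr B = 0)
    (hAB : DicksonA.tr (A * B) = 0) : A.1 * B.1 = -(B.1 * A.1) := by
  unfold DicksonA.tr at hA hB hAB
  rw [mul_00, mul_11] at hAB
  ext i j
  fin_cases i <;> fin_cases j <;>
    simp only [Matrix.mul_apply, Fin.sum_univ_two, Matrix.neg_apply, Fin.zero_eta, Fin.mk_one,
      Fin.isValue]
  · linear_combination hAB + B.1 0 0 * hA - A.1 1 1 * hB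
  · linear_combination B.1 0 1 * hA + A.1 0 1 * hB
  · linear_combination B.1 1 0 * hA + A.1 1 0 * hB
  · linear_combination hAB - B.1 0 0 * hA + A.1 1 1 * hB

/-- the matrix with columns `v` and `w` -/
def colMat (v w : Fin 2 → F) : Matrix (Fin 2) (Fin 2) F := !![v 0, w 0; v 1, w 1]

theorem mul_colMat (M : Matrix (Fin 2) (Fin 2) F) (v w : Fin 2 → F) :
    M * colMat v w = colMat (M *ᵥ v) (M *ᵥ w) := by
  ext i j
  fin_cases i <;> fin_cases j <;>
    simp [colMat, Matrix.mul_apply, Matrix.mulVec, dotProduct, Fin.sum_univ_two]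

theorem colMat_mul (v w : Fin 2 → F) (p q r s : F) :
    colMat v w * !![p, q; r, s] = colMat (p • v + r • w) (q • v + s • w) := by
  ext i j
  fin_cases i <;> fin_cases j <;>
    simp [colMat, Matrix.mul_apply, Fin.sum_univ_two] <;> ring

theorem det_colMat (v w : Fin 2 → F) : (colMat v w).det = v 0 * w 1 - w 0 * v 1 := by
  rw [colMat, Matrix.det_fin_two_of]

theorem parallel_of_det (v w : Fin 2 → F) (hv : v ≠ 0) (h : v 0 * w 1 - w 0 * v 1 = 0) :
    ∃ α : F, w = α • v := by
  by_cases h0 : v 0 = 0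
  · have h1 : v 1 ≠ 0 := by
      intro h1
      apply hv
      ext i
      fin_cases i
      · exact h0
      · exact h1
    refine ⟨w 1 / v 1, ?_⟩
    ext i
    fin_cases i
    · simp only [Fin.zero_eta, Fin.isValue, Pi.smul_apply, smul_eq_mul, h0, mul_zero]
      rw [h0, zero_mul, zero_sub, neg_eq_zero] at h
      rcases mul_eq_zero.mp h with h | h
      · exact h
      · exact absurd h h1
    · simp only [Fin.mk_one, Fin.isValue, Pi.smul_apply, smul_eq_mul]
      field_simp
  · refine ⟨w 0 / v 0, ?_⟩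
    ext i
    fin_cases i
    · simp only [Fin.zero_eta, Fin.isValue, Pi.smul_apply, smul_eq_mul]
      field_simp
    · simp only [Fin.mk_one, Fin.isValue, Pi.smul_apply, smul_eq_mul]
      field_simp
      linear_combination h

theorem no_common_eig (A B : Matrix (Fin 2) (Fin 2) F) (h2 : (2 : F) ≠ 0) (hAA : A * A = -1)
    (hBB : B * B = -1) (hAB : A * B = -(B * A)) (v : Fin 2 → F) (hv : v ≠ 0) (α β : F)
    (hA : A *ᵥ v = α • v) (hB : B *ᵥ v = β • v) : False := by
  have e1 : (α * α + 1) • v = 0 := by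
    have : (A * A) *ᵥ v = (α * α) • v := by
      rw [← Matrix.mulVec_mulVec, hA, Matrix.mulVec_smul, hA, smul_smul]
    rw [hAA, Matrix.neg_mulVec, Matrix.one_mulVec] at this
    rw [add_smul, one_smul, ← this]
    simp
  have e2 : (β * β + 1) • v = 0 := by
    have : (B * B) *ᵥ v = (β * β) • v := by
      rw [← Matrix.mulVec_mulVec, hB, Matrix.mulVec_smul, hB, smul_smul]
    rw [hBB, Matrix.neg_mulVec, Matrix.one_mulVec] at this
    rw [add_smul, one_smul, ← this]
    simp
  have e3 : (2 * (α * β)) • v = 0 := by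
    have h1 : (A * B) *ᵥ v = (β * α) • v := by
      rw [← Matrix.mulVec_mulVec, hB, Matrix.mulVec_smul, hA, smul_smul]
    have h3 : (B * A) *ᵥ v = (α * β) • v := by
      rw [← Matrix.mulVec_mulVec, hA, Matrix.mulVec_smul, hB, smul_smul]
    rw [hAB, Matrix.neg_mulVec, h3] at h1
    have : (2 * (α * β)) • v = (α * β) • v + (β * α) • v := by
      rw [← add_smul]; congr 1; ring
    rw [this, ← h1]
    simp
  have a1 := (smul_eq_zero.mp e1).resolve_right hv
  have a2 := (smul_eq_zero.mp e2).resolve_right hv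
  have a3 := (smul_eq_zero.mp e3).resolve_right hv
  have a4 : α * β = 0 := (mul_eq_zero.mp a3).resolve_left h2
  have : (1 : F) = 0 := by
    linear_combination (-(β * β)) * a1 + a2 + (α * β) * a4
  exact one_ne_zero this

/-- the second standard matrix `[[a, b], [b, -a]]` with `a² + b² = -1` -/
def sB (a0 b0 : F) (h : a0 ^ 2 + b0 ^ 2 = -1) : SL(2, F) :=
  ⟨!![a0, b0; b0, -a0], by rw [Matrix.det_fin_two_of]; linear_combination -h⟩

theorem tr_ww : DicksonA.tr (ww : SL(2, F)) = 0 := by simp [DicksonA.tr, ww]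

theorem tr_sB (a0 b0 : F) (h : a0 ^ 2 + b0 ^ 2 = -1) : DicksonA.tr (sB a0 b0 h) = 0 := by
  simp [DicksonA.tr, sB]

theorem tr_ww_sB (a0 b0 : F) (h : a0 ^ 2 + b0 ^ 2 = -1) :
    DicksonA.tr (ww * sB a0 b0 h) = 0 := by
  unfold DicksonA.tr
  rw [mul_00, mul_11]
  simp [ww, sB]

/-- normal form: every admissible pair is conjugate, by an invertible matrix, to the standard
pair -/
theorem normal_form (h2 : (2 : F) ≠ 0) (a0 b0 : F) (h0 : a0 ^ 2 + b0 ^ 2 = -1)
    (A B : SL(2, F)) (hA : DicksonA.tr A = 0) (hB : DicksonA.tr B = 0)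
    (hAB : DicksonA.tr (A * B) = 0) :
    ∃ P : Matrix (Fin 2) (Fin 2) F, P.det ≠ 0 ∧ A.1 * P = P * (ww : SL(2, F)).1 ∧
      B.1 * P = P * (sB a0 b0 h0).1 := by
  have hAA := sq_of_tr A hA
  have hBB := sq_of_tr B hB
  have hanti := anticomm_of_tr A B hA hB hAB
  set W : Matrix (Fin 2) (Fin 2) F := B.1 - a0 • (1 : Matrix (Fin 2) (Fin 2) F) - b0 • A.1
    with hWdef
  have hW : W.det = 0 := by
    have hdA := det_eq A
    have hdB := det_eq B
    have hA' := hA
    have hB' := hB
    have hAB' := hAB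
    unfold DicksonA.tr at hA' hB' hAB'
    rw [mul_00, mul_11] at hAB'
    have hd : A.1 1 1 = -A.1 0 0 := by linear_combination hA'
    have hd2 : B.1 1 1 = -B.1 0 0 := by linear_combination hB'
    rw [hd] at hdA hAB'
    rw [hd2] at hdB hAB'
    rw [Matrix.det_fin_two]
    simp only [hWdef, Matrix.sub_apply, Matrix.smul_apply, Matrix.one_apply_eq, smul_eq_mul,
      mul_one, ne_eq, zero_ne_one, not_false_eq_true, Matrix.one_apply_ne, mul_zero, sub_zero,
      one_ne_zero, hd, hd2]
    linear_combination hdB + b0 ^ 2 * hdA + b0 * hAB' + h0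
  obtain ⟨v, hv0, hv⟩ := Matrix.exists_mulVec_eq_zero_iff.mpr hW
  set w : Fin 2 → F := A.1 *ᵥ v with hw
  have hBv : B.1 *ᵥ v = a0 • v + b0 • w := by
    rw [hWdef, Matrix.sub_mulVec, Matrix.sub_mulVec, Matrix.smul_mulVec, Matrix.smul_mulVec,
      Matrix.one_mulVec] at hv
    rw [hw]
    have := hv
    rw [sub_sub, sub_eq_zero] at this
    exact this
  have hAw : A.1 *ᵥ w = -v := by
    rw [hw, Matrix.mulVec_mulVec, hAA, Matrix.neg_mulVec, Matrix.one_mulVec]
  have hBw : B.1 *ᵥ w = b0 • v + (-a0) • w := by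
    rw [hw, Matrix.mulVec_mulVec]
    have : B.1 * A.1 = -(A.1 * B.1) := by rw [hanti, neg_neg]
    rw [this, Matrix.neg_mulVec, ← Matrix.mulVec_mulVec, hBv, Matrix.mulVec_add,
      Matrix.mulVec_smul, Matrix.mulVec_smul, ← hw, hAw]
    ext i
    simp only [Pi.neg_apply, Pi.add_apply, Pi.smul_apply, smul_eq_mul]
    ring
  refine ⟨colMat v w, ?_, ?_, ?_⟩
  · rw [det_colMat]
    intro hdet
    obtain ⟨α, hα⟩ := parallel_of_det v w hv0 hdet
    apply no_common_eig A.1 B.1 h2 hAA hBB hanti v hv0 α (a0 + b0 * α)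
    · rw [← hw, hα]
    · rw [hBv, hα, smul_smul, ← add_smul]
  · rw [mul_colMat, ← hw, hAw]
    have : (ww : SL(2, F)).1 = !![0, -1; 1, 0] := rfl
    rw [this, colMat_mul]
    congr 1
    · simp
    · simp
  · rw [mul_colMat, hBv, hBw]
    have : (sB a0 b0 h0).1 = !![a0, b0; b0, -a0] := rfl
    rw [this, colMat_mul]

/-- the centraliser of the standard pair consists of scalar matrices -/
theorem centralizer_std (h2 : (2 : F) ≠ 0) (a0 b0 : F) (h0 : a0 ^ 2 + b0 ^ 2 = -1)
    (g : Matrix (Fin 2) (Fin 2) F) (h1 : g * (ww : SL(2, F)).1 = (ww : SL(2, F)).1 * g)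
    (h3 : g * (sB a0 b0 h0).1 = (sB a0 b0 h0).1 * g) :
    g = g 0 0 • (1 : Matrix (Fin 2) (Fin 2) F) := by
  have e1 : (ww : SL(2, F)).1 = !![0, -1; 1, 0] := rfl
  have e2 : (sB a0 b0 h0).1 = !![a0, b0; b0, -a0] := rfl
  rw [e1] at h1
  rw [e2] at h3
  have c00 := congrFun (congrFun h1 0) 0
  have c01 := congrFun (congrFun h1 0) 1
  have d00 := congrFun (congrFun h3 0) 0
  have d01 := congrFun (congrFun h3 0) 1
  simp [Matrix.mul_apply, Fin.sum_univ_two] at c00 c01 d00 d01
  -- c00 : g 0 1 = -g 1 0 ; c01 : -g 0 0 = -g 1 1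
  have hq : g 0 1 = 0 := by
    have k1 : 2 * (g 0 1 * b0) = 0 := by linear_combination d00 + b0 * c00
    have k2 : 2 * (g 0 1 * a0) = 0 := by linear_combination b0 * c01 - d01
    have k1' := (mul_eq_zero.mp k1).resolve_left h2
    have k2' := (mul_eq_zero.mp k2).resolve_left h2
    by_contra hne
    have hb : b0 = 0 := (mul_eq_zero.mp k1').resolve_left hne
    have ha : a0 = 0 := (mul_eq_zero.mp k2').resolve_left hne
    rw [ha, hb] at h0
    have : (1 : F) = 0 := by linear_combination h0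
    exact one_ne_zero this
  ext i j
  fin_cases i <;> fin_cases j <;> simp
  · exact hq
  · rw [hq] at c00
    linear_combination c00
  · linear_combination -c01

end Cfsg.Agent.Lead.KleinPSL
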