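import Mathlib
import Cfsg.Agent.Lead.KleinA

set_option autoImplicit false

/-! `GL₂(F)` acts by conjugation on the admissible pairs of `SL₂(F)`; the action is transitive
with scalar stabilisers, which counts the pairs. -/

namespace Cfsg.Agent.Lead.KleinPSL

open Matrix Cfsg.Agent.Lead.DicksonA Cfsg.Agent.Lead.DicksonB Cfsg.Agent.Lead.PSL2Sub
open scoped MatrixGroups

variable {F : Type*} [Field F]

/-- the admissible pairs -/
def XX : Set (SL(2, F) × SL(2, F)) :=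
  {p | DicksonA.tr p.1 = 0 ∧ DicksonA.tr p.2 = 0 ∧ DicksonA.tr (p.1 * p.2) = 0}

theorem det_conj (g : GL (Fin 2) F) (A : SL(2, F)) :
    (g.1 * A.1 * (g⁻¹ : GL (Fin 2) F).1).det = 1 := by
  rw [Matrix.det_mul, Matrix.det_mul, A.2, mul_one, ← Matrix.det_mul]
  have : g.1 * (g⁻¹ : GL (Fin 2) F).1 = 1 := by
    rw [← Units.val_mul, mul_inv_cancel, Units.val_one]
  rw [this, Matrix.det_one]

/-- conjugation of `SL₂` by an element of `GL₂` -/
def cj (g : GL (Fin 2) F) (A : SL(2, F)) : SL(2, F) :=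
  ⟨g.1 * A.1 * (g⁻¹ : GL (Fin 2) F).1, det_conj g A⟩

theorem cj_val (g : GL (Fin 2) F) (A : SL(2, F)) :
    (cj g A).1 = g.1 * A.1 * (g⁻¹ : GL (Fin 2) F).1 := rfl

theorem cj_mul (g : GL (Fin 2) F) (A B : SL(2, F)) : cj g (A * B) = cj g A * cj g B := by
  apply Subtype.ext
  rw [Matrix.SpecialLinearGroup.coe_mul, cj_val, cj_val, cj_val, Matrix.SpecialLinearGroup.coe_mul]
  have : (g⁻¹ : GL (Fin 2) F).1 * g.1 = 1 := by
    rw [← Units.val_mul, inv_mul_cancel, Units.val_one]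
  calc g.1 * (A.1 * B.1) * (g⁻¹ : GL (Fin 2) F).1
      = g.1 * A.1 * (1 : Matrix (Fin 2) (Fin 2) F) * B.1 * (g⁻¹ : GL (Fin 2) F).1 := by
        simp [Matrix.mul_assoc]
    _ = g.1 * A.1 * (g⁻¹ : GL (Fin 2) F).1 * (g.1 * B.1 * (g⁻¹ : GL (Fin 2) F).1) := by
        rw [← this]; simp only [Matrix.mul_assoc]

theorem tr_cj (g : GL (Fin 2) F) (A : SL(2, F)) : DicksonA.tr (cj g A) = DicksonA.tr A := by
  rw [tr_eq_trace, tr_eq_trace, cj_val, Matrix.trace_mul_comm, ← Matrix.mul_assoc]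
  have : (g⁻¹ : GL (Fin 2) F).1 * g.1 = 1 := by
    rw [← Units.val_mul, inv_mul_cancel, Units.val_one]
  rw [this, Matrix.one_mul]

/-- the conjugation action of `GL₂` on `SL₂` -/
@[reducible] def conjAction : MulAction (GL (Fin 2) F) (SL(2, F)) where
  smul := cj
  one_smul A := by
    apply Subtype.ext
    change (1 : GL (Fin 2) F).1 * A.1 * ((1 : GL (Fin 2) F)⁻¹ : GL (Fin 2) F).1 = A.1
    simp
  mul_smul g h A := by
    apply Subtype.ext
    change (g * h).1 * A.1 * ((g * h)⁻¹ : GL (Fin 2) F).1 =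
      g.1 * (h.1 * A.1 * (h⁻¹ : GL (Fin 2) F).1) * (g⁻¹ : GL (Fin 2) F).1
    rw [_root_.mul_inv_rev, Units.val_mul, Units.val_mul]
    simp only [Matrix.mul_assoc]

attribute [local instance] conjAction

theorem smul_def' (g : GL (Fin 2) F) (A : SL(2, F)) : g • A = cj g A := rfl

theorem smul_pair (g : GL (Fin 2) F) (p : SL(2, F) × SL(2, F)) :
    g • p = (cj g p.1, cj g p.2) := rfl

theorem smul_mem_XX (g : GL (Fin 2) F) (p : SL(2, F) × SL(2, F)) (hp : p ∈ XX) :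
    g • p ∈ XX := by
  obtain ⟨h1, h2, h3⟩ := hp
  refine ⟨?_, ?_, ?_⟩
  · rw [smul_pair]; simpa [tr_cj] using h1
  · rw [smul_pair]; simpa [tr_cj] using h2
  · rw [smul_pair]
    change DicksonA.tr (cj g p.1 * cj g p.2) = 0
    rw [← cj_mul, tr_cj]
    exact h3

/-- the standard pair -/
def stdPair (a0 b0 : F) (h0 : a0 ^ 2 + b0 ^ 2 = -1) : SL(2, F) × SL(2, F) :=
  ((ww : SL(2, F)), sB a0 b0 h0)

theorem stdPair_mem (a0 b0 : F) (h0 : a0 ^ 2 + b0 ^ 2 = -1) : stdPair a0 b0 h0 ∈ XX :=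
  ⟨tr_ww, tr_sB a0 b0 h0, tr_ww_sB a0 b0 h0⟩

/-- conjugation by a matrix intertwining two elements -/
theorem cj_eq_of_intertwine (P : Matrix (Fin 2) (Fin 2) F) (hP : P.det ≠ 0) (A A0 : SL(2, F))
    (h : A.1 * P = P * A0.1) : cj (Matrix.GeneralLinearGroup.mkOfDetNeZero P hP) A0 = A := by
  apply Subtype.ext
  rw [cj_val]
  set g := Matrix.GeneralLinearGroup.mkOfDetNeZero P hP with hg
  have e1 : g.1 = P := rfl
  have e2 : g.1 * (g⁻¹ : GL (Fin 2) F).1 = 1 := by
    rw [← Units.val_mul, mul_inv_cancel, Units.val_one]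
  rw [e1] at e2 ⊢
  rw [← h, Matrix.mul_assoc, e2, Matrix.mul_one]

/-- transitivity -/
theorem exists_smul_eq (h2 : (2 : F) ≠ 0) (a0 b0 : F) (h0 : a0 ^ 2 + b0 ^ 2 = -1)
    (p : SL(2, F) × SL(2, F)) (hp : p ∈ XX) :
    ∃ g : GL (Fin 2) F, g • stdPair a0 b0 h0 = p := by
  obtain ⟨P, hP, hA, hB⟩ := normal_form h2 a0 b0 h0 p.1 p.2 hp.1 hp.2.1 hp.2.2
  refine ⟨Matrix.GeneralLinearGroup.mkOfDetNeZero P hP, ?_⟩
  rw [smul_pair]
  apply Prod.ext
  · exact cj_eq_of_intertwine P hP p.1 _ hA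
  · exact cj_eq_of_intertwine P hP p.2 _ hB

theorem orbit_eq (h2 : (2 : F) ≠ 0) (a0 b0 : F) (h0 : a0 ^ 2 + b0 ^ 2 = -1) :
    MulAction.orbit (GL (Fin 2) F) (stdPair a0 b0 h0) = XX := by
  ext p
  constructor
  · rintro ⟨g, rfl⟩
    exact smul_mem_XX g _ (stdPair_mem a0 b0 h0)
  · intro hp
    obtain ⟨g, hg⟩ := exists_smul_eq h2 a0 b0 h0 p hp
    exact ⟨g, hg⟩

/-- an element fixing `A` under conjugation commutes with it -/
theorem comm_of_cj_eq (g : GL (Fin 2) F) (A : SL(2, F)) (h : cj g A = A) :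
    g.1 * A.1 = A.1 * g.1 := by
  have h1 := congrArg Subtype.val h
  rw [cj_val] at h1
  have e2 : (g⁻¹ : GL (Fin 2) F).1 * g.1 = 1 := by
    rw [← Units.val_mul, inv_mul_cancel, Units.val_one]
  calc g.1 * A.1 = g.1 * A.1 * ((g⁻¹ : GL (Fin 2) F).1 * g.1) := by rw [e2, Matrix.mul_one]
    _ = g.1 * A.1 * (g⁻¹ : GL (Fin 2) F).1 * g.1 := by simp only [Matrix.mul_assoc]
    _ = A.1 * g.1 := by rw [h1]

/-- scalar elements of `GL₂` -/
def scal (c : Fˣ) : GL (Fin 2) F :=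
  Units.map (Matrix.scalar (Fin 2) : F →+* Matrix (Fin 2) (Fin 2) F).toMonoidHom c

theorem scal_val (c : Fˣ) : (scal c).1 = Matrix.scalar (Fin 2) (c : F) := rfl

theorem scal_inv_val (c : Fˣ) :
    ((scal c)⁻¹ : GL (Fin 2) F).1 = Matrix.scalar (Fin 2) ((c⁻¹ : Fˣ) : F) := by
  rw [scal, ← map_inv]
  rfl

theorem cj_scal (c : Fˣ) (A : SL(2, F)) : cj (scal c) A = A := by
  apply Subtype.ext
  rw [cj_val, scal_val, scal_inv_val]
  rw [Matrix.scalar_commute (c : F) (fun r' => Commute.all _ _) A.1 |>.eq, Matrix.mul_assoc,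
    ← map_mul, Units.mul_inv, map_one, Matrix.mul_one]

theorem scal_injective : Function.Injective (scal : Fˣ → GL (Fin 2) F) := by
  intro c d h
  have h1 := congrArg (fun g : GL (Fin 2) F => g.1 0 0) h
  simp only [scal_val] at h1
  apply Units.ext
  simpa using h1

theorem stabilizer_card [Fintype F] (h2 : (2 : F) ≠ 0) (a0 b0 : F) (h0 : a0 ^ 2 + b0 ^ 2 = -1) :
    Nat.card (MulAction.stabilizer (GL (Fin 2) F) (stdPair a0 b0 h0)) = Fintype.card F - 1 := by
  classical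
  have hmem : ∀ c : Fˣ, scal c ∈ MulAction.stabilizer (GL (Fin 2) F) (stdPair a0 b0 h0) := by
    intro c
    rw [MulAction.mem_stabilizer_iff, smul_pair, cj_scal, cj_scal]
  let f : Fˣ → MulAction.stabilizer (GL (Fin 2) F) (stdPair a0 b0 h0) := fun c => ⟨scal c, hmem c⟩
  have hf : Function.Bijective f := by
    constructor
    · intro c d h
      apply scal_injective
      exact congrArg Subtype.val h
    · rintro ⟨g, hg⟩
      rw [MulAction.mem_stabilizer_iff, smul_pair] at hg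
      have hg1 : cj g (ww : SL(2, F)) = ww := congrArg Prod.fst hg
      have hg2 : cj g (sB a0 b0 h0) = sB a0 b0 h0 := congrArg Prod.snd hg
      have hc := centralizer_std h2 a0 b0 h0 g.1 (comm_of_cj_eq g _ hg1) (comm_of_cj_eq g _ hg2)
      have hne : g.1 0 0 ≠ 0 := by
        intro h
        rw [h, zero_smul] at hc
        have hdet : g.1.det ≠ 0 := by
          have := Matrix.GeneralLinearGroup.det_ne_zero g
          simpa using this
        apply hdet
        rw [hc, Matrix.det_zero]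
      refine ⟨Units.mk0 _ hne, ?_⟩
      apply Subtype.ext
      apply Units.ext
      change (scal (Units.mk0 _ hne)).1 = g.1
      rw [scal_val, Units.val_mk0, hc]
      ext i j
      fin_cases i <;> fin_cases j <;> simp
  rw [← Nat.card_congr (Equiv.ofBijective f hf), Nat.card_eq_fintype_card, Fintype.card_units]

/-- the number of admissible pairs -/
theorem card_XX [Fintype F] (h2 : (2 : F) ≠ 0) (a0 b0 : F) (h0 : a0 ^ 2 + b0 ^ 2 = -1) :
    (XX : Set (SL(2, F) × SL(2, F))).ncard * (Fintype.card F - 1) =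
      (Fintype.card F ^ 2 - 1) * (Fintype.card F ^ 2 - Fintype.card F) := by
  have h1 := Subgroup.card_mul_index (MulAction.stabilizer (GL (Fin 2) F) (stdPair a0 b0 h0))
  rw [MulAction.index_stabilizer, orbit_eq h2 a0 b0 h0, stabilizer_card h2 a0 b0 h0,
    Matrix.card_GL_field, Fin.prod_univ_two] at h1
  simp only [Fin.val_zero, pow_zero, Fin.val_one, pow_one] at h1
  rw [mul_comm, h1]

end Cfsg.Agent.Lead.KleinPSL
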