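import Mathlib
import Cfsg.Agent.Lead.KleinB
import Cfsg.Agent.Lead.DicksonSylTwo
import Cfsg.Agent.Helper8.SL2Order4
import Cfsg.Agent.Helper2.KleinSylow

set_option autoImplicit false

/-! Klein four-subgroups of `PSL₂(F)` and the admissible pairs of `SL₂(F)` lifting them. -/

namespace Cfsg.Agent.Lead.KleinPSL

open Matrix Cfsg.Agent.Lead.DicksonA Cfsg.Agent.Lead.DicksonB Cfsg.Agent.Lead.PSL2Sub
open Cfsg.Agent.Helper8.SL2C
open scoped MatrixGroups

section general

variable {P : Type*} [Group P]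

theorem isKleinFour_of_card_sq (H : Subgroup P)
    (hcard : Nat.card H = 4) (hsq : ∀ x ∈ H, x * x = 1) : IsKleinFour ↥H := by
  haveI : Finite ↥H := Nat.finite_of_card_ne_zero (by rw [hcard]; norm_num)
  haveI : Nontrivial ↥H := by
    rw [← Finite.one_lt_card_iff_nontrivial, hcard]; norm_num
  refine ⟨hcard, ?_⟩
  rw [Monoid.exponent_eq_prime_iff Nat.prime_two]
  intro g hg
  apply orderOf_eq_prime
  · rw [pow_two]
    exact Subtype.ext (hsq g g.2)
  · exact hg

/-- two distinct commuting involutions generate a four-group -/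
theorem exists_klein (a b : P) (ha : a * a = 1) (hb : b * b = 1) (hab : a * b = b * a)
    (ha1 : a ≠ 1) (hb1 : b ≠ 1) (hne : a ≠ b) :
    ∃ V : Subgroup P, IsKleinFour V ∧ ∀ x, x ∈ V ↔ x = 1 ∨ x = a ∨ x = b ∨ x = a * b := by
  classical
  have haa' : ∀ x, a * (a * x) = x := by intro x; rw [← mul_assoc, ha, one_mul]
  have hbb' : ∀ x, b * (b * x) = x := by intro x; rw [← mul_assoc, hb, one_mul]
  have hba : b * a = a * b := hab.symm
  have hba' : ∀ x, b * (a * x) = a * (b * x) := by
    intro x; rw [← mul_assoc, hba, mul_assoc]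
  have hainv : a⁻¹ = a := inv_eq_of_mul_eq_one_right ha
  have hbinv : b⁻¹ = b := inv_eq_of_mul_eq_one_right hb
  let V : Subgroup P :=
    { carrier := {x | x = 1 ∨ x = a ∨ x = b ∨ x = a * b}
      mul_mem' := by
        intro x y hx hy
        simp only [Set.mem_setOf_eq] at hx hy ⊢
        rcases hx with h | h | h | h <;> rcases hy with h' | h' | h' | h' <;> rw [h, h'] <;>
          simp [mul_assoc, ha, hb, haa', hbb', hba, hba']
      one_mem' := Or.inl rfl
      inv_mem' := by
        intro x hx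
        simp only [Set.mem_setOf_eq] at hx ⊢
        rcases hx with h | h | h | h <;> rw [h] <;>
          simp [hainv, hbinv, hba] }
  have hmem : ∀ x, x ∈ V ↔ x = 1 ∨ x = a ∨ x = b ∨ x = a * b := fun x => Iff.rfl
  have h1ab : a * b ≠ 1 := by
    intro h
    apply hne
    have := eq_inv_of_mul_eq_one_left h
    rw [this, hbinv]
  have haab : a ≠ a * b := by
    intro h
    apply hb1
    have : a * 1 = a * b := by rw [mul_one]; exact h
    exact (mul_left_cancel this).symm
  have hbab : b ≠ a * b := by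
    intro h
    apply ha1
    have : 1 * b = a * b := by rw [one_mul]; exact h
    exact (mul_right_cancel this).symm
  have hset : (V : Set P) = (({1, a, b, a * b} : Finset P) : Set P) := by
    ext x
    simp only [SetLike.mem_coe, hmem, Finset.coe_insert, Finset.coe_singleton,
      Set.mem_insert_iff, Set.mem_singleton_iff]
  have hcard : Nat.card V = 4 := by
    have hc : Nat.card V = Nat.card ↥(V : Set P) := rfl
    rw [hc, Nat.card_coe_set_eq, hset, Set.ncard_coe_finset]
    rw [Finset.card_insert_of_notMem, Finset.card_insert_of_notMem, Finset.card_insert_of_notMem,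
      Finset.card_singleton]
    · simp only [Finset.mem_singleton]; exact hbab
    · simp only [Finset.mem_insert, Finset.mem_singleton, not_or]; exact ⟨hne, haab⟩
    · simp only [Finset.mem_insert, Finset.mem_singleton, not_or]
      exact ⟨fun h => ha1 h.symm, fun h => hb1 h.symm, fun h => h1ab h.symm⟩
  refine ⟨V, isKleinFour_of_card_sq V hcard ?_, hmem⟩
  intro x hx
  rcases (hmem x).mp hx with h | h | h | h <;> rw [h]
  · simp
  · exact ha
  · exact hb
  · rw [mul_assoc, hba', hb, mul_one, ha]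

/-- the membership description of a four-group in terms of two of its involutions -/
theorem klein_mem_iff (V : Subgroup P) (hV : IsKleinFour V) {a b : P} (ha : a ∈ V) (hb : b ∈ V)
    (ha1 : a ≠ 1) (hb1 : b ≠ 1) (hne : a ≠ b) (x : P) :
    x ∈ V ↔ x = 1 ∨ x = a ∨ x = b ∨ x = a * b := by
  constructor
  · intro hx
    exact Cfsg.Agent.Helper2.klein_mem_cases V hV ha hb ha1 hb1 hne hx
  · rintro (h | h | h | h) <;> rw [h]
    · exact V.one_mem
    · exact ha
    · exact hb
    · exact V.mul_mem ha hb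

/-- two four-groups sharing two distinct involutions coincide -/
theorem klein_eq_of_mem (V W : Subgroup P) (hV : IsKleinFour V) (hW : IsKleinFour W) {a b : P}
    (ha : a ∈ V) (hb : b ∈ V) (ha' : a ∈ W) (hb' : b ∈ W)
    (ha1 : a ≠ 1) (hb1 : b ≠ 1) (hne : a ≠ b) : V = W := by
  ext x
  rw [klein_mem_iff V hV ha hb ha1 hb1 hne, klein_mem_iff W hW ha' hb' ha1 hb1 hne]

/-- ordered pairs of distinct involutions of a subgroup -/
def DD (V : Subgroup P) : Set (P × P) :=
  {p | p.1 ∈ V ∧ p.2 ∈ V ∧ p.1 ≠ 1 ∧ p.2 ≠ 1 ∧ p.1 ≠ p.2}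

theorem ncard_DD (V : Subgroup P) (hV : IsKleinFour V) : (DD V).ncard = 6 := by
  classical
  obtain ⟨a, b, ha, hb, ha1, hb1, hne⟩ := Cfsg.Agent.Helper2.klein_elements V hV
  have hmem := klein_mem_iff V hV ha hb ha1 hb1 hne
  have haa : a * a = 1 := Cfsg.Agent.Helper2.klein_mul_self V hV ha
  have hbb : b * b = 1 := Cfsg.Agent.Helper2.klein_mul_self V hV hb
  have hbinv : b⁻¹ = b := inv_eq_of_mul_eq_one_right hbb
  have h1ab : a * b ≠ 1 := by
    intro h
    apply hne
    have := eq_inv_of_mul_eq_one_left h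
    rw [this, hbinv]
  have haab : a ≠ a * b := by
    intro h
    apply hb1
    have : a * 1 = a * b := by rw [mul_one]; exact h
    exact (mul_left_cancel this).symm
  have hbab : b ≠ a * b := by
    intro h
    apply ha1
    have : 1 * b = a * b := by rw [one_mul]; exact h
    exact (mul_right_cancel this).symm
  let T : Finset P := {a, b, a * b}
  have hT : T.card = 3 := by
    rw [Finset.card_insert_of_notMem, Finset.card_insert_of_notMem, Finset.card_singleton]
    · simp only [Finset.mem_singleton]; exact hbab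
    · simp only [Finset.mem_insert, Finset.mem_singleton, not_or]; exact ⟨hne, haab⟩
  have hTmem : ∀ x, x ∈ T ↔ x ∈ V ∧ x ≠ 1 := by
    intro x
    simp only [T, Finset.mem_insert, Finset.mem_singleton, hmem]
    constructor
    · rintro (h | h | h)
      · exact ⟨Or.inr (Or.inl h), by rw [h]; exact ha1⟩
      · exact ⟨Or.inr (Or.inr (Or.inl h)), by rw [h]; exact hb1⟩
      · exact ⟨Or.inr (Or.inr (Or.inr h)), by rw [h]; exact h1ab⟩
    · rintro ⟨h | h | h | h, h1⟩
      · exact absurd h h1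
      · exact Or.inl h
      · exact Or.inr (Or.inl h)
      · exact Or.inr (Or.inr h)
  have hset : DD V = ((T.offDiag : Finset (P × P)) : Set (P × P)) := by
    ext p
    simp only [DD, Set.mem_setOf_eq, Finset.coe_offDiag, Set.mem_offDiag, Finset.mem_coe, hTmem]
    tauto
  rw [hset, Set.ncard_coe_finset, Finset.offDiag_card, hT]

end general

variable {F : Type*} [Field F]

local notation "PS" => Matrix.ProjectiveSpecialLinearGroup (Fin 2) F

theorem ne_neg_self (h2 : (2 : F) ≠ 0) (g : SL(2, F)) : g ≠ -g := by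
  intro h
  have hd := det_eq g
  have e : ∀ i j, g.1 i j = 0 := by
    intro i j
    have := congrArg (fun x : SL(2, F) => x.1 i j) h
    simp only [Matrix.SpecialLinearGroup.coe_neg, Matrix.neg_apply] at this
    have h3 : 2 * g.1 i j = 0 := by linear_combination this
    exact (mul_eq_zero.mp h3).resolve_left h2
  rw [e 0 0, e 0 1] at hd
  simp at hd

/-- the fibres of the projection have two elements -/
theorem card_fibre (h2 : (2 : F) ≠ 0) (a : PS) : Nat.card {g : SL(2, F) // pmk g = a} = 2 := by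
  classical
  obtain ⟨g0, rfl⟩ := pmk_surjective a
  have hset : {g : SL(2, F) | pmk g = pmk g0} = {g0, -g0} := by
    ext g
    simp only [Set.mem_setOf_eq, Set.mem_insert_iff, Set.mem_singleton_iff, pmk_eq_iff]
  change Nat.card ↥{g : SL(2, F) | pmk g = pmk g0} = 2
  rw [Nat.card_coe_set_eq, hset, Set.ncard_pair (ne_neg_self h2 g0)]

/-- counting the lifts of a set of pairs -/
theorem card_lifts [Finite F] (h2 : (2 : F) ≠ 0) (S : Set (PS × PS)) :
    Nat.card {p : SL(2, F) × SL(2, F) // (pmk p.1, pmk p.2) ∈ S} = 4 * S.ncard := by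
  classical
  haveI : Fintype F := Fintype.ofFinite F
  haveI : Fintype ↥S := Fintype.ofFinite _
  let f : SL(2, F) × SL(2, F) → PS × PS := fun p => (pmk p.1, pmk p.2)
  have e := Equiv.sigmaSubtypeFiberEquivSubtype f (p := fun p => f p ∈ S) (q := fun y => y ∈ S)
    (fun x => Iff.rfl)
  change Nat.card {p : SL(2, F) × SL(2, F) // f p ∈ S} = _
  rw [← Nat.card_congr e, Nat.card_sigma]
  have hfib : ∀ y : {y : PS × PS // y ∈ S},
      Nat.card {x : SL(2, F) × SL(2, F) // f x = y.1} = 4 := by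
    intro y
    have e2 : {x : SL(2, F) × SL(2, F) // f x = y.1} ≃
        {g : SL(2, F) // pmk g = y.1.1} × {g : SL(2, F) // pmk g = y.1.2} :=
      (Equiv.subtypeEquivRight (fun x => by
        change (pmk x.1, pmk x.2) = y.1 ↔ pmk x.1 = y.1.1 ∧ pmk x.2 = y.1.2
        exact Prod.ext_iff)).trans Equiv.subtypeProdEquivProd
    rw [Nat.card_congr e2, Nat.card_prod, card_fibre h2, card_fibre h2]
  rw [Finset.sum_congr rfl (fun y _ => hfib y), Finset.sum_const, Finset.card_univ, smul_eq_mul,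
    mul_comm, ← Nat.card_eq_fintype_card, Nat.card_coe_set_eq]

/-- the lifts of a four-group -/
def LL (V : Subgroup PS) : Set (SL(2, F) × SL(2, F)) :=
  {p | (pmk p.1, pmk p.2) ∈ DD V}

theorem ncard_LL [Finite F] (h2 : (2 : F) ≠ 0) (V : Subgroup PS) (hV : IsKleinFour V) :
    Nat.card ↥(LL V) = 24 := by
  have := card_lifts h2 (DD V)
  rw [ncard_DD V hV] at this
  exact this

/-- an element whose image is an involution has trace zero -/
theorem tr_of_invol (h2 : (2 : F) ≠ 0) (A : SL(2, F)) (h1 : pmk A ≠ 1)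
    (hsq : pmk A * pmk A = 1) : DicksonA.tr A = 0 := by
  rw [pmk_mul, pmk_eq_one_iff] at hsq
  rcases hsq with h | h
  · exfalso
    apply h1
    rw [pmk_eq_one_iff]
    exact Cfsg.Agent.Lead.DicksonSylTwo.sq_eq_one h2 A h
  · exact tr_eq_zero_of_sq h

theorem LL_subset_XX (h2 : (2 : F) ≠ 0) (V : Subgroup PS) (hV : IsKleinFour V)
    (p : SL(2, F) × SL(2, F)) (hp : p ∈ LL V) : p ∈ XX := by
  obtain ⟨ha, hb, ha1, hb1, hne⟩ := hp
  simp only at ha hb ha1 hb1 hne
  have haa := Cfsg.Agent.Helper2.klein_mul_self V hV ha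
  have hbb := Cfsg.Agent.Helper2.klein_mul_self V hV hb
  have hab : pmk p.1 * pmk p.2 ∈ V := V.mul_mem ha hb
  have hab2 := Cfsg.Agent.Helper2.klein_mul_self V hV hab
  have hab1 : pmk p.1 * pmk p.2 ≠ 1 := by
    intro h
    apply hne
    have := eq_inv_of_mul_eq_one_left h
    rw [this, inv_eq_of_mul_eq_one_right hbb]
  refine ⟨tr_of_invol h2 p.1 ha1 haa, tr_of_invol h2 p.2 hb1 hbb, ?_⟩
  rw [pmk_mul] at hab1 hab2
  exact tr_of_invol h2 (p.1 * p.2) hab1 hab2

/-- the images of an admissible pair -/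
theorem pair_props (h2 : (2 : F) ≠ 0) (p : SL(2, F) × SL(2, F)) (hp : p ∈ XX) :
    pmk p.1 * pmk p.1 = 1 ∧ pmk p.2 * pmk p.2 = 1 ∧ pmk p.1 * pmk p.2 = pmk p.2 * pmk p.1 ∧
      pmk p.1 ≠ 1 ∧ pmk p.2 ≠ 1 ∧ pmk p.1 ≠ pmk p.2 := by
  obtain ⟨hA, hB, hAB⟩ := hp
  have e1 : p.1 * p.1 = -1 := by
    have := pow_two_of_tr p.1 hA
    rwa [pow_two] at this
  have e2 : p.2 * p.2 = -1 := by
    have := pow_two_of_tr p.2 hB
    rwa [pow_two] at this
  have e3 : p.1 * p.2 = -(p.2 * p.1) := by
    apply Subtype.ext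
    rw [Matrix.SpecialLinearGroup.coe_neg, Matrix.SpecialLinearGroup.coe_mul,
      Matrix.SpecialLinearGroup.coe_mul]
    exact anticomm_of_tr p.1 p.2 hA hB hAB
  have hm1 : pmk (-1 : SL(2, F)) = 1 := by
    rw [pmk_eq_one_iff]; exact Or.inr rfl
  have ntr : ∀ g : SL(2, F), DicksonA.tr g = 0 → pmk g ≠ 1 := by
    intro g hg h
    rw [pmk_eq_one_iff] at h
    rcases h with h | h
    · rw [h] at hg
      simp [DicksonA.tr] at hg
      apply h2
      linear_combination hg
    · rw [h] at hg
      simp [DicksonA.tr] at hg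
      apply h2
      linear_combination -hg
  refine ⟨?_, ?_, ?_, ntr _ hA, ntr _ hB, ?_⟩
  · rw [pmk_mul, e1, hm1]
  · rw [pmk_mul, e2, hm1]
  · rw [pmk_mul, pmk_mul, e3, pmk_neg]
  · intro h
    rw [pmk_eq_iff] at h
    have hAB' := hAB
    rcases h with h | h
    · rw [h, e2] at hAB'
      simp [DicksonA.tr] at hAB'
      apply h2
      linear_combination -hAB'
    · rw [h, Cfsg.Agent.Helper8.SL2C.neg_mul', e2, neg_neg] at hAB'
      simp [DicksonA.tr] at hAB'
      apply h2
      linear_combination hAB'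

/-- the number of admissible pairs is `24` times the number of four-groups -/
theorem ncard_XX_eq [Finite F] (h2 : (2 : F) ≠ 0) :
    (XX : Set (SL(2, F) × SL(2, F))).ncard =
      24 * Nat.card {V : Subgroup PS // IsKleinFour V} := by
  classical
  haveI : Fintype F := Fintype.ofFinite F
  haveI : Fintype {V : Subgroup PS // IsKleinFour V} := Fintype.ofFinite _
  let Φ : (Σ V : {V : Subgroup PS // IsKleinFour V}, {p : SL(2, F) × SL(2, F) // p ∈ LL V.1}) →
      {p : SL(2, F) × SL(2, F) // p ∈ XX} :=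
    fun x => ⟨x.2.1, LL_subset_XX h2 x.1.1 x.1.2 x.2.1 x.2.2⟩
  have hΦ : Function.Bijective Φ := by
    constructor
    · rintro ⟨⟨V, hV⟩, ⟨p, hp⟩⟩ ⟨⟨W, hW⟩, ⟨p', hp'⟩⟩ h
      have hpp : p = p' := congrArg Subtype.val h
      subst hpp
      have hVW : V = W := by
        obtain ⟨ha, hb, ha1, hb1, hne⟩ := hp
        obtain ⟨ha', hb', -, -, -⟩ := hp'
        exact klein_eq_of_mem V W hV hW ha hb ha' hb' ha1 hb1 hne
      subst hVW
      rfl
    · rintro ⟨p, hp⟩
      obtain ⟨haa, hbb, hab, ha1, hb1, hne⟩ := pair_props h2 p hp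
      obtain ⟨V, hV, hmem⟩ := exists_klein (pmk p.1) (pmk p.2) haa hbb hab ha1 hb1 hne
      refine ⟨⟨⟨V, hV⟩, ⟨p, ?_⟩⟩, rfl⟩
      exact ⟨(hmem _).mpr (Or.inr (Or.inl rfl)), (hmem _).mpr (Or.inr (Or.inr (Or.inl rfl))),
        ha1, hb1, hne⟩
  rw [← Nat.card_coe_set_eq, ← Nat.card_congr (Equiv.ofBijective Φ hΦ), Nat.card_sigma]
  rw [Finset.sum_congr rfl (fun V _ => ncard_LL h2 V.1 V.2), Finset.sum_const, Finset.card_univ,
    smul_eq_mul, mul_comm, Nat.card_eq_fintype_card]

end Cfsg.Agent.Lead.KleinPSL
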