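import Mathlib
import Cfsg.Agent.Lead.KleinC
import Cfsg.Agent.Lead.PSL2SubB

set_option autoImplicit false

/-! The number of Klein four-subgroups of `PSL₂(q)`, `q` odd. -/

namespace Cfsg.Agent.Lead.KleinPSL

open Matrix Cfsg.Agent.Lead.DicksonA Cfsg.Agent.Lead.DicksonB Cfsg.Agent.Lead.PSL2Sub
open scoped MatrixGroups

variable {F : Type*} [Field F] [Fintype F]

theorem two_ne_zero_of_odd (hodd : Odd (Fintype.card F)) : (2 : F) ≠ 0 := by
  intro h
  have h2 : ringChar F = 2 := by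
    have : ((2 : ℕ) : F) = 0 := by exact_mod_cast h
    have hd := (ringChar.spec F 2).mp this
    have hp := CharP.char_is_prime F (ringChar F)
    exact (Nat.prime_dvd_prime_iff_eq hp Nat.prime_two).mp hd
  have := FiniteField.even_card_of_char_two h2
  have h3 := Nat.odd_iff.mp hodd
  omega

theorem exists_sq_add_sq (hodd : Odd (Fintype.card F)) : ∃ a b : F, a ^ 2 + b ^ 2 = -1 := by
  have hf : (Polynomial.X ^ 2 : Polynomial F).degree = 2 := by compute_degree!
  have hg : (Polynomial.X ^ 2 + 1 : Polynomial F).degree = 2 := by compute_degree!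
  obtain ⟨x, z, hxz⟩ := FiniteField.exists_root_sum_quadratic hf hg (Nat.odd_iff.mp hodd)
  refine ⟨x, z, ?_⟩
  simp only [Polynomial.eval_add, Polynomial.eval_pow, Polynomial.eval_X, Polynomial.eval_one]
    at hxz
  linear_combination hxz

theorem s0807 {q : ℕ} (hF : Fintype.card F = q) (hodd : Odd q) :
    12 * Nat.card {V : Subgroup (Matrix.ProjectiveSpecialLinearGroup (Fin 2) F) // IsKleinFour V} =
      Nat.card (Matrix.ProjectiveSpecialLinearGroup (Fin 2) F) := by
  subst hF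
  have h2 := two_ne_zero_of_odd hodd
  obtain ⟨a0, b0, h0⟩ := exists_sq_add_sq hodd
  have h1 := card_XX h2 a0 b0 h0
  rw [ncard_XX_eq h2] at h1
  have h3 := card_mul (F := F) rfl
  obtain ⟨k, hk⟩ : ∃ k, k = Fintype.card F := ⟨_, rfl⟩
  rw [← hk] at h1 h3 hodd
  have hk2 : 2 ≤ k := by rw [hk]; exact Fintype.one_lt_card
  obtain ⟨e, rfl⟩ := hodd
  have hg : Nat.gcd 2 (2 * e + 1 - 1) = 2 := by
    rw [Nat.add_sub_cancel]; exact Nat.gcd_mul_right_right e 2
  rw [hg] at h3
  set N := Nat.card {V : Subgroup (Matrix.ProjectiveSpecialLinearGroup (Fin 2) F) // IsKleinFour V}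
  set M := Nat.card (Matrix.ProjectiveSpecialLinearGroup (Fin 2) F)
  have e1 : (2 * e + 1) ^ 2 - (2 * e + 1) = (2 * e + 1) * (2 * e) := by
    apply Nat.sub_eq_of_eq_add; ring
  rw [e1, Nat.add_sub_cancel] at h1
  have he : 0 < 2 * e := by omega
  have h4 : 24 * N = ((2 * e + 1) ^ 2 - 1) * (2 * e + 1) := by
    apply Nat.eq_of_mul_eq_mul_right he
    rw [h1]; ring
  have h5 : 2 * (12 * N) = 2 * M := by
    rw [h3, ← mul_assoc, show 2 * 12 = 24 from rfl, h4]; ring
  exact Nat.eq_of_mul_eq_mul_left (by norm_num) h5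

end Cfsg.Agent.Lead.KleinPSL
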