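import Mathlib
import Cfsg.Agent.Lead.KleinD

set_option autoImplicit false

/-! Conjugacy of Klein four-subgroups of `PSL₂(q)`: auxiliary lemmas. -/

namespace Cfsg.Agent.Lead.KleinPSL

open Matrix Cfsg.Agent.Lead.DicksonA Cfsg.Agent.Lead.DicksonB Cfsg.Agent.Lead.PSL2Sub
open Cfsg.Agent.Helper8.SL2C
open scoped MatrixGroups

section general

variable {P : Type*} [Group P]

theorem isKleinFour_map (V : Subgroup P) (hV : IsKleinFour V) (g : P) :
    IsKleinFour (V.map (MulAut.conj g).toMonoidHom) := by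
  apply isKleinFour_of_card_sq
  · rw [Subgroup.card_map_of_injective (MulAut.conj g).injective]
    exact hV.card_four
  · rintro x ⟨y, hy, rfl⟩
    have := Cfsg.Agent.Helper2.klein_mul_self V hV hy
    change (MulAut.conj g) y * (MulAut.conj g) y = 1
    rw [← map_mul, this, map_one]

/-- a conjugating element carrying two involutions of `V` into `W` carries `V` onto `W` -/
theorem conj_klein (V W : Subgroup P) (hV : IsKleinFour V) (hW : IsKleinFour W) {a b : P}
    (ha : a ∈ V) (hb : b ∈ V) (ha1 : a ≠ 1) (hb1 : b ≠ 1) (hne : a ≠ b) (g : P)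
    (hga : g * a * g⁻¹ ∈ W) (hgb : g * b * g⁻¹ ∈ W) :
    W = V.map (MulAut.conj g).toMonoidHom := by
  have hK := isKleinFour_map V hV g
  apply klein_eq_of_mem W _ hW hK hga hgb
  · exact ⟨a, ha, by simp [MulAut.conj_apply]⟩
  · exact ⟨b, hb, by simp [MulAut.conj_apply]⟩
  · intro h
    apply ha1
    have : g * a * g⁻¹ = g * 1 * g⁻¹ := by rw [h]; simp
    exact mul_left_cancel (mul_right_cancel this)
  · intro h
    apply hb1
    have : g * b * g⁻¹ = g * 1 * g⁻¹ := by rw [h]; simp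
    exact mul_left_cancel (mul_right_cancel this)
  · intro h
    apply hne
    exact mul_left_cancel (mul_right_cancel h)

end general

variable {F : Type*} [Field F]

local notation "PS" => Matrix.ProjectiveSpecialLinearGroup (Fin 2) F

attribute [local instance] conjAction

/-- a matrix of square determinant is proportional to an element of `SL₂` -/
theorem sl_of_sq (g : Matrix (Fin 2) (Fin 2) F) (c : F) (hc0 : c ≠ 0) (hc : g.det = c * c) :
    ∃ s : SL(2, F), s.1 = c⁻¹ • g := by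
  refine ⟨⟨c⁻¹ • g, ?_⟩, rfl⟩
  rw [Matrix.det_smul, hc, Fintype.card_fin]
  field_simp

theorem conj_of_intertwine (s : SL(2, F)) (k : F) (g : Matrix (Fin 2) (Fin 2) F)
    (hs : s.1 = k • g) (A A' : SL(2, F)) (h : g * A.1 = A'.1 * g) : s * A * s⁻¹ = A' := by
  rw [mul_inv_eq_iff_eq_mul]
  apply Subtype.ext
  rw [Matrix.SpecialLinearGroup.coe_mul, Matrix.SpecialLinearGroup.coe_mul, hs,
    Matrix.smul_mul, h, Matrix.mul_smul]

theorem intertwine_of_cj (g : GL (Fin 2) F) (A A' : SL(2, F)) (h : cj g A = A') :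
    g.1 * A.1 = A'.1 * g.1 := by
  have h1 := congrArg Subtype.val h
  rw [cj_val] at h1
  have e2 : (g⁻¹ : GL (Fin 2) F).1 * g.1 = 1 := by
    rw [← Units.val_mul, inv_mul_cancel, Units.val_one]
  calc g.1 * A.1 = g.1 * A.1 * ((g⁻¹ : GL (Fin 2) F).1 * g.1) := by rw [e2, Matrix.mul_one]
    _ = g.1 * A.1 * (g⁻¹ : GL (Fin 2) F).1 * g.1 := by simp only [Matrix.mul_assoc]
    _ = A'.1 * g.1 := by rw [h1]

/-- any two admissible pairs are related by an invertible matrix -/
theorem exists_intertwiner (h2 : (2 : F) ≠ 0) (a0 b0 : F) (h0 : a0 ^ 2 + b0 ^ 2 = -1)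
    (p p' : SL(2, F) × SL(2, F)) (hp : p ∈ XX) (hp' : p' ∈ XX) :
    ∃ g : Matrix (Fin 2) (Fin 2) F, g.det ≠ 0 ∧ g * p.1.1 = p'.1.1 * g ∧
      g * p.2.1 = p'.2.1 * g := by
  obtain ⟨g1, hg1⟩ := exists_smul_eq h2 a0 b0 h0 p hp
  obtain ⟨g2, hg2⟩ := exists_smul_eq h2 a0 b0 h0 p' hp'
  have h : (g2 * g1⁻¹) • p = p' := by
    rw [← hg1, mul_smul, inv_smul_smul, hg2]
  rw [smul_pair] at h
  have hdet : (g2 * g1⁻¹ : GL (Fin 2) F).1.det ≠ 0 := by
    have := Matrix.GeneralLinearGroup.det_ne_zero (g2 * g1⁻¹)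
    simpa using this
  exact ⟨(g2 * g1⁻¹ : GL (Fin 2) F).1, hdet,
    intertwine_of_cj _ _ _ (congrArg Prod.fst h), intertwine_of_cj _ _ _ (congrArg Prod.snd h)⟩

/-- the product of two non-squares is a square -/
theorem isSquare_mul_of_not [Fintype F] (x y : F) (hx : ¬ IsSquare x) (hy : ¬ IsSquare y) :
    IsSquare (x * y) := by
  classical
  have hx0 : x ≠ 0 := by rintro rfl; exact hx IsSquare.zero
  have hy0 : y ≠ 0 := by rintro rfl; exact hy IsSquare.zero
  rw [← quadraticChar_one_iff_isSquare (mul_ne_zero hx0 hy0), map_mul,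
    quadraticChar_neg_one_iff_not_isSquare.mpr hx, quadraticChar_neg_one_iff_not_isSquare.mpr hy]
  norm_num

theorem det_add_of_tr (A B : SL(2, F)) (hA : DicksonA.tr A = 0) (hB : DicksonA.tr B = 0)
    (hAB : DicksonA.tr (A * B) = 0) : (A.1 + B.1).det = 2 := by
  have hdA := det_eq A
  have hdB := det_eq B
  unfold DicksonA.tr at hA hB hAB
  rw [mul_00, mul_11] at hAB
  rw [Matrix.det_fin_two]
  simp only [Matrix.add_apply]
  linear_combination hdA + hdB + (B.1 0 0 + B.1 1 1) * hA - hAB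

theorem swap_intertwine (A B : SL(2, F)) (hA : DicksonA.tr A = 0) (hB : DicksonA.tr B = 0) :
    (A.1 + B.1) * B.1 = A.1 * (A.1 + B.1) ∧ (A.1 + B.1) * A.1 = B.1 * (A.1 + B.1) := by
  have hAA := sq_of_tr A hA
  have hBB := sq_of_tr B hB
  constructor
  · rw [add_mul, mul_add, hAA, hBB]; abel
  · rw [add_mul, mul_add, hAA, hBB]; abel

theorem det_one_add_of_tr (A : SL(2, F)) (hA : DicksonA.tr A = 0) : (1 + A.1).det = 2 := by
  have hdA := det_eq A
  unfold DicksonA.tr at hA
  rw [Matrix.det_fin_two]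
  simp only [Matrix.add_apply, Matrix.one_apply_eq, ne_eq, zero_ne_one, not_false_eq_true,
    Matrix.one_apply_ne, one_ne_zero, zero_add]
  linear_combination hdA + hA

theorem one_add_intertwine (A B : SL(2, F)) (hA : DicksonA.tr A = 0) (hB : DicksonA.tr B = 0)
    (hAB : DicksonA.tr (A * B) = 0) :
    (1 + A.1) * A.1 = A.1 * (1 + A.1) ∧ (1 + A.1) * B.1 = (A * B).1 * (1 + A.1) := by
  have hAA := sq_of_tr A hA
  have hanti := anticomm_of_tr A B hA hB hAB
  constructor
  · rw [add_mul, mul_add, one_mul, mul_one]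
  · rw [Matrix.SpecialLinearGroup.coe_mul, add_mul, mul_add, one_mul, mul_one]
    have : A.1 * B.1 * A.1 = B.1 := by
      rw [Matrix.mul_assoc, show B.1 * A.1 = -(A.1 * B.1) by rw [hanti, neg_neg], Matrix.mul_neg,
        ← Matrix.mul_assoc, hAA]
      simp
    rw [this, add_comm]

/-- the first move: conjugation fixing the first involution and moving the second to the
product -/
theorem move_alpha [Fintype F] (h2 : (2 : F) ≠ 0) (r : F) (hr : r * r = 2)
    (V : Subgroup PS) (hV : IsKleinFour V) (u v : PS) (huv : (u, v) ∈ DD V) :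
    ∃ t : PS, t * u * t⁻¹ = u ∧ t * v * t⁻¹ = u * v := by
  obtain ⟨A, rfl⟩ := pmk_surjective u
  obtain ⟨B, rfl⟩ := pmk_surjective v
  have hp : (A, B) ∈ LL V := huv
  obtain ⟨hA, hB, hAB⟩ := LL_subset_XX h2 V hV (A, B) hp
  simp only at hA hB hAB
  have hr0 : r ≠ 0 := by
    rintro rfl
    apply h2
    rw [← hr]; ring
  obtain ⟨s, hs⟩ := sl_of_sq (1 + A.1) r hr0 (by rw [det_one_add_of_tr A hA, hr])
  obtain ⟨i1, i2⟩ := one_add_intertwine A B hA hB hAB
  refine ⟨pmk s, ?_, ?_⟩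
  · rw [pmk_mul, pmk_inv, pmk_mul, conj_of_intertwine s _ _ hs A A i1]
  · rw [pmk_mul, pmk_inv, pmk_mul, pmk_mul, conj_of_intertwine s _ _ hs B (A * B) i2]

end Cfsg.Agent.Lead.KleinPSL
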