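import Mathlib
import Cfsg.Agent.Lead.KleinE

set_option autoImplicit false

/-! Conjugacy of Klein four-subgroups of `PSL₂(q)`: pairs in one four-group, and matrices
normalising the standard pair up to signs. -/

namespace Cfsg.Agent.Lead.KleinPSL

open Matrix Cfsg.Agent.Lead.DicksonA Cfsg.Agent.Lead.DicksonB Cfsg.Agent.Lead.PSL2Sub
open Cfsg.Agent.Helper8.SL2C
open scoped MatrixGroups

section general

variable {P : Type*} [Group P]

/-- simultaneous conjugacy of two pairs -/
def Rp (u v u' v' : P) : Prop := ∃ t : P, t * u * t⁻¹ = u' ∧ t * v * t⁻¹ = v'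

theorem Rp_refl (u v : P) : Rp u v u v := ⟨1, by simp, by simp⟩

theorem Rp_trans {u v u' v' u'' v'' : P} (h1 : Rp u v u' v') (h2 : Rp u' v' u'' v'') :
    Rp u v u'' v'' := by
  obtain ⟨t1, a1, b1⟩ := h1
  obtain ⟨t2, a2, b2⟩ := h2
  refine ⟨t2 * t1, ?_, ?_⟩
  · rw [← a2, ← a1]; group
  · rw [← b2, ← b1]; group

theorem DD_facts (V : Subgroup P) (hV : IsKleinFour V) {u v : P} (h : (u, v) ∈ DD V) :
    u * u = 1 ∧ v * v = 1 ∧ u * v = v * u ∧ (u, u * v) ∈ DD V ∧ (v, u) ∈ DD V ∧
      (u * v, v) ∈ DD V := by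
  obtain ⟨hu, hv, hu1, hv1, hne⟩ := h
  simp only at hu hv hu1 hv1 hne
  have huu := Cfsg.Agent.Helper2.klein_mul_self V hV hu
  have hvv := Cfsg.Agent.Helper2.klein_mul_self V hV hv
  have hc := Cfsg.Agent.Helper2.klein_comm V hV hu hv
  have huv1 : u * v ≠ 1 := by
    intro h
    apply hne
    have := eq_inv_of_mul_eq_one_left h
    rw [this, inv_eq_of_mul_eq_one_right hvv]
  have h1 : u ≠ u * v := by
    intro h
    apply hv1
    have : u * 1 = u * v := by rw [mul_one]; exact h
    exact (mul_left_cancel this).symm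
  have h2 : u * v ≠ v := by
    intro h
    apply hu1
    have : u * v = 1 * v := by rw [one_mul]; exact h
    exact mul_right_cancel this
  exact ⟨huu, hvv, hc, ⟨hu, V.mul_mem hu hv, hu1, huv1, h1⟩, ⟨hv, hu, hv1, hu1, fun h => hne h.symm⟩,
    ⟨V.mul_mem hu hv, hv, huv1, hv1, h2⟩⟩

/-- if every pair can be moved by the first move, all pairs in a four-group are conjugate -/
theorem klein_pairs_conj (V : Subgroup P) (hV : IsKleinFour V)
    (hα : ∀ u v : P, (u, v) ∈ DD V → Rp u v u (u * v))
    {u v u' v' : P} (h : (u, v) ∈ DD V) (h' : (u', v') ∈ DD V) : Rp u v u' v' := by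
  have hβ : ∀ u v : P, (u, v) ∈ DD V → Rp u v (u * v) v := by
    intro u v h
    obtain ⟨-, -, hc, -, hs, -⟩ := DD_facts V hV h
    obtain ⟨t, h1, h2⟩ := hα v u hs
    exact ⟨t, by rw [h2, hc], h1⟩
  obtain ⟨huu, hvv, hc, d1, d2, d3⟩ := DD_facts V hV h
  have e1 : u * (u * v) = v := by rw [← mul_assoc, huu, one_mul]
  have e2 : v * (u * v) = u := by rw [← mul_assoc, ← hc, mul_assoc, hvv, mul_one]
  -- the chain of reachable pairs
  have r1 : Rp u v u (u * v) := hα u v h
  have r2 : Rp u v v (u * v) := by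
    have := hβ u (u * v) d1
    rw [e1] at this
    exact Rp_trans r1 this
  have d4 : (v, u * v) ∈ DD V := by
    obtain ⟨-, -, -, d, -, -⟩ := DD_facts V hV d2
    rw [← hc] at d
    exact d
  have r3 : Rp u v v u := by
    have := hα v (u * v) d4
    rw [e2] at this
    exact Rp_trans r2 this
  have r4 : Rp u v (u * v) u := by
    have := hβ v u d2
    rw [← hc] at this
    exact Rp_trans r3 this
  have r5 : Rp u v (u * v) v := hβ u v h
  obtain ⟨hu', hv', hu1', hv1', hne'⟩ := h'
  simp only at hu' hv' hu1' hv1' hne'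
  have hmem := klein_mem_iff V hV h.1 h.2.1 h.2.2.1 h.2.2.2.1 h.2.2.2.2
  rcases (hmem u').mp hu' with k | k | k | k
  · exact absurd k hu1'
  · rcases (hmem v').mp hv' with l | l | l | l
    · exact absurd l hv1'
    · exact absurd (k.trans l.symm) hne'
    · rw [k, l]; exact Rp_refl u v
    · rw [k, l]; exact r1
  · rcases (hmem v').mp hv' with l | l | l | l
    · exact absurd l hv1'
    · rw [k, l]; exact r3
    · exact absurd (k.trans l.symm) hne'
    · rw [k, l]; exact r2
  · rcases (hmem v').mp hv' with l | l | l | l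
    · exact absurd l hv1'
    · rw [k, l]; exact r4
    · rw [k, l]; exact r5
    · exact absurd (k.trans l.symm) hne'

end general

section ring

variable {R : Type*} [Ring R]

/-- an element commuting or anticommuting with two anticommuting square roots of `-1`
becomes central for them after multiplication by a suitable product -/
theorem sign_fix (a b n : R) (haa : a * a = -1) (hbb : b * b = -1) (hab : a * b = -(b * a))
    (h1 : n * a = a * n ∨ n * a = -(a * n)) (h2 : n * b = b * n ∨ n * b = -(b * n)) :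
    ∃ y : R, (y = 1 ∨ y = a ∨ y = b ∨ y = a * b) ∧ (n * y) * a = a * (n * y) ∧
      (n * y) * b = b * (n * y) := by
  have hba : b * a = -(a * b) := by rw [hab, neg_neg]
  have haa' : ∀ x : R, a * (a * x) = -x := by intro x; rw [← mul_assoc, haa]; simp
  have hbb' : ∀ x : R, b * (b * x) = -x := by intro x; rw [← mul_assoc, hbb]; simp
  have hba' : ∀ x : R, b * (a * x) = -(a * (b * x)) := by
    intro x; rw [← mul_assoc, hba, neg_mul, mul_assoc]
  rcases h1 with h1 | h1 <;> rcases h2 with h2 | h2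
  · exact ⟨1, Or.inl rfl, by simpa using h1, by simpa using h2⟩
  · -- commutes with a, anticommutes with b: multiply by a
    have k1 : a * n = n * a := h1.symm
    have k2 : b * n = -(n * b) := by rw [h2, neg_neg]
    have k1' : ∀ x : R, a * (n * x) = n * (a * x) := by intro x; rw [← mul_assoc, k1, mul_assoc]
    have k2' : ∀ x : R, b * (n * x) = -(n * (b * x)) := by
      intro x; rw [← mul_assoc, k2, neg_mul, mul_assoc]
    refine ⟨a, Or.inr (Or.inl rfl), ?_, ?_⟩
    · simp only [mul_assoc, k1', haa, haa']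
    · simp only [mul_assoc, k2', hba, mul_neg, neg_neg]
  · -- anticommutes with a, commutes with b: multiply by b
    have k1 : a * n = -(n * a) := by rw [h1, neg_neg]
    have k2 : b * n = n * b := h2.symm
    have k1' : ∀ x : R, a * (n * x) = -(n * (a * x)) := by
      intro x; rw [← mul_assoc, k1, neg_mul, mul_assoc]
    have k2' : ∀ x : R, b * (n * x) = n * (b * x) := by intro x; rw [← mul_assoc, k2, mul_assoc]
    refine ⟨b, Or.inr (Or.inr (Or.inl rfl)), ?_, ?_⟩
    · simp only [mul_assoc, k1', hba, mul_neg]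
    · simp only [mul_assoc, k2', hbb, hbb']
  · have k1 : a * n = -(n * a) := by rw [h1, neg_neg]
    have k2 : b * n = -(n * b) := by rw [h2, neg_neg]
    have k1' : ∀ x : R, a * (n * x) = -(n * (a * x)) := by
      intro x; rw [← mul_assoc, k1, neg_mul, mul_assoc]
    have k2' : ∀ x : R, b * (n * x) = -(n * (b * x)) := by
      intro x; rw [← mul_assoc, k2, neg_mul, mul_assoc]
    refine ⟨a * b, Or.inr (Or.inr (Or.inr rfl)), ?_, ?_⟩
    · simp only [mul_assoc, k1', hba, haa, haa', mul_neg, neg_neg, neg_mul, mul_one]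
    · simp only [mul_assoc, k2', hba', hbb, hbb', mul_neg, neg_neg, neg_mul, mul_one]

end ring

variable {F : Type*} [Field F]

/-- a matrix normalising the standard pair up to signs has square determinant -/
theorem det_sq_of_sign_normalize (h2 : (2 : F) ≠ 0) (a0 b0 : F) (h0 : a0 ^ 2 + b0 ^ 2 = -1)
    (n : Matrix (Fin 2) (Fin 2) F)
    (h1 : n * (ww : SL(2, F)).1 = (ww : SL(2, F)).1 * n ∨
      n * (ww : SL(2, F)).1 = -((ww : SL(2, F)).1 * n))
    (h3 : n * (sB a0 b0 h0).1 = (sB a0 b0 h0).1 * n ∨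
      n * (sB a0 b0 h0).1 = -((sB a0 b0 h0).1 * n)) :
    ∃ c : F, n.det = c * c := by
  have hp := stdPair_mem a0 b0 h0
  obtain ⟨hA, hB, hAB⟩ := hp
  simp only [stdPair] at hA hB hAB
  obtain ⟨y, hy, c1, c2⟩ := sign_fix (ww : SL(2, F)).1 (sB a0 b0 h0).1 n (sq_of_tr _ hA)
    (sq_of_tr _ hB) (anticomm_of_tr _ _ hA hB hAB) h1 h3
  have hc := centralizer_std h2 a0 b0 h0 (n * y) c1 c2
  have hdy : y.det = 1 := by
    rcases hy with h | h | h | h <;> rw [h]
    · exact Matrix.det_one
    · exact (ww : SL(2, F)).2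
    · exact (sB a0 b0 h0).2
    · rw [Matrix.det_mul, (ww : SL(2, F)).2, (sB a0 b0 h0).2, mul_one]
  refine ⟨(n * y) 0 0, ?_⟩
  have := congrArg Matrix.det hc
  rw [Matrix.det_mul, hdy, mul_one, Matrix.det_smul, Matrix.det_one, Fintype.card_fin] at this
  rw [this]; ring

end Cfsg.Agent.Lead.KleinPSL
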