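import Mathlib
import Cfsg.Agent.Lead.KleinF

set_option autoImplicit false

/-! Conjugacy classes of Klein four-subgroups of `PSL₂(q)`, `q` odd. -/

namespace Cfsg.Agent.Lead.KleinPSL

open Matrix Cfsg.Agent.Lead.DicksonA Cfsg.Agent.Lead.DicksonB Cfsg.Agent.Lead.PSL2Sub
open Cfsg.Agent.Helper8.SL2C
open scoped MatrixGroups

variable {F : Type*} [Field F]

local notation "PS" => Matrix.ProjectiveSpecialLinearGroup (Fin 2) F

attribute [local instance] conjAction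

theorem conj_of_square (V W : Subgroup PS) (hV : IsKleinFour V) (hW : IsKleinFour W)
    (p : SL(2, F) × SL(2, F)) (hp : p ∈ LL V) (q1 q2 : SL(2, F)) (hq1 : pmk q1 ∈ W)
    (hq2 : pmk q2 ∈ W) (g : Matrix (Fin 2) (Fin 2) F) (c : F) (hc0 : c ≠ 0)
    (hc : g.det = c * c) (i1 : g * p.1.1 = q1.1 * g) (i2 : g * p.2.1 = q2.1 * g) :
    ∃ t : PS, W = V.map (MulAut.conj t).toMonoidHom := by
  obtain ⟨s, hs⟩ := sl_of_sq g c hc0 hc
  have e1 := conj_of_intertwine s _ _ hs p.1 q1 i1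
  have e2 := conj_of_intertwine s _ _ hs p.2 q2 i2
  obtain ⟨ha, hb, ha1, hb1, hne⟩ := hp
  simp only at ha hb ha1 hb1 hne
  refine ⟨pmk s, conj_klein V W hV hW ha hb ha1 hb1 hne (pmk s) ?_ ?_⟩
  · rw [pmk_mul, pmk_inv, pmk_mul, e1]; exact hq1
  · rw [pmk_mul, pmk_inv, pmk_mul, e2]; exact hq2

theorem exists_lift (V : Subgroup PS) (hV : IsKleinFour V) :
    ∃ p : SL(2, F) × SL(2, F), p ∈ LL V := by
  obtain ⟨a, b, ha, hb, ha1, hb1, hne⟩ := Cfsg.Agent.Helper2.klein_elements V hV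
  obtain ⟨A, rfl⟩ := pmk_surjective a
  obtain ⟨B, rfl⟩ := pmk_surjective b
  exact ⟨(A, B), ha, hb, ha1, hb1, hne⟩

/-- if `2` is not a square, all four-groups are conjugate -/
theorem all_conj [Fintype F] (hodd : Odd (Fintype.card F)) (h2sq : ¬ IsSquare (2 : F))
    (V W : Subgroup PS) (hV : IsKleinFour V) (hW : IsKleinFour W) :
    ∃ t : PS, W = V.map (MulAut.conj t).toMonoidHom := by
  have h2 := two_ne_zero_of_odd hodd
  obtain ⟨a0, b0, h0⟩ := exists_sq_add_sq hodd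
  obtain ⟨p, hp⟩ := exists_lift V hV
  obtain ⟨p', hp'⟩ := exists_lift W hW
  have hX := LL_subset_XX h2 V hV p hp
  have hX' := LL_subset_XX h2 W hW p' hp'
  obtain ⟨g, hdet, i1, i2⟩ := exists_intertwiner h2 a0 b0 h0 p p' hX hX'
  by_cases hsq : IsSquare g.det
  · obtain ⟨c, hc⟩ := hsq
    have hc0 : c ≠ 0 := by
      rintro rfl
      apply hdet
      rw [hc, mul_zero]
    exact conj_of_square V W hV hW p hp p'.1 p'.2 hp'.1 hp'.2.1 g c hc0 hc i1 i2
  · obtain ⟨s1, s2⟩ := swap_intertwine p.1 p.2 hX.1 hX.2.1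
    have hd := det_add_of_tr p.1 p.2 hX.1 hX.2.1 hX.2.2
    obtain ⟨c, hc⟩ := isSquare_mul_of_not g.det 2 hsq h2sq
    have hc0 : c ≠ 0 := by
      rintro rfl
      rw [mul_zero] at hc
      rcases mul_eq_zero.mp hc with h | h
      · exact hdet h
      · exact h2 h
    refine conj_of_square V W hV hW p hp p'.2 p'.1 hp'.2.1 hp'.1 (g * (p.1.1 + p.2.1)) c hc0 ?_ ?_ ?_
    · rw [Matrix.det_mul, hd, hc]
    · rw [Matrix.mul_assoc, s2, ← Matrix.mul_assoc, i2, Matrix.mul_assoc]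
    · rw [Matrix.mul_assoc, s1, ← Matrix.mul_assoc, i1, Matrix.mul_assoc]

theorem cj_toGL (t X : SL(2, F)) : cj (Matrix.SpecialLinearGroup.toGL t) X = t * X * t⁻¹ := by
  apply Subtype.ext
  rw [cj_val, ← map_inv]
  rfl

theorem cj_neg (g : GL (Fin 2) F) (X : SL(2, F)) : cj g (-X) = -cj g X := by
  apply Subtype.ext
  rw [Matrix.SpecialLinearGroup.coe_neg, cj_val, cj_val, Matrix.SpecialLinearGroup.coe_neg]
  simp

theorem conj_mem_XX (s : SL(2, F)) (p : SL(2, F) × SL(2, F)) (hp : p ∈ XX) :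
    (s * p.1 * s⁻¹, s * p.2 * s⁻¹) ∈ XX := by
  obtain ⟨h1, h2, h3⟩ := hp
  refine ⟨?_, ?_, ?_⟩
  · change DicksonA.tr (s * p.1 * s⁻¹) = 0
    rw [DicksonA.tr_conj]; exact h1
  · change DicksonA.tr (s * p.2 * s⁻¹) = 0
    rw [DicksonA.tr_conj]; exact h2
  · have : s * p.1 * s⁻¹ * (s * p.2 * s⁻¹) = s * (p.1 * p.2) * s⁻¹ := by group
    change DicksonA.tr (s * p.1 * s⁻¹ * (s * p.2 * s⁻¹)) = 0
    rw [this, DicksonA.tr_conj]
    exact h3

/-- if `2` is a square, there are exactly two classes of four-groups -/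
theorem two_classes [Fintype F] (hodd : Odd (Fintype.card F)) (r : F) (hr : r * r = 2) :
    ∃ V₁ V₂ : Subgroup PS, IsKleinFour V₁ ∧ IsKleinFour V₂ ∧
      (¬ ∃ g : PS, V₂ = V₁.map (MulAut.conj g).toMonoidHom) ∧
      ∀ W : Subgroup PS, IsKleinFour W →
        (∃ g : PS, W = V₁.map (MulAut.conj g).toMonoidHom) ∨
        (∃ g : PS, W = V₂.map (MulAut.conj g).toMonoidHom) := by
  have h2 := two_ne_zero_of_odd hodd
  obtain ⟨a0, b0, h0⟩ := exists_sq_add_sq hodd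
  have hchar : ringChar F ≠ 2 := by
    intro h
    have := FiniteField.even_card_of_char_two h
    have h3 := Nat.odd_iff.mp hodd
    omega
  obtain ⟨ν, hν⟩ := FiniteField.exists_nonsquare hchar
  have hν0 : ν ≠ 0 := by rintro rfl; exact hν IsSquare.zero
  have hdet0 : (!![ν, 0; 0, 1] : Matrix (Fin 2) (Fin 2) F).det ≠ 0 := by
    rw [Matrix.det_fin_two_of]; simpa using hν0
  set g0 : GL (Fin 2) F := Matrix.GeneralLinearGroup.mkOfDetNeZero !![ν, 0; 0, 1] hdet0 with hg0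
  have hg0det : g0.1.det = ν := by
    change (!![ν, 0; 0, 1] : Matrix (Fin 2) (Fin 2) F).det = ν
    rw [Matrix.det_fin_two_of]; ring
  have hg0inv : (g0⁻¹ : GL (Fin 2) F).1 * g0.1 = 1 := by
    rw [← Units.val_mul, inv_mul_cancel, Units.val_one]
  have hg0invdet : (g0⁻¹ : GL (Fin 2) F).1.det = ν⁻¹ := by
    have := congrArg Matrix.det hg0inv
    rw [Matrix.det_mul, hg0det, Matrix.det_one] at this
    exact eq_inv_of_mul_eq_one_left this
  set p0 : SL(2, F) × SL(2, F) := stdPair a0 b0 h0 with hp0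
  have hp0X : p0 ∈ XX := stdPair_mem a0 b0 h0
  set p0' : SL(2, F) × SL(2, F) := g0 • p0 with hp0'
  have hp0'X : p0' ∈ XX := smul_mem_XX g0 p0 hp0X
  obtain ⟨haa, hbb, hab, ha1, hb1, hne⟩ := pair_props h2 p0 hp0X
  obtain ⟨V₁, hV₁, hmem₁⟩ := exists_klein (pmk p0.1) (pmk p0.2) haa hbb hab ha1 hb1 hne
  obtain ⟨haa', hbb', hab', ha1', hb1', hne'⟩ := pair_props h2 p0' hp0'X
  obtain ⟨V₂, hV₂, hmem₂⟩ := exists_klein (pmk p0'.1) (pmk p0'.2) haa' hbb' hab' ha1' hb1' hne'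
  have hLL₁ : p0 ∈ LL V₁ :=
    ⟨(hmem₁ _).mpr (Or.inr (Or.inl rfl)), (hmem₁ _).mpr (Or.inr (Or.inr (Or.inl rfl))),
      ha1, hb1, hne⟩
  have hLL₂ : p0' ∈ LL V₂ :=
    ⟨(hmem₂ _).mpr (Or.inr (Or.inl rfl)), (hmem₂ _).mpr (Or.inr (Or.inr (Or.inl rfl))),
      ha1', hb1', hne'⟩
  refine ⟨V₁, V₂, hV₁, hV₂, ?_, ?_⟩
  · rintro ⟨τ, hτ⟩
    obtain ⟨s, rfl⟩ := pmk_surjective τ
    set p'' : SL(2, F) × SL(2, F) := (s * p0.1 * s⁻¹, s * p0.2 * s⁻¹) with hp''
    have hp''X : p'' ∈ XX := conj_mem_XX s p0 hp0X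
    obtain ⟨-, -, -, hc1, hc2, hc3⟩ := pair_props h2 p'' hp''X
    have hmemA : pmk p''.1 ∈ V₂ := by
      rw [hτ]
      refine ⟨pmk p0.1, hLL₁.1, ?_⟩
      change (MulAut.conj (pmk s)) (pmk p0.1) = pmk (s * p0.1 * s⁻¹)
      rw [MulAut.conj_apply, pmk_mul, pmk_inv, pmk_mul]
    have hmemB : pmk p''.2 ∈ V₂ := by
      rw [hτ]
      refine ⟨pmk p0.2, hLL₁.2.1, ?_⟩
      change (MulAut.conj (pmk s)) (pmk p0.2) = pmk (s * p0.2 * s⁻¹)
      rw [MulAut.conj_apply, pmk_mul, pmk_inv, pmk_mul]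
    have hDD'' : (pmk p''.1, pmk p''.2) ∈ DD V₂ := ⟨hmemA, hmemB, hc1, hc2, hc3⟩
    have hα : ∀ u v : PS, (u, v) ∈ DD V₂ → Rp u v u (u * v) :=
      fun u v huv => move_alpha h2 r hr V₂ hV₂ u v huv
    obtain ⟨τ', k1, k2⟩ := klein_pairs_conj V₂ hV₂ hα hLL₂ hDD''
    obtain ⟨t, rfl⟩ := pmk_surjective τ'
    rw [pmk_mul, pmk_inv, pmk_mul, pmk_eq_iff] at k1 k2
    -- the matrix normalising the standard pair up to signs
    set n : GL (Fin 2) F :=
      (Matrix.SpecialLinearGroup.toGL s)⁻¹ * Matrix.SpecialLinearGroup.toGL t * g0 with hn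
    have key : ∀ (X Y : SL(2, F)), (t * cj g0 X * t⁻¹ = s * Y * s⁻¹ ∨
        t * cj g0 X * t⁻¹ = -(s * Y * s⁻¹)) → cj n X = Y ∨ cj n X = -Y := by
      intro X Y h
      have e : cj n X = cj (Matrix.SpecialLinearGroup.toGL s)⁻¹ (t * cj g0 X * t⁻¹) := by
        rw [← cj_toGL]
        change n • X = (Matrix.SpecialLinearGroup.toGL s)⁻¹ •
          (Matrix.SpecialLinearGroup.toGL t • (g0 • X))
        rw [hn, mul_smul, mul_smul]
      have e' : cj (Matrix.SpecialLinearGroup.toGL s)⁻¹ (s * Y * s⁻¹) = Y := by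
        rw [← cj_toGL]
        change (Matrix.SpecialLinearGroup.toGL s)⁻¹ • (Matrix.SpecialLinearGroup.toGL s • Y) = Y
        rw [inv_smul_smul]
      rcases h with h | h
      · left; rw [e, h, e']
      · right; rw [e, h, cj_neg, e']
    have n1 := key (ww : SL(2, F)) (ww : SL(2, F)) k1
    have n2 := key (sB a0 b0 h0) (sB a0 b0 h0) k2
    have m1 : n.1 * (ww : SL(2, F)).1 = (ww : SL(2, F)).1 * n.1 ∨
        n.1 * (ww : SL(2, F)).1 = -((ww : SL(2, F)).1 * n.1) := by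
      rcases n1 with h | h
      · left; exact intertwine_of_cj n _ _ h
      · right
        have := intertwine_of_cj n _ _ h
        rw [this, Matrix.SpecialLinearGroup.coe_neg, Matrix.neg_mul]
    have m2 : n.1 * (sB a0 b0 h0).1 = (sB a0 b0 h0).1 * n.1 ∨
        n.1 * (sB a0 b0 h0).1 = -((sB a0 b0 h0).1 * n.1) := by
      rcases n2 with h | h
      · left; exact intertwine_of_cj n _ _ h
      · right
        have := intertwine_of_cj n _ _ h
        rw [this, Matrix.SpecialLinearGroup.coe_neg, Matrix.neg_mul]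
    obtain ⟨c, hc⟩ := det_sq_of_sign_normalize h2 a0 b0 h0 n.1 m1 m2
    have hndet : n.1.det = ν := by
      rw [hn, Units.val_mul, Units.val_mul, Matrix.det_mul, Matrix.det_mul, hg0det, ← map_inv]
      change (s⁻¹).1.det * t.1.det * ν = ν
      rw [(s⁻¹).2, t.2]; ring
    apply hν
    exact ⟨c, by rw [← hndet, hc]⟩
  · intro W hW
    obtain ⟨p', hp'⟩ := exists_lift W hW
    have hX' := LL_subset_XX h2 W hW p' hp'
    obtain ⟨g, hdet, i1, i2⟩ := exists_intertwiner h2 a0 b0 h0 p0 p' hp0X hX'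
    by_cases hsq : IsSquare g.det
    · left
      obtain ⟨c, hc⟩ := hsq
      have hc0 : c ≠ 0 := by
        rintro rfl
        apply hdet
        rw [hc, mul_zero]
      exact conj_of_square V₁ W hV₁ hW p0 hLL₁ p'.1 p'.2 hp'.1 hp'.2.1 g c hc0 hc i1 i2
    · right
      have hνinv : ¬ IsSquare ν⁻¹ := by rwa [isSquare_inv]
      obtain ⟨c, hc⟩ := isSquare_mul_of_not g.det ν⁻¹ hsq hνinv
      have hc0 : c ≠ 0 := by
        rintro rfl
        rw [mul_zero] at hc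
        rcases mul_eq_zero.mp hc with h | h
        · exact hdet h
        · exact inv_ne_zero hν0 h
      have q1 : p0'.1.1 = g0.1 * p0.1.1 * (g0⁻¹ : GL (Fin 2) F).1 := rfl
      have q2 : p0'.2.1 = g0.1 * p0.2.1 * (g0⁻¹ : GL (Fin 2) F).1 := rfl
      refine conj_of_square V₂ W hV₂ hW p0' hLL₂ p'.1 p'.2 hp'.1 hp'.2.1
        (g * (g0⁻¹ : GL (Fin 2) F).1) c hc0 ?_ ?_ ?_
      · rw [Matrix.det_mul, hg0invdet, hc]
      · rw [q1]
        calc g * (g0⁻¹ : GL (Fin 2) F).1 * (g0.1 * p0.1.1 * (g0⁻¹ : GL (Fin 2) F).1)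
            = g * ((g0⁻¹ : GL (Fin 2) F).1 * g0.1) * p0.1.1 * (g0⁻¹ : GL (Fin 2) F).1 := by
              simp only [Matrix.mul_assoc]
          _ = p'.1.1 * (g * (g0⁻¹ : GL (Fin 2) F).1) := by
              rw [hg0inv, Matrix.mul_one, i1, Matrix.mul_assoc]
      · rw [q2]
        calc g * (g0⁻¹ : GL (Fin 2) F).1 * (g0.1 * p0.2.1 * (g0⁻¹ : GL (Fin 2) F).1)
            = g * ((g0⁻¹ : GL (Fin 2) F).1 * g0.1) * p0.2.1 * (g0⁻¹ : GL (Fin 2) F).1 := by
              simp only [Matrix.mul_assoc]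
          _ = p'.2.1 * (g * (g0⁻¹ : GL (Fin 2) F).1) := by
              rw [hg0inv, Matrix.mul_one, i2, Matrix.mul_assoc]

theorem s0808 [Fintype F] {q : ℕ} (hF : Fintype.card F = q) (hodd : Odd q) :
    ((q % 8 = 3 ∨ q % 8 = 5) → ∀ V W : Subgroup PS, IsKleinFour V → IsKleinFour W →
      ∃ g : PS, W = V.map (MulAut.conj g).toMonoidHom) ∧
    ((q % 8 = 1 ∨ q % 8 = 7) → ∃ V₁ V₂ : Subgroup PS, IsKleinFour V₁ ∧ IsKleinFour V₂ ∧
      (¬ ∃ g : PS, V₂ = V₁.map (MulAut.conj g).toMonoidHom) ∧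
      ∀ W : Subgroup PS, IsKleinFour W →
        (∃ g : PS, W = V₁.map (MulAut.conj g).toMonoidHom) ∨
        (∃ g : PS, W = V₂.map (MulAut.conj g).toMonoidHom)) := by
  subst hF
  constructor
  · intro hq V W hV hW
    have h2sq : ¬ IsSquare (2 : F) := by
      rw [FiniteField.isSquare_two_iff]
      omega
    exact all_conj hodd h2sq V W hV hW
  · intro hq
    have h2sq : IsSquare (2 : F) := by
      rw [FiniteField.isSquare_two_iff]
      omega
    obtain ⟨r, hr⟩ := h2sq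
    exact two_classes hodd r hr.symm

end Cfsg.Agent.Lead.KleinPSL
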