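import Mathlib
import Cfsg.Agent.Lead.LLemB

/-!
Lead: the minimal parabolic setting for the L-Lemma (S2834), continued: the unique maximal overgroup of each
Sylow subgroup and the maximal-intersection construction.
-/

set_option autoImplicit false
set_option linter.unusedSectionVars false

namespace Cfsg.Agent.Lead.LLem

open Cfsg

variable {G : Type*} [Group G] [Finite G] {p : ℕ} [Fact p.Prime]

/-- the minimal parabolic hypothesis -/
structure MP (S : Sylow p G) (M : Subgroup G) : Prop where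
  ncl : Subgroup.normalClosure (((S : Subgroup G) : Subgroup G) : Set G) = ⊤
  coatom : IsCoatom M
  le : (S : Subgroup G) ≤ M
  uniq : ∀ C : Subgroup G, IsCoatom C → (S : Subgroup G) ≤ C → C = M

variable {S : Sylow p G} {M : Subgroup G}

theorem MP.le_of_le (h : MP S M) {X : Subgroup G} (hSX : (S : Subgroup G) ≤ X) (hX : X ≠ ⊤) : X ≤ M := by
  rcases eq_top_or_exists_le_coatom X with h1 | ⟨C, hC, hXC⟩
  · exact absurd h1 hX
  · rw [← h.uniq C hC (hSX.trans hXC)]; exact hXC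

theorem MP.normalizer_eq (h : MP S M) : Subgroup.normalizer (M : Set G) = M := by
  by_contra hne
  have h1 : M < Subgroup.normalizer (M : Set G) := lt_of_le_of_ne Subgroup.le_normalizer (Ne.symm hne)
  have h2 := h.coatom.2 _ h1
  have hn : M.Normal := Subgroup.normalizer_eq_top_iff.mp h2
  have h3 : Subgroup.normalClosure (((S : Subgroup G) : Subgroup G) : Set G) ≤ M :=
    Subgroup.normalClosure_le_normal h.le
  rw [h.ncl] at h3
  exact h.coatom.1 (top_le_iff.mp h3)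

/-- each Sylow subgroup lies in a unique maximal subgroup, a conjugate of `M` -/
theorem MP.cover (h : MP S M) (T : Sylow p G) :
    ∃ g : G, IsCoatom (cj g M) ∧ (T : Subgroup G) ≤ cj g M ∧
      (∀ X : Subgroup G, (T : Subgroup G) ≤ X → X ≠ ⊤ → X ≤ cj g M) ∧
      (∀ C : Subgroup G, IsCoatom C → (T : Subgroup G) ≤ C → C = cj g M) := by
  obtain ⟨g, hg⟩ := sylow_conj S T
  have hco : IsCoatom (cj g M) := isCoatom_cj h.coatom
  have hle : (T : Subgroup G) ≤ cj g M := by rw [hg]; exact cj_mono h.le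
  have hX : ∀ X : Subgroup G, (T : Subgroup G) ≤ X → X ≠ ⊤ → X ≤ cj g M := by
    intro X hTX hX
    have h1 : (S : Subgroup G) ≤ cj g⁻¹ X := by
      rw [hg] at hTX
      exact cj_le_iff.mp hTX
    have h2 : cj g⁻¹ X ≠ ⊤ := fun h => hX (cj_eq_top_iff.mp h)
    have h3 := h.le_of_le h1 h2
    have := cj_le_iff.mp h3
    rwa [inv_inv] at this
  refine ⟨g, hco, hle, hX, ?_⟩
  intro C hC hTC
  have h1 := hX C hTC hC.1
  by_contra hne
  exact hco.1 (hC.2 _ (lt_of_le_of_ne h1 hne))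

/-- membership in the family `Ξ` relative to the `p`-subgroup `E` -/
def InXi (E X : Subgroup G) (T : Sylow p G) : Prop :=
  X ≠ ⊤ ∧ E ≤ X ⊓ (T : Subgroup G) ∧ IsSylIn p (X ⊓ (T : Subgroup G)) X ∧
    ∀ C : Subgroup G, IsCoatom C → (T : Subgroup G) ≤ C → ¬ X ≤ C

theorem InXi.mono {E E' X : Subgroup G} {T : Sylow p G} (h : InXi E X T) (hE : E' ≤ E) : InXi E' X T :=
  ⟨h.1, hE.trans h.2.1, h.2.2.1, h.2.2.2⟩

/-- the maximal-intersection construction -/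
theorem MP.maxInt (h : MP S M) (E : Subgroup G) (hEQ : ¬ E ≤ Cfsg.pCore p G)
    (T₁ T₂ : Sylow p G) (hE1 : E ≤ T₁) (hE2 : E ≤ T₂) (C₁ C₂ : Subgroup G)
    (hC₁ : IsCoatom C₁) (h1 : (T₁ : Subgroup G) ≤ C₁) (hC₂ : IsCoatom C₂) (h2 : (T₂ : Subgroup G) ≤ C₂)
    (hne : C₁ ≠ C₂) :
    ∃ (X : Subgroup G) (T : Sylow p G), InXi E X T ∧ Nat.card E < Nat.card ↥(X ⊓ (T : Subgroup G)) := by
  classical
  -- choose a pair of Sylow subgroups with different maximal overgroups and maximal intersection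
  let P : ℕ → Prop := fun n => ∃ (U₁ U₂ : Sylow p G) (D₁ D₂ : Subgroup G), E ≤ U₁ ∧ E ≤ U₂ ∧
    IsCoatom D₁ ∧ (U₁ : Subgroup G) ≤ D₁ ∧ IsCoatom D₂ ∧ (U₂ : Subgroup G) ≤ D₂ ∧ D₁ ≠ D₂ ∧
    n = Nat.card ↥((U₁ : Subgroup G) ⊓ (U₂ : Subgroup G))
  obtain ⟨n, ⟨U₁, U₂, D₁, D₂, hEU₁, hEU₂, hD₁, hU₁D₁, hD₂, hU₂D₂, hDne, rfl⟩, hmax⟩ :=
    exists_max_nat P (Nat.card G)
      (by rintro n ⟨U₁, U₂, D₁, D₂, -, -, -, -, -, -, -, rfl⟩; exact Subgroup.card_le_card_group _)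
      ⟨_, T₁, T₂, C₁, C₂, hE1, hE2, hC₁, h1, hC₂, h2, hne, rfl⟩
  set D : Subgroup G := (U₁ : Subgroup G) ⊓ (U₂ : Subgroup G) with hD
  have hED : E ≤ D := le_inf hEU₁ hEU₂
  have hDp : IsPGroup p D := U₁.isPGroup'.to_le inf_le_left
  -- maximality in usable form
  have hmax' : ∀ (V₁ V₂ : Sylow p G) (F₁ F₂ : Subgroup G), E ≤ V₁ → E ≤ V₂ → IsCoatom F₁ →
      (V₁ : Subgroup G) ≤ F₁ → IsCoatom F₂ → (V₂ : Subgroup G) ≤ F₂ →
      Nat.card D < Nat.card ↥((V₁ : Subgroup G) ⊓ (V₂ : Subgroup G)) → F₁ = F₂ := by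
    intro V₁ V₂ F₁ F₂ a1 a2 a3 a4 a5 a6 a7
    by_contra hF
    have := hmax _ ⟨V₁, V₂, F₁, F₂, a1, a2, a3, a4, a5, a6, hF, rfl⟩
    omega
  have hDU₁ : D ≠ U₁ := by
    intro hh
    have hle : (U₁ : Subgroup G) ≤ U₂ := by rw [← hh]; exact inf_le_right
    have : U₁ = U₂ := Sylow.ext (U₁.is_maximal' U₂.isPGroup' hle).symm
    subst this
    have ⟨g, _, _, _, hu⟩ := h.cover U₁
    exact hDne ((hu D₁ hD₁ hU₁D₁).trans (hu D₂ hD₂ hU₂D₂).symm)
  have hDU₂ : D ≠ U₂ := by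
    intro hh
    have hle : (U₂ : Subgroup G) ≤ U₁ := by rw [← hh]; exact inf_le_left
    have : U₂ = U₁ := Sylow.ext (U₂.is_maximal' U₁.isPGroup' hle).symm
    subst this
    have ⟨g, _, _, _, hu⟩ := h.cover U₂
    exact hDne ((hu D₁ hD₁ hU₁D₁).trans (hu D₂ hD₂ hU₂D₂).symm)
  obtain ⟨n₁, hn₁U, hn₁N, hn₁D⟩ :=
    Cfsg.Agent.Helper5.exists_mem_normalizer_not_mem (U₁ : Subgroup G) D U₁.isPGroup' inf_le_left hDU₁
  obtain ⟨n₂, hn₂U, hn₂N, hn₂D⟩ :=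
    Cfsg.Agent.Helper5.exists_mem_normalizer_not_mem (U₂ : Subgroup G) D U₂.isPGroup' inf_le_right hDU₂
  set X : Subgroup G := Subgroup.normalizer (D : Set G) with hX
  have hDX : D ≤ X := Subgroup.le_normalizer
  have hXtop : X ≠ ⊤ := by
    intro hh
    have hn : D.Normal := Subgroup.normalizer_eq_top_iff.mp hh
    exact hEQ (hED.trans (Cfsg.Agent.Helper5.le_pCore hn hDp))
  set P₁ : Subgroup G := X ⊓ (U₁ : Subgroup G) with hP₁
  set P₂ : Subgroup G := X ⊓ (U₂ : Subgroup G) with hP₂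
  have hP₁p : IsPGroup p P₁ := U₁.isPGroup'.to_le inf_le_right
  have hP₂p : IsPGroup p P₂ := U₂.isPGroup'.to_le inf_le_right
  have hDP₁ : D < P₁ := by
    refine lt_of_le_of_ne (le_inf hDX inf_le_left) ?_
    intro hh
    exact hn₁D (by rw [hh]; exact ⟨hn₁N, hn₁U⟩)
  have hDP₂ : D < P₂ := by
    refine lt_of_le_of_ne (le_inf hDX inf_le_right) ?_
    intro hh
    exact hn₂D (by rw [hh]; exact ⟨hn₂N, hn₂U⟩)
  obtain ⟨SD, hSD, hP₁SD⟩ := exists_isSylIn X P₁ inf_le_left hP₁p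
  obtain ⟨T, hT⟩ := hSD.2.1.exists_le_sylow
  have hXT : X ⊓ (T : Subgroup G) = SD := hSD.inf_eq T hT
  obtain ⟨g, hgco, hTg, hgX, hgu⟩ := h.cover T
  -- T and U₁ have the same maximal overgroup
  have hTU₁ : cj g M = D₁ := by
    apply hmax' T U₁ (cj g M) D₁ ((hED.trans hDP₁.le).trans (hP₁SD.trans hT)) hEU₁ hgco hTg hD₁ hU₁D₁
    have hle : P₁ ≤ (T : Subgroup G) ⊓ (U₁ : Subgroup G) := le_inf (hP₁SD.trans hT) inf_le_right
    exact lt_of_lt_of_le (card_lt_card_of_lt' hDP₁) (Subgroup.card_le_of_le hle)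
  refine ⟨X, T, ⟨hXtop, ?_, ?_, ?_⟩, ?_⟩
  · rw [hXT]; exact (hED.trans hDP₁.le).trans hP₁SD
  · rw [hXT]; exact hSD
  · intro C hC hTC hXC
    have hCg : C = D₁ := (hgu C hC hTC).trans hTU₁
    -- P₂ ≤ D₁, so it lies in a Sylow subgroup inside D₁
    have hP₂D₁ : P₂ ≤ D₁ := by rw [← hCg]; exact inf_le_left.trans hXC
    obtain ⟨T', hP₂T', hT'D₁⟩ := exists_sylow_le D₁ U₁ hU₁D₁ P₂ hP₂D₁ hP₂p
    have : D₁ = D₂ := by
      apply hmax' T' U₂ D₁ D₂ ((hED.trans hDP₂.le).trans hP₂T') hEU₂ hD₁ hT'D₁ hD₂ hU₂D₂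
      have hle : P₂ ≤ (T' : Subgroup G) ⊓ (U₂ : Subgroup G) := le_inf hP₂T' inf_le_right
      exact lt_of_lt_of_le (card_lt_card_of_lt' hDP₂) (Subgroup.card_le_of_le hle)
    exact hDne this
  · rw [hXT]
    calc Nat.card E ≤ Nat.card D := Subgroup.card_le_of_le hED
      _ < Nat.card P₁ := card_lt_card_of_lt' hDP₁
      _ ≤ Nat.card SD := Subgroup.card_le_of_le hP₁SD

end Cfsg.Agent.Lead.LLem
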