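import Mathlib
import Cfsg.Agent.Lead.LLemC

/-!
Lead: the L-Lemma (S2834), main induction.
-/

set_option autoImplicit false
set_option linter.unusedSectionVars false
set_option maxHeartbeats 1600000

namespace Cfsg.Agent.Lead.LLem

open Cfsg Cfsg.Agent.Helper5

universe u

theorem subgroupOf_mono' {G : Type*} [Group G] {A B Y : Subgroup G} (h : A ≤ B) :
    A.subgroupOf Y ≤ B.subgroupOf Y := by
  intro x hx
  rw [Subgroup.mem_subgroupOf] at hx ⊢
  exact h hx

theorem main {p : ℕ} [Fact p.Prime] : ∀ (n : ℕ) (G : Type u) [Group G] [Finite G] (S : Sylow p G)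
    (M : Subgroup G), MP S M → ∀ A : Subgroup G, A ≤ (S : Subgroup G) → ¬ A ≤ Cfsg.pCore p G →
    Nat.card G = n → Concl p M A := by
  intro n
  induction n using Nat.strong_induction_on with
  | _ n ih =>
  intro G _ _ S M hMP A hAS hAQ hcard
  classical
  have hQS : Cfsg.pCore p G ≤ S := pCore_le_sylow S
  set E : Subgroup G := A ⊔ Cfsg.pCore p G with hEdef
  have hES : E ≤ S := sup_le hAS hQS
  have hEp : IsPGroup p E := S.isPGroup'.to_le hES
  have hEQ : ¬ E ≤ Cfsg.pCore p G := fun hh => hAQ (le_sup_left.trans hh)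
  by_cases hXi : ∃ (X : Subgroup G) (T : Sylow p G), InXi E X T
  · -- main case: choose (X, T) with |X ∩ T| maximal
    obtain ⟨m, ⟨X, T, hXi₀, rfl⟩, hmax⟩ := exists_max_nat
      (fun m => ∃ (X : Subgroup G) (T : Sylow p G), InXi E X T ∧ m = Nat.card ↥(X ⊓ (T : Subgroup G)))
      (Nat.card G) (by rintro m ⟨X, T, -, rfl⟩; exact Subgroup.card_le_card_group _)
      (by obtain ⟨X, T, hh⟩ := hXi; exact ⟨_, X, T, hh, rfl⟩)
    have hmax' : ∀ (X' : Subgroup G) (T' : Sylow p G), InXi E X' T' →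
        Nat.card ↥(X' ⊓ (T' : Subgroup G)) ≤ Nat.card ↥(X ⊓ (T : Subgroup G)) :=
      fun X' T' hh => hmax _ ⟨X', T', hh, rfl⟩
    set S' : Subgroup G := X ⊓ (T : Subgroup G) with hS'def
    obtain ⟨hXtop, hES', hS'syl, hXC⟩ := hXi₀
    have hS'p : IsPGroup p S' := hS'syl.2.1
    obtain ⟨g₀, hco, hTC', hC'X, hC'u⟩ := hMP.cover T
    set C' : Subgroup G := cj g₀ M with hC'def
    have hXC' : ¬ X ≤ C' := hXC C' hco hTC'
    -- minimal Y
    obtain ⟨k, ⟨Y, ⟨hS'Y, hYX, hYC'⟩, rfl⟩, hmin⟩ := exists_min_nat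
      (fun k => ∃ Y : Subgroup G, (S' ≤ Y ∧ Y ≤ X ∧ ¬ Y ≤ C') ∧ k = Nat.card ↥Y)
      ⟨_, X, ⟨inf_le_left, le_rfl, hXC'⟩, rfl⟩
    have hYmin : ∀ Z : Subgroup G, S' ≤ Z → Z ≤ Y → ¬ Z ≤ C' → Z = Y := by
      intro Z h1 h2 h3
      exact eq_of_le_of_card_le h2 (hmin _ ⟨Z, ⟨h1, h2.trans hYX, h3⟩, rfl⟩)
    have hS'Ysyl : IsSylIn p S' Y := hS'syl.mono hS'Y hYX
    have hYtop : Y ≠ ⊤ := fun hh => hXtop (top_le_iff.mp (hh ▸ hYX))
    have hS'T : S' ≠ (T : Subgroup G) := by
      intro hh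
      have : (T : Subgroup G) ≤ Y := hh ▸ hS'Y
      exact hYC' (hC'X Y this hYtop)
    have hAS' : A ≤ S' := le_sup_left.trans hES'
    have hQS' : Cfsg.pCore p G ≤ S' := le_sup_right.trans hES'
    obtain ⟨SY, hSY⟩ := hS'Ysyl.toSylow
    have hOY : Cfsg.pCoreOf p Y ≤ S' := by
      have h1 : Cfsg.pCore p ↥Y ≤ SY := pCore_le_sylow SY
      rintro _ ⟨y, hy, rfl⟩
      have := h1 hy
      rw [hSY, Subgroup.mem_subgroupOf] at this
      exact this
    by_cases hI : ∃ g : G, cj g A ≤ S' ∧ ¬ cj g A ≤ Cfsg.pCoreOf p Y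
    · -- induction on Y
      obtain ⟨g, hgS', hgO⟩ := hI
      have hS'nn : ¬ Y ≤ Subgroup.normalizer (S' : Set G) := fun hn =>
        hgO (hgS'.trans (le_pCoreOf hS'Y hS'p hn))
      have hSYle : ∀ Z : Subgroup ↥Y, (SY : Subgroup ↥Y) ≤ Z → Z ≠ ⊤ → Z.map Y.subtype ≤ C' := by
        intro Z hZ hZt
        by_contra hh
        have h1 : S' ≤ Z.map Y.subtype := le_map_subtype hS'Y (hSY ▸ hZ)
        exact hZt (map_subtype_eq_top (hYmin _ h1 (map_subtype_le' Z) hh))
      have hCYtop : C'.subgroupOf Y ≠ ⊤ := fun hh => hYC' (Subgroup.subgroupOf_eq_top.mp hh)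
      have hMPY : MP SY (C'.subgroupOf Y) := by
        refine ⟨?_, ⟨hCYtop, ?_⟩, ?_, ?_⟩
        · -- normal closure
          by_contra hN
          have hSN : (SY : Subgroup ↥Y) ≤ Subgroup.normalClosure ((SY : Subgroup ↥Y) : Set ↥Y) :=
            Subgroup.le_normalClosure
          have hNm := le_subgroupOf_of_map_le (hSYle _ hSN hN)
          have hfr := Sylow.normalizer_sup_eq_top (SY.subtype hSN)
          have hco : ((SY.subtype hSN : Sylow p _) : Subgroup _).map
              (Subgroup.normalClosure ((SY : Subgroup ↥Y) : Set ↥Y)).subtype = (SY : Subgroup ↥Y) := by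
            rw [Sylow.coe_subtype, Subgroup.subgroupOf_map_subtype]
            exact inf_eq_left.mpr hSN
          rw [hco] at hfr
          have hNz : Subgroup.normalizer ((SY : Subgroup ↥Y) : Set ↥Y) ≠ ⊤ := by
            intro hh
            rw [hSY] at hh
            exact hS'nn (le_normalizer_of_subgroupOf hS'Y hh)
          have hNzm := le_subgroupOf_of_map_le (hSYle _ Subgroup.le_normalizer hNz)
          have : (⊤ : Subgroup ↥Y) ≤ C'.subgroupOf Y := by
            rw [← hfr]; exact sup_le hNzm hNm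
          exact hCYtop (top_le_iff.mp this)
        · intro Z hZ
          by_contra hZt
          have hSZ : (SY : Subgroup ↥Y) ≤ Z := by
            rw [hSY]
            exact le_trans (subgroupOf_mono' (inf_le_right.trans hTC')) hZ.le
          have := le_subgroupOf_of_map_le (hSYle Z hSZ hZt)
          exact absurd (lt_of_lt_of_le hZ this) (lt_irrefl _)
        · rw [hSY]
          exact subgroupOf_mono' (inf_le_right.trans hTC')
        · intro C hC hSC
          have h1 := le_subgroupOf_of_map_le (hSYle C hSC hC.1)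
          by_contra hne
          exact hCYtop (hC.2 _ (lt_of_le_of_ne h1 hne))
      have hA'Y : (cj g A).subgroupOf Y ≤ SY := by
        rw [hSY]
        exact subgroupOf_mono' hgS'
      have hA'O : ¬ (cj g A).subgroupOf Y ≤ Cfsg.pCore p ↥Y := by
        intro hh
        apply hgO
        intro x hx
        exact ⟨⟨x, hS'Y (hgS' hx)⟩, hh (by rw [Subgroup.mem_subgroupOf]; exact hx), rfl⟩
      have hcardY : Nat.card ↥Y < n := hcard ▸ card_lt_of_ne_top hYtop
      have hc1 := ih _ hcardY ↥Y SY (C'.subgroupOf Y) hMPY ((cj g A).subgroupOf Y) hA'Y hA'O rfl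
      have hQY : Cfsg.pCore p G ≤ (Cfsg.pCore p ↥Y).map Y.subtype := by
        have hn : Subgroup.normalizer ((Cfsg.pCore p G : Subgroup G) : Set G) = ⊤ :=
          Subgroup.normalizer_eq_top_iff.mpr inferInstance
        exact le_pCoreOf (hQS'.trans hS'Y) (isPGroup_pCore p) (by rw [hn]; exact le_top)
      have hc2 : Concl p M (((cj g A).subgroupOf Y).map Y.subtype) :=
        hc1.transport Y.subtype Y.subtype_injective ⟨g₀, rfl⟩ hQY
      have hA'eq : ((cj g A).subgroupOf Y).map Y.subtype = cj g A := by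
        rw [Subgroup.subgroupOf_map_subtype]; exact inf_eq_left.mpr (hgS'.trans hS'Y)
      rw [hA'eq] at hc2
      have hMeq : M = (cj g⁻¹ M).comap (MulAut.conj g⁻¹).toMonoidHom := by
        ext x
        rw [Subgroup.mem_comap, mem_cj]
        simp [mul_assoc]
      have hc3 := hc2.transport (MulAut.conj g⁻¹).toMonoidHom (MulAut.conj g⁻¹).injective
        ⟨g⁻¹, hMeq⟩
        (by
          have : (Cfsg.pCore p G).map (MulAut.conj g⁻¹).toMonoidHom = Cfsg.pCore p G :=
            cj_normal g⁻¹ _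
          rw [this])
      have hAeq : (cj g A).map (MulAut.conj g⁻¹).toMonoidHom = A := by
        have : cj g⁻¹ (cj g A) = A := by rw [cj_cj, inv_mul_cancel, cj_one]
        exact this
      rw [hAeq] at hc3
      exact hc3
    · -- contradiction with the maximality of |S'|
      exfalso
      push_neg at hI
      set W : Subgroup G := ⨆ g : {g : G // cj g A ≤ S'}, cj (g : G) A with hWdef
      have hWO : W ≤ Cfsg.pCoreOf p Y := iSup_le (fun g => hI g g.2)
      have hWS' : W ≤ S' := hWO.trans hOY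
      have hAW : A ≤ W := by
        have h1 : cj (1 : G) A ≤ S' := by rw [cj_one]; exact hAS'
        have h2 := le_iSup (fun g : {g : G // cj g A ≤ S'} => cj (g : G) A) ⟨1, h1⟩
        simpa [cj_one] using h2
      have hWp : IsPGroup p W := hS'p.to_le hWS'
      have hstep : ∀ y : G, (∀ g : G, cj g A ≤ S' → cj (y * g) A ≤ S') → cj y W ≤ W := by
        intro y hy
        rw [hWdef, cj, Subgroup.map_iSup]
        apply iSup_le
        intro g
        have h1 : cj y (cj (g : G) A) = cj (y * g) A := cj_cj _ _ _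
        show cj y (cj (g : G) A) ≤ _
        rw [h1]
        exact le_iSup (fun g : {g : G // cj g A ≤ S'} => cj (g : G) A) ⟨y * g, hy g g.2⟩
      set X₂ : Subgroup G := Subgroup.normalizer (W : Set G) with hX₂def
      have hYX₂ : Y ≤ X₂ := by
        apply le_normalizer_of_cj_le
        intro y hy
        apply hstep
        intro g hg
        rw [← cj_cj]
        have := cj_mono (g := y) (hI g hg)
        rw [cj_pCoreOf hy] at this
        exact this.trans hOY
      set E₂ : Subgroup G := Subgroup.normalizer (S' : Set G) ⊓ (T : Subgroup G) with hE₂def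
      have hE₂X₂ : E₂ ≤ X₂ := by
        apply le_normalizer_of_cj_le
        intro y hy
        apply hstep
        intro g hg
        rw [← cj_cj]
        have := cj_mono (g := y) hg
        rwa [cj_eq_of_mem_normalizer hy.1] at this
      have hX₂top : X₂ ≠ ⊤ := by
        intro hh
        have hn : W.Normal := Subgroup.normalizer_eq_top_iff.mp hh
        exact hAQ (hAW.trans (le_pCore hn hWp))
      have hS'E₂ : S' ≤ E₂ := le_inf Subgroup.le_normalizer inf_le_right
      obtain ⟨n₁, hn₁T, hn₁N, hn₁S'⟩ :=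
        exists_mem_normalizer_not_mem (T : Subgroup G) S' T.isPGroup' inf_le_right hS'T
      have hlt : S' < E₂ := lt_of_le_of_ne hS'E₂ (fun hh => hn₁S' (by rw [hh]; exact ⟨hn₁N, hn₁T⟩))
      have hE₂p : IsPGroup p E₂ := T.isPGroup'.to_le inf_le_right
      obtain ⟨S₂, hS₂, hE₂S₂⟩ := exists_isSylIn X₂ E₂ hE₂X₂ hE₂p
      obtain ⟨T₂, hT₂⟩ := hS₂.2.1.exists_le_sylow
      have hX₂T₂ := hS₂.inf_eq T₂ hT₂
      have hcard1 : Nat.card S' < Nat.card E₂ := card_lt_card_of_lt' hlt
      have hEE₂ : E ≤ E₂ := hES'.trans hS'E₂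
      by_cases hC : ∀ C : Subgroup G, IsCoatom C → (T₂ : Subgroup G) ≤ C → ¬ X₂ ≤ C
      · have hin : InXi E X₂ T₂ :=
          ⟨hX₂top, by rw [hX₂T₂]; exact hEE₂.trans hE₂S₂, by rw [hX₂T₂]; exact hS₂, hC⟩
        have h1 := hmax' X₂ T₂ hin
        rw [hX₂T₂] at h1
        have h2 := Subgroup.card_le_of_le hE₂S₂
        omega
      · push_neg at hC
        obtain ⟨C₂, hC₂, hT₂C₂, hX₂C₂⟩ := hC
        have hne : C' ≠ C₂ := fun hh => hYC' (hh ▸ hYX₂.trans hX₂C₂)
        have hE₂Q : ¬ E₂ ≤ Cfsg.pCore p G := fun hh => hAQ ((hAS'.trans hS'E₂).trans hh)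
        obtain ⟨X₃, T₃, hin, hc⟩ := hMP.maxInt E₂ hE₂Q T T₂ inf_le_right (hE₂S₂.trans hT₂) C' C₂
          hco hTC' hC₂ hT₂C₂ hne
        have h1 := hmax' X₃ T₃ (hin.mono hEE₂)
        omega
  · -- L = ⊤
    push_neg at hXi
    have hstar : ∀ h : G, A ≤ cj h M → cj h M = M := by
      intro h hA
      by_contra hne
      obtain ⟨S₂, hS₂⟩ := sylow_cj S h
      have hS₂M : (S₂ : Subgroup G) ≤ cj h M := by rw [hS₂]; exact cj_mono hMP.le
      have hEle : E ≤ cj h M := sup_le hA ((pCore_le_sylow S₂).trans hS₂M)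
      obtain ⟨T₂, hET₂, hT₂⟩ := exists_sylow_le (cj h M) S₂ hS₂M E hEle hEp
      obtain ⟨X, T, hX, -⟩ := hMP.maxInt E hEQ S T₂ hES hET₂ M (cj h M) hMP.coatom hMP.le
        (isCoatom_cj hMP.coatom) hT₂ (Ne.symm hne)
      exact hXi X T hX
    have huniq : ∀ X : Subgroup G, E ≤ X → X ≠ ⊤ → X ≤ M := by
      intro X hEX hX
      obtain ⟨SX, hSX, hESX⟩ := exists_isSylIn X E hEX hEp
      obtain ⟨T, hT⟩ := hSX.2.1.exists_le_sylow
      have hXT := hSX.inf_eq T hT
      have hnot := hXi X T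
      have hex : ¬ ∀ C : Subgroup G, IsCoatom C → (T : Subgroup G) ≤ C → ¬ X ≤ C := fun hh =>
        hnot ⟨hX, by rw [hXT]; exact hESX, by rw [hXT]; exact hSX, hh⟩
      push_neg at hex
      obtain ⟨C, hC, hTC, hXC⟩ := hex
      obtain ⟨g, -, -, -, hu⟩ := hMP.cover T
      have hCg := hu C hC hTC
      have hAC : A ≤ cj g M := by rw [← hCg]; exact (le_sup_left.trans hEX).trans hXC
      rw [hCg, hstar g hAC] at hXC
      exact hXC
    refine ⟨⊤, le_top, M, ?_, ?_, ?_, ⟨1, ?_⟩, ?_⟩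
    · rw [pCoreOf_top]; exact hES.trans hMP.le
    · exact lt_top_iff_ne_top.mpr hMP.coatom.1
    · intro X hX hXt
      rw [pCoreOf_top] at hX
      exact huniq X hX hXt.ne
    · rw [top_inf_eq]; exact (cj_one M).symm
    · intro x _ hxM
      by_contra hne
      rw [pCoreOf_top] at hne
      have hle : (A ⊔ cj x A) ⊔ Cfsg.pCore p G ≤ M :=
        huniq _ (sup_le (le_sup_left.trans le_sup_left) le_sup_right) hne
      have h1 : cj x A ≤ M := (le_sup_right.trans le_sup_left).trans hle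
      have h2 : A ≤ cj x⁻¹ M := cj_le_iff.mp h1
      have h3 := hstar x⁻¹ h2
      have h4 := mem_normalizer_of_cj_eq h3
      rw [hMP.normalizer_eq] at h4
      exact hxM (by simpa using M.inv_mem h4)

end Cfsg.Agent.Lead.LLem
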