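import Mathlib
import Cfsg.Agent.Lead.LargeSetting
import Cfsg.Agent.Helper1.Coprime

/-!
Helper library (lead): an odd-order group acting on a large extraspecial 2-group; a group of order
twice an odd number with a central involution.
-/

set_option autoImplicit false

namespace Cfsg.Agent.Lead.LargeQuot

open Cfsg.Agent.Helper3.LargeX

/-- A finite group with a central involution and order not divisible by four splits as a normal
subgroup of odd order times the involution. -/
theorem two_odd_split {D : Type*} [Group D] [Finite D] (z : D) (hzc : ∀ d : D, d * z = z * d)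
    (hz1 : z ≠ 1) (hz2 : z * z = 1) (h4 : ¬ 4 ∣ Nat.card D) :
    ∃ K : Subgroup D, K.Normal ∧ Odd (Nat.card K) ∧ ∀ d : D, d ∈ K ∨ z⁻¹ * d ∈ K := by
  have : Fact (Nat.Prime 2) := ⟨Nat.prime_two⟩
  have hord : orderOf z = 2 := orderOf_eq_prime (by rw [pow_two]; exact hz2) hz1
  have hZp : IsPGroup 2 (Subgroup.zpowers z) := by
    apply IsPGroup.of_card (n := 1)
    rw [Nat.card_zpowers, pow_one, hord]
  obtain ⟨S, hS⟩ := hZp.exists_le_sylow
  have hzS : z ∈ (S : Subgroup D) := hS (Subgroup.mem_zpowers z)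
  obtain ⟨k, hk⟩ := IsPGroup.iff_card.mp S.isPGroup'
  have hdvd : Nat.card (S : Subgroup D) ∣ Nat.card D := Subgroup.card_subgroup_dvd_card _
  have hk1 : k ≤ 1 := by
    by_contra h
    push Not at h
    apply h4
    refine dvd_trans ?_ hdvd
    rw [hk]
    exact pow_dvd_pow 2 h
  have hk0 : k ≠ 0 := by
    intro h
    rw [h, pow_zero] at hk
    have := Subgroup.eq_bot_of_card_eq _ hk
    rw [this, Subgroup.mem_bot] at hzS
    exact hz1 hzS
  have hk' : k = 1 := by omega
  rw [hk', pow_one] at hk
  have hSmem : ∀ s ∈ (S : Subgroup D), s = 1 ∨ s = z := by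
    intro s hs
    obtain ⟨y, hy1, hy2⟩ := (Nat.card_eq_two_iff' (1 : (S : Subgroup D))).mp hk
    by_cases h1 : s = 1
    · exact Or.inl h1
    · right
      have e1 : (⟨s, hs⟩ : (S : Subgroup D)) = y := hy2 _ (fun h => h1 (congrArg Subtype.val h))
      have e2 : (⟨z, hzS⟩ : (S : Subgroup D)) = y := hy2 _ (fun h => hz1 (congrArg Subtype.val h))
      exact congrArg Subtype.val (e1.trans e2.symm)
  have hNC : Subgroup.normalizer ((S : Subgroup D) : Set D) ≤ Subgroup.centralizer ((S : Subgroup D) : Set D) := by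
    intro d _
    rw [Subgroup.mem_centralizer_iff]
    intro s hs
    rcases hSmem s hs with rfl | rfl
    · simp
    · exact (hzc d).symm
  have hcompl := MonoidHom.ker_transferSylow_isComplement' S hNC
  refine ⟨(MonoidHom.transferSylow S hNC).ker, inferInstance, ?_, ?_⟩
  · have h1 := hcompl.card_mul_card
    rw [hk] at h1
    rw [← Nat.not_even_iff_odd]
    rintro ⟨m, hm⟩
    apply h4
    rw [← h1, hm]
    exact ⟨m, by ring⟩
  · intro d
    obtain ⟨⟨a, s⟩, has, -⟩ := (Subgroup.isComplement'_def.mp hcompl).existsUnique d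
    simp only at has
    rcases hSmem s s.2 with h | h
    · left
      rw [← has, h, mul_one]
      exact a.2
    · right
      rw [← has, h, hzc, inv_mul_cancel_left]
      exact a.2


/-- An element of 2-power order in a group of odd order is trivial. -/
theorem eq_one_of_odd_of_pow {G : Type*} [Group G] {A : Subgroup G} [Finite A]
    (hA : Odd (Nat.card A)) {b : G} (hb : b ∈ A) (k : ℕ) (h : b ^ 2 ^ k = 1) : b = 1 := by
  have h1 : orderOf b ∣ 2 ^ k := orderOf_dvd_of_pow_eq_one h
  have h2 : orderOf b ∣ Nat.card A := by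
    have : orderOf (⟨b, hb⟩ : A) ∣ Nat.card A := orderOf_dvd_natCard _
    rwa [Subgroup.orderOf_mk] at this
  have h3 : Nat.Coprime (2 ^ k) (Nat.card A) :=
    Nat.Coprime.pow_left k (Nat.coprime_two_left.mpr hA)
  have h4 : orderOf b ∣ 1 := by
    have := Nat.dvd_gcd h1 h2
    rwa [h3] at this
  exact orderOf_eq_one_iff.mp (Nat.dvd_one.mp h4)

/-- An involution does not lie in a group of odd order. -/
theorem not_mem_odd_of_sq {G : Type*} [Group G] {A : Subgroup G} [Finite A]
    (hA : Odd (Nat.card A)) {x : G} (hx2 : x * x = 1) (hx1 : x ≠ 1) : x ∉ A := by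
  intro hx
  apply hx1
  apply eq_one_of_odd_of_pow hA hx 1
  rw [pow_one, pow_two, hx2]

/-- The centre of the fixed points of an odd-order group acting on a large extraspecial group. -/
theorem cent_fixed {G : Type*} [Group G] [Finite G] {Q : Subgroup G} {z : G} (hLX : LX Q z)
    (A : Subgroup G) (hAz : ∀ a ∈ A, a * z = z * a) (hAodd : Odd (Nat.card A))
    {x : G} (hxQ : x ∈ Q) (hxA : ∀ a ∈ A, a * x = x * a)
    (hxR : ∀ r ∈ Q, (∀ a ∈ A, a * r = r * a) → x * r = r * x) : x = 1 ∨ x = z := by
  have : Fact (Nat.Prime 2) := ⟨Nat.prime_two⟩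
  have hAQ : A ≤ Subgroup.normalizer (Q : Set G) := by
    intro a ha
    rw [Subgroup.mem_normalizer_iff]
    intro q
    constructor
    · intro hq; exact hLX.norm a (hAz a ha) q hq
    · intro hq
      have hinv : a⁻¹ * z = z * a⁻¹ := hAz a⁻¹ (A.inv_mem ha)
      have := hLX.norm a⁻¹ hinv _ hq
      have e : a⁻¹ * (a * q * a⁻¹) * a⁻¹⁻¹ = q := by group
      rwa [e] at this
  have hcop : (Nat.card A).Coprime (Nat.card Q) := by
    obtain ⟨k, hk⟩ := IsPGroup.iff_card.mp hLX.pgrp
    rw [hk]
    exact Nat.Coprime.pow_right k (Nat.coprime_two_right.mpr hAodd)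
  have hsolv : Group.IsSolvable Q := by
    haveI := hLX.pgrp.isNilpotent
    infer_instance
  have hdec := Cfsg.Agent.Helper1.coprime_commutator_sup_centralizer A Q hAQ hcop (Or.inr hsolv)
  apply hLX.cent x hxQ
  have hle : Q ≤ Subgroup.centralizer ({x} : Set G) := by
    rw [← hdec]
    apply sup_le
    · rw [Subgroup.commutator_le]
      intro q hq a ha
      rw [Subgroup.mem_centralizer_singleton_iff, commutatorElement_def]
      have hxa : Commute x a := (hxA a ha).symm
      have hza : Commute z a := (hAz a ha).symm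
      have hzq : Commute z q := (hLX.z_comm q hq).symm
      rcases hLX.comm_or hxQ hq with h1 | h1
      · have hxq : Commute x q := h1
        exact ((((hxq.mul_right hxa).mul_right hxq.inv_right).mul_right hxa.inv_right).symm).eq
      · have hxax : x * a * x⁻¹ = a := by rw [hxa.eq, mul_inv_cancel_right]
        have hzw : Commute z (q * a * q⁻¹) := (hzq.mul_right hza).mul_right hzq.inv_right
        have e1 : x * (q * a * q⁻¹ * a⁻¹) * x⁻¹ =
            (x * q * x⁻¹) * (x * a * x⁻¹) * (x * q * x⁻¹)⁻¹ * (x * a * x⁻¹)⁻¹ := by group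
        have e2 : z * q * a * (z * q)⁻¹ * a⁻¹ = (z * (q * a * q⁻¹) * z⁻¹) * a⁻¹ := by group
        have e3 : z * (q * a * q⁻¹) * z⁻¹ = q * a * q⁻¹ := by
          rw [hzw.eq, mul_inv_cancel_right]
        have e4 : x * (q * a * q⁻¹ * a⁻¹) * x⁻¹ = q * a * q⁻¹ * a⁻¹ := by
          rw [e1, h1, hxax, e2, e3]
        calc (q * a * q⁻¹ * a⁻¹) * x = (x * (q * a * q⁻¹ * a⁻¹) * x⁻¹) * x := by rw [e4]
          _ = x * (q * a * q⁻¹ * a⁻¹) := by group
    · intro r hr
      rw [Subgroup.mem_centralizer_singleton_iff]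
      exact (hxR r hr.1 (fun a ha => Subgroup.mem_centralizer_iff.mp hr.2 a ha)).symm
  intro b hb
  exact (Subgroup.mem_centralizer_singleton_iff.mp (hle hb)).symm

end Cfsg.Agent.Lead.LargeQuot
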