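import Mathlib
import Cfsg.Agent.Lead.LargeSetting

/-!
Helper library (lead): consequences of the element-wise data `LX Q z` of a large extraspecial
2-subgroup for the normal subgroups of the ambient group.
-/

set_option autoImplicit false

namespace Cfsg.Agent.Lead.LargeQuot

open Cfsg.Agent.Helper3.LargeX

variable {G : Type*} [Group G]

/-- Subgroups of odd order normalized by `Q` are trivial, given a non-central involution `x` of
`Q` and a 2-subgroup `T` containing `z` that is normalized by the centralizer of `x`. -/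
theorem odd_trivial_of [Finite G] {Q : Subgroup G} {z : G} (h : LX Q z) (x : G)
    (hxQ : x ∈ Q) (hx2 : x * x = 1) (hx1 : x ≠ 1) (hxz : x ≠ z) (T : Subgroup G)
    (hT : IsPGroup 2 T) (hzT : z ∈ T)
    (hTn : ∀ c : G, c * x = x * c → ∀ q ∈ T, c * q * c⁻¹ ∈ T)
    (K : Subgroup G) (hK : Odd (Nat.card K)) (hQK : Q ≤ Subgroup.normalizer (K : Set G)) :
    K = ⊥ := by
  have hzfix : ∀ k ∈ K, k * z = z * k → k = 1 := fun k hk hkz => h.fixed_trivial K hK hQK hk hkz
  have hzK : z ∈ Subgroup.normalizer (K : Set G) := hQK h.z_mem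
  have hxK : x ∈ Subgroup.normalizer (K : Set G) := hQK hxQ
  have hxfix : ∀ k ∈ K, k * x = x * k → k = 1 := by
    intro k hk hkx
    apply hzfix k hk
    have h1 : k * z * k⁻¹ * z⁻¹ ∈ T := T.mul_mem (hTn k hkx z hzT) (T.inv_mem hzT)
    have h2 : k * z * k⁻¹ * z⁻¹ ∈ K := by
      have := (Subgroup.mem_normalizer_iff.mp hzK k⁻¹).mp (K.inv_mem hk)
      have e : k * z * k⁻¹ * z⁻¹ = k * (z * k⁻¹ * z⁻¹) := by group
      rw [e]; exact K.mul_mem hk this
    have h3 := Cfsg.Agent.Helper9.eq_one_of_mem_odd_of_mem_two hK hT h2 h1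
    have : k * z = (k * z * k⁻¹ * z⁻¹) * z * k := by group
    rw [this, h3]; group
  have hzinv := inverts_of_fpf K h.z_sq hzK hzfix
  have hxinv := inverts_of_fpf K hx2 hxK hxfix
  obtain ⟨q0, hq0, hq0x⟩ := h.exists_noncomm hxQ hx1 hxz
  rw [eq_bot_iff]
  intro k hk
  rw [Subgroup.mem_bot]
  have hq0K := hQK hq0
  have hk' : q0⁻¹ * k * q0 ∈ K := by
    have := (Subgroup.mem_normalizer_iff.mp (Subgroup.inv_mem _ hq0K) k).mp hk
    simpa using this
  have hzx : (z * x) * k * (z * x)⁻¹ = k := by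
    have e : (z * x) * k * (z * x)⁻¹ = z * (x * k * x⁻¹) * z⁻¹ := by group
    rw [e, hxinv k hk, hzinv k⁻¹ (K.inv_mem hk), inv_inv]
  have hcomm : (q0⁻¹ * k * q0) * x = x * (q0⁻¹ * k * q0) := by
    have e1 : k * (z * x) = (z * x) * k := by
      have : (z * x) * k = ((z * x) * k * (z * x)⁻¹) * (z * x) := by group
      rw [this, hzx]
    rw [← hq0x] at e1
    calc (q0⁻¹ * k * q0) * x = q0⁻¹ * (k * (q0 * x * q0⁻¹)) * q0 := by group
      _ = q0⁻¹ * ((q0 * x * q0⁻¹) * k) * q0 := by rw [e1]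
      _ = x * (q0⁻¹ * k * q0) := by group
  have h1 := hxfix _ hk' hcomm
  have : k = q0 * (q0⁻¹ * k * q0) * q0⁻¹ := by group
  rw [this, h1]; group

/-- A nontrivial normal subgroup contains `z`. -/
theorem z_mem_of_normal [Finite G] {Q : Subgroup G} {z : G} (h : LX Q z)
    (hodd : ∀ K : Subgroup G, Odd (Nat.card K) → Q ≤ Subgroup.normalizer (K : Set G) → K = ⊥)
    (N : Subgroup G) (hN : N.Normal) (hN1 : N ≠ ⊥) : z ∈ N := by
  by_contra hzN
  -- N ⊓ Q is trivial
  have hNQ : ∀ y ∈ N, y ∈ Q → y = 1 := by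
    intro y hyN hyQ
    by_contra hy1
    have hyz : y ≠ z := fun e => hzN (e ▸ hyN)
    obtain ⟨q, _, hqy⟩ := h.exists_noncomm hyQ hy1 hyz
    apply hzN
    have e : z = (q * y * q⁻¹) * y⁻¹ := by rw [hqy]; group
    rw [e]
    exact N.mul_mem (hN.conj_mem y hyN q) (N.inv_mem hyN)
  have hfpf : ∀ x ∈ N, x * z = z * x → x = 1 := by
    intro x hx hxz
    have hxQ : x ∈ Q := by
      apply h.selfC
      rw [Subgroup.mem_centralizer_iff]
      intro q hq
      have h1 : x * q * x⁻¹ * q⁻¹ ∈ Q := Q.mul_mem (h.norm x hxz q hq) (Q.inv_mem hq)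
      have h2 : x * q * x⁻¹ * q⁻¹ ∈ N := by
        have e : x * q * x⁻¹ * q⁻¹ = x * (q * x⁻¹ * q⁻¹) := by group
        rw [e]
        exact N.mul_mem hx (hN.conj_mem _ (N.inv_mem hx) q)
      have h3 := hNQ _ h2 h1
      have : q * x = (x * q * x⁻¹ * q⁻¹)⁻¹ * x * q := by group
      rw [this, h3]; group
    exact hNQ x hx hxQ
  have hzNn : z ∈ Subgroup.normalizer (N : Set G) := by
    rw [Subgroup.normalizer_eq_top]; exact Subgroup.mem_top z
  have hinv := inverts_of_fpf N h.z_sq hzNn hfpf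
  apply hN1
  apply hodd N _ (by rw [Subgroup.normalizer_eq_top]; exact le_top)
  rw [← Nat.not_even_iff_odd, even_iff_two_dvd]
  intro h2
  have : Fact (Nat.Prime 2) := ⟨Nat.prime_two⟩
  obtain ⟨y, hy⟩ := exists_prime_orderOf_dvd_card' 2 h2
  have hy2 : (y : G) * (y : G) = 1 := by
    have := pow_orderOf_eq_one y
    rw [hy] at this
    have e1 := congrArg (fun t : ↥N => (t : G)) this
    simpa [pow_two] using e1
  have hyinv : (y : G)⁻¹ = y := inv_eq_of_mul_eq_one_left hy2
  have h3 := hinv y y.2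
  rw [hyinv] at h3
  have h4 : (y : G) * z = z * (y : G) := by
    calc (y : G) * z = (z * (y : G) * z⁻¹) * z := by rw [h3]
      _ = z * (y : G) := by group
  have h5 := hfpf y y.2 h4
  have h6 : y = 1 := Subtype.ext h5
  rw [h6, orderOf_one] at hy
  omega

/-- A normal subgroup containing the centralizer of `z` is the whole group. -/
theorem eq_top_of_centralizer_le [Finite G] {Q : Subgroup G} {z : G} (h : LX Q z)
    (N : Subgroup G) (hN : N.Normal) (hCN : Subgroup.centralizer ({z} : Set G) ≤ N) :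
    N = ⊤ := by
  have : Fact (Nat.Prime 2) := ⟨Nat.prime_two⟩
  obtain ⟨T, hQT⟩ := h.pgrp.exists_le_sylow
  have hzT : z ∈ (T : Subgroup G) := hQT h.z_mem
  have hcenG : ∀ c : G, (∀ q ∈ Q, c * q = q * c) → c = 1 ∨ c = z := by
    intro c hc
    have hcQ : c ∈ Q := by
      apply h.selfC
      rw [Subgroup.mem_centralizer_iff]
      intro q hq
      exact (hc q hq).symm
    exact h.cent c hcQ hc
  have hnt : Nontrivial ↥(T : Subgroup G) := by
    refine ⟨⟨⟨z, hzT⟩, 1, ?_⟩⟩
    intro e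
    exact h.z_ne (congrArg (fun t : ↥(T : Subgroup G) => (t : G)) e)
  have hcen := IsPGroup.center_nontrivial (T.isPGroup')
  obtain ⟨c, hc1⟩ := exists_ne (1 : Subgroup.center ↥(T : Subgroup G))
  have hcT : ∀ s : ↥(T : Subgroup G), s * (c : ↥(T : Subgroup G)) = (c : ↥(T : Subgroup G)) * s :=
    fun s => Subgroup.mem_center_iff.mp c.2 s
  have hcz : ((c : ↥(T : Subgroup G)) : G) = z := by
    have hcen' : ∀ q ∈ Q, ((c : ↥(T : Subgroup G)) : G) * q = q * ((c : ↥(T : Subgroup G)) : G) := by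
      intro q hq
      have := hcT ⟨q, hQT hq⟩
      exact (congrArg (fun t : ↥(T : Subgroup G) => (t : G)) this).symm
    rcases hcenG _ hcen' with e | e
    · exfalso; apply hc1
      apply Subtype.ext; apply Subtype.ext; exact e
    · exact e
  have hTz : ∀ s ∈ (T : Subgroup G), s * z = z * s := by
    intro s hs
    have := hcT ⟨s, hs⟩
    rw [← hcz]
    exact congrArg (fun t : ↥(T : Subgroup G) => (t : G)) this
  have hTH : (T : Subgroup G) ≤ Subgroup.centralizer ({z} : Set G) :=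
    fun s hs => Subgroup.mem_centralizer_singleton_iff.mpr (hTz s hs)
  have hNT : Subgroup.normalizer ((T : Subgroup G) : Set G) ≤
      Subgroup.centralizer ({z} : Set G) := by
    intro n hn
    rw [Subgroup.mem_centralizer_singleton_iff]
    have hn' := Subgroup.mem_normalizer_iff.mp hn
    have h1 : ∀ q ∈ Q, (n * z * n⁻¹) * q = q * (n * z * n⁻¹) := by
      intro q hq
      have h2 : n⁻¹ * q * n ∈ (T : Subgroup G) := by
        rw [hn']
        have : n * (n⁻¹ * q * n) * n⁻¹ = q := by group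
        rw [this]; exact hQT hq
      have h3 := hTz _ h2
      calc (n * z * n⁻¹) * q = n * (z * (n⁻¹ * q * n)) * n⁻¹ := by group
        _ = n * ((n⁻¹ * q * n) * z) * n⁻¹ := by rw [h3]
        _ = q * (n * z * n⁻¹) := by group
    rcases hcenG _ h1 with e | e
    · exfalso
      apply h.z_ne
      have : z = n⁻¹ * (n * z * n⁻¹) * n := by group
      rw [this, e]; group
    · calc n * z = (n * z * n⁻¹) * n := by group
        _ = z * n := by rw [e]
  have hTN : (T : Subgroup G) ≤ N := hTH.trans hCN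
  have hfr := Sylow.normalizer_sup_eq_top' T hTN
  rw [eq_top_iff, ← hfr]
  exact sup_le (hNT.trans hCN) le_rfl

end Cfsg.Agent.Lead.LargeQuot
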