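import Mathlib
import Cfsg.Prelude.Def_FusionReduction
import Cfsg.Agent.Lead.LocModD
import Cfsg.Agent.Lead.LocModE

set_option autoImplicit false

/-!
Local models of a realized fusion system are involved in the realizing group.
-/

namespace Cfsg.Agent.Lead
namespace LocMod

open Cfsg Cfsg.FusionSystem

variable {Ω : Type*} [Group Ω] {S : Subgroup Ω} {G : Type*} [Group G]

theorem map_normInc_normal (ι : S →* G) (Q : Subgroup Ω) (hQS : Q ≤ S) :
    ((Q.subgroupOf (normalizerIn S Q)).map (normInc ι Q)).Normal := by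
  constructor
  rintro _ ⟨x, hx, rfl⟩ h
  rw [SetLike.mem_coe, Subgroup.mem_subgroupOf] at hx
  have h1 : ι ⟨x, x.2.1⟩ ∈ (Q.subgroupOf S).map ι := ⟨⟨x, x.2.1⟩, by
    rw [SetLike.mem_coe, Subgroup.mem_subgroupOf]; exact hx, rfl⟩
  obtain ⟨q', hq', hq'eq⟩ := (Subgroup.mem_normalizer_iff.mp h.2 _).mp h1
  rw [SetLike.mem_coe, Subgroup.mem_subgroupOf] at hq'
  have hq'N : (q' : Ω) ∈ normalizerIn S Q := ⟨q'.2, Subgroup.le_normalizer hq'⟩
  refine ⟨⟨q', hq'N⟩, ?_, ?_⟩
  · rw [SetLike.mem_coe, Subgroup.mem_subgroupOf]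
    exact hq'
  · apply Subtype.ext
    show ι ⟨q', _⟩ = (h : G) * ι ⟨x, x.2.1⟩ * (h : G)⁻¹
    rw [← hq'eq]

/-- every group involved in a model of a normalizer system `N_F(Q)` (`Q` fully normalized, `C_S(Q) ≤ Q`) of a
system realized by `G` on a Sylow subgroup is involved in `G` -/
theorem involves_of_normalizer_model [Finite S] [Finite G] (p : ℕ) [Fact p.Prime]
    (F : FusionSystem S) (ι : S →* G) (hι : F.IsRealizedBy ι) (T : Sylow p G)
    (hT : (T : Subgroup G) = ι.range) (Q : Subgroup Ω) (hQ : F.IsFullyNormalized Q)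
    (hQc : centralizerIn S Q ≤ Q) (N : FusionSystem (normalizerIn S Q))
    (hN : F.IsNormalizerSystem Q N) {L : Type*} [Group L] (j : ↥(normalizerIn S Q) →* L)
    (hL : N.IsModel p L j) {X : Type*} [Group X] (hX : Cfsg.Involves X L) : Cfsg.Involves X G := by
  have hQS := hQ.1
  have hSp : IsPGroup p S := by
    have h1 : IsPGroup p ι.range := hT ▸ T.isPGroup'
    exact h1.of_injective ι.rangeRestrict
      (fun a b hab => hι.1 (show ι a = ι b from congrArg Subtype.val hab))
  haveI : Finite ↥(normalizerIn S Q) := Fusion.finite_of_le inf_le_left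
  have hNp : IsPGroup p ↥(normalizerIn S Q) := hSp.to_le inf_le_left
  have hNreal := normalizer_isRealizedBy F ι hι Q hQS N hN
  obtain ⟨R, hR⟩ := normInc_range_sylow p F ι hι T hT Q hQ
  have hQN : Q ≤ normalizerIn S Q := le_inf hQS Subgroup.le_normalizer
  have hQc' : centralizerIn (normalizerIn S Q) Q ≤ Q := by
    intro x hx
    exact hQc ⟨hx.1.1, hx.2⟩
  have h1 := involves_of_model p hNp N j hL (normInc ι Q) hNreal R hR Q hQN hQc'
    (map_normInc_normal ι Q hQS) hX
  exact Cfsg.Agent.Helper1.QuadFree.involves_of_injective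
    (Subgroup.normalizer (((Q.subgroupOf S).map ι : Subgroup G) : Set G)).subtype
    (Subgroup.subtype_injective _) h1

theorem groupFusionSystem_isRealizedBy (S : Subgroup G) :
    (groupFusionSystem S).IsRealizedBy S.subtype := by
  refine ⟨Subgroup.subtype_injective S, fun P hP φ hφ => ?_⟩
  constructor
  · rintro ⟨-, -, g, hg⟩
    exact ⟨g, fun x => hg x⟩
  · rintro ⟨g, hg⟩
    exact ⟨hP, hφ, g, fun x => hg x⟩

universe u

theorem sectionFree_of_not_involves {G : Type u} [Group G] [Finite G] {p : ℕ} [Fact p.Prime]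
    (P : Sylow p G) {X : Type*} [Group X] (h : ¬ Cfsg.Involves X G) :
    (groupFusionSystem (P : Subgroup G)).IsSectionFree p X := by
  intro Q hQn hQc N hN L _ j hL hXL
  apply h
  haveI : Finite ↥(P : Subgroup G) := inferInstance
  exact involves_of_normalizer_model p (groupFusionSystem (P : Subgroup G)) (P : Subgroup G).subtype
    (groupFusionSystem_isRealizedBy _) P (Subgroup.range_subtype _).symm Q hQn
    (hQc.2 Q (Fusion.isConj_refl _ hQn.1)) N hN j hL hXL

end LocMod
end Cfsg.Agent.Lead
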