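import Mathlib
import Cfsg.Prelude.Def_FusionReduction
import Cfsg.Agent.Lead.LocModF
import Cfsg.Agent.S5096

set_option autoImplicit false

/-!
If a group involved in `G` is "locally involved" (in all quotients of `N_G(T)` by normal `p'`-subgroups, for some
centric fully normalized `T`), then the group fusion system is not free of it.
-/

namespace Cfsg.Agent.Lead
namespace LocMod

open Cfsg Cfsg.FusionSystem

universe u

theorem not_sectionFree_of_local {G : Type u} [Group G] [Finite G] {p : ℕ} [Fact p.Prime]
    (P : Sylow p G) {X : Type*} [Group X] (T : Subgroup G)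
    (hTc : (groupFusionSystem (P : Subgroup G)).IsCentric T)
    (hTn : (groupFusionSystem (P : Subgroup G)).IsFullyNormalized T)
    (hloc : ∀ (K : Subgroup ↥(Subgroup.normalizer (T : Set G))) [K.Normal], (Nat.card K).Coprime p →
      Cfsg.Involves X (↥(Subgroup.normalizer (T : Set G)) ⧸ K)) :
    ¬ (groupFusionSystem (P : Subgroup G)).IsSectionFree p X := by
  intro hfree
  set S : Subgroup G := (P : Subgroup G) with hS
  set F := groupFusionSystem S with hF
  have hTS : T ≤ S := hTn.1
  have hreal : F.IsRealizedBy S.subtype := groupFusionSystem_isRealizedBy S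
  obtain ⟨N, hN⟩ := Cfsg.Agent.S5096.result F T hTS
  have hNreal := normalizer_isRealizedBy F S.subtype hreal T hTS N hN
  obtain ⟨R, hR⟩ := normInc_range_sylow p F S.subtype hreal P (Subgroup.range_subtype _).symm T hTn
  have hTN : T ≤ normalizerIn S T := le_inf hTS Subgroup.le_normalizer
  have hTc' : centralizerIn (normalizerIn S T) T ≤ T := by
    intro x hx
    exact hTc.2 T (Fusion.isConj_refl _ hTS) ⟨hx.1.1, hx.2⟩
  -- generalize the normalizer subgroup
  have hloc' : ∀ (M : Subgroup G), M = Subgroup.normalizer (T : Set G) →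
      ∀ (K : Subgroup ↥M) [K.Normal], (Nat.card K).Coprime p → Cfsg.Involves X (↥M ⧸ K) := by
    intro M hM
    subst hM
    exact fun K _ hK => hloc K hK
  have hMeq : Subgroup.normalizer ((((T.subgroupOf S).map S.subtype : Subgroup G)) : Set G) =
      Subgroup.normalizer (T : Set G) := by
    rw [Subgroup.map_subgroupOf_eq_of_le hTS]
  obtain ⟨K, hKn, hKcop, hK⟩ := exists_model_quotient p N (normInc S.subtype T) hNreal R hR T hTN hTc'
    (map_normInc_normal S.subtype T hTS)
  haveI := hKn
  exact hfree T hTn hTc N hN _ _ hK (hloc' _ hMeq K hKcop)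

end LocMod
end Cfsg.Agent.Lead
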