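import Mathlib
import Cfsg.Prelude.Def_CaseTheorems
import Cfsg.Agent.Helper4.MCBase
import Cfsg.Agent.Helper1.MaxClassNormal
import Cfsg.Agent.Helper3.BlackA

/-!
# Blackburn project: order of a `p`-group of maximal class bounded by its sectional rank
(core of S3806; the power structure `agemo p γ_i ≤ γ_{i+p-1}` is a hypothesis)
-/

set_option autoImplicit false
set_option linter.style.haveILetI false

namespace Cfsg.Agent.Lead.MC

open scoped commutatorElement
open Cfsg.Agent.Helper4.MC Cfsg.Agent.Helper8.HP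

universe u

section sect

variable {G : Type u} [Group G] [Finite G] {p n : ℕ} [hp : Fact p.Prime]

/-- the section `γ_a / γ_b` is elementary abelian of order `p ^ (b - a)` when `b ≤ 2a+1`,
`b ≤ a+p-1`; hence `b - a` is at most the sectional rank. -/
theorem section_rank_le (hG : IsMC p n G)
    (hC1 : ∀ i, 2 ≤ i → agemo p (gam G i) ≤ gam G (i + p - 1)) {k : ℕ}
    (hsr : Cfsg.SectionalPRankLE p k G) {a b : ℕ} (ha : 2 ≤ a) (hab : a ≤ b) (hbn : b ≤ n)
    (hb1 : b ≤ 2 * a + 1) (hb2 : b + 1 ≤ a + p) : b - a ≤ k := by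
  have hpp := hp.out
  have hle : gam G b ≤ gam G a := gam_anti hab
  haveI hNn : ((gam G b).subgroupOf (gam G a)).Normal := inferInstance
  have h := hsr (gam G a) ((gam G b).subgroupOf (gam G a)) ⊤ ?_ ?_
  · -- the cardinality
    rw [Subgroup.card_top] at h
    have h1 := Subgroup.card_eq_card_quotient_mul_card_subgroup ((gam G b).subgroupOf (gam G a))
    have h2 : Nat.card ((gam G b).subgroupOf (gam G a)) = Nat.card (gam G b) :=
      Nat.card_congr (Subgroup.subgroupOfEquivOfLe hle).toEquiv
    rw [h2, hG.card_gam ha (hab.trans hbn), hG.card_gam (ha.trans hab) hbn] at h1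
    have h3 : p ^ (n - a) = p ^ (b - a) * p ^ (n - b) := by
      rw [← pow_add]; congr 1; omega
    rw [h3] at h1
    have h4 := Nat.eq_of_mul_eq_mul_right (pow_pos hpp.pos _) h1
    rw [← h4] at h
    exact (Nat.pow_le_pow_iff_right hpp.one_lt).1 h
  · -- commutative
    refine ⟨⟨?_⟩⟩
    rintro ⟨x, -⟩ ⟨y, -⟩
    apply Subtype.ext
    show x * y = y * x
    induction x using QuotientGroup.induction_on with
    | H u =>
    induction y using QuotientGroup.induction_on with
    | H v =>
    rw [← QuotientGroup.mk_mul, ← QuotientGroup.mk_mul]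
    symm
    rw [QuotientGroup.eq, Subgroup.mem_subgroupOf]
    have h5 : ⁅(u : G)⁻¹, (v : G)⁻¹⁆ ∈ ⁅gam G a, gam G a⁆ :=
      Subgroup.commutator_mem_commutator (inv_mem u.2) (inv_mem v.2)
    have h6 := gam_anti hb1 (hG.gam_comm_self_le ha h5)
    have e : (((v * u)⁻¹ * (u * v) : gam G a) : G) = ⁅(u : G)⁻¹, (v : G)⁻¹⁆ := by
      rw [commutatorElement_def]
      push_cast
      group
    rw [e]
    exact h6
  · -- exponent `p`
    rintro x -
    induction x using QuotientGroup.induction_on with
    | H u =>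
    rw [← QuotientGroup.mk_pow, QuotientGroup.eq_one_iff, Subgroup.mem_subgroupOf]
    have h5 : (u : G) ^ p ∈ agemo p (gam G a) := pow_mem_agemo p u.2
    have h6 := hC1 a ha h5
    have h7 : gam G (a + p - 1) ≤ gam G b := gam_anti (by omega)
    simpa using h7 h6

omit [Finite G] in
theorem gam_two_eq_commutator : gam G 2 = commutator G := by
  unfold gam
  rw [show 2 - 1 = 0 + 1 from rfl, Subgroup.lowerCentralSeries_succ,
    Subgroup.lowerCentralSeries_zero, commutator_def]

/-- a group of maximal class has sectional rank at least two. -/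
theorem two_le_of_sectionalPRankLE (hG : IsMC p n G) {k : ℕ}
    (hsr : Cfsg.SectionalPRankLE p k G) : 2 ≤ k := by
  have hpp := hp.out
  have h3 := hG.three_le
  have hr : Cfsg.PRankLE p k (G ⧸ gam G 2) :=
    Cfsg.Agent.Helper3.Black.pRankLE_of_sectional
      (Cfsg.Agent.Helper3.Black.sectional_quotient hsr (gam G 2))
  have hcard : Nat.card (G ⧸ gam G 2) = p ^ 2 := by
    rw [← Subgroup.index_eq_card]
    exact hG.index_gam le_rfl (by omega)
  have h := hr ⊤ ?_ ?_
  · rw [Subgroup.card_top, hcard] at h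
    exact (Nat.pow_le_pow_iff_right hpp.one_lt).1 h
  · refine ⟨⟨?_⟩⟩
    rintro ⟨x, -⟩ ⟨y, -⟩
    apply Subtype.ext
    show x * y = y * x
    induction x using QuotientGroup.induction_on with
    | H u =>
    induction y using QuotientGroup.induction_on with
    | H v =>
    rw [← QuotientGroup.mk_mul, ← QuotientGroup.mk_mul]
    symm
    rw [QuotientGroup.eq]
    have h5 : ⁅u⁻¹, v⁻¹⁆ ∈ gam G 2 :=
      comm_mem_gam_succ (G := G) (i := 1) le_rfl u⁻¹ (x := v⁻¹) (Subgroup.mem_top _)
    have e : (v * u)⁻¹ * (u * v) = ⁅u⁻¹, v⁻¹⁆ := by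
      rw [commutatorElement_def]
      group
    rw [e]
    exact h5
  · rintro x -
    by_contra hx
    have ho : orderOf x ∣ p ^ 2 := hcard ▸ orderOf_dvd_natCard x
    obtain ⟨j, hj, hjx⟩ := (Nat.dvd_prime_pow hpp).1 ho
    have hj2 : j = 2 := by
      by_contra hne
      have hj1 : j ≤ 1 := by omega
      apply hx
      have : orderOf x ∣ p := by
        rw [hjx]
        calc p ^ j ∣ p ^ 1 := pow_dvd_pow p hj1
          _ = p := pow_one p
      exact orderOf_dvd_iff_pow_eq_one.1 this
    have hcyc : IsCyclic (G ⧸ gam G 2) :=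
      isCyclic_of_orderOf_eq_card x (by rw [hjx, hj2, hcard])
    have hcyc' : IsCyclic (G ⧸ commutator G) := by
      have key : ∀ K : Subgroup G, ∀ [K.Normal], K = gam G 2 → IsCyclic (G ⧸ K) := by
        intro K _ hK
        subst hK
        exact hcyc
      exact key _ gam_two_eq_commutator.symm
    have hbot := Cfsg.Agent.Helper1.commutator_eq_bot_of_cyclic_quotient hG.isPGroup hcyc'
    have hc2 := hG.card_gam_two
    rw [gam_two_eq_commutator, hbot, Subgroup.card_bot] at hc2
    have : 1 < p ^ (n - 2) := Nat.one_lt_pow (by omega) hpp.one_lt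
    omega

/-- **Core of S3806.** -/
theorem le_two_mul_of_sectionalPRankLE (hG : IsMC p n G)
    (hC1 : ∀ i, 2 ≤ i → agemo p (gam G i) ≤ gam G (i + p - 1)) {k : ℕ}
    (hsr : Cfsg.SectionalPRankLE p k G) (hpk : k + 2 ≤ p) : n ≤ 2 * k := by
  have hk2 := two_le_of_sectionalPRankLE hG hsr
  rcases Nat.lt_or_ge n 5 with h5 | h5
  · omega
  · rcases Nat.lt_or_ge (p - 2) ((n - 1) / 2) with hlt | hge
    · -- `i = p - 2`
      have h := section_rank_le hG hC1 hsr (a := p - 2) (b := 2 * (p - 2) + 1) (by omega)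
        (by omega) (by omega) le_rfl (by omega)
      omega
    · have h := section_rank_le hG hC1 hsr (a := (n - 1) / 2) (b := 2 * ((n - 1) / 2) + 1)
        (by omega) (by omega) (by omega) le_rfl (by omega)
      omega

end sect

end Cfsg.Agent.Lead.MC
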