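import Mathlib
import Cfsg.Agent.Lead.MCS3806
import Cfsg.Agent.Helper3.MCC1
import Cfsg.Agent.Helper1.MCB2

/-!
# Blackburn project: S3806 from the existence of a uniform element
-/

set_option autoImplicit false
set_option linter.style.haveILetI false

namespace Cfsg.Agent.Lead.MC

open scoped commutatorElement
open Cfsg.Agent.Helper4.MC Cfsg.Agent.Helper8.HP

universe u

/-- S3806 with the existence of a uniform element as a hypothesis. -/
theorem card_le_of_exists_uniform {S : Type u} [Group S] [Finite S] (p : ℕ) [Fact p.Prime]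
    (n : ℕ) (hn : 2 ≤ n) (hcard : Nat.card S = p ^ n) (hmax : Group.nilpotencyClass S = n - 1)
    (k : ℕ) (hk : 1 ≤ k) (hsr : Cfsg.SectionalPRankLE p k S) (hpk : k + 2 ≤ p)
    (hU : IsMC p n S → ∃ s : S, IsUniform p s) : Nat.card S ≤ p ^ (2 * k) := by
  have hpp := (Fact.out : p.Prime)
  rw [hcard]
  apply Nat.pow_le_pow_right hpp.pos
  rcases Nat.lt_or_ge n 3 with h3 | h3
  · omega
  · have hG : IsMC p n S := ⟨hcard, h3, hmax⟩
    obtain ⟨s, hs⟩ := hU hG
    have hC1 := Cfsg.Agent.Helper3.MC.agemo_gam_le_of_mul_pow hG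
      (fun x hx => Cfsg.Agent.Helper1.MC.IsUniform.mul_pow hG hs hx)
    exact le_two_mul_of_sectionalPRankLE hG hC1 hsr hpk

end Cfsg.Agent.Lead.MC
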