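import Mathlib
import Cfsg.Agent.Lead.MCUE2
import Cfsg.Agent.Helper6.MCDepthFinal

/-!
# Blackburn project: `|H : ℧₁(H)| ≤ p ^ p` for every subgroup of a `p`-group of maximal class
(S4144; the case of order `p ^ (p+1)` needs an element of order `p ^ 2`, a hypothesis here)
-/

set_option autoImplicit false
set_option linter.style.haveILetI false

namespace Cfsg.Agent.Lead.MC

open scoped commutatorElement
open Cfsg.Agent.Helper4.MC Cfsg.Agent.Helper8.HP

universe u

theorem relIndex_agemo_le_all {X : Type u} [Group X] [Finite X] {p : ℕ} [Fact p.Prime] (n : ℕ)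
    (hX : Nat.card X = p ^ n) (hmax : Group.nilpotencyClass X = n - 1)
    (hD : n = p + 1 → ∃ x : X, x ^ p ≠ 1) (H : Subgroup X) :
    (agemo p H).relIndex H ≤ p ^ p := by
  have hpp := (Fact.out : p.Prime)
  have hp2 := hpp.two_le
  have hdvd : (agemo p H).relIndex H ∣ Nat.card H := Subgroup.relIndex_dvd_card _ _
  have hHX : Nat.card H ∣ p ^ n := hX ▸ Subgroup.card_subgroup_dvd_card H
  obtain ⟨k, hk, hkH⟩ := (Nat.dvd_prime_pow hpp).1 hHX
  have hle : (agemo p H).relIndex H ≤ p ^ k := by
    rw [← hkH]; exact Nat.le_of_dvd Nat.card_pos hdvd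
  rcases Nat.lt_or_ge n (p + 1) with h1 | h1
  · -- `n ≤ p`
    exact hle.trans (Nat.pow_le_pow_right hpp.pos (by omega))
  rcases Nat.lt_or_ge n (p + 2) with h2 | h2
  · -- `n = p + 1`
    have hn : n = p + 1 := by omega
    by_cases hH : H = ⊤
    · subst hH
      rw [Subgroup.relIndex_top_right]
      obtain ⟨x, hx⟩ := hD hn
      have hne : agemo p (⊤ : Subgroup X) ≠ ⊥ := by
        intro h0
        have : x ^ p ∈ agemo p (⊤ : Subgroup X) := pow_mem_agemo p (Subgroup.mem_top x)
        rw [h0, Subgroup.mem_bot] at this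
        exact hx this
      have hA : Nat.card (agemo p (⊤ : Subgroup X)) ∣ p ^ n :=
        hX ▸ Subgroup.card_subgroup_dvd_card _
      obtain ⟨j, hj, hjA⟩ := (Nat.dvd_prime_pow hpp).1 hA
      have hj1 : 1 ≤ j := by
        by_contra h0
        have : j = 0 := by omega
        rw [this, pow_zero] at hjA
        exact hne (Subgroup.card_eq_one.1 hjA)
      have hmul := Subgroup.card_mul_index (agemo p (⊤ : Subgroup X))
      rw [hjA, hX] at hmul
      have h3 : p ^ n = p ^ j * p ^ (n - j) := by
        rw [← pow_add]; congr 1; omega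
      rw [h3] at hmul
      have h4 := Nat.eq_of_mul_eq_mul_left (pow_pos hpp.pos _) hmul
      rw [h4]
      exact Nat.pow_le_pow_right hpp.pos (by omega)
    · -- a proper subgroup has order at most `p ^ p`
      have hlt : Nat.card H < Nat.card X := by
        have hH' : H < ⊤ := lt_top_iff_ne_top.2 hH
        have := Cfsg.Agent.Helper1.card_lt_card_of_lt hH'
        rwa [Subgroup.card_top] at this
      rw [hkH, hX] at hlt
      have hkn : k < n := (Nat.pow_lt_pow_iff_right hpp.one_lt).1 hlt
      exact hle.trans (Nat.pow_le_pow_right hpp.pos (by omega))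
  · -- `n ≥ p + 2`: Blackburn
    have hG : IsMC p n X := ⟨hX, by omega, hmax⟩
    exact Cfsg.Agent.Helper6.MC.relIndex_agemo_le hG h2 (powerStr hG h2) H

end Cfsg.Agent.Lead.MC
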