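import Mathlib

/-!
# Marggraf: the block relation of a doubly transitive group (lead)

`G` acts on `Ω`, `a : Ω`, `B : Set Ω` a block of the stabilizer of `a` not containing `a`.
`R a B x y y'` says that `y, y'` lie in a common translate `g • B` with `g • a = x`.
Under double transitivity the number of `x` with `R a B x y y'` (for `y ≠ y'`) is `|B| - 1`.
-/

open MulAction
open scoped Pointwise

namespace Cfsg.Agent.Lead.Marg

variable {G Ω : Type*} [Group G] [MulAction G Ω]

/-- elementwise double transitivity -/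
def TwoTr (G Ω : Type*) [Group G] [MulAction G Ω] : Prop :=
  ∀ a b c d : Ω, a ≠ b → c ≠ d → ∃ g : G, g • a = c ∧ g • b = d

/-- `B` is a block of the stabilizer of `a`, and does not contain `a`. -/
structure PB (G : Type*) {Ω : Type*} [Group G] [MulAction G Ω] (a : Ω) (B : Set Ω) : Prop where
  nmem : a ∉ B
  blk : ∀ g : G, g • a = a → g • B = B ∨ Disjoint (g • B) B

/-- the block relation -/
def R (G : Type*) {Ω : Type*} [Group G] [MulAction G Ω] (a : Ω) (B : Set Ω) (x y y' : Ω) : Prop :=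
  ∃ g : G, g • a = x ∧ y ∈ g • B ∧ y' ∈ g • B

theorem PB.eq_or_disjoint {a : Ω} {B : Set Ω} (hB : PB G a B) {g g' : G} (h : g • a = g' • a) :
    g • B = g' • B ∨ Disjoint (g • B) (g' • B) := by
  have h1 : (g'⁻¹ * g) • a = a := by
    rw [mul_smul, h, inv_smul_smul]
  rcases hB.blk _ h1 with h2 | h2
  · left
    rw [mul_smul] at h2
    have := congrArg (fun S => g' • S) h2
    simpa using this
  · right
    rw [mul_smul] at h2
    have h3 : Disjoint (g' • (g'⁻¹ • g • B)) (g' • B) := by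
      rw [Set.disjoint_left] at h2 ⊢
      intro z hz hz'
      rw [Set.mem_smul_set_iff_inv_smul_mem] at hz hz'
      exact h2 hz hz'
    simpa using h3

theorem PB.not_mem_smul {a : Ω} {B : Set Ω} (hB : PB G a B) {g : G} {x : Ω} (h : g • a = x) :
    x ∉ g • B := by
  intro hx
  rw [Set.mem_smul_set_iff_inv_smul_mem, ← h, inv_smul_smul] at hx
  exact hB.nmem hx

theorem R.symm {a : Ω} {B : Set Ω} {x y y' : Ω} (h : R G a B x y y') : R G a B x y' y := by
  obtain ⟨g, h1, h2, h3⟩ := h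
  exact ⟨g, h1, h3, h2⟩

theorem R.ne_left {a : Ω} {B : Set Ω} (hB : PB G a B) {x y y' : Ω} (h : R G a B x y y') : y ≠ x := by
  obtain ⟨g, h1, h2, h3⟩ := h
  rintro rfl
  exact hB.not_mem_smul h1 h2

theorem R.ne_right {a : Ω} {B : Set Ω} (hB : PB G a B) {x y y' : Ω} (h : R G a B x y y') : y' ≠ x :=
  h.symm.ne_left hB

theorem R.smul {a : Ω} {B : Set Ω} {x y y' : Ω} (h : R G a B x y y') (k : G) :
    R G a B (k • x) (k • y) (k • y') := by
  obtain ⟨g, h1, h2, h3⟩ := h
  refine ⟨k * g, by rw [mul_smul, h1], ?_, ?_⟩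
  · rw [mul_smul]; exact Set.smul_mem_smul_set h2
  · rw [mul_smul]; exact Set.smul_mem_smul_set h3

theorem R_smul_iff {a : Ω} {B : Set Ω} {x y y' : Ω} (k : G) :
    R G a B (k • x) (k • y) (k • y') ↔ R G a B x y y' := by
  constructor
  · intro h
    have := h.smul k⁻¹
    simpa using this
  · intro h; exact h.smul k

theorem R.trans {a : Ω} {B : Set Ω} (hB : PB G a B) {x y y' y'' : Ω}
    (h : R G a B x y y') (h' : R G a B x y y'') : R G a B x y' y'' := by
  obtain ⟨g, h1, h2, h3⟩ := h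
  obtain ⟨g', h1', h2', h3'⟩ := h'
  rcases hB.eq_or_disjoint (h1.trans h1'.symm) with h4 | h4
  · exact ⟨g, h1, h3, h4 ▸ h3'⟩
  · exact absurd h2' (Set.disjoint_left.mp h4 h2)

/-- every point other than `x` lies in a translate based at `x` -/
theorem exists_translate (h2 : TwoTr G Ω) {a : Ω} {B : Set Ω} (hB : PB G a B) (hne : B.Nonempty)
    {x y : Ω} (hxy : y ≠ x) : ∃ g : G, g • a = x ∧ y ∈ g • B := by
  obtain ⟨b, hb⟩ := hne
  have hab : a ≠ b := fun h => hB.nmem (h ▸ hb)
  obtain ⟨g, hg1, hg2⟩ := h2 a b x y hab (Ne.symm hxy)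
  exact ⟨g, hg1, hg2 ▸ Set.smul_mem_smul_set hb⟩

theorem R_self (h2 : TwoTr G Ω) {a : Ω} {B : Set Ω} (hB : PB G a B) (hne : B.Nonempty)
    {x y : Ω} (hxy : y ≠ x) : R G a B x y y := by
  obtain ⟨g, h1, h3⟩ := exists_translate h2 hB hne hxy
  exact ⟨g, h1, h3, h3⟩

/-- the class of `y` in the system based at `x` is a translate of `B` -/
theorem setOf_R_eq {a : Ω} {B : Set Ω} (hB : PB G a B) {x y : Ω} {g : G} (h1 : g • a = x)
    (h3 : y ∈ g • B) : {y' | R G a B x y y'} = g • B := by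
  ext y'
  constructor
  · rintro ⟨g', h1', h2', h3'⟩
    rcases hB.eq_or_disjoint (h1.trans h1'.symm) with h4 | h4
    · rw [h4]; exact h3'
    · exact absurd h2' (Set.disjoint_left.mp h4 h3)
  · intro hy'
    exact ⟨g, h1, h3, hy'⟩

theorem ncard_setOf_R (h2 : TwoTr G Ω) {a : Ω} {B : Set Ω} (hB : PB G a B) (hne : B.Nonempty)
    {x y : Ω} (hxy : y ≠ x) : {y' | R G a B x y y'}.ncard = B.ncard := by
  obtain ⟨g, h1, h3⟩ := exists_translate h2 hB hne hxy
  rw [setOf_R_eq hB h1 h3, Set.ncard_smul_set]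

end Cfsg.Agent.Lead.Marg
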