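import Cfsg.Agent.Lead.MargA

/-!
# Marggraf: counting the block relation (lead)
-/

open MulAction
open scoped Pointwise

namespace Cfsg.Agent.Lead.Marg

variable {G Ω : Type*} [Group G] [MulAction G Ω]

/-- number of base points `x` for which `y, y'` lie in a common block of the system based at `x` -/
noncomputable def cnt (G : Type*) {Ω : Type*} [Group G] [MulAction G Ω] (a : Ω) (B : Set Ω) (y y' : Ω) : ℕ :=
  {x | R G a B x y y'}.ncard

theorem cnt_smul {a : Ω} {B : Set Ω} (k : G) (y y' : Ω) :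
    cnt G a B (k • y) (k • y') = cnt G a B y y' := by
  unfold cnt
  have : {x | R G a B x (k • y) (k • y')} = (fun x => k • x) '' {x | R G a B x y y'} := by
    ext x
    simp only [Set.mem_setOf_eq, Set.mem_image]
    constructor
    · intro h
      refine ⟨k⁻¹ • x, ?_, by simp⟩
      have := (R_smul_iff (G := G) (a := a) (B := B) (x := k⁻¹ • x) (y := y) (y' := y') k).mp
      apply this
      simpa using h
    · rintro ⟨x', hx', rfl⟩
      exact hx'.smul k
  rw [this, Set.ncard_image_of_injective _ (MulAction.injective k)]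

theorem cnt_const (h2 : TwoTr G Ω) {a : Ω} {B : Set Ω} {y y' z z' : Ω} (h : y ≠ y') (h' : z ≠ z') :
    cnt G a B y y' = cnt G a B z z' := by
  obtain ⟨k, rfl, rfl⟩ := h2 y y' z z' h h'
  rw [cnt_smul]

section Count

variable [Fintype Ω] [DecidableEq Ω]

open Classical in
theorem inner_sum (h2 : TwoTr G Ω) {a : Ω} {B : Set Ω} (hB : PB G a B) (hne : B.Nonempty) (x y : Ω) :
    (∑ y' : Ω, if (y ≠ y' ∧ R G a B x y y') then 1 else 0) = if y = x then 0 else B.ncard - 1 := by
  split_ifs with hyx
  · apply Finset.sum_eq_zero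
    intro y' _
    rw [if_neg]
    rintro ⟨_, hR⟩
    exact hR.ne_left hB hyx
  · rw [Finset.sum_boole]
    have h1 : (Finset.univ.filter (fun y' => y ≠ y' ∧ R G a B x y y')) =
        ({y' | R G a B x y y'} \ {y}).toFinset := by
      ext y'
      simp only [Finset.mem_filter, Finset.mem_univ, true_and, Set.mem_toFinset, Set.mem_diff,
        Set.mem_setOf_eq, Set.mem_singleton_iff]
      constructor
      · rintro ⟨h, h'⟩; exact ⟨h', fun e => h e.symm⟩
      · rintro ⟨h, h'⟩; exact ⟨fun e => h' e.symm, h⟩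
    rw [h1, ← Set.ncard_eq_toFinset_card', Nat.cast_id]
    have hmem : y ∈ {y' | R G a B x y y'} := R_self h2 hB hne hyx
    rw [Set.ncard_diff_singleton_of_mem hmem, ncard_setOf_R h2 hB hne hyx]

open Classical in
theorem sum_way1 (h2 : TwoTr G Ω) {a : Ω} {B : Set Ω} (hB : PB G a B) (hne : B.Nonempty) :
    (∑ x : Ω, ∑ y : Ω, ∑ y' : Ω, if (y ≠ y' ∧ R G a B x y y') then 1 else 0) =
      Fintype.card Ω * ((Fintype.card Ω - 1) * (B.ncard - 1)) := by
  have : ∀ x : Ω, (∑ y : Ω, ∑ y' : Ω, if (y ≠ y' ∧ R G a B x y y') then 1 else 0) =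
      (Fintype.card Ω - 1) * (B.ncard - 1) := by
    intro x
    simp_rw [inner_sum h2 hB hne x]
    rw [Finset.sum_ite, Finset.sum_const_zero, zero_add, Finset.sum_const, smul_eq_mul]
    congr 1
    rw [Finset.filter_not, Finset.card_sdiff_of_subset (Finset.subset_univ _), Finset.card_univ,
      Finset.filter_eq' , if_pos (Finset.mem_univ x), Finset.card_singleton]
  simp_rw [this]
  rw [Finset.sum_const, smul_eq_mul, Finset.card_univ]

open Classical in
theorem sum_way2 {a : Ω} {B : Set Ω} (N0 : ℕ)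
    (hN : ∀ y y' : Ω, y ≠ y' → cnt G a B y y' = N0) :
    (∑ y : Ω, ∑ y' : Ω, ∑ x : Ω, if (y ≠ y' ∧ R G a B x y y') then 1 else 0) =
      Fintype.card Ω * ((Fintype.card Ω - 1) * N0) := by
  have h1 : ∀ y y' : Ω, (∑ x : Ω, if (y ≠ y' ∧ R G a B x y y') then 1 else 0) =
      if y = y' then 0 else N0 := by
    intro y y'
    split_ifs with h
    · apply Finset.sum_eq_zero
      intro x _
      rw [if_neg]
      rintro ⟨h', _⟩
      exact h' h
    · rw [Finset.sum_boole]
      have : (Finset.univ.filter (fun x => y ≠ y' ∧ R G a B x y y')) =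
          ({x | R G a B x y y'}).toFinset := by
        ext x
        simp [h]
      rw [this, ← Set.ncard_eq_toFinset_card', Nat.cast_id]
      exact hN y y' h
  simp_rw [h1]
  have : ∀ y : Ω, (∑ y' : Ω, if y = y' then 0 else N0) = (Fintype.card Ω - 1) * N0 := by
    intro y
    rw [Finset.sum_ite, Finset.sum_const_zero, zero_add, Finset.sum_const, smul_eq_mul]
    congr 1
    rw [Finset.filter_not, Finset.card_sdiff_of_subset (Finset.subset_univ _), Finset.card_univ,
      Finset.filter_eq, if_pos (Finset.mem_univ y), Finset.card_singleton]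
  simp_rw [this]
  rw [Finset.sum_const, smul_eq_mul, Finset.card_univ]

/-- the key count: for `y ≠ y'` exactly `|B| - 1` base points put `y, y'` in a common block -/
theorem cnt_eq (h2 : TwoTr G Ω) {a : Ω} {B : Set Ω} (hB : PB G a B) (hne : B.Nonempty)
    {y y' : Ω} (hyy : y ≠ y') : cnt G a B y y' = B.ncard - 1 := by
  classical
  have hN : ∀ z z' : Ω, z ≠ z' → cnt G a B z z' = cnt G a B y y' :=
    fun z z' h => cnt_const h2 h hyy
  have e1 := sum_way1 h2 hB hne
  have e2 := sum_way2 (G := G) (a := a) (B := B) (cnt G a B y y') hN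
  have e3 : (∑ x : Ω, ∑ y : Ω, ∑ y' : Ω, if (y ≠ y' ∧ R G a B x y y') then 1 else 0) =
      (∑ y : Ω, ∑ y' : Ω, ∑ x : Ω, if (y ≠ y' ∧ R G a B x y y') then 1 else 0) := by
    rw [Finset.sum_comm]
    apply Finset.sum_congr rfl
    intro y _
    rw [Finset.sum_comm]
  rw [e1, e2] at e3
  have hn : 2 ≤ Fintype.card Ω := by
    have : 1 < Fintype.card Ω := Fintype.one_lt_card_iff.mpr ⟨y, y', hyy⟩
    omega
  have hpos : 0 < Fintype.card Ω * (Fintype.card Ω - 1) := by
    apply Nat.mul_pos <;> omega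
  have : Fintype.card Ω * (Fintype.card Ω - 1) * (B.ncard - 1) =
      Fintype.card Ω * (Fintype.card Ω - 1) * cnt G a B y y' := by
    rw [mul_assoc, mul_assoc]; exact e3
  exact (Nat.eq_of_mul_eq_mul_left hpos this).symm

end Count

end Cfsg.Agent.Lead.Marg
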