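import Mathlib
import Cfsg.Agent.Helper1.MaxClassBasic
import Cfsg.Agent.Lead.MaximalClass

set_option autoImplicit false

/-! The second centre of a `p`-group of maximal class and its centralizer. -/

namespace Cfsg.Agent.Lead.MCE

open scoped commutatorElement

universe u

variable {X : Type u} [Group X]

/-- Membership in the second centre through the central quotient. -/
lemma mem_ucs2_iff (x : X) :
    x ∈ Subgroup.upperCentralSeries X 2 ↔
      QuotientGroup.mk' (Subgroup.center X) x ∈ Subgroup.center (X ⧸ Subgroup.center X) := by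
  rw [show (2 : ℕ) = 1 + 1 from rfl, Subgroup.mem_upperCentralSeries_succ_iff,
    Subgroup.upperCentralSeries_one, Subgroup.mem_center_iff]
  constructor
  · intro h g
    obtain ⟨u, rfl⟩ := QuotientGroup.mk'_surjective _ g
    have h1 := h u
    have e : QuotientGroup.mk' (Subgroup.center X) ⁅x, u⁆ = 1 := by
      rw [QuotientGroup.mk'_apply, QuotientGroup.eq_one_iff]; exact h1
    rw [commutatorElement_def, map_mul, map_mul, map_mul, map_inv, map_inv] at e
    calc QuotientGroup.mk' (Subgroup.center X) u * QuotientGroup.mk' (Subgroup.center X) x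
        = (QuotientGroup.mk' (Subgroup.center X) x * QuotientGroup.mk' (Subgroup.center X) u *
            (QuotientGroup.mk' (Subgroup.center X) x)⁻¹ *
            (QuotientGroup.mk' (Subgroup.center X) u)⁻¹)⁻¹ *
          (QuotientGroup.mk' (Subgroup.center X) x * QuotientGroup.mk' (Subgroup.center X) u) := by
          group
      _ = QuotientGroup.mk' (Subgroup.center X) x * QuotientGroup.mk' (Subgroup.center X) u := by
          rw [e, inv_one, one_mul]
  · intro h u
    have h1 := h (QuotientGroup.mk' (Subgroup.center X) u)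
    have e : QuotientGroup.mk' (Subgroup.center X) ⁅x, u⁆ = 1 := by
      rw [commutatorElement_def, map_mul, map_mul, map_mul, map_inv, map_inv, ← h1]
      group
    rw [QuotientGroup.mk'_apply, QuotientGroup.eq_one_iff] at e
    exact e

lemma center_le_ucs2 : Subgroup.center X ≤ Subgroup.upperCentralSeries X 2 := by
  intro x hx
  rw [mem_ucs2_iff]
  have : QuotientGroup.mk' (Subgroup.center X) x = 1 := by
    rw [QuotientGroup.mk'_apply, QuotientGroup.eq_one_iff]; exact hx
  rw [this]
  exact Subgroup.one_mem _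

variable [Finite X] {p : ℕ} [hp : Fact p.Prime]

/-- In a `p`-group of maximal class of order at least `p ^ 4`, the second centre is generated
modulo the centre by one element. -/
theorem exists_gen_ucs2 (n : ℕ) (hn : 4 ≤ n) (hX : Nat.card X = p ^ n)
    (hc : Group.nilpotencyClass X = n - 1) :
    Nat.card (Subgroup.center X) = p ∧
    ∃ t : X, t ∈ Subgroup.upperCentralSeries X 2 ∧ t ∉ Subgroup.center X ∧
      ∀ b ∈ Subgroup.upperCentralSeries X 2, ∃ i : ℤ, ∃ w ∈ Subgroup.center X, b = t ^ i * w := by
  obtain ⟨h1, h2, h3⟩ := Cfsg.Agent.Helper1.maxClass_center (p := p) n (by omega) hX hc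
  have h3' : Group.nilpotencyClass (X ⧸ Subgroup.center X) = (n - 1) - 1 := by
    rw [h3]; omega
  obtain ⟨h4, -, -⟩ := Cfsg.Agent.Helper1.maxClass_center (p := p) (n - 1) (by omega) h2 h3'
  refine ⟨h1, ?_⟩
  haveI : Nontrivial ↥(Subgroup.center (X ⧸ Subgroup.center X)) := by
    rw [← Finite.one_lt_card_iff_nontrivial, h4]
    exact hp.out.one_lt
  obtain ⟨c, hc1⟩ := exists_ne (1 : ↥(Subgroup.center (X ⧸ Subgroup.center X)))
  obtain ⟨t, ht⟩ := QuotientGroup.mk'_surjective (Subgroup.center X) (c : X ⧸ Subgroup.center X)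
  have htop := zpowers_eq_top_of_prime_card h4 hc1
  refine ⟨t, ?_, ?_, ?_⟩
  · rw [mem_ucs2_iff, ht]; exact c.2
  · intro htZ
    apply hc1
    apply Subtype.ext
    rw [← ht, QuotientGroup.mk'_apply, Subgroup.coe_one, QuotientGroup.eq_one_iff]
    exact htZ
  · intro b hb
    rw [mem_ucs2_iff] at hb
    have hmem : (⟨_, hb⟩ : ↥(Subgroup.center (X ⧸ Subgroup.center X))) ∈ Subgroup.zpowers c := by
      rw [htop]; exact Subgroup.mem_top _
    obtain ⟨i, hi⟩ := Subgroup.mem_zpowers_iff.mp hmem
    have hi' : (QuotientGroup.mk' (Subgroup.center X) t) ^ i =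
        QuotientGroup.mk' (Subgroup.center X) b := by
      rw [ht]
      have := congrArg Subtype.val hi
      rw [Subgroup.coe_zpow] at this
      exact this
    refine ⟨i, (t ^ i)⁻¹ * b, ?_, by group⟩
    have e : QuotientGroup.mk' (Subgroup.center X) ((t ^ i)⁻¹ * b) = 1 := by
      rw [map_mul, map_inv, map_zpow, hi', inv_mul_cancel]
    rw [QuotientGroup.mk'_apply, QuotientGroup.eq_one_iff] at e
    exact e

/-- The centralizer of the second centre has index `p`. -/
theorem index_centralizer_ucs2 (n : ℕ) (hn : 4 ≤ n) (hX : Nat.card X = p ^ n)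
    (hc : Group.nilpotencyClass X = n - 1) :
    (Subgroup.centralizer (Subgroup.upperCentralSeries X 2 : Set X)).index = p := by
  obtain ⟨hZ, t, ht2, htZ, hgen⟩ := exists_gen_ucs2 n hn hX hc
  have hB : ∀ g ∈ (⊤ : Subgroup X), ⁅g, t⁆ ∈ Subgroup.center X := by
    intro g _
    have h1 : t⁻¹ ∈ Subgroup.upperCentralSeries X 2 := Subgroup.inv_mem _ ht2
    rw [show (2 : ℕ) = 1 + 1 from rfl, Subgroup.mem_upperCentralSeries_succ_iff,
      Subgroup.upperCentralSeries_one] at h1
    have h2 := h1 g
    -- `⁅t⁻¹, g⁆` central, and `⁅g, t⁆` is a conjugate of it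
    have e : ⁅g, t⁆ = t * ⁅t⁻¹, g⁆ * t⁻¹ := by
      rw [commutatorElement_def, commutatorElement_def]; group
    rw [e]
    have h4 : t * ⁅t⁻¹, g⁆ * t⁻¹ = ⁅t⁻¹, g⁆ := by
      rw [Subgroup.mem_center_iff] at h2
      rw [h2 t, mul_inv_cancel_right]
    rw [h4]
    exact h2
  obtain ⟨f, hf⟩ : ∃ f : X →* ↥(Subgroup.center X), ∀ g : X, ((f g : ↥(Subgroup.center X)) : X) = ⁅g, t⁆ :=
    ⟨(commCenterHom ⊤ t hB).comp (Subgroup.topEquiv (G := X)).symm.toMonoidHom, fun g => rfl⟩
  have hker : f.ker = Subgroup.centralizer (Subgroup.upperCentralSeries X 2 : Set X) := by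
    ext g
    rw [MonoidHom.mem_ker, Subgroup.mem_centralizer_iff]
    constructor
    · intro hg b hb
      have h1 : ⁅g, t⁆ = 1 := by
        rw [← hf g, hg]; rfl
      rw [commutatorElement_eq_one_iff_mul_comm] at h1
      obtain ⟨i, w, hw, rfl⟩ := hgen b hb
      rw [Subgroup.mem_center_iff] at hw
      have h2 : Commute g (t ^ i) := Commute.zpow_right h1 i
      calc t ^ i * w * g = t ^ i * (w * g) := by group
        _ = t ^ i * (g * w) := by rw [hw g]
        _ = (t ^ i * g) * w := by group
        _ = (g * t ^ i) * w := by rw [h2.eq]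
        _ = g * (t ^ i * w) := by group
    · intro hg
      apply Subtype.ext
      rw [hf g]
      show ⁅g, t⁆ = 1
      rw [commutatorElement_eq_one_iff_mul_comm]
      exact (hg t ht2).symm
  rw [← hker, Subgroup.index_ker]
  have hdvd : Nat.card ↥f.range ∣ p := by
    rw [← hZ]; exact Subgroup.card_subgroup_dvd_card _
  rcases (Nat.dvd_prime hp.out).mp hdvd with h1 | h1
  · exfalso
    apply htZ
    rw [Subgroup.mem_center_iff]
    intro g
    have h2 : f.range = ⊥ := Subgroup.card_eq_one.mp h1
    have h3 : f g = 1 := by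
      have : f g ∈ f.range := ⟨g, rfl⟩
      rw [h2, Subgroup.mem_bot] at this
      exact this
    have h4 : ⁅g, t⁆ = 1 := by
      rw [← hf g, h3]; rfl
    exact (commutatorElement_eq_one_iff_mul_comm.mp h4)
  · exact h1

end Cfsg.Agent.Lead.MCE
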