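import Mathlib
import Cfsg.Agent.Lead.MaxClassEssA
import Cfsg.Agent.Lead.AbIdxN
import Cfsg.Agent.Lead.FusionEss

set_option autoImplicit false

/-! In a `p`-group of maximal class, the centralizer of the second centre is essential as soon as
some automorphism of the second centre in the fusion system moves the centre. -/

namespace Cfsg.Agent.Lead.MCE

open Cfsg Cfsg.FusionSystem
open Cfsg.Agent.Lead.CenterIdx (ZS)
open Cfsg.Agent.Lead.AbIdx (Z2 mem_Z2 Z2_le)

variable {Ω : Type*} [Group Ω] {S : Subgroup Ω}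

/-- A subgroup normalized by `S` is fully normalized. -/
theorem fullyNormalized_of_normal [Finite S] (F : FusionSystem S) {P : Subgroup Ω} (hPS : P ≤ S)
    (hN : S ≤ Subgroup.normalizer (P : Set Ω)) : F.IsFullyNormalized P := by
  refine ⟨hPS, fun Q _ => ?_⟩
  have e : normalizerIn S P = S := inf_eq_left.mpr hN
  rw [e]
  exact Subgroup.card_le_of_le inf_le_left

lemma map_center_eq : (Subgroup.center ↥S).map S.subtype = ZS S := by
  rw [← CenterIdx.ZS_subgroupOf]
  exact Subgroup.map_subgroupOf_eq_of_le CenterIdx.ZS_le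

/-- The automorphisms of `P` preserving the centre of `S`. -/
def stabZ (S P : Subgroup Ω) : Subgroup (MulAut ↥P) where
  carrier := {β | ∀ x : ↥P, (x : Ω) ∈ ZS S ↔ ((β x : ↥P) : Ω) ∈ ZS S}
  one_mem' := fun _ => Iff.rfl
  mul_mem' := by
    intro β γ hβ hγ x
    rw [hγ x, hβ (γ x)]
    rfl
  inv_mem' := by
    intro β hβ x
    rw [hβ (β⁻¹ x), MulAut.apply_inv_self]

lemma mem_stabZ {P : Subgroup Ω} (β : MulAut ↥P) :
    β ∈ stabZ S P ↔ ∀ x : ↥P, (x : Ω) ∈ ZS S ↔ ((β x : ↥P) : Ω) ∈ ZS S := Iff.rfl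

/-- A map of the system defined on all of `S` preserves the centre. -/
lemma mem_ZS_iff_of_hom [Finite S] (F : FusionSystem S) {θ : ↥S →* Ω} (hθ : θ ∈ F.Hom S) (x : ↥S) :
    (x : Ω) ∈ ZS S ↔ θ x ∈ ZS S := by
  have hinj := F.injective_of_mem hθ
  have hinj' : Function.Injective (fun s : ↥S => (⟨θ s, Fusion.map_mem F hθ s⟩ : ↥S)) := by
    intro a b hab
    exact hinj (congrArg Subtype.val hab)
  have hsurj := Finite.injective_iff_surjective.mp hinj'
  rw [CenterIdx.mem_ZS, CenterIdx.mem_ZS]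
  constructor
  · rintro ⟨_, hx⟩
    refine ⟨Fusion.map_mem F hθ x, fun s hs => ?_⟩
    obtain ⟨s', hs'⟩ := hsurj ⟨s, hs⟩
    have e : θ s' = s := congrArg Subtype.val hs'
    rw [← e, ← map_mul, ← map_mul]
    congr 1
    exact Subtype.ext (hx s' s'.2)
  · rintro ⟨_, hx⟩
    refine ⟨x.2, fun s hs => ?_⟩
    have h1 := hx (θ ⟨s, hs⟩) (Fusion.map_mem F hθ _)
    rw [← map_mul, ← map_mul] at h1
    exact congrArg Subtype.val (hinj h1)

theorem main [Finite S] (p : ℕ) [Fact p.Prime] (hS : IsPGroup p ↥S) (n : ℕ)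
    (hn : Nat.card S = p ^ n) (h4 : 4 ≤ n) (hmax : Subgroup.lowerCentralSeries S (n - 2) ≠ ⊥)
    (F : FusionSystem S) (hF : F.IsSaturated p) (φ : ↥(Z2 S) →* Ω) (hφ : φ ∈ F.Hom (Z2 S))
    (hφZ : φ.range = Z2 S)
    (hmove : ∃ (z : Ω) (hz : z ∈ Z2 S), z ∈ (Subgroup.center ↥S).map S.subtype ∧
      φ ⟨z, hz⟩ ∉ (Subgroup.center ↥S).map S.subtype) :
    F.IsEssential p (S ⊓ Subgroup.centralizer (Z2 S : Set Ω)) := by
  haveI : Group.IsNilpotent ↥S := hS.isNilpotent
  have hclass : Group.nilpotencyClass ↥S = n - 1 := by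
    apply le_antisymm
    · exact Cfsg.Agent.Helper1.nilpotencyClass_le_pred (p := p) n ↥S hn (by omega)
    · by_contra hlt
      push Not at hlt
      have h1 : Group.nilpotencyClass ↥S ≤ n - 2 := by omega
      rw [← Subgroup.lowerCentralSeries_eq_bot_iff_nilpotencyClass_le] at h1
      apply hmax
      rw [← Subgroup.top_subtype_lowerCentralSeries, h1, Subgroup.map_bot]
  obtain ⟨P, hP⟩ : ∃ P : Subgroup Ω, P = S ⊓ Subgroup.centralizer (Z2 S : Set Ω) := ⟨_, rfl⟩
  rw [← hP]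
  have hPS : P ≤ S := by rw [hP]; exact inf_le_left
  have hPcen : ∀ c ∈ P, ∀ y ∈ Z2 S, y * c = c * y := by
    intro c hc y hy
    rw [hP] at hc
    exact (Subgroup.mem_centralizer_iff.mp hc.2) y hy
  have hsub : P.subgroupOf S =
      Subgroup.centralizer (Subgroup.upperCentralSeries ↥S 2 : Set ↥S) := by
    ext s
    rw [Subgroup.mem_subgroupOf, hP, Subgroup.mem_inf, Subgroup.mem_centralizer_iff,
      Subgroup.mem_centralizer_iff]
    constructor
    · rintro ⟨_, h⟩ y hy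
      exact Subtype.ext (h (y : Ω) ⟨y, hy, rfl⟩)
    · intro h
      refine ⟨s.2, ?_⟩
      rintro _ ⟨y, hy, rfl⟩
      exact congrArg Subtype.val (h y hy)
  have hidx : P.relIndex S = p := by
    show (P.subgroupOf S).index = p
    rw [hsub]
    exact index_centralizer_ucs2 n h4 hn hclass
  have hPne : P ≠ S := by
    intro h
    rw [h, Subgroup.relIndex_self] at hidx
    exact (Fact.out : p.Prime).one_lt.ne hidx
  have hPlt : P < S := lt_of_le_of_ne hPS hPne
  have hmaxP : ∀ Q : Subgroup Ω, P < Q → Q ≤ S → Q = S := by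
    intro Q hPQ hQS
    rcases CenterIdx.le_or_le_of_relIndex_prime hPQ.le hQS (by rw [hidx]; exact Fact.out)
      with h | h
    · exact absurd h (not_le_of_gt hPQ)
    · exact le_antisymm hQS h
  have hZ2n : S ≤ Subgroup.normalizer (Z2 S : Set Ω) := AbIdx.le_normalizer_Z2
  haveI : Finite ↥P := Fusion.finite_of_le hPS
  have hPn : S ≤ Subgroup.normalizer (P : Set Ω) := by
    intro s hs
    apply mem_normalizer_of_conj_mem_of_finite
    intro c hc
    rw [hP]
    refine Subgroup.mem_inf.mpr ⟨S.mul_mem (S.mul_mem hs (hPS hc)) (S.inv_mem hs), ?_⟩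
    rw [Subgroup.mem_centralizer_iff]
    intro y hy
    have hy' : s⁻¹ * y * s ∈ Z2 S := by
      have := (Subgroup.mem_normalizer_iff.mp (Subgroup.inv_mem _ (hZ2n hs)) y).mp hy
      rwa [inv_inv] at this
    have hcomm := hPcen c hc _ hy'
    calc y * (s * c * s⁻¹) = s * ((s⁻¹ * y * s) * c) * s⁻¹ := by group
      _ = s * (c * (s⁻¹ * y * s)) * s⁻¹ := by rw [hcomm]
      _ = s * c * s⁻¹ * y := by group
  have hPfn : F.IsFullyNormalized P := fullyNormalized_of_normal F hPS hPn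
  have hZ2fn : F.IsFullyNormalized (Z2 S) := fullyNormalized_of_normal F Z2_le hZ2n
  have hrec : F.IsReceptive (Z2 S) := Fusion.receptive_of_fullyCentralized p hS F hF
    (Fusion.fullyCentralized_fullyAutomized_of_fullyNormalized p hS F hF hZ2fn).1
  obtain ⟨ψ', hψ', hext⟩ := hrec.2 (Z2 S) φ hφ hφZ
  have hPext : P ≤ extender S (Z2 S) φ := by
    rw [hP]; exact Fusion.centralizerIn_le_extender (Z2 S) φ
  have hφS : ∀ x, φ x ∈ S := fun x => Fusion.map_mem F hφ x
  have hZ2ext : Z2 S ≤ extender S (Z2 S) φ := Fusion.le_extender (Z2 S) Z2_le φ hφS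
  have hψP : ∀ (c : Ω) (hc : c ∈ P), ψ' ⟨c, hPext hc⟩ ∈ P := by
    intro c hc
    rw [hP]
    refine Subgroup.mem_inf.mpr ⟨Fusion.map_mem F hψ' _, ?_⟩
    rw [Subgroup.mem_centralizer_iff]
    intro y hy
    have hy' : y ∈ φ.range := by rw [hφZ]; exact hy
    obtain ⟨y₀, rfl⟩ := hy'
    rw [← hext y₀.1 y₀.2 (hZ2ext y₀.2), ← map_mul, ← map_mul]
    congr 1
    apply Subtype.ext
    exact hPcen c hc y₀.1 y₀.2
  -- the restriction to `P`
  have hψmem : ψ'.comp (Subgroup.inclusion hPext) ∈ F.Hom P := Fusion.restrict_mem F hψ' hPext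
  have hψinj := F.injective_of_mem hψmem
  have hψrange : (ψ'.comp (Subgroup.inclusion hPext)).range = P := by
    have hle : (ψ'.comp (Subgroup.inclusion hPext)).range ≤ P := by
      rintro _ ⟨c, rfl⟩
      exact hψP c.1 c.2
    apply Subgroup.eq_of_le_of_card_ge hle
    rw [Nat.card_congr (MonoidHom.ofInjective hψinj).toEquiv]
  obtain ⟨α₀, hα₀⟩ : ∃ α₀ : MulAut ↥P, ∀ c : ↥P, ((α₀ c : ↥P) : Ω) = ψ' ⟨c.1, hPext c.2⟩ :=
    ⟨Fusion.equivOfRange _ hψinj hψrange, fun c => rfl⟩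
  have hα₀F : α₀ ∈ F.autGroup P := by
    rw [Fusion.mem_autGroup_iff F hPS]
    convert hψmem using 1
    ext c
    exact hα₀ c
  -- every extendable automorphism preserves the centre
  have hextZ : Subgroup.closure (Fusion.extSet F P) ≤ stabZ S P := by
    rw [Subgroup.closure_le]
    rintro α ⟨Q, hPQ, θ, hθ, hθα⟩
    obtain rfl := hmaxP Q hPQ (Fusion.src_le F hθ)
    rw [SetLike.mem_coe, mem_stabZ]
    intro x
    rw [← hθα x]
    exact mem_ZS_iff_of_hom F hθ (Subgroup.inclusion hPQ.le x)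
  rcases Fusion.extSet_dichotomy p hS F hF P hPlt hPfn (Subgroup.closure (Fusion.extSet F P)) rfl
    with ⟨-, hH⟩ | ⟨hess, -⟩
  · exfalso
    obtain ⟨z, hz, hzZ, hφz⟩ := hmove
    rw [map_center_eq] at hzZ hφz
    have hzP : z ∈ P := by
      rw [hP]
      refine Subgroup.mem_inf.mpr ⟨Z2_le hz, ?_⟩
      rw [Subgroup.mem_centralizer_iff]
      intro y hy
      exact (CenterIdx.mem_ZS.mp hzZ).2 y (Z2_le hy)
    have h1 : α₀ ∈ stabZ S P := hextZ (hH ▸ hα₀F)
    have h2 := ((mem_stabZ α₀).mp h1 ⟨z, hzP⟩).mp hzZ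
    rw [hα₀] at h2
    apply hφz
    rw [← hext z hz (hPext hzP)]
    exact h2
  · exact hess

end Cfsg.Agent.Lead.MCE
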