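import Mathlib
import Cfsg.Agent.Lead.MetaF
import Cfsg.Agent.Helper4.MetacyclicA
import Cfsg.Agent.Helper5.Meta2A

set_option autoImplicit false

/-!
A metacyclic strongly closed subgroup (`p` odd) lies in every fully normalized centric radical
subgroup; hence it is normal in the system.
-/

namespace Cfsg.Agent.Lead.Meta

open Cfsg Cfsg.FusionSystem Cfsg.Agent.Lead Cfsg.Agent.Helper4

variable {Ω : Type*} [Group Ω] {S : Subgroup Ω}

theorem conjAutHom_pow_apply {Q : Subgroup Ω} {y : Ω} (hy : y ∈ Subgroup.normalizer (Q : Set Ω))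
    (i : ℕ) (x : Q) :
    (((conjAutHom Q ⟨y, hy⟩ ^ i) x : Q) : Ω) = y ^ i * (x : Ω) * (y ^ i)⁻¹ := by
  rw [← map_pow]
  rfl

theorem coe_prod_conj {Q : Subgroup Ω} {y : Ω} (hy : y ∈ Subgroup.normalizer (Q : Set Ω)) (x : Q)
    (n : ℕ) :
    ((((List.range n).map (fun i => (conjAutHom Q ⟨y, hy⟩ ^ i) x)).prod : Q) : Ω) =
      ((List.range n).map (fun i => y ^ i * (x : Ω) * (y ^ i)⁻¹)).prod := by
  have h1 : ((((List.range n).map (fun i => (conjAutHom Q ⟨y, hy⟩ ^ i) x)).prod : Q) : Ω) =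
      Q.subtype ((List.range n).map (fun i => (conjAutHom Q ⟨y, hy⟩ ^ i) x)).prod := rfl
  rw [h1, map_list_prod, List.map_map]
  congr 1
  apply List.map_congr_left
  intro i _
  exact conjAutHom_pow_apply hy i x

theorem le_of_centric_radical [Finite S] (p : ℕ) [hp : Fact p.Prime] (hp2 : p ≠ 2)
    (hS : IsPGroup p S) (F : FusionSystem S) (hF : F.IsSaturated p) {P Q : Subgroup Ω}
    (hP : F.StronglyClosed P) (hm : Cfsg.IsMetacyclic ↥P) (hc : F.IsCentric Q)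
    (hfn : F.IsFullyNormalized Q) (hr : F.IsRadical p Q) : P ≤ Q := by
  by_contra hPQ
  have hQS := hc.1
  have hPS := hP.1
  haveI : Finite Q := Fusion.finite_of_le hQS
  haveI : Finite P := Fusion.finite_of_le hPS
  have hQp : IsPGroup p Q := hS.to_le hQS
  obtain ⟨d, hdP, hdN, hdQ, hdpQ⟩ := exists_elt p hS F hP hQS hPQ
  have hdS : d ∈ S := hPS hdP
  set M : Subgroup ↥Q := P.subgroupOf Q with hMdef
  set A := F.autGroup Q with hAdef
  have hM : ∀ α ∈ A, ∀ x, α x ∈ M ↔ x ∈ M := by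
    intro α hα x
    rw [hMdef, Subgroup.mem_subgroupOf, Subgroup.mem_subgroupOf]
    exact aut_mem_iff F hP hQS hα x
  have hrad := hrad_of_isRadical p F hr
  -- `M` is metacyclic
  have hmetaM : Cfsg.IsMetacyclic ↥M := by
    let f : ↥M →* ↥P :=
      { toFun := fun m => ⟨m.1.1, m.2⟩
        map_one' := rfl
        map_mul' := fun _ _ => rfl }
    apply isMetacyclic_of_injective f _ hm
    intro a b hab
    apply Subtype.ext
    apply Subtype.ext
    have h1 : ((f a : P) : Ω) = ((f b : P) : Ω) := congrArg Subtype.val hab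
    exact h1
  have hidx : (frattini ↥M).index ∣ p ^ 2 :=
    metacyclic_frattini_index_dvd (hQp.to_subgroup M) hmetaM
  -- normality of `P` in `S`
  have hPn : ∀ {s x : Ω}, s ∈ S → x ∈ P → s * x * s⁻¹ ∈ P := fun hs hx =>
    conj_mem_of_stronglyClosed F hP hs hx
  -- conjugation by elements of `N_P(Q)` lies in `C`
  have hconjC : ∀ (y : Ω) (hyP : y ∈ P) (hyN : y ∈ Subgroup.normalizer (Q : Set Ω)),
      conjAutHom Q ⟨y, hyN⟩ ∈ Csub M A := by
    intro y hyP hyN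
    refine ⟨Fusion.autInducedBy_le_autGroup F hQS
      (Fusion.conjAutHom_mem_autInducedBy Q _ (hPS hyP)), fun x => ?_⟩
    rw [hMdef, Subgroup.mem_subgroupOf]
    show (x : Ω)⁻¹ * (y * (x : Ω) * y⁻¹) ∈ P
    have h1 : (x : Ω)⁻¹ * (y * (x : Ω) * y⁻¹) = ((x : Ω)⁻¹ * y * ((x : Ω)⁻¹)⁻¹) * y⁻¹ := by group
    rw [h1]
    exact P.mul_mem (hPn (S.inv_mem (hQS x.2)) hyP) (P.inv_mem hyP)
  -- conjugation by elements of `P ∩ Q` lies in `K`
  have hconjK : ∀ (y : Ω) (hyP : y ∈ P) (hyQ : y ∈ Q),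
      conjAutHom Q ⟨y, Subgroup.le_normalizer hyQ⟩ ∈ Ksub M A := by
    intro y hyP hyQ
    refine ⟨hconjC y hyP _, fun m hm => ?_⟩
    rw [mem_frat]
    have hyM : (⟨y, hyQ⟩ : Q) ∈ M := by rw [hMdef, Subgroup.mem_subgroupOf]; exact hyP
    have hmem : m⁻¹ * (conjAutHom Q ⟨y, Subgroup.le_normalizer hyQ⟩) m ∈ M :=
      (hconjC y hyP _).2 m
    refine ⟨hmem, ?_⟩
    have h1 := pgroup_commutator_mem_frattini (hQp.to_subgroup M) (⟨m, hm⟩ : M)⁻¹ ⟨⟨y, hyQ⟩, hyM⟩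
    have h2 : (⟨m⁻¹ * (conjAutHom Q ⟨y, Subgroup.le_normalizer hyQ⟩) m, hmem⟩ : M) =
        (⟨m, hm⟩ : M)⁻¹ * ⟨⟨y, hyQ⟩, hyM⟩ * (⟨m, hm⟩ : M)⁻¹⁻¹ * (⟨⟨y, hyQ⟩, hyM⟩ : M)⁻¹ := by
      apply Subtype.ext
      apply Subtype.ext
      show (m : Ω)⁻¹ * (y * (m : Ω) * y⁻¹) = (m : Ω)⁻¹ * y * ((m : Ω)⁻¹)⁻¹ * y⁻¹
      group
    rw [h2]
    exact h1
  set δ := conjAutHom Q ⟨d, hdN⟩ with hδdef
  have hδC : δ ∈ Csub M A := hconjC d hdP hdN
  have hδI : δ ∉ Inn Q := fun h => hdQ (Fusion.mem_of_conjAutHom_mem_inn F hc d hdS hdN h)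
  have hpowδ : ∀ k : ℕ, δ ^ k = conjAutHom Q ⟨d ^ k, Subgroup.pow_mem _ hdN k⟩ := by
    intro k
    rw [hδdef, ← map_pow]
    rfl
  have hδp : δ ^ p ∈ Ksub M A := by
    rw [hpowδ]
    exact hconjK (d ^ p) (P.pow_mem hdP p) hdpQ
  obtain ⟨t, htC, htinv⟩ := exists_inverting hp2 hQp M A hM (Inn Q) hrad hidx hδC hδI hδp
  have hidx2 := index_eq_sq hQp M A hM (Inn Q) hrad hidx hδC hδI hδp
  have hβK := comm_mem_Ksub M A hM htC htinv hδC
  have hβI : t * δ * t⁻¹ * δ⁻¹ ∈ Inn Q := Ksub_le_of_radical hQp M A hM (Inn Q) hrad hβK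
  have hrec : F.IsReceptive Q :=
    Fusion.receptive_of_fullyCentralized p hS F hF
      (Fusion.fullyCentralized_fullyAutomized_of_fullyNormalized p hS F hF hfn).1
  obtain ⟨q₁, hq₁P, hq₁Q, hq₁⟩ := exists_extension_data F hP hc hrec hdP hdN htC.1 hβI p hdpQ
  -- `d ^ p ∈ Φ(M)`
  have hq₁M : (⟨q₁, hq₁Q⟩ : Q) ∈ M := by rw [hMdef, Subgroup.mem_subgroupOf]; exact hq₁P
  have heM : (⟨d ^ p, hdpQ⟩ : Q) ∈ M := by
    rw [hMdef, Subgroup.mem_subgroupOf]; exact P.pow_mem hdP p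
  have hnorm := norm_mem_frat hp2 hQp M A hM hidx hδC hδp hq₁M
  have hte : t ⟨d ^ p, hdpQ⟩ =
      ((List.range p).map (fun i => (δ ^ i) ⟨q₁, hq₁Q⟩)).prod * ⟨d ^ p, hdpQ⟩ := by
    apply Subtype.ext
    rw [hq₁, mul_pow_eq_prod, Subgroup.coe_mul, hδdef, coe_prod_conj hdN ⟨q₁, hq₁Q⟩ p]
  have hefrat : (⟨d ^ p, hdpQ⟩ : Q) ∈ frat M := mem_frat_of_inverting hp2 hQp M htinv heM hnorm hte
  -- the subgroup `D = ⟨d⟩ (P ∩ Q)`
  have hzN : Subgroup.zpowers d ≤ Subgroup.normalizer ((P ⊓ Q : Subgroup Ω) : Set Ω) := by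
    rw [Subgroup.zpowers_le]
    haveI : Finite ↥(P ⊓ Q) := Fusion.finite_of_le (inf_le_left.trans hPS)
    apply mem_normalizer_of_conj_mem_of_finite
    intro y hy
    obtain ⟨hyP, hyQ⟩ := Subgroup.mem_inf.mp hy
    exact Subgroup.mem_inf.mpr ⟨hPn hdS hyP, (Subgroup.mem_normalizer_iff.mp hdN y).mp hyQ⟩
  set D : Subgroup Ω := Subgroup.zpowers d ⊔ (P ⊓ Q) with hDdef
  have hzP : Subgroup.zpowers d ≤ P := by rw [Subgroup.zpowers_le]; exact hdP
  have hzNQ : Subgroup.zpowers d ≤ Subgroup.normalizer (Q : Set Ω) := by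
    rw [Subgroup.zpowers_le]; exact hdN
  have hDP : D ≤ P := sup_le hzP inf_le_left
  have hDN : D ≤ Subgroup.normalizer (Q : Set Ω) :=
    sup_le hzNQ (inf_le_right.trans Subgroup.le_normalizer)
  set Φ : Subgroup Ω := (frat M).map Q.subtype with hΦdef
  have hΦmem : ∀ x : Ω, x ∈ Φ ↔ ∃ hx : x ∈ Q, (⟨x, hx⟩ : Q) ∈ frat M := by
    intro x
    constructor
    · rintro ⟨y, hy, rfl⟩
      exact ⟨y.2, hy⟩
    · rintro ⟨hx, hy⟩
      exact ⟨⟨x, hx⟩, hy, rfl⟩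
  have hΦle : Φ ≤ P ⊓ Q := by
    intro x hx
    obtain ⟨hxQ, hx'⟩ := (hΦmem x).mp hx
    have h1 := frat_le M hx'
    rw [hMdef, Subgroup.mem_subgroupOf] at h1
    exact Subgroup.mem_inf.mpr ⟨h1, hxQ⟩
  have hΦconj : ∀ y ∈ D, ∀ n ∈ Φ, y * n * y⁻¹ ∈ Φ := by
    intro y hy n hn
    obtain ⟨hnQ, hn'⟩ := (hΦmem n).mp hn
    have hyN := hDN hy
    have hcy := hconjC y (hDP hy) hyN
    have h1 := (map_mem_frat M _ (hM _ hcy.1) ⟨n, hnQ⟩).mpr hn'
    rw [hΦmem]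
    exact ⟨(conjAutHom Q ⟨y, hyN⟩ ⟨n, hnQ⟩).2, h1⟩
  have hdpΦ : d ^ p ∈ Φ := (hΦmem _).mpr ⟨hdpQ, hefrat⟩
  have hpowD : ∀ x ∈ D, x ^ p ∈ Φ := by
    intro x hx
    obtain ⟨e', he', m, hm, rfl⟩ := (mem_sup_iff' hzN x).mp hx
    obtain ⟨hmP, hmQ⟩ := Subgroup.mem_inf.mp hm
    have he'P : e' ∈ P := hzP he'
    have he'N : e' ∈ Subgroup.normalizer (Q : Set Ω) := hzNQ he'
    obtain ⟨k, hk⟩ := Subgroup.mem_zpowers_iff.mp he'
    have he'p : e' ^ p = (d ^ p) ^ k := by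
      rw [← hk, ← zpow_natCast, ← zpow_mul, mul_comm, zpow_mul, zpow_natCast]
    have hm'Q : e' * m * e'⁻¹ ∈ Q := (Subgroup.mem_normalizer_iff.mp he'N m).mp hmQ
    have hm'P : e' * m * e'⁻¹ ∈ P := hPn (hPS he'P) hmP
    have hx' : e' * m = (e' * m * e'⁻¹) * e' := by group
    rw [hx', mul_pow_eq_prod]
    apply Φ.mul_mem
    · have hδ'C : conjAutHom Q ⟨e', he'N⟩ ∈ Csub M A := hconjC e' he'P he'N
      have he'pQ : e' ^ p ∈ Q := by
        rw [he'p]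
        exact Q.zpow_mem hdpQ k
      have hδ'p : (conjAutHom Q ⟨e', he'N⟩) ^ p ∈ Ksub M A := by
        have h1 : (conjAutHom Q ⟨e', he'N⟩) ^ p =
            conjAutHom Q ⟨e' ^ p, Subgroup.le_normalizer he'pQ⟩ := by
          rw [← map_pow]
          rfl
        rw [h1]
        exact hconjK (e' ^ p) (P.pow_mem he'P p) he'pQ
      have hm'M : (⟨e' * m * e'⁻¹, hm'Q⟩ : Q) ∈ M := by
        rw [hMdef, Subgroup.mem_subgroupOf]; exact hm'P
      have hn' := norm_mem_frat hp2 hQp M A hM hidx hδ'C hδ'p hm'M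
      rw [hΦmem]
      refine ⟨?_, ?_⟩
      · rw [← coe_prod_conj he'N ⟨e' * m * e'⁻¹, hm'Q⟩ p]
        exact Subtype.property _
      · convert hn' using 1
        apply Subtype.ext
        exact (coe_prod_conj he'N ⟨e' * m * e'⁻¹, hm'Q⟩ p).symm
    · rw [he'p]
      exact Φ.zpow_mem hdpΦ k
  -- cardinalities
  have hDS : D ≤ S := hDP.trans hPS
  haveI : Finite ↥D := Fusion.finite_of_le hDS
  have hmetaD : Cfsg.IsMetacyclic ↥D :=
    isMetacyclic_of_injective (Subgroup.inclusion hDP) (Subgroup.inclusion_injective hDP) hm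
  set N : Subgroup ↥D := Φ.subgroupOf D with hNdef
  haveI hNn : N.Normal := by
    constructor
    intro n hn g
    rw [hNdef, Subgroup.mem_subgroupOf] at hn ⊢
    exact hΦconj g.1 g.2 n.1 hn
  have hle := Cfsg.Agent.Helper5.Meta2.index_le_sq_of_pow_mem hmetaD N p hp.out.pos
    (fun x => by
      rw [hNdef, Subgroup.mem_subgroupOf, Subgroup.coe_pow]
      exact hpowD x.1 x.2)
  have h1 := Subgroup.card_eq_card_quotient_mul_card_subgroup N
  have hΦD : Φ ≤ D := hΦle.trans le_sup_right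
  have h2 : Nat.card N = Nat.card Φ := Nat.card_congr (Subgroup.subgroupOfEquivOfLe hΦD).toEquiv
  have h3 : Nat.card Φ = Nat.card (frattini ↥M) := by
    rw [hΦdef, frat, Subgroup.card_map_of_injective Q.subtype_injective,
      Subgroup.card_map_of_injective M.subtype_injective]
  have h4 : Nat.card ↥(P ⊓ Q) = Nat.card M := by
    have h5 : M = (P ⊓ Q).subgroupOf Q := by rw [hMdef, Subgroup.inf_subgroupOf_right]
    rw [h5]
    exact (Nat.card_congr (Subgroup.subgroupOfEquivOfLe (inf_le_right : P ⊓ Q ≤ Q)).toEquiv).symm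
  have h5 : Nat.card M = p ^ 2 * Nat.card (frattini ↥M) := by
    rw [← hidx2, Subgroup.index_mul_card]
  have h6 : Nat.card ↥(P ⊓ Q) < Nat.card ↥D := by
    by_contra hcon
    push_neg at hcon
    have h7 : P ⊓ Q = D := Subgroup.eq_of_le_of_card_ge le_sup_right hcon
    apply hdQ
    have h8 : d ∈ D := (le_sup_left : Subgroup.zpowers d ≤ D) (Subgroup.mem_zpowers d)
    rw [← h7] at h8
    exact h8.2
  rw [h2, h3] at h1
  rw [h4, h5, h1] at h6
  have h7 : Nat.card (↥D ⧸ N) * Nat.card ↥(frattini ↥M) ≤ p ^ 2 * Nat.card ↥(frattini ↥M) :=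
    Nat.mul_le_mul_right _ hle
  omega


/-- A metacyclic strongly closed subgroup is normal in a saturated fusion system, `p` odd. -/
theorem isNormal_of_metacyclic [Finite S] (p : ℕ) [hp : Fact p.Prime] (hp2 : p ≠ 2)
    (hS : IsPGroup p S) (F : FusionSystem S) (hF : F.IsSaturated p) {P : Subgroup Ω}
    (hP : F.StronglyClosed P) (hm : Cfsg.IsMetacyclic ↥P) : F.IsNormal P := by
  apply Fusion.isNormal_of_forall_essential p hS F hF P
  intro R hR
  have hRS : R ≤ S := by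
    rcases hR with rfl | hess
    · exact le_rfl
    · exact hess.1.1
  have hPR : P ≤ R := by
    rcases hR with rfl | hess
    · exact hP.1
    · exact le_of_centric_radical p hp2 hS F hF hP hm hess.1 hess.2.1
        (Fusion.isRadical_of_isEssential p hS F hess)
  refine ⟨hPR, fun α hα => ?_⟩
  haveI : Finite R := Fusion.finite_of_le hRS
  apply Fusion.map_aut_eq_of_le
  rintro _ ⟨x, hx, rfl⟩
  rw [SetLike.mem_coe, Subgroup.mem_subgroupOf] at hx
  rw [Subgroup.mem_subgroupOf]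
  exact aut_map_mem F hP hRS hα x hx

end Cfsg.Agent.Lead.Meta
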