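import Mathlib
import Cfsg.Prelude.Def_FusionSystem
import Cfsg.Agent.Helper4.PCore

set_option autoImplicit false

namespace Cfsg.Agent.Lead

open Cfsg

/-- An automorphism of a finite group `G` fixing a Sylow `p`-subgroup `T` elementwise is conjugation
by an element of `C_G(Q)`, whenever `Q ≤ T` is a normal `p`-subgroup with `C_G(Q) ≤ Q`. -/
theorem aut_eq_conj_of_fix_sylow {G : Type*} [Group G] [Finite G] (p : ℕ) [Fact p.Prime]
    (T : Sylow p G) (Q : Subgroup G) [hQn : Q.Normal] (hQT : Q ≤ T) (hQ : IsPGroup p Q)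
    (hC : Subgroup.centralizer (Q : Set G) ≤ Q)
    (ψ : G ≃* G) (hψ : ∀ x ∈ (T : Subgroup G), ψ x = x) :
    ∃ w ∈ Subgroup.centralizer (Q : Set G), ∀ g : G, ψ g = w * g * w⁻¹ := by
  classical
  set A : Subgroup G := Subgroup.centralizer (Q : Set G) with hA
  haveI hAn : A.Normal := Subgroup.normal_centralizer
  have hcomm : ∀ a b : A, a * b = b * a := by
    intro a b
    apply Subtype.ext
    have := (Subgroup.mem_centralizer_iff.mp a.2) b.1 (hC b.2)
    simpa using this.symm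
  letI : CommGroup A := { (inferInstance : Group A) with mul_comm := hcomm }
  have hAp : IsPGroup p A := hQ.to_le hC
  -- the cocycle
  have he_mem : ∀ g : G, g * (ψ g)⁻¹ ∈ A := by
    intro g
    rw [hA, Subgroup.mem_centralizer_iff]
    intro x hx
    have hx' : g⁻¹ * x * g ∈ Q := by
      have := hQn.conj_mem x hx g⁻¹
      simpa using this
    have h1 : ψ (g⁻¹ * x * g) = g⁻¹ * x * g := hψ _ (hQT hx')
    have h2 : ψ x = x := hψ _ (hQT hx)
    have h : (ψ g)⁻¹ * x * ψ g = g⁻¹ * x * g := by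
      rw [← h1, map_mul, map_mul, map_inv, h2]
    calc x * (g * (ψ g)⁻¹) = g * (g⁻¹ * x * g) * (ψ g)⁻¹ := by group
      _ = g * ((ψ g)⁻¹ * x * ψ g) * (ψ g)⁻¹ := by rw [h]
      _ = g * (ψ g)⁻¹ * x := by group
  let e : G → A := fun g => ⟨g * (ψ g)⁻¹, he_mem g⟩
  have he_coset : ∀ a b : G, a⁻¹ * b ∈ (T : Subgroup G) → e a = e b := by
    intro a b hab
    apply Subtype.ext
    change a * (ψ a)⁻¹ = b * (ψ b)⁻¹
    have ht : ψ (a⁻¹ * b) = a⁻¹ * b := hψ _ hab
    rw [map_mul, map_inv] at ht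
    have hb : ψ b = ψ a * (a⁻¹ * b) := by rw [← ht]; group
    rw [hb]; group
  let E : G ⧸ (T : Subgroup G) → A := fun q =>
    Quotient.liftOn' q e (fun a b hab => he_coset a b (QuotientGroup.leftRel_apply.mp hab))
  have hE_mk : ∀ g : G, E (QuotientGroup.mk g) = e g := fun g => rfl
  have he_mul : ∀ h g : G, e (h * g) = MulAut.conjNormal h (e g) * e h := by
    intro h g
    apply Subtype.ext
    rw [Subgroup.coe_mul, MulAut.conjNormal_apply]
    change h * g * (ψ (h * g))⁻¹ = h * (g * (ψ g)⁻¹) * h⁻¹ * (h * (ψ h)⁻¹)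
    rw [map_mul]; group
  have hE_smul : ∀ (h : G) (q : G ⧸ (T : Subgroup G)),
      E (h • q) = MulAut.conjNormal h (E q) * e h := by
    intro h q
    induction q using Quotient.inductionOn' with
    | h g =>
      change E (h • (QuotientGroup.mk g : G ⧸ (T : Subgroup G))) = _
      rw [MulAction.Quotient.smul_mk, hE_mk, hE_mk, smul_eq_mul, he_mul]
  haveI : Fintype (G ⧸ (T : Subgroup G)) := Fintype.ofFinite _
  set b : A := ∏ q : G ⧸ (T : Subgroup G), E q with hb
  set n : ℕ := Fintype.card (G ⧸ (T : Subgroup G)) with hn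
  have hkey : ∀ h : G, b = MulAut.conjNormal h b * e h ^ n := by
    intro h
    calc b = ∏ q : G ⧸ (T : Subgroup G), E (h • q) :=
          (Equiv.prod_comp (MulAction.toPerm h) E).symm
      _ = ∏ q : G ⧸ (T : Subgroup G), (MulAut.conjNormal h (E q) * e h) :=
          Finset.prod_congr rfl (fun q _ => hE_smul h q)
      _ = MulAut.conjNormal h b * e h ^ n := by
          rw [Finset.prod_mul_distrib, Finset.prod_const, Finset.card_univ, hb, map_prod]
  have hncop : (Nat.card A).Coprime n := by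
    have hidx : n = (T : Subgroup G).index := by
      rw [hn, Subgroup.index, Nat.card_eq_fintype_card]
    have h1 : ¬ p ∣ n := by rw [hidx]; exact T.not_dvd_index
    obtain ⟨k, hk⟩ := hAp.exists_card_eq
    rw [hk]
    exact Nat.Coprime.pow_left k ((Nat.Prime.coprime_iff_not_dvd Fact.out).mpr h1)
  set z : A := (powCoprime hncop).symm b with hz
  have hzn : z ^ n = b := by
    have := (powCoprime hncop).apply_symm_apply b
    rwa [powCoprime_apply] at this
  have he_eq : ∀ h : G, e h = (MulAut.conjNormal h z)⁻¹ * z := by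
    intro h
    apply (powCoprime hncop).injective
    rw [powCoprime_apply, powCoprime_apply, mul_pow, inv_pow, ← map_pow, hzn]
    have := hkey h
    rw [eq_inv_mul_iff_mul_eq]
    exact this.symm
  refine ⟨(z : G)⁻¹, A.inv_mem z.2, ?_⟩
  intro g
  have h1 := congrArg (fun a : A => (a : G)) (he_eq g)
  simp only [Subgroup.coe_mul, Subgroup.coe_inv, MulAut.conjNormal_apply] at h1
  change g * (ψ g)⁻¹ = (g * (z : G) * g⁻¹)⁻¹ * (z : G) at h1
  have h2 : (ψ g)⁻¹ = g⁻¹ * ((g * (z : G) * g⁻¹)⁻¹ * (z : G)) := by rw [← h1]; group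
  have h3 : ψ g = ((ψ g)⁻¹)⁻¹ := (inv_inv _).symm
  rw [h3, h2]; group

variable {Ω : Type*} [Group Ω] {S : Subgroup Ω}

/-- Model Theorem, rigidity. -/
theorem Fusion.model_rigid [Finite S] (p : ℕ) [Fact p.Prime]
    (F : Cfsg.FusionSystem S) {G : Type*} [Group G] (ι : S →* G)
    (hG : F.IsModel p G ι) (ψ : G ≃* G) (hψ : ∀ x : S, ψ (ι x) = ι x) :
    ∃ z : S, z ∈ Subgroup.center S ∧ ∀ g : G, ψ g = ι z * g * (ι z)⁻¹ := by
  obtain ⟨hfin, ⟨hinj, _⟩, ⟨T, hT⟩, hcent⟩ := hG
  haveI := hfin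
  haveI : (pCore p G).Normal := Cfsg.Agent.Helper4.pCore_normal
  have hQT : pCore p G ≤ T := Cfsg.Agent.Helper4.pCore_le_sylow T
  have hQp : IsPGroup p (pCore p G) := Cfsg.Agent.Helper4.pCore_isPGroup
  have hψT : ∀ x ∈ (T : Subgroup G), ψ x = x := by
    intro x hx
    rw [hT] at hx
    obtain ⟨s, rfl⟩ := hx
    exact hψ s
  obtain ⟨w, hw, hconj⟩ := aut_eq_conj_of_fix_sylow p T (pCore p G) hQT hQp hcent ψ hψT
  have hwT : w ∈ (T : Subgroup G) := hQT (hcent hw)
  rw [hT] at hwT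
  obtain ⟨z, rfl⟩ := hwT
  refine ⟨z, ?_, hconj⟩
  rw [Subgroup.mem_center_iff]
  intro s
  apply hinj
  have h1 := hconj (ι s)
  rw [hψ s] at h1
  rw [map_mul, map_mul]
  calc ι s * ι z = ι z * ι s * (ι z)⁻¹ * ι z := by rw [← h1]
    _ = ι z * ι s := by group

end Cfsg.Agent.Lead
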