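import Mathlib
import Cfsg.Prelude.Def_Transfer
import Cfsg.Agent.Helper1.PGroup
import Cfsg.Agent.Lead.NA8A
import Cfsg.Agent.Lead.SpecialCoprime

set_option autoImplicit false
set_option linter.unusedSectionVars false
set_option linter.unusedVariables false

/-!
S4409: special 2-groups and non-cyclic abelian subgroups of order 8.
-/

namespace Cfsg.Agent.Lead.NA8

open scoped commutatorElement

variable {P : Type*} [Group P] [Finite P]

theorem comm_mem_center_of_special (h : Cfsg.IsSpecial 2 P) (a b : P) :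
    ⁅a, b⁆ ∈ Subgroup.center P := by
  rw [← h.2.2, commutator_def]
  exact Subgroup.commutator_mem_commutator (Subgroup.mem_top a) (Subgroup.mem_top b)

theorem sq_mem_center_of_special (h : Cfsg.IsSpecial 2 P) (x : P) : x * x ∈ Subgroup.center P := by
  have : Fact (Nat.Prime 2) := ⟨Nat.prime_two⟩
  rw [← h.2.1, ← pow_two]
  exact Cfsg.Agent.Helper1.IsPGroup.pow_mem_frattini h.1 x

/-- the centre of a special 2-group has exponent 2 -/
theorem center_sq_of_special (h : Cfsg.IsSpecial 2 P) {z : P} (hz : z ∈ Subgroup.center P) :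
    z * z = 1 := by
  have hc := comm_mem_center_of_special h
  rw [← h.2.2, commutator_eq_closure] at hz
  have key : ∀ x ∈ Subgroup.closure (commutatorSet P), x ∈ Subgroup.center P ∧ x * x = 1 := by
    intro x hx
    induction hx using Subgroup.closure_induction with
    | mem s hs =>
      obtain ⟨a, b, rfl⟩ := hs
      refine ⟨hc a b, ?_⟩
      rw [← pow_two, ← Cfsg.Agent.Lead.commutatorElement_pow_left_of_central hc, pow_two]
      have h1 := Subgroup.mem_center_iff.1 (sq_mem_center_of_special h a) b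
      rw [commutatorElement_eq_one_iff_mul_comm]
      exact h1.symm
    | one => exact ⟨Subgroup.one_mem _, by simp⟩
    | mul a b _ _ iha ihb =>
      refine ⟨Subgroup.mul_mem _ iha.1 ihb.1, ?_⟩
      have hcm : b * a = a * b := Subgroup.mem_center_iff.1 iha.1 b
      calc a * b * (a * b) = a * (b * a) * b := by group
        _ = a * (a * b) * b := by rw [hcm]
        _ = (a * a) * (b * b) := by group
        _ = 1 := by rw [iha.2, ihb.2, one_mul]
    | inv a _ iha =>
      refine ⟨Subgroup.inv_mem _ iha.1, ?_⟩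
      have : a⁻¹ * a⁻¹ = (a * a)⁻¹ := by group
      rw [this, iha.2, inv_one]
  exact (key z hz).2

theorem pow_four_of_special (h : Cfsg.IsSpecial 2 P) (x : P) : x ^ 4 = 1 := by
  have h1 := center_sq_of_special h (sq_mem_center_of_special h x)
  calc x ^ 4 = (x * x) * (x * x) := by
        rw [show (4 : ℕ) = 2 + 2 from rfl, pow_add, pow_two]
    _ = 1 := h1

/-- (S1) a special 2-group with centre of order 4 (and a non-central element) has an NA8 -/
theorem exists_na8_of_special_four (h : Cfsg.IsSpecial 2 P)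
    (hZ4 : Nat.card ↥(Subgroup.center P) = 4) {g : P} (hg : g ∉ Subgroup.center P) :
    ∃ A : Subgroup P, IsMulCommutative ↥A ∧ ¬ IsCyclic ↥A ∧ Nat.card ↥A = 8 := by
  obtain ⟨A, -, h1, h2, h3⟩ := exists_na8 (Subgroup.center P) hZ4 hg
    (fun z hz => (Subgroup.mem_center_iff.1 hz g))
    (sq_mem_center_of_special h g) (pow_four_of_special h g)
  exact ⟨A, h1, h2, h3⟩

theorem eq_of_mem_center_two (hZ2 : Nat.card ↥(Subgroup.center P) = 2) {a b : P}
    (ha : a ∈ Subgroup.center P) (hb : b ∈ Subgroup.center P) (ha1 : a ≠ 1) (hb1 : b ≠ 1) :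
    a = b := by
  obtain ⟨y, -, hy⟩ := (Nat.card_eq_two_iff' (1 : ↥(Subgroup.center P))).1 hZ2
  have h1 := hy ⟨a, ha⟩ (fun h => ha1 (congrArg Subtype.val h))
  have h2 := hy ⟨b, hb⟩ (fun h => hb1 (congrArg Subtype.val h))
  have := h1.trans h2.symm
  exact congrArg Subtype.val this

/-- the centralizer of a non-central element of an extraspecial 2-group has index 2 -/
theorem index_centralizer_of_extraspecial (h : Cfsg.IsSpecial 2 P)
    (hZ2 : Nat.card ↥(Subgroup.center P) = 2) {x : P} (hx : x ∉ Subgroup.center P) :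
    (Subgroup.centralizer ({x} : Set P)).index = 2 := by
  have hc := comm_mem_center_of_special h
  rw [Subgroup.index_eq_two_iff]
  have hex : ∃ a : P, a * x ≠ x * a := by
    by_contra hno
    push Not at hno
    exact hx (Subgroup.mem_center_iff.2 hno)
  obtain ⟨a, ha⟩ := hex
  refine ⟨a, fun b => ?_⟩
  rw [Subgroup.mem_centralizer_singleton_iff, Subgroup.mem_centralizer_singleton_iff]
  have ha1 : ⁅a, x⁆ ≠ 1 := by
    rw [Ne, commutatorElement_eq_one_iff_mul_comm]; exact ha
  have e : ⁅b * a, x⁆ = ⁅b, x⁆ * ⁅a, x⁆ := by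
    rw [commutatorElement_mul_left_eq_conj_mul]
    have := Subgroup.mem_center_iff.1 (hc a x) b
    rw [this, mul_inv_cancel_right]
    exact (Subgroup.mem_center_iff.1 (hc a x) ⁅b, x⁆).symm
  have hl : b * a * x = x * (b * a) ↔ ⁅b, x⁆ * ⁅a, x⁆ = 1 := by
    rw [← e, commutatorElement_eq_one_iff_mul_comm]
  have hr : b * x = x * b ↔ ⁅b, x⁆ = 1 := by
    rw [commutatorElement_eq_one_iff_mul_comm]
  rw [hl, hr]
  by_cases hb : ⁅b, x⁆ = 1
  · right
    refine ⟨hb, ?_⟩
    rw [hb, one_mul]; exact ha1
  · left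
    refine ⟨?_, hb⟩
    have := eq_of_mem_center_two hZ2 (hc b x) (hc a x) hb ha1
    rw [this]
    exact center_sq_of_special h (hc a x)

/-- (S2) an extraspecial 2-group of order at least 16 has an NA8 -/
theorem exists_na8_of_extraspecial (h : Cfsg.IsSpecial 2 P)
    (hZ2 : Nat.card ↥(Subgroup.center P) = 2) (hP : 16 ≤ Nat.card P) :
    ∃ A : Subgroup P, IsMulCommutative ↥A ∧ ¬ IsCyclic ↥A ∧ Nat.card ↥A = 8 := by
  set Z := Subgroup.center P with hZ
  have hexx : ∃ x : P, x ∉ Z := by
    by_contra hno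
    push Not at hno
    have : Z = ⊤ := eq_top_iff.2 fun x _ => hno x
    rw [this, Subgroup.card_top] at hZ2
    omega
  obtain ⟨x, hx⟩ := hexx
  set C := Subgroup.centralizer ({x} : Set P) with hC
  have hidx := index_centralizer_of_extraspecial h hZ2 hx
  have hCcard : 8 ≤ Nat.card ↥C := by
    have := C.card_mul_index
    rw [hidx] at this
    omega
  have hxn : x ∈ Subgroup.normalizer (Z : Set P) := by
    have : Subgroup.normalizer (Z : Set P) = ⊤ := Subgroup.normalizer_eq_top Z
    rw [this]; exact Subgroup.mem_top x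
  have hx2 : x * x ∈ Z := sq_mem_center_of_special h x
  set H := Z ⊔ Subgroup.zpowers x with hH
  have hH4 : Nat.card ↥H = 4 := by
    rw [hH, card_sup_zpowers Z hxn hx hx2, hZ2]
  have hHC : H ≤ C := by
    apply sup_le
    · intro z hz
      rw [hC, Subgroup.mem_centralizer_singleton_iff]
      exact (Subgroup.mem_center_iff.1 hz x).symm
    · rw [Subgroup.zpowers_le, hC, Subgroup.mem_centralizer_singleton_iff]
  have hexy : ∃ y ∈ C, y ∉ H := by
    by_contra hno
    push Not at hno
    have : C ≤ H := fun y hy => hno y hy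
    have := Subgroup.card_le_of_le this
    omega
  obtain ⟨y, hyC, hyH⟩ := hexy
  have hyx : y * x = x * y := Subgroup.mem_centralizer_singleton_iff.1 hyC
  have hcomm : ∀ k ∈ H, y * k = k * y := by
    intro k hk
    obtain ⟨z, hz, n, rfl⟩ := mem_sup_zpowers Z hxn hk
    have c1 : Commute y z := Subgroup.mem_center_iff.1 hz y
    have c2 : Commute y (x ^ n) := Commute.zpow_right hyx n
    exact c1.mul_right c2
  obtain ⟨A, -, h1, h2, h3⟩ := exists_na8 H hH4 hyH hcomm
    (le_sup_left (a := Z) (b := Subgroup.zpowers x) (sq_mem_center_of_special h y))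
    (pow_four_of_special h y)
  exact ⟨A, h1, h2, h3⟩

/-- (S3) there is no extraspecial group of order 16 with an abelian subgroup of order 8 -/
theorem false_of_extraspecial_sixteen (h : Cfsg.IsSpecial 2 P)
    (hZ2 : Nat.card ↥(Subgroup.center P) = 2) (hP : Nat.card P = 16) (A : Subgroup P)
    (hA : ∀ a ∈ A, ∀ b ∈ A, a * b = b * a) (hA8 : Nat.card ↥A = 8) : False := by
  have hc := comm_mem_center_of_special h
  set Z := Subgroup.center P with hZ
  -- a generator of the centre
  have hexz : ∃ z ∈ Z, z ≠ 1 := by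
    by_contra hno
    push Not at hno
    have : Z = ⊥ := by
      rw [eq_bot_iff]; intro z hz; rw [Subgroup.mem_bot]; exact hno z hz
    rw [this, Subgroup.card_bot] at hZ2
    omega
  obtain ⟨z, hzZ, hz1⟩ := hexz
  have hZel : ∀ w ∈ Z, w = 1 ∨ w = z := by
    intro w hw
    by_cases hw1 : w = 1
    · exact Or.inl hw1
    · exact Or.inr (eq_of_mem_center_two hZ2 hw hzZ hw1 hz1)
  have hzz : z * z = 1 := center_sq_of_special h hzZ
  -- the centre lies in A
  have hzA : z ∈ A := by
    by_contra hzA
    have hzn : z ∈ Subgroup.normalizer (A : Set P) := by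
      rw [Subgroup.mem_normalizer_iff]
      intro a
      have : z * a * z⁻¹ = a := by
        rw [(Subgroup.mem_center_iff.1 hzZ a).symm, mul_inv_cancel_right]
      rw [this]
    have hcard := card_sup_zpowers A hzn hzA (by rw [hzz]; exact A.one_mem)
    rw [hA8] at hcard
    have htop : A ⊔ Subgroup.zpowers z = ⊤ := by
      apply Subgroup.eq_top_of_card_eq
      rw [hcard, hP]
    have hab : ∀ a b : P, a * b = b * a := by
      intro a b
      have ha : a ∈ A ⊔ Subgroup.zpowers z := by rw [htop]; exact Subgroup.mem_top a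
      have hb : b ∈ A ⊔ Subgroup.zpowers z := by rw [htop]; exact Subgroup.mem_top b
      obtain ⟨a', ha', k, rfl⟩ := mem_sup_zpowers A hzn ha
      obtain ⟨b', hb', k', rfl⟩ := mem_sup_zpowers A hzn hb
      have hzk : ∀ k : ℤ, z ^ k ∈ Z := fun k => Z.zpow_mem hzZ k
      have c1 : Commute a' b' := hA a' ha' b' hb'
      have c2 : Commute a' (z ^ k') := Subgroup.mem_center_iff.1 (hzk k') a'
      have c3 : Commute (z ^ k) b' := (Subgroup.mem_center_iff.1 (hzk k) b').symm
      have c4 : Commute (z ^ k) (z ^ k') := (Commute.refl z).zpow_zpow k k'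
      exact (c1.mul_right c2).mul_left (c3.mul_right c4)
    have : Z = ⊤ := eq_top_iff.2 fun x _ => Subgroup.mem_center_iff.2 fun g => hab g x
    rw [this, Subgroup.card_top, hP] at hZ2
    omega
  have hZA : Z ≤ A := by
    intro w hw
    rcases hZel w hw with rfl | rfl
    · exact A.one_mem
    · exact hzA
  -- x ∈ A \ Z
  have hexx : ∃ x ∈ A, x ∉ Z := by
    by_contra hno
    push Not at hno
    have := Subgroup.card_le_of_le (show A ≤ Z from fun x hx => hno x hx)
    omega
  obtain ⟨x, hxA, hxZ⟩ := hexx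
  have hxn : x ∈ Subgroup.normalizer (Z : Set P) := by
    have : Subgroup.normalizer (Z : Set P) = ⊤ := Subgroup.normalizer_eq_top Z
    rw [this]; exact Subgroup.mem_top x
  set H := Z ⊔ Subgroup.zpowers x with hH
  have hH4 : Nat.card ↥H = 4 := by
    rw [hH, card_sup_zpowers Z hxn hxZ (sq_mem_center_of_special h x), hZ2]
  have hHA : H ≤ A := sup_le hZA (by rw [Subgroup.zpowers_le]; exact hxA)
  have hexy : ∃ y ∈ A, y ∉ H := by
    by_contra hno
    push Not at hno
    have := Subgroup.card_le_of_le (show A ≤ H from fun y hy => hno y hy)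
    omega
  obtain ⟨y, hyA, hyH⟩ := hexy
  have hexg : ∃ g : P, g ∉ A := by
    by_contra hno
    push Not at hno
    have : A = ⊤ := eq_top_iff.2 fun g _ => hno g
    rw [this, Subgroup.card_top, hP] at hA8
    omega
  obtain ⟨g, hgA⟩ := hexg
  -- centralizers of elements of A \ Z
  have hcent : ∀ w ∈ A, w ∉ Z → ⁅g, w⁆ = z := by
    intro w hwA hwZ
    have hidx := index_centralizer_of_extraspecial h hZ2 hwZ
    have hcard : Nat.card ↥(Subgroup.centralizer ({w} : Set P)) = 8 := by
      have := (Subgroup.centralizer ({w} : Set P)).card_mul_index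
      rw [hidx, hP] at this
      omega
    have hle : A ≤ Subgroup.centralizer ({w} : Set P) := by
      intro a ha
      rw [Subgroup.mem_centralizer_singleton_iff]
      exact hA a ha w hwA
    have heq : A = Subgroup.centralizer ({w} : Set P) :=
      Subgroup.eq_of_le_of_card_ge hle (by rw [hcard, hA8])
    have hg : g ∉ Subgroup.centralizer ({w} : Set P) := by rw [← heq]; exact hgA
    rw [Subgroup.mem_centralizer_singleton_iff] at hg
    have h1 : ⁅g, w⁆ ≠ 1 := by
      rw [Ne, commutatorElement_eq_one_iff_mul_comm]; exact hg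
    rcases hZel _ (hc g w) with h0 | h0
    · exact absurd h0 h1
    · exact h0
  have hyZ : y ∉ Z := fun hy => hyH (le_sup_left (a := Z) (b := Subgroup.zpowers x) hy)
  have hxyZ : x * y ∉ Z := by
    intro hxy
    apply hyH
    have : y = x⁻¹ * (x * y) := by group
    rw [this]
    exact H.mul_mem (H.inv_mem (Subgroup.mem_sup_right (Subgroup.mem_zpowers x)))
      (Subgroup.mem_sup_left hxy)
  have e1 := hcent x hxA hxZ
  have e2 := hcent y hyA hyZ
  have e3 := hcent (x * y) (A.mul_mem hxA hyA) hxyZ
  have e4 : ⁅g, x * y⁆ = ⁅g, x⁆ * (x * ⁅g, y⁆ * x⁻¹) := by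
    simp only [commutatorElement_def]; group
  rw [e1, e2] at e4
  have e5 : x * z * x⁻¹ = z := by
    rw [Subgroup.mem_center_iff.1 hzZ x, mul_inv_cancel_right]
  rw [e5, hzz, e3] at e4
  exact hz1 e4

end Cfsg.Agent.Lead.NA8
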