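import Mathlib
import Cfsg.Agent.Lead.NA8C
import Cfsg.Agent.Lead.NA8D

set_option autoImplicit false
set_option linter.unusedSectionVars false
set_option linter.unusedVariables false

/-!
S4409: the key theorem — an odd-order group acting on a 2-group without non-cyclic abelian
subgroups of order 8 acts trivially, or the 2-group has order 4, or is non-abelian of order 8.
-/

namespace Cfsg.Agent.Lead.NA8

open scoped commutatorElement

variable {G : Type*} [Group G]

/-- an NA8 inside the subgroup type gives an NA8 below the subgroup -/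
theorem not_free_of_sub (X : Subgroup G) (A' : Subgroup ↥X) (h1 : IsMulCommutative ↥A')
    (h2 : ¬ IsCyclic ↥A') (h3 : Nat.card ↥A' = 8) : ¬ Free X := by
  intro hfree
  apply hfree
  set e := A'.equivMapOfInjective X.subtype X.subtype_injective with he
  refine ⟨A'.map X.subtype, ?_, ?_, ?_, ?_⟩
  · rintro _ ⟨y, -, rfl⟩; exact y.2
  · refine ⟨⟨fun a b => ?_⟩⟩
    have := h1.is_comm.comm (e.symm a) (e.symm b)
    have h4 := congrArg e this
    simpa using h4
  · intro hc
    exact h2 ((e.isCyclic).2 hc)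
  · rw [← h3]; exact Nat.card_congr e.symm.toEquiv

theorem not_free_of_na8 {Y A : Subgroup G} (hAY : A ≤ Y) (h1 : IsMulCommutative ↥A)
    (h2 : ¬ IsCyclic ↥A) (h3 : Nat.card ↥A = 8) : ¬ Free Y :=
  fun hfree => hfree ⟨A, hAY, h1, h2, h3⟩

theorem le_normalizer_commutator {K A B : Subgroup G}
    (hA : K ≤ Subgroup.normalizer (A : Set G)) (hB : K ≤ Subgroup.normalizer (B : Set G)) :
    K ≤ Subgroup.normalizer ((⁅A, B⁆ : Subgroup G) : Set G) := by
  rw [Subgroup.commutator_def]
  apply le_normalizer_closure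
  rintro k hk _ ⟨a, ha, b, hb, rfl⟩
  refine ⟨k * a * k⁻¹, (Subgroup.mem_normalizer_iff.1 (hA hk) a).1 ha, k * b * k⁻¹,
    (Subgroup.mem_normalizer_iff.1 (hB hk) b).1 hb, ?_⟩
  simp only [commutatorElement_def]; group

/-- in a nilpotent group, `[M, Y] ≠ M` for `1 ≠ M ≤ Y` -/
theorem commutator_ne_self {Y M : Subgroup G} (hY : Group.IsNilpotent ↥Y) (hMY : M ≤ Y)
    (hM : M ≠ ⊥) : ⁅M, Y⁆ ≠ M := by
  intro heq
  obtain ⟨n, hn⟩ := (Subgroup.isNilpotent_iff_lowerCentralSeries Y).1 hY
  have key : ∀ m : ℕ, M ≤ Y.lowerCentralSeries m := by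
    intro m
    induction m with
    | zero => rw [Subgroup.lowerCentralSeries_zero]; exact hMY
    | succ m ih =>
      rw [Subgroup.lowerCentralSeries_succ, ← heq]
      exact Subgroup.commutator_mono ih le_rfl
  have := key n
  rw [hn, le_bot_iff] at this
  exact hM this

theorem exists_pow_two_eq_one {Y : Subgroup G} (hY : IsPGroup 2 ↥Y) {g : G} (hg : g ∈ Y) :
    ∃ n : ℕ, g ^ (2 ^ n) = 1 := by
  obtain ⟨n, hn⟩ := hY ⟨g, hg⟩
  exact ⟨n, by simpa using congrArg Subtype.val hn⟩

/-- a group of exponent 2 is commutative -/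
theorem comm_of_exp_two {E : Subgroup G} (hE : ∀ x ∈ E, x * x = 1) :
    ∀ a ∈ E, ∀ b ∈ E, a * b = b * a := by
  intro a ha b hb
  have h1 := hE (a * b) (E.mul_mem ha hb)
  have ha' : a⁻¹ = a := by
    have := hE a ha
    calc a⁻¹ = a⁻¹ * (a * a) := by rw [this, mul_one]
      _ = a := by group
  have hb' : b⁻¹ = b := by
    have := hE b hb
    calc b⁻¹ = b⁻¹ * (b * b) := by rw [this, mul_one]
      _ = b := by group
  calc a * b = (a * b)⁻¹⁻¹ := by rw [inv_inv]
    _ = ((a * b)⁻¹ * (a * b * (a * b)))⁻¹ := by rw [h1, mul_one]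
    _ = (a * b)⁻¹ := by group
    _ = b⁻¹ * a⁻¹ := by group
    _ = b * a := by rw [ha', hb']

/-- (C3) an NA8-free group of exponent 2 has order at most 4 -/
theorem card_le_four_of_exp_two [Finite G] {E : Subgroup G} (hE : ∀ x ∈ E, x * x = 1)
    (hfree : Free E) : Nat.card ↥E ≤ 4 := by
  by_contra hcard
  push Not at hcard
  have hcomm := comm_of_exp_two hE
  have hE1 : E ≠ ⊥ := by
    intro h; rw [h, Subgroup.card_bot] at hcard; omega
  obtain ⟨a', ha'⟩ := (Subgroup.ne_bot_iff_exists_ne_one).1 hE1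
  obtain ⟨a, haE, ha1⟩ : ∃ a ∈ E, a ≠ 1 := ⟨a'.1, a'.2, fun h => ha' (Subtype.ext h)⟩
  -- the subgroup of order 2
  set H2 := Subgroup.zpowers a with hH2
  have hH2card : Nat.card ↥H2 = 2 := by
    rw [Nat.card_zpowers]
    exact orderOf_eq_prime (by rw [pow_two]; exact hE a haE) ha1
  have hH2E : H2 ≤ E := by rw [Subgroup.zpowers_le]; exact haE
  have hexb : ∃ b ∈ E, b ∉ H2 := by
    by_contra hno
    push Not at hno
    have := Subgroup.card_le_of_le (show E ≤ H2 from fun y hy => hno y hy)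
    omega
  obtain ⟨b, hbE, hbH2⟩ := hexb
  have hnorm : ∀ (H : Subgroup G), H ≤ E → ∀ y ∈ E, y ∈ Subgroup.normalizer (H : Set G) := by
    intro H hHE y hy
    rw [Subgroup.mem_normalizer_iff]
    intro x
    constructor
    · intro hx
      rw [hcomm y hy x (hHE hx), mul_inv_cancel_right]; exact hx
    · intro hx
      have h1 := hcomm y hy _ (hHE hx)
      have h2 : y * x * y⁻¹ = x := by
        calc y * x * y⁻¹ = y⁻¹ * (y * (y * x * y⁻¹)) := by group
          _ = y⁻¹ * ((y * x * y⁻¹) * y) := by rw [h1]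
          _ = x := by group
      rw [← h2]; exact hx
  set H4 := H2 ⊔ Subgroup.zpowers b with hH4
  have hH4card : Nat.card ↥H4 = 4 := by
    rw [hH4, card_sup_zpowers H2 (hnorm H2 hH2E b hbE) hbH2
      (by rw [hE b hbE]; exact H2.one_mem), hH2card]
  have hH4E : H4 ≤ E := sup_le hH2E (by rw [Subgroup.zpowers_le]; exact hbE)
  have hexc : ∃ c ∈ E, c ∉ H4 := by
    by_contra hno
    push Not at hno
    have := Subgroup.card_le_of_le (show E ≤ H4 from fun y hy => hno y hy)
    omega
  obtain ⟨c, hcE, hcH4⟩ := hexc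
  obtain ⟨A, hA, h1, h2, h3⟩ := exists_na8 H4 hH4card hcH4
    (fun h hh => hcomm c hcE h (hH4E hh)) (by rw [hE c hcE]; exact H4.one_mem)
    (by
      have := hE c hcE
      calc c ^ 4 = (c * c) * (c * c) := by
            rw [show (4 : ℕ) = 2 + 2 from rfl, pow_add, pow_two]
        _ = 1 := by rw [this, one_mul])
  apply hfree
  refine ⟨A, ?_, h1, h2, h3⟩
  rw [hA]
  exact sup_le hH4E (by rw [Subgroup.zpowers_le]; exact hcE)

/-- small non-abelian groups do not exist: a non-abelian 2-group has order at least 8 -/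
theorem eight_le_card_of_not_comm [Finite G] {Y : Subgroup G} (hY : IsPGroup 2 ↥Y)
    (hna : ¬ ∀ a ∈ Y, ∀ b ∈ Y, a * b = b * a) : 8 ≤ Nat.card ↥Y := by
  have hp2 : Fact (Nat.Prime 2) := ⟨Nat.prime_two⟩
  obtain ⟨m, hm⟩ := IsPGroup.iff_card.1 hY
  by_contra hlt
  push Not at hlt
  have hm3 : m < 3 := by
    by_contra h3
    push Not at h3
    have : 2 ^ 3 ≤ 2 ^ m := Nat.pow_le_pow_right (by norm_num) h3
    omega
  apply hna
  interval_cases m
  · intro a ha b hb
    have hbot := Subgroup.eq_bot_of_card_eq Y (by rw [hm]; norm_num)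
    rw [hbot, Subgroup.mem_bot] at ha hb
    rw [ha, hb]
  · intro a ha b hb
    have hcyc : IsCyclic ↥Y := isCyclic_of_prime_card (p := 2) (by rw [hm]; norm_num)
    have := (IsCyclic.isMulCommutative (α := ↥Y)).is_comm.comm ⟨a, ha⟩ ⟨b, hb⟩
    exact congrArg Subtype.val this
  · exact comm_of_card_four Y (by rw [hm]; norm_num)

/-- **Key theorem.**  An odd-order group `K` acting on an NA8-free 2-group `Y` centralizes `Y`,
or `Y` has order 4, or `Y` is non-abelian of order 8. -/
theorem tri_of_free [Finite G] (K : Subgroup G) :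
    ∀ (n : ℕ) (Y : Subgroup G), Nat.card ↥Y = n → Act Y K → Free Y → Tri K Y := by
  intro n
  induction n using Nat.strong_induction_on with
  | _ n ih =>
  intro Y hYn h hfree
  have hp2 : Fact (Nat.Prime 2) := ⟨Nat.prime_two⟩
  by_cases hc : Y ≤ Subgroup.centralizer (K : Set G)
  · exact Or.inl hc
  set Y₁ := ⁅Y, K⁆ with hY₁
  have hY₁Y : Y₁ ≤ Y := h.comm_le
  have hKY₁ : K ≤ Subgroup.normalizer (Y₁ : Set G) := Subgroup.normalizer_commutator_ge_right Y K
  have hYY₁ : Y ≤ Subgroup.normalizer (Y₁ : Set G) := Subgroup.normalizer_commutator_ge_left Y K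
  have h₁ : Act Y₁ K := h.sub hY₁Y hKY₁
  have hcc : ⁅Y₁, K⁆ = Y₁ := h.comm_comm
  have hY₁nc : ¬ Y₁ ≤ Subgroup.centralizer (K : Set G) := fun h0 => hc (h.le_cent_of le_rfl h0)
  have hY₁ne : Y₁ ≠ ⊥ := by
    intro h0
    apply hY₁nc
    rw [h0]; exact bot_le
  have hIH : ∀ H : Subgroup G, H ≤ Y → H ≠ Y → K ≤ Subgroup.normalizer (H : Set G) → Tri K H := by
    intro H hHY hne hKH
    have hlt : Nat.card ↥H < n :=
      hYn ▸ Cfsg.Agent.Helper1.card_lt_card_of_lt (lt_of_le_of_ne hHY hne)
    exact ih _ hlt H rfl (h.sub hHY hKH) (hfree.mono hHY)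
  have hKK : K ≤ Subgroup.normalizer (K : Set G) := Subgroup.le_normalizer
  by_cases hY₁eq : Y₁ = Y
  · -- `[Y, K] = Y`
    by_cases hab : ∀ a ∈ Y, ∀ b ∈ Y, a * b = b * a
    · -- abelian
      have hYcomm : IsMulCommutative ↥Y := ⟨⟨fun a b => Subtype.ext (hab a a.2 b b.2)⟩⟩
      have hdec := (Cfsg.Agent.Helper1.abelian_coprime_decomp K Y h.norm h.coprime).1
      have hfix : Y ⊓ Subgroup.centralizer (K : Set G) = ⊥ := by
        rw [← hY₁, hY₁eq] at hdec
        rw [eq_bot_iff, ← hdec]
        exact le_inf le_rfl inf_le_left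
      set S : Set G := {v | v ∈ Y ∧ v * v = 1} with hS
      set Ω := Subgroup.closure S with hΩ
      have hΩall : ∀ x ∈ Ω, x ∈ Y ∧ x * x = 1 := by
        intro x hx
        induction hx using Subgroup.closure_induction with
        | mem s hs => exact hs
        | one => exact ⟨Y.one_mem, by simp⟩
        | mul a b _ _ iha ihb =>
          refine ⟨Y.mul_mem iha.1 ihb.1, ?_⟩
          have hcm := hab a iha.1 b ihb.1
          calc a * b * (a * b) = a * (b * a) * b := by group
            _ = a * (a * b) * b := by rw [hcm]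
            _ = (a * a) * (b * b) := by group
            _ = 1 := by rw [iha.2, ihb.2, one_mul]
        | inv a _ iha =>
          refine ⟨Y.inv_mem iha.1, ?_⟩
          have : a⁻¹ * a⁻¹ = (a * a)⁻¹ := by group
          rw [this, iha.2, inv_one]
      have hΩY : Ω ≤ Y := fun x hx => (hΩall x hx).1
      have hΩexp : ∀ x ∈ Ω, x * x = 1 := fun x hx => (hΩall x hx).2
      have hKΩ : K ≤ Subgroup.normalizer (Ω : Set G) := by
        apply le_normalizer_closure
        intro k hk s hs
        refine ⟨(Subgroup.mem_normalizer_iff.1 (h.norm hk) s).1 hs.1, ?_⟩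
        have : k * s * k⁻¹ * (k * s * k⁻¹) = k * (s * s) * k⁻¹ := by group
        rw [this, hs.2]; group
      have hΩ4 : Nat.card ↥Ω ≤ 4 := card_le_four_of_exp_two hΩexp (hfree.mono hΩY)
      have hYne : Y ≠ ⊥ := by
        intro h0; apply hc; rw [h0]; exact bot_le
      have hΩne : Ω ≠ ⊥ := by
        obtain ⟨m, hm⟩ := IsPGroup.iff_card.1 h.two
        have hm0 : m ≠ 0 := by
          intro h0
          rw [h0, pow_zero] at hm
          exact hYne (Subgroup.eq_bot_of_card_eq Y hm)
        have hdvd : 2 ∣ Nat.card ↥Y := by rw [hm]; exact dvd_pow_self 2 hm0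
        obtain ⟨x, hx⟩ := exists_prime_orderOf_dvd_card' (G := ↥Y) 2 hdvd
        intro hbot
        have hx2 : x * x = 1 := by rw [← pow_two, ← hx, pow_orderOf_eq_one]
        have hmem : (x : G) ∈ Ω :=
          Subgroup.subset_closure ⟨x.2, by exact_mod_cast congrArg Subtype.val hx2⟩
        rw [hbot, Subgroup.mem_bot] at hmem
        have : x = 1 := Subtype.ext hmem
        rw [this, orderOf_one] at hx
        omega
      obtain ⟨j, hj⟩ := IsPGroup.iff_card.1 (h.two.to_le hΩY)
      have hj2 : j ≤ 2 := by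
        by_contra h3
        push Not at h3
        have : 2 ^ 3 ≤ 2 ^ j := Nat.pow_le_pow_right (by norm_num) h3
        omega
      interval_cases j
      · exact absurd (Subgroup.eq_bot_of_card_eq Ω (by rw [hj]; norm_num)) hΩne
      · exfalso
        have h1 : Ω ≤ Subgroup.centralizer (K : Set G) :=
          le_cent_of_card_two (by rw [hj]; norm_num) hKΩ
        have h2 : Ω ≤ Y ⊓ Subgroup.centralizer (K : Set G) := le_inf hΩY h1
        rw [hfix, le_bot_iff] at h2
        exact hΩne h2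
      · have hΩcard : Nat.card ↥Ω = 4 := by rw [hj]; norm_num
        by_cases hΩeq : Ω = Y
        · right; left; rw [← hΩeq]; exact hΩcard
        · exfalso
          obtain ⟨g, hgY, hgΩ⟩ := SetLike.exists_of_lt (lt_of_le_of_ne hΩY hΩeq)
          obtain ⟨m, hm⟩ := exists_pow_two_eq_one h.two hgY
          obtain ⟨k, hk1, hk2⟩ := exists_pow_not_mem Ω hgΩ hm
          have hg'Y : g ^ (2 ^ k) ∈ Y := Y.pow_mem hgY _
          obtain ⟨A, hA, a1, a2, a3⟩ := exists_na8 Ω hΩcard hk1
            (fun v hv => hab _ hg'Y v (hΩY hv)) hk2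
            (by
              have := hΩexp _ hk2
              calc (g ^ (2 ^ k)) ^ 4 = (g ^ 2 ^ k * g ^ 2 ^ k) * (g ^ 2 ^ k * g ^ 2 ^ k) := by
                    rw [show (4 : ℕ) = 2 + 2 from rfl, pow_add, pow_two]
                _ = 1 := this)
          apply hfree
          refine ⟨A, ?_, a1, a2, a3⟩
          rw [hA]
          exact sup_le hΩY (by rw [Subgroup.zpowers_le]; exact hg'Y)
    · -- special
      have hsp : Cfsg.IsSpecial 2 ↥Y := (h.abelian_or_special hY₁eq hIH).resolve_left hab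
      have hYnt : Nontrivial ↥Y := by
        rw [Subgroup.nontrivial_iff_ne_bot]
        intro h0; apply hc; rw [h0]; exact bot_le
      set Zc := (Subgroup.center ↥Y).map Y.subtype with hZc
      have hZcY : Zc ≤ Y := by rintro _ ⟨y, -, rfl⟩; exact y.2
      have hZcexp : ∀ x ∈ Zc, x * x = 1 := by
        rintro _ ⟨z, hz, rfl⟩
        have := center_sq_of_special hsp hz
        exact congrArg Subtype.val this
      have hZc4 : Nat.card ↥Zc ≤ 4 := card_le_four_of_exp_two hZcexp (hfree.mono hZcY)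
      have hZceq : Nat.card ↥Zc = Nat.card ↥(Subgroup.center ↥Y) :=
        Nat.card_congr ((Subgroup.center ↥Y).equivMapOfInjective Y.subtype
          Y.subtype_injective).symm.toEquiv
      rw [hZceq] at hZc4
      have hcnt : Nontrivial ↥(Subgroup.center ↥Y) := h.two.center_nontrivial
      obtain ⟨j, hj⟩ := IsPGroup.iff_card.1 (h.two.to_subgroup (Subgroup.center ↥Y))
      have hj2 : j ≤ 2 := by
        by_contra h3
        push Not at h3
        have : 2 ^ 3 ≤ 2 ^ j := Nat.pow_le_pow_right (by norm_num) h3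
        omega
      have hj0 : j ≠ 0 := by
        intro h0
        rw [h0, pow_zero] at hj
        have := (Finite.one_lt_card_iff_nontrivial (α := ↥(Subgroup.center ↥Y))).2 hcnt
        omega
      have hexg : ∃ g : ↥Y, g ∉ Subgroup.center ↥Y := by
        by_contra hno
        push Not at hno
        apply hab
        intro a ha b hb
        have := Subgroup.mem_center_iff.1 (hno ⟨b, hb⟩) ⟨a, ha⟩
        exact congrArg Subtype.val this
      obtain ⟨g, hg⟩ := hexg
      interval_cases j
      · exact absurd rfl hj0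
      · -- centre of order 2
        have hZ2 : Nat.card ↥(Subgroup.center ↥Y) = 2 := by rw [hj]; norm_num
        by_cases h16 : 16 ≤ Nat.card ↥Y
        · exfalso
          obtain ⟨A', a1, a2, a3⟩ := exists_na8_of_extraspecial hsp hZ2 h16
          exact not_free_of_sub Y A' a1 a2 a3 hfree
        · right; right
          refine ⟨?_, hab⟩
          have h8 := eight_le_card_of_not_comm h.two hab
          obtain ⟨m, hm⟩ := IsPGroup.iff_card.1 h.two
          have hm3 : m = 3 := by
            have h1 : m < 4 := by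
              by_contra h4
              push Not at h4
              have : 2 ^ 4 ≤ 2 ^ m := Nat.pow_le_pow_right (by norm_num) h4
              omega
            have h2 : 2 < m := by
              by_contra h3
              push Not at h3
              have : 2 ^ m ≤ 2 ^ 2 := Nat.pow_le_pow_right (by norm_num) h3
              omega
            omega
          rw [hm, hm3]; norm_num
      · -- centre of order 4
        exfalso
        have hZ4 : Nat.card ↥(Subgroup.center ↥Y) = 4 := by rw [hj]; norm_num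
        obtain ⟨A', a1, a2, a3⟩ := exists_na8_of_special_four hsp hZ4 hg
        exact not_free_of_sub Y A' a1 a2 a3 hfree
  · -- `[Y, K] < Y`
    exfalso
    rcases hIH Y₁ hY₁Y hY₁eq hKY₁ with h0 | h4 | h8
    · exact hY₁nc h0
    · -- `|[Y, K]| = 4`
      set Zc := Y ⊓ Subgroup.centralizer (Y : Set G) with hZc
      have hKZ : K ≤ Subgroup.normalizer (Zc : Set G) :=
        le_normalizer_inf' h.norm (le_normalizer_centralizer h.norm)
      obtain ⟨x, hxY₁, hx1, hxZ⟩ := exists_mem_center_of_normal h.two hY₁Y hYY₁ hY₁ne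
      have hY₁Z : Y₁ ≤ Zc := by
        rcases h₁.irred_four h4 hY₁nc (inf_le_left : Y₁ ⊓ Zc ≤ Y₁)
          (le_normalizer_inf' hKY₁ hKZ) with h0 | h1
        · have : x ∈ Y₁ ⊓ Zc := Subgroup.mem_inf.2 ⟨hxY₁, hxZ⟩
          rw [h0, Subgroup.mem_bot] at this
          exact absurd this hx1
        · rw [← h1]; exact inf_le_right
      have hexp := h₁.exp_two_of_four h4 hY₁nc
      obtain ⟨g, hgY, hgY₁⟩ := SetLike.exists_of_lt (lt_of_le_of_ne hY₁Y hY₁eq)
      obtain ⟨m, hm⟩ := exists_pow_two_eq_one h.two hgY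
      obtain ⟨k, hk1, hk2⟩ := exists_pow_not_mem Y₁ hgY₁ hm
      have hg'Y : g ^ (2 ^ k) ∈ Y := Y.pow_mem hgY _
      obtain ⟨A, hA, a1, a2, a3⟩ := exists_na8 Y₁ h4 hk1
        (fun v hv => Subgroup.mem_centralizer_iff.1 (hY₁Z hv).2 _ hg'Y) hk2
        (by
          have := hexp _ hk2
          calc (g ^ (2 ^ k)) ^ 4 = (g ^ 2 ^ k * g ^ 2 ^ k) * (g ^ 2 ^ k * g ^ 2 ^ k) := by
                rw [show (4 : ℕ) = 2 + 2 from rfl, pow_add, pow_two]
            _ = 1 := this)
      apply hfree
      refine ⟨A, ?_, a1, a2, a3⟩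
      rw [hA]
      exact sup_le hY₁Y (by rw [Subgroup.zpowers_le]; exact hg'Y)
    · -- `[Y, K]` non-abelian of order 8
      obtain ⟨hZ2, hZK, hinv⟩ := h₁.struct_eight h8.1 h8.2 hY₁nc
      set Z₁ := Y₁ ⊓ Subgroup.centralizer (Y₁ : Set G) with hZ₁
      set T := Y ⊓ Subgroup.centralizer (K : Set G) with hT
      have hTY : T ≤ Y := inf_le_left
      have hTK : T ≤ Subgroup.centralizer (K : Set G) := inf_le_right
      have hKT : K ≤ Subgroup.normalizer (T : Set G) :=
        le_normalizer_inf' h.norm (le_normalizer_centralizer hKK)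
      have hTn : T ≤ Subgroup.normalizer (Y₁ : Set G) := hTY.trans hYY₁
      have hcomT : ⁅Y₁, T⁆ ≤ Y₁ := Subgroup.le_normalizer_iff_commutator_le_left.1 hTn
      have hKc : K ≤ Subgroup.normalizer ((⁅Y₁, T⁆ : Subgroup G) : Set G) :=
        le_normalizer_commutator hKY₁ hKT
      have hYnil : Group.IsNilpotent ↥Y := h.two.isNilpotent
      have hne : ⁅Y₁, T⁆ ≠ Y₁ := by
        intro h0
        have h1 : ⁅Y₁, Y⁆ ≤ Y₁ := Subgroup.le_normalizer_iff_commutator_le_left.1 hYY₁
        have h2 : Y₁ ≤ ⁅Y₁, Y⁆ := by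
          have h3 : ⁅Y₁, T⁆ ≤ ⁅Y₁, Y⁆ := Subgroup.commutator_mono le_rfl hTY
          rwa [h0] at h3
        exact commutator_ne_self hYnil hY₁Y hY₁ne (le_antisymm h1 h2)
      have hle : ⁅Y₁, T⁆ ≤ Z₁ := hinv _ hcomT hKc hne
      have hcent : Y₁ ≤ Subgroup.centralizer (T : Set G) :=
        cent_of_three_subgroups hcc hTK (hle.trans hZK)
      have hsup : Y₁ ⊔ T = Y := h.sup_cent
      have hexc : ∃ c ∈ T, c ∉ Y₁ := by
        by_contra hno
        push Not at hno
        have hTY₁ : T ≤ Y₁ := fun c hc => hno c hc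
        apply hY₁eq
        rw [← hsup]; exact (sup_eq_left.2 hTY₁).symm
      obtain ⟨c, hcT, hcY₁⟩ := hexc
      obtain ⟨m, hm⟩ := exists_pow_two_eq_one h.two (hTY hcT)
      obtain ⟨k, hk1, hk2⟩ := exists_pow_not_mem Y₁ hcY₁ hm
      set c' := c ^ (2 ^ k) with hc'
      have hc'T : c' ∈ T := T.pow_mem hcT _
      have hc'comm : ∀ v ∈ Y₁, c' * v = v * c' := fun v hv =>
        Subgroup.mem_centralizer_iff.1 (hcent hv) c' hc'T
      have hc2Z : c' * c' ∈ Z₁ := by
        refine Subgroup.mem_inf.2 ⟨hk2, ?_⟩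
        rw [Subgroup.mem_centralizer_iff]
        intro v hv
        have := hc'comm v hv
        calc v * (c' * c') = (v * c') * c' := by group
          _ = (c' * v) * c' := by rw [this]
          _ = c' * (v * c') := by group
          _ = c' * (c' * v) := by rw [this]
          _ = c' * c' * v := by group
      have hc4 : c' ^ 4 = 1 := by
        have h1 := pow_card_eq_one' (G := ↥Z₁) (x := ⟨c' * c', hc2Z⟩)
        rw [hZ2] at h1
        have h2 := congrArg Subtype.val h1
        simp only [Subgroup.coe_pow, Subgroup.coe_one] at h2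
        have e : ∀ x : G, x ^ 4 = (x * x) ^ 2 := fun x => by rw [← pow_two, ← pow_mul]
        rw [e c']; exact h2
      have hexg : ∃ g₀ ∈ Y₁, g₀ ∉ Z₁ := by
        by_contra hno
        push Not at hno
        have h1 : Y₁ ≤ Z₁ := fun g hg => hno g hg
        have h2 := Subgroup.card_le_of_le h1
        have h3 := h8.1
        omega
      obtain ⟨g₀, hg₀Y₁, hg₀Z⟩ := hexg
      obtain ⟨m', hm'⟩ := exists_pow_two_eq_one h.two (hY₁Y hg₀Y₁)
      obtain ⟨k', hi1, hi2⟩ := exists_pow_not_mem Z₁ hg₀Z hm'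
      set i := g₀ ^ (2 ^ k') with hi
      have hiY₁ : i ∈ Y₁ := Y₁.pow_mem hg₀Y₁ _
      have hin : i ∈ Subgroup.normalizer (Z₁ : Set G) :=
        le_normalizer_of_le_centralizer (inf_le_right : Z₁ ≤ Subgroup.centralizer (Y₁ : Set G)) hiY₁
      set H := Z₁ ⊔ Subgroup.zpowers i with hH
      have hH4 : Nat.card ↥H = 4 := by rw [hH, card_sup_zpowers Z₁ hin hi1 hi2, hZ2]
      have hHY₁ : H ≤ Y₁ := sup_le inf_le_left (by rw [Subgroup.zpowers_le]; exact hiY₁)
      have hc'H : c' ∉ H := fun hmem => hk1 (hHY₁ hmem)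
      have hc2H : c' * c' ∈ H := (le_sup_left : Z₁ ≤ H) hc2Z
      obtain ⟨A, hA, a1, a2, a3⟩ := exists_na8 H hH4 hc'H
        (fun v hv => hc'comm v (hHY₁ hv)) hc2H hc4
      apply hfree
      refine ⟨A, ?_, a1, a2, a3⟩
      rw [hA]
      exact sup_le (hHY₁.trans hY₁Y) (by rw [Subgroup.zpowers_le]; exact hTY hc'T)

end Cfsg.Agent.Lead.NA8
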