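import Mathlib
import Cfsg.Agent.Lead.NA8E
import Cfsg.Agent.S0016

set_option autoImplicit false
set_option linter.unusedSectionVars false
set_option linter.unusedVariables false

/-!
S4409: small self-centralizing normal 2-subgroups (order 4, or quaternion of order 8) force every
abelian subgroup of order 8 to be cyclic; a non-abelian group of order 8 acted on non-trivially
by a group of odd order is quaternion.
-/

namespace Cfsg.Agent.Lead.NA8

open scoped commutatorElement

variable {G : Type*} [Group G]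

theorem conj_eq_of_comm {a x : G} (h : a * x = x * a) : a * x * a⁻¹ = x := by
  rw [h, mul_inv_cancel_right]

theorem comm_of_conj_eq {a x : G} (h : a * x * a⁻¹ = x) : a * x = x * a := by
  calc a * x = a * x * a⁻¹ * a := by group
    _ = x * a := by rw [h]

theorem mem_normalizer_of_comm {H : Subgroup G} {y : G} (hcomm : ∀ h ∈ H, y * h = h * y) :
    y ∈ Subgroup.normalizer (H : Set G) := by
  rw [Subgroup.mem_normalizer_iff]
  intro h
  constructor
  · intro hh
    rw [hcomm h hh, mul_inv_cancel_right]; exact hh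
  · intro hh
    have h1 := hcomm _ hh
    have h2 : y * h * y⁻¹ = h := by
      calc y * h * y⁻¹ = y⁻¹ * (y * (y * h * y⁻¹)) := by group
        _ = y⁻¹ * ((y * h * y⁻¹) * y) := by rw [h1]
        _ = h := by group
    rw [← h2]; exact hh

/-- in a subgroup of index two the product of two outside elements is inside -/
theorem mul_mem_of_card_double [Finite G] {H R : Subgroup G} (hHR : H ≤ R)
    (hcard : Nat.card ↥R = 2 * Nat.card ↥H) {x y : G} (hx : x ∈ R) (hy : y ∈ R)
    (hxH : x ∉ H) (hyH : y ∉ H) : x * y ∈ H := by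
  have hrel : H.relIndex R = 2 := by
    have h1 := Cfsg.Agent.Helper1.relIndex_mul_card_of_le hHR
    rw [hcard] at h1
    have hpos : 0 < Nat.card ↥H := Nat.card_pos
    exact Nat.eq_of_mul_eq_mul_right hpos h1
  have h2 : (H.subgroupOf R).index = 2 := hrel
  have h3 := Subgroup.mul_mem_iff_of_index_two h2 (a := ⟨x, hx⟩) (b := ⟨y, hy⟩)
  simp only [Subgroup.mem_subgroupOf] at h3
  exact h3.2 ⟨fun h => absurd h hxH, fun h => absurd h hyH⟩

theorem mem_zpowers_of_sq {u w : G} (huu : u * u = 1) (hw : w ∈ Subgroup.zpowers u) :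
    w = 1 ∨ w = u := by
  obtain ⟨k, rfl⟩ := Subgroup.mem_zpowers_iff.1 hw
  rcases Int.even_or_odd k with ⟨m, rfl⟩ | ⟨m, rfl⟩
  · left
    rw [← two_mul, zpow_mul, zpow_two, huu, one_zpow]
  · right
    rw [zpow_add, zpow_one, zpow_mul, zpow_two, huu, one_zpow, one_mul]

theorem card_zpowers_of_sq {u : G} (hu1 : u ≠ 1) (huu : u * u = 1) :
    Nat.card ↥(Subgroup.zpowers u) = 2 := by
  rw [Nat.card_zpowers]
  exact orderOf_eq_prime (by rw [pow_two]; exact huu) hu1

/-- elements of a subgroup of order two square to one -/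
theorem sq_of_card_two {W : Subgroup G} (hW : Nat.card ↥W = 2) {w : G} (hw : w ∈ W) :
    w * w = 1 := by
  have h1 := pow_card_eq_one' (G := ↥W) (x := ⟨w, hw⟩)
  rw [hW] at h1
  have h2 := congrArg Subtype.val h1
  simp only [Subgroup.coe_pow, Subgroup.coe_one] at h2
  rw [← pow_two]; exact h2

/-- a non-cyclic group of order 8 has exponent dividing 4 -/
theorem pow_four_of_card_eight [Finite G] {A : Subgroup G} (hA8 : Nat.card ↥A = 8)
    (hnc : ¬ IsCyclic ↥A) {a : G} (ha : a ∈ A) : a ^ 4 = 1 := by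
  set a' : ↥A := ⟨a, ha⟩ with ha'
  have hdvd : orderOf a' ∣ 8 := hA8 ▸ orderOf_dvd_natCard a'
  have h8 : (8 : ℕ) = 2 ^ 3 := by norm_num
  rw [h8] at hdvd
  obtain ⟨k, hk, hk2⟩ := (Nat.dvd_prime_pow Nat.prime_two).1 hdvd
  have hk3 : k ≠ 3 := by
    intro h3
    apply hnc
    apply isCyclic_of_orderOf_eq_card a'
    rw [hk2, h3, hA8]; norm_num
  have hd4 : orderOf a' ∣ 4 := by
    rw [hk2, show (4 : ℕ) = 2 ^ 2 by norm_num]
    exact pow_dvd_pow 2 (by omega)
  have := orderOf_dvd_iff_pow_eq_one.1 hd4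
  have h2 := congrArg Subtype.val this
  simpa using h2

/-- **index-two lemma**: in a 2-group `P`, the centralizer of a normal subgroup `M` of order 4
has index at most two -/
theorem mul_mem_centralizer_of_four [Finite G] {P M : Subgroup G} (hP : IsPGroup 2 ↥P)
    (hMP : M ≤ P) (hPM : P ≤ Subgroup.normalizer (M : Set G)) (hM4 : Nat.card ↥M = 4)
    {a b : G} (ha : a ∈ P) (hb : b ∈ P)
    (hac : a ∉ Subgroup.centralizer (M : Set G)) (hbc : b ∉ Subgroup.centralizer (M : Set G)) :
    a * b ∈ Subgroup.centralizer (M : Set G) := by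
  have hp2 : Fact (Nat.Prime 2) := ⟨Nat.prime_two⟩
  have hMne : M ≠ ⊥ := by
    intro h; rw [h, Subgroup.card_bot] at hM4; omega
  obtain ⟨u₀, hu₀M, hu₀1, hu₀c⟩ := exists_mem_center_of_normal hP hMP hPM hMne
  have hu₀comm : ∀ p ∈ P, p * u₀ = u₀ * p := fun p hp =>
    Subgroup.mem_centralizer_iff.1 hu₀c.2 p hp
  obtain ⟨u, huM, hu1, huu, hucomm⟩ :
      ∃ u ∈ M, u ≠ 1 ∧ u * u = 1 ∧ ∀ p ∈ P, p * u = u * p := by
    by_cases h : u₀ * u₀ = 1
    · exact ⟨u₀, hu₀M, hu₀1, h, hu₀comm⟩
    · refine ⟨u₀ * u₀, M.mul_mem hu₀M hu₀M, h, ?_, ?_⟩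
      · have := pow_four_of_card_four M hM4 hu₀M
        calc u₀ * u₀ * (u₀ * u₀) = u₀ ^ 4 := by
              rw [show (4 : ℕ) = 2 + 2 from rfl, pow_add, pow_two]
          _ = 1 := this
      · intro p hp
        have := hu₀comm p hp
        calc p * (u₀ * u₀) = (p * u₀) * u₀ := by group
          _ = (u₀ * p) * u₀ := by rw [this]
          _ = u₀ * (p * u₀) := by group
          _ = u₀ * (u₀ * p) := by rw [this]
          _ = u₀ * u₀ * p := by group
  set U := Subgroup.zpowers u with hU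
  have hU2 : Nat.card ↥U = 2 := card_zpowers_of_sq hu1 huu
  have hUM : U ≤ M := by rw [hU, Subgroup.zpowers_le]; exact huM
  have hUc : ∀ w ∈ U, ∀ p ∈ P, p * w = w * p := by
    intro w hw p hp
    rcases mem_zpowers_of_sq huu hw with rfl | rfl
    · simp
    · exact hucomm p hp
  obtain ⟨v, hvM, hvU⟩ : ∃ v ∈ M, v ∉ U := by
    by_contra hno
    push Not at hno
    have := Subgroup.card_le_of_le (show M ≤ U from fun y hy => hno y hy)
    omega
  have hMU : Nat.card ↥M = 2 * Nat.card ↥U := by rw [hM4, hU2]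
  have hvv : v * v ∈ U := mul_mem_of_card_double hUM hMU hvM hvM hvU hvU
  have hconj : ∀ p ∈ P, p * v * p⁻¹ = v ∨ p * v * p⁻¹ = v * u := by
    intro p hp
    have h1 : p * v * p⁻¹ ∈ M := (Subgroup.mem_normalizer_iff.1 (hPM hp) v).1 hvM
    have h2 : p * v * p⁻¹ ∉ U := by
      intro hmem
      have h3 := hUc _ hmem p hp
      have h4 : p * v * p⁻¹ = v := by
        have : p * (p * v * p⁻¹) = p * v := by rw [h3]; group
        exact mul_left_cancel this
      rw [h4] at hmem
      exact hvU hmem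
    have h3 : v * (p * v * p⁻¹) ∈ U := mul_mem_of_card_double hUM hMU hvM h1 hvU h2
    have h4 : v⁻¹ * (p * v * p⁻¹) ∈ U := by
      have : v⁻¹ * (p * v * p⁻¹) = (v * v)⁻¹ * (v * (p * v * p⁻¹)) := by group
      rw [this]
      exact U.mul_mem (U.inv_mem hvv) h3
    rcases mem_zpowers_of_sq huu h4 with h5 | h5
    · left
      calc p * v * p⁻¹ = v * (v⁻¹ * (p * v * p⁻¹)) := by group
        _ = v := by rw [h5, mul_one]
    · right
      calc p * v * p⁻¹ = v * (v⁻¹ * (p * v * p⁻¹)) := by group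
        _ = v * u := by rw [h5]
  have hvn : v ∈ Subgroup.normalizer (U : Set G) :=
    mem_normalizer_of_comm (fun w hw => hUc w hw v (hMP hvM))
  have hMeq : U ⊔ Subgroup.zpowers v = M := by
    apply Subgroup.eq_of_le_of_card_ge
    · exact sup_le hUM (by rw [Subgroup.zpowers_le]; exact hvM)
    · rw [card_sup_zpowers U hvn hvU hvv, hU2, hM4]
  have hcent : ∀ p ∈ P, p * v * p⁻¹ = v → p ∈ Subgroup.centralizer (M : Set G) := by
    intro p hp hpv
    have h1 : M ≤ Subgroup.centralizer ({p} : Set G) := by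
      rw [← hMeq]
      apply sup_le
      · rw [hU, Subgroup.zpowers_le, Subgroup.mem_centralizer_iff]
        intro h hh
        rw [Set.mem_singleton_iff] at hh
        rw [hh]; exact hucomm p hp
      · rw [Subgroup.zpowers_le, Subgroup.mem_centralizer_iff]
        intro h hh
        rw [Set.mem_singleton_iff] at hh
        rw [hh]; exact comm_of_conj_eq hpv
    rw [Subgroup.mem_centralizer_iff]
    intro m hm
    have := Subgroup.mem_centralizer_iff.1 (h1 hm) p (Set.mem_singleton p)
    exact this.symm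
  have hav : a * v * a⁻¹ = v * u := by
    rcases hconj a ha with h | h
    · exact absurd (hcent a ha h) hac
    · exact h
  have hbv : b * v * b⁻¹ = v * u := by
    rcases hconj b hb with h | h
    · exact absurd (hcent b hb h) hbc
    · exact h
  apply hcent (a * b) (P.mul_mem ha hb)
  have hau : a * u * a⁻¹ = u := conj_eq_of_comm (hucomm a ha)
  calc a * b * v * (a * b)⁻¹ = a * (b * v * b⁻¹) * a⁻¹ := by group
    _ = a * (v * u) * a⁻¹ := by rw [hbv]
    _ = (a * v * a⁻¹) * (a * u * a⁻¹) := by group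
    _ = v * u * u := by rw [hav, hau]
    _ = v := by rw [mul_assoc, huu, mul_one]

/-- an abelian group with a subgroup of "index at most two" -/
theorem card_le_two_mul [Finite G] {A A₀ : Subgroup G} (hA : ∀ a ∈ A, ∀ b ∈ A, a * b = b * a)
    (hA₀ : A₀ ≤ A) (hmul : ∀ a ∈ A, ∀ b ∈ A, a ∉ A₀ → b ∉ A₀ → a * b ∈ A₀) :
    Nat.card ↥A ≤ 2 * Nat.card ↥A₀ := by
  by_cases hall : A ≤ A₀
  · have := Subgroup.card_le_of_le hall; omega
  · obtain ⟨a, haA, haA₀⟩ := SetLike.not_le_iff_exists.1 hall
    have hn : a ∈ Subgroup.normalizer (A₀ : Set G) :=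
      mem_normalizer_of_comm (fun h hh => hA a haA h (hA₀ hh))
    have hcard := card_sup_zpowers A₀ hn haA₀ (hmul a haA a haA haA₀ haA₀)
    have hle : A ≤ A₀ ⊔ Subgroup.zpowers a := by
      intro b hb
      by_cases hbA₀ : b ∈ A₀
      · exact (le_sup_left : A₀ ≤ A₀ ⊔ Subgroup.zpowers a) hbA₀
      · have h1 := hmul a haA b hb haA₀ hbA₀
        have h2 : b = a⁻¹ * (a * b) := by group
        rw [h2]
        exact Subgroup.mul_mem _
          ((le_sup_right : Subgroup.zpowers a ≤ A₀ ⊔ Subgroup.zpowers a)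
            (Subgroup.inv_mem _ (Subgroup.mem_zpowers a)))
          ((le_sup_left : A₀ ≤ A₀ ⊔ Subgroup.zpowers a) h1)
    have := Subgroup.card_le_of_le hle
    omega

/-- a self-centralizing normal subgroup of order 4 excludes abelian subgroups of order 8 -/
theorem false_of_self_centralizing_four [Finite G] (R : Subgroup G) (hRn : R.Normal)
    (hC : Subgroup.centralizer (R : Set G) ≤ R) (hR4 : Nat.card ↥R = 4) (A : Subgroup G)
    (hA : ∀ a ∈ A, ∀ b ∈ A, a * b = b * a) (hA8 : Nat.card ↥A = 8) : False := by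
  have hp2 : Fact (Nat.Prime 2) := ⟨Nat.prime_two⟩
  have hA2 : IsPGroup 2 ↥A := IsPGroup.of_card (n := 3) (by rw [hA8]; norm_num)
  have hR2 : IsPGroup 2 ↥R := IsPGroup.of_card (n := 2) (by rw [hR4]; norm_num)
  have hP : IsPGroup 2 ↥(A ⊔ R) := IsPGroup.to_sup_of_normal_right hA2 hR2
  have hPR : A ⊔ R ≤ Subgroup.normalizer (R : Set G) := by
    rw [Subgroup.normalizer_eq_top]; exact le_top
  set A₀ := A ⊓ Subgroup.centralizer (R : Set G) with hA₀
  have hmul : ∀ a ∈ A, ∀ b ∈ A, a ∉ A₀ → b ∉ A₀ → a * b ∈ A₀ := by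
    intro a ha b hb ha0 hb0
    refine Subgroup.mem_inf.2 ⟨A.mul_mem ha hb, ?_⟩
    exact mul_mem_centralizer_of_four hP le_sup_right hPR hR4
      ((le_sup_left : A ≤ A ⊔ R) ha) ((le_sup_left : A ≤ A ⊔ R) hb)
      (fun h => ha0 (Subgroup.mem_inf.2 ⟨ha, h⟩)) (fun h => hb0 (Subgroup.mem_inf.2 ⟨hb, h⟩))
  have h1 : Nat.card ↥A ≤ 2 * Nat.card ↥A₀ := card_le_two_mul hA inf_le_left hmul
  have hA₀R : A₀ ≤ R := inf_le_right.trans hC
  have h2 := Subgroup.card_le_of_le hA₀R
  have hA₀eq : A₀ = R := Subgroup.eq_of_le_of_card_ge hA₀R (by omega)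
  have hRA : R ≤ A := by rw [← hA₀eq]; exact inf_le_left
  have hAR : A ≤ R := by
    refine le_trans ?_ hC
    intro a ha
    rw [Subgroup.mem_centralizer_iff]
    intro r hr
    exact hA r (hRA hr) a ha
  have := Subgroup.card_le_of_le hAR
  omega

/-- a non-abelian group of order 8 is not cyclic -/
theorem not_isCyclic_of_not_comm {R : Subgroup G}
    (hna : ¬ ∀ a ∈ R, ∀ b ∈ R, a * b = b * a) : ¬ IsCyclic ↥R := by
  intro hcyc
  apply hna
  intro a ha b hb
  have := (IsCyclic.isMulCommutative (α := ↥R)).is_comm.comm ⟨a, ha⟩ ⟨b, hb⟩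
  exact congrArg Subtype.val this

/-- basic facts on a non-abelian group of order 8 with a unique involution `z` -/
theorem quat_basic [Finite G] {R : Subgroup G} (hR8 : Nat.card ↥R = 8)
    (hna : ¬ ∀ a ∈ R, ∀ b ∈ R, a * b = b * a)
    {z : G} (hz1 : z ≠ 1) (hz : ∀ r ∈ R, r * r = 1 → r = 1 ∨ r = z) :
    Nat.card ↥(R ⊓ Subgroup.centralizer (R : Set G)) = 2 ∧
    z ∈ R ⊓ Subgroup.centralizer (R : Set G) ∧ z * z = 1 ∧
    (∀ w ∈ R ⊓ Subgroup.centralizer (R : Set G), w = 1 ∨ w = z) ∧
    (∀ r ∈ R, r ∉ R ⊓ Subgroup.centralizer (R : Set G) → r * r = z) := by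
  have hp2 : Fact (Nat.Prime 2) := ⟨Nat.prime_two⟩
  have hR2 : IsPGroup 2 ↥R := IsPGroup.of_card (n := 3) (by rw [hR8]; norm_num)
  set W := R ⊓ Subgroup.centralizer (R : Set G) with hW
  have hW2 : Nat.card ↥W = 2 := card_center_of_card_eight hR2 hR8 hna
  have hWel : ∀ w ∈ W, w = 1 ∨ w = z := fun w hw => hz w hw.1 (sq_of_card_two hW2 hw)
  have hWne : W ≠ ⊥ := by
    intro h; rw [h, Subgroup.card_bot] at hW2; omega
  obtain ⟨w', hw'⟩ := (Subgroup.ne_bot_iff_exists_ne_one).1 hWne
  have hzW : z ∈ W := by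
    rcases hWel w'.1 w'.2 with h | h
    · exact absurd (Subtype.ext h) hw'
    · rw [← h]; exact w'.2
  have hzz : z * z = 1 := sq_of_card_two hW2 hzW
  refine ⟨hW2, hzW, hzz, hWel, ?_⟩
  intro r hr hrW
  have h4 : r ^ 4 = 1 := pow_four_of_card_eight hR8 (not_isCyclic_of_not_comm hna) hr
  have h5 : (r * r) * (r * r) = 1 := by
    rw [← h4, show (4 : ℕ) = 2 + 2 from rfl, pow_add, pow_two]
  rcases hz (r * r) (R.mul_mem hr hr) h5 with h | h
  · exfalso
    rcases hz r hr h with h6 | h6
    · exact hrW (h6 ▸ W.one_mem)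
    · exact hrW (h6 ▸ hzW)
  · exact h

/-- a self-centralizing normal quaternion subgroup of order 8 forces abelian subgroups of order 8
to be cyclic -/
theorem isCyclic_of_self_centralizing_quat [Finite G] (R : Subgroup G) (hRn : R.Normal)
    (hC : Subgroup.centralizer (R : Set G) ≤ R) (hR8 : Nat.card ↥R = 8)
    (hna : ¬ ∀ a ∈ R, ∀ b ∈ R, a * b = b * a)
    {z : G} (hz1 : z ≠ 1) (hz : ∀ r ∈ R, r * r = 1 → r = 1 ∨ r = z)
    (A : Subgroup G) (hA : ∀ a ∈ A, ∀ b ∈ A, a * b = b * a) (hA8 : Nat.card ↥A = 8) :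
    IsCyclic ↥A := by
  by_contra hcyc
  have hp2 : Fact (Nat.Prime 2) := ⟨Nat.prime_two⟩
  have hA4 : ∀ a ∈ A, a ^ 4 = 1 := fun a ha => pow_four_of_card_eight hA8 hcyc ha
  obtain ⟨hW2, hzW, hzz, hWel, hsq⟩ := quat_basic hR8 hna hz1 hz
  set W := R ⊓ Subgroup.centralizer (R : Set G) with hW
  have hzR : z ∈ R := hzW.1
  have hWR : W ≤ R := inf_le_left
  have hCW : Subgroup.centralizer (R : Set G) ≤ W := le_inf hC le_rfl
  have hWcomm : ∀ w ∈ W, ∀ r ∈ R, r * w = w * r := fun w hw r hr =>
    Subgroup.mem_centralizer_iff.1 hw.2 r hr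
  have hA2 : IsPGroup 2 ↥A := IsPGroup.of_card (n := 3) (by rw [hA8]; norm_num)
  have hR2 : IsPGroup 2 ↥R := IsPGroup.of_card (n := 3) (by rw [hR8]; norm_num)
  set P := A ⊔ R with hPdef
  have hP : IsPGroup 2 ↥P := IsPGroup.to_sup_of_normal_right hA2 hR2
  have hRP : R ≤ P := le_sup_right
  have hAP : A ≤ P := le_sup_left
  have hPnil : Group.IsNilpotent ↥P := hP.isNilpotent
  have hRne : R ≠ ⊥ := by
    intro h; rw [h, Subgroup.card_bot] at hR8; omega
  -- a `P`-invariant subgroup of order 4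
  obtain ⟨M, hMR, hM4, hPM⟩ : ∃ M : Subgroup G, M ≤ R ∧ Nat.card ↥M = 4 ∧
      P ≤ Subgroup.normalizer (M : Set G) := by
    set D := ⁅R, P⁆ with hD
    have hDR : D ≤ R := Subgroup.commutator_le_left R P
    have hDne : D ≠ R := commutator_ne_self hPnil hRP hRne
    have hPD : P ≤ Subgroup.normalizer (D : Set G) := Subgroup.normalizer_commutator_ge_right R P
    have hdvd : Nat.card ↥D ∣ 8 := hR8 ▸ Subgroup.card_dvd_of_le hDR
    have hsmall : D ≤ W → ∃ M : Subgroup G, M ≤ R ∧ Nat.card ↥M = 4 ∧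
        P ≤ Subgroup.normalizer (M : Set G) := by
      intro hDW
      obtain ⟨g, hgR, hgW⟩ : ∃ g ∈ R, g ∉ W := by
        by_contra hno
        push Not at hno
        have := Subgroup.card_le_of_le (show R ≤ W from fun y hy => hno y hy)
        omega
      have hgn : g ∈ Subgroup.normalizer (W : Set G) :=
        mem_normalizer_of_comm (fun w hw => hWcomm w hw g hgR)
      have hgg : g * g ∈ W := by rw [hsq g hgR hgW]; exact hzW
      refine ⟨W ⊔ Subgroup.zpowers g, sup_le hWR (by rw [Subgroup.zpowers_le]; exact hgR), ?_, ?_⟩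
      · rw [card_sup_zpowers W hgn hgW hgg, hW2]
      · apply le_normalizer_of_conj_mem
        intro p hp m hm
        have hmR : m ∈ R := (sup_le hWR (by rw [Subgroup.zpowers_le]; exact hgR) :
          W ⊔ Subgroup.zpowers g ≤ R) hm
        have h1 : ⁅m, p⁆ ∈ D := Subgroup.commutator_mem_commutator hmR hp
        have h2 : ⁅m, p⁆⁻¹ ∈ W ⊔ Subgroup.zpowers g :=
          (le_sup_left : W ≤ W ⊔ Subgroup.zpowers g) (W.inv_mem (hDW h1))
        have h3 : p * m * p⁻¹ = ⁅m, p⁆⁻¹ * m := by
          rw [commutatorElement_def]; group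
        rw [h3]
        exact Subgroup.mul_mem _ h2 hm
    rcases card_cases_of_dvd_eight hdvd with h1 | h2 | h4 | h8
    · apply hsmall
      rw [Subgroup.eq_bot_of_card_eq D h1]; exact bot_le
    · apply hsmall
      intro d hd
      rcases hz d (hDR hd) (sq_of_card_two h2 hd) with h | h
      · rw [h]; exact W.one_mem
      · rw [h]; exact hzW
    · exact ⟨D, hDR, h4, hPD⟩
    · exact absurd (Subgroup.eq_of_le_of_card_ge hDR (by rw [hR8, h8])) hDne
  have hMab := comm_of_card_four M hM4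
  have hMne : M ≠ ⊥ := by
    intro h; rw [h, Subgroup.card_bot] at hM4; omega
  have hzM : z ∈ M := by
    obtain ⟨m', hm'⟩ := (Subgroup.ne_bot_iff_exists_ne_one).1 hMne
    by_cases hmW : (m' : G) ∈ W
    · rcases hWel _ hmW with h | h
      · exact absurd (Subtype.ext h) hm'
      · rw [← h]; exact m'.2
    · rw [← hsq _ (hMR m'.2) hmW]; exact M.mul_mem m'.2 m'.2
  have hWM : W ≤ M := by
    intro w hw
    rcases hWel w hw with h | h
    · rw [h]; exact M.one_mem
    · rw [h]; exact hzM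
  obtain ⟨i, hiM, hiW⟩ : ∃ i ∈ M, i ∉ W := by
    by_contra hno
    push Not at hno
    have := Subgroup.card_le_of_le (show M ≤ W from fun y hy => hno y hy)
    omega
  have hiR : i ∈ R := hMR hiM
  have hii : i * i = z := hsq i hiR hiW
  obtain ⟨j, hjR, hjM⟩ : ∃ j ∈ R, j ∉ M := by
    by_contra hno
    push Not at hno
    have := Subgroup.card_le_of_le (show R ≤ M from fun y hy => hno y hy)
    omega
  have hjW : j ∉ W := fun h => hjM (hWM h)
  have hjj : j * j = z := hsq j hjR hjW
  have hjn : j ∈ Subgroup.normalizer (M : Set G) := hPM (hRP hjR)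
  have hRMj : M ⊔ Subgroup.zpowers j = R := by
    apply Subgroup.eq_of_le_of_card_ge
    · exact sup_le hMR (by rw [Subgroup.zpowers_le]; exact hjR)
    · rw [card_sup_zpowers M hjn hjM (by rw [hjj]; exact hzM), hM4, hR8]
  have hRM : Nat.card ↥R = 2 * Nat.card ↥M := by rw [hR8, hM4]
  have hMW : Nat.card ↥M = 2 * Nat.card ↥W := by rw [hM4, hW2]
  -- an element commuting with `M` and `j` centralizes `R`
  have hcentR : ∀ a : G, a ∈ Subgroup.centralizer (M : Set G) → a * j * a⁻¹ = j → a ∈ W := by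
    intro a haM haj
    apply hCW
    have h1 : R ≤ Subgroup.centralizer ({a} : Set G) := by
      rw [← hRMj]
      apply sup_le
      · intro m hm
        rw [Subgroup.mem_centralizer_iff]
        intro h hh
        rw [Set.mem_singleton_iff] at hh
        rw [hh]
        exact (Subgroup.mem_centralizer_iff.1 haM m hm).symm
      · rw [Subgroup.zpowers_le, Subgroup.mem_centralizer_iff]
        intro h hh
        rw [Set.mem_singleton_iff] at hh
        rw [hh]; exact comm_of_conj_eq haj
    rw [Subgroup.mem_centralizer_iff]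
    intro r hr
    have := Subgroup.mem_centralizer_iff.1 (h1 hr) a (Set.mem_singleton a)
    exact this.symm
  have hzc : ∀ r ∈ R, r * z = z * r := fun r hr => hWcomm z hzW r hr
  -- `i` inverts `j` modulo the centre
  have hij : i * j * i⁻¹ = j * z := by
    have hiMc : i ∈ Subgroup.centralizer (M : Set G) := by
      rw [Subgroup.mem_centralizer_iff]
      intro m hm
      exact hMab m hm i hiM
    have hnc : i * j * i⁻¹ ≠ j := fun h => hiW (hcentR i hiMc h)
    have h1 : j * i * j⁻¹ ∈ M := (Subgroup.mem_normalizer_iff.1 hjn i).1 hiM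
    have h2 : j * i * j⁻¹ ∉ W := by
      intro hmem
      apply hiW
      have h3 := hWcomm _ hmem j hjR
      have h4 : j * i * j⁻¹ = i := by
        have : j * (j * i * j⁻¹) = j * i := by rw [h3]; group
        exact mul_left_cancel this
      rw [h4] at hmem; exact hmem
    have h3 : i * (j * i * j⁻¹) ∈ W := mul_mem_of_card_double hWM hMW hiM h1 hiW h2
    rcases hWel _ h3 with h4 | h4
    · -- `j i j⁻¹ = i⁻¹`
      have h5 : j * i * j⁻¹ = i⁻¹ := by
        calc j * i * j⁻¹ = i⁻¹ * (i * (j * i * j⁻¹)) := by group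
          _ = i⁻¹ := by rw [h4, mul_one]
      have e1 : j * i = i⁻¹ * j := by
        calc j * i = (j * i * j⁻¹) * j := by group
          _ = i⁻¹ * j := by rw [h5]
      have h6 : i * j * i⁻¹ = j * (i * i)⁻¹ := by
        calc i * j * i⁻¹ = i * (j * i) * i⁻¹ * i⁻¹ := by group
          _ = i * (i⁻¹ * j) * i⁻¹ * i⁻¹ := by rw [e1]
          _ = j * (i * i)⁻¹ := by group
      rw [h6, hii, inv_eq_of_mul_eq_one_right hzz]
    · exfalso
      apply hnc
      have h5 : j * i * j⁻¹ = i := by
        have : i * (j * i * j⁻¹) = i * i := by rw [h4, hii]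
        exact mul_left_cancel this
      have h6 : j * i = i * j := comm_of_conj_eq h5
      rw [← h6]; group
  have hzinv : z⁻¹ = z := inv_eq_of_mul_eq_one_right hzz
  have hiMc : i ∈ Subgroup.centralizer (M : Set G) := by
    rw [Subgroup.mem_centralizer_iff]
    intro m hm
    exact hMab m hm i hiM
  have hkey : ∀ a : G, a ∈ Subgroup.centralizer (M : Set G) →
      (a * j * a⁻¹ = j ∨ a * j * a⁻¹ = j * z) → a ∈ M := by
    intro a haM hcases
    rcases hcases with h | h
    · exact hWM (hcentR a haM h)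
    · have ha' : a * i⁻¹ ∈ Subgroup.centralizer (M : Set G) :=
        Subgroup.mul_mem _ haM (Subgroup.inv_mem _ hiMc)
      have haz : a * z * a⁻¹ = z :=
        conj_eq_of_comm ((Subgroup.mem_centralizer_iff.1 haM z hzM).symm)
      have hinvij : i⁻¹ * j * i = j * z := by
        have hzi : i⁻¹ * z * i = z := by
          have := hzc i hiR
          calc i⁻¹ * z * i = i⁻¹ * (z * i) := by group
            _ = i⁻¹ * (i * z) := by rw [this]
            _ = z := by group
        have e1 : j = (i⁻¹ * j * i) * (i⁻¹ * z * i) := by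
          calc j = i⁻¹ * (i * j * i⁻¹) * i := by group
            _ = i⁻¹ * (j * z) * i := by rw [hij]
            _ = (i⁻¹ * j * i) * (i⁻¹ * z * i) := by group
        rw [hzi] at e1
        calc i⁻¹ * j * i = (i⁻¹ * j * i) * z * z⁻¹ := by group
          _ = j * z⁻¹ := by rw [← e1]
          _ = j * z := by rw [hzinv]
      have h2 : (a * i⁻¹) * j * (a * i⁻¹)⁻¹ = j := by
        calc (a * i⁻¹) * j * (a * i⁻¹)⁻¹ = a * (i⁻¹ * j * i) * a⁻¹ := by group
          _ = a * (j * z) * a⁻¹ := by rw [hinvij]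
          _ = (a * j * a⁻¹) * (a * z * a⁻¹) := by group
          _ = j * z * z := by rw [h, haz]
          _ = j := by rw [mul_assoc, hzz, mul_one]
      have h3 : a * i⁻¹ ∈ M := hWM (hcentR _ ha' h2)
      have : a = (a * i⁻¹) * i := by group
      rw [this]; exact M.mul_mem h3 hiM
  have hkey2 : ∀ a : G, a ∈ Subgroup.centralizer (M : Set G) → a ^ 4 = 1 → a ∈ M := by
    intro a haM ha4
    have hajR : a * j * a⁻¹ ∈ R := hRn.conj_mem j hjR a
    have hajM : a * j * a⁻¹ ∉ M := by
      intro hmem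
      have h1 := Subgroup.mem_centralizer_iff.1 haM _ hmem
      have h2 : a * j * a⁻¹ = j := by
        have : a * (a * j * a⁻¹) = a * j := by rw [← h1]; group
        exact mul_left_cancel this
      rw [h2] at hmem; exact hjM hmem
    have h1 : j * (a * j * a⁻¹) ∈ M := mul_mem_of_card_double hMR hRM hjR hajR hjM hajM
    obtain ⟨m, hm⟩ : ∃ m : G, m = j⁻¹ * (a * j * a⁻¹) := ⟨_, rfl⟩
    have hmM : m ∈ M := by
      have : m = (j * j)⁻¹ * (j * (a * j * a⁻¹)) := by rw [hm]; group
      rw [this, hjj]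
      exact M.mul_mem (M.inv_mem hzM) h1
    have hajm : a * j * a⁻¹ = j * m := by rw [hm]; group
    by_cases hmW : m ∈ W
    · apply hkey a haM
      rcases hWel m hmW with h | h
      · left; rw [hajm, h, mul_one]
      · right; rw [hajm, h]
    · exfalso
      have hmm : m * m = z := hsq m (hMR hmM) hmW
      have ham : a * m * a⁻¹ = m :=
        conj_eq_of_comm ((Subgroup.mem_centralizer_iff.1 haM m hmM).symm)
      have haaM : a * a ∈ Subgroup.centralizer (M : Set G) := Subgroup.mul_mem _ haM haM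
      have h2 : (a * a) * j * (a * a)⁻¹ = j * z := by
        calc (a * a) * j * (a * a)⁻¹ = a * (a * j * a⁻¹) * a⁻¹ := by group
          _ = a * (j * m) * a⁻¹ := by rw [hajm]
          _ = (a * j * a⁻¹) * (a * m * a⁻¹) := by group
          _ = j * m * m := by rw [hajm, ham]
          _ = j * z := by rw [mul_assoc, hmm]
      have h3 : a * a ∈ M := hkey _ haaM (Or.inr h2)
      have h4 : a * a ∉ W := by
        intro hmem
        have h5 := hWcomm _ hmem j hjR
        have h6 : (a * a) * j * (a * a)⁻¹ = j := conj_eq_of_comm h5.symm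
        rw [h6] at h2
        apply hz1
        have : j * 1 = j * z := by rw [mul_one]; exact h2
        exact (mul_left_cancel this).symm
      have h5 : (a * a) * (a * a) = z := hsq _ (hMR h3) h4
      apply hz1
      rw [← h5, ← ha4, show (4 : ℕ) = 2 + 2 from rfl, pow_add, pow_two]
  set A₁ := A ⊓ Subgroup.centralizer (M : Set G) with hA₁
  have hmul : ∀ a ∈ A, ∀ b ∈ A, a ∉ A₁ → b ∉ A₁ → a * b ∈ A₁ := by
    intro a ha b hb ha0 hb0
    refine Subgroup.mem_inf.2 ⟨A.mul_mem ha hb, ?_⟩
    exact mul_mem_centralizer_of_four hP (hMR.trans hRP) hPM hM4 (hAP ha) (hAP hb)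
      (fun h => ha0 (Subgroup.mem_inf.2 ⟨ha, h⟩)) (fun h => hb0 (Subgroup.mem_inf.2 ⟨hb, h⟩))
  have h1 : Nat.card ↥A ≤ 2 * Nat.card ↥A₁ := card_le_two_mul hA inf_le_left hmul
  have hA₁M : A₁ ≤ M := fun a ha => hkey2 a ha.2 (hA4 a ha.1)
  have h2 := Subgroup.card_le_of_le hA₁M
  have hA₁eq : A₁ = M := Subgroup.eq_of_le_of_card_ge hA₁M (by omega)
  have hMA : M ≤ A := by rw [← hA₁eq]; exact inf_le_left
  have hAM : A ≤ M := by
    intro a ha
    apply hkey2 a _ (hA4 a ha)
    rw [Subgroup.mem_centralizer_iff]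
    intro m hm
    exact hA m (hMA hm) a ha
  have := Subgroup.card_le_of_le hAM
  omega

/-- a non-abelian group of order 8 acted on non-trivially by a group of odd order has a unique
involution -/
theorem Act.unique_involution [Finite G] {R K : Subgroup G} (h : Act R K)
    (hR8 : Nat.card ↥R = 8) (hna : ¬ ∀ a ∈ R, ∀ b ∈ R, a * b = b * a)
    (hnc : ¬ R ≤ Subgroup.centralizer (K : Set G)) :
    ∃ z ∈ R, z ≠ 1 ∧ ∀ r ∈ R, r * r = 1 → r = 1 ∨ r = z := by
  have hp2 : Fact (Nat.Prime 2) := ⟨Nat.prime_two⟩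
  obtain ⟨hZ2, hZK, hinv⟩ := h.struct_eight hR8 hna hnc
  set Z := R ⊓ Subgroup.centralizer (R : Set G) with hZ
  have hZne : Z ≠ ⊥ := by
    intro h0; rw [h0, Subgroup.card_bot] at hZ2; omega
  obtain ⟨z', hz'⟩ := (Subgroup.ne_bot_iff_exists_ne_one).1 hZne
  obtain ⟨z, hzZ, hz1⟩ : ∃ z ∈ Z, z ≠ 1 := ⟨z'.1, z'.2, fun h0 => hz' (Subtype.ext h0)⟩
  have hzz : z * z = 1 := sq_of_card_two hZ2 hzZ
  have hzinv : z⁻¹ = z := inv_eq_of_mul_eq_one_right hzz
  have hZeq : Subgroup.zpowers z = Z := by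
    apply Subgroup.eq_of_le_of_card_ge
    · rw [Subgroup.zpowers_le]; exact hzZ
    · rw [card_zpowers_of_sq hz1 hzz, hZ2]
  have hZel : ∀ w ∈ Z, w = 1 ∨ w = z := by
    intro w hw
    rw [← hZeq] at hw
    exact mem_zpowers_of_sq hzz hw
  have hZcomm : ∀ w ∈ Z, ∀ r ∈ R, r * w = w * r := fun w hw r hr =>
    Subgroup.mem_centralizer_iff.1 hw.2 r hr
  refine ⟨z, hzZ.1, hz1, ?_⟩
  intro u huR huu
  by_contra hcon
  push Not at hcon
  obtain ⟨hu1, huz⟩ := hcon
  have huinv : u⁻¹ = u := inv_eq_of_mul_eq_one_right huu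
  have huZ : u ∉ Z := by
    intro hmem
    rcases hZel u hmem with h0 | h0
    · exact hu1 h0
    · exact huz h0
  -- squares of non-central elements are central
  have hsqZ : ∀ x ∈ R, x * x ∈ Z := by
    intro x hx
    by_cases hxZ : x ∈ Z
    · exact Z.mul_mem hxZ hxZ
    · set H := Z ⊔ Subgroup.zpowers x with hH
      have hHR : H ≤ R := sup_le inf_le_left (by rw [Subgroup.zpowers_le]; exact hx)
      have hHne : H ≠ R := by
        intro heq
        apply hxZ
        refine Subgroup.mem_inf.2 ⟨hx, ?_⟩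
        have h1 : H ≤ Subgroup.centralizer ({x} : Set G) := by
          apply sup_le
          · intro w hw
            rw [Subgroup.mem_centralizer_iff]
            intro y hy
            rw [Set.mem_singleton_iff] at hy
            rw [hy]
            exact hZcomm w hw x hx
          · rw [Subgroup.zpowers_le, Subgroup.mem_centralizer_iff]
            intro y hy
            rw [Set.mem_singleton_iff] at hy
            rw [hy]
        rw [Subgroup.mem_centralizer_iff]
        intro r hr
        rw [← heq] at hr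
        have := Subgroup.mem_centralizer_iff.1 (h1 hr) x (Set.mem_singleton x)
        exact this.symm
      have hdvd : Nat.card ↥H ∣ 8 := hR8 ▸ Subgroup.card_dvd_of_le hHR
      have hZH : Z ≤ H := le_sup_left
      have hlt : Nat.card ↥Z < Nat.card ↥H := by
        apply Cfsg.Agent.Helper1.card_lt_card_of_lt
        refine lt_of_le_of_ne hZH ?_
        intro heq
        apply hxZ
        rw [heq]
        exact (le_sup_right : Subgroup.zpowers x ≤ H) (Subgroup.mem_zpowers x)
      have hH4 : Nat.card ↥H = 4 := by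
        rcases card_cases_of_dvd_eight hdvd with h1 | h2 | h4 | h8
        · omega
        · omega
        · exact h4
        · exact absurd (Subgroup.eq_of_le_of_card_ge hHR (by rw [hR8, h8])) hHne
      have hxH : x ∈ H := (le_sup_right : Subgroup.zpowers x ≤ H) (Subgroup.mem_zpowers x)
      exact mul_mem_of_card_double hZH (by rw [hH4, hZ2]) hxH hxH hxZ hxZ
  -- commutators are central
  have hRnil : Group.IsNilpotent ↥R := h.two.isNilpotent
  have hRne : R ≠ ⊥ := by
    intro h0; rw [h0, Subgroup.card_bot] at hR8; omega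
  have hcomZ : ⁅R, R⁆ ≤ Z :=
    hinv _ (Subgroup.le_normalizer_iff_commutator_le_left.1 Subgroup.le_normalizer)
      (le_normalizer_commutator h.norm h.norm) (commutator_ne_self hRnil le_rfl hRne)
  -- a partner not commuting with `u`
  obtain ⟨y, hyR, hyu⟩ : ∃ y ∈ R, y * u ≠ u * y := by
    by_contra hno
    push Not at hno
    apply huZ
    refine Subgroup.mem_inf.2 ⟨huR, ?_⟩
    rw [Subgroup.mem_centralizer_iff]
    intro r hr
    exact hno r hr
  have hcomm_uy : ⁅u, y⁆ = z := by
    have h1 : ⁅u, y⁆ ∈ Z := hcomZ (Subgroup.commutator_mem_commutator huR hyR)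
    rcases hZel _ h1 with h2 | h2
    · exfalso
      apply hyu
      rw [commutatorElement_eq_one_iff_mul_comm] at h2
      exact h2.symm
    · exact h2
  have huy : u * y * u⁻¹ = z * y := by
    calc u * y * u⁻¹ = ⁅u, y⁆ * y := by rw [commutatorElement_def]; group
      _ = z * y := by rw [hcomm_uy]
  have hzy : y * z = z * y := hZcomm z hzZ y hyR
  have hzu : u * z = z * u := hZcomm z hzZ u huR
  have hyZ : y ∉ Z := by
    intro hmem
    apply hyu
    exact (hZcomm y hmem u huR).symm
  -- an element `g` of order 4 inverted by `u`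
  obtain ⟨g, hgR, hgg, hug⟩ : ∃ g ∈ R, g * g = z ∧ u * g * u⁻¹ = g * z := by
    rcases hZel _ (hsqZ y hyR) with hyy | hyy
    · refine ⟨u * y, R.mul_mem huR hyR, ?_, ?_⟩
      · calc u * y * (u * y) = (u * y * u⁻¹) * (u * u) * y := by group
          _ = z * y * 1 * y := by rw [huy, huu]
          _ = z * (y * y) := by group
          _ = z := by rw [hyy, mul_one]
      · calc u * (u * y) * u⁻¹ = u * (u * y * u⁻¹) := by group
          _ = u * (z * y) := by rw [huy]
          _ = (u * z) * y := by group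
          _ = (z * u) * y := by rw [hzu]
          _ = z * (u * y) := by group
          _ = u * y * z := by
            have h1 : (u * y) * z = z * (u * y) := hZcomm z hzZ _ (R.mul_mem huR hyR)
            rw [h1]
    · refine ⟨y, hyR, hyy, ?_⟩
      rw [huy, hzy]
  have hginv : g⁻¹ = g * z := by
    apply inv_eq_of_mul_eq_one_right
    calc g * (g * z) = (g * g) * z := by group
      _ = 1 := by rw [hgg, hzz]
  have hg4 : g ^ 4 = 1 := by
    rw [show (4 : ℕ) = 2 + 2 from rfl, pow_add, pow_two, hgg, hzz]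
  set C4 := Subgroup.zpowers g with hC4
  have hC4R : C4 ≤ R := by rw [hC4, Subgroup.zpowers_le]; exact hgR
  have hC4card : Nat.card ↥C4 = 4 := by
    rw [Nat.card_zpowers]
    have h1 : ¬ g ^ 2 ^ 1 = 1 := by
      rw [pow_one, pow_two, hgg]; exact hz1
    have h2 : g ^ 2 ^ (1 + 1) = 1 := by
      have : (2 : ℕ) ^ (1 + 1) = 4 := by norm_num
      rw [this]; exact hg4
    have := orderOf_eq_prime_pow h1 h2
    rw [this]; norm_num
  have huconj : ∀ x ∈ C4, u * x * u⁻¹ = x⁻¹ := by
    intro x hx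
    obtain ⟨k, rfl⟩ := Subgroup.mem_zpowers_iff.1 hx
    have h1 : u * g ^ k * u⁻¹ = (u * g * u⁻¹) ^ k := by
      rw [conj_zpow]
    rw [h1, hug, ← hginv, inv_zpow]
  have hun : u ∈ Subgroup.normalizer (C4 : Set G) := by
    have : Subgroup.zpowers u ≤ Subgroup.normalizer (C4 : Set G) := by
      apply le_normalizer_of_conj_mem
      intro k hk x hx
      rcases mem_zpowers_of_sq huu hk with rfl | rfl
      · simpa using hx
      · rw [huconj x hx]; exact C4.inv_mem hx
    exact this (Subgroup.mem_zpowers u)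
  have huC4 : u ∉ C4 := by
    intro hmem
    have h1 := huconj g (Subgroup.mem_zpowers g)
    have h2 := huconj u hmem
    -- `u` commutes with `g` as both lie in the cyclic group
    have h3 : u * g = g * u := by
      obtain ⟨k, hk⟩ := Subgroup.mem_zpowers_iff.1 hmem
      rw [← hk]
      exact ((Commute.refl g).zpow_left k)
    have h4 : u * g * u⁻¹ = g := conj_eq_of_comm h3
    rw [hug] at h4
    apply hz1
    have : g * z = g * 1 := by rw [mul_one]; exact h4
    exact mul_left_cancel this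
  have hReq : C4 ⊔ Subgroup.zpowers u = R := by
    apply Subgroup.eq_of_le_of_card_ge
    · exact sup_le hC4R (by rw [Subgroup.zpowers_le]; exact huR)
    · rw [card_sup_zpowers C4 hun huC4 (by rw [huu]; exact C4.one_mem), hC4card, hR8]
  have hord4 : ∀ x ∈ R, x * x ≠ 1 → x ∈ C4 := by
    intro x hx hxx
    rw [← hReq] at hx
    rcases mem_sup_zpowers_cases C4 hun (by rw [huu]; exact C4.one_mem) hx with h1 | ⟨c, hc, rfl⟩
    · exact h1
    · exfalso
      apply hxx
      calc c * u * (c * u) = c * (u * c * u⁻¹) * (u * u) := by group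
        _ = c * c⁻¹ * 1 := by rw [huconj c hc, huu]
        _ = 1 := by group
  set V := Subgroup.closure {x : G | x ∈ R ∧ x * x ≠ 1} with hV
  have hVC4 : V ≤ C4 := by
    rw [hV, Subgroup.closure_le]
    intro x hx
    exact hord4 x hx.1 hx.2
  have hVR : V ≤ R := hVC4.trans hC4R
  have hKV : K ≤ Subgroup.normalizer (V : Set G) := by
    apply le_normalizer_closure
    intro k hk s hs
    refine ⟨(Subgroup.mem_normalizer_iff.1 (h.norm hk) s).1 hs.1, ?_⟩
    intro h0
    apply hs.2
    have h1 : k * s * k⁻¹ * (k * s * k⁻¹) = k * (s * s) * k⁻¹ := by group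
    rw [h1] at h0
    have h2 : s * s = k⁻¹ * (k * (s * s) * k⁻¹) * k := by group
    rw [h2, h0]; group
  have hVne : V ≠ R := by
    intro heq
    have h1 := Subgroup.card_le_of_le hVC4
    rw [heq, hR8, hC4card] at h1
    omega
  have hVZ : V ≤ Z := hinv V hVR hKV hVne
  have hgV : g ∈ V := Subgroup.subset_closure ⟨hgR, by rw [hgg]; exact hz1⟩
  have hgZ : g ∈ Z := hVZ hgV
  have := sq_of_card_two hZ2 hgZ
  rw [hgg] at this
  exact hz1 this

/-- a non-abelian group of order 8 with a unique involution is quaternion -/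
theorem quaternion_of_unique_involution [Finite G] {R : Subgroup G}
    (hR8 : Nat.card ↥R = 8) (hna : ¬ ∀ a ∈ R, ∀ b ∈ R, a * b = b * a)
    {z : G} (hzR : z ∈ R) (hz1 : z ≠ 1) (hz : ∀ r ∈ R, r * r = 1 → r = 1 ∨ r = z) :
    Nonempty (↥R ≃* QuaternionGroup 2) := by
  have hp2 : Fact (Nat.Prime 2) := ⟨Nat.prime_two⟩
  have hR2 : IsPGroup 2 ↥R := IsPGroup.of_card (n := 3) (by rw [hR8]; norm_num)
  obtain ⟨-, hzW, hzz, -, -⟩ := quat_basic hR8 hna hz1 hz
  set z' : ↥R := ⟨z, hzR⟩ with hz'
  have hz'1 : z' ≠ 1 := fun h0 => hz1 (congrArg Subtype.val h0)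
  have hz'z' : z' * z' = 1 := Subtype.ext hzz
  have huniq : ∀ H : Subgroup ↥R, Nat.card ↥H = 2 → H = Subgroup.zpowers z' := by
    intro H hH
    have hHne : H ≠ ⊥ := by
      intro h0; rw [h0, Subgroup.card_bot] at hH; omega
    obtain ⟨x, hx⟩ := (Subgroup.ne_bot_iff_exists_ne_one).1 hHne
    have hxx : (x : ↥R) * (x : ↥R) = 1 := sq_of_card_two hH x.2
    have hxz : (x : ↥R) = z' := by
      have h1 : ((x : ↥R) : G) * ((x : ↥R) : G) = 1 := congrArg Subtype.val hxx
      rcases hz _ (x : ↥R).2 h1 with h2 | h2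
      · exfalso
        apply hx
        apply Subtype.ext
        apply Subtype.ext
        exact h2
      · exact Subtype.ext h2
    symm
    apply Subgroup.eq_of_le_of_card_ge
    · rw [Subgroup.zpowers_le, ← hxz]; exact x.2
    · rw [card_zpowers_of_sq hz'1 hz'z', hH]
  have huniq' : ∀ H K : Subgroup ↥R, Nat.card ↥H = 2 → Nat.card ↥K = 2 → H = K := by
    intro H K hH hK
    rw [huniq H hH, huniq K hK]
  rcases Cfsg.Agent.S0016.result 2 hR2 huniq' with hcyc | ⟨-, n, ⟨e⟩⟩
  · exfalso
    exact not_isCyclic_of_not_comm hna hcyc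
  · have hcard : Nat.card ↥R = Nat.card (QuaternionGroup (2 ^ n)) := Nat.card_congr e.toEquiv
    have hne : NeZero (2 ^ n) := ⟨by positivity⟩
    rw [Nat.card_eq_fintype_card (α := QuaternionGroup (2 ^ n)), QuaternionGroup.card,
      hR8] at hcard
    have h2n : 2 ^ n = 2 := by omega
    rw [h2n] at e
    exact ⟨e⟩

end Cfsg.Agent.Lead.NA8
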