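import Mathlib
import Cfsg.Agent.Lead.NA8F
import Cfsg.Agent.Helper1.HallExtra
import Cfsg.Agent.Helper4.HallHigman
import Cfsg.Agent.Helper4.SolvPSolv
import Cfsg.Agent.Helper5.Cores

set_option autoImplicit false
set_option linter.unusedSectionVars false
set_option linter.unusedVariables false

/-!
S4409: assembly.  The Sylow 2-subgroup of a minimal solvable group containing a non-cyclic
abelian subgroup of order 8.
-/

namespace Cfsg.Agent.Lead.NA8

open scoped commutatorElement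

variable {G : Type*} [Group G]

/-- `[Y, K]` of order 4 not centralized by `K` is central in `Y` -/
theorem Act.comm_four_central [Finite G] {Y K : Subgroup G} (h : Act Y K)
    (h4 : Nat.card ↥⁅Y, K⁆ = 4) (hnc : ¬ ⁅Y, K⁆ ≤ Subgroup.centralizer (K : Set G)) :
    ⁅Y, K⁆ ≤ Y ⊓ Subgroup.centralizer (Y : Set G) := by
  have hp2 : Fact (Nat.Prime 2) := ⟨Nat.prime_two⟩
  set Y₁ := ⁅Y, K⁆ with hY₁
  have hY₁Y : Y₁ ≤ Y := h.comm_le
  have hKY₁ : K ≤ Subgroup.normalizer (Y₁ : Set G) := Subgroup.normalizer_commutator_ge_right Y K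
  have hYY₁ : Y ≤ Subgroup.normalizer (Y₁ : Set G) := Subgroup.normalizer_commutator_ge_left Y K
  have h₁ : Act Y₁ K := h.sub hY₁Y hKY₁
  have hY₁ne : Y₁ ≠ ⊥ := by
    intro h0; apply hnc; rw [h0]; exact bot_le
  set Zc := Y ⊓ Subgroup.centralizer (Y : Set G) with hZc
  have hKZ : K ≤ Subgroup.normalizer (Zc : Set G) :=
    le_normalizer_inf' h.norm (le_normalizer_centralizer h.norm)
  obtain ⟨x, hxY₁, hx1, hxZ⟩ := exists_mem_center_of_normal h.two hY₁Y hYY₁ hY₁ne
  rcases h₁.irred_four h4 hnc (inf_le_left : Y₁ ⊓ Zc ≤ Y₁)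
    (le_normalizer_inf' hKY₁ hKZ) with h0 | h1
  · have : x ∈ Y₁ ⊓ Zc := Subgroup.mem_inf.2 ⟨hxY₁, hxZ⟩
    rw [h0, Subgroup.mem_bot] at this
    exact absurd this hx1
  · rw [← h1]; exact inf_le_right

/-- `[Y, K]` non-abelian of order 8 is centralized by `C_Y(K)` -/
theorem Act.comm_eight_cent [Finite G] {Y K : Subgroup G} (h : Act Y K)
    (h8 : Nat.card ↥⁅Y, K⁆ = 8) (hna : ¬ ∀ a ∈ ⁅Y, K⁆, ∀ b ∈ ⁅Y, K⁆, a * b = b * a)
    (hnc : ¬ ⁅Y, K⁆ ≤ Subgroup.centralizer (K : Set G)) :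
    ⁅Y, K⁆ ≤ Subgroup.centralizer ((Y ⊓ Subgroup.centralizer (K : Set G) : Subgroup G) : Set G) := by
  have hp2 : Fact (Nat.Prime 2) := ⟨Nat.prime_two⟩
  set Y₁ := ⁅Y, K⁆ with hY₁
  have hY₁Y : Y₁ ≤ Y := h.comm_le
  have hKY₁ : K ≤ Subgroup.normalizer (Y₁ : Set G) := Subgroup.normalizer_commutator_ge_right Y K
  have hYY₁ : Y ≤ Subgroup.normalizer (Y₁ : Set G) := Subgroup.normalizer_commutator_ge_left Y K
  have h₁ : Act Y₁ K := h.sub hY₁Y hKY₁
  have hcc : ⁅Y₁, K⁆ = Y₁ := h.comm_comm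
  have hY₁ne : Y₁ ≠ ⊥ := by
    intro h0; apply hnc; rw [h0]; exact bot_le
  have hKK : K ≤ Subgroup.normalizer (K : Set G) := Subgroup.le_normalizer
  obtain ⟨hZ2, hZK, hinv⟩ := h₁.struct_eight h8 hna hnc
  set Z₁ := Y₁ ⊓ Subgroup.centralizer (Y₁ : Set G) with hZ₁
  set T := Y ⊓ Subgroup.centralizer (K : Set G) with hT
  have hTY : T ≤ Y := inf_le_left
  have hTK : T ≤ Subgroup.centralizer (K : Set G) := inf_le_right
  have hKT : K ≤ Subgroup.normalizer (T : Set G) :=
    le_normalizer_inf' h.norm (le_normalizer_centralizer hKK)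
  have hTn : T ≤ Subgroup.normalizer (Y₁ : Set G) := hTY.trans hYY₁
  have hcomT : ⁅Y₁, T⁆ ≤ Y₁ := Subgroup.le_normalizer_iff_commutator_le_left.1 hTn
  have hKc : K ≤ Subgroup.normalizer ((⁅Y₁, T⁆ : Subgroup G) : Set G) :=
    le_normalizer_commutator hKY₁ hKT
  have hYnil : Group.IsNilpotent ↥Y := h.two.isNilpotent
  have hne : ⁅Y₁, T⁆ ≠ Y₁ := by
    intro h0
    have h1 : ⁅Y₁, Y⁆ ≤ Y₁ := Subgroup.le_normalizer_iff_commutator_le_left.1 hYY₁
    have h2 : Y₁ ≤ ⁅Y₁, Y⁆ := by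
      have h3 : ⁅Y₁, T⁆ ≤ ⁅Y₁, Y⁆ := Subgroup.commutator_mono le_rfl hTY
      rwa [h0] at h3
    exact commutator_ne_self hYnil hY₁Y hY₁ne (le_antisymm h1 h2)
  have hle : ⁅Y₁, T⁆ ≤ Z₁ := hinv _ hcomT hKc hne
  exact cent_of_three_subgroups hcc hTK (hle.trans hZK)

/-- **Structure theorem.**  `X` a 2-group acted on by the odd-order group `K`, containing a
non-cyclic abelian subgroup of order 8, all of whose proper `K`-invariant subgroups contain
none. -/
theorem structure_of_minimal [Finite G] (X K : Subgroup G) (hact : Act X K)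
    (hA : ∃ A : Subgroup G, A ≤ X ∧ IsMulCommutative ↥A ∧ ¬ IsCyclic ↥A ∧ Nat.card ↥A = 8)
    (hfree : ∀ Y : Subgroup G, Y ≤ X → Y ≠ X → K ≤ Subgroup.normalizer (Y : Set G) → Free Y) :
    IsMulCommutative ↥X ∨
      (Cfsg.IsExtraspecial 2 ↥X ∧ 32 ≤ Nat.card ↥X) ∨
      (∃ (X₀ : Subgroup G) (k : ℕ), X₀ ≤ X ∧ X₀.relIndex X = 2 ∧
        Nonempty (↥X₀ ≃* QuaternionGroup (2 ^ (k + 1))) ∧
        X₀ ⊔ (X ⊓ Subgroup.centralizer (X₀ : Set G)) = X) ∨
      (Cfsg.IsSpecial 2 ↥X ∧ Nat.card ↥(Subgroup.center ↥X) = 4) := by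
  have hp2 : Fact (Nat.Prime 2) := ⟨Nat.prime_two⟩
  obtain ⟨A, hAX, a1, a2, a3⟩ := hA
  have htri : ∀ Y : Subgroup G, Y ≤ X → Y ≠ X → K ≤ Subgroup.normalizer (Y : Set G) →
      Tri K Y := fun Y hY hne hK =>
    tri_of_free K _ Y rfl (hact.sub hY hK) (hfree Y hY hne hK)
  have hAcomm : ∀ a ∈ A, ∀ b ∈ A, a * b = b * a := fun a ha b hb =>
    congrArg Subtype.val (a1.is_comm.comm ⟨a, ha⟩ ⟨b, hb⟩)
  set X₀ := ⁅X, K⁆ with hX₀
  have hX₀X : X₀ ≤ X := hact.comm_le
  have hKX₀ : K ≤ Subgroup.normalizer (X₀ : Set G) := Subgroup.normalizer_commutator_ge_right X K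
  have hXX₀ : X ≤ Subgroup.normalizer (X₀ : Set G) := Subgroup.normalizer_commutator_ge_left X K
  have h₁ : Act X₀ K := hact.sub hX₀X hKX₀
  have hKK : K ≤ Subgroup.normalizer (K : Set G) := Subgroup.le_normalizer
  by_cases hXK : X₀ = X
  · -- `[X, K] = X`
    by_cases hab : ∀ a ∈ X, ∀ b ∈ X, a * b = b * a
    · left
      exact ⟨⟨fun a b => Subtype.ext (hab a a.2 b b.2)⟩⟩
    have hsp : Cfsg.IsSpecial 2 ↥X := (hact.abelian_or_special hXK htri).resolve_left hab
    set Zc := (Subgroup.center ↥X).map X.subtype with hZc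
    have hZcX : Zc ≤ X := by rintro _ ⟨y, -, rfl⟩; exact y.2
    have hZcexp : ∀ x ∈ Zc, x * x = 1 := by
      rintro _ ⟨z, hz, rfl⟩
      have := center_sq_of_special hsp hz
      exact congrArg Subtype.val this
    have hKZc : K ≤ Subgroup.normalizer (Zc : Set G) :=
      hact.norm.trans (normalizer_le_of_char X (Subgroup.center ↥X))
    have hZcne : Zc ≠ X := by
      intro heq
      apply hab
      intro a ha b hb
      have h1 : a ∈ X ⊓ Subgroup.centralizer (X : Set G) := by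
        rw [← map_subtype_center X, ← hZc, heq]; exact ha
      exact (Subgroup.mem_centralizer_iff.1 h1.2 b hb).symm
    have hZc4 : Nat.card ↥Zc ≤ 4 :=
      card_le_four_of_exp_two hZcexp (hfree Zc hZcX hZcne hKZc)
    have hZceq : Nat.card ↥Zc = Nat.card ↥(Subgroup.center ↥X) :=
      Nat.card_congr ((Subgroup.center ↥X).equivMapOfInjective X.subtype
        X.subtype_injective).symm.toEquiv
    rw [hZceq] at hZc4
    have hXnt : Nontrivial ↥X := by
      rw [Subgroup.nontrivial_iff_ne_bot]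
      intro h0
      apply hab
      intro a ha b hb
      rw [h0, Subgroup.mem_bot] at ha hb
      rw [ha, hb]
    have hcnt : Nontrivial ↥(Subgroup.center ↥X) := hact.two.center_nontrivial
    obtain ⟨j, hj⟩ := IsPGroup.iff_card.1 (hact.two.to_subgroup (Subgroup.center ↥X))
    have hj2 : j ≤ 2 := by
      by_contra h3
      push Not at h3
      have : 2 ^ 3 ≤ 2 ^ j := Nat.pow_le_pow_right (by norm_num) h3
      omega
    have hj0 : j ≠ 0 := by
      intro h0
      rw [h0, pow_zero] at hj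
      have := (Finite.one_lt_card_iff_nontrivial (α := ↥(Subgroup.center ↥X))).2 hcnt
      omega
    interval_cases j
    · exact absurd rfl hj0
    · -- extraspecial
      right; left
      have hZ2 : Nat.card ↥(Subgroup.center ↥X) = 2 := by rw [hj]; norm_num
      refine ⟨⟨hsp, hZ2⟩, ?_⟩
      obtain ⟨m, hm⟩ := IsPGroup.iff_card.1 hact.two
      have h8 := eight_le_card_of_not_comm hact.two hab
      have hm3 : 3 ≤ m := by
        by_contra h3
        push Not at h3
        have : 2 ^ m ≤ 2 ^ 2 := Nat.pow_le_pow_right (by norm_num) (by omega)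
        omega
      have hm3' : m ≠ 3 := by
        intro h3
        apply hab
        have hAeq : A = X := Subgroup.eq_of_le_of_card_ge hAX (by rw [a3, hm, h3]; norm_num)
        rw [← hAeq]; exact hAcomm
      have hm4' : m ≠ 4 := by
        intro h4
        refine false_of_extraspecial_sixteen hsp hZ2 (by rw [hm, h4]; norm_num)
          (A.subgroupOf X) ?_ ?_
        · intro a ha b hb
          apply Subtype.ext
          exact hAcomm a.1 (Subgroup.mem_subgroupOf.1 ha) b.1 (Subgroup.mem_subgroupOf.1 hb)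
        · rw [← a3]
          exact Nat.card_congr (Subgroup.subgroupOfEquivOfLe hAX).toEquiv
      have hm5 : 5 ≤ m := by omega
      rw [hm]
      calc 32 = 2 ^ 5 := by norm_num
        _ ≤ 2 ^ m := Nat.pow_le_pow_right (by norm_num) hm5
    · -- centre of order 4
      right; right; right
      exact ⟨hsp, by rw [hj]; norm_num⟩
  · -- `[X, K] < X`
    have hA1 : X₀ ≤ Subgroup.centralizer (K : Set G) → IsMulCommutative ↥X := by
      intro h0
      have hXc : X ≤ Subgroup.centralizer (K : Set G) := hact.le_cent_of le_rfl h0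
      by_cases hAeq : A = X
      · rw [← hAeq]; exact a1
      · exfalso
        have hKA : K ≤ Subgroup.normalizer (A : Set G) :=
          le_normalizer_of_le_centralizer (hAX.trans hXc)
        exact not_free_of_na8 le_rfl a1 a2 a3 (hfree A hAX hAeq hKA)
    set T := X ⊓ Subgroup.centralizer (K : Set G) with hT
    have hTX : T ≤ X := inf_le_left
    have hTK : T ≤ Subgroup.centralizer (K : Set G) := inf_le_right
    have hKT : K ≤ Subgroup.normalizer (T : Set G) :=
      le_normalizer_inf' hact.norm (le_normalizer_centralizer hKK)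
    have hsup : X₀ ⊔ T = X := hact.sup_cent
    rcases htri X₀ hX₀X hXK hKX₀ with h0 | h4 | ⟨h8, hna⟩
    · left; exact hA1 h0
    · -- `|[X, K]| = 4`
      by_cases hX₀nc : X₀ ≤ Subgroup.centralizer (K : Set G)
      · left; exact hA1 hX₀nc
      left
      have hcen : X₀ ≤ X ⊓ Subgroup.centralizer (X : Set G) := hact.comm_four_central h4 hX₀nc
      have hexp := h₁.exp_two_of_four h4 hX₀nc
      have hinf : X₀ ⊓ T = ⊥ := by
        rcases h₁.irred_four h4 hX₀nc (inf_le_left : X₀ ⊓ T ≤ X₀)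
          (le_normalizer_inf' hKX₀ hKT) with h0 | h1
        · exact h0
        · exfalso
          apply hX₀nc
          rw [← h1]; exact inf_le_right.trans hTK
      have hTne : T ≠ ⊥ := by
        intro h0
        apply hXK
        rw [← hsup, h0, sup_bot_eq]
      obtain ⟨t₀', ht₀'⟩ := (Subgroup.ne_bot_iff_exists_ne_one).1 hTne
      obtain ⟨t₀, ht₀T, ht₀1⟩ : ∃ t₀ ∈ T, t₀ ≠ 1 :=
        ⟨t₀'.1, t₀'.2, fun h0 => ht₀' (Subtype.ext h0)⟩
      obtain ⟨m, hm⟩ := exists_pow_two_eq_one hact.two (hTX ht₀T)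
      obtain ⟨k, hk1, hk2⟩ := exists_pow_not_mem (⊥ : Subgroup G)
        (by rw [Subgroup.mem_bot]; exact ht₀1) hm
      obtain ⟨t, ht⟩ : ∃ t : G, t = t₀ ^ (2 ^ k) := ⟨_, rfl⟩
      rw [← ht] at hk1 hk2
      rw [Subgroup.mem_bot] at hk1 hk2
      have htT : t ∈ T := by rw [ht]; exact T.pow_mem ht₀T _
      have htX₀ : t ∉ X₀ := by
        intro hmem
        have : t ∈ X₀ ⊓ T := Subgroup.mem_inf.2 ⟨hmem, htT⟩
        rw [hinf, Subgroup.mem_bot] at this
        exact hk1 this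
      have htcomm : ∀ v ∈ X₀, t * v = v * t := fun v hv =>
        Subgroup.mem_centralizer_iff.1 (hcen hv).2 t (hTX htT)
      have ht4 : t ^ 4 = 1 := by
        rw [show (4 : ℕ) = 2 + 2 from rfl, pow_add, pow_two, hk2, one_mul]
      obtain ⟨A', hA', b1, b2, b3⟩ := exists_na8 X₀ h4 htX₀ htcomm
        (by rw [hk2]; exact X₀.one_mem) ht4
      have htK : Subgroup.zpowers t ≤ Subgroup.centralizer (K : Set G) := by
        rw [Subgroup.zpowers_le]; exact hTK htT
      have hA'X : A' ≤ X := by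
        rw [hA']
        exact sup_le hX₀X (by rw [Subgroup.zpowers_le]; exact hTX htT)
      have hKA' : K ≤ Subgroup.normalizer (A' : Set G) := by
        rw [hA']
        exact le_normalizer_sup' hKX₀ (le_normalizer_of_le_centralizer htK)
      by_cases hA'eq : A' = X
      · rw [← hA'eq]; exact b1
      · exfalso
        exact not_free_of_na8 le_rfl b1 b2 b3 (hfree A' hA'X hA'eq hKA')
    · -- `[X, K]` non-abelian of order 8
      by_cases hX₀nc : X₀ ≤ Subgroup.centralizer (K : Set G)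
      · left; exact hA1 hX₀nc
      right; right; left
      have hcent : X₀ ≤ Subgroup.centralizer (T : Set G) := hact.comm_eight_cent h8 hna hX₀nc
      obtain ⟨hZ2, hZK, hinv⟩ := h₁.struct_eight h8 hna hX₀nc
      set Z₁ := X₀ ⊓ Subgroup.centralizer (X₀ : Set G) with hZ₁
      have hZ₁X₀ : Z₁ ≤ X₀ := inf_le_left
      have hZ₁T : Z₁ ≤ T := le_inf (hZ₁X₀.trans hX₀X) hZK
      have hX₀T : X₀ ⊓ T = Z₁ := by
        apply le_antisymm
        · apply hinv _ inf_le_left (le_normalizer_inf' hKX₀ hKT)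
          intro heq
          apply hX₀nc
          rw [← heq]; exact inf_le_right.trans hTK
        · exact le_inf hZ₁X₀ hZ₁T
      have hclaim : ∀ Y' : Subgroup G, X₀ ≤ Y' → Y' ≤ X → Y' ≠ X →
          K ≤ Subgroup.normalizer (Y' : Set G) → Y' = X₀ := by
        intro Y' h1 h2 h3 h4
        rcases htri Y' h2 h3 h4 with c0 | c4 | ⟨c8, -⟩
        · exact absurd (h1.trans c0) hX₀nc
        · have := Subgroup.card_le_of_le h1
          omega
        · exact (Subgroup.eq_of_le_of_card_ge h1 (by rw [h8, c8])).symm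
      obtain ⟨t₀, ht₀T, ht₀Z⟩ : ∃ t₀ ∈ T, t₀ ∉ Z₁ := by
        by_contra hno
        push Not at hno
        have hTZ : T ≤ Z₁ := fun y hy => hno y hy
        apply hXK
        rw [← hsup]
        exact (sup_eq_left.2 (hTZ.trans hZ₁X₀)).symm
      obtain ⟨m, hm⟩ := exists_pow_two_eq_one hact.two (hTX ht₀T)
      obtain ⟨k, hk1, hk2⟩ := exists_pow_not_mem Z₁ ht₀Z hm
      obtain ⟨t, ht⟩ : ∃ t : G, t = t₀ ^ (2 ^ k) := ⟨_, rfl⟩
      rw [← ht] at hk1 hk2
      have htT : t ∈ T := by rw [ht]; exact T.pow_mem ht₀T _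
      have htn : t ∈ Subgroup.normalizer (Z₁ : Set G) :=
        mem_normalizer_of_comm (fun w hw =>
          Subgroup.mem_centralizer_iff.1 (hcent (hZ₁X₀ hw)) t htT)
      set T₁ := Z₁ ⊔ Subgroup.zpowers t with hT₁
      have hT₁card : Nat.card ↥T₁ = 4 := by
        rw [hT₁, card_sup_zpowers Z₁ htn hk1 hk2, hZ2]
      have hT₁T : T₁ ≤ T := sup_le hZ₁T (by rw [Subgroup.zpowers_le]; exact htT)
      have hKT₁ : K ≤ Subgroup.normalizer (T₁ : Set G) :=
        le_normalizer_of_le_centralizer (hT₁T.trans hTK)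
      have htT₁ : t ∈ T₁ :=
        (le_sup_right : Subgroup.zpowers t ≤ T₁) (Subgroup.mem_zpowers t)
      have hY'eq : X₀ ⊔ T₁ = X := by
        by_contra hne
        have h1 := hclaim (X₀ ⊔ T₁) le_sup_left (sup_le hX₀X (hT₁T.trans hTX)) hne
          (le_normalizer_sup' hKX₀ hKT₁)
        have h2 : t ∈ X₀ := by
          rw [← h1]; exact (le_sup_right : T₁ ≤ X₀ ⊔ T₁) htT₁
        have h3 : t ∈ X₀ ⊓ T := Subgroup.mem_inf.2 ⟨h2, htT⟩
        rw [hX₀T] at h3
        exact hk1 h3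
      have hX₀T₁ : X₀ ⊓ T₁ = Z₁ := by
        apply le_antisymm
        · rw [← hX₀T]; exact inf_le_inf_left X₀ hT₁T
        · exact le_inf hZ₁X₀ le_sup_left
      have hT₁n : T₁ ≤ Subgroup.normalizer (X₀ : Set G) := (hT₁T.trans hTX).trans hXX₀
      have hcard := Cfsg.Agent.Helper1.card_sup_mul_card_inf (N := X₀) (A := T₁) hT₁n
      rw [hY'eq, hX₀T₁, hZ2, h8, hT₁card] at hcard
      have hX16 : Nat.card ↥X = 16 := by omega
      have hrel : X₀.relIndex X = 2 := by
        have := Cfsg.Agent.Helper1.relIndex_mul_card_of_le hX₀X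
        rw [h8, hX16] at this
        omega
      obtain ⟨z, hzR, hz1, hz⟩ := h₁.unique_involution h8 hna hX₀nc
      have hquat := quaternion_of_unique_involution h8 hna hzR hz1 hz
      refine ⟨X₀, 0, hX₀X, hrel, ?_, ?_⟩
      · have e : (2 : ℕ) ^ (0 + 1) = 2 := by norm_num
        rw [e]; exact hquat
      · apply le_antisymm
        · exact sup_le hX₀X inf_le_left
        · calc X = X₀ ⊔ T := hsup.symm
            _ ≤ X₀ ⊔ (X ⊓ Subgroup.centralizer (X₀ : Set G)) :=
              sup_le_sup_left (le_inf hTX (Subgroup.le_centralizer_iff.1 hcent)) X₀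

/-- a Hall 2'-subgroup of a solvable group -/
theorem exists_odd_complement (S : Type*) [Group S] [Finite S] [Group.IsSolvable S] :
    ∃ (K : Subgroup S) (a : ℕ), K.index = 2 ^ a ∧ Odd (Nat.card ↥K) := by
  obtain ⟨K, hK⟩ := Cfsg.Agent.Helper1.exists_pcomplement S 2 Nat.prime_two
  have hK' : K.index = 2 ^ (Nat.card S).factorization 2 := hK
  refine ⟨K, (Nat.card S).factorization 2, hK', ?_⟩
  have h1 := K.card_mul_index
  rw [hK'] at h1
  have hN : Nat.card S ≠ 0 := Nat.card_pos.ne'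
  have h2 : Nat.card ↥K = Nat.card S / 2 ^ (Nat.card S).factorization 2 := by
    exact (Nat.div_eq_of_eq_mul_left (pow_pos (by norm_num : 0 < 2) _) h1.symm).symm
  rw [h2, ← Nat.coprime_two_left]
  exact Nat.coprime_ordCompl Nat.prime_two hN

/-- Step 1: the 2-core together with a Hall 2'-subgroup is the whole group -/
theorem core_sup_eq_top {S : Type*} [Group S] [Finite S] [Group.IsSolvable S]
    (hO : Cfsg.pPrimeCore 2 S = ⊥)
    (h8 : ∃ A : Subgroup S, IsMulCommutative ↥A ∧ ¬ IsCyclic ↥A ∧ Nat.card ↥A = 8)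
    (hmin : ∀ R : Subgroup S, R ≠ ⊤ → (∃ k : ℕ, R.index = 2 ^ k) → Free R)
    {K : Subgroup S} (hKodd : Odd (Nat.card ↥K)) {a : ℕ} (hKidx : K.index = 2 ^ a) :
    Cfsg.pCore 2 S ⊔ K = ⊤ := by
  have hp2 : Fact (Nat.Prime 2) := ⟨Nat.prime_two⟩
  set R := Cfsg.pCore 2 S with hR
  have hRn : R.Normal := inferInstance
  have hR2 : IsPGroup 2 ↥R := Cfsg.Agent.Helper5.isPGroup_pCore 2
  have hPS : Cfsg.IsPSolvable 2 S :=
    Cfsg.Agent.Helper4.SolvPSolv.isPSolvable_of_isSolvable 2 inferInstance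
  have hCR : Subgroup.centralizer (R : Set S) ≤ R :=
    Cfsg.Agent.Helper4.centralizer_pCore_le_of_isPSolvable hPS hO
  have hKR : K ≤ Subgroup.normalizer (R : Set S) := by
    rw [Subgroup.normalizer_eq_top]; exact le_top
  have hact : Act R K := ⟨hR2, hKodd, hKR⟩
  by_contra hne
  have hLidx : ∃ k : ℕ, (R ⊔ K).index = 2 ^ k := by
    have hdvd : (R ⊔ K).index ∣ K.index := Subgroup.index_dvd_of_le le_sup_right
    rw [hKidx] at hdvd
    obtain ⟨k, -, hk⟩ := (Nat.dvd_prime_pow Nat.prime_two).1 hdvd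
    exact ⟨k, hk⟩
  have hfreeR : Free R := (hmin _ hne hLidx).mono le_sup_left
  obtain ⟨A, hA1, hA2, hA3⟩ := h8
  have hAcomm : ∀ a ∈ A, ∀ b ∈ A, a * b = b * a := fun a ha b hb =>
    congrArg Subtype.val (hA1.is_comm.comm ⟨a, ha⟩ ⟨b, hb⟩)
  have hcentK : R ≤ Subgroup.centralizer (K : Set S) → False := by
    intro hc
    have hKR' : K ≤ R := (Subgroup.le_centralizer_iff.1 hc).trans hCR
    have hK2 : IsPGroup 2 ↥K := hR2.to_le hKR'
    obtain ⟨n, hn⟩ := IsPGroup.iff_card.1 hK2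
    have hn0 : n = 0 := by
      by_contra h0
      have : Even (Nat.card ↥K) := by rw [hn]; exact (Nat.even_pow.2 ⟨even_two, h0⟩)
      exact (Nat.not_even_iff_odd.2 hKodd) this
    rw [hn0, pow_zero] at hn
    have hKbot : K = ⊥ := Subgroup.eq_bot_of_card_eq K hn
    rw [hKbot, Subgroup.index_bot] at hKidx
    have hS2 : IsPGroup 2 S := IsPGroup.of_card hKidx
    have hRtop : R = ⊤ := by
      rw [eq_top_iff]
      exact Cfsg.Agent.Helper5.le_pCore (inferInstance : (⊤ : Subgroup S).Normal)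
        (hS2.to_subgroup ⊤)
    apply hne
    rw [hRtop, top_sup_eq]
  rcases tri_of_free K _ R rfl hact hfreeR with hc | h4 | ⟨h8', hna⟩
  · exact hcentK hc
  · exact false_of_self_centralizing_four R hRn hCR h4 A hAcomm hA3
  · by_cases hc : R ≤ Subgroup.centralizer (K : Set S)
    · exact hcentK hc
    · obtain ⟨z, hzR, hz1, hz⟩ := hact.unique_involution h8' hna hc
      exact hA2 (isCyclic_of_self_centralizing_quat R hRn hCR h8' hna hz1 hz A hAcomm hA3)

/-- the main theorem -/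
theorem na8_main {S : Type*} [Group S] [Finite S] [Group.IsSolvable S]
    (hO : Cfsg.pPrimeCore 2 S = ⊥)
    (h8 : ∃ A : Subgroup S, IsMulCommutative ↥A ∧ ¬ IsCyclic ↥A ∧ Nat.card ↥A = 8)
    (hmin : ∀ R : Subgroup S, R ≠ ⊤ → (∃ k : ℕ, R.index = 2 ^ k) →
      ¬ ∃ A : Subgroup S, A ≤ R ∧ IsMulCommutative ↥A ∧ ¬ IsCyclic ↥A ∧ Nat.card ↥A = 8)
    (X : Sylow 2 S) :
    (X : Subgroup S).Normal ∧
      (IsMulCommutative ↥(X : Subgroup S) ∨
        (Cfsg.IsExtraspecial 2 ↥(X : Subgroup S) ∧ 32 ≤ Nat.card ↥(X : Subgroup S)) ∨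
        (∃ (X₀ : Subgroup S) (k : ℕ), X₀ ≤ (X : Subgroup S) ∧
          X₀.relIndex (X : Subgroup S) = 2 ∧
          Nonempty (↥X₀ ≃* QuaternionGroup (2 ^ (k + 1))) ∧
          X₀ ⊔ ((X : Subgroup S) ⊓ Subgroup.centralizer (X₀ : Set S)) = (X : Subgroup S)) ∨
        (Cfsg.IsSpecial 2 ↥(X : Subgroup S) ∧
          Nat.card ↥(Subgroup.center ↥(X : Subgroup S)) = 4)) := by
  have hp2 : Fact (Nat.Prime 2) := ⟨Nat.prime_two⟩
  have hmin' : ∀ R : Subgroup S, R ≠ ⊤ → (∃ k : ℕ, R.index = 2 ^ k) → Free R := hmin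
  obtain ⟨K, a, hKidx, hKodd⟩ := exists_odd_complement S
  have hsup := core_sup_eq_top hO h8 hmin' hKodd hKidx
  set R := Cfsg.pCore 2 S with hR
  have hRn : R.Normal := inferInstance
  have hR2 : IsPGroup 2 ↥R := Cfsg.Agent.Helper5.isPGroup_pCore 2
  have hRX : R ≤ (X : Subgroup S) := Cfsg.Agent.Helper5.pCore_le_sylow X
  have hKR : K ≤ Subgroup.normalizer (R : Set S) := by
    rw [Subgroup.normalizer_eq_top]; exact le_top
  have hcopRK : (Nat.card ↥R).Coprime (Nat.card ↥K) := by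
    obtain ⟨n, hn⟩ := IsPGroup.iff_card.1 hR2
    rw [hn]
    exact (Nat.coprime_two_left.2 hKodd).pow_left n
  have hinfRK : R ⊓ K = ⊥ := (Subgroup.disjoint_of_coprime_natCard hcopRK).eq_bot
  have hcard := Cfsg.Agent.Helper1.card_sup_mul_card_inf (N := R) (A := K) hKR
  rw [hsup, hinfRK, Subgroup.card_top, Subgroup.card_bot, mul_one] at hcard
  have hXR : (X : Subgroup S) = R := by
    symm
    apply Subgroup.eq_of_le_of_card_ge hRX
    have hXdvd : Nat.card ↥(X : Subgroup S) ∣ Nat.card ↥R * Nat.card ↥K :=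
      hcard ▸ Subgroup.card_subgroup_dvd_card _
    obtain ⟨n, hn⟩ := IsPGroup.iff_card.1 X.isPGroup'
    have hcop : (Nat.card ↥(X : Subgroup S)).Coprime (Nat.card ↥K) := by
      rw [hn]
      exact (Nat.coprime_two_left.2 hKodd).pow_left n
    exact Nat.le_of_dvd Nat.card_pos (hcop.dvd_of_dvd_mul_right hXdvd)
  have hXn : (X : Subgroup S).Normal := by rw [hXR]; exact hRn
  refine ⟨hXn, ?_⟩
  have hKX : K ≤ Subgroup.normalizer ((X : Subgroup S) : Set S) := by
    rw [Subgroup.normalizer_eq_top]; exact le_top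
  have hactX : Act (X : Subgroup S) K := ⟨X.isPGroup', hKodd, hKX⟩
  have hcardS : Nat.card S = Nat.card ↥(X : Subgroup S) * Nat.card ↥K := by
    rw [hXR]; exact hcard
  apply structure_of_minimal (X : Subgroup S) K hactX
  · obtain ⟨A, hA1, hA2, hA3⟩ := h8
    refine ⟨A, ?_, hA1, hA2, hA3⟩
    have hA2g : IsPGroup 2 ↥A := IsPGroup.of_card (n := 3) (by rw [hA3]; norm_num)
    obtain ⟨Q, hQ⟩ := hA2g.exists_le_sylow
    have := Sylow.unique_of_normal X hXn
    have hQX : Q = X := Subsingleton.elim Q X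
    rw [← hQX]; exact hQ
  · intro Y hYX hne hKY
    apply (hmin' (Y ⊔ K) ?_ ?_).mono le_sup_left
    · intro htop
      have h1 := Cfsg.Agent.Helper1.card_sup_mul_card_inf (N := Y) (A := K) hKY
      rw [htop, Subgroup.card_top, hcardS] at h1
      have hlt : Nat.card ↥Y < Nat.card ↥(X : Subgroup S) :=
        Cfsg.Agent.Helper1.card_lt_card_of_lt (lt_of_le_of_ne hYX hne)
      have hKpos : 0 < Nat.card ↥K := Nat.card_pos
      have h2 : Nat.card ↥Y * Nat.card ↥K < Nat.card ↥(X : Subgroup S) * Nat.card ↥K :=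
        Nat.mul_lt_mul_of_pos_right hlt hKpos
      have h3 : Nat.card ↥(X : Subgroup S) * Nat.card ↥K ≤
          Nat.card ↥(X : Subgroup S) * Nat.card ↥K * Nat.card ↥(Y ⊓ K : Subgroup S) :=
        Nat.le_mul_of_pos_right _ Nat.card_pos
      omega
    · have hdvd : (Y ⊔ K).index ∣ K.index := Subgroup.index_dvd_of_le le_sup_right
      rw [hKidx] at hdvd
      obtain ⟨k, -, hk⟩ := (Nat.dvd_prime_pow Nat.prime_two).1 hdvd
      exact ⟨k, hk⟩

end Cfsg.Agent.Lead.NA8
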