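import Mathlib
import Cfsg.Prelude.Def_CaseTheorems
import Cfsg.Agent.Lead.NacTwo
import Cfsg.Agent.Helper1.Nilp
import Cfsg.Agent.Helper2.DihedralIso

set_option autoImplicit false

namespace Cfsg.Agent.Lead.NAC

variable {P : Type*} [Group P] [Finite P] {a z : P} {n : ℕ}

theorem Ctx.centralizer_le (h : Ctx 2 a z n) {a₂ : P} (ha₂ : a₂ ∈ Subgroup.zpowers a)
    (ho : orderOf a₂ = 4) (x : P) (hx : x * a₂ = a₂ * x) : x ∈ Subgroup.zpowers a := by
  obtain ⟨K, hKdef⟩ : ∃ K : Subgroup P, K = Subgroup.centralizer ({a₂} : Set P) := ⟨_, rfl⟩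
  have hmemK : ∀ g : P, g ∈ K ↔ g * a₂ = a₂ * g := by
    intro g; rw [hKdef, Subgroup.mem_centralizer_singleton_iff]
  have haK : a ∈ K := by
    rw [hmemK]
    obtain ⟨i, rfl⟩ := Subgroup.mem_zpowers_iff.1 ha₂
    exact ((Commute.refl a).zpow_right i).eq
  have hzK : z ∈ K := (hmemK z).2 (h.z_cent a₂).symm
  have ha₂K : a₂ ∈ K := (hmemK a₂).2 rfl
  have hxK : x ∈ K := (hmemK x).2 hx
  have hKp : IsPGroup 2 K := h.isP.to_subgroup K
  have hzo : orderOf (⟨z, hzK⟩ : K) = 2 := by
    rw [← Subgroup.orderOf_coe]; exact h.z_ord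
  have hall : ∀ y : K, y ^ 2 = 1 → y ∈ Subgroup.zpowers (⟨z, hzK⟩ : K) := by
    intro y hy
    have hy2 : (y : P) ^ 2 = 1 := by
      have := congrArg Subtype.val hy
      simpa using this
    have hyA : (y : P) ∈ Subgroup.zpowers a := by
      by_contra hyA
      exact h.K_case hyA (by rw [← pow_two]; exact hy2) ha₂ ho ((hmemK y).1 y.2)
    have hyz := h.omega hyA hy2
    obtain ⟨i, hi⟩ := Subgroup.mem_zpowers_iff.1 hyz
    rw [Subgroup.mem_zpowers_iff]
    refine ⟨i, Subtype.ext ?_⟩
    rw [Subgroup.coe_zpow]; exact hi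
  have hKcomm : ∀ u v : K, u * v = v * u := by
    rcases Cfsg.Agent.S0016.result 2 hKp (unique_of_forall _ hzo hall) with hcyc | ⟨-, m, ⟨e⟩⟩
    · intro u v
      exact (IsCyclic.isMulCommutative (α := K)).is_comm.comm u v
    · have hq := quaternion_comm_of_central (e ⟨a₂, ha₂K⟩) (by
        intro r
        obtain ⟨k, rfl⟩ := e.surjective r
        rw [← map_mul, ← map_mul]
        congr 1
        apply Subtype.ext
        exact ((hmemK k).1 k.2).symm) (by
        intro h1
        rw [← map_mul] at h1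
        have h2 : (⟨a₂, ha₂K⟩ : K) * ⟨a₂, ha₂K⟩ = 1 := by
          apply e.injective; rw [h1, map_one]
        have h3 : a₂ * a₂ = 1 := congrArg Subtype.val h2
        have : orderOf a₂ ∣ 2 := orderOf_dvd_of_pow_eq_one (by rw [pow_two]; exact h3)
        rw [ho] at this; omega)
      intro u v
      apply e.injective
      rw [map_mul, map_mul]
      exact hq _ _
  apply h.cent
  have := hKcomm ⟨x, hxK⟩ ⟨a, haK⟩
  exact congrArg Subtype.val this

theorem Ctx.mem_z_two (h : Ctx 2 a z n) {w : P} (hw : w ∈ Subgroup.zpowers z) : w = 1 ∨ w = z := by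
  have hfin : IsOfFinOrder z := isOfFinOrder_of_finite z
  rw [← hfin.mem_powers_iff_mem_zpowers, Submonoid.mem_powers_iff] at hw
  obtain ⟨k, rfl⟩ := hw
  rw [← pow_mod_orderOf, h.z_ord]
  rcases Nat.mod_two_eq_zero_or_one k with h0 | h1
  · left; rw [h0, pow_zero]
  · right; rw [h1, pow_one]

theorem Ctx.z_eq (h : Ctx 2 a z n) (hn : 1 ≤ n) : z = a ^ (2 ^ (n - 1)) := by
  have hA : a ^ (2 ^ (n - 1)) ∈ Subgroup.zpowers a := Subgroup.pow_mem _ (Subgroup.mem_zpowers a) _
  have h2 : (a ^ (2 ^ (n - 1))) ^ 2 = 1 := by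
    rw [← pow_mul, ← pow_succ, ← orderOf_dvd_iff_pow_eq_one, h.ord_a]
    have : n - 1 + 1 = n := by omega
    rw [this]
  rcases h.mem_z_two (h.omega hA h2) with h1 | h1
  · exfalso
    rw [← orderOf_dvd_iff_pow_eq_one, h.ord_a] at h1
    have h3 := Nat.le_of_dvd (by positivity) h1
    have h4 : 2 ^ (n - 1) < 2 ^ n := Nat.pow_lt_pow_right (by norm_num) (by omega)
    omega
  · exact h1.symm

/-- the `p = 2` case with an involution outside `⟨a⟩` -/
theorem Ctx.two_main (h : Ctx 2 a z n) (hn2 : 2 ≤ n) {y : P} (hy : y ∉ Subgroup.zpowers a)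
    (hyy : y * y = 1) :
    (∃ k : ℕ, 8 ≤ k ∧ Nonempty (P ≃* DihedralGroup k)) ∨ Cfsg.IsQuasiDihedral P := by
  obtain ⟨a₂, ha₂def⟩ : ∃ a₂, a₂ = a ^ (2 ^ (n - 2)) := ⟨_, rfl⟩
  have ha₂ : a₂ ∈ Subgroup.zpowers a := by
    rw [ha₂def]; exact Subgroup.pow_mem _ (Subgroup.mem_zpowers a) _
  have ho : orderOf a₂ = 4 := by
    have hd : 2 ^ (n - 2) ∣ orderOf a := by
      rw [h.ord_a]; exact pow_dvd_pow 2 (by omega)
    rw [ha₂def, orderOf_pow_of_dvd (by positivity) hd, h.ord_a,
      Nat.pow_div (by omega) (by norm_num)]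
    have : n - (n - 2) = 2 := by omega
    rw [this]
  have hnc : y * a₂ ≠ a₂ * y := fun hc => h.K_case hy hyy ha₂ ho hc
  obtain ⟨hyinv, hw⟩ := h.D_case hyy ha₂ ho hnc
  have hyinv' : y⁻¹ = y := inv_eq_of_mul_eq_one_left hyy
  have hy1 : y ≠ 1 := by
    intro h1; apply hy; rw [h1]; exact Subgroup.one_mem _
  have hcover : ∀ g : P, g ∈ Subgroup.zpowers a ∨ g * y ∈ Subgroup.zpowers a := by
    intro g
    rcases h.conj_order_four ha₂ ho g with h1 | h1
    · left; apply h.centralizer_le ha₂ ho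
      calc g * a₂ = (g * a₂ * g⁻¹) * g := by group
        _ = a₂ * g := by rw [h1]
    · right; apply h.centralizer_le ha₂ ho
      have h2 : y * a₂ = a₂⁻¹ * y := by
        calc y * a₂ = (y * a₂ * y⁻¹) * y := by group
          _ = a₂⁻¹ * y := by rw [hyinv]
      have h3 : g * a₂⁻¹ = a₂ * g := by
        have h4 : g * a₂⁻¹ * g⁻¹ = (g * a₂ * g⁻¹)⁻¹ := by group
        calc g * a₂⁻¹ = (g * a₂⁻¹ * g⁻¹) * g := by group
          _ = a₂ * g := by rw [h4, h1, inv_inv]
      calc g * y * a₂ = g * (y * a₂) := by group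
        _ = g * (a₂⁻¹ * y) := by rw [h2]
        _ = (g * a₂⁻¹) * y := by group
        _ = a₂ * g * y := by rw [h3]
        _ = a₂ * (g * y) := by group
  have hidx : (Subgroup.zpowers a).index = 2 := by
    rw [Subgroup.index_eq_two_iff]
    refine ⟨y, fun b => ?_⟩
    by_cases hb : b ∈ Subgroup.zpowers a
    · right
      refine ⟨hb, fun hby => hy ?_⟩
      have : y = b⁻¹ * (b * y) := by group
      rw [this]
      exact Subgroup.mul_mem _ (Subgroup.inv_mem _ hb) hby
    · left
      exact ⟨(hcover b).resolve_left hb, hb⟩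
  have hcard : Nat.card P = 2 ^ (n + 1) := by
    rw [← (Subgroup.zpowers a).index_mul_card, hidx, Nat.card_zpowers, h.ord_a, pow_succ, mul_comm]
  have hyo : orderOf y = 2 := orderOf_eq_prime (by rw [pow_two]; exact hyy) hy1
  rcases h.mem_z_two hw with hw1 | hwz
  · -- dihedral
    have hya : y * a * y⁻¹ = a⁻¹ := eq_inv_of_mul_eq_one_left hw1
    by_cases hn3 : 3 ≤ n
    · left
      refine ⟨2 ^ n, ?_, ?_⟩
      · calc 8 = 2 ^ 3 := by norm_num
          _ ≤ 2 ^ n := Nat.pow_le_pow_right (by norm_num) hn3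
      · have hx : (a * y) * (a * y) = 1 := by
          calc (a * y) * (a * y) = a * (y * a * y⁻¹) * (y * y) := by group
            _ = 1 := by rw [hya, hyy]; group
        have hx1 : a * y ≠ 1 := by
          intro h1
          apply hy
          have : y = a⁻¹ := eq_inv_of_mul_eq_one_right h1
          rw [this]; exact Subgroup.inv_mem _ (Subgroup.mem_zpowers a)
        have e := Cfsg.Agent.Helper2.closure_pair_invol_equiv_dihedral hx hyy hx1 hy1
        have hxy : a * y * y = a := by rw [mul_assoc, hyy, mul_one]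
        rw [hxy, h.ord_a] at e
        obtain ⟨e⟩ := e
        have htop : Subgroup.closure ({a * y, y} : Set P) = ⊤ := by
          rw [eq_top_iff]
          intro g _
          have hyC : y ∈ Subgroup.closure ({a * y, y} : Set P) := Subgroup.subset_closure (by simp)
          have haC : a ∈ Subgroup.closure ({a * y, y} : Set P) := by
            have h1 : a * y ∈ Subgroup.closure ({a * y, y} : Set P) :=
              Subgroup.subset_closure (by simp)
            have h2 := Subgroup.mul_mem _ h1 hyC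
            rwa [hxy] at h2
          have hAC : Subgroup.zpowers a ≤ Subgroup.closure ({a * y, y} : Set P) := by
            rw [Subgroup.zpowers_le]; exact haC
          rcases hcover g with hg | hg
          · exact hAC hg
          · have : g = (g * y) * y⁻¹ := by group
            rw [this]
            exact Subgroup.mul_mem _ (hAC hg) (Subgroup.inv_mem _ hyC)
        exact ⟨(Subgroup.topEquiv.symm.trans (MulEquiv.subgroupCongr htop.symm)).trans e⟩
    · exfalso
      have hn : n = 2 := by omega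
      have ha4 : (a ^ 2) ^ 2 = 1 := by
        rw [← pow_mul, ← orderOf_dvd_iff_pow_eq_one, h.ord_a, hn]; norm_num
      have ha2z : a ^ 2 ∈ Subgroup.zpowers z :=
        h.omega (Subgroup.pow_mem _ (Subgroup.mem_zpowers a) _) ha4
      have aux : ∀ g₀ ∈ Subgroup.zpowers a, g₀ * y * g₀⁻¹ * y⁻¹ ∈ Subgroup.zpowers z := by
        intro g₀ hg₀
        have hfin : IsOfFinOrder a := isOfFinOrder_of_finite a
        rw [← hfin.mem_powers_iff_mem_zpowers, Submonoid.mem_powers_iff] at hg₀
        obtain ⟨i, rfl⟩ := hg₀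
        have h1 : y * a ^ i * y⁻¹ = (a ^ i)⁻¹ := by
          rw [← conj_pow, hya, inv_pow]
        have h2 : a ^ i * y * (a ^ i)⁻¹ * y⁻¹ = a ^ i * (y * a ^ i * y⁻¹)⁻¹ := by group
        rw [h2, h1, inv_inv, ← pow_add, ← two_mul, pow_mul]
        exact Subgroup.pow_mem _ ha2z i
      apply h.no_normal hy (by rw [pow_two]; exact hyy)
      intro g
      rcases hcover g with hg | hg
      · exact aux g hg
      · have := aux (g * y) hg
        have e : g * y * y * (g * y)⁻¹ * y⁻¹ = g * y * g⁻¹ * y⁻¹ := by group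
        rwa [e] at this
  · -- quasi-dihedral
    right
    have hzeq := h.z_eq (by omega : 1 ≤ n)
    have hrel : y * a * y⁻¹ = a ^ (2 ^ (n - 1) - 1) := by
      have h1 : y * a * y⁻¹ = z * a⁻¹ := by rw [← hwz]; group
      rw [h1, hzeq]
      have hpos : 1 ≤ 2 ^ (n - 1) := Nat.one_le_pow _ _ (by norm_num)
      have h2 : a ^ (2 ^ (n - 1)) = a ^ (2 ^ (n - 1) - 1) * a := by
        rw [← pow_succ]; congr 1; omega
      rw [h2]; group
    have hn3 : 3 ≤ n := by
      by_contra hn3
      have hn : n = 2 := by omega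
      rw [hn] at hrel
      norm_num at hrel
      apply hy; apply h.cent
      calc y * a = (y * a * y⁻¹) * y := by group
        _ = a * y := by rw [hrel]
    exact ⟨n, hn3, hcard, a, y, h.ord_a, hyo, hrel⟩

end Cfsg.Agent.Lead.NAC
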