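import Mathlib
import Cfsg.Prelude.Def_CaseTheorems
import Cfsg.Agent.Lead.NacMain

set_option autoImplicit false

namespace Cfsg.Agent.Lead.NAC

theorem main {P : Type*} [Group P] [Finite P] (p : ℕ) [hp : Fact p.Prime]
    (hP : IsPGroup p P) (hn : ∀ A : Subgroup P, A.Normal → IsMulCommutative A → IsCyclic A)
    (hm : ∃ B : Subgroup P, IsMulCommutative B ∧ ¬ IsCyclic B) :
    p = 2 ∧ ((∃ n : ℕ, Nonempty (P ≃* QuaternionGroup n)) ∨
      (∃ n : ℕ, 8 ≤ n ∧ Nonempty (P ≃* DihedralGroup n)) ∨ Cfsg.IsQuasiDihedral P) := by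
  have hnc : ¬ IsCyclic P := by
    obtain ⟨B, -, hBn⟩ := hm
    intro hc
    exact hBn inferInstance
  have hnil : Group.IsNilpotent P := hP.isNilpotent
  -- a maximal normal abelian subgroup
  let 𝒜 : Set (Subgroup P) := {A | A.Normal ∧ IsMulCommutative A}
  have hbot : (⊥ : Subgroup P) ∈ 𝒜 := ⟨inferInstance, inferInstance⟩
  obtain ⟨A, -, hAmax⟩ := (Set.toFinite 𝒜).exists_le_maximal hbot
  obtain ⟨hAn, hAc⟩ : A ∈ 𝒜 := hAmax.prop
  have hCA : Subgroup.centralizer (A : Set P) = A := by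
    apply Cfsg.Agent.Helper1.centralizer_eq_of_maximal_abelian_normal A
    intro M hMn hMc hAM
    exact le_antisymm (hAmax.2 ⟨hMn, hMc⟩ hAM) hAM
  have hAcyc : IsCyclic A := hn A hAn hAc
  obtain ⟨a₀, ha₀⟩ := IsCyclic.exists_generator (α := A)
  obtain ⟨a, hadef⟩ : ∃ a : P, a = (a₀ : P) := ⟨_, rfl⟩
  have hAeq : A = Subgroup.zpowers a := by
    apply le_antisymm
    · intro x hx
      obtain ⟨i, hi⟩ := Subgroup.mem_zpowers_iff.1 (ha₀ ⟨x, hx⟩)
      rw [Subgroup.mem_zpowers_iff]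
      refine ⟨i, ?_⟩
      have := congrArg Subtype.val hi
      rw [Subgroup.coe_zpow] at this
      rw [hadef]; exact this
    · rw [Subgroup.zpowers_le, hadef]; exact a₀.2
  -- order of a
  obtain ⟨n, hord⟩ : ∃ n, orderOf a = p ^ n := by
    obtain ⟨k, hk⟩ := hP a
    have hd : orderOf a ∣ p ^ k := orderOf_dvd_of_pow_eq_one hk
    obtain ⟨m, -, hm⟩ := (Nat.dvd_prime_pow hp.out).1 hd
    exact ⟨m, hm⟩
  -- a central element of order p
  have hnt : Nontrivial P := Nontrivial.of_not_isCyclic hnc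
  have hcn : Nontrivial (Subgroup.center P) := hP.center_nontrivial
  have hcp : IsPGroup p (Subgroup.center P) := hP.to_subgroup _
  obtain ⟨k, hk⟩ := IsPGroup.iff_card.1 hcp
  have hk0 : k ≠ 0 := by
    rintro rfl
    rw [pow_zero] at hk
    have := (Finite.one_lt_card_iff_nontrivial (α := Subgroup.center P)).2 hcn
    omega
  have hdvd : p ∣ Nat.card (Subgroup.center P) := by
    rw [hk]; exact dvd_pow_self p hk0
  obtain ⟨z₀, hz₀⟩ := exists_prime_orderOf_dvd_card' p hdvd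
  obtain ⟨z, hzdef⟩ : ∃ z : P, z = (z₀ : P) := ⟨_, rfl⟩
  have hzo : orderOf z = p := by
    rw [hzdef, Subgroup.orderOf_coe]; exact hz₀
  have hzc : ∀ g : P, g * z = z * g := by
    intro g
    rw [hzdef]
    exact Subgroup.mem_center_iff.1 z₀.2 g
  have hzA : z ∈ Subgroup.zpowers a := by
    rw [← hAeq, ← hCA, Subgroup.mem_centralizer_iff]
    intro b _
    exact hzc b
  have h : Ctx p a z n := by
    refine ⟨hP, hord, ?_, ?_, hzA, hzo, hzc, hn⟩
    · intro g
      rw [← hAeq]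
      exact hAn.conj_mem a (by rw [hAeq]; exact Subgroup.mem_zpowers a) g
    · intro g hg
      rw [← hAeq, ← hCA, Subgroup.mem_centralizer_iff]
      intro b hb
      rw [hAeq] at hb
      obtain ⟨i, rfl⟩ := Subgroup.mem_zpowers_iff.1 hb
      have hc : Commute g a := hg
      exact ((hc.zpow_right i).eq).symm
  -- A ≠ P
  have hne : ∃ g : P, g ∉ Subgroup.zpowers a := by
    by_contra hall
    push Not at hall
    exact hnc ⟨a, hall⟩
  -- n ≥ 2
  have hn2 : 2 ≤ n := by
    by_contra hn2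
    have hap : a ^ p = 1 := by
      rw [← orderOf_dvd_iff_pow_eq_one, hord]
      have : n ≤ 1 := by omega
      calc p ^ n ∣ p ^ 1 := pow_dvd_pow p this
        _ = p := pow_one p
    have haz := h.omega (Subgroup.mem_zpowers a) hap
    obtain ⟨g, hg⟩ := hne
    exact hg (h.cent g (h.central_of_mem haz g))
  by_cases hcase : ∀ y : P, y ^ p = 1 → y ∈ Subgroup.zpowers a
  · rcases Cfsg.Agent.S0016.result p hP
      (unique_of_forall z hzo (fun y hy => h.omega (hcase y hy) hy)) with hc | ⟨hp2, m, hm⟩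
    · exact absurd hc hnc
    · exact ⟨hp2, Or.inl ⟨2 ^ m, hm⟩⟩
  · push Not at hcase
    obtain ⟨y, hyp, hy⟩ := hcase
    by_cases hp2 : p = 2
    · subst hp2
      refine ⟨rfl, Or.inr ?_⟩
      exact h.two_main hn2 hy (by rw [← pow_two]; exact hyp)
    · exact (h.odd_case hp2 hy hyp).elim

end Cfsg.Agent.Lead.NAC
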