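import Mathlib
import Cfsg.Prelude
import Cfsg.Agent.Lead.NilHallFusionB
import Cfsg.Agent.Lead.BG11b

set_option autoImplicit false
set_option linter.unusedSectionVars false
set_option linter.unusedVariables false

/-!
Fusion in nilpotent Hall subgroups (continued): the decomposition of a nilpotent Hall subgroup
of a subgroup `L` at a prime.
-/

namespace Cfsg.Agent.Lead.NilHall

open Cfsg Cfsg.Agent.Helper1 Cfsg.Agent.Helper1.BGX
open scoped Pointwise

universe u

variable {G : Type u} [Group G] [Finite G]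

/-- Decomposition data of a nilpotent Hall subgroup `H` of `L` at the prime `p`. -/
structure Decomp (L H P K : Subgroup G) (p : ℕ) : Prop where
  leP : P ≤ H
  leK : K ≤ H
  pgroup : IsPGroup p ↥P
  cardP : Nat.card P = p ^ (Nat.card L).factorization p
  copK : (Nat.card K).Coprime p
  cardmul : Nat.card P * Nat.card K = Nat.card H
  comm : K ≤ Subgroup.centralizer (P : Set G)
  normP : H ≤ Subgroup.normalizer (P : Set G)
  normK : H ≤ Subgroup.normalizer (K : Set G)
  sup : P ⊔ K = H
  nilK : Group.IsNilpotent ↥K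
  hallK : (Nat.card K).Coprime (K.relIndex L)

theorem exists_decomp {L H : Subgroup G} (hHL : H ≤ L) (hnil : Group.IsNilpotent ↥H)
    (hcop : (Nat.card H).Coprime (H.relIndex L)) {p : ℕ} [hp : Fact p.Prime]
    (hpH : p ∣ Nat.card H) : ∃ P K : Subgroup G, Decomp L H P K p := by
  obtain ⟨S, K₀, hSn, hKn, hSp, hScard, hKp, hmul, hsup, hinf⟩ :=
    exists_sylow_compl_of_isNilpotent (Γ := ↥H) p
  have hinj := H.subtype_injective
  have hcP : Nat.card ↥(S.map H.subtype) = Nat.card S := Subgroup.card_map_of_injective hinj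
  have hcK : Nat.card ↥(K₀.map H.subtype) = Nat.card K₀ := Subgroup.card_map_of_injective hinj
  have hnd : ¬ p ∣ H.relIndex L := by
    intro hd
    have := Nat.Coprime.eq_one_of_dvd (Nat.Coprime.coprime_dvd_left hpH hcop) hd
    exact hp.out.one_lt.ne' this
  have hPH : S.map H.subtype ≤ H := Subgroup.map_subtype_le _
  have hKH : K₀.map H.subtype ≤ H := Subgroup.map_subtype_le _
  have hcardP : Nat.card ↥(S.map H.subtype) = p ^ (Nat.card L).factorization p := by
    rw [hcP, hScard,
      Cfsg.Agent.Lead.BG12.factorization_eq_of_not_dvd_relIndex hHL hp.out hnd]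
  have hmul' : Nat.card ↥(S.map H.subtype) * Nat.card ↥(K₀.map H.subtype) = Nat.card H := by
    rw [hcP, hcK]; exact hmul
  refine ⟨S.map H.subtype, K₀.map H.subtype, hPH, hKH, hSp.map _, hcardP, ?_, hmul', ?_, ?_, ?_,
    ?_, ?_, ?_⟩
  · rw [hcK]; exact hKp
  · rintro _ ⟨b, hb, rfl⟩
    refine Subgroup.mem_centralizer_iff.2 ?_
    rintro _ ⟨a, ha, rfl⟩
    have hdisj : Disjoint S K₀ := disjoint_iff.2 hinf
    have := Subgroup.commute_of_normal_of_disjoint S K₀ hSn hKn hdisj a b ha hb
    exact congrArg Subtype.val this.eq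
  · intro h hh
    apply Subgroup.mem_normalizer_fintype
    rintro _ ⟨a, ha, rfl⟩
    exact ⟨⟨h, hh⟩ * a * ⟨h, hh⟩⁻¹, hSn.conj_mem a ha ⟨h, hh⟩, rfl⟩
  · intro h hh
    apply Subgroup.mem_normalizer_fintype
    rintro _ ⟨a, ha, rfl⟩
    exact ⟨⟨h, hh⟩ * a * ⟨h, hh⟩⁻¹, hKn.conj_mem a ha ⟨h, hh⟩, rfl⟩
  · rw [← Subgroup.map_sup, hsup, ← MonoidHom.range_eq_map, Subgroup.range_subtype]
  · have : Group.IsNilpotent ↥K₀ := inferInstance
    exact Cfsg.Agent.Lead.BG12.isNilpotent_of_injective
      (K₀.equivMapOfInjective H.subtype hinj).symm.toMonoidHom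
      (K₀.equivMapOfInjective H.subtype hinj).symm.injective
  · rw [← Subgroup.relIndex_mul_relIndex _ _ _ hKH hHL]
    have h1 : Nat.card ↥(K₀.map H.subtype) * (K₀.map H.subtype).relIndex H = Nat.card H := by
      rw [← Cfsg.Agent.Lead.card_subgroupOf_of_le hKH]
      exact Subgroup.card_mul_index ((K₀.map H.subtype).subgroupOf H)
    have h2 : (K₀.map H.subtype).relIndex H = Nat.card ↥(S.map H.subtype) := by
      have h3 : Nat.card ↥(K₀.map H.subtype) * (K₀.map H.subtype).relIndex H =
          Nat.card ↥(K₀.map H.subtype) * Nat.card ↥(S.map H.subtype) := by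
        rw [h1, mul_comm, hmul']
      exact Nat.eq_of_mul_eq_mul_left Nat.card_pos h3
    rw [h2, hcardP]
    apply Nat.Coprime.mul_right
    · apply Nat.Coprime.pow_right
      rw [hcK]; exact hKp
    · exact Nat.Coprime.coprime_dvd_left (Subgroup.card_dvd_of_le hKH) hcop

variable {L H P K : Subgroup G} {p : ℕ} [hp : Fact p.Prime]

theorem Decomp.relIndexP (d : Decomp L H P K p) : P.relIndex H = Nat.card K := by
  have h1 : Nat.card P * P.relIndex H = Nat.card H := by
    rw [← Cfsg.Agent.Lead.card_subgroupOf_of_le d.leP]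
    exact Subgroup.card_mul_index (P.subgroupOf H)
  have h3 : Nat.card P * P.relIndex H = Nat.card P * Nat.card K := by rw [h1, d.cardmul]
  exact Nat.eq_of_mul_eq_mul_left Nat.card_pos h3

theorem Decomp.relIndexK (d : Decomp L H P K p) : K.relIndex H = Nat.card P := by
  have h1 : Nat.card K * K.relIndex H = Nat.card H := by
    rw [← Cfsg.Agent.Lead.card_subgroupOf_of_le d.leK]
    exact Subgroup.card_mul_index (K.subgroupOf H)
  have h3 : Nat.card K * K.relIndex H = Nat.card K * Nat.card P := by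
    rw [h1, mul_comm, d.cardmul]
  exact Nat.eq_of_mul_eq_mul_left Nat.card_pos h3

/-- `p`-elements of `H` lie in `P`. -/
theorem Decomp.mem_P (d : Decomp L H P K p) {y : G} (hy : y ∈ H) {k : ℕ}
    (hyp : y ^ (p ^ k) = 1) : y ∈ P := by
  apply Cfsg.Agent.Lead.BG12.mem_of_pow_eq_one_of_coprime_relIndex d.normP _ hy hyp
  rw [d.relIndexP]
  exact (Nat.Coprime.pow_right k d.copK).symm

/-- `p'`-elements of `H` lie in `K`. -/
theorem Decomp.mem_K (d : Decomp L H P K p) {y : G} (hy : y ∈ H)
    (hyo : (orderOf y).Coprime p) : y ∈ K := by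
  apply Cfsg.Agent.Lead.BG12.mem_of_pow_eq_one_of_coprime_relIndex d.normK _ hy
    (pow_orderOf_eq_one y)
  rw [d.relIndexK, d.cardP]
  exact Nat.Coprime.pow_right _ hyo

theorem Decomp.card_lt (d : Decomp L H P K p) (hpH : p ∣ Nat.card H) :
    Nat.card K < Nat.card H := by
  have h1 : 1 < Nat.card P := by
    by_contra hle
    have h2 : Nat.card P = 1 := by
      have := Nat.card_pos (α := ↥P)
      omega
    have h3 := d.cardmul
    rw [h2, one_mul] at h3
    have := Nat.Coprime.eq_one_of_dvd d.copK.symm (h3 ▸ hpH)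
    exact hp.out.one_lt.ne' this
  calc Nat.card K = 1 * Nat.card K := (one_mul _).symm
    _ < Nat.card P * Nat.card K := Nat.mul_lt_mul_of_pos_right h1 Nat.card_pos
    _ = Nat.card H := d.cardmul

omit [Finite G] in
theorem conj_smul_eq_of_mem_normalizer {Q : Subgroup G} {n : G}
    (hn : n ∈ Subgroup.normalizer (Q : Set G)) : MulAut.conj n • Q = Q := by
  ext x
  rw [Cfsg.Agent.Helper1.mem_conj_smul]
  have h := Subgroup.mem_normalizer_iff.1 (Subgroup.inv_mem _ hn) x
  rw [inv_inv] at h
  exact h.symm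

/-- An element normalizing both `P` and `K` normalizes `H`. -/
theorem Decomp.mem_normalizer (d : Decomp L H P K p) {n : G}
    (hP : n ∈ Subgroup.normalizer (P : Set G)) (hK : n ∈ Subgroup.normalizer (K : Set G)) :
    n ∈ Subgroup.normalizer (H : Set G) := by
  have h1 : MulAut.conj n • P = P := conj_smul_eq_of_mem_normalizer hP
  have h2 : MulAut.conj n • K = K := conj_smul_eq_of_mem_normalizer hK
  apply Cfsg.Agent.Helper1.mem_normalizer_of_conj_smul_eq
  rw [← d.sup, Subgroup.smul_sup, h1, h2]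

end Cfsg.Agent.Lead.NilHall
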