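import Mathlib
import Cfsg.Prelude
import Cfsg.Agent.Lead.NilHallFusionC

set_option autoImplicit false
set_option linter.unusedSectionVars false
set_option linter.unusedVariables false
set_option maxHeartbeats 800000

/-!
Fusion in nilpotent Hall subgroups of a minimal simple group of odd order is controlled by the
normalizer: the induction.
-/

namespace Cfsg.Agent.Lead.NilHall

open Cfsg Cfsg.Agent.Helper1 Cfsg.Agent.Helper1.BGX Cfsg.Agent.Helper1.BGU
open scoped Pointwise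

universe u

variable {G : Type u} [Group G] [Finite G]

omit [Finite G] in
theorem conj_mem_zpowers {x y : G} (g : G) (hy : y ∈ Subgroup.zpowers x) :
    g * y * g⁻¹ ∈ Subgroup.zpowers (g * x * g⁻¹) := by
  obtain ⟨j, rfl⟩ := Subgroup.mem_zpowers_iff.1 hy
  rw [← conj_zpow]
  exact Subgroup.zpow_mem_zpowers _ j

omit [Finite G] in
theorem conj_smul_conj_smul (g h : G) (Q : Subgroup G) :
    MulAut.conj g • MulAut.conj h • Q = MulAut.conj (g * h) • Q := by
  rw [map_mul, mul_smul]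

omit [Finite G] in
theorem conj_mem_of_mem_centralizer_singleton {a c : G}
    (hc : c ∈ Subgroup.centralizer ({a} : Set G)) : c * a * c⁻¹ = a := by
  have h := Subgroup.mem_centralizer_iff.1 hc a (Set.mem_singleton a)
  rw [← h, mul_inv_cancel_right]

/-- The relative index in an intermediate subgroup divides the relative index. -/
theorem relIndex_dvd_of_le {K C L : Subgroup G} (hKC : K ≤ C) (hCL : C ≤ L) :
    K.relIndex C ∣ K.relIndex L := by
  rw [← Subgroup.relIndex_mul_relIndex _ _ _ hKC hCL]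
  exact dvd_mul_right _ _

/-- Step 1: after multiplying by an element of `N_L(H)` we may assume that `g` centralizes the
`p`-part `a` of `x`. -/
theorem step_one (hG : Cfsg.IsMinSimpleOddOrder G) {L H P K : Subgroup G} {p : ℕ}
    [hp : Fact p.Prime] (hHL : H ≤ L) (d : Decomp L H P K p) (hpH : p ∣ Nat.card H)
    {a g : G} (ha : a ∈ P) (hg : g ∈ L) (hga : g * a * g⁻¹ ∈ P) :
    ∃ ν ∈ L ⊓ Subgroup.normalizer (H : Set G), ∃ g' ∈ L ⊓ Subgroup.centralizer ({a} : Set G),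
      g = ν * g' := by
  have hPL : P ≤ L := d.leP.trans hHL
  obtain ⟨n₁, hn₁, c₁, hc₁, e₁⟩ := sylow_control hG L hPL d.pgroup d.cardP ha hg hga
  obtain ⟨hn₁L, hn₁P⟩ := Subgroup.mem_inf.1 hn₁
  obtain ⟨hc₁L, hc₁a⟩ := Subgroup.mem_inf.1 hc₁
  -- `P` is a nontrivial proper subgroup
  have hP1 : P ≠ ⊥ := by
    intro h
    have h3 := d.cardmul
    rw [h, Subgroup.card_bot, one_mul] at h3
    have := Nat.Coprime.eq_one_of_dvd d.copK.symm (h3 ▸ hpH)
    exact hp.out.one_lt.ne' this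
  have hPtop : P ≠ ⊤ := sylow_ne_top hG p P d.pgroup
  have hNtop := normalizer_ne_top_of_simple hG hP1 hPtop
  have hCtop : L ⊓ Subgroup.centralizer (P : Set G) ≠ ⊤ := by
    intro h
    apply hNtop
    rw [eq_top_iff, ← h]
    exact inf_le_right.trans (Subgroup.centralizer_le_normalizer _)
  have hsolv : Group.IsSolvable ↥(L ⊓ Subgroup.centralizer (P : Set G)) := hG.2.2.2 _ hCtop
  have hKC : K ≤ L ⊓ Subgroup.centralizer (P : Set G) := le_inf (d.leK.trans hHL) d.comm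
  have hK₁C : MulAut.conj n₁⁻¹ • K ≤ L ⊓ Subgroup.centralizer (P : Set G) := by
    intro y hy
    rw [Cfsg.Agent.Helper1.mem_conj_smul, inv_inv] at hy
    have hyL : y ∈ L := by
      have : y = n₁⁻¹ * (n₁ * y * n₁⁻¹) * n₁ := by group
      rw [this]
      exact L.mul_mem (L.mul_mem (L.inv_mem hn₁L) (d.leK.trans hHL hy)) hn₁L
    refine Subgroup.mem_inf.2 ⟨hyL, ?_⟩
    refine Subgroup.mem_centralizer_iff.2 ?_
    intro z hz
    have hz' : n₁ * z * n₁⁻¹ ∈ P := (Subgroup.mem_normalizer_iff.1 hn₁P z).1 hz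
    have h1 := Subgroup.mem_centralizer_iff.1 (d.comm hy) _ hz'
    -- (n₁ z n₁⁻¹) (n₁ y n₁⁻¹) = (n₁ y n₁⁻¹) (n₁ z n₁⁻¹)
    have h2 : n₁ * (z * y) * n₁⁻¹ = n₁ * (y * z) * n₁⁻¹ := by
      calc n₁ * (z * y) * n₁⁻¹ = (n₁ * z * n₁⁻¹) * (n₁ * y * n₁⁻¹) := by group
        _ = (n₁ * y * n₁⁻¹) * (n₁ * z * n₁⁻¹) := h1
        _ = n₁ * (y * z) * n₁⁻¹ := by group
    exact mul_left_cancel (mul_right_cancel h2)
  obtain ⟨d₁, hd₁, hd₁K⟩ := hall_conj _ hsolv hKC hK₁C
    (Cfsg.Agent.Helper1.card_conj_smul _ _)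
    (Nat.Coprime.coprime_dvd_right (relIndex_dvd_of_le hKC inf_le_left) d.hallK)
  obtain ⟨hd₁L, hd₁P⟩ := Subgroup.mem_inf.1 hd₁
  rw [conj_smul_conj_smul] at hd₁K
  have h1 : d₁ * n₁⁻¹ ∈ Subgroup.normalizer (K : Set G) :=
    Cfsg.Agent.Helper1.mem_normalizer_of_conj_smul_eq hd₁K
  have hνK : n₁ * d₁⁻¹ ∈ Subgroup.normalizer (K : Set G) := by
    have := Subgroup.inv_mem _ h1
    rwa [mul_inv_rev, inv_inv] at this
  have hνP : n₁ * d₁⁻¹ ∈ Subgroup.normalizer (P : Set G) :=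
    Subgroup.mul_mem _ hn₁P (Subgroup.inv_mem _ (Subgroup.centralizer_le_normalizer _ hd₁P))
  refine ⟨n₁ * d₁⁻¹, Subgroup.mem_inf.2 ⟨L.mul_mem hn₁L (L.inv_mem hd₁L),
    d.mem_normalizer hνP hνK⟩, d₁ * c₁, Subgroup.mem_inf.2 ⟨L.mul_mem hd₁L hc₁L, ?_⟩, ?_⟩
  · apply Subgroup.mul_mem _ _ hc₁a
    exact Subgroup.centralizer_le (Set.singleton_subset_iff.2 ha) hd₁P
  · rw [e₁]; group

end Cfsg.Agent.Lead.NilHall
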