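import Mathlib
import Cfsg.Prelude
import Cfsg.Agent.Lead.NilHallFusionD

set_option autoImplicit false
set_option linter.unusedSectionVars false
set_option linter.unusedVariables false
set_option maxHeartbeats 800000

/-!
Fusion in nilpotent Hall subgroups of a minimal simple group of odd order is controlled by the
normalizer: the second step and the induction.
-/

namespace Cfsg.Agent.Lead.NilHall

open Cfsg Cfsg.Agent.Helper1 Cfsg.Agent.Helper1.BGX Cfsg.Agent.Helper1.BGU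
open scoped Pointwise

universe u

variable {G : Type u} [Group G] [Finite G]

/-- Step 2: an element of `L ∩ N(K) ∩ C(a)` can be corrected by an element of
`L ∩ C(K) ∩ C(a)` so that it normalizes `P`. -/
theorem step_two (hG : Cfsg.IsMinSimpleOddOrder G) {L H P K : Subgroup G} {p : ℕ}
    [hp : Fact p.Prime] (hHL : H ≤ L) (d : Decomp L H P K p)
    {a n₂ : G} (ha : a ∈ P) (hn₂L : n₂ ∈ L) (hn₂K : n₂ ∈ Subgroup.normalizer (K : Set G))
    (hn₂a : n₂ ∈ Subgroup.centralizer ({a} : Set G)) :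
    ∃ c₃ ∈ L ⊓ Subgroup.centralizer (K : Set G), c₃ ∈ Subgroup.centralizer ({a} : Set G) ∧
      n₂ * c₃⁻¹ ∈ Subgroup.normalizer (P : Set G) := by
  have hPL : P ≤ L := d.leP.trans hHL
  have hPK : P ≤ Subgroup.centralizer (K : Set G) := Subgroup.le_centralizer_iff.1 d.comm
  have hPCK : P ≤ L ⊓ Subgroup.centralizer (K : Set G) := le_inf hPL hPK
  have hP'CK : MulAut.conj n₂⁻¹ • P ≤ L ⊓ Subgroup.centralizer (K : Set G) := by
    intro y hy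
    rw [Cfsg.Agent.Helper1.mem_conj_smul, inv_inv] at hy
    have hyL : y ∈ L := by
      have : y = n₂⁻¹ * (n₂ * y * n₂⁻¹) * n₂ := by group
      rw [this]
      exact L.mul_mem (L.mul_mem (L.inv_mem hn₂L) (hPL hy)) hn₂L
    refine Subgroup.mem_inf.2 ⟨hyL, ?_⟩
    refine Subgroup.mem_centralizer_iff.2 ?_
    intro z hz
    have hz' : n₂ * z * n₂⁻¹ ∈ K := (Subgroup.mem_normalizer_iff.1 hn₂K z).1 hz
    have h1 := Subgroup.mem_centralizer_iff.1 (hPK hy) _ hz'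
    have h2 : n₂ * (z * y) * n₂⁻¹ = n₂ * (y * z) * n₂⁻¹ := by
      calc n₂ * (z * y) * n₂⁻¹ = (n₂ * z * n₂⁻¹) * (n₂ * y * n₂⁻¹) := by group
        _ = (n₂ * y * n₂⁻¹) * (n₂ * z * n₂⁻¹) := h1
        _ = n₂ * (y * z) * n₂⁻¹ := by group
    exact mul_left_cancel (mul_right_cancel h2)
  have hPcK := Cfsg.Agent.Lead.card_eq_ppart_of_le hPCK
    (inf_le_left : L ⊓ Subgroup.centralizer (K : Set G) ≤ L) d.pgroup d.cardP
  have hP'p : IsPGroup p ↥(MulAut.conj n₂⁻¹ • P) := by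
    rw [Cfsg.Agent.Helper1.conj_smul_eq_map]
    exact d.pgroup.map _
  obtain ⟨m₀, hm₀, hm₀P⟩ :=
    Cfsg.Agent.Lead.exists_conj_le_of_card_eq_ppart hPCK hPcK hP'CK hP'p
  have haP' : a ∈ MulAut.conj n₂⁻¹ • P := by
    rw [Cfsg.Agent.Helper1.mem_conj_smul, inv_inv, conj_mem_of_mem_centralizer_singleton hn₂a]
    exact ha
  have hm₀a : m₀ * a * m₀⁻¹ ∈ P := hm₀P ⟨a, haP', rfl⟩
  obtain ⟨n₃, hn₃, c₃, hc₃, e₃⟩ := sylow_control hG _ hPCK d.pgroup hPcK ha hm₀ hm₀a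
  obtain ⟨hn₃C, hn₃P⟩ := Subgroup.mem_inf.1 hn₃
  obtain ⟨hc₃C, hc₃a⟩ := Subgroup.mem_inf.1 hc₃
  refine ⟨c₃, hc₃C, hc₃a, ?_⟩
  have hm₀P' : MulAut.conj m₀ • MulAut.conj n₂⁻¹ • P ≤ P := hm₀P
  have heq : MulAut.conj m₀ • MulAut.conj n₂⁻¹ • P = P := by
    apply Subgroup.eq_of_le_of_card_ge hm₀P'
    rw [Cfsg.Agent.Helper1.card_conj_smul, Cfsg.Agent.Helper1.card_conj_smul]
  rw [conj_smul_conj_smul] at heq
  have h1 : m₀ * n₂⁻¹ ∈ Subgroup.normalizer (P : Set G) :=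
    Cfsg.Agent.Helper1.mem_normalizer_of_conj_smul_eq heq
  have h2 : c₃ * n₂⁻¹ ∈ Subgroup.normalizer (P : Set G) := by
    have : c₃ * n₂⁻¹ = n₃⁻¹ * (m₀ * n₂⁻¹) := by rw [e₃]; group
    rw [this]
    exact Subgroup.mul_mem _ (Subgroup.inv_mem _ hn₃P) h1
  have := Subgroup.inv_mem _ h2
  rwa [mul_inv_rev, inv_inv] at this

/-- **Fusion in a nilpotent Hall subgroup `H` of a subgroup `L`** is controlled by `N_L(H)`. -/
theorem hall_control_aux (hG : Cfsg.IsMinSimpleOddOrder G) :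
    ∀ (m : ℕ) (L H : Subgroup G), H ≤ L → Nat.card H = m → Group.IsNilpotent ↥H →
      (Nat.card H).Coprime (H.relIndex L) → ∀ x ∈ H, ∀ g ∈ L, g * x * g⁻¹ ∈ H →
        ∃ n ∈ L ⊓ Subgroup.normalizer (H : Set G), n * x * n⁻¹ = g * x * g⁻¹ := by
  intro m
  induction m using Nat.strong_induction_on with
  | _ m ih =>
  intro L H hHL hcard hnil hcop x hx g hg hgx
  by_cases hH1 : Nat.card H = 1
  · have hbot : H = ⊥ := Subgroup.card_eq_one.1 hH1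
    subst hbot
    rw [Subgroup.mem_bot] at hx
    subst hx
    exact ⟨1, Subgroup.one_mem _, by group⟩
  obtain ⟨p, hp, hpH⟩ := Nat.exists_prime_and_dvd hH1
  have hpF : Fact p.Prime := ⟨hp⟩
  obtain ⟨P, K, d⟩ := exists_decomp hHL hnil hcop hpH
  obtain ⟨b, a, hb, ha, hxab, hbo, k, hak⟩ := Cfsg.Agent.Helper4.exists_p_part_decomp p x
  have hzx : Subgroup.zpowers x ≤ H := Subgroup.zpowers_le.2 hx
  have hzgx : Subgroup.zpowers (g * x * g⁻¹) ≤ H := Subgroup.zpowers_le.2 hgx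
  have haP : a ∈ P := d.mem_P (hzx ha) hak
  have hbK : b ∈ K := d.mem_K (hzx hb) hbo
  have hgaP : g * a * g⁻¹ ∈ P := by
    apply d.mem_P (hzgx (conj_mem_zpowers g ha)) (k := k)
    rw [conj_pow, hak]; group
  -- Step 1
  obtain ⟨ν₁, hν₁, g', hg', e₁⟩ := step_one hG hHL d hpH haP hg hgaP
  obtain ⟨hν₁L, hν₁H⟩ := Subgroup.mem_inf.1 hν₁
  obtain ⟨hg'L, hg'a⟩ := Subgroup.mem_inf.1 hg'
  have hg'x : g' * x * g'⁻¹ ∈ H := by
    have h1 : g' * x * g'⁻¹ = ν₁⁻¹ * (g * x * g⁻¹) * ν₁⁻¹⁻¹ := by rw [e₁]; group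
    rw [h1]
    exact (Subgroup.mem_normalizer_iff.1 (Subgroup.inv_mem _ hν₁H) _).1 hgx
  have hzg'x : Subgroup.zpowers (g' * x * g'⁻¹) ≤ H := Subgroup.zpowers_le.2 hg'x
  have hg'bK : g' * b * g'⁻¹ ∈ K := by
    apply d.mem_K (hzg'x (conj_mem_zpowers g' hb))
    have : orderOf (g' * b * g'⁻¹) = orderOf b :=
      orderOf_injective (MulAut.conj g').toMonoidHom (MulAut.conj g').injective b
    rw [this]
    exact hbo
  -- Step 2: induction for `K` in `L ⊓ C(a)`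
  have hKL₂ : K ≤ L ⊓ Subgroup.centralizer ({a} : Set G) :=
    le_inf (d.leK.trans hHL)
      (d.comm.trans (Subgroup.centralizer_le (Set.singleton_subset_iff.2 haP)))
  have hcopK : (Nat.card K).Coprime (K.relIndex (L ⊓ Subgroup.centralizer ({a} : Set G))) :=
    Nat.Coprime.coprime_dvd_right (relIndex_dvd_of_le hKL₂ inf_le_left) d.hallK
  obtain ⟨n₂, hn₂, e₂⟩ := ih (Nat.card K) (hcard ▸ d.card_lt hpH) _ K hKL₂ rfl d.nilK hcopK b hbK g'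
    hg' hg'bK
  obtain ⟨hn₂L₂, hn₂K⟩ := Subgroup.mem_inf.1 hn₂
  obtain ⟨hn₂L, hn₂a⟩ := Subgroup.mem_inf.1 hn₂L₂
  obtain ⟨c₃, hc₃C, hc₃a, hν₂P⟩ := step_two hG hHL d haP hn₂L hn₂K hn₂a
  obtain ⟨hc₃L, hc₃K⟩ := Subgroup.mem_inf.1 hc₃C
  have hν₂K : n₂ * c₃⁻¹ ∈ Subgroup.normalizer (K : Set G) :=
    Subgroup.mul_mem _ hn₂K (Subgroup.inv_mem _ (Subgroup.centralizer_le_normalizer _ hc₃K))
  have hν₂H := d.mem_normalizer hν₂P hν₂K
  refine ⟨ν₁ * (n₂ * c₃⁻¹), Subgroup.mem_inf.2 ⟨L.mul_mem hν₁L (L.mul_mem hn₂L (L.inv_mem hc₃L)),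
    Subgroup.mul_mem _ hν₁H hν₂H⟩, ?_⟩
  -- the computation
  have hc₃b : c₃ * b * c₃⁻¹ = b := by
    have h := Subgroup.mem_centralizer_iff.1 hc₃K b hbK
    rw [← h, mul_inv_cancel_right]
  have hc₃a' : c₃ * a * c₃⁻¹ = a := conj_mem_of_mem_centralizer_singleton hc₃a
  have hc₃x : c₃⁻¹ * x * c₃ = x := by
    have h1 : c₃ * x * c₃⁻¹ = x := by
      rw [hxab]
      calc c₃ * (b * a) * c₃⁻¹ = (c₃ * b * c₃⁻¹) * (c₃ * a * c₃⁻¹) := by group
        _ = b * a := by rw [hc₃b, hc₃a']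
    calc c₃⁻¹ * x * c₃ = c₃⁻¹ * (c₃ * x * c₃⁻¹) * c₃ := by rw [h1]
      _ = x := by group
  have hn₂x : n₂ * x * n₂⁻¹ = g' * x * g'⁻¹ := by
    have h1 : n₂ * a * n₂⁻¹ = a := conj_mem_of_mem_centralizer_singleton hn₂a
    have h2 : g' * a * g'⁻¹ = a := conj_mem_of_mem_centralizer_singleton hg'a
    rw [hxab]
    calc n₂ * (b * a) * n₂⁻¹ = (n₂ * b * n₂⁻¹) * (n₂ * a * n₂⁻¹) := by group
      _ = (g' * b * g'⁻¹) * (g' * a * g'⁻¹) := by rw [e₂, h1, h2]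
      _ = g' * (b * a) * g'⁻¹ := by group
  calc ν₁ * (n₂ * c₃⁻¹) * x * (ν₁ * (n₂ * c₃⁻¹))⁻¹
      = ν₁ * (n₂ * (c₃⁻¹ * x * c₃) * n₂⁻¹) * ν₁⁻¹ := by group
    _ = ν₁ * (g' * x * g'⁻¹) * ν₁⁻¹ := by rw [hc₃x, hn₂x]
    _ = g * x * g⁻¹ := by rw [e₁]; group

/-- **Fusion in a nilpotent Hall subgroup of `G`** is controlled by its normalizer. -/
theorem hall_control (hG : Cfsg.IsMinSimpleOddOrder G) (H : Subgroup G)
    (hHn : Group.IsNilpotent ↥H) (hHall : (Nat.card H).Coprime H.index) :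
    ∀ x ∈ H, ∀ g : G, g * x * g⁻¹ ∈ H →
      ∃ n ∈ Subgroup.normalizer (H : Set G), n * x * n⁻¹ = g * x * g⁻¹ := by
  intro x hx g hgx
  obtain ⟨n, hn, e⟩ := hall_control_aux hG (Nat.card H) ⊤ H le_top rfl hHn
    (by rw [Subgroup.relIndex_top_right]; exact hHall) x hx g (Subgroup.mem_top g) hgx
  exact ⟨n, (Subgroup.mem_inf.1 hn).2, e⟩

end Cfsg.Agent.Lead.NilHall
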