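import Cfsg.Agent.Lead.NilpSymE

/-! Arithmetic for the bound on nilpotent subgroups of alternating groups. -/

namespace Cfsg.Agent.Lead.NilpAlt

open Cfsg.Agent.Lead.NilpSym Nat

/-- The bounding function for alternating groups. -/
def BA (n : ℕ) : ℕ :=
  if n = 0 then 1 else if n = 1 then 1 else if n = 3 then 3 else if n = 5 then 5
  else if n = 6 then 9 else if n = 9 then 81 else B n / 2

/-- Exceptional degrees. -/
def Exc (n : ℕ) : Prop := n = 0 ∨ n = 1 ∨ n = 3 ∨ n = 5 ∨ n = 6 ∨ n = 9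

instance (n : ℕ) : Decidable (Exc n) := by unfold Exc; infer_instance

theorem BA_of_not {n : ℕ} (h : ¬ Exc n) : BA n = B n / 2 := by
  unfold Exc at h
  push Not at h
  obtain ⟨h0, h1, h3, h5, h6, h9⟩ := h
  simp [BA, h0, h1, h3, h5, h6, h9]

theorem e_seven : e 7 = 4 := by
  have := e_double_add_one 3; rw [e_three] at this; simpa using this
theorem e_eight : e 8 = 7 := by
  have := e_double 4; rw [e_four] at this; simpa using this
theorem e_ten : e 10 = 8 := by
  have := e_double 5; rw [e_five] at this; simpa using this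
theorem e_eleven : e 11 = 8 := by
  have := e_double_add_one 5; rw [e_five] at this; simpa using this
theorem e_fourteen : e 14 = 11 := by
  have := e_double 7; rw [e_seven] at this; simpa using this
theorem e_fifteen : e 15 = 11 := by
  have := e_double_add_one 7; rw [e_seven] at this; simpa using this
theorem e_eighteen : e 18 = 16 := by
  have := e_double 9; rw [e_nine] at this; simpa using this

theorem B_0 : B 0 = 1 := by rw [B_of_ne (by norm_num), e_zero]; norm_num
theorem B_1 : B 1 = 1 := by rw [B_of_ne (by norm_num), e_one]; norm_num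
theorem B_2 : B 2 = 2 := by rw [B_of_ne (by norm_num), e_two]; norm_num
theorem B_3 : B 3 = 3 := by rw [B_of_eq (by norm_num)]; norm_num [e_zero]
theorem B_4 : B 4 = 8 := by rw [B_of_ne (by norm_num), e_four]; norm_num
theorem B_5 : B 5 = 8 := by rw [B_of_ne (by norm_num), e_five]; norm_num
theorem B_6 : B 6 = 16 := by rw [B_of_ne (by norm_num), e_six]; norm_num
theorem B_7 : B 7 = 24 := by rw [B_of_eq (by norm_num)]; norm_num [e_four]
theorem B_8 : B 8 = 128 := by rw [B_of_ne (by norm_num), e_eight]; norm_num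
theorem B_9 : B 9 = 128 := by rw [B_of_ne (by norm_num), e_nine]; norm_num
theorem B_10 : B 10 = 256 := by rw [B_of_ne (by norm_num), e_ten]; norm_num
theorem B_11 : B 11 = 384 := by rw [B_of_eq (by norm_num)]; norm_num [e_eight]
theorem B_12 : B 12 = 1024 := by rw [B_of_ne (by norm_num), e_twelve]; norm_num
theorem B_14 : B 14 = 2048 := by rw [B_of_ne (by norm_num), e_fourteen]; norm_num
theorem B_15 : B 15 = 3072 := by rw [B_of_eq (by norm_num)]; norm_num [e_twelve]
theorem B_18 : B 18 = 65536 := by rw [B_of_ne (by norm_num), e_eighteen]; norm_num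

theorem BA_0 : BA 0 = 1 := by simp [BA]
theorem BA_1 : BA 1 = 1 := by simp [BA]
theorem BA_3 : BA 3 = 3 := by simp [BA]
theorem BA_5 : BA 5 = 5 := by simp [BA]
theorem BA_6 : BA 6 = 9 := by simp [BA]
theorem BA_9 : BA 9 = 81 := by simp [BA]
theorem BA_2 : BA 2 = 1 := by rw [BA_of_not (by unfold Exc; omega), B_2]
theorem BA_4 : BA 4 = 4 := by rw [BA_of_not (by unfold Exc; omega), B_4]
theorem BA_7 : BA 7 = 12 := by rw [BA_of_not (by unfold Exc; omega), B_7]
theorem BA_8 : BA 8 = 64 := by rw [BA_of_not (by unfold Exc; omega), B_8]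
theorem BA_10 : BA 10 = 128 := by rw [BA_of_not (by unfold Exc; omega), B_10]
theorem BA_11 : BA 11 = 192 := by rw [BA_of_not (by unfold Exc; omega), B_11]
theorem BA_12 : BA 12 = 512 := by rw [BA_of_not (by unfold Exc; omega), B_12]
theorem BA_14 : BA 14 = 1024 := by rw [BA_of_not (by unfold Exc; omega), B_14]
theorem BA_15 : BA 15 = 1536 := by rw [BA_of_not (by unfold Exc; omega), B_15]
theorem BA_18 : BA 18 = 32768 := by rw [BA_of_not (by unfold Exc; omega), B_18]

theorem half_B_le_BA (n : ℕ) : B n / 2 ≤ BA n := by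
  by_cases h : Exc n
  · rcases h with rfl | rfl | rfl | rfl | rfl | rfl
    · rw [BA_0, B_0]; norm_num
    · rw [BA_1, B_1]; norm_num
    · rw [BA_3, B_3]; norm_num
    · rw [BA_5, B_5]; norm_num
    · rw [BA_6, B_6]; norm_num
    · rw [BA_9, B_9]; norm_num
  · rw [BA_of_not h]

theorem BA_le_B (n : ℕ) : BA n ≤ B n := by
  by_cases h : Exc n
  · rcases h with rfl | rfl | rfl | rfl | rfl | rfl
    · rw [BA_0, B_0]
    · rw [BA_1, B_1]
    · rw [BA_3, B_3]
    · rw [BA_5, B_5]; norm_num
    · rw [BA_6, B_6]; norm_num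
    · rw [BA_9, B_9]; norm_num
  · rw [BA_of_not h]; exact Nat.div_le_self _ _

theorem BA_pos (n : ℕ) : 0 < BA n := by
  by_cases h : Exc n
  · rcases h with rfl | rfl | rfl | rfl | rfl | rfl
    · rw [BA_0]; norm_num
    · rw [BA_1]; norm_num
    · rw [BA_3]; norm_num
    · rw [BA_5]; norm_num
    · rw [BA_6]; norm_num
    · rw [BA_9]; norm_num
  · rw [BA_of_not h]
    have h2 : 2 ≤ n := by unfold Exc at h; omega
    have : B 2 ≤ B n := B_mono h2
    rw [B_2] at this
    omega

/-- If `2 * x ≤ B n` then `x ≤ BA n`. -/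
theorem le_BA_of_two_mul_le {x n : ℕ} (h : 2 * x ≤ B n) : x ≤ BA n :=
  le_trans (by omega) (half_B_le_BA n)

theorem BA_supermul_of_not {a b : ℕ} (ha : ¬ Exc a) : BA a * BA b ≤ BA (a + b) := by
  rw [BA_of_not ha]
  apply le_BA_of_two_mul_le
  calc 2 * (B a / 2 * BA b) = (2 * (B a / 2)) * BA b := by ring
    _ ≤ B a * B b := Nat.mul_le_mul (Nat.mul_div_le _ _) (BA_le_B b)
    _ ≤ _ := B_supermul a b

theorem BA_supermul {a b : ℕ} (ha : 1 ≤ a) (hb : 1 ≤ b) : BA a * BA b ≤ BA (a + b) := by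
  by_cases hea : Exc a
  · by_cases heb : Exc b
    · rcases hea with rfl | rfl | rfl | rfl | rfl | rfl <;>
      rcases heb with rfl | rfl | rfl | rfl | rfl | rfl <;>
      first
      | omega
      | (norm_num [BA_0, BA_1, BA_2, BA_3, BA_4, BA_5, BA_6, BA_7, BA_8, BA_9, BA_10, BA_11,
          BA_12, BA_14, BA_15, BA_18])
    · rw [mul_comm, add_comm]; exact BA_supermul_of_not heb
  · exact BA_supermul_of_not hea

/-- `e` of a product dominates. -/
theorem e_mul_ge {x y c : ℕ} (hc : c + x + y ≤ x * y) : e x + e y + e c ≤ e (x * y) := by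
  have h1 := e_add x y
  have h2 := e_add (x + y) c
  have h3 : e (x + y + c) ≤ e (x * y) := e_mono (by omega)
  omega

/-- For `x ≡ 3 mod 4`: `2 * B x = 3 * 2 ^ e x`. -/
theorem two_B_of_eq {x : ℕ} (hx : x % 4 = 3) : 2 * B x = 3 * 2 ^ e x := by
  obtain ⟨m, rfl⟩ : ∃ m, x = m + 3 := ⟨x - 3, by omega⟩
  have hm : m % 4 = 0 := by omega
  rw [B_of_eq hx, e_add_three_eq hm]
  simp only [Nat.add_sub_cancel]
  rw [pow_succ]; ring

theorem two_B_mul_le {x y : ℕ} (hx : 2 ≤ x) (hy : 2 ≤ y) : 2 * (B x * B y) ≤ B (x * y) := by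
  by_cases hx3 : x % 4 = 3 <;> by_cases hy3 : y % 4 = 3
  · -- both
    have h1 := two_B_of_eq hx3
    have h2 := two_B_of_eq hy3
    by_cases h33 : x = 3 ∧ y = 3
    · obtain ⟨rfl, rfl⟩ := h33
      rw [B_3, show 3 * 3 = 9 by norm_num, B_9]; norm_num
    · have hc : 4 + x + y ≤ x * y := by
        have : 3 ≤ x := by omega
        have : 3 ≤ y := by omega
        have : 7 ≤ x ∨ 7 ≤ y := by omega
        rcases this with h | h <;> nlinarith
      have h3 := e_mul_ge hc
      rw [e_four] at h3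
      have h4 : 4 * (2 * (B x * B y)) = 2 * ((2 * B x) * (2 * B y)) := by ring
      have h5 : 2 * ((2 * B x) * (2 * B y)) = 18 * 2 ^ (e x + e y) := by
        rw [h1, h2, pow_add]; ring
      have h6 : 18 * 2 ^ (e x + e y) ≤ 4 * 2 ^ (e x + e y + 3) := by
        rw [pow_add _ _ 3]; norm_num; omega
      have h7 : 2 ^ (e x + e y + 3) ≤ B (x * y) :=
        le_trans (Nat.pow_le_pow_right (by norm_num) h3) (two_pow_e_le_B _)
      omega
  · have h1 := two_B_of_eq hx3
    rw [B_of_ne hy3]
    by_cases h32 : x = 3 ∧ y = 2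
    · obtain ⟨rfl, rfl⟩ := h32
      rw [B_3, show 3 * 2 = 6 by norm_num, B_6, e_two]; norm_num
    · have hc : 4 + x + y ≤ x * y := by
        have : 3 ≤ x := by omega
        have : 7 ≤ x ∨ 4 ≤ y := by omega
        rcases this with h | h <;> nlinarith
      have h3 := e_mul_ge hc
      rw [e_four] at h3
      have h5 : 2 * (B x * 2 ^ e y) = 3 * 2 ^ (e x + e y) := by
        rw [pow_add, ← mul_assoc, h1]; ring
      have h6 : 3 * 2 ^ (e x + e y) ≤ 2 ^ (e x + e y + 3) := by
        rw [pow_add _ _ 3]; norm_num; omega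
      have h7 : 2 ^ (e x + e y + 3) ≤ B (x * y) :=
        le_trans (Nat.pow_le_pow_right (by norm_num) h3) (two_pow_e_le_B _)
      omega
  · have h1 := two_B_of_eq hy3
    rw [B_of_ne hx3]
    by_cases h32 : x = 2 ∧ y = 3
    · obtain ⟨rfl, rfl⟩ := h32
      rw [B_3, show 2 * 3 = 6 by norm_num, B_6, e_two]; norm_num
    · have hc : 4 + x + y ≤ x * y := by
        have : 3 ≤ y := by omega
        have : 7 ≤ y ∨ 4 ≤ x := by omega
        rcases this with h | h <;> nlinarith
      have h3 := e_mul_ge hc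
      rw [e_four] at h3
      have h5 : 2 * (2 ^ e x * B y) = 3 * 2 ^ (e x + e y) := by
        rw [pow_add, mul_left_comm, h1]; ring
      have h6 : 3 * 2 ^ (e x + e y) ≤ 2 ^ (e x + e y + 3) := by
        rw [pow_add _ _ 3]; norm_num; omega
      have h7 : 2 ^ (e x + e y + 3) ≤ B (x * y) :=
        le_trans (Nat.pow_le_pow_right (by norm_num) h3) (two_pow_e_le_B _)
      omega
  · rw [B_of_ne hx3, B_of_ne hy3]
    by_cases h22 : x = 2 ∧ y = 2
    · obtain ⟨rfl, rfl⟩ := h22
      rw [show 2 * 2 = 4 by norm_num, B_4, e_two]; norm_num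
    · have hc : 2 + x + y ≤ x * y := by
        have : 4 ≤ x ∨ 4 ≤ y := by omega
        rcases this with h | h <;> nlinarith
      have h3 := e_mul_ge hc
      rw [e_two] at h3
      calc 2 * (2 ^ e x * 2 ^ e y) = 2 ^ (e x + e y + 1) := by rw [pow_succ, pow_add]; ring
        _ ≤ 2 ^ e (x * y) := Nat.pow_le_pow_right (by norm_num) h3
        _ ≤ _ := two_pow_e_le_B _

theorem le_BA_of_G {p a : ℕ} [hp : Fact p.Prime] (h : G p a) : p ^ F p a ≤ BA (p ^ a) := by
  unfold G at h
  have h2 : 2 ≤ p := hp.out.two_le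
  apply le_BA_of_two_mul_le
  calc 2 * p ^ F p a ≤ p * p ^ F p a := Nat.mul_le_mul_right _ h2
    _ ≤ 2 ^ e (p ^ a) := h
    _ ≤ _ := two_pow_e_le_B _

/-- The arithmetic lemma for odd prime powers, alternating version. -/
theorem AL' (p a : ℕ) [hp : Fact p.Prime] (hodd : p ≠ 2) (ha : 1 ≤ a) :
    p ^ F p a ≤ BA (p ^ a) := by
  have h3 : 3 ≤ p := by
    have := hp.out.two_le; omega
  by_cases h11 : 11 ≤ p
  · exact le_BA_of_G (G_of_le p 1 (G_big p h11) a ha)
  · have hcases : p = 3 ∨ p = 5 ∨ p = 7 := by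
      have hlt : p < 11 := by omega
      interval_cases p <;> simp_all (config := {decide := true})
    rcases hcases with rfl | rfl | rfl
    · rcases Nat.lt_or_ge a 3 with h | h
      · interval_cases a
        · rw [F_one]; norm_num [BA_3]
        · rw [F_two]; norm_num [BA_9]
      · exact le_BA_of_G (G_of_le 3 3 G_three a h)
    · rcases Nat.lt_or_ge a 2 with h | h
      · interval_cases a
        rw [F_one]; norm_num [BA_5]
      · exact le_BA_of_G (G_of_le 5 2 G_five a h)
    · rcases Nat.lt_or_ge a 2 with h | h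
      · interval_cases a
        rw [F_one]; norm_num [BA_7]
      · exact le_BA_of_G (G_of_le 7 2 G_seven a h)

/-- In the generic case `BA n` is the order of a Sylow 2-subgroup of the alternating group. -/
theorem BA_generic {n : ℕ} (h4 : n % 4 ≠ 3) (hE : ¬ Exc n) : BA n = 2 ^ (e n - 1) := by
  rw [BA_of_not hE, B_of_ne h4]
  have h2 : 2 ≤ n := by unfold Exc at hE; omega
  have : e 2 ≤ e n := e_mono h2
  rw [e_two] at this
  obtain ⟨k, hk⟩ : ∃ k, e n = k + 1 := ⟨e n - 1, by omega⟩
  rw [hk, pow_succ]; simp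

end Cfsg.Agent.Lead.NilpAlt
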