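import Cfsg.Agent.Lead.NilpAltB

/-! Nilpotent subgroups of alternating groups: final statement. -/

namespace Cfsg.Agent.Lead.NilpAlt

open Cfsg.Agent.Lead.NilpSym Equiv

theorem card_sylow_two_alt (n : ℕ) (h2 : 2 ≤ n) (P : Sylow 2 (alternatingGroup (Fin n))) :
    Nat.card P = 2 ^ (e n - 1) := by
  haveI : Nontrivial (Fin n) := Fin.nontrivial_iff_two_le.mpr h2
  have h2a := two_mul_nat_card_alternatingGroup (α := Fin n)
  rw [Nat.card_perm, Nat.card_eq_fintype_card (α := Fin n), Fintype.card_fin] at h2a
  rw [Sylow.card_eq_multiplicity, Nat.factorization_def _ Nat.prime_two]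
  congr 1
  have hne : Nat.card (alternatingGroup (Fin n)) ≠ 0 := Nat.card_pos.ne'
  have : e n = 1 + padicValNat 2 (Nat.card (alternatingGroup (Fin n))) := by
    unfold e
    rw [← h2a, padicValNat.mul (by norm_num) hne]
    simp
  omega

theorem main (n : ℕ) (hn : n % 4 ≠ 3)
    (h5 : n ≠ 5) (h6 : n ≠ 6) (h9 : n ≠ 9)
    (N : Subgroup (alternatingGroup (Fin n))) (hN : Group.IsNilpotent N)
    (P : Sylow 2 (alternatingGroup (Fin n))) :
    Nat.card N ≤ Nat.card P := by
  rcases Nat.lt_or_ge n 2 with hlt | h2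
  · haveI : Subsingleton (Fin n) := by
      rw [← Fintype.card_le_one_iff_subsingleton, Fintype.card_fin]; omega
    have h1 : Nat.card N = 1 := Nat.card_of_subsingleton (1 : N)
    rw [h1]
    exact Nat.card_pos
  · have hE : ¬ Exc n := by unfold Exc; omega
    rw [card_sylow_two_alt n h2 P, ← BA_generic hn hE]
    have hinj : Function.Injective (alternatingGroup (Fin n)).subtype := Subtype.coe_injective
    have hc : Nat.card (N.map (alternatingGroup (Fin n)).subtype) = Nat.card N :=
      Subgroup.card_map_of_injective hinj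
    rw [← hc]
    apply card_le_BA n (Fin n) (by simp)
    · rintro g ⟨a, _, rfl⟩
      exact Perm.mem_alternatingGroup.mp a.2
    · haveI := hN
      exact Group.nilpotent_of_mulEquiv (N.equivMapOfInjective _ hinj)

end Cfsg.Agent.Lead.NilpAlt
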