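import Cfsg.Agent.Lead.NilpAltC

/-! Conjugacy of nilpotent subgroups of order `3 * 2 ^ j`: the abstract argument. -/

namespace Cfsg.Agent.Lead.NilpConj

open Cfsg.Agent.Lead.NilpSym
open scoped Pointwise

instance : Fact (Nat.Prime 3) := ⟨by norm_num⟩

/-- Decomposition of a nilpotent subgroup of order `3 * 2 ^ j`. -/
theorem decomp32 {G : Type*} [Group G] (N : Subgroup G) [Finite N] (hN : Group.IsNilpotent N)
    (j : ℕ) (hcard : Nat.card N = 3 * 2 ^ j) :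
    ∃ (c : G) (Q : Subgroup G), orderOf c = 3 ∧ c ∈ N ∧ Q ≤ N ∧ Nat.card Q = 2 ^ j ∧
      (∀ q ∈ Q, q * c = c * q) ∧ N = Subgroup.zpowers c ⊔ Q := by
  obtain ⟨P, R, hPN, hRN, hPp, hcop, hcomm, hprod, hc, hPne⟩ := exists_decomp_subgroup N hN 3
  have h3 : 3 ∣ Nat.card N := by rw [hcard]; exact dvd_mul_right 3 _
  have hP1 : P ≠ ⊥ := hPne h3
  haveI hfinP : Finite P := Finite.of_injective (Subgroup.inclusion hPN) (Subgroup.inclusion_injective hPN)
  obtain ⟨a, ha⟩ := IsPGroup.iff_card.mp hPp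
  have ha1 : a ≠ 0 := by
    intro h0
    rw [h0, pow_zero] at ha
    exact hP1 ((Subgroup.card_eq_one).mp ha)
  have h3P : 3 ∣ Nat.card P := by rw [ha]; exact dvd_pow_self 3 ha1
  have hR3 : (Nat.card R).Coprime 3 := Nat.Coprime.coprime_dvd_right h3P hcop
  have hPR : Nat.card P * Nat.card R = 3 * 2 ^ j := by rw [← hc, hcard]
  have hP3 : Nat.card P = 3 := by
    have h1 : Nat.card P ∣ 3 * 2 ^ j := ⟨_, hPR.symm⟩
    have h2 : (Nat.card P).Coprime (2 ^ j) := by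
      rw [ha]; exact Nat.Coprime.pow _ _ (by norm_num)
    have h4 : Nat.card P ∣ 3 := (Nat.Coprime.dvd_mul_right h2).mp h1
    exact Nat.dvd_antisymm h4 h3P
  have hR2 : Nat.card R = 2 ^ j := by
    rw [hP3] at hPR
    exact Nat.eq_of_mul_eq_mul_left (by norm_num) hPR
  obtain ⟨⟨c, hcP⟩, hc1⟩ := (Subgroup.ne_bot_iff_exists_ne_one).mp hP1
  have hc1' : c ≠ 1 := fun h => hc1 (Subtype.ext h)
  have hord : orderOf c = 3 := by
    have h1 : orderOf (⟨c, hcP⟩ : P) ∣ Nat.card P := orderOf_dvd_natCard _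
    rw [hP3, Subgroup.orderOf_mk] at h1
    rcases (Nat.dvd_prime (by norm_num : Nat.Prime 3)).mp h1 with h | h
    · exact absurd (orderOf_eq_one_iff.mp h) hc1'
    · exact h
  have hz : Subgroup.zpowers c = P := by
    have hle : Subgroup.zpowers c ≤ P := (Subgroup.zpowers_le).mpr hcP
    apply Subgroup.eq_of_le_of_card_ge hle
    rw [Nat.card_zpowers, hord, hP3]
  refine ⟨c, R, hord, hPN hcP, hRN, hR2, fun q hq => (hcomm c hcP q hq).symm, ?_⟩
  rw [hz]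
  apply le_antisymm
  · intro g hg
    obtain ⟨u, hu, r, hr, rfl⟩ := hprod g hg
    exact Subgroup.mul_mem_sup hu hr
  · exact sup_le hPN hRN

/-- The abstract conjugacy argument. -/
theorem conj_of_data {G : Type*} [Group G] [Finite G] (N₁ N₂ : Subgroup G)
    (h₁ : Group.IsNilpotent N₁) (h₂ : Group.IsNilpotent N₂) (j : ℕ)
    (c₁ : Nat.card N₁ = 3 * 2 ^ j) (c₂ : Nat.card N₂ = 3 * 2 ^ j)
    (T : G → Prop)
    (HT : ∀ (c : G) (Q : Subgroup G), orderOf c = 3 → Nat.card Q = 2 ^ j →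
      (∀ q ∈ Q, q * c = c * q) → T c)
    (H1 : ∀ c : G, T c →
      (Nat.card (Subgroup.centralizer ({c} : Set G))).factorization 2 = j)
    (H2 : ∀ c d : G, T c → T d → IsConj c d) :
    ∃ g : G, N₂ = N₁.map (MulAut.conj g).toMonoidHom := by
  obtain ⟨a, Q₁, ha3, haN, hQ₁N, hQ₁c, hQ₁comm, hN₁⟩ := decomp32 N₁ h₁ j c₁
  obtain ⟨b, Q₂, hb3, hbN, hQ₂N, hQ₂c, hQ₂comm, hN₂⟩ := decomp32 N₂ h₂ j c₂
  have hTa : T a := HT a Q₁ ha3 hQ₁c hQ₁comm
  have hTb : T b := HT b Q₂ hb3 hQ₂c hQ₂comm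
  obtain ⟨σ, hσ⟩ := isConj_iff.mp (H2 a b hTa hTb)
  set C := Subgroup.centralizer ({b} : Set G) with hC
  have hfac := H1 b hTb
  -- the conjugated Sylow 2-subgroup
  set Q₁' := Q₁.map (MulAut.conj σ).toMonoidHom with hQ₁'
  have hQ₁'C : Q₁' ≤ C := by
    rintro _ ⟨q, hq, rfl⟩
    rw [hC, Subgroup.mem_centralizer_singleton_iff]
    have := hQ₁comm q hq
    simp only [MulEquiv.coe_toMonoidHom, MulAut.conj_apply]
    rw [← hσ]
    calc σ * q * σ⁻¹ * (σ * a * σ⁻¹) = σ * (q * a) * σ⁻¹ := by group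
      _ = σ * (a * q) * σ⁻¹ := by rw [this]
      _ = σ * a * σ⁻¹ * (σ * q * σ⁻¹) := by group
  have hQ₂C : Q₂ ≤ C := by
    intro q hq
    rw [hC, Subgroup.mem_centralizer_singleton_iff]
    exact hQ₂comm q hq
  have hQ₁'c : Nat.card Q₁' = 2 ^ j := by
    rw [hQ₁', Subgroup.card_map_of_injective (MulAut.conj σ).injective, hQ₁c]
  have k1 : Nat.card (Q₁'.subgroupOf C) = 2 ^ (Nat.card C).factorization 2 := by
    rw [Nat.card_congr (Subgroup.subgroupOfEquivOfLe hQ₁'C).toEquiv, hQ₁'c, hfac]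
  have k2 : Nat.card (Q₂.subgroupOf C) = 2 ^ (Nat.card C).factorization 2 := by
    rw [Nat.card_congr (Subgroup.subgroupOfEquivOfLe hQ₂C).toEquiv, hQ₂c, hfac]
  let S₁ : Sylow 2 C := Sylow.ofCard (Q₁'.subgroupOf C) k1
  let S₂ : Sylow 2 C := Sylow.ofCard (Q₂.subgroupOf C) k2
  obtain ⟨τ, hτ⟩ := MulAction.exists_smul_eq C S₁ S₂
  have hτb : (τ : G) * b * (τ : G)⁻¹ = b := by
    have := (Subgroup.mem_centralizer_singleton_iff).mp τ.2
    calc (τ : G) * b * (τ : G)⁻¹ = (b * (τ : G)) * (τ : G)⁻¹ := by rw [this]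
      _ = b := by group
  have key : ∀ x ∈ Q₁', (τ : G) * x * (τ : G)⁻¹ ∈ Q₂ := by
    intro x hx
    have hxC : x ∈ C := hQ₁'C hx
    have hmem : (⟨x, hxC⟩ : C) ∈ (S₁ : Subgroup C) := by
      show (⟨x, hxC⟩ : C) ∈ Q₁'.subgroupOf C
      rw [Subgroup.mem_subgroupOf]; exact hx
    have h2 : MulAut.conj τ • (⟨x, hxC⟩ : C) ∈ MulAut.conj τ • (S₁ : Subgroup C) :=
      Subgroup.smul_mem_pointwise_smul _ _ _ hmem
    rw [← Sylow.coe_subgroup_smul, hτ] at h2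
    have h3 : MulAut.conj τ • (⟨x, hxC⟩ : C) ∈ Q₂.subgroupOf C := h2
    rw [Subgroup.mem_subgroupOf] at h3
    simpa [MulAut.smul_def] using h3
  refine ⟨(τ : G) * σ, ?_⟩
  symm
  apply Subgroup.eq_of_le_of_card_ge
  · rw [hN₁, Subgroup.map_sup, hN₂]
    apply sup_le
    · rw [MonoidHom.map_zpowers]
      apply le_trans _ le_sup_left
      rw [Subgroup.zpowers_le]
      simp only [MulEquiv.coe_toMonoidHom, MulAut.conj_apply]
      have : (τ : G) * σ * a * ((τ : G) * σ)⁻¹ = (τ : G) * (σ * a * σ⁻¹) * (τ : G)⁻¹ := by group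
      rw [this, hσ, hτb]
      exact Subgroup.mem_zpowers b
    · apply le_trans _ le_sup_right
      rintro _ ⟨q, hq, rfl⟩
      simp only [MulEquiv.coe_toMonoidHom, MulAut.conj_apply]
      have : (τ : G) * σ * q * ((τ : G) * σ)⁻¹ = (τ : G) * (σ * q * σ⁻¹) * (τ : G)⁻¹ := by group
      rw [this]
      apply key
      exact ⟨q, hq, by simp⟩
  · rw [Subgroup.card_map_of_injective (MulAut.conj ((τ : G) * σ)).injective, c₁, c₂]

end Cfsg.Agent.Lead.NilpConj
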