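import Cfsg.Agent.Lead.NilpConjA

/-! Extremal nilpotent subgroups of symmetric groups of degree `≡ 3 mod 4`. -/

namespace Cfsg.Agent.Lead.NilpConj

open Cfsg.Agent.Lead.NilpSym Equiv
open scoped Nat

theorem val_centralizer {α : Type*} [Fintype α] [DecidableEq α] (c : Perm α) (k : ℕ) (hk1 : 1 ≤ k)
    (hk : c.cycleType = Multiset.replicate k 3) :
    (Nat.card (Subgroup.centralizer ({c} : Set (Perm α)))).factorization 2 =
      e (Fintype.card α - 3 * k) + e k := by
  rw [Equiv.Perm.nat_card_centralizer, hk]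
  have h1 : (Multiset.replicate k 3).toFinset = {3} := by
    ext x
    have hk0 : k ≠ 0 := by omega
    simp [hk0]
  rw [h1]
  simp only [Multiset.sum_replicate, Multiset.prod_replicate, Finset.prod_singleton,
    Multiset.count_replicate_self, smul_eq_mul]
  rw [Nat.factorization_mul (by positivity) (Nat.factorial_ne_zero _),
    Nat.factorization_mul (Nat.factorial_ne_zero _) (by positivity)]
  simp only [Finsupp.coe_add, Pi.add_apply, Nat.factorization_pow, Finsupp.coe_smul, Pi.smul_apply, smul_eq_mul]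
  have h3 : (Nat.factorization 3) 2 = 0 := by
    rw [Nat.factorization_def _ Nat.prime_two]
    exact padicValNat.eq_zero_of_not_dvd (by norm_num)
  rw [h3, Nat.factorization_def _ Nat.prime_two, Nat.factorization_def _ Nat.prime_two]
  unfold e
  rw [mul_comm k 3]
  ring

/-- `e (m + 1) ≥ e m + 2` when `4 ∣ m + 1`. -/
theorem e_succ_ge {m : ℕ} (h : (m + 1) % 4 = 0) : e m + 2 ≤ e (m + 1) := by
  unfold e
  rw [Nat.factorial_succ, padicValNat.mul (by omega) (Nat.factorial_ne_zero _)]
  have := two_le_val_of_four_dvd (x := m + 1) (by omega) (Nat.dvd_of_mod_eq_zero h)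
  omega

/-- An element of order 3 centralized by a large 2-group is a 3-cycle. -/
theorem single_three_cycle {α : Type*} [Fintype α] [DecidableEq α] (n : ℕ)
    (hα : Fintype.card α = n) (hn : n % 4 = 3) (c : Perm α) (hc : orderOf c = 3) (j : ℕ)
    (hj : e (n - 3) ≤ j + 1) (Q : Subgroup (Perm α)) (hQ : Nat.card Q = 2 ^ j)
    (hcomm : ∀ q ∈ Q, q * c = c * q) : c.IsThreeCycle := by
  obtain ⟨m, hm⟩ := Perm.cycleType_prime_order (σ := c) (by rw [hc]; norm_num)
  rw [hc] at hm
  rcases Nat.eq_zero_or_pos m with rfl | hmpos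
  · unfold Perm.IsThreeCycle
    rw [hm]; rfl
  exfalso
  have hQC : Q ≤ Subgroup.centralizer ({c} : Set (Perm α)) := by
    intro q hq
    rw [Subgroup.mem_centralizer_singleton_iff]
    exact hcomm q hq
  have hdvd : 2 ^ j ∣ Nat.card (Subgroup.centralizer ({c} : Set (Perm α))) := by
    rw [← hQ]; exact Subgroup.card_dvd_of_le hQC
  have hval := val_centralizer c (m + 1) (by omega) hm
  have hjle : j ≤ e (n - 3 * (m + 1)) + e (m + 1) := by
    rw [← hα, ← hval]
    exact (Nat.Prime.pow_dvd_iff_le_factorization Nat.prime_two Nat.card_pos.ne').mp hdvd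
  have hsum : 3 * (m + 1) ≤ n := by
    have h1 := Perm.sum_cycleType c
    rw [hm, Multiset.sum_replicate, smul_eq_mul] at h1
    have h2 : c.support.card ≤ Fintype.card α := Finset.card_le_univ _
    rw [hα] at h2
    omega
  have h1 : e (n - 3 * (m + 1)) + e (m + 1) ≤ e (n - 4) := by
    refine le_trans (e_add _ _) (e_mono ?_)
    omega
  have h2 : e (n - 4) + 2 ≤ e (n - 3) := by
    have : n - 3 = (n - 4) + 1 := by omega
    rw [this]
    apply e_succ_ge
    omega
  omega

theorem card_sylow_two_perm (m : ℕ) (P : Sylow 2 (Perm (Fin m))) : Nat.card P = 2 ^ e m := by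
  rw [Sylow.card_eq_multiplicity, Nat.card_perm, Nat.factorization_def _ Nat.prime_two]
  simp [e]

/-- Conjugacy of the extremal nilpotent subgroups. -/
theorem conj_sym (n : ℕ) (hn : n % 4 = 3) (N₁ N₂ : Subgroup (Perm (Fin n)))
    (h₁ : Group.IsNilpotent N₁) (h₂ : Group.IsNilpotent N₂)
    (c₁ : Nat.card N₁ = 3 * 2 ^ e (n - 3)) (c₂ : Nat.card N₂ = 3 * 2 ^ e (n - 3)) :
    ∃ g : Perm (Fin n), N₂ = N₁.map (MulAut.conj g).toMonoidHom := by
  apply conj_of_data N₁ N₂ h₁ h₂ (e (n - 3)) c₁ c₂ (fun c => c.IsThreeCycle)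
  · intro c Q hc hQ hcomm
    exact single_three_cycle n (by simp) hn c hc _ (by omega) Q hQ hcomm
  · intro c hc
    have hk : c.cycleType = Multiset.replicate 1 3 := by
      rw [hc.cycleType]; rfl
    rw [val_centralizer c 1 le_rfl hk, e_one]
    simp
  · intro c d hc hd
    rw [Perm.isConj_iff_cycleType_eq, hc.cycleType, hd.cycleType]

end Cfsg.Agent.Lead.NilpConj
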