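import Cfsg.Agent.Lead.NilpConjB

/-! Existence of the extremal nilpotent subgroup and the final statement for symmetric groups. -/

namespace Cfsg.Agent.Lead.NilpConj

open Cfsg.Agent.Lead.NilpSym Equiv
open scoped Nat

/-- The embedding `Perm (Fin m) × Perm (Fin 3) →* Perm (Fin n)` for `m + 3 = n`. -/
noncomputable def emb (m n : ℕ) (h : m + 3 = n) : Perm (Fin m) × Perm (Fin 3) →* Perm (Fin n) :=
  ((finSumFinEquiv.trans (finCongr h)).permCongrHom).toMonoidHom.comp
    (Perm.sumCongrHom (Fin m) (Fin 3))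

theorem emb_injective (m n : ℕ) (h : m + 3 = n) : Function.Injective (emb m n h) :=
  ((finSumFinEquiv.trans (finCongr h)).permCongrHom).injective.comp Perm.sumCongrHom_injective

theorem sign_emb (m n : ℕ) (h : m + 3 = n) (u : Perm (Fin m)) (v : Perm (Fin 3)) :
    Perm.sign (emb m n h (u, v)) = Perm.sign u * Perm.sign v := by
  show Perm.sign ((finSumFinEquiv.trans (finCongr h)).permCongr (Perm.sumCongr u v)) = _
  rw [Perm.sign_permCongr, Perm.sign_sumCongr]

theorem card_alt_three : Nat.card (alternatingGroup (Fin 3)) = 3 := by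
  rw [nat_card_alternatingGroup]; simp; decide

/-- The product of a subgroup of `Perm (Fin m)` and the alternating group of degree 3. -/
theorem exists_prod_three (m n : ℕ) (h : m + 3 = n) (P : Subgroup (Perm (Fin m)))
    (hP : Group.IsNilpotent P) :
    ∃ M : Subgroup (Perm (Fin n)), Group.IsNilpotent M ∧ Nat.card M = 3 * Nat.card P ∧
      Nonempty (M ≃* (↥P × Multiplicative (ZMod 3))) ∧
      ((∀ g ∈ P, Perm.sign g = 1) → ∀ g ∈ M, Perm.sign g = 1) := by
  have hinj := emb_injective m n h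
  have hZ : Nat.card (Multiplicative (ZMod 3)) = 3 := by
    rw [Nat.card_eq_fintype_card]
    simp [ZMod.card]
  let E : ((P.prod (alternatingGroup (Fin 3))).map (emb m n h)) ≃* (↥P × Multiplicative (ZMod 3)) :=
    (((P.prod (alternatingGroup (Fin 3))).equivMapOfInjective _ hinj).symm.trans
      (Subgroup.prodEquiv P (alternatingGroup (Fin 3)))).trans
      (MulEquiv.prodCongr (MulEquiv.refl _) (mulEquivOfPrimeCardEq card_alt_three hZ))
  refine ⟨(P.prod (alternatingGroup (Fin 3))).map (emb m n h), ?_, ?_, ⟨E⟩, ?_⟩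
  · haveI := hP
    exact Group.nilpotent_of_mulEquiv E.symm
  · rw [Nat.card_congr E.toEquiv, Nat.card_prod, hZ, mul_comm]
  · rintro hsign _ ⟨⟨u, v⟩, ⟨hu, hv⟩, rfl⟩
    rw [sign_emb, hsign u hu, Perm.mem_alternatingGroup.mp hv, one_mul]

theorem main_sym (n : ℕ) (hn : n % 4 = 3)
    (P : Sylow 2 (Equiv.Perm (Fin (n - 3)))) :
    (∀ N : Subgroup (Equiv.Perm (Fin n)), Group.IsNilpotent N → Nat.card N ≤ 3 * Nat.card P) ∧
    (∃ M : Subgroup (Equiv.Perm (Fin n)), Group.IsNilpotent M ∧ Nat.card M = 3 * Nat.card P ∧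
      Nonempty (M ≃* (↥(P : Subgroup (Equiv.Perm (Fin (n - 3)))) × Multiplicative (ZMod 3)))) ∧
    (∀ N₁ N₂ : Subgroup (Equiv.Perm (Fin n)), Group.IsNilpotent N₁ → Group.IsNilpotent N₂ →
      Nat.card N₁ = 3 * Nat.card P → Nat.card N₂ = 3 * Nat.card P →
      ∃ g : Equiv.Perm (Fin n), N₂ = N₁.map (MulAut.conj g).toMonoidHom) := by
  have hP : Nat.card P = 2 ^ e (n - 3) := card_sylow_two_perm _ P
  refine ⟨?_, ?_, ?_⟩
  · intro N hN
    have := card_le_B n (Fin n) (by simp) N hN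
    rw [B_of_eq hn] at this
    rw [hP]; exact this
  · have hnil : Group.IsNilpotent (P : Subgroup (Perm (Fin (n - 3)))) := P.isPGroup'.isNilpotent
    obtain ⟨M, h1, h2, h3, _⟩ := exists_prod_three (n - 3) n (by omega) (P : Subgroup _) hnil
    exact ⟨M, h1, h2, h3⟩
  · intro N₁ N₂ h₁ h₂ c₁ c₂
    rw [hP] at c₁ c₂
    exact conj_sym n hn N₁ N₂ h₁ h₂ c₁ c₂

end Cfsg.Agent.Lead.NilpConj
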