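import Cfsg.Agent.Lead.NilpConjC

/-! Extremal nilpotent subgroups of alternating groups of degree `≡ 3 mod 4`. -/

namespace Cfsg.Agent.Lead.NilpConj

open Cfsg.Agent.Lead.NilpSym Cfsg.Agent.Lead.NilpAlt Equiv
open scoped Nat

/-- The centralizer of a 3-cycle in the alternating group has half the order. -/
theorem card_centralizer_alt {n : ℕ} (h7 : 7 ≤ n) (c : alternatingGroup (Fin n))
    (hc : (c : Perm (Fin n)).IsThreeCycle) :
    2 * Nat.card (Subgroup.centralizer ({c} : Set (alternatingGroup (Fin n)))) =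
      Nat.card (Subgroup.centralizer ({(c : Perm (Fin n))} : Set (Perm (Fin n)))) := by
  obtain ⟨K, hK⟩ : ∃ K : Subgroup (Perm (Fin n)),
      K = Subgroup.centralizer ({(c : Perm (Fin n))} : Set (Perm (Fin n))) := ⟨_, rfl⟩
  rw [← hK]
  have h1 : Subgroup.centralizer ({c} : Set (alternatingGroup (Fin n))) =
      K.subgroupOf (alternatingGroup (Fin n)) := by
    ext a
    rw [Subgroup.mem_subgroupOf, hK, Subgroup.mem_centralizer_singleton_iff,
      Subgroup.mem_centralizer_singleton_iff, Subtype.ext_iff]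
    simp
  have e1 : Nat.card (K.subgroupOf (alternatingGroup (Fin n))) =
      Nat.card (K ⊓ alternatingGroup (Fin n) : Subgroup (Perm (Fin n))) := by
    rw [← Subgroup.inf_subgroupOf_right]
    exact Nat.card_congr (Subgroup.subgroupOfEquivOfLe inf_le_right).toEquiv
  have e2 : Nat.card ((alternatingGroup (Fin n)).subgroupOf K) =
      Nat.card (K ⊓ alternatingGroup (Fin n) : Subgroup (Perm (Fin n))) := by
    rw [← Subgroup.inf_subgroupOf_right, inf_comm]
    exact Nat.card_congr (Subgroup.subgroupOfEquivOfLe inf_le_left).toEquiv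
  -- an odd element of K
  have hsupp : (c : Perm (Fin n)).support.card = 3 := hc.card_support
  have hcompl : 1 < ((c : Perm (Fin n)).support)ᶜ.card := by
    rw [Finset.card_compl, hsupp, Fintype.card_fin]; omega
  obtain ⟨x, hx, y, hy, hxy⟩ := Finset.one_lt_card.mp hcompl
  have hcx : (c : Perm (Fin n)) x = x := by
    rw [Finset.mem_compl, Perm.mem_support, not_not] at hx; exact hx
  have hcy : (c : Perm (Fin n)) y = y := by
    rw [Finset.mem_compl, Perm.mem_support, not_not] at hy; exact hy
  have hswK : Equiv.swap x y ∈ K := by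
    rw [hK, Subgroup.mem_centralizer_singleton_iff]
    have := Equiv.mul_swap_eq_swap_mul (c : Perm (Fin n)) x y
    rw [hcx, hcy] at this
    exact this.symm
  have hrel : (alternatingGroup (Fin n)).relIndex K = 2 := by
    have h2 : (alternatingGroup (Fin n)).relIndex K =
        Nat.card (K.map (Perm.sign : Perm (Fin n) →* ℤˣ)) :=
      Subgroup.relIndex_ker K _
    rw [h2]
    have htop : K.map (Perm.sign : Perm (Fin n) →* ℤˣ) = ⊤ := by
      rw [eq_top_iff]
      intro u _
      rcases Int.units_eq_one_or u with rfl | rfl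
      · exact Subgroup.one_mem _
      · exact ⟨Equiv.swap x y, hswK, Perm.sign_swap hxy⟩
    rw [htop, Subgroup.card_top]
    simp
  have h3 := ((alternatingGroup (Fin n)).subgroupOf K).card_mul_index
  have h4 : ((alternatingGroup (Fin n)).subgroupOf K).index = 2 := hrel
  rw [h4, e2] at h3
  rw [h1, e1, ← h3, mul_comm]

theorem val_centralizer_alt {n : ℕ} (hn : n % 4 = 3) (h7 : 7 ≤ n) (c : alternatingGroup (Fin n))
    (hc : (c : Perm (Fin n)).IsThreeCycle) :
    (Nat.card (Subgroup.centralizer ({c} : Set (alternatingGroup (Fin n))))).factorization 2 =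
      e (n - 3) - 1 := by
  have h1 := card_centralizer_alt h7 c hc
  have hk : (c : Perm (Fin n)).cycleType = Multiset.replicate 1 3 := by
    rw [hc.cycleType]; rfl
  have h2 := val_centralizer (c : Perm (Fin n)) 1 le_rfl hk
  rw [← h1, Nat.factorization_mul (by norm_num) Nat.card_pos.ne'] at h2
  simp only [Finsupp.coe_add, Pi.add_apply, Fintype.card_fin, mul_one, e_one, add_zero] at h2
  have h3 : (Nat.factorization 2) 2 = 1 := by
    rw [Nat.factorization_def _ Nat.prime_two]; simp
  rw [h3] at h2
  omega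

theorem conj_alt (n : ℕ) (hn : n % 4 = 3) (h7 : 7 ≤ n)
    (N₁ N₂ : Subgroup (alternatingGroup (Fin n)))
    (h₁ : Group.IsNilpotent N₁) (h₂ : Group.IsNilpotent N₂)
    (c₁ : Nat.card N₁ = 3 * 2 ^ (e (n - 3) - 1)) (c₂ : Nat.card N₂ = 3 * 2 ^ (e (n - 3) - 1)) :
    ∃ g : alternatingGroup (Fin n), N₂ = N₁.map (MulAut.conj g).toMonoidHom := by
  have he : 1 ≤ e (n - 3) := by
    have : e 2 ≤ e (n - 3) := e_mono (by omega)
    rw [e_two] at this; exact this
  apply conj_of_data N₁ N₂ h₁ h₂ (e (n - 3) - 1) c₁ c₂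
    (fun c => (c : Perm (Fin n)).IsThreeCycle)
  · intro c Q hc hQ hcomm
    have hinj : Function.Injective (alternatingGroup (Fin n)).subtype := Subtype.coe_injective
    apply single_three_cycle n (by simp) hn (c : Perm (Fin n)) _ (e (n - 3) - 1) (by omega)
      (Q.map (alternatingGroup (Fin n)).subtype)
    · rw [Subgroup.card_map_of_injective hinj, hQ]
    · rintro _ ⟨q, hq, rfl⟩
      have := hcomm q hq
      exact congrArg Subtype.val this
    · rw [← hc]; exact (Subgroup.orderOf_coe c)
  · intro c hc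
    exact val_centralizer_alt hn h7 c hc
  · intro c d hc hd
    exact alternatingGroup.isThreeCycle_isConj (by simp; omega) hc hd

theorem main_alt (n : ℕ) (hn : n % 4 = 3) (h7 : 7 ≤ n)
    (P : Sylow 2 (alternatingGroup (Fin (n - 3)))) :
    (∀ N : Subgroup (alternatingGroup (Fin n)), Group.IsNilpotent N → Nat.card N ≤ 3 * Nat.card P) ∧
    (∃ M : Subgroup (alternatingGroup (Fin n)), Group.IsNilpotent M ∧ Nat.card M = 3 * Nat.card P ∧
      Nonempty (M ≃* (↥(P : Subgroup (alternatingGroup (Fin (n - 3)))) × Multiplicative (ZMod 3)))) ∧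
    (∀ N₁ N₂ : Subgroup (alternatingGroup (Fin n)), Group.IsNilpotent N₁ → Group.IsNilpotent N₂ →
      Nat.card N₁ = 3 * Nat.card P → Nat.card N₂ = 3 * Nat.card P →
      ∃ g : alternatingGroup (Fin n), N₂ = N₁.map (MulAut.conj g).toMonoidHom) := by
  have hP : Nat.card P = 2 ^ (e (n - 3) - 1) := card_sylow_two_alt (n - 3) (by omega) P
  have he : 1 ≤ e (n - 3) := by
    have : e 2 ≤ e (n - 3) := e_mono (by omega)
    rw [e_two] at this; exact this
  refine ⟨?_, ?_, ?_⟩
  · intro N hN
    have hinj : Function.Injective (alternatingGroup (Fin n)).subtype := Subtype.coe_injective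
    have hc : Nat.card (N.map (alternatingGroup (Fin n)).subtype) = Nat.card N :=
      Subgroup.card_map_of_injective hinj
    have hb : Nat.card (N.map (alternatingGroup (Fin n)).subtype) ≤ BA n := by
      apply card_le_BA n (Fin n) (by simp)
      · rintro g ⟨a, _, rfl⟩
        exact Perm.mem_alternatingGroup.mp a.2
      · haveI := hN
        exact Group.nilpotent_of_mulEquiv (N.equivMapOfInjective _ hinj)
    have hE : ¬ Exc n := by unfold Exc; omega
    rw [BA_of_not hE, B_of_eq hn] at hb
    rw [hc] at hb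
    rw [hP]
    obtain ⟨k, hk⟩ : ∃ k, e (n - 3) = k + 1 := ⟨e (n - 3) - 1, by omega⟩
    rw [hk] at hb ⊢
    simp only [Nat.add_sub_cancel]
    rw [pow_succ] at hb
    omega
  · have hinj : Function.Injective (alternatingGroup (Fin (n - 3))).subtype :=
      Subtype.coe_injective
    set P' := (P : Subgroup (alternatingGroup (Fin (n - 3)))).map
      (alternatingGroup (Fin (n - 3))).subtype with hP'
    have eP : (P : Subgroup (alternatingGroup (Fin (n - 3)))) ≃* P' :=
      (P : Subgroup (alternatingGroup (Fin (n - 3)))).equivMapOfInjective _ hinj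
    have hnil : Group.IsNilpotent P' := by
      haveI : Group.IsNilpotent (P : Subgroup (alternatingGroup (Fin (n - 3)))) :=
        P.isPGroup'.isNilpotent
      exact Group.nilpotent_of_mulEquiv eP
    have hsign : ∀ g ∈ P', Perm.sign g = 1 := by
      rintro _ ⟨a, _, rfl⟩
      exact Perm.mem_alternatingGroup.mp a.2
    obtain ⟨M, h1, h2, ⟨E⟩, h4⟩ := exists_prod_three (n - 3) n (by omega) P' hnil
    have hle : M ≤ alternatingGroup (Fin n) :=
      fun g hg => Perm.mem_alternatingGroup.mpr (h4 hsign g hg)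
    let E' : (M.subgroupOf (alternatingGroup (Fin n))) ≃*
        (↥(P : Subgroup (alternatingGroup (Fin (n - 3)))) × Multiplicative (ZMod 3)) :=
      ((Subgroup.subgroupOfEquivOfLe hle).trans E).trans
        (MulEquiv.prodCongr eP.symm (MulEquiv.refl _))
    refine ⟨M.subgroupOf (alternatingGroup (Fin n)), ?_, ?_, ⟨E'⟩⟩
    · haveI := h1
      exact Group.nilpotent_of_mulEquiv (Subgroup.subgroupOfEquivOfLe hle).symm
    · rw [Nat.card_congr (Subgroup.subgroupOfEquivOfLe hle).toEquiv, h2,
        Nat.card_congr eP.toEquiv]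
  · intro N₁ N₂ h₁ h₂ c₁ c₂
    rw [hP] at c₁ c₂
    exact conj_alt n hn h7 N₁ N₂ h₁ h₂ c₁ c₂

end Cfsg.Agent.Lead.NilpConj
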