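import Mathlib

/-! Arithmetic for the bound on nilpotent subgroups of symmetric groups. -/

namespace Cfsg.Agent.Lead.NilpSym

open Nat

/-- 2-adic valuation of `n!`. -/
def e (n : ℕ) : ℕ := padicValNat 2 n !

theorem e_double (k : ℕ) : e (2 * k) = k + e k := by
  unfold e
  rw [padicValNat_factorial_mul]
  omega

theorem e_double_add_one (k : ℕ) : e (2 * k + 1) = k + e k := by
  unfold e
  rw [padicValNat_factorial_mul_add k (by norm_num : 1 < 2), padicValNat_factorial_mul]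
  omega

theorem e_zero : e 0 = 0 := by simp [e]
theorem e_one : e 1 = 0 := by simp [e]

theorem e_half (n : ℕ) : e n = n / 2 + e (n / 2) := by
  rcases Nat.even_or_odd' n with ⟨k, rfl | rfl⟩
  · rw [e_double]; simp
  · rw [e_double_add_one]
    have : (2 * k + 1) / 2 = k := by omega
    rw [this]

theorem e_add (a b : ℕ) : e a + e b ≤ e (a + b) := by
  unfold e
  have h := Nat.factorial_mul_factorial_dvd_factorial_add a b
  have h1 : padicValNat 2 (a ! * b !) ≤ padicValNat 2 (a + b)! :=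
    (padicValNat_dvd_iff_le (Nat.factorial_ne_zero _)).mp
      (dvd_trans pow_padicValNat_dvd h)
  rwa [padicValNat.mul (Nat.factorial_ne_zero _) (Nat.factorial_ne_zero _)] at h1

theorem e_mono {a b : ℕ} (h : a ≤ b) : e a ≤ e b := by
  obtain ⟨c, rfl⟩ := Nat.exists_eq_add_of_le h
  exact le_trans (Nat.le_add_right _ _) (e_add a c)

theorem e_mul (p m : ℕ) : p * e m ≤ e (p * m) := by
  unfold e
  have h := Nat.prod_factorial_dvd_factorial_sum (Finset.range p) (fun _ => m)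
  simp only [Finset.prod_const, Finset.card_range, Finset.sum_const, smul_eq_mul] at h
  have h1 : padicValNat 2 ((m !) ^ p) ≤ padicValNat 2 (p * m)! :=
    (padicValNat_dvd_iff_le (Nat.factorial_ne_zero _)).mp
      (dvd_trans pow_padicValNat_dvd h)
  rwa [padicValNat.pow] at h1

/-- The bounding function. -/
def B (n : ℕ) : ℕ := if n % 4 = 3 then 3 * 2 ^ e (n - 3) else 2 ^ e n

theorem B_of_ne {n : ℕ} (h : n % 4 ≠ 3) : B n = 2 ^ e n := by simp [B, h]
theorem B_of_eq {n : ℕ} (h : n % 4 = 3) : B n = 3 * 2 ^ e (n - 3) := by simp [B, h]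

/-- `e (m+3)` in terms of `e m`. -/
theorem e_add_three (m : ℕ) : e (m + 3) = e m + padicValNat 2 ((m + 1) * (m + 2) * (m + 3)) := by
  unfold e
  have : (m + 3)! = (m + 1) * (m + 2) * (m + 3) * m ! := by
    simp [Nat.factorial_succ]; ring
  rw [this, padicValNat.mul (by positivity) (Nat.factorial_ne_zero _)]
  ring

theorem two_le_val_of_four_dvd {x : ℕ} (hx : x ≠ 0) (h : 4 ∣ x) : 2 ≤ padicValNat 2 x := by
  have : 2 ^ 2 ∣ x := by simpa using h
  exact (padicValNat_dvd_iff_le hx).mp this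

theorem e_add_three_ge {m : ℕ} (hm : m % 4 ≠ 0) : e m + 2 ≤ e (m + 3) := by
  rw [e_add_three]
  have h0 : (m + 1) * (m + 2) * (m + 3) ≠ 0 := by positivity
  have : 4 ∣ (m + 1) * (m + 2) * (m + 3) := by
    have h4 : m % 4 = 1 ∨ m % 4 = 2 ∨ m % 4 = 3 := by omega
    rcases h4 with h | h | h
    · have : 4 ∣ m + 3 := by omega
      exact Dvd.dvd.mul_left this _
    · have : 4 ∣ m + 2 := by omega
      exact Dvd.dvd.mul_right (Dvd.dvd.mul_left this _) _
    · have : 4 ∣ m + 1 := by omega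
      exact Dvd.dvd.mul_right (Dvd.dvd.mul_right this _) _
  have := two_le_val_of_four_dvd h0 this
  omega

theorem e_add_three_eq {m : ℕ} (hm : m % 4 = 0) : e (m + 3) = e m + 1 := by
  rw [e_add_three]
  congr 1
  obtain ⟨k, rfl⟩ : ∃ k, m = 4 * k := ⟨m / 4, by omega⟩
  have h1 : (4 * k + 1) * (4 * k + 2) * (4 * k + 3) = 2 * ((4 * k + 1) * (2 * k + 1) * (4 * k + 3)) := by
    ring
  rw [h1, padicValNat.mul (by norm_num) (by positivity)]
  have hodd : ¬ 2 ∣ (4 * k + 1) * (2 * k + 1) * (4 * k + 3) := by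
    intro h
    rcases (Nat.Prime.dvd_mul Nat.prime_two).mp h with h | h
    · rcases (Nat.Prime.dvd_mul Nat.prime_two).mp h with h | h <;> omega
    · omega
  rw [padicValNat.eq_zero_of_not_dvd hodd]
  simp

/-- `2^e n ≤ B n`. -/
theorem two_pow_e_le_B (n : ℕ) : 2 ^ e n ≤ B n := by
  by_cases h : n % 4 = 3
  · rw [B_of_eq h]
    obtain ⟨m, rfl⟩ : ∃ m, n = m + 3 := ⟨n - 3, by omega⟩
    have hm : m % 4 = 0 := by omega
    rw [e_add_three_eq hm]
    simp only [Nat.add_sub_cancel]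
    rw [pow_succ]; omega
  · rw [B_of_ne h]

theorem B_pos (n : ℕ) : 0 < B n := lt_of_lt_of_le (by positivity) (two_pow_e_le_B n)

/-- Claim B: `3 * 2^e m ≤ 2^e (m+3)` when `m % 4 ≠ 0`. -/
theorem three_mul_le {m : ℕ} (hm : m % 4 ≠ 0) : 3 * 2 ^ e m ≤ 2 ^ e (m + 3) := by
  have h := e_add_three_ge hm
  calc 3 * 2 ^ e m ≤ 4 * 2 ^ e m := by omega
    _ = 2 ^ (e m + 2) := by rw [pow_add]; ring
    _ ≤ 2 ^ e (m + 3) := Nat.pow_le_pow_right (by norm_num) h

theorem e_six : e 6 = 4 := by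
  have h6 : e 6 = 3 + e 3 := e_double 3
  have h3 : e 3 = 1 + e 1 := e_double_add_one 1
  rw [h6, h3, e_one]

theorem B_supermul (a b : ℕ) : B a * B b ≤ B (a + b) := by
  by_cases ha : a % 4 = 3 <;> by_cases hb : b % 4 = 3
  · -- both ≡ 3
    obtain ⟨a', rfl⟩ : ∃ m, a = m + 3 := ⟨a - 3, by omega⟩
    obtain ⟨b', rfl⟩ : ∃ m, b = m + 3 := ⟨b - 3, by omega⟩
    rw [B_of_eq ha, B_of_eq hb]
    have hab : (a' + 3 + (b' + 3)) % 4 ≠ 3 := by omega
    rw [B_of_ne hab]
    simp only [Nat.add_sub_cancel]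
    have h1 : e a' + e b' + e 6 ≤ e (a' + 3 + (b' + 3)) := by
      have h3 := e_add (a' + b') 6
      have h2 := e_add a' b'
      have h4 : a' + b' + 6 = a' + 3 + (b' + 3) := by ring
      rw [h4] at h3
      omega
    rw [e_six] at h1
    calc 3 * 2 ^ e a' * (3 * 2 ^ e b') = 9 * 2 ^ (e a' + e b') := by rw [pow_add]; ring
      _ ≤ 16 * 2 ^ (e a' + e b') := by omega
      _ = 2 ^ (e a' + e b' + 4) := by rw [pow_add _ _ 4]; ring
      _ ≤ _ := Nat.pow_le_pow_right (by norm_num) h1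
  · obtain ⟨a', rfl⟩ : ∃ m, a = m + 3 := ⟨a - 3, by omega⟩
    rw [B_of_eq ha, B_of_ne hb]
    simp only [Nat.add_sub_cancel]
    have h2 := e_add a' b
    by_cases hab : (a' + 3 + b) % 4 = 3
    · rw [B_of_eq hab]
      have : a' + 3 + b - 3 = a' + b := by omega
      rw [this]
      calc 3 * 2 ^ e a' * 2 ^ e b = 3 * 2 ^ (e a' + e b) := by rw [pow_add]; ring
        _ ≤ _ := Nat.mul_le_mul_left _ (Nat.pow_le_pow_right (by norm_num) h2)
    · rw [B_of_ne hab]
      have hm : (a' + b) % 4 ≠ 0 := by omega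
      have h3 := three_mul_le hm
      have : a' + b + 3 = a' + 3 + b := by ring
      rw [this] at h3
      calc 3 * 2 ^ e a' * 2 ^ e b = 3 * 2 ^ (e a' + e b) := by rw [pow_add]; ring
        _ ≤ 3 * 2 ^ e (a' + b) := Nat.mul_le_mul_left _ (Nat.pow_le_pow_right (by norm_num) h2)
        _ ≤ _ := h3
  · obtain ⟨b', rfl⟩ : ∃ m, b = m + 3 := ⟨b - 3, by omega⟩
    rw [B_of_ne ha, B_of_eq hb]
    simp only [Nat.add_sub_cancel]
    have h2 := e_add a b'
    by_cases hab : (a + (b' + 3)) % 4 = 3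
    · rw [B_of_eq hab]
      have : a + (b' + 3) - 3 = a + b' := by omega
      rw [this]
      calc 2 ^ e a * (3 * 2 ^ e b') = 3 * 2 ^ (e a + e b') := by rw [pow_add]; ring
        _ ≤ _ := Nat.mul_le_mul_left _ (Nat.pow_le_pow_right (by norm_num) h2)
    · rw [B_of_ne hab]
      have hm : (a + b') % 4 ≠ 0 := by omega
      have h3 := three_mul_le hm
      have : a + b' + 3 = a + (b' + 3) := by ring
      rw [this] at h3
      calc 2 ^ e a * (3 * 2 ^ e b') = 3 * 2 ^ (e a + e b') := by rw [pow_add]; ring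
        _ ≤ 3 * 2 ^ e (a + b') := Nat.mul_le_mul_left _ (Nat.pow_le_pow_right (by norm_num) h2)
        _ ≤ _ := h3
  · rw [B_of_ne ha, B_of_ne hb]
    calc 2 ^ e a * 2 ^ e b = 2 ^ (e a + e b) := by rw [pow_add]
      _ ≤ 2 ^ e (a + b) := Nat.pow_le_pow_right (by norm_num) (e_add a b)
      _ ≤ _ := two_pow_e_le_B _

theorem B_mono {a b : ℕ} (h : a ≤ b) : B a ≤ B b := by
  obtain ⟨c, rfl⟩ := Nat.exists_eq_add_of_le h
  calc B a = B a * 1 := by ring
    _ ≤ B a * B c := Nat.mul_le_mul_left _ (B_pos c)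
    _ ≤ _ := B_supermul a c

theorem B_mul_le {x y : ℕ} (hx : 2 ≤ x) (hy : 2 ≤ y) : B x * B y ≤ B (x * y) := by
  refine le_trans (B_supermul x y) (B_mono ?_)
  nlinarith

end Cfsg.Agent.Lead.NilpSym
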