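import Cfsg.Agent.Lead.NilpSymA

/-! Prime power arithmetic: `p ^ ν_p((p^a)!) ≤ B (p^a)`. -/

namespace Cfsg.Agent.Lead.NilpSym

open Nat

/-- `ν_p((p^a)!)`. -/
def F (p a : ℕ) : ℕ := padicValNat p (p ^ a)!

theorem F_zero (p : ℕ) : F p 0 = 0 := by simp [F]

theorem F_succ (p a : ℕ) [Fact p.Prime] : F p (a + 1) = F p a + p ^ a := by
  unfold F
  rw [pow_succ', padicValNat_factorial_mul]

theorem F_one (p : ℕ) [Fact p.Prime] : F p 1 = 1 := by
  rw [F_succ, F_zero]; simp

theorem F_two (p : ℕ) [Fact p.Prime] : F p 2 = 1 + p := by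
  rw [F_succ, F_one]; simp

theorem F_rel (p a : ℕ) [hp : Fact p.Prime] : (p - 1) * F p a + 1 = p ^ a := by
  induction a with
  | zero => simp [F_zero]
  | succ a ih =>
    rw [F_succ, mul_add, pow_succ]
    have h1 : 1 ≤ p := hp.out.one_lt.le
    obtain ⟨q, rfl⟩ : ∃ q, p = q + 1 := ⟨p - 1, by omega⟩
    simp only [Nat.add_sub_cancel] at *
    nlinarith

theorem F_succ' (p a : ℕ) [hp : Fact p.Prime] : F p (a + 1) = p * F p a + 1 := by
  have h := F_rel p a
  rw [F_succ]
  have h1 : 1 ≤ p := hp.out.one_lt.le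
  obtain ⟨q, rfl⟩ : ∃ q, p = q + 1 := ⟨p - 1, by omega⟩
  simp only [Nat.add_sub_cancel] at h
  rw [← h]; ring

/-- The strengthened inductive statement. -/
def G (p a : ℕ) : Prop := p * p ^ F p a ≤ 2 ^ e (p ^ a)

theorem G_step (p a : ℕ) [hp : Fact p.Prime] (h : G p a) : G p (a + 1) := by
  unfold G at *
  have h2 : 2 ≤ p := hp.out.two_le
  have hexp : 1 + F p (a + 1) ≤ p * (1 + F p a) := by
    rw [F_succ']; nlinarith
  calc p * p ^ F p (a + 1) = p ^ (1 + F p (a + 1)) := by rw [pow_add, pow_one]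
    _ ≤ p ^ (p * (1 + F p a)) := Nat.pow_le_pow_right (by omega) hexp
    _ = (p * p ^ F p a) ^ p := by rw [mul_comm p (1 + F p a), pow_mul, pow_add, pow_one]
    _ ≤ (2 ^ e (p ^ a)) ^ p := Nat.pow_le_pow_left h p
    _ = 2 ^ (p * e (p ^ a)) := by rw [← pow_mul, mul_comm]
    _ ≤ 2 ^ e (p * p ^ a) := Nat.pow_le_pow_right (by norm_num) (e_mul p (p ^ a))
    _ = 2 ^ e (p ^ (a + 1)) := by rw [pow_succ']

theorem G_of_le (p a₀ : ℕ) [Fact p.Prime] (h : G p a₀) : ∀ a, a₀ ≤ a → G p a := by
  intro a ha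
  induction a, ha using Nat.le_induction with
  | base => exact h
  | succ a _ ih => exact G_step p a ih

theorem le_of_G {p a : ℕ} [hp : Fact p.Prime] (h : G p a) : p ^ F p a ≤ B (p ^ a) := by
  unfold G at h
  have h1 : 1 ≤ p := hp.out.one_lt.le
  calc p ^ F p a = 1 * p ^ F p a := by ring
    _ ≤ p * p ^ F p a := Nat.mul_le_mul_right _ h1
    _ ≤ 2 ^ e (p ^ a) := h
    _ ≤ _ := two_pow_e_le_B _

theorem e_two : e 2 = 1 := by
  have := e_double 1; rw [e_one] at this; simpa using this
theorem e_three : e 3 = 1 := by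
  have := e_double_add_one 1; rw [e_one] at this; simpa using this
theorem e_four : e 4 = 3 := by
  have := e_double 2; rw [e_two] at this; simpa using this
theorem e_five : e 5 = 3 := by
  have := e_double_add_one 2; rw [e_two] at this; simpa using this
theorem e_nine : e 9 = 7 := by
  have := e_double_add_one 4; rw [e_four] at this; simpa using this
theorem e_twelve : e 12 = 10 := by
  have := e_double 6; rw [e_six] at this; simpa using this
theorem e_thirteen : e 13 = 10 := by
  have := e_double_add_one 6; rw [e_six] at this; simpa using this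
theorem e_24 : e 24 = 22 := by
  have := e_double 12; rw [e_twelve] at this; simpa using this
theorem e_25 : e 25 = 22 := by
  have := e_double_add_one 12; rw [e_twelve] at this; simpa using this
theorem e_27 : e 27 = 23 := by
  have := e_double_add_one 13; rw [e_thirteen] at this; simpa using this
theorem e_49 : e 49 = 46 := by
  have := e_double_add_one 24; rw [e_24] at this; simpa using this

instance : Fact (Nat.Prime 3) := ⟨by norm_num⟩
instance : Fact (Nat.Prime 5) := ⟨by norm_num⟩
instance : Fact (Nat.Prime 7) := ⟨by norm_num⟩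

theorem G_three : G 3 3 := by
  unfold G
  have hF : F 3 3 = 13 := by rw [F_succ, F_two]; norm_num
  rw [hF, show (3:ℕ) ^ 3 = 27 by norm_num, e_27]; norm_num

theorem G_five : G 5 2 := by
  unfold G
  rw [F_two, show (5:ℕ) ^ 2 = 25 by norm_num, e_25]; norm_num

theorem G_seven : G 7 2 := by
  unfold G
  rw [F_two, show (7:ℕ) ^ 2 = 49 by norm_num, e_49]; norm_num

theorem sq_le_two_pow (k : ℕ) (hk : 5 ≤ k) : (2 * k + 1) ^ 2 ≤ 2 ^ (k + 3) := by
  induction k, hk using Nat.le_induction with
  | base => norm_num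
  | succ k hk ih =>
    have : 2 ^ (k + 1 + 3) = 2 * 2 ^ (k + 3) := by rw [pow_succ]; ring
    rw [this]
    nlinarith

theorem G_big (p : ℕ) [hp : Fact p.Prime] (h11 : 11 ≤ p) : G p 1 := by
  unfold G
  rw [F_one, pow_one]
  have hodd : p % 2 = 1 := by
    rcases hp.out.eq_two_or_odd with h | h
    · omega
    · exact h
  obtain ⟨k, rfl⟩ : ∃ k, p = 2 * k + 1 := ⟨p / 2, by omega⟩
  have hk : 5 ≤ k := by omega
  rw [e_double_add_one]
  have h4 : e 4 ≤ e k := e_mono (by omega)
  rw [e_four] at h4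
  calc (2 * k + 1) * (2 * k + 1) = (2 * k + 1) ^ 2 := by ring
    _ ≤ 2 ^ (k + 3) := sq_le_two_pow k hk
    _ ≤ 2 ^ (k + e k) := Nat.pow_le_pow_right (by norm_num) (by omega)

/-- The arithmetic lemma for odd prime powers. -/
theorem AL (p a : ℕ) [hp : Fact p.Prime] (hodd : p ≠ 2) (ha : 1 ≤ a) :
    p ^ F p a ≤ B (p ^ a) := by
  have h3 : 3 ≤ p := by
    have := hp.out.two_le; omega
  by_cases h11 : 11 ≤ p
  · exact le_of_G (G_of_le p 1 (G_big p h11) a ha)
  · have hcases : p = 3 ∨ p = 5 ∨ p = 7 := by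
      have hlt : p < 11 := by omega
      interval_cases p <;> simp_all (config := {decide := true})
    rcases hcases with rfl | rfl | rfl
    · -- p = 3
      rcases Nat.lt_or_ge a 3 with h | h
      · interval_cases a
        · rw [F_one]; norm_num [B, e_zero]
        · rw [F_two]
          have : B (3 ^ 2) = 2 ^ e 9 := by
            apply B_of_ne; norm_num
          rw [this, e_nine]; norm_num
      · exact le_of_G (G_of_le 3 3 G_three a h)
    · rcases Nat.lt_or_ge a 2 with h | h
      · interval_cases a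
        rw [F_one]
        have : B (5 ^ 1) = 2 ^ e 5 := by apply B_of_ne; norm_num
        rw [this, e_five]; norm_num
      · exact le_of_G (G_of_le 5 2 G_five a h)
    · rcases Nat.lt_or_ge a 2 with h | h
      · interval_cases a
        rw [F_one]
        have : B (7 ^ 1) = 3 * 2 ^ e 4 := by apply B_of_eq; norm_num
        rw [this, e_four]; norm_num
      · exact le_of_G (G_of_le 7 2 G_seven a h)

end Cfsg.Agent.Lead.NilpSym
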