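import Mathlib

/-! Coprime decomposition of a finite nilpotent group: `G = P R` with `P` a `p`-group,
`R` a `p'`-group centralizing `P`. -/

namespace Cfsg.Agent.Lead.NilpSym

open Subgroup

theorem sylow_sup_centralizer_eq_top (G : Type*) [Group G] [Finite G] [Group.IsNilpotent G]
    (p : ℕ) [hp : Fact p.Prime] (P : Sylow p G) :
    (P : Subgroup G) ⊔ Subgroup.centralizer ((P : Subgroup G) : Set G) = ⊤ := by
  set H : Subgroup G := (P : Subgroup G) ⊔ Subgroup.centralizer ((P : Subgroup G) : Set G) with hH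
  rw [← Subgroup.index_eq_one]
  by_contra hne
  obtain ⟨q, hq, hqd⟩ := Nat.exists_prime_and_dvd hne
  haveI := Fact.mk hq
  by_cases hqp : q = p
  · subst hqp
    have h1 : H.index ∣ (P : Subgroup G).index := Subgroup.index_dvd_of_le le_sup_left
    exact P.not_dvd_index (dvd_trans hqd h1)
  · obtain ⟨Q⟩ : Nonempty (Sylow q G) := inferInstance
    have hdis : Disjoint (Q : Subgroup G) (P : Subgroup G) :=
      IsPGroup.disjoint_of_ne q p hqp _ _ Q.2 P.2
    have hQC : (Q : Subgroup G) ≤ Subgroup.centralizer ((P : Subgroup G) : Set G) := by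
      intro x hx
      rw [Subgroup.mem_centralizer_iff]
      intro y hy
      exact (Subgroup.commute_of_normal_of_disjoint _ _ inferInstance inferInstance hdis x y hx hy).eq.symm
    have h1 : H.index ∣ (Q : Subgroup G).index :=
      Subgroup.index_dvd_of_le (le_trans hQC le_sup_right)
    exact Q.not_dvd_index (dvd_trans hqd h1)

theorem exists_decomp (G : Type*) [Group G] [Finite G] [Group.IsNilpotent G]
    (p : ℕ) [hp : Fact p.Prime] :
    ∃ P R : Subgroup G, IsPGroup p P ∧ (Nat.card R).Coprime (Nat.card P) ∧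
      (∀ u ∈ P, ∀ r ∈ R, u * r = r * u) ∧
      (∀ g : G, ∃ u ∈ P, ∃ r ∈ R, g = u * r) ∧ Nat.card G = Nat.card P * Nat.card R ∧
      (p ∣ Nat.card G → P ≠ ⊥) := by
  obtain ⟨P⟩ : Nonempty (Sylow p G) := inferInstance
  haveI : (P : Subgroup G).Normal := inferInstance
  have hcop : (Nat.card (P : Subgroup G)).Coprime (P : Subgroup G).index := P.card_coprime_index
  obtain ⟨R, hR⟩ := Subgroup.exists_right_complement'_of_coprime hcop
  have hcard : Nat.card (P : Subgroup G) * Nat.card R = Nat.card G := hR.card_mul_card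
  have hRidx : Nat.card R = (P : Subgroup G).index := by
    have h1 := (P : Subgroup G).card_mul_index
    have hpos : 0 < Nat.card (P : Subgroup G) := Nat.card_pos
    rw [← hcard] at h1
    exact (Nat.eq_of_mul_eq_mul_left hpos h1).symm
  have hcop' : (Nat.card R).Coprime (Nat.card (P : Subgroup G)) := by
    rw [hRidx]; exact hcop.symm
  have htop := sylow_sup_centralizer_eq_top G p P
  have hRC : ∀ r ∈ R, r ∈ Subgroup.centralizer ((P : Subgroup G) : Set G) := by
    intro r hr
    have hmem : r ∈ ((((P : Subgroup G) ⊔ Subgroup.centralizer ((P : Subgroup G) : Set G) :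
        Subgroup G)) : Set G) := by rw [htop]; trivial
    rw [Subgroup.normal_mul] at hmem
    obtain ⟨u, hu, c, hc, rfl⟩ := Set.mem_mul.mp hmem
    have huc : Commute u c := by
      have := (Subgroup.mem_centralizer_iff.mp hc) u hu
      exact this
    set m := Nat.card R with hm
    have hrm : (u * c) ^ m = 1 := by
      have h1 : (⟨u * c, hr⟩ : R) ^ Nat.card R = 1 := pow_card_eq_one'
      have h2 : (((⟨u * c, hr⟩ : R) ^ Nat.card R : R) : G) = ((1 : R) : G) := by rw [h1]
      rw [Subgroup.coe_pow, Subgroup.coe_one] at h2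
      exact h2
    rw [huc.mul_pow] at hrm
    have hum : u ^ m ∈ Subgroup.centralizer ((P : Subgroup G) : Set G) := by
      have : u ^ m = (c ^ m)⁻¹ := eq_inv_of_mul_eq_one_left hrm
      rw [this]
      exact Subgroup.inv_mem _ (Subgroup.pow_mem _ hc m)
    have hord : m.Coprime (orderOf u) := by
      have h1 : orderOf u ∣ Nat.card (P : Subgroup G) := by
        have := orderOf_dvd_natCard (⟨u, hu⟩ : (P : Subgroup G))
        rwa [Subgroup.orderOf_mk] at this
      exact Nat.Coprime.coprime_dvd_right h1 hcop'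
    obtain ⟨k, hk⟩ := exists_pow_eq_self_of_coprime hord
    have huC : u ∈ Subgroup.centralizer ((P : Subgroup G) : Set G) := by
      rw [← hk]; exact Subgroup.pow_mem _ hum k
    exact Subgroup.mul_mem _ huC hc
  refine ⟨P, R, P.2, hcop', ?_, ?_, hcard.symm, fun h => P.ne_bot_of_dvd_card h⟩
  · intro u hu r hr
    exact (Subgroup.mem_centralizer_iff.mp (hRC r hr)) u hu
  · intro g
    obtain ⟨x, hx, _⟩ := (Subgroup.isComplement'_def.mp hR).existsUnique g
    exact ⟨x.1.1, x.1.2, x.2.1, x.2.2, hx.symm⟩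

/-- Version for a nilpotent subgroup of an ambient group. -/
theorem exists_decomp_subgroup {G : Type*} [Group G] (N : Subgroup G) [Finite N]
    (hN : Group.IsNilpotent N) (p : ℕ) [hp : Fact p.Prime] :
    ∃ P R : Subgroup G, P ≤ N ∧ R ≤ N ∧ IsPGroup p P ∧ (Nat.card R).Coprime (Nat.card P) ∧
      (∀ u ∈ P, ∀ r ∈ R, u * r = r * u) ∧
      (∀ g ∈ N, ∃ u ∈ P, ∃ r ∈ R, g = u * r) ∧ Nat.card N = Nat.card P * Nat.card R ∧
      (p ∣ Nat.card N → P ≠ ⊥) := by
  obtain ⟨P, R, hP, hcop, hcomm, hprod, hcard, hne⟩ := exists_decomp N p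
  have hinj : Function.Injective N.subtype := N.subtype_injective
  have cP : Nat.card (P.map N.subtype) = Nat.card P :=
    Nat.card_congr (P.equivMapOfInjective N.subtype hinj).symm.toEquiv
  have cR : Nat.card (R.map N.subtype) = Nat.card R :=
    Nat.card_congr (R.equivMapOfInjective N.subtype hinj).symm.toEquiv
  refine ⟨P.map N.subtype, R.map N.subtype, ?_, ?_, ?_, ?_, ?_, ?_, ?_, ?_⟩
  · rintro _ ⟨x, _, rfl⟩; exact x.2
  · rintro _ ⟨x, _, rfl⟩; exact x.2
  · exact hP.map N.subtype
  · rw [cP, cR]; exact hcop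
  · rintro _ ⟨u, hu, rfl⟩ _ ⟨r, hr, rfl⟩
    have := hcomm u hu r hr
    have h2 := congrArg N.subtype this
    simpa using h2
  · intro g hg
    obtain ⟨u, hu, r, hr, h⟩ := hprod ⟨g, hg⟩
    refine ⟨u, ⟨u, hu, rfl⟩, r, ⟨r, hr, rfl⟩, ?_⟩
    have h2 := congrArg N.subtype h
    simpa using h2
  · rw [cP, cR]; exact hcard
  · intro hd hbot
    apply hne hd
    rw [eq_bot_iff]
    intro x hx
    have : N.subtype x ∈ P.map N.subtype := ⟨x, hx, rfl⟩
    rw [hbot, Subgroup.mem_bot] at this
    rw [Subgroup.mem_bot]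
    exact hinj (by simpa using this)

end Cfsg.Agent.Lead.NilpSym
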