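import Cfsg.Agent.Lead.NilpSymB
import Cfsg.Agent.Lead.NilpSymC

/-! Restriction homs, faithfulness on orbits, splitting. -/

namespace Cfsg.Agent.Lead.NilpSym

open Equiv

variable {α : Type*}

/-- Restriction of a permutation group to an invariant predicate. -/
def resHom (A : Subgroup (Perm α)) (p : α → Prop)
    (hp : ∀ g ∈ A, ∀ z, p (g z) ↔ p z) : A →* Perm {z // p z} where
  toFun g := (g : Perm α).subtypePerm (fun z => hp g g.2 z)
  map_one' := by ext; simp
  map_mul' g h := by ext; rfl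

theorem resHom_apply (A : Subgroup (Perm α)) (p : α → Prop)
    (hp : ∀ g ∈ A, ∀ z, p (g z) ↔ p z) (g : A) (z : {z // p z}) :
    ((resHom A p hp g z : {z // p z}) : α) = (g : Perm α) z := rfl

/-- The orbit predicate. -/
def orbPred (A : Subgroup (Perm α)) (a₀ : α) (z : α) : Prop := ∃ u ∈ A, u a₀ = z

theorem orbPred_inv (A : Subgroup (Perm α)) (a₀ : α) :
    ∀ g ∈ A, ∀ z, orbPred A a₀ (g z) ↔ orbPred A a₀ z := by
  intro g hg z
  constructor
  · rintro ⟨u, hu, h⟩
    refine ⟨g⁻¹ * u, A.mul_mem (A.inv_mem hg) hu, ?_⟩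
    simp [Perm.mul_apply, h]
  · rintro ⟨u, hu, h⟩
    exact ⟨g * u, A.mul_mem hg hu, by simp [Perm.mul_apply, h]⟩

theorem orbPred_self (A : Subgroup (Perm α)) (a₀ : α) : orbPred A a₀ a₀ := ⟨1, A.one_mem, rfl⟩

/-- Faithfulness on an orbit. -/
theorem faithful_on_orbit (A C : Subgroup (Perm α)) (a₀ : α)
    (hcomm : ∀ a ∈ A, ∀ c ∈ C, a * c = c * a)
    (htr : ∀ y : α, ∃ a ∈ A, ∃ c ∈ C, c (a a₀) = y)
    (u : Perm α) (hu : u ∈ A) (hfix : ∀ a ∈ A, u (a a₀) = a a₀) : u = 1 := by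
  ext y
  obtain ⟨a, ha, c, hc, rfl⟩ := htr y
  have h1 : u (c (a a₀)) = c (u (a a₀)) := by
    have := congrArg (fun f : Perm α => f (a a₀)) (hcomm u hu c hc)
    simpa [Perm.mul_apply] using this
  rw [h1, hfix a ha]; rfl

theorem resHom_orb_injective (A C : Subgroup (Perm α)) (a₀ : α)
    (hcomm : ∀ a ∈ A, ∀ c ∈ C, a * c = c * a)
    (htr : ∀ y : α, ∃ a ∈ A, ∃ c ∈ C, c (a a₀) = y) :
    Function.Injective (resHom A (orbPred A a₀) (orbPred_inv A a₀)) := by
  rw [injective_iff_map_eq_one]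
  intro g hg
  have : (g : Perm α) = 1 := by
    apply faithful_on_orbit A C a₀ hcomm htr g g.2
    intro a ha
    have h1 := congrArg (fun f : Perm {z // orbPred A a₀ z} => ((f ⟨a a₀, a, ha, rfl⟩ : {z // orbPred A a₀ z}) : α)) hg
    simpa [resHom_apply] using h1
  exact Subtype.ext this

/-- Splitting: a product `u r` of commuting elements of coprime groups fixing `a₀`. -/
theorem split_fix (P R : Subgroup (Perm α)) [Finite P] [Finite R]
    (hcop : (Nat.card R).Coprime (Nat.card P))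
    (hcomm : ∀ u ∈ P, ∀ r ∈ R, u * r = r * u) (a₀ : α)
    (u r : Perm α) (hu : u ∈ P) (hr : r ∈ R) (h : u (r a₀) = a₀) : u a₀ = a₀ ∧ r a₀ = a₀ := by
  have huc : Commute u r := hcomm u hu r hr
  set m := Nat.card R with hm
  have hrm : r ^ m = 1 := by
    have h1 : (⟨r, hr⟩ : R) ^ Nat.card R = 1 := pow_card_eq_one'
    have h2 : (((⟨r, hr⟩ : R) ^ Nat.card R : R) : Perm α) = ((1 : R) : Perm α) := by rw [h1]
    rw [Subgroup.coe_pow, Subgroup.coe_one] at h2
    exact h2
  have hfix : (u * r) a₀ = a₀ := by simpa [Perm.mul_apply] using h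
  have hpow : ((u * r) ^ m) a₀ = a₀ := by
    have : ∀ k : ℕ, ((u * r) ^ k) a₀ = a₀ := by
      intro k
      induction k with
      | zero => simp
      | succ k ih => rw [pow_succ, Perm.mul_apply, hfix, ih]
    exact this m
  rw [huc.mul_pow, hrm, mul_one] at hpow
  have hord : m.Coprime (orderOf u) := by
    have h1 : orderOf u ∣ Nat.card P := by
      have := orderOf_dvd_natCard (⟨u, hu⟩ : P)
      rwa [Subgroup.orderOf_mk] at this
    exact Nat.Coprime.coprime_dvd_right h1 hcop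
  obtain ⟨k, hk⟩ := exists_pow_eq_self_of_coprime hord
  have hu0 : u a₀ = a₀ := by
    have : ∀ j : ℕ, ((u ^ m) ^ j) a₀ = a₀ := by
      intro j
      induction j with
      | zero => simp
      | succ j ih => rw [pow_succ, Perm.mul_apply, hpow, ih]
    have h2 := this k
    rwa [hk] at h2
  refine ⟨hu0, ?_⟩
  have : u (r a₀) = u a₀ := by rw [h, hu0]
  exact u.injective this

end Cfsg.Agent.Lead.NilpSym
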