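import Cfsg.Agent.Lead.NilpSymD

/-! The main induction: nilpotent permutation groups of degree `n` have order at most `B n`. -/

namespace Cfsg.Agent.Lead.NilpSym

open Equiv

/-- Induction hypothesis. -/
def IH (n : ℕ) : Prop := ∀ m < n, ∀ (β : Type) [Finite β], Nat.card β = m →
    ∀ M : Subgroup (Perm β), Group.IsNilpotent M → Nat.card M ≤ B m

theorem range_card_le {n : ℕ} (ih : IH n) {α : Type} [Finite α] (A : Subgroup (Perm α))
    (hA : Group.IsNilpotent A) (p : α → Prop) (hp : ∀ g ∈ A, ∀ z, p (g z) ↔ p z)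
    (hlt : Nat.card {z // p z} < n) :
    Nat.card (resHom A p hp).range ≤ B (Nat.card {z // p z}) := by
  haveI := hA
  exact ih _ hlt {z // p z} rfl _
    (Group.nilpotent_of_surjective (resHom A p hp).rangeRestrict
      (resHom A p hp).rangeRestrict_surjective)

theorem intrans_case {n : ℕ} (ih : IH n) {α : Type} [Finite α] (hα : Nat.card α = n)
    (N : Subgroup (Perm α)) (hN : Group.IsNilpotent N)
    (x y : α) (hxy : ∀ g ∈ N, g x ≠ y) : Nat.card N ≤ B n := by
  classical
  have hp := orbPred_inv N x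
  have hp' : ∀ g ∈ N, ∀ z, ¬ orbPred N x (g z) ↔ ¬ orbPred N x z :=
    fun g hg z => not_congr (hp g hg z)
  have hsum : Nat.card {z // orbPred N x z} + Nat.card {z // ¬ orbPred N x z} = n := by
    rw [← hα, ← Nat.card_sum]; exact Nat.card_congr (Equiv.sumCompl (orbPred N x))
  have h1 : 0 < Nat.card {z // orbPred N x z} := by
    haveI : Nonempty {z // orbPred N x z} := ⟨⟨x, orbPred_self N x⟩⟩
    exact Nat.card_pos
  have h2 : 0 < Nat.card {z // ¬ orbPred N x z} := by
    haveI : Nonempty {z // ¬ orbPred N x z} := ⟨⟨y, fun ⟨g, hg, h⟩ => hxy g hg h⟩⟩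
    exact Nat.card_pos
  have hinj : Function.Injective (fun g : N =>
      ((resHom N (orbPred N x) hp).rangeRestrict g,
        (resHom N (fun z => ¬ orbPred N x z) hp').rangeRestrict g)) := by
    intro g h hgh
    simp only [Prod.mk.injEq] at hgh
    obtain ⟨e1, e2⟩ := hgh
    apply Subtype.ext
    ext z
    by_cases hz : orbPred N x z
    · have e1' := congrArg Subtype.val e1
      have := congrArg (fun f : Perm {z // orbPred N x z} => ((f ⟨z, hz⟩ : {z // orbPred N x z}) : α)) e1'
      simpa [resHom_apply] using this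
    · have e2' := congrArg Subtype.val e2
      have := congrArg (fun f : Perm {z // ¬ orbPred N x z} => ((f ⟨z, hz⟩ : {z // ¬ orbPred N x z}) : α)) e2'
      simpa [resHom_apply] using this
  have hle := Nat.card_le_card_of_injective _ hinj
  rw [Nat.card_prod] at hle
  have b1 := range_card_le ih N hN (orbPred N x) hp (by omega)
  have b2 := range_card_le ih N hN (fun z => ¬ orbPred N x z) hp' (by omega)
  calc Nat.card N ≤ _ := hle
    _ ≤ B (Nat.card {z // orbPred N x z}) * B (Nat.card {z // ¬ orbPred N x z}) :=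
        Nat.mul_le_mul b1 b2
    _ ≤ B (Nat.card {z // orbPred N x z} + Nat.card {z // ¬ orbPred N x z}) := B_supermul _ _
    _ = B n := by rw [hsum]

theorem pgroup_case {n : ℕ} {α : Type} [Finite α] [Nonempty α] (hα : Nat.card α = n)
    (N : Subgroup (Perm α)) (htr : ∀ x y : α, ∃ g ∈ N, g x = y) (p : ℕ) [hp : Fact p.Prime]
    (hPG : IsPGroup p N) : Nat.card N ≤ B n := by
  obtain ⟨k, hk⟩ := IsPGroup.iff_card.mp hPG
  have hdvd : p ^ k ∣ n.factorial := by
    rw [← hk, ← hα, ← Nat.card_perm]; exact Subgroup.card_subgroup_dvd_card N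
  have hk' : k ≤ padicValNat p n.factorial :=
    (padicValNat_dvd_iff_le (Nat.factorial_ne_zero n)).mp hdvd
  by_cases h2 : p = 2
  · subst h2
    rw [hk]; exact le_trans (Nat.pow_le_pow_right (by norm_num) hk') (two_pow_e_le_B n)
  · have hn : n ∣ p ^ k := by
      obtain ⟨a⟩ := ‹Nonempty α›
      haveI : MulAction.IsPretransitive N α :=
        ⟨fun x y => by obtain ⟨g, hg, h⟩ := htr x y; exact ⟨⟨g, hg⟩, h⟩⟩
      have h1 : (MulAction.stabilizer N a).index = Nat.card α :=
        MulAction.index_stabilizer_of_transitive (G := N) (x := a)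
      rw [← hk, ← hα, ← h1]
      exact Subgroup.index_dvd_card _
    obtain ⟨a', _, rfl⟩ := (Nat.dvd_prime_pow hp.out).mp hn
    rcases Nat.eq_zero_or_pos a' with rfl | ha'
    · simp only [pow_zero, Nat.factorial_one, padicValNat.one] at hk'
      rw [hk]
      have : k = 0 := by omega
      subst this
      simp only [pow_zero]
      exact B_pos 1
    · rw [hk]
      calc p ^ k ≤ p ^ F p a' := Nat.pow_le_pow_right hp.out.pos hk'
        _ ≤ _ := AL p a' h2 ha'

theorem split_case {n : ℕ} (ih : IH n) {α : Type} [Finite α] (hα : Nat.card α = n)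
    (N : Subgroup (Perm α)) (hN : Group.IsNilpotent N)
    (htr : ∀ x y : α, ∃ g ∈ N, g x = y)
    (hnp : ¬ ∃ p : ℕ, p.Prime ∧ IsPGroup p N) : Nat.card N ≤ B n := by
  classical
  have hc1 : Nat.card N ≠ 1 := by
    intro h
    exact hnp ⟨2, Nat.prime_two, IsPGroup.of_card (n := 0) (by simpa using h)⟩
  obtain ⟨p, hp, hpd⟩ := Nat.exists_prime_and_dvd hc1
  haveI := Fact.mk hp
  obtain ⟨P, R, hPN, hRN, hPp, hcop, hcomm, hprod, hcard, hPne⟩ :=
    exists_decomp_subgroup N hN p
  have hP1 : P ≠ ⊥ := hPne hpd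
  have hR1 : R ≠ ⊥ := by
    intro h
    obtain ⟨j, hj⟩ := IsPGroup.iff_card.mp hPp
    apply hnp
    refine ⟨p, hp, IsPGroup.of_card (n := j) ?_⟩
    rw [hcard, h, Subgroup.card_bot, mul_one, hj]
  rcases isEmpty_or_nonempty α with hE | ⟨⟨a₀⟩⟩
  · exact absurd (Subgroup.eq_bot_of_subsingleton P) hP1
  have hcomm' : ∀ a ∈ R, ∀ c ∈ P, a * c = c * a := fun a ha c hc => (hcomm c hc a ha).symm
  have htrP : ∀ y : α, ∃ a ∈ P, ∃ c ∈ R, c (a a₀) = y := by
    intro y
    obtain ⟨g, hg, h⟩ := htr a₀ y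
    obtain ⟨u, hu, r, hr, rfl⟩ := hprod g hg
    refine ⟨u, hu, r, hr, ?_⟩
    rw [hcomm u hu r hr] at h
    simpa [Perm.mul_apply] using h
  have htrR : ∀ y : α, ∃ a ∈ R, ∃ c ∈ P, c (a a₀) = y := by
    intro y
    obtain ⟨g, hg, h⟩ := htr a₀ y
    obtain ⟨u, hu, r, hr, rfl⟩ := hprod g hg
    exact ⟨r, hr, u, hu, by simpa [Perm.mul_apply] using h⟩
  have injP := resHom_orb_injective P R a₀ hcomm htrP
  have injR := resHom_orb_injective R P a₀ hcomm' htrR
  -- the injection
  have hxy : Nat.card {z // orbPred P a₀ z} * Nat.card {z // orbPred R a₀ z} ≤ n := by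
    rw [← hα, ← Nat.card_prod]
    let ψ : {z // orbPred P a₀ z} × {z // orbPred R a₀ z} → α :=
      fun zw => (Classical.choose zw.1.2) ((Classical.choose zw.2.2) a₀)
    apply Nat.card_le_card_of_injective ψ
    rintro ⟨z, w⟩ ⟨z', w'⟩ h
    obtain ⟨huP, huz⟩ := Classical.choose_spec z.2
    obtain ⟨hrR, hrw⟩ := Classical.choose_spec w.2
    obtain ⟨huP', huz'⟩ := Classical.choose_spec z'.2
    obtain ⟨hrR', hrw'⟩ := Classical.choose_spec w'.2
    simp only [ψ] at h
    set uz := Classical.choose z.2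
    set rw_ := Classical.choose w.2
    set uz' := Classical.choose z'.2
    set rw' := Classical.choose w'.2
    have key : (uz'⁻¹ * uz) ((rw'⁻¹ * rw_) a₀) = a₀ := by
      have c1 : (uz'⁻¹ * uz) * (rw'⁻¹ * rw_) = rw'⁻¹ * uz'⁻¹ * (uz * rw_) := by
        have hc : Commute (uz'⁻¹ * uz) rw'⁻¹ :=
          (hcomm _ (P.mul_mem (P.inv_mem huP') huP) _ (R.inv_mem hrR'))
        have hc2 : Commute uz'⁻¹ rw'⁻¹ := hcomm _ (P.inv_mem huP') _ (R.inv_mem hrR')
        calc (uz'⁻¹ * uz) * (rw'⁻¹ * rw_) = ((uz'⁻¹ * uz) * rw'⁻¹) * rw_ := by group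
          _ = (rw'⁻¹ * (uz'⁻¹ * uz)) * rw_ := by rw [hc.eq]
          _ = rw'⁻¹ * uz'⁻¹ * (uz * rw_) := by group
      have c2 : (uz * rw_) a₀ = (uz' * rw') a₀ := by simpa [Perm.mul_apply] using h
      have c3 : ((uz'⁻¹ * uz) * (rw'⁻¹ * rw_)) a₀ = a₀ := by
        rw [c1, Perm.mul_apply, c2]
        simp [Perm.mul_apply]
      simpa [Perm.mul_apply] using c3
    obtain ⟨k1, k2⟩ := split_fix P R hcop hcomm a₀ _ _ (P.mul_mem (P.inv_mem huP') huP)
      (R.mul_mem (R.inv_mem hrR') hrR) key
    have e1 : (z : α) = z' := by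
      rw [← huz, ← huz']
      have h3 : uz'⁻¹ (uz a₀) = a₀ := by simpa [Perm.mul_apply] using k1
      have h4 := congrArg uz' h3
      simpa using h4
    have e2 : (w : α) = w' := by
      rw [← hrw, ← hrw']
      have h3 : rw'⁻¹ (rw_ a₀) = a₀ := by simpa [Perm.mul_apply] using k2
      have h4 := congrArg rw' h3
      simpa using h4
    exact Prod.ext (Subtype.ext e1) (Subtype.ext e2)
  -- orbits have at least two points
  have two_le : ∀ (A C : Subgroup (Perm α)), A ≠ ⊥ → (∀ a ∈ A, ∀ c ∈ C, a * c = c * a) →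
      (∀ y : α, ∃ a ∈ A, ∃ c ∈ C, c (a a₀) = y) → 2 ≤ Nat.card {z // orbPred A a₀ z} := by
    intro A C hA hAC hAtr
    by_contra hlt
    have hle : Nat.card {z // orbPred A a₀ z} ≤ 1 := by omega
    haveI : Subsingleton {z // orbPred A a₀ z} := Finite.card_le_one_iff_subsingleton.mp hle
    apply hA
    rw [eq_bot_iff]
    intro u hu
    rw [Subgroup.mem_bot]
    apply faithful_on_orbit A C a₀ hAC hAtr u hu
    intro a ha
    have : (⟨u (a a₀), u * a, A.mul_mem hu ha, rfl⟩ : {z // orbPred A a₀ z}) = ⟨a a₀, a, ha, rfl⟩ :=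
      Subsingleton.elim _ _
    exact congrArg Subtype.val this
  have hx2 := two_le P R hP1 hcomm htrP
  have hy2 := two_le R P hR1 hcomm' htrR
  have hxlt : Nat.card {z // orbPred P a₀ z} < n := by nlinarith
  have hylt : Nat.card {z // orbPred R a₀ z} < n := by nlinarith
  have hPnil : Group.IsNilpotent P := hPp.isNilpotent
  have hRnil : Group.IsNilpotent R := by
    haveI := hN
    exact Group.nilpotent_of_mulEquiv (Subgroup.subgroupOfEquivOfLe hRN)
  have cP : Nat.card P = Nat.card (resHom P (orbPred P a₀) (orbPred_inv P a₀)).range :=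
    Nat.card_congr (MonoidHom.ofInjective injP).toEquiv
  have cR : Nat.card R = Nat.card (resHom R (orbPred R a₀) (orbPred_inv R a₀)).range :=
    Nat.card_congr (MonoidHom.ofInjective injR).toEquiv
  have bP := range_card_le ih P hPnil _ (orbPred_inv P a₀) hxlt
  have bR := range_card_le ih R hRnil _ (orbPred_inv R a₀) hylt
  calc Nat.card N = Nat.card P * Nat.card R := hcard
    _ ≤ B (Nat.card {z // orbPred P a₀ z}) * B (Nat.card {z // orbPred R a₀ z}) := by
        rw [cP, cR]; exact Nat.mul_le_mul bP bR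
    _ ≤ B (Nat.card {z // orbPred P a₀ z} * Nat.card {z // orbPred R a₀ z}) := B_mul_le hx2 hy2
    _ ≤ B n := B_mono hxy

theorem card_le_B : ∀ n : ℕ, ∀ (α : Type) [Finite α], Nat.card α = n →
    ∀ N : Subgroup (Perm α), Group.IsNilpotent N → Nat.card N ≤ B n := by
  intro n
  induction n using Nat.strong_induction_on with
  | _ n ih =>
  intro α _ hα N hN
  have ih' : IH n := fun m hm β _ hβ M hM => ih m hm β hβ M hM
  by_cases htr : ∀ x y : α, ∃ g ∈ N, g x = y
  · by_cases hpg : ∃ p : ℕ, p.Prime ∧ IsPGroup p N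
    · obtain ⟨p, hp, hPG⟩ := hpg
      haveI := Fact.mk hp
      rcases isEmpty_or_nonempty α with hE | hne
      · have : Nat.card N = 1 := by
          haveI : Subsingleton N := by
            constructor
            intro a b
            apply Subtype.ext
            ext z
            exact (hE.false z).elim
          exact Nat.card_unique
        rw [this]; exact B_pos n
      · exact pgroup_case hα N htr p hPG
    · exact split_case ih' hα N hN htr hpg
  · push Not at htr
    obtain ⟨x, y, hxy⟩ := htr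
    exact intrans_case ih' hα N hN x y hxy

end Cfsg.Agent.Lead.NilpSym
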