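import Mathlib
import Cfsg.Prelude.Def_LocalStructure

/-!
# Non-`p`-closed groups of least order: the structural part (lead, for S3875)

`H` finite, not `p`-closed, all proper subgroups and proper quotients `p`-closed, Sylow `p`-subgroups
of order `p`, `H` not simple.  Then `|H| = p * q ^ a` and the number of Sylow `p`-subgroups is a
non-trivial power of `q`.
-/

set_option autoImplicit false
set_option linter.unusedSectionVars false
set_option linter.style.haveILetI false

namespace Cfsg.Agent.Lead.Npc

open Subgroup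
open scoped Pointwise

variable {H : Type*} [Group H] [Finite H] {p : ℕ} [hp : Fact p.Prime]

/-- A `p`-closed subgroup containing the Sylow subgroup `P` normalizes `P`. -/
theorem npc_le_normalizer (P : Sylow p H) (K : Subgroup H) (hPK : (P : Subgroup H) ≤ K)
    (hK : Cfsg.IsPClosed p ↥K) : K ≤ normalizer ((P : Subgroup H) : Set H) := by
  have h1 : ((P.subtype hPK : Sylow p K) : Subgroup K).Normal := hK _
  rw [Sylow.coe_subtype] at h1
  exact (Subgroup.normal_subgroupOf_iff_le_normalizer hPK).mp h1

/-- A normal `p`-closed subgroup containing the Sylow subgroup `P` forces `P` to be normal. -/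
theorem npc_normal_of_le_normal (P : Sylow p H) (M : Subgroup H) [hM : M.Normal]
    (hPM : (P : Subgroup H) ≤ M) (hcl : Cfsg.IsPClosed p ↥M) : (P : Subgroup H).Normal := by
  have h1 : ((P.subtype hPM : Sylow p M) : Subgroup M).Normal := hcl _
  have : Subsingleton (Sylow p M) := (Sylow.unique_of_normal _ h1).instSubsingleton
  rw [← Subgroup.normalizer_eq_top_iff, eq_top_iff]
  intro g _
  refine Sylow.smul_eq_iff_mem_normalizer.mp ?_
  have hg : ((g • P : Sylow p H) : Subgroup H) ≤ M := by
    intro x hx
    have hx' : x ∈ MulAut.conj g • (P : Subgroup H) := hx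
    rw [Subgroup.mem_pointwise_smul_iff_inv_smul_mem] at hx'
    replace hx := hx'
    have h2 : (MulAut.conj g)⁻¹ • x ∈ M := hPM hx
    have h3 : x = g * ((MulAut.conj g)⁻¹ • x) * g⁻¹ := by
      simp [MulAut.smul_def, mul_assoc]
    rw [h3]
    exact hM.conj_mem _ h2 g
  have h4 := Subsingleton.elim ((g • P).subtype hg) (P.subtype hPM)
  have h5 := congrArg (fun S : Sylow p M => (S : Subgroup M)) h4
  simp only [Sylow.coe_subtype] at h5
  rw [Subgroup.subgroupOf_inj, inf_of_le_left hg, inf_of_le_left hPM] at h5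
  exact Sylow.ext h5


/-- If the centralizer of `P` is everything then `P` is normal. -/
theorem npc_normal_of_centralizer_eq_top (P : Subgroup H)
    (h : centralizer (P : Set H) = ⊤) : P.Normal := by
  refine ⟨fun x hx g => ?_⟩
  have hg : g ∈ centralizer (P : Set H) := by rw [h]; trivial
  have h1 : x * g = g * x := (Subgroup.mem_centralizer_iff.mp hg) x hx
  have h2 : g * x * g⁻¹ = x := by rw [← h1, mul_inv_cancel_right]
  rw [h2]; exact hx

/-- Two subgroups of coprime prime-power orders normalizing each other commute. -/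
theorem npc_le_centralizer_of_normalize {r : ℕ} [Fact r.Prime] (hrp : r ≠ p)
    (P R : Subgroup H) (hP : IsPGroup p P) (hR : IsPGroup r R)
    (h1 : P ≤ normalizer (R : Set H)) (h2 : R ≤ normalizer (P : Set H)) :
    R ≤ centralizer (P : Set H) := by
  have hdisj : Disjoint P R := IsPGroup.disjoint_of_ne p r (Ne.symm hrp) P R hP hR
  intro y hy
  rw [Subgroup.mem_centralizer_iff]
  intro x hx
  have hx' : x ∈ P := hx
  have ha : y * x * y⁻¹ * x⁻¹ ∈ P := by
    have := (Subgroup.mem_normalizer_iff.mp (h2 hy) x).mp hx'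
    exact P.mul_mem this (P.inv_mem hx')
  have hb : y * x * y⁻¹ * x⁻¹ ∈ R := by
    have h3 : x * y⁻¹ * x⁻¹ ∈ R :=
      (Subgroup.mem_normalizer_iff.mp (h1 hx') y⁻¹).mp (R.inv_mem hy)
    have : y * x * y⁻¹ * x⁻¹ = y * (x * y⁻¹ * x⁻¹) := by group
    rw [this]; exact R.mul_mem hy h3
  have hc : y * x * y⁻¹ * x⁻¹ = 1 := by
    have := (Subgroup.disjoint_def.mp hdisj) ha hb
    exact this
  have : y * x = x * y := by
    have h4 : y * x * y⁻¹ * x⁻¹ * x * y = x * y := by rw [hc, one_mul]
    rw [← h4]; group
  exact this.symm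


/-- **The structural step.**  `H` not `p`-closed with a Sylow `p`-subgroup `P` of order `p`, all
proper subgroups and proper quotients `p`-closed, and a proper non-trivial normal subgroup `N`.
Then there is a prime power `q ^ a ≡ 1 (mod p)`, `a > 0`, with `p * q ^ a ≤ |H|`. -/
theorem npc_nonsimple (P : Sylow p H) (hPn : ¬ (P : Subgroup H).Normal)
    (hPc : Nat.card (P : Subgroup H) = p)
    (hsub : ∀ K : Subgroup H, K ≠ ⊤ → Cfsg.IsPClosed p ↥K)
    (hquo : ∀ (N : Subgroup H) [N.Normal], N ≠ ⊥ → Cfsg.IsPClosed p (H ⧸ N))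
    (N : Subgroup H) [hN : N.Normal] (hN0 : N ≠ ⊥) (hN1 : N ≠ ⊤) :
    ∃ q a : ℕ, q.Prime ∧ 0 < a ∧ q ^ a % p = 1 ∧ p * q ^ a ≤ Nat.card H := by
  classical
  have hp1 : 1 < p := hp.out.one_lt
  have hH0 : Nat.card H ≠ 0 := Nat.card_pos.ne'
  -- Step 1: `N ⊔ P = ⊤`
  have hsup : N ⊔ (P : Subgroup H) = ⊤ := by
    by_contra hM
    have hS : ((Sylow.mapSurjective (QuotientGroup.mk'_surjective N) P : Sylow p (H ⧸ N)) :
        Subgroup (H ⧸ N)).Normal := hquo N hN0 _
    rw [Sylow.coe_mapSurjective] at hS
    have hMn : (N ⊔ (P : Subgroup H)).Normal := by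
      rw [← QuotientGroup.comap_map_mk' N (P : Subgroup H)]
      exact Subgroup.Normal.comap hS _
    exact hPn (npc_normal_of_le_normal P (N ⊔ (P : Subgroup H)) le_sup_right (hsub _ hM))
  -- Step 2: `P ⊓ N = ⊥`
  have hdisj : Disjoint (P : Subgroup H) N := by
    haveI : Fact (Nat.card ↥(P : Subgroup H)).Prime := ⟨by rw [hPc]; exact hp.out⟩
    rcases Subgroup.eq_bot_or_eq_top_of_prime_card (N.subgroupOf (P : Subgroup H)) with h | h
    · rw [Subgroup.subgroupOf_eq_bot] at h
      exact h.symm
    · rw [Subgroup.subgroupOf_eq_top] at h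
      exfalso
      apply hN1
      rw [← hsup]
      exact (sup_eq_left.mpr h).symm
  -- Step 3: `p * |N| = |H|`
  have hcompl : (P : Subgroup H).IsComplement' N := by
    apply Subgroup.isComplement'_of_disjoint_and_mul_eq_univ hdisj
    rw [← Subgroup.mul_normal, sup_comm, hsup]; rfl
  have hcard : p * Nat.card N = Nat.card H := by
    have := hcompl.card_mul_card
    rwa [hPc] at this
  have hNpos : 0 < Nat.card N := Nat.card_pos
  -- Step 4: `v_p(|H|) = 1`, `p ∤ |N|`
  have hv : (Nat.card H).factorization p = 1 := by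
    have h1 := P.card_eq_multiplicity
    rw [hPc] at h1
    have h2 : p ^ 1 = p ^ (Nat.card H).factorization p := by rw [pow_one]; exact h1
    exact (Nat.pow_right_injective hp1 h2).symm
  have hp2 : ¬ p ^ 2 ∣ Nat.card H := by
    intro h
    have := (hp.out.pow_dvd_iff_le_factorization hH0).mp h
    omega
  have hpN : ¬ p ∣ Nat.card N := by
    intro h
    apply hp2
    rw [← hcard, pow_two]
    exact Nat.mul_dvd_mul_left p h
  -- Step 5: `N.index = p`
  have hidx : N.index = p := by
    have h1 := N.card_mul_index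
    rw [← hcard, mul_comm p] at h1
    exact Nat.eq_of_mul_eq_mul_left hNpos h1
  -- Step 6: Sylow `r`-subgroups lie in `N` for `r ≠ p`
  have hle : ∀ (r : ℕ) [Fact r.Prime], r ≠ p → ∀ R : Sylow r H, (R : Subgroup H) ≤ N := by
    intro r hr hrp R x hx
    have h1 : orderOf (QuotientGroup.mk' N x) ∣ p := by
      have := orderOf_dvd_natCard (QuotientGroup.mk' N x)
      rwa [← Subgroup.index_eq_card, hidx] at this
    have h2 : orderOf (QuotientGroup.mk' N x) ∣ Nat.card (R : Subgroup H) :=
      (orderOf_map_dvd _ x).trans (Subgroup.orderOf_dvd_natCard _ hx)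
    rw [R.card_eq_multiplicity] at h2
    have h3 : Nat.Coprime p (r ^ (Nat.card H).factorization r) :=
      Nat.Coprime.pow_right _ ((Nat.coprime_primes hp.out hr.out).mpr (Ne.symm hrp))
    have h4 : orderOf (QuotientGroup.mk' N x) = 1 := Nat.eq_one_of_dvd_coprimes h3 h1 h2
    rw [orderOf_eq_one_iff] at h4
    exact (QuotientGroup.eq_one_iff x).mp h4
  -- Step 7: a `P`-invariant Sylow `r`-subgroup
  have hfix : ∀ (r : ℕ) [Fact r.Prime], r ≠ p →
      ∃ R : Sylow r H, (P : Subgroup H) ≤ normalizer ((R : Subgroup H) : Set H) := by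
    intro r hr hrp
    have hnd : ¬ p ∣ Nat.card (Sylow r H) := by
      obtain ⟨R₀⟩ : Nonempty (Sylow r H) := inferInstance
      rw [R₀.card_eq_index_normalizer]
      set A := normalizer ((R₀ : Subgroup H) : Set H) with hA
      have hfr : A ⊔ N = ⊤ := Sylow.normalizer_sup_eq_top' R₀ (hle r hrp R₀)
      have h1 : N.relIndex A = p := by
        rw [← Subgroup.relIndex_sup_right A N, hfr, Subgroup.relIndex_top_right, hidx]
      have h2 : p ∣ Nat.card A := h1 ▸ Subgroup.relIndex_dvd_card N A
      intro h3
      apply hp2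
      rw [← A.card_mul_index, pow_two]
      exact Nat.mul_dvd_mul h2 h3
    obtain ⟨R, hR⟩ := IsPGroup.nonempty_fixed_point_of_prime_not_dvd_card P.isPGroup'
      (Sylow r H) hnd
    refine ⟨R, fun x hx => ?_⟩
    rw [MulAction.mem_fixedPoints] at hR
    have := hR ⟨x, hx⟩
    exact Sylow.smul_eq_iff_mem_normalizer.mp this
  -- Step 8: dichotomy for a `P`-invariant Sylow `r`-subgroup
  have hdich : ∀ (r : ℕ) [Fact r.Prime], r ≠ p → ∀ R : Sylow r H,
      (P : Subgroup H) ≤ normalizer ((R : Subgroup H) : Set H) →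
      Nat.card (R : Subgroup H) = Nat.card N ∨
        (R : Subgroup H) ≤ centralizer ((P : Subgroup H) : Set H) := by
    intro r hr hrp R hPR
    by_cases hK : (R : Subgroup H) ⊔ (P : Subgroup H) = ⊤
    · left
      have hRn : (R : Subgroup H).Normal := by
        rw [← Subgroup.normalizer_eq_top_iff, eq_top_iff, ← hK]
        exact sup_le Subgroup.le_normalizer hPR
      have hd : Disjoint (P : Subgroup H) (R : Subgroup H) :=
        IsPGroup.disjoint_of_ne p r (Ne.symm hrp) _ _ P.isPGroup' R.isPGroup'
      have hc : (P : Subgroup H).IsComplement' (R : Subgroup H) := by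
        apply Subgroup.isComplement'_of_disjoint_and_mul_eq_univ hd
        rw [← Subgroup.mul_normal, sup_comm, hK]; rfl
      have := hc.card_mul_card
      rw [hPc, ← hcard] at this
      exact Nat.eq_of_mul_eq_mul_left hp.out.pos this
    · right
      have h1 : (R : Subgroup H) ⊔ (P : Subgroup H) ≤ normalizer ((P : Subgroup H) : Set H) :=
        npc_le_normalizer P _ le_sup_right (hsub _ hK)
      exact npc_le_centralizer_of_normalize hrp _ _ P.isPGroup' R.isPGroup' hPR
        (le_sup_left.trans h1)
  -- Step 9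
  by_cases hex : ∃ (r : ℕ) (_ : Fact r.Prime), r ≠ p ∧ ∃ R : Sylow r H,
      Nat.card (R : Subgroup H) = Nat.card N
  · obtain ⟨r, hr, hrp, R, hRN⟩ := hex
    have hNr : Nat.card N = r ^ (Nat.card H).factorization r := by
      rw [← hRN]; exact R.card_eq_multiplicity
    -- the number of Sylow `p`-subgroups divides `|N|`
    have hPidx : (P : Subgroup H).index = Nat.card N := by
      have h1 := (P : Subgroup H).card_mul_index
      rw [hPc, ← hcard] at h1
      exact Nat.eq_of_mul_eq_mul_left hp.out.pos h1
    have hnp : Nat.card (Sylow p H) ∣ r ^ (Nat.card H).factorization r := by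
      rw [← hNr, ← hPidx]; exact P.card_dvd_index
    obtain ⟨b, hb, hnb⟩ := (Nat.dvd_prime_pow hr.out).mp hnp
    have hmod : Nat.card (Sylow p H) % p = 1 := by
      have := card_sylow_modEq_one p H
      rw [Nat.ModEq, Nat.mod_eq_of_lt hp1] at this
      exact this
    have hb0 : 0 < b := by
      rcases Nat.eq_zero_or_pos b with h | h
      · exfalso
        rw [h, pow_zero] at hnb
        haveI : Subsingleton (Sylow p H) := (Nat.card_eq_one_iff_unique.mp hnb).1
        exact hPn (Sylow.normal_of_subsingleton P)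
      · exact h
    refine ⟨r, b, hr.out, hb0, by rw [← hnb]; exact hmod, ?_⟩
    rw [← hcard, hNr]
    exact Nat.mul_le_mul_left p (Nat.pow_le_pow_right hr.out.pos hb)
  · exfalso
    apply hPn
    apply npc_normal_of_centralizer_eq_top
    set C := centralizer ((P : Subgroup H) : Set H) with hC
    have hC0 : Nat.card C ≠ 0 := Nat.card_pos.ne'
    have hPC : (P : Subgroup H) ≤ C := by
      haveI : Fact (Nat.card ↥(P : Subgroup H)).Prime := ⟨by rw [hPc]; exact hp.out⟩
      haveI : IsCyclic ↥(P : Subgroup H) := isCyclic_of_prime_card rfl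
      intro x hx
      rw [hC, Subgroup.mem_centralizer_iff]
      intro y hy
      have := (IsCyclic.commGroup (α := ↥(P : Subgroup H))).mul_comm ⟨y, hy⟩ ⟨x, hx⟩
      exact congrArg Subtype.val this
    have hdvd : Nat.card H ∣ Nat.card C := by
      rw [← Nat.factorization_le_iff_dvd hH0 hC0]
      intro r
      by_cases hr : r.Prime
      · haveI : Fact r.Prime := ⟨hr⟩
        rw [← hr.pow_dvd_iff_le_factorization hC0]
        by_cases hrp : r = p
        · subst hrp
          rw [hv, pow_one]
          have := Subgroup.card_dvd_of_le hPC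
          rwa [hPc] at this
        · obtain ⟨R, hR⟩ := hfix r hrp
          rcases hdich r hrp R hR with h | h
          · exact absurd ⟨r, ⟨hr⟩, hrp, R, h⟩ hex
          · have := Subgroup.card_dvd_of_le h
            rwa [R.card_eq_multiplicity] at this
      · rw [Nat.factorization_eq_zero_of_not_prime _ hr]
        exact Nat.zero_le _
    have hle' : Nat.card C ≤ Nat.card H := Subgroup.card_le_card_group C
    exact Subgroup.eq_top_of_card_eq C (le_antisymm hle' (Nat.le_of_dvd Nat.card_pos hdvd))

end Cfsg.Agent.Lead.Npc
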