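import Mathlib
import Cfsg.Prelude.Def_LocalStructure
import Cfsg.Agent.Helper8.DkSolv
import Cfsg.Agent.BR.RedK

/-!
# Non-`p`-closed groups of least order: the two witnesses (lead, for S3875)

* `npc_affine`: the Frobenius group `F_{q^k} ⋊ C_p` (`q ^ k ≡ 1 (mod p)`) of order `p * q ^ k`;
* `npc_psl`: `PSL₂(p)` of order `p (p² - 1) / 2` for `p ≥ 5`.
-/

set_option autoImplicit false
set_option linter.unusedSectionVars false
set_option linter.style.haveILetI false

namespace Cfsg.Agent.Lead.Npc

open Subgroup

/-- Multiplication by a unit, as an automorphism of `Multiplicative F`. -/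
def npcMulAut (F : Type*) [Field F] : Fˣ →* MulAut (Multiplicative F) where
  toFun u :=
    { toFun := fun x => Multiplicative.ofAdd ((u : F) * Multiplicative.toAdd x)
      invFun := fun x => Multiplicative.ofAdd ((↑u⁻¹ : F) * Multiplicative.toAdd x)
      left_inv := fun x => by simp
      right_inv := fun x => by simp
      map_mul' := fun x y => by simp [mul_add] }
  map_one' := by ext x; simp
  map_mul' := fun u v => by ext x; simp [mul_assoc]

theorem npcMulAut_apply (F : Type*) [Field F] (u : Fˣ) (x : Multiplicative F) :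
    npcMulAut F u x = Multiplicative.ofAdd ((u : F) * Multiplicative.toAdd x) := rfl

/-- The affine witness. -/
theorem npc_affine (p : ℕ) [hp : Fact p.Prime] (q k : ℕ) [hq : Fact q.Prime] (hk : 0 < k)
    (hmod : q ^ k % p = 1) :
    ∃ (H : Type) (_ : Group H) (_ : Finite H), Nat.card H = p * q ^ k ∧ ¬ Cfsg.IsPClosed p H := by
  classical
  have hp1 : 1 < p := hp.out.one_lt
  set F := GaloisField q k with hF
  have hFc : Nat.card F = q ^ k := GaloisField.card q k hk.ne'
  have hqk : 1 ≤ q ^ k := Nat.one_le_pow _ _ hq.out.pos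
  have hdvd : p ∣ Nat.card Fˣ := by
    rw [Nat.card_units, hFc]
    have h1 : q ^ k = p * (q ^ k / p) + 1 := by
      have := Nat.div_add_mod (q ^ k) p
      rw [hmod] at this
      exact this.symm
    exact ⟨q ^ k / p, by omega⟩
  obtain ⟨a, ha⟩ := exists_prime_orderOf_dvd_card' p hdvd
  set A := Subgroup.zpowers a with hA
  have hAc : Nat.card A = p := by rw [hA, Nat.card_zpowers, ha]
  set φ : A →* MulAut (Multiplicative F) := (npcMulAut F).comp A.subtype with hφ
  haveI hfin : Finite (Multiplicative F ⋊[φ] A) :=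
    Finite.of_equiv _ (SemidirectProduct.equivProd (φ := φ)).symm
  refine ⟨Multiplicative F ⋊[φ] A, inferInstance, hfin, ?_, ?_⟩
  · rw [SemidirectProduct.card, Nat.card_congr Multiplicative.toAdd, hFc, hAc, mul_comm]
  · intro hcl
    have hcard : Nat.card (Multiplicative F ⋊[φ] A) = p * q ^ k := by
      rw [SemidirectProduct.card, Nat.card_congr Multiplicative.toAdd, hFc, hAc, mul_comm]
    have hpq : ¬ p ∣ q ^ k := by
      intro h
      have := Nat.mod_eq_zero_of_dvd h
      omega
    set T : Subgroup (Multiplicative F ⋊[φ] A) :=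
      (SemidirectProduct.inr : A →* Multiplicative F ⋊[φ] A).range with hT
    have hTc : Nat.card T = p := by
      rw [hT, Nat.card_congr
        (MonoidHom.ofInjective (f := (SemidirectProduct.inr : A →* Multiplicative F ⋊[φ] A))
          SemidirectProduct.inr_injective).symm.toEquiv, hAc]
    have hTp : IsPGroup p T := IsPGroup.of_card (n := 1) (by rw [hTc, pow_one])
    obtain ⟨S, hTS⟩ := hTp.exists_le_sylow
    have hSc : Nat.card (S : Subgroup (Multiplicative F ⋊[φ] A)) = p := by
      rw [S.card_eq_multiplicity, hcard]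
      have h1 : (p * q ^ k).factorization p = 1 := by
        rw [Nat.factorization_mul hp.out.ne_zero (by positivity), Finsupp.add_apply,
          hp.out.factorization_self, Nat.factorization_eq_zero_of_not_dvd hpq]
      rw [h1, pow_one]
    have hTS' : T = (S : Subgroup (Multiplicative F ⋊[φ] A)) := Subgroup.eq_of_le_of_card_ge hTS (by rw [hSc, hTc])
    have hSn : (S : Subgroup (Multiplicative F ⋊[φ] A)).Normal := hcl S
    rw [← hTS'] at hSn
    -- conjugate `inr a` by `inl (ofAdd 1)`
    have hmem : (SemidirectProduct.inr ⟨a, Subgroup.mem_zpowers a⟩ :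
        Multiplicative F ⋊[φ] A) ∈ T := ⟨_, rfl⟩
    have hconj := hSn.conj_mem _ hmem (SemidirectProduct.inl (Multiplicative.ofAdd (1 : F)))
    obtain ⟨g, hg⟩ := hconj
    have hleft := congrArg SemidirectProduct.left hg
    simp only [SemidirectProduct.left_inr, SemidirectProduct.mul_left, SemidirectProduct.left_inl,
      SemidirectProduct.right_inl, SemidirectProduct.mul_right, SemidirectProduct.right_inr,
      SemidirectProduct.inv_left, map_one, MulAut.one_apply, one_mul, mul_one, inv_one,
      hφ, MonoidHom.comp_apply, Subgroup.coe_subtype, npcMulAut_apply, toAdd_inv, toAdd_ofAdd,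
      ] at hleft
    have h2 : (1 : F) + (a : F) * (-1) = 0 := by
      have := congrArg Multiplicative.toAdd hleft
      simpa using this.symm
    have h3 : (a : F) = 1 := by
      have : (1 : F) - a = 0 := by rw [← h2]; ring
      exact (sub_eq_zero.mp this).symm
    have h4 : a = 1 := Units.ext h3
    rw [h4, orderOf_one] at ha
    omega


/-- The `PSL₂(p)` witness. -/
theorem npc_psl (p : ℕ) [hp : Fact p.Prime] (hp5 : 5 ≤ p) :
    ∃ (H : Type) (_ : Group H) (_ : Finite H), Nat.card H = p * (p ^ 2 - 1) / 2 ∧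
      ¬ Cfsg.IsPClosed p H := by
  classical
  have hodd : Odd p := hp.out.odd_of_ne_two (by omega)
  have hFc : Fintype.card (ZMod p) = p := ZMod.card p
  have h2 := Cfsg.Agent.BR.br_redK_card_psl_odd (F := ZMod p) hFc hodd
  have hcard : Nat.card (Matrix.ProjectiveSpecialLinearGroup (Fin 2) (ZMod p)) =
      p * (p ^ 2 - 1) / 2 := by
    rw [← h2, Nat.mul_div_cancel_left _ (by norm_num)]
  have h4 : 4 ≤ Fintype.card (ZMod p) := by rw [hFc]; omega
  haveI hs := Cfsg.Agent.Helper8.Dk.isSimpleGroup_PSL2_of_card (F := ZMod p) h4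
  refine ⟨Matrix.ProjectiveSpecialLinearGroup (Fin 2) (ZMod p), inferInstance, inferInstance,
    hcard, ?_⟩
  intro hcl
  obtain ⟨P⟩ : Nonempty (Sylow p (Matrix.ProjectiveSpecialLinearGroup (Fin 2) (ZMod p))) :=
    inferInstance
  have hPn := hcl P
  have hdvd : p ∣ Nat.card (Matrix.ProjectiveSpecialLinearGroup (Fin 2) (ZMod p)) := by
    have : p ∣ 2 * Nat.card (Matrix.ProjectiveSpecialLinearGroup (Fin 2) (ZMod p)) := by
      rw [h2]; exact dvd_mul_right _ _
    rcases (Nat.Prime.dvd_mul hp.out).mp this with h | h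
    · have := Nat.le_of_dvd (by norm_num) h
      omega
    · exact h
  rcases hPn.eq_bot_or_eq_top with h | h
  · exact P.ne_bot_of_dvd_card hdvd h
  · have h5 : IsPGroup p (⊤ : Subgroup (Matrix.ProjectiveSpecialLinearGroup (Fin 2) (ZMod p))) :=
      h ▸ P.isPGroup'
    have h6 : IsPGroup p (Matrix.ProjectiveSpecialLinearGroup (Fin 2) (ZMod p)) :=
      h5.of_equiv Subgroup.topEquiv
    haveI := h6.isNilpotent
    exact Cfsg.Agent.Helper8.Dk.not_isSolvable_PSL2 (F := ZMod p) h4 inferInstance

end Cfsg.Agent.Lead.Npc
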