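import Mathlib
import Cfsg.Agent.Lead.NpcA
import Cfsg.Agent.S0999
import Cfsg.Agent.BR.RedK

/-!
# Non-`p`-closed groups of least order: the lower bound (lead, for S3875)

Every finite group that is not `p`-closed (`p` odd) has order at least
`min (p * m) (p (p² - 1) / 2)`, `m` the least prime power `≡ 1 (mod p)`.
Minimal counterexample + `npc_nonsimple` + Brauer–Reynolds (S0999) in the simple case.
-/

set_option autoImplicit false
set_option linter.unusedSectionVars false
set_option linter.style.haveILetI false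

namespace Cfsg.Agent.Lead.Npc

open Subgroup

theorem npc_arith1 (p : ℕ) : p * (p ^ 2 - 1) / 2 ≤ p ^ 3 := by
  calc p * (p ^ 2 - 1) / 2 ≤ p * (p ^ 2 - 1) := Nat.div_le_self _ _
    _ ≤ p * p ^ 2 := Nat.mul_le_mul_left _ (Nat.sub_le _ _)
    _ = p ^ 3 := by ring

theorem npc_arith2 (t : ℕ) (ht : 4 ≤ t) :
    (t + 1) * ((t + 1) ^ 2 - 1) / 2 ≤ t * (t ^ 2 - 1) := by
  obtain ⟨s, rfl⟩ : ∃ s, t = s + 4 := ⟨t - 4, by omega⟩
  have h1 : (s + 4 + 1) ^ 2 - 1 = s ^ 2 + 10 * s + 24 := by
    have : (s + 4 + 1) ^ 2 = s ^ 2 + 10 * s + 24 + 1 := by ring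
    omega
  have h2 : (s + 4) ^ 2 - 1 = s ^ 2 + 8 * s + 15 := by
    have : (s + 4) ^ 2 = s ^ 2 + 8 * s + 15 + 1 := by ring
    omega
  rw [h1, h2]
  apply Nat.div_le_of_le_mul
  nlinarith [sq_nonneg s, Nat.zero_le s]

/-- The lower bound. -/
theorem npc_lower (p : ℕ) [hp : Fact p.Prime] (hp2 : p ≠ 2) (m : ℕ)
    (hleast : ∀ k : ℕ, IsPrimePow k → k % p = 1 → m ≤ k) :
    ∀ (n : ℕ) (H : Type) [Group H] [Finite H], Nat.card H = n → ¬ Cfsg.IsPClosed p H →
      min (p * m) (p * (p ^ 2 - 1) / 2) ≤ n := by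
  intro n
  induction n using Nat.strong_induction_on with
  | _ n ih =>
  intro H _ _ hn hnc
  classical
  have hp1 : 1 < p := hp.out.one_lt
  -- a non-`p`-closed proper subgroup
  by_cases hA : ∃ K : Subgroup H, K ≠ ⊤ ∧ ¬ Cfsg.IsPClosed p ↥K
  · obtain ⟨K, hK0, hK⟩ := hA
    have hlt : Nat.card K < n := by
      rw [← hn]
      exact lt_of_le_of_ne (Subgroup.card_le_card_group K)
        (fun h => hK0 (Subgroup.eq_top_of_card_eq K h))
    exact (ih _ hlt ↥K rfl hK).trans hlt.le
  -- a non-`p`-closed proper quotient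
  by_cases hB : ∃ (N : Subgroup H) (_ : N.Normal), N ≠ ⊥ ∧ ¬ Cfsg.IsPClosed p (H ⧸ N)
  · obtain ⟨N, hNn, hN0, hN⟩ := hB
    have hlt : Nat.card (H ⧸ N) < n := by
      rw [← hn, ← Subgroup.index_eq_card, ← N.card_mul_index]
      have h1 : 1 < Nat.card N := (Subgroup.one_lt_card_iff_ne_bot N).mpr hN0
      have h2 : 0 < N.index := Nat.pos_of_ne_zero (Subgroup.index_ne_zero_of_finite)
      nlinarith
    exact (ih _ hlt (H ⧸ N) rfl hN).trans hlt.le
  -- the minimal situation
  have hsub : ∀ K : Subgroup H, K ≠ ⊤ → Cfsg.IsPClosed p ↥K := by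
    intro K hK
    by_contra h
    exact hA ⟨K, hK, h⟩
  have hquo : ∀ (N : Subgroup H) [N.Normal], N ≠ ⊥ → Cfsg.IsPClosed p (H ⧸ N) := by
    intro N hNn hN
    by_contra h
    exact hB ⟨N, hNn, hN, h⟩
  obtain ⟨P, hPn⟩ : ∃ P : Sylow p H, ¬ (P : Subgroup H).Normal := by
    by_contra h
    push Not at h
    exact hnc h
  have hH0 : Nat.card H ≠ 0 := Nat.card_pos.ne'
  have hPcard := P.card_eq_multiplicity
  have hbnd : min (p * m) (p * (p ^ 2 - 1) / 2) ≤ p ^ 3 :=
    (min_le_right _ _).trans (npc_arith1 p)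
  -- the number of Sylow `p`-subgroups is at least `p + 1`
  have hnp : p + 1 ≤ Nat.card (Sylow p H) := by
    have h1 := card_sylow_modEq_one p H
    rw [Nat.ModEq, Nat.mod_eq_of_lt hp1] at h1
    have h2 : Nat.card (Sylow p H) ≠ 1 := by
      intro h
      haveI : Subsingleton (Sylow p H) := (Nat.card_eq_one_iff_unique.mp h).1
      exact hPn (Sylow.normal_of_subsingleton P)
    have h3 := Nat.div_add_mod (Nat.card (Sylow p H)) p
    rw [h1] at h3
    rcases Nat.eq_zero_or_pos (Nat.card (Sylow p H) / p) with h | h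
    · rw [h] at h3; omega
    · nlinarith
  have hHcard : Nat.card (Sylow p H) * Nat.card (P : Subgroup H) ≤ Nat.card H := by
    rw [P.card_eq_index_normalizer, ← (normalizer ((P : Subgroup H) : Set H)).index_mul_card]
    exact Nat.mul_le_mul_left _ (Subgroup.card_le_of_le Subgroup.le_normalizer)
  rw [← hn]
  -- the order of `P`
  rcases Nat.lt_or_ge ((Nat.card H).factorization p) 2 with hv | hv
  · have hv1 : (Nat.card H).factorization p = 1 := by
      rcases Nat.eq_zero_or_pos ((Nat.card H).factorization p) with h | h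
      · exfalso
        rw [h, pow_zero] at hPcard
        have : (P : Subgroup H) = ⊥ := Subgroup.card_eq_one.mp hPcard
        exact hPn (this ▸ inferInstance)
      · omega
    have hPc : Nat.card (P : Subgroup H) = p := by rw [hPcard, hv1, pow_one]
    by_cases hs : IsSimpleGroup H
    · haveI := hs
      by_cases hbig : Nat.card H < p ^ 3
      · have hcyc : ¬ IsCyclic H := by
          intro hc
          haveI := hc
          letI : CommGroup H := IsCyclic.commGroup
          exact hPn inferInstance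
        have hdvd : p ∣ Nat.card H := by
          have := Subgroup.card_subgroup_dvd_card (P : Subgroup H)
          rwa [hPc] at this
        rcases Cfsg.Agent.S0999.result hcyc p hp.out hdvd hbig with
          ⟨F, _, _, hFc, _, ⟨e⟩⟩ | ⟨m', F, _, _, hFc, hpm, h3p, ⟨e⟩⟩
        · have hodd : Odd p := hp.out.odd_of_ne_two hp2
          have h2 := Cfsg.Agent.BR.br_redK_card_psl_odd (F := F) hFc hodd
          rw [← Nat.card_congr e.toEquiv] at h2
          refine (min_le_right _ _).trans ?_
          rw [← h2, Nat.mul_div_cancel_left _ (by norm_num)]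
        · have hm1 : 1 ≤ m' := by
            rcases Nat.eq_zero_or_pos m' with h | h
            · rw [h] at hpm; omega
            · exact h
          have h2 := Cfsg.Agent.BR.br_redK_card_psl_even (F := F) hm1 hFc
          rw [← Nat.card_congr e.toEquiv] at h2
          refine (min_le_right _ _).trans ?_
          have h4 : 4 ≤ 2 ^ m' := by
            have h5 : 2 ≤ m' := by
              by_contra h
              have : m' = 1 := by omega
              rw [this] at hpm
              omega
            calc 4 = 2 ^ 2 := by norm_num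
              _ ≤ 2 ^ m' := Nat.pow_le_pow_right (by norm_num) h5
          rw [h2, hpm]
          exact npc_arith2 _ h4
      · exact hbnd.trans (not_lt.mp hbig)
    · -- `H` is not simple
      haveI : Nontrivial H := by
        by_contra h
        rw [not_nontrivial_iff_subsingleton] at h
        haveI := h
        have : (P : Subgroup H) = ⊥ := Subsingleton.elim _ _
        exact hPn (this ▸ inferInstance)
      obtain ⟨N, hNn, hN0, hN1⟩ : ∃ (N : Subgroup H) (_ : N.Normal), N ≠ ⊥ ∧ N ≠ ⊤ := by
        by_contra h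
        push Not at h
        exact hs ⟨fun N hN => or_iff_not_imp_left.mpr (h N hN)⟩
      obtain ⟨q, a, hq, ha, hqa, hle⟩ := npc_nonsimple P hPn hPc hsub hquo N hN0 hN1
      have hm : m ≤ q ^ a := hleast _ ((isPrimePow_nat_iff _).mpr ⟨q, a, hq, ha, rfl⟩) hqa
      exact (min_le_left _ _).trans ((Nat.mul_le_mul_left p hm).trans hle)
  · -- `|P| ≥ p ^ 2`
    have h1 : p ^ 2 ≤ Nat.card (P : Subgroup H) := by
      rw [hPcard]; exact Nat.pow_le_pow_right hp.out.pos hv
    have h2 : (p + 1) * p ^ 2 ≤ Nat.card H :=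
      (Nat.mul_le_mul hnp h1).trans hHcard
    refine hbnd.trans (le_trans ?_ h2)
    nlinarith [hp1]

end Cfsg.Agent.Lead.Npc
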