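import Mathlib
import Cfsg.Agent.Helper1.FrattiniAct
import Cfsg.Agent.Helper1.PGroup
import Cfsg.Agent.Lead.OmegaFusionPNilpotent

set_option autoImplicit false

/-!
Odd-order groups of operators on `2`-groups normalizing all subgroups of one order.
-/

namespace Cfsg.Agent.Lead

universe u

variable {X : Type u} [Group X]

/-- An element of odd order normalizing a cyclic `2`-group generated by `g` centralizes `g`. -/
theorem conj_eq_of_odd_of_two_pow (a g : X) (ha : Odd (orderOf a)) (k : ℕ)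
    (hg : g ^ 2 ^ k = 1) (h : a * g * a⁻¹ ∈ Subgroup.zpowers g) : a * g * a⁻¹ = g := by
  have hfin : IsOfFinOrder g :=
    isOfFinOrder_iff_pow_eq_one.mpr ⟨2 ^ k, by positivity, hg⟩
  rw [← hfin.mem_powers_iff_mem_zpowers] at h
  obtain ⟨n, hn⟩ := h
  have hn' : g ^ n = a * g * a⁻¹ := hn
  have hiter : ∀ i : ℕ, a ^ i * g * (a ^ i)⁻¹ = g ^ (n ^ i) := by
    intro i
    induction i with
    | zero => simp
    | succ i ih =>
      have e : a ^ (i + 1) * g * (a ^ (i + 1))⁻¹ = a * (a ^ i * g * (a ^ i)⁻¹) * a⁻¹ := by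
        rw [pow_succ']; group
      rw [e, ih]
      have e2 : a * g ^ (n ^ i) * a⁻¹ = (a * g * a⁻¹) ^ (n ^ i) := by
        rw [conj_pow]
      rw [e2, ← hn', ← pow_mul, pow_succ']
  have h3 := hiter (orderOf a)
  rw [pow_orderOf_eq_one] at h3
  have h4 : g ^ (n ^ orderOf a) = g ^ 1 := by
    rw [← h3]; simp
  rw [pow_eq_pow_iff_modEq] at h4
  obtain ⟨j, -, hj⟩ := (Nat.dvd_prime_pow Nat.prime_two).1 (orderOf_dvd_of_pow_eq_one hg)
  rw [hj] at h4
  -- `n` is a unit modulo `2 ^ j` whose order divides `orderOf a` and `2 ^ (j - 1)`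
  have hcop : Nat.Coprime n (2 ^ j) := by
    have h5 : Nat.Coprime (n ^ orderOf a) (2 ^ j) := by
      have := (Nat.ModEq.gcd_eq h4)
      rw [Nat.Coprime, this]; simp
    have hpos : 0 < orderOf a := by
      rcases ha with ⟨m, hm⟩; omega
    exact (Nat.coprime_pow_left_iff hpos _ _).1 h5
  have hu1 : (ZMod.unitOfCoprime n hcop) ^ orderOf a = 1 := by
    apply Units.ext
    rw [Units.val_pow_eq_pow_val, ZMod.coe_unitOfCoprime, Units.val_one]
    have := (ZMod.natCast_eq_natCast_iff _ _ _).2 h4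
    push_cast at this
    exact this
  have hu2 : (ZMod.unitOfCoprime n hcop) ^ (2 ^ j).totient = 1 := ZMod.pow_totient _
  have hu3 : orderOf (ZMod.unitOfCoprime n hcop) ∣ Nat.gcd (orderOf a) ((2 ^ j).totient) :=
    Nat.dvd_gcd (orderOf_dvd_of_pow_eq_one hu1) (orderOf_dvd_of_pow_eq_one hu2)
  have hgcd : Nat.gcd (orderOf a) ((2 ^ j).totient) = 1 := by
    rcases Nat.eq_zero_or_pos j with hj0 | hj0
    · subst hj0; simp
    · rw [Nat.totient_prime_pow Nat.prime_two hj0]
      have : Nat.Coprime (orderOf a) 2 := (Nat.coprime_two_right).2 ha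
      simpa using (Nat.Coprime.pow_right (j - 1) this)
  rw [hgcd, Nat.dvd_one, orderOf_eq_one_iff] at hu3
  have h6 : ((n : ℕ) : ZMod (2 ^ j)) = ((1 : ℕ) : ZMod (2 ^ j)) := by
    have := congrArg Units.val hu3
    rw [ZMod.coe_unitOfCoprime, Units.val_one] at this
    rw [this]; simp
  rw [ZMod.natCast_eq_natCast_iff] at h6
  have h7 : g ^ n = g ^ 1 := by
    rw [pow_eq_pow_iff_modEq, hj]; exact h6
  rw [← hn', h7, pow_one]

/-- An element of odd order normalizing a cyclic `2`-group centralizes it. -/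
theorem commute_of_odd_normalizes_cyclic_two [Finite X] (E : Subgroup X) (hc : IsCyclic E)
    (hE : IsPGroup 2 E) (a : X) (ha : Odd (orderOf a))
    (haE : a ∈ Subgroup.normalizer (E : Set X)) : ∀ x ∈ E, a * x = x * a := by
  obtain ⟨⟨g, hgE⟩, hgen⟩ := hc.exists_generator
  have hg2 : ∃ k : ℕ, g ^ 2 ^ k = 1 := by
    obtain ⟨k, hk⟩ := hE ⟨g, hgE⟩
    refine ⟨k, ?_⟩
    have := congrArg Subtype.val hk
    simpa using this
  obtain ⟨k, hk⟩ := hg2
  have hEz : ∀ x ∈ E, x ∈ Subgroup.zpowers g := by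
    intro x hx
    obtain ⟨m, hm⟩ := Subgroup.mem_zpowers_iff.1 (hgen ⟨x, hx⟩)
    refine Subgroup.mem_zpowers_iff.2 ⟨m, ?_⟩
    have := congrArg Subtype.val hm
    simpa using this
  have h1 : a * g * a⁻¹ ∈ Subgroup.zpowers g :=
    hEz _ ((Subgroup.mem_normalizer_iff.1 haE g).1 hgE)
  have h2 := conj_eq_of_odd_of_two_pow a g ha k hk h1
  have hcomm : a * g = g * a := by
    have := congrArg (· * a) h2
    simpa [mul_assoc] using this
  intro x hx
  obtain ⟨m, rfl⟩ := Subgroup.mem_zpowers_iff.1 (hEz x hx)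
  exact ((Commute.zpow_right (show Commute a g from hcomm) m)).eq

/-- A finite noncyclic group has two distinct maximal subgroups. -/
theorem exists_two_coatoms_of_not_isCyclic {S : Type*} [Group S] [Finite S] (hnc : ¬ IsCyclic S) :
    ∃ M₁ M₂ : Subgroup S, IsCoatom M₁ ∧ IsCoatom M₂ ∧ M₁ ≠ M₂ := by
  have hbt : (⊥ : Subgroup S) ≠ ⊤ := by
    intro h
    apply hnc
    have : Subsingleton S := by
      rw [← Subgroup.subsingleton_iff] 
      refine ⟨fun a b => ?_⟩
      have e : ∀ c : Subgroup S, c = ⊥ := by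
        intro c
        exact le_antisymm (h ▸ le_top) bot_le
      rw [e a, e b]
    exact isCyclic_of_subsingleton
  obtain ⟨M₁, hM₁, -⟩ := (eq_top_or_exists_le_coatom (⊥ : Subgroup S)).resolve_left hbt
  by_contra hcon
  push Not at hcon
  obtain ⟨x, -, hx⟩ := SetLike.exists_of_lt (lt_top_iff_ne_top.2 hM₁.1)
  apply hnc
  rw [isCyclic_iff_exists_zpowers_eq_top]
  refine ⟨x, ?_⟩
  rcases eq_top_or_exists_le_coatom (Subgroup.zpowers x) with h | ⟨M₂, hM₂, hle⟩
  · exact h
  · exfalso
    have := hcon M₁ M₂ hM₁ hM₂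
    apply hx
    rw [this]
    exact hle (Subgroup.mem_zpowers x)

/-- A group `A` of odd order normalizing all maximal subgroups of a noncyclic `2`-group `S`
centralizes `S`. -/
theorem le_centralizer_of_normalizes_maximal [Finite X] (S A : Subgroup X) (hS : IsPGroup 2 S)
    (hA : Odd (Nat.card A)) (hnc : ¬ IsCyclic S)
    (hM : ∀ M : Subgroup X, M ≤ S → 2 * Nat.card M = Nat.card S →
      A ≤ Subgroup.normalizer (M : Set X)) :
    A ≤ Subgroup.centralizer (S : Set X) := by
  haveI : Fact (Nat.Prime 2) := ⟨Nat.prime_two⟩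
  -- maximal subgroups of `S` are normalized by `A`
  have hco : ∀ M : Subgroup S, IsCoatom M → M.index = 2 ∧
      A ≤ Subgroup.normalizer ((M.map S.subtype : Subgroup X) : Set X) := by
    intro M hMc
    have hidx : M.index = 2 := Helper1.IsPGroup.coatom_index hS hMc
    refine ⟨hidx, hM _ (Subgroup.map_subtype_le _) ?_⟩
    rw [Helper1.card_map_subtype, ← hidx, Subgroup.index_mul_card]
  obtain ⟨M₁, M₂, hM₁, hM₂, hne⟩ := exists_two_coatoms_of_not_isCyclic hnc
  have hsup : M₁ ⊔ M₂ = ⊤ := by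
    by_contra hcon
    have h1 : M₁ ⊔ M₂ = M₁ := by
      by_contra h2
      exact hcon (hM₁.2 _ (lt_of_le_of_ne le_sup_left (Ne.symm h2)))
    have h3 : M₂ ≤ M₁ := by rw [← h1]; exact le_sup_right
    rcases eq_or_lt_of_le h3 with h4 | h4
    · exact hne h4.symm
    · exact hM₁.1 (hM₂.2 _ h4)
  have hSsup : M₁.map S.subtype ⊔ M₂.map S.subtype = S := by
    rw [← Subgroup.map_sup, hsup, ← MonoidHom.range_eq_map, Subgroup.range_subtype]
  have hAS : A ≤ Subgroup.normalizer (S : Set X) := by
    intro a ha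
    apply Helper1.mem_normalizer_of_conj_smul_eq
    rw [← hSsup, Subgroup.smul_sup,
      Helper1.conj_smul_eq_of_mem_normalizer ((hco M₁ hM₁).2 ha),
      Helper1.conj_smul_eq_of_mem_normalizer ((hco M₂ hM₂).2 ha)]
  have hcop : (Nat.card A).Coprime (Nat.card (frattini S)) := by
    obtain ⟨m, hm⟩ := IsPGroup.iff_card.1 (hS.to_subgroup (frattini S))
    rw [hm]
    exact Nat.Coprime.pow_right m ((Nat.coprime_two_right).2 hA)
  refine Helper1.frattini_coprime_trivial A S hAS hcop ?_
  intro a ha k hk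
  have hak : a * k * a⁻¹ ∈ S := (Subgroup.mem_normalizer_iff.1 (hAS ha) k).1 hk
  refine ⟨⟨a * k * a⁻¹ * k⁻¹, S.mul_mem hak (S.inv_mem hk)⟩, ?_, rfl⟩
  rw [SetLike.mem_coe, Helper1.mem_frattini_iff]
  intro M hMc
  obtain ⟨hidx, hAM⟩ := hco M hMc
  have e : (⟨a * k * a⁻¹ * k⁻¹, S.mul_mem hak (S.inv_mem hk)⟩ : S) =
      (⟨a * k * a⁻¹, hak⟩ : S) * (⟨k, hk⟩ : S)⁻¹ := rfl
  rw [e, Subgroup.mul_mem_iff_of_index_two hidx, inv_mem_iff]
  have hiff := Subgroup.mem_normalizer_iff.1 (hAM ha) k
  constructor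
  · intro h1
    have h2 : a * k * a⁻¹ ∈ M.map S.subtype := ⟨_, h1, rfl⟩
    obtain ⟨y, hy, hyk⟩ := hiff.2 h2
    have : y = ⟨k, hk⟩ := Subtype.ext hyk
    rwa [this] at hy
  · intro h1
    have h2 : k ∈ M.map S.subtype := ⟨_, h1, rfl⟩
    obtain ⟨y, hy, hyk⟩ := hiff.1 h2
    have : y = ⟨a * k * a⁻¹, hak⟩ := Subtype.ext hyk
    rwa [this] at hy

/-- Odd-order operators on a `2`-group normalizing all subgroups of one intermediate order
(and of order `4` if that order is `2`) centralize it. -/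
theorem le_centralizer_of_normalizes_all_of_card [Finite X] (P A D : Subgroup X)
    (hP : IsPGroup 2 P) (hA : Odd (Nat.card A))
    (hAP : A ≤ Subgroup.normalizer (P : Set X)) (hDP : D ≤ P) (hD1 : 1 < Nat.card D)
    (hD2 : Nat.card D < Nat.card P)
    (hinv : ∀ E : Subgroup X, E ≤ P →
      (Nat.card E = Nat.card D ∨ (Nat.card D = 2 ∧ Nat.card E = 4)) →
      A ≤ Subgroup.normalizer (E : Set X)) :
    A ≤ Subgroup.centralizer (P : Set X) := by
  haveI : Fact (Nat.Prime 2) := ⟨Nat.prime_two⟩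
  obtain ⟨n, hn⟩ := IsPGroup.iff_card.1 hP
  obtain ⟨d, hd⟩ := IsPGroup.iff_card.1 (hP.to_le hDP)
  have hd1 : 1 ≤ d := by
    rcases Nat.eq_zero_or_pos d with h | h
    · subst h; rw [hd] at hD1; simp at hD1
    · exact h
  have hdn : d < n := by
    rw [hd, hn] at hD2
    exact (Nat.pow_lt_pow_iff_right (by norm_num)).1 hD2
  have hodd : ∀ a ∈ A, Odd (orderOf a) := by
    intro a ha
    have h1 : orderOf (⟨a, ha⟩ : A) ∣ Nat.card A := orderOf_dvd_natCard _
    have h2 : orderOf (⟨a, ha⟩ : A) = orderOf a := Subgroup.orderOf_mk a ha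
    rw [h2] at h1
    exact Odd.of_dvd_nat hA h1
  have key : ∀ a ∈ A, ∀ r ∈ P, r ^ 4 = 1 → a * r = r * a := by
    intro a ha r hr hr4
    obtain ⟨i, hi2, hi⟩ := (Nat.dvd_prime_pow Nat.prime_two).1
      (show orderOf r ∣ 2 ^ 2 from orderOf_dvd_of_pow_eq_one (by norm_num; exact hr4))
    have hzP : Subgroup.zpowers r ≤ P := by rw [Subgroup.zpowers_le]; exact hr
    have hzcard : Nat.card (Subgroup.zpowers r) = 2 ^ i := by rw [Nat.card_zpowers, hi]
    rcases Nat.lt_or_ge d 2 with hd2 | hd2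
    · -- `|D| = 2`
      have hd' : d = 1 := by omega
      subst hd'
      rw [pow_one] at hd
      have hnorm : A ≤ Subgroup.normalizer ((Subgroup.zpowers r : Subgroup X) : Set X) := by
        interval_cases i
        · have : r = 1 := by
            rw [← orderOf_eq_one_iff, hi]; norm_num
          subst this
          intro a _
          rw [Subgroup.zpowers_one_eq_bot, Subgroup.mem_normalizer_iff]
          intro x
          simp only [Subgroup.mem_bot]
          constructor
          · rintro rfl; simp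
          · intro h
            have : x = a⁻¹ * (a * x * a⁻¹) * a := by group
            rw [this, h]; simp
        · exact hinv _ hzP (Or.inl (by rw [hzcard, hd]; norm_num))
        · exact hinv _ hzP (Or.inr ⟨hd, by rw [hzcard]; norm_num⟩)
      exact commute_of_odd_normalizes_cyclic_two (Subgroup.zpowers r) inferInstance
        (hP.to_le hzP) a (hodd a ha) (hnorm ha) r (Subgroup.mem_zpowers r)
    · -- `|D| ≥ 4`
      have hPcard : Nat.card (P : Subgroup X) = 2 ^ n := hn
      obtain ⟨E', hE'card, hE'le⟩ := Sylow.exists_subgroup_card_pow_prime_le 2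
        (show 2 ^ d ∣ Nat.card P by rw [hPcard]; exact pow_dvd_pow 2 hdn.le)
        (Subgroup.zpowers (⟨r, hr⟩ : P))
        (show Nat.card (Subgroup.zpowers (⟨r, hr⟩ : P)) = 2 ^ i by
          rw [Nat.card_zpowers, Subgroup.orderOf_mk, hi])
        (show i ≤ d by omega)
      obtain ⟨S', hS'card, hS'le⟩ := Sylow.exists_subgroup_card_pow_prime_le 2
        (show 2 ^ (d + 1) ∣ Nat.card P by rw [hPcard]; exact pow_dvd_pow 2 hdn)
        E' hE'card (Nat.le_succ d)
      have hrE' : (⟨r, hr⟩ : P) ∈ E' := hE'le (Subgroup.mem_zpowers _)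
      have hrE : r ∈ E'.map P.subtype := ⟨_, hrE', rfl⟩
      have hEP : E'.map P.subtype ≤ P := Subgroup.map_subtype_le _
      have hSP : S'.map P.subtype ≤ P := Subgroup.map_subtype_le _
      have hEcard : Nat.card (E'.map P.subtype) = 2 ^ d := by
        rw [Helper1.card_map_subtype, hE'card]
      have hScard : Nat.card (S'.map P.subtype) = 2 ^ (d + 1) := by
        rw [Helper1.card_map_subtype, hS'card]
      by_cases hcyc : IsCyclic (S'.map P.subtype)
      · -- then `E` is cyclic and normalized by `a`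
        have hES : E'.map P.subtype ≤ S'.map P.subtype := Subgroup.map_mono hS'le
        have hEcyc : IsCyclic (E'.map P.subtype) := by
          have e := Subgroup.subgroupOfEquivOfLe hES
          have : IsCyclic ((E'.map P.subtype).subgroupOf (S'.map P.subtype)) :=
            Subgroup.isCyclic _
          exact isCyclic_of_surjective e e.surjective
        have hnorm := hinv _ hEP (Or.inl (by rw [hEcard, hd]))
        exact commute_of_odd_normalizes_cyclic_two _ hEcyc (hP.to_le hEP) a (hodd a ha)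
          (hnorm ha) r hrE
      · have hcent := le_centralizer_of_normalizes_maximal (S'.map P.subtype) A (hP.to_le hSP) hA
          hcyc (fun M hMS hMcard => hinv M (hMS.trans hSP) (Or.inl (by
            rw [hScard, pow_succ] at hMcard
            rw [hd]; omega)))
        have := Subgroup.mem_centralizer_iff.1 (hcent ha) r (Subgroup.map_mono hS'le hrE)
        exact this.symm
  intro a ha
  rw [Subgroup.mem_centralizer_iff]
  intro r hr
  have hc : (orderOf a).Coprime 2 := (Nat.coprime_two_right).2 (hodd a ha)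
  exact (centralizes_of_centralizes_omega a hc P hP (hAP ha)
    (fun r hr h => by
      rcases h with h | ⟨-, h⟩
      · exact key a ha r hr (by rw [show 4 = 2 * 2 from rfl, pow_mul, h, one_pow])
      · exact key a ha r hr h) r hr).symm

end Cfsg.Agent.Lead
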