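import Mathlib
import Cfsg.Agent.Helper1.OmegaOdd
import Cfsg.Agent.Helper1.FrobPCompl2
import Cfsg.Prelude.Def_Transfer
import Cfsg.Prelude.Def_PLocal
import Cfsg.Prelude.Def_CaseTheorems

set_option autoImplicit false

namespace Cfsg.Agent.Lead

universe u

/-- `p` odd, `Ω₁(P) ≤ Z(G)` for a Sylow `p`-subgroup `P`: then `G` has a normal `p`-complement
(Frobenius + the `Ω₁` theorem) and, if `p ∣ |G|`, `G` is not quasisimple. -/
theorem omega_central_normal_pcomplement {G : Type u} [Group G] [Finite G] {p : ℕ} [Fact p.Prime]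
    (hp : p ≠ 2) (hdiv : p ∣ Nat.card G) (P : Sylow p G)
    (hZ : Cfsg.omegaOne p (P : Subgroup G) ≤ Subgroup.center G) :
    Cfsg.HasNormalPComplement p G ∧ ¬ Cfsg.IsQuasisimple G := by
  have hN : ∃ N : Subgroup G, N.Normal ∧ N.IsComplement' (P : Subgroup G) := by
    rw [Cfsg.Agent.Helper1.frobenius_normal_pcomplement_iff P]
    intro Q hQP g hg hcop
    have hcen := Cfsg.Agent.Helper1.centralizes_of_centralizes_order_p hp g hcop Q
      (P.2.to_le hQP) hg (fun r hr hord => by
        have hr1 : r ∈ Cfsg.omegaOne p (P : Subgroup G) := by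
          apply Subgroup.subset_closure
          refine ⟨hQP hr, ?_⟩
          rw [← hord]; exact pow_orderOf_eq_one r
        have hr2 := hZ hr1
        rw [Subgroup.mem_center_iff] at hr2
        exact hr2 g)
    rw [Subgroup.mem_centralizer_iff]
    intro h hh
    exact (hcen h hh).symm
  obtain ⟨N, hNn, hNc⟩ := hN
  refine ⟨⟨P, N, hNn, hNc⟩, ?_⟩
  rintro ⟨hperf, -⟩
  have hcard : Nat.card N * Nat.card (P : Subgroup G) = Nat.card G := hNc.card_mul
  have hidx : N.index = Nat.card (P : Subgroup G) := by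
    have h1 := N.card_mul_index
    have hpos : 0 < Nat.card N := Nat.card_pos
    have : Nat.card N * N.index = Nat.card N * Nat.card (P : Subgroup G) := by rw [h1, hcard]
    exact Nat.eq_of_mul_eq_mul_left hpos this
  obtain ⟨k, hk⟩ := (IsPGroup.iff_card.mp P.2)
  have hQp : IsPGroup p (G ⧸ N) := by
    apply IsPGroup.of_card (n := k)
    rw [← Subgroup.index_eq_card, hidx, hk]
  have hnil : Group.IsNilpotent (G ⧸ N) := hQp.isNilpotent
  have hnt : Nontrivial (G ⧸ N) := by
    rw [← Finite.one_lt_card_iff_nontrivial, ← Subgroup.index_eq_card, hidx]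
    have hpP : p ∣ Nat.card (P : Subgroup G) := by
      have := P.card_eq_multiplicity
      rw [this]
      have hfac : 0 < (Nat.card G).factorization p := by
        have hne : Nat.card G ≠ 0 := Nat.card_pos.ne'
        exact (Fact.out : p.Prime).factorization_pos_of_dvd hne hdiv
      exact dvd_pow_self p hfac.ne'
    have hp1 : 1 < p := (Fact.out : p.Prime).one_lt
    have hpos : 0 < Nat.card (P : Subgroup G) := Nat.card_pos
    exact lt_of_lt_of_le hp1 (Nat.le_of_dvd hpos hpP)
  have hperfQ : Group.IsPerfect (G ⧸ N) := inferInstance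
  exact Group.IsPerfect.not_isNilpotent (G ⧸ N) hnil

end Cfsg.Agent.Lead
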