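import Cfsg.Agent.Lead.CW2
import Cfsg.Agent.Helper5.FrattiniLe
import Cfsg.Agent.Helper1.PGroup
import Cfsg.Prelude.Def_Transfer

/-!
# 2-groups of class 2 and exponent 4 whose involutions form a subgroup: `|G| ≤ |Ω₁|³`
-/

namespace Cfsg.Agent.Lead.OmegaCube

open scoped commutatorElement
open Cfsg.Agent.Lead.CW2

theorem s3773 {G : Type*} [Group G] [Finite G] (hG : IsPGroup 2 G)
    (hcl : (⊤ : Subgroup G).lowerCentralSeries 2 = ⊥) (hexp : ∀ x : G, x ^ 4 = 1)
    (hN : ∀ x y : G, x ^ 2 = 1 → y ^ 2 = 1 → (x * y) ^ 2 = 1) :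
    Nat.card G ≤ Nat.card {x : G // x ^ 2 = 1} ^ 3 ∧
      (¬ Cfsg.IsSpecial 2 G → Nat.card G < Nat.card {x : G // x ^ 2 = 1} ^ 3) := by
  classical
  haveI : Fact (Nat.Prime 2) := ⟨Nat.prime_two⟩
  -- commutators are central
  have hcc : ∀ a b g : G, g * ⁅a, b⁆ = ⁅a, b⁆ * g := by
    intro a b g
    have h1 : ⁅a, b⁆ ∈ (⊤ : Subgroup G).lowerCentralSeries 1 := by
      rw [Subgroup.lowerCentralSeries_succ, Subgroup.lowerCentralSeries_zero]
      exact Subgroup.commutator_mem_commutator (Subgroup.mem_top a) (Subgroup.mem_top b)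
    have h2 : ⁅⁅a, b⁆, g⁆ ∈ (⊤ : Subgroup G).lowerCentralSeries 2 := by
      rw [Subgroup.lowerCentralSeries_succ]
      exact Subgroup.commutator_mem_commutator h1 (Subgroup.mem_top g)
    rw [hcl] at h2
    exact ((commutatorElement_eq_one_iff_commute.1 (Subgroup.mem_bot.1 h2)).eq).symm
  have hsq : ∀ a b : G, (a * b) ^ 2 = a ^ 2 * b ^ 2 * ⁅b, a⁆ := by
    intro a b
    have h1 : b * a = a * b * ⁅b, a⁆ := by
      rw [hcc b a (a * b)]
      simp [commutatorElement_def]
    calc (a * b) ^ 2 = a * (b * a) * b := by rw [pow_two]; simp only [mul_assoc]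
      _ = a * (a * b * ⁅b, a⁆) * b := by rw [h1]
      _ = a * a * b * (⁅b, a⁆ * b) := by simp only [mul_assoc]
      _ = a * a * b * (b * ⁅b, a⁆) := by rw [hcc b a b]
      _ = a ^ 2 * b ^ 2 * ⁅b, a⁆ := by rw [pow_two, pow_two]; simp only [mul_assoc]
  let N : Subgroup G :=
    { carrier := {x | x ^ 2 = 1}
      mul_mem' := fun ha hb => hN _ _ ha hb
      one_mem' := one_pow 2
      inv_mem' := fun {x} hx => by
        change (x⁻¹) ^ 2 = 1
        rw [inv_pow, hx, inv_one] }
  have hNmem : ∀ x, x ∈ N ↔ x ^ 2 = 1 := fun x => Iff.rfl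
  have hsqN : ∀ x : G, x ^ 2 ∈ N := fun x => by
    rw [hNmem, ← pow_mul]; exact hexp x
  have hcN : ∀ a b : G, ⁅a, b⁆ ∈ N := by
    intro a b
    have h := hsq b a
    have h' : ⁅a, b⁆ = (b ^ 2 * a ^ 2)⁻¹ * (b * a) ^ 2 := by rw [h]; group
    rw [h']
    exact N.mul_mem (N.inv_mem (N.mul_mem (hsqN b) (hsqN a))) (hsqN _)
  have hcomm_mul : ∀ a a' b : G, ⁅a * a', b⁆ = ⁅a, b⁆ * ⁅a', b⁆ := by
    intro a a' b
    have h1 : ⁅a * a', b⁆ = a * ⁅a', b⁆ * a⁻¹ * ⁅a, b⁆ := by
      simp only [commutatorElement_def]; group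
    rw [h1, hcc a' b a, hcc a b]
    group
  have hcomm_mul' : ∀ v u u' : G, ⁅v, u * u'⁆ = ⁅v, u⁆ * ⁅v, u'⁆ := by
    intro v u u'
    rw [← commutatorElement_inv (u * u') v, hcomm_mul, mul_inv_rev, commutatorElement_inv,
      commutatorElement_inv, hcc]
  have hsqc : ∀ a g : G, g * a ^ 2 = a ^ 2 * g := by
    intro a g
    have h1 : ⁅a ^ 2, g⁆ = 1 := by
      rw [pow_two, hcomm_mul, ← pow_two]; exact (hNmem _).1 (hcN a g)
    exact ((commutatorElement_eq_one_iff_commute.1 h1).eq).symm
  obtain ⟨Z₀, hZ₀⟩ : ∃ Z₀ : Subgroup G, Z₀ = N ⊓ Subgroup.center G := ⟨_, rfl⟩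
  have hZmem : ∀ x, x ∈ Z₀ ↔ x ^ 2 = 1 ∧ ∀ g : G, g * x = x * g := by
    intro x
    rw [hZ₀, Subgroup.mem_inf, Subgroup.mem_center_iff, hNmem]
  haveI hZn : Z₀.Normal := ⟨fun z hz g => by
    have h1 : g * z * g⁻¹ = z := by rw [((hZmem z).1 hz).2 g]; group
    rwa [h1]⟩
  have sqZ : ∀ g : G, g ^ 2 ∈ Z₀ := fun g => (hZmem _).2 ⟨(hNmem _).1 (hsqN g), fun h => hsqc g h⟩
  have cZ : ∀ a b : G, ⁅a, b⁆ ∈ Z₀ := fun a b =>
    (hZmem _).2 ⟨(hNmem _).1 (hcN a b), fun h => hcc a b h⟩
  have hY : ∀ y : Z₀, y * y = 1 := fun y => Subtype.ext (by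
    have := ((hZmem y.1).1 y.2).1
    rw [pow_two] at this
    exact this)
  have hV : ∀ v : G ⧸ Z₀, v * v = 1 := by
    intro v
    induction v using QuotientGroup.induction_on with
    | H g =>
      rw [← QuotientGroup.mk_mul, QuotientGroup.eq_one_iff, ← pow_two]
      exact sqZ g
  let Q : G ⧸ Z₀ → Z₀ := fun v => Quotient.liftOn' v (fun g => (⟨g ^ 2, sqZ g⟩ : Z₀)) (by
    intro a b hab
    rw [QuotientGroup.leftRel_apply] at hab
    apply Subtype.ext
    change a ^ 2 = b ^ 2
    have hz := (hZmem _).1 hab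
    have hb : b = a * (a⁻¹ * b) := by group
    have hc1 : ⁅a⁻¹ * b, a⁆ = 1 :=
      commutatorElement_eq_one_iff_commute.2 (hz.2 a).symm
    rw [hb, hsq, hz.1, hc1, mul_one, mul_one])
  have hQmk : ∀ g : G, Q (QuotientGroup.mk g) = ⟨g ^ 2, sqZ g⟩ := fun g => rfl
  let B : G ⧸ Z₀ → G ⧸ Z₀ → Z₀ := fun u v => Q (u * v) * (Q u)⁻¹ * (Q v)⁻¹
  have hBmk : ∀ u v : G, B (QuotientGroup.mk u) (QuotientGroup.mk v) = ⟨⁅v, u⁆, cZ v u⟩ := by
    intro u v
    change Q (QuotientGroup.mk u * QuotientGroup.mk v) * (Q (QuotientGroup.mk u))⁻¹ *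
      (Q (QuotientGroup.mk v))⁻¹ = _
    rw [← QuotientGroup.mk_mul, hQmk, hQmk, hQmk]
    apply Subtype.ext
    change (u * v) ^ 2 * (u ^ 2)⁻¹ * (v ^ 2)⁻¹ = ⁅v, u⁆
    rw [hsq, hcc v u (u ^ 2 * v ^ 2), hsqc v (u ^ 2)]
    simp only [mul_assoc, mul_inv_cancel, mul_one, mul_inv_cancel_left]
  have hQ : ∀ u v, Q (u * v) = Q u * Q v * B u v := by
    intro u v
    induction u using QuotientGroup.induction_on with
    | H u =>
    induction v using QuotientGroup.induction_on with
    | H v =>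
    rw [hBmk, ← QuotientGroup.mk_mul, hQmk, hQmk, hQmk]
    exact Subtype.ext (hsq u v)
  have hBl : ∀ u u' v, B (u * u') v = B u v * B u' v := by
    intro u u' v
    induction u using QuotientGroup.induction_on with
    | H u =>
    induction u' using QuotientGroup.induction_on with
    | H u' =>
    induction v using QuotientGroup.induction_on with
    | H v =>
    rw [← QuotientGroup.mk_mul, hBmk, hBmk, hBmk]
    exact Subtype.ext (hcomm_mul' v u u')
  obtain ⟨U, hUdef⟩ : ∃ U : Subgroup (G ⧸ Z₀), U = N.map (QuotientGroup.mk' Z₀) := ⟨_, rfl⟩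
  have hU : ∀ v, Q v = 1 → v ∈ U := by
    intro v hv
    induction v using QuotientGroup.induction_on with
    | H g =>
      rw [hQmk] at hv
      have h1 : g ^ 2 = 1 := congrArg Subtype.val hv
      rw [hUdef]
      exact Subgroup.mem_map_of_mem _ ((hNmem g).2 h1)
  obtain ⟨hA, hR, hL⟩ := cw2M hV hY Q B hQ hBl U hU
  -- cardinalities
  have hZN : Z₀ ≤ N := by rw [hZ₀]; exact inf_le_left
  have cG : Nat.card G = Nat.card (G ⧸ Z₀) * Nat.card Z₀ :=
    Subgroup.card_eq_card_quotient_mul_card_subgroup Z₀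
  have cU : Nat.card U * Nat.card Z₀ = Nat.card N := by
    have h1 : U.comap (QuotientGroup.mk' Z₀) = N := by
      rw [hUdef, Subgroup.comap_map_eq, QuotientGroup.ker_mk', sup_eq_left.2 hZN]
    have h2 : U.index = N.index := by
      rw [← h1]
      exact (Subgroup.index_comap_of_surjective U (QuotientGroup.mk'_surjective Z₀)).symm
    have h3 : Nat.card U * U.index = Nat.card (G ⧸ Z₀) := Subgroup.card_mul_index U
    have h4 : Nat.card N * N.index = Nat.card G := Subgroup.card_mul_index N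
    have h5 : N.index ≠ 0 := Subgroup.index_ne_zero_of_finite
    rw [h2] at h3
    have h6 : Nat.card U * Nat.card Z₀ * N.index = Nat.card N * N.index := by
      rw [h4, cG, ← h3]; ring
    exact Nat.eq_of_mul_eq_mul_right (Nat.pos_of_ne_zero h5) h6
  have cS : Nat.card {x : G // x ^ 2 = 1} = Nat.card N :=
    Nat.card_congr (Equiv.subtypeEquivRight (fun x => Iff.rfl))
  have hab : Nat.card Z₀ ≤ Nat.card N := Subgroup.card_le_of_le hZN
  have hmain : Nat.card G ≤ Nat.card N * Nat.card Z₀ ^ 2 := by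
    calc Nat.card G = Nat.card (G ⧸ Z₀) * Nat.card Z₀ := cG
      _ ≤ Nat.card U * Nat.card Z₀ ^ 2 * Nat.card Z₀ := Nat.mul_le_mul_right _ hA
      _ = Nat.card N * Nat.card Z₀ ^ 2 := by rw [← cU]; ring
  have hbpos : 0 < Nat.card N := Nat.card_pos
  rw [cS]
  refine ⟨?_, fun hns => ?_⟩
  · calc Nat.card G ≤ Nat.card N * Nat.card Z₀ ^ 2 := hmain
      _ ≤ Nat.card N * Nat.card N ^ 2 := Nat.mul_le_mul_left _ (Nat.pow_le_pow_left hab 2)
      _ = Nat.card N ^ 3 := by ring
  · by_cases hZeq : Z₀ = N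
    · -- `N` is central
      have hUbot : U = ⊥ := by
        rw [hUdef, ← hZeq, Subgroup.map_eq_bot_iff, QuotientGroup.ker_mk']
      have hstrict : Nat.card (G ⧸ Z₀) < Nat.card Z₀ ^ 2 → Nat.card G < Nat.card N ^ 3 := by
        intro h
        have hzpos : 0 < Nat.card Z₀ := Nat.card_pos
        calc Nat.card G = Nat.card (G ⧸ Z₀) * Nat.card Z₀ := cG
          _ < Nat.card Z₀ ^ 2 * Nat.card Z₀ := Nat.mul_lt_mul_of_pos_right h hzpos
          _ = Nat.card N ^ 3 := by rw [hZeq]; ring
      have hNc : N ≤ Subgroup.center G := by rw [← hZeq, hZ₀]; exact inf_le_right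
      by_cases hcen : Subgroup.center G ≤ N
      · have hcenN : Subgroup.center G = N := le_antisymm hcen hNc
        have hcomle : commutator G ≤ N := by
          rw [commutator_def, Subgroup.commutator_le]
          intro a _ b _
          exact hcN a b
        by_cases hcomN : commutator G = N
        · exfalso
          apply hns
          refine ⟨hG, ?_, ?_⟩
          · rw [hcenN]
            apply le_antisymm
            · refine Cfsg.Agent.Helper5.frattini_le_of_forall (p := 2) N (fun x => hsqN x) ?_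
              intro x y
              have := hcN x y
              rwa [commutatorElement_def] at this
            · rw [← hcomN]
              exact Cfsg.Agent.Helper1.IsPGroup.commutator_le_frattini hG
          · rw [hcenN, hcomN]
        · apply hstrict
          refine hL hUbot ((commutator G).subgroupOf Z₀) ?_ ?_
          · rw [Ne, Subgroup.subgroupOf_eq_top, hZeq]
            intro hle
            exact hcomN (le_antisymm hcomle hle)
          · intro u v
            induction u using QuotientGroup.induction_on with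
            | H u =>
            induction v using QuotientGroup.induction_on with
            | H v =>
            rw [hBmk, Subgroup.mem_subgroupOf, commutator_def]
            exact Subgroup.commutator_mem_commutator (Subgroup.mem_top v) (Subgroup.mem_top u)
      · obtain ⟨x, hxc, hxN⟩ := SetLike.not_le_iff_exists.1 hcen
        apply hstrict
        refine hR hUbot ⟨QuotientGroup.mk x, ?_, ?_⟩
        · rw [Ne, QuotientGroup.eq_one_iff]
          exact fun h => hxN (hZN h)
        · intro v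
          induction v using QuotientGroup.induction_on with
          | H v =>
          rw [hBmk]
          apply Subtype.ext
          change ⁅v, x⁆ = 1
          exact commutatorElement_eq_one_iff_commute.2 (Subgroup.mem_center_iff.1 hxc v)
    · have hlt : Nat.card Z₀ < Nat.card N := by
        by_contra hcon
        push Not at hcon
        exact hZeq (Subgroup.eq_of_le_of_card_ge hZN hcon)
      calc Nat.card G ≤ Nat.card N * Nat.card Z₀ ^ 2 := hmain
        _ < Nat.card N * Nat.card N ^ 2 :=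
            Nat.mul_lt_mul_of_pos_left (Nat.pow_lt_pow_left hlt (by norm_num)) hbpos
        _ = Nat.card N ^ 3 := by ring

end Cfsg.Agent.Lead.OmegaCube
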