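import Mathlib
import Cfsg.Agent.Helper8.O2OmegaPlus
import Cfsg.Agent.Helper8.O2OmegaMinus
import Cfsg.Agent.Helper7.QPaG
set_option autoImplicit false
set_option linter.unusedSimpArgs false

/-! Coordinate subspaces (extension by zero along an injection of index sets) and the
hyperbolic subspaces of the standard plus form supported on a set of hyperbolic pairs. -/

namespace Cfsg.Agent.Lead.OpNDTwo

open Module Matrix Cfsg.Agent.Helper8.StdForms Cfsg.Agent.Helper8.Sp2 Cfsg.Agent.Helper8.O2

universe u

variable {F : Type u} [Field F]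

section ext

variable {α β : Type} [Fintype α]

/-- the subspace of vectors supported on the image of `f` -/
noncomputable def extSub (F : Type u) [Field F] (f : α → β) : Submodule F (β → F) :=
  LinearMap.range (Function.ExtendByZero.linearMap F f)

theorem mem_extSub_iff {f : α → β} (hf : Function.Injective f) (v : β → F) :
    v ∈ extSub F f ↔ ∀ b, b ∉ Set.range f → v b = 0 := by
  constructor
  · rintro ⟨w, rfl⟩ b hb
    show Function.extend f w 0 b = 0
    rw [Function.extend_apply' _ _ _ (by simpa using hb)]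
    rfl
  · intro h
    refine ⟨v ∘ f, ?_⟩
    funext b
    show Function.extend f (v ∘ f) 0 b = v b
    by_cases hb : b ∈ Set.range f
    · obtain ⟨a, rfl⟩ := hb
      rw [hf.extend_apply]
      rfl
    · rw [Function.extend_apply' _ _ _ (by simpa using hb), h b hb]
      rfl

theorem finrank_extSub {f : α → β} (hf : Function.Injective f) :
    finrank F (extSub F f) = Fintype.card α := by
  unfold extSub
  rw [LinearMap.finrank_range_of_inj, Module.finrank_fintype_fun_eq_card]
  intro w w' h
  funext a
  have := congrFun h (f a)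
  change Function.extend f w 0 (f a) = Function.extend f w' 0 (f a) at this
  rwa [hf.extend_apply, hf.extend_apply] at this

theorem single_mem_extSub [DecidableEq β] {f : α → β} (hf : Function.Injective f) (a : α) (c : F) :
    (Pi.single (f a) c : β → F) ∈ extSub F f := by
  rw [mem_extSub_iff hf]
  intro b hb
  rw [Pi.single_apply, if_neg]
  rintro rfl
  exact hb ⟨a, rfl⟩

end ext

section plus

variable {d k : ℕ}

/-- the index map of the pairs -/
def pairMap (ι : Fin k → Fin d) : Fin k ⊕ Fin k → Fin d ⊕ Fin d := Sum.map ι ι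

theorem pairMap_injective {ι : Fin k → Fin d} (hι : Function.Injective ι) :
    Function.Injective (pairMap ι) := Sum.map_injective.mpr ⟨hι, hι⟩

theorem not_mem_range_pairMap_inl {ι : Fin k → Fin d} {i : Fin d} (hi : i ∉ Set.range ι) :
    (Sum.inl i : Fin d ⊕ Fin d) ∉ Set.range (pairMap ι) := by
  rintro ⟨x | x, hx⟩
  · exact hi ⟨x, Sum.inl_injective hx⟩
  · exact absurd hx (by simp [pairMap])

theorem not_mem_range_pairMap_inr {ι : Fin k → Fin d} {i : Fin d} (hi : i ∉ Set.range ι) :
    (Sum.inr i : Fin d ⊕ Fin d) ∉ Set.range (pairMap ι) := by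
  rintro ⟨x | x, hx⟩
  · exact absurd hx (by simp [pairMap])
  · exact hi ⟨x, Sum.inr_injective hx⟩

/-- membership in the coordinate subspace of pairs -/
theorem mem_pairSub_iff {ι : Fin k → Fin d} (hι : Function.Injective ι) (v : Fin d ⊕ Fin d → F) :
    v ∈ extSub F (pairMap ι) ↔ ∀ i, i ∉ Set.range ι → v (Sum.inl i) = 0 ∧ v (Sum.inr i) = 0 := by
  rw [mem_extSub_iff (pairMap_injective hι)]
  constructor
  · intro h i hi
    exact ⟨h _ (not_mem_range_pairMap_inl hi), h _ (not_mem_range_pairMap_inr hi)⟩
  · intro h b hb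
    rcases b with i | i
    · apply (h i _).1
      rintro ⟨x, rfl⟩
      exact hb ⟨Sum.inl x, rfl⟩
    · apply (h i _).2
      rintro ⟨x, rfl⟩
      exact hb ⟨Sum.inr x, rfl⟩

/-- the hyperbolic predicate for the coordinate subspace of `k` pairs -/
theorem pairSub_hyp {ι : Fin k → Fin d} (hι : Function.Injective ι) :
    finrank F (extSub F (pairMap ι)) = 2 * k ∧
    (∀ u ∈ extSub F (pairMap ι), u ≠ 0 → ∃ v ∈ extSub F (pairMap ι),
      QuadraticMap.polar (plusForm F d) u v ≠ 0) ∧
    ∃ U : Submodule F (Fin d ⊕ Fin d → F), U ≤ extSub F (pairMap ι) ∧ finrank F U = k ∧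
      ∀ u ∈ U, plusForm F d u = 0 := by
  classical
  have hinj := pairMap_injective hι
  refine ⟨?_, ?_, ?_⟩
  · rw [finrank_extSub hinj, Fintype.card_sum, Fintype.card_fin]
    ring
  · intro u hu hu0
    have hex : ∃ x, u x ≠ 0 := by
      by_contra hcon
      push Not at hcon
      exact hu0 (funext hcon)
    obtain ⟨x, hx⟩ := hex
    have hxr : x ∈ Set.range (pairMap ι) := by
      by_contra hxr
      exact hx ((mem_extSub_iff hinj u).mp hu x hxr)
    obtain ⟨y, rfl⟩ := hxr
    rcases y with j | j
    · refine ⟨Pi.single (pairMap ι (Sum.inr j)) 1, single_mem_extSub hinj _ _, ?_⟩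
      rw [polar_plusForm]
      have h1 : ∑ i : Fin d, u (Sum.inl i) *
          (Pi.single (pairMap ι (Sum.inr j)) (1 : F) : Fin d ⊕ Fin d → F) (Sum.inr i) =
          u (Sum.inl (ι j)) := by
        rw [Finset.sum_eq_single (ι j)]
        · simp [pairMap]
        · intro b _ hb
          simp [pairMap, Pi.single_apply, hb]
        · intro h; exact absurd (Finset.mem_univ _) h
      have h2 : ∑ i : Fin d,
          (Pi.single (pairMap ι (Sum.inr j)) (1 : F) : Fin d ⊕ Fin d → F) (Sum.inl i) *
          u (Sum.inr i) = 0 := by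
        apply Finset.sum_eq_zero
        intro i _
        simp [pairMap, Pi.single_apply]
      rw [h1, h2, add_zero]
      exact hx
    · refine ⟨Pi.single (pairMap ι (Sum.inl j)) 1, single_mem_extSub hinj _ _, ?_⟩
      rw [polar_plusForm]
      have h1 : ∑ i : Fin d, u (Sum.inl i) *
          (Pi.single (pairMap ι (Sum.inl j)) (1 : F) : Fin d ⊕ Fin d → F) (Sum.inr i) = 0 := by
        apply Finset.sum_eq_zero
        intro i _
        simp [pairMap, Pi.single_apply]
      have h2 : ∑ i : Fin d,
          (Pi.single (pairMap ι (Sum.inl j)) (1 : F) : Fin d ⊕ Fin d → F) (Sum.inl i) *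
          u (Sum.inr i) = u (Sum.inr (ι j)) := by
        rw [Finset.sum_eq_single (ι j)]
        · simp [pairMap]
        · intro b _ hb
          simp [pairMap, Pi.single_apply, hb]
        · intro h; exact absurd (Finset.mem_univ _) h
      rw [h1, h2, zero_add]
      exact hx
  · have hinj' : Function.Injective (fun j : Fin k => (Sum.inl (ι j) : Fin d ⊕ Fin d)) :=
      fun a b h => hι (Sum.inl_injective h)
    refine ⟨extSub F (fun j : Fin k => (Sum.inl (ι j) : Fin d ⊕ Fin d)), ?_, ?_, ?_⟩
    · intro v hv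
      rw [mem_extSub_iff hinj] 
      rw [mem_extSub_iff hinj'] at hv
      intro b hb
      apply hv
      rintro ⟨j, rfl⟩
      exact hb ⟨Sum.inl j, rfl⟩
    · rw [finrank_extSub hinj', Fintype.card_fin]
    · intro u hu
      rw [mem_extSub_iff hinj'] at hu
      rw [plusForm_apply]
      unfold Cfsg.quadFormPlus
      apply Finset.sum_eq_zero
      intro i _
      rw [hu (Sum.inr i) (by rintro ⟨j, hj⟩; exact absurd hj (by simp)), mul_zero]

/-- invariance of a coordinate subspace of pairs under the interchange matrices -/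
theorem swapMat_pairSub {ι : Fin k → Fin d} (hι : Function.Injective ι) (s : ℕ)
    (v : Fin d ⊕ Fin d → F) (hv : v ∈ extSub F (pairMap ι)) :
    swapMat F d s *ᵥ v ∈ extSub F (pairMap ι) := by
  rw [mem_pairSub_iff hι] at hv ⊢
  intro i hi
  obtain ⟨h1, h2⟩ := hv i hi
  rw [swapMat_mulVec_inl, swapMat_mulVec_inr, h1, h2]
  simp

/-- invariance of a coordinate subspace of pairs under `tMat D` when `D` respects the pairs -/
theorem tMat_pairSub {ι : Fin k → Fin d} (hι : Function.Injective ι)
    (D : Matrix (Fin d) (Fin d) F) (hD : ∀ i j, i ∉ Set.range ι → j ∈ Set.range ι → D i j = 0)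
    (v : Fin d ⊕ Fin d → F) (hv : v ∈ extSub F (pairMap ι)) :
    tMat D *ᵥ v ∈ extSub F (pairMap ι) := by
  rw [mem_pairSub_iff hι] at hv ⊢
  intro i hi
  obtain ⟨h1, h2⟩ := hv i hi
  have e1 : (tMat D *ᵥ v) (Sum.inl i) = v (Sum.inl i) + (D *ᵥ (v ∘ Sum.inr)) i := by
    rw [tMat, Matrix.fromBlocks_mulVec]
    simp
  have e2 : (tMat D *ᵥ v) (Sum.inr i) = v (Sum.inr i) := by
    rw [tMat, Matrix.fromBlocks_mulVec]
    simp
  rw [e1, e2, h1, h2, zero_add]
  refine ⟨?_, rfl⟩
  simp only [Matrix.mulVec, dotProduct, Function.comp_apply]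
  apply Finset.sum_eq_zero
  intro j _
  by_cases hj : j ∈ Set.range ι
  · rw [hD i j hi hj, zero_mul]
  · rw [(hv j hj).2, mul_zero]

end plus

end Cfsg.Agent.Lead.OpNDTwo
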