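import Mathlib
import Cfsg.Agent.Lead.OpNDTwoA
set_option autoImplicit false
set_option linter.unusedSimpArgs false

/-! Characteristic two: every involution of `Ω⁺_{2d}(F)` normalises a hyperbolic subspace of each
admissible even dimension (the statement E2 used for the elusive-prime statements). -/

namespace Cfsg.Agent.Lead.OpNDTwo

open Module Matrix Cfsg.Agent.Helper8.StdForms Cfsg.Agent.Helper8.Sp2 Cfsg.Agent.Helper8.O2

universe u

variable {F : Type u} [Field F]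

section transport

variable {ι : Type} [Fintype ι] [DecidableEq ι] (Q : QuadraticForm F (ι → F))

/-- the hyperbolic predicate for a subspace -/
def HypPred (m : ℕ) (W : Submodule F (ι → F)) : Prop :=
  finrank F W = m ∧ (∀ u ∈ W, u ≠ 0 → ∃ v ∈ W, QuadraticMap.polar Q u v ≠ 0) ∧
    ∃ U : Submodule F (ι → F), U ≤ W ∧ 2 * finrank F U = m ∧ ∀ u ∈ U, Q u = 0

/-- the linear equivalence of an isometry -/
noncomputable def isoEquiv (c : ↥(Cfsg.isometryGroup F ⇑Q)) : (ι → F) ≃ₗ[F] (ι → F) :=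
  LinearEquiv.ofLinearMap (Matrix.mulVecLin ((c : GL ι F) : Matrix ι ι F))
    (Matrix.mulVecLin (((c⁻¹ : ↥(Cfsg.isometryGroup F ⇑Q)) : GL ι F) : Matrix ι ι F))
    (by
      apply LinearMap.ext
      intro v
      simp only [LinearMap.comp_apply, Matrix.mulVecLin_apply, LinearMap.id_apply]
      exact mulVec_inv_mulVec Q c v)
    (by
      apply LinearMap.ext
      intro v
      simp only [LinearMap.comp_apply, Matrix.mulVecLin_apply, LinearMap.id_apply]
      have := mulVec_inv_mulVec Q c⁻¹ v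
      rwa [inv_inv] at this)

theorem isoEquiv_apply (c : ↥(Cfsg.isometryGroup F ⇑Q)) (v : ι → F) :
    isoEquiv Q c v = ((c : GL ι F) : Matrix ι ι F) *ᵥ v := rfl

/-- transport of an invariant hyperbolic subspace along a conjugation -/
theorem transport_hyp (m : ℕ) (g r c : ↥(Cfsg.isometryGroup F ⇑Q)) (hc : c * g * c⁻¹ = r)
    (W₀ : Submodule F (ι → F)) (hW₀ : HypPred Q m W₀)
    (hinv : ∀ v ∈ W₀, ((r : GL ι F) : Matrix ι ι F) *ᵥ v ∈ W₀) :
    ∃ W : Submodule F (ι → F), HypPred Q m W ∧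
      ∀ v ∈ W, ((g : GL ι F) : Matrix ι ι F) *ᵥ v ∈ W := by
  have hc' : c⁻¹ * r * c⁻¹⁻¹ = g := by rw [← hc]; group
  set e := isoEquiv Q c⁻¹ with he
  obtain ⟨h1, h2, U, hU1, hU2, hU3⟩ := hW₀
  refine ⟨W₀.map (e : (ι → F) →ₗ[F] (ι → F)), ⟨?_, ?_, ?_⟩, ?_⟩
  · rw [LinearEquiv.finrank_map_eq, h1]
  · rintro _ ⟨u, hu, rfl⟩ hu0
    have hu0' : u ≠ 0 := by
      rintro rfl
      exact hu0 (map_zero _)
    obtain ⟨v, hv, hv0⟩ := h2 u hu hu0'
    refine ⟨e v, ⟨v, hv, rfl⟩, ?_⟩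
    show QuadraticMap.polar Q (e u) (e v) ≠ 0
    rw [he, isoEquiv_apply, isoEquiv_apply, polar_mulVec]
    exact hv0
  · refine ⟨U.map (e : (ι → F) →ₗ[F] (ι → F)), Submodule.map_mono hU1, ?_, ?_⟩
    · rw [LinearEquiv.finrank_map_eq, hU2]
    · rintro _ ⟨u, hu, rfl⟩
      show Q (e u) = 0
      rw [he, isoEquiv_apply, Q_mulVec]
      exact hU3 u hu
  · rintro _ ⟨u, hu, rfl⟩
    refine ⟨((r : GL ι F) : Matrix ι ι F) *ᵥ u, hinv u hu, ?_⟩
    show e (((r : GL ι F) : Matrix ι ι F) *ᵥ u) = ((g : GL ι F) : Matrix ι ι F) *ᵥ (e u)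
    rw [he, isoEquiv_apply, isoEquiv_apply]
    exact (mul_mulVec_eq Q c⁻¹ r g hc' u).symm

end transport

section blocks

/-- a set of hyperbolic pairs adapted to the alternating pairing matrix -/
theorem exists_blockMap (d s k : ℕ) (hs : Even s) (hsd : s ≤ d) (hkd : k ≤ d)
    (hodd : k % 2 = 1 → s < d) :
    ∃ ι : Fin k → Fin d, Function.Injective ι ∧
      ∀ i j, i ∉ Set.range ι → j ∈ Set.range ι → aMat F d s i j = 0 := by
  obtain ⟨s', rfl⟩ := hs
  obtain ⟨a, ha⟩ : ∃ a, a = min (k / 2) s' := ⟨_, rfl⟩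
  have ha1 : 2 * a ≤ k := by omega
  have ha2 : 2 * a ≤ s' + s' := by omega
  have hb : k + (s' + s' - 2 * a) ≤ d := by
    rcases le_total (k / 2) s' with h | h
    · have h3 : a = k / 2 := by rw [ha]; exact min_eq_left h
      rcases Nat.mod_two_eq_zero_or_one k with h0 | h1
      · omega
      · have := hodd h1
        omega
    · have h3 : a = s' := by rw [ha]; exact min_eq_right h
      omega
  refine ⟨fun j => ⟨if (j : ℕ) < 2 * a then j else j + (s' + s' - 2 * a), ?_⟩, ?_, ?_⟩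
  · have := j.2
    split_ifs <;> omega
  · intro j j' h
    have h' : (if (j : ℕ) < 2 * a then (j : ℕ) else j + (s' + s' - 2 * a)) =
        (if (j' : ℕ) < 2 * a then (j' : ℕ) else j' + (s' + s' - 2 * a)) := congrArg Fin.val h
    apply Fin.ext
    split_ifs at h' <;> omega
  · rintro i j hi ⟨t, rfl⟩
    rw [aMat_apply, if_neg]
    rintro ⟨h1, h2, h3⟩
    apply hi
    have h2' : (i : ℕ) / 2 = (if (t : ℕ) < 2 * a then (t : ℕ) else t + (s' + s' - 2 * a)) / 2 := h2
    by_cases ht : (t : ℕ) < 2 * a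
    · rw [if_pos ht] at h2'
      have hi2 : (i : ℕ) < 2 * a := by omega
      refine ⟨⟨i, by omega⟩, ?_⟩
      apply Fin.ext
      show (if (i : ℕ) < 2 * a then (i : ℕ) else i + (s' + s' - 2 * a)) = i
      rw [if_pos hi2]
    · exfalso
      rw [if_neg ht] at h2'
      omega

end blocks

variable [Fintype F] [CharP F 2]

/-- E2: an involution of `Ω⁺_{2d}` normalises a hyperbolic subspace of dimension `m` -/
theorem plus_hyp_of_invol (d m : ℕ) (hd : 4 ≤ d) (hm : 2 ≤ m) (hme : Even m) (hmd : m < d)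
    (h : Odd d ∨ m % 4 = 0) (x : GL (Fin d ⊕ Fin d) F)
    (hx : x ∈ Cfsg.Geo.omegaGL (Cfsg.quadFormPlus d F)) (hx2 : x ^ 2 = 1) :
    ∃ W : Submodule F (Fin d ⊕ Fin d → F),
      (Module.finrank F ↥W = m ∧
        (∀ u ∈ W, u ≠ 0 → ∃ v ∈ W, QuadraticMap.polar (Cfsg.quadFormPlus d F) u v ≠ 0) ∧
        ∃ U : Submodule F (Fin d ⊕ Fin d → F), U ≤ W ∧ 2 * Module.finrank F ↥U = m ∧
          ∀ u ∈ U, Cfsg.quadFormPlus d F u = 0) ∧
      W.map (Matrix.toLin' (x : Matrix (Fin d ⊕ Fin d) (Fin d ⊕ Fin d) F)) ≤ W := by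
  rw [← Cfsg.Agent.Helper7.QPa.plusForm_coe] at hx ⊢
  obtain ⟨g, hg, rfl⟩ := hx
  have hg2 : g ^ 2 = 1 := Subtype.ext hx2
  obtain ⟨k, hk⟩ := hme
  have hkd : k ≤ d := by omega
  -- the predicate for a coordinate subspace of `k` pairs
  have hpred : ∀ ι : Fin k → Fin d, Function.Injective ι →
      HypPred (plusForm F d) m (extSub F (pairMap ι)) := by
    intro ι hι
    obtain ⟨h1, h2, U, hU1, hU2, hU3⟩ := pairSub_hyp (F := F) hι
    exact ⟨by rw [h1]; omega, h2, U, hU1, by rw [hU2]; omega, hU3⟩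
  suffices hkey : ∃ (r : ↥(Cfsg.isometryGroup F ⇑(plusForm F d)))
      (W₀ : Submodule F (Fin d ⊕ Fin d → F)), IsConj g r ∧ HypPred (plusForm F d) m W₀ ∧
      ∀ v ∈ W₀, ((r : GL (Fin d ⊕ Fin d) F) : Matrix (Fin d ⊕ Fin d) (Fin d ⊕ Fin d) F) *ᵥ v ∈ W₀ by
    obtain ⟨r, W₀, hconj, hW₀, hinv⟩ := hkey
    obtain ⟨c, hc⟩ := isConj_iff.mp hconj
    obtain ⟨W, hW, hWinv⟩ := transport_hyp (plusForm F d) m g r c hc W₀ hW₀ hinv
    refine ⟨W, hW, ?_⟩
    rw [Submodule.map_le_iff_le_comap]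
    intro v hv
    rw [Submodule.mem_comap, Matrix.toLin'_apply]
    exact hWinv v hv
  by_cases hg1 : g = 1
  · refine ⟨g, extSub F (pairMap (Fin.castLE hkd)), IsConj.refl g,
      hpred _ (Fin.castLE_injective hkd), ?_⟩
    intro v hv
    rw [hg1]
    show (1 : Matrix (Fin d ⊕ Fin d) (Fin d ⊕ Fin d) F) *ᵥ v ∈ _
    rw [Matrix.one_mulVec]
    exact hv
  have hpos := rk_pos _ g hg1
  have hle := two_mul_rk_le _ g hg2
  rw [card_PI] at hle
  have hev : Even (rk _ g) := (mem_omega_plus_iff_even (by omega) (Or.inr (by omega)) g).mp hg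
  by_cases halt : IsAltType (plusForm F d) g
  · -- alternating type `a_s`
    obtain ⟨s', hs'⟩ := hev
    have hj : s' - 1 < d / 2 := by omega
    set j : Fin (d / 2) := ⟨s' - 1, hj⟩ with hjdef
    have hrk : rk _ (repPlus F d (Sum.inr j)) = rk _ g := by
      rw [rk_repPlus_inr, hs']
      show 2 * (s' - 1 + 1) = s' + s'
      omega
    obtain ⟨ι, hι, hD⟩ := exists_blockMap (F := F) d (2 * ((j : ℕ) + 1)) k (even_two_mul _)
      (by show 2 * (s' - 1 + 1) ≤ d; omega) hkd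
      (by
        intro hk1
        show 2 * (s' - 1 + 1) < d
        rcases h with h | h
        · obtain ⟨t, ht⟩ := h
          omega
        · omega)
    refine ⟨repPlus F d (Sum.inr j), extSub F (pairMap ι), ?_, hpred ι hι, ?_⟩
    · exact conj_of_rank_type (plusForm F d) (plusForm_nondeg F d) g _ hg2
        (Cfsg.Agent.Helper8.O2.sq_of_orderOf (orderOf_repPlus _)) hrk.symm
        (iff_of_true halt (alt_repPlus_inr j))
    · intro v hv
      exact tMat_pairSub hι _ hD v hv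
  · -- non-alternating type
    have hi : rk _ g - 1 < d := by omega
    set i : Fin d := ⟨rk _ g - 1, hi⟩ with hidef
    have hrk : rk _ (repPlus F d (Sum.inl i)) = rk _ g := by
      rw [rk_repPlus_inl]
      show rk _ g - 1 + 1 = rk _ g
      omega
    refine ⟨repPlus F d (Sum.inl i), extSub F (pairMap (Fin.castLE hkd)), ?_,
      hpred _ (Fin.castLE_injective hkd), ?_⟩
    · exact conj_of_rank_type (plusForm F d) (plusForm_nondeg F d) g _ hg2
        (Cfsg.Agent.Helper8.O2.sq_of_orderOf (orderOf_repPlus _)) hrk.symm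
        (iff_of_false halt (not_alt_repPlus_inl i))
    · intro v hv
      exact swapMat_pairSub (Fin.castLE_injective hkd) _ v hv

end Cfsg.Agent.Lead.OpNDTwo
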