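import Mathlib
import Cfsg.Agent.Helper8.Ord19Defs
import Cfsg.Agent.Helper8.Ord19Lib

set_option autoImplicit false

/-!
# S4274, piece (4): the order 2280 with `nS 19 = 20`, `3 ∤ cZ 19`, `cZ 3 = 15` is impossible
-/

namespace Cfsg.Agent.Helper8.Ord19

universe u

variable {G : Type u} [Group G] [Finite G]

theorem ld_fact114 : (114 : ℕ).factorization 3 = 1 := by
  have h1 : (114:ℕ) = 3 * 38 := by norm_num
  rw [h1, Nat.factorization_mul (by norm_num) (by norm_num)]
  have h2 : (38:ℕ).factorization 3 = 0 := Nat.factorization_eq_zero_of_not_dvd (by norm_num)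
  simp [h2, Nat.Prime.factorization_self (by norm_num : Nat.Prime 3)]

theorem ld_fact2280_3 : (2280 : ℕ).factorization 3 = 1 := by
  have h1 : (2280:ℕ) = 3 * 760 := by norm_num
  rw [h1, Nat.factorization_mul (by norm_num) (by norm_num)]
  have h2 : (760:ℕ).factorization 3 = 0 := Nat.factorization_eq_zero_of_not_dvd (by norm_num)
  simp [h2, Nat.Prime.factorization_self (by norm_num : Nat.Prime 3)]

theorem ld_fact2280_19 : (2280 : ℕ).factorization 19 = 1 := by
  have h1 : (2280:ℕ) = 19 * 120 := by norm_num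
  rw [h1, Nat.factorization_mul (by norm_num) (by norm_num)]
  have h2 : (120:ℕ).factorization 19 = 0 := Nat.factorization_eq_zero_of_not_dvd (by norm_num)
  simp [h2, Nat.Prime.factorization_self (by norm_num : Nat.Prime 19)]

/-- in a group `N` of order `114`, some involution normalizes a subgroup of order `3`:
there are `t y` with `o(t) = 2`, `o(y) = 3` and `t y t⁻¹ = y` or `t y t⁻¹ = y⁻¹` -/
theorem ld_exists_inv_norm {N : Type u} [Group N] [Finite N] (hN : Nat.card N = 114) :
    ∃ t y : N, orderOf t = 2 ∧ orderOf y = 3 ∧ (t * y * t⁻¹ = y ∨ t * y * t⁻¹ = y⁻¹) := by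
  have : Fact (Nat.Prime 3) := ⟨by norm_num⟩
  have : Fact (Nat.Prime 2) := ⟨by norm_num⟩
  let Y : Sylow 3 N := default
  have hYcard : Nat.card (Y : Subgroup N) = 3 := by
    rw [Sylow.card_eq_multiplicity, hN, ld_fact114, pow_one]
  set M : Subgroup N := Subgroup.normalizer ((Y : Subgroup N) : Set N) with hM
  have hn3 : Nat.card (Sylow 3 N) = M.index := Sylow.card_eq_index_normalizer Y
  have hmod : Nat.card (Sylow 3 N) % 3 = 1 := by
    have := card_sylow_modEq_one 3 N
    exact this
  have hmul : Nat.card M * M.index = 114 := by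
    rw [Subgroup.card_mul_index, hN]
  have h2M : 2 ∣ Nat.card M := by
    rw [hn3] at hmod
    have hdvd : M.index ∣ 114 := Dvd.intro_left _ hmul
    have hle : M.index ≤ 114 := Nat.le_of_dvd (by norm_num) hdvd
    have hpos : 0 < M.index := Nat.pos_of_dvd_of_pos hdvd (by norm_num)
    generalize M.index = i at *
    generalize Nat.card M = c at *
    interval_cases i <;> omega
  -- an involution in M
  obtain ⟨t, ht⟩ := exists_prime_orderOf_dvd_card' (G := M) 2 h2M
  -- an element of order 3 in Y
  have h3Y : 3 ∣ Nat.card (Y : Subgroup N) := by rw [hYcard]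
  obtain ⟨y, hy⟩ := exists_prime_orderOf_dvd_card' (G := (Y : Subgroup N)) 3 h3Y
  have hto : orderOf (t : N) = 2 := (Subgroup.orderOf_coe t).trans ht
  have hyo : orderOf (y : N) = 3 := (Subgroup.orderOf_coe y).trans hy
  obtain ⟨t, htM⟩ := t
  obtain ⟨y, hyY⟩ := y
  simp only at hto hyo
  clear ht hy
  refine ⟨t, y, hto, hyo, ?_⟩
  -- Y = zpowers y
  have hYz : Subgroup.zpowers y = (Y : Subgroup N) := by
    apply Subgroup.eq_of_le_of_card_ge
    · rw [Subgroup.zpowers_le]; exact hyY
    · rw [Nat.card_zpowers, hyo, hYcard]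
  -- t y t⁻¹ ∈ Y
  have hconj : t * y * t⁻¹ ∈ Subgroup.zpowers y := by
    rw [hYz]
    have htM' : t ∈ Subgroup.normalizer ((Y : Subgroup N) : Set N) := htM
    rw [Subgroup.mem_normalizer_iff] at htM'
    exact (htM' y).mp hyY
  rw [Subgroup.mem_zpowers_iff] at hconj
  obtain ⟨k, hk⟩ := hconj
  -- reduce the exponent mod 3
  have hk3 : y ^ (k % 3) = y ^ k := by
    have := zpow_mod_orderOf y k
    rw [hyo] at this
    exact_mod_cast this
  have hy3 : y ^ (3 : ℕ) = 1 := by rw [← hyo]; exact pow_orderOf_eq_one _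
  have hy1 : y ≠ 1 := by
    intro h1
    rw [h1, orderOf_one] at hyo
    norm_num at hyo
  have hkr : k % 3 = 0 ∨ k % 3 = 1 ∨ k % 3 = 2 := by omega
  rcases hkr with h0 | h1 | h2
  · exfalso
    rw [h0, zpow_zero] at hk3
    rw [← hk3] at hk
    apply hy1
    have : t * y * t⁻¹ = 1 := hk.symm
    have h' : y = t⁻¹ * 1 * t := by rw [← this]; group
    rw [h']; group
  · left
    rw [h1, zpow_one] at hk3
    rw [← hk, ← hk3]
  · right
    rw [h2] at hk3
    rw [← hk, ← hk3]
    have : y ^ (2 : ℤ) * y = 1 := by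
      have : y ^ (2 : ℤ) * y = y ^ (3 : ℕ) := by
        rw [pow_succ]; norm_cast
      rw [this, hy3]
    exact eq_inv_of_mul_eq_one_left this

theorem ord2280 (h : Nat.card G = 2280) (h19 : nS G 19 = 20) (h19c : ¬ 3 ∣ cZ G 19)
    (h3 : cZ G 3 = 15) : False := by
  have : Fact (Nat.Prime 19) := ⟨by norm_num⟩
  have : Fact (Nat.Prime 3) := ⟨by norm_num⟩
  have : Fact (Nat.Prime 2) := ⟨by norm_num⟩
  let P : Sylow 19 G := default
  set N : Subgroup G := Subgroup.normalizer ((P : Subgroup G) : Set G) with hN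
  have hNcard : Nat.card N = 114 := by
    have h1 : Nat.card (Sylow 19 G) = N.index := Sylow.card_eq_index_normalizer P
    have h2 := Subgroup.card_mul_index N
    unfold nS at h19
    rw [← h1, h19, h] at h2
    omega
  obtain ⟨t, y, hto, hyo, hty⟩ := ld_exists_inv_norm hNcard
  have htoG : orderOf (t : G) = 2 := by rw [← hto]; exact Subgroup.orderOf_coe t
  have hyoG : orderOf (y : G) = 3 := by rw [← hyo]; exact Subgroup.orderOf_coe y
  rcases hty with hc | hi
  · -- t centralizes the Sylow 3-subgroup ⟨y⟩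
    have hZcard : Nat.card (Subgroup.zpowers (y : G)) = 3 ^ (Nat.card G).factorization 3 := by
      rw [Nat.card_zpowers, hyoG, h, ld_fact2280_3, pow_one]
    let R : Sylow 3 G := Sylow.ofCard (Subgroup.zpowers (y : G)) hZcard
    have hR : (R : Subgroup G) = Subgroup.zpowers (y : G) := rfl
    have hcR := card_centralizer_sylow 3 R
    rw [h3, hR] at hcR
    have htc : (t : G) ∈ Subgroup.centralizer ((Subgroup.zpowers (y : G) : Subgroup G) : Set G) := by
      rw [Subgroup.mem_centralizer_iff]
      intro z hz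
      have hz' : z ∈ Subgroup.zpowers (y : G) := hz
      rw [Subgroup.mem_zpowers_iff] at hz'
      obtain ⟨k, rfl⟩ := hz'
      have hcG : (t : G) * (y : G) = (y : G) * (t : G) := by
        have := congrArg (Subtype.val) hc
        simp only [Subgroup.coe_mul, Subgroup.coe_inv] at this
        calc (t : G) * (y : G) = ((t : G) * (y : G) * (t : G)⁻¹) * (t : G) := by group
          _ = (y : G) * (t : G) := by rw [this]
      exact ((Commute.zpow_left (show Commute (y : G) (t : G) from hcG.symm) k)).eq
    have hdvd : orderOf (t : G) ∣ 15 := by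
      rw [← hcR]
      exact Subgroup.orderOf_dvd_natCard _ htc
    rw [htoG] at hdvd
    norm_num at hdvd
  · -- y = [t, y] lies in the centralizer of P
    have hPcard : Nat.card (P : Subgroup G) = 19 := by
      rw [Sylow.card_eq_multiplicity, h, ld_fact2280_19, pow_one]
    have hcyc : IsCyclic (P : Subgroup G) := isCyclic_of_prime_card hPcard
    let _ : CommGroup (MulAut (P : Subgroup G)) :=
      (IsCyclic.mulAutMulEquiv (P : Subgroup G)).toMonoidHom.commGroupOfInjective
        (IsCyclic.mulAutMulEquiv (P : Subgroup G)).injective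
    have hker := Abelianization.commutator_subset_ker (P : Subgroup G).normalizerMonoidHom
    rw [Subgroup.normalizerMonoidHom_ker] at hker
    have hcomm : t * y * t⁻¹ * y⁻¹ ∈ commutator N := by
      have h0 := Subgroup.commutator_mem_commutator (H₁ := (⊤ : Subgroup N)) (H₂ := (⊤ : Subgroup N))
        (Subgroup.mem_top t) (Subgroup.mem_top y)
      rw [commutatorElement_def] at h0
      rw [commutator_def]
      exact h0
    have hyc : t * y * t⁻¹ * y⁻¹ = y := by
      rw [hi]
      have hy3 : y ^ (3 : ℕ) = 1 := by rw [← hyo]; exact pow_orderOf_eq_one _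
      calc y⁻¹ * y⁻¹ = y⁻¹ * y⁻¹ * (y ^ (3:ℕ)) := by rw [hy3, mul_one]
        _ = y := by group
    rw [hyc] at hcomm
    have hyC := hker hcomm
    rw [Subgroup.mem_subgroupOf] at hyC
    have hdvd : orderOf (y : G) ∣ cZ G 19 := by
      rw [← card_centralizer_sylow 19 P]
      exact Subgroup.orderOf_dvd_natCard _ hyC
    rw [hyoG] at hdvd
    exact h19c hdvd

end Cfsg.Agent.Helper8.Ord19
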