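import Mathlib
import Cfsg.Agent.Lead.NilpMax

set_option autoImplicit false

/-! Prime-power elements with maximal centralizers outside a normal subgroup (S3903):
basic lemmas. -/

namespace Cfsg.Agent.Lead.PPMaxCent

universe u

variable {G : Type u} [Group G] [Finite G]

/-- If every element outside the normal subgroup `N` has prime power order and `x ∉ N` has order
`p ^ k`, then the centralizer of `x` is a `p`-group. -/
theorem isPGroup_centralizer (N : Subgroup G)
    (h : ∀ x : G, x ∉ N → IsPrimePow (orderOf x)) {x : G} (hx : x ∉ N) {p k : ℕ}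
    (hp : p.Prime) (hk : 0 < k) (hxo : orderOf x = p ^ k) :
    IsPGroup p (Subgroup.centralizer ({x} : Set G)) := by
  haveI : Fact p.Prime := ⟨hp⟩
  intro y
  have hyc : (y : G) * x = x * (y : G) := by
    have := y.2
    rw [Subgroup.mem_centralizer_iff] at this
    exact (this x (Set.mem_singleton x)).symm
  have hypos : 0 < orderOf (y : G) := orderOf_pos _
  obtain ⟨a, b, hb, hab⟩ := Nat.exists_eq_pow_mul_and_not_dvd hypos.ne' p hp.ne_one
  -- `n = y ^ (p ^ a)` has order `b`
  set n : G := (y : G) ^ (p ^ a) with hn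
  have hno : orderOf n = b := by
    rw [hn, orderOf_pow' _ (pow_ne_zero a hp.ne_zero), hab]
    have : Nat.gcd (p ^ a * b) (p ^ a) = p ^ a := Nat.gcd_eq_right (dvd_mul_right _ _)
    rw [this]
    exact Nat.mul_div_cancel_left b (pow_pos hp.pos a)
  have hcomm : Commute x n := by
    rw [hn]
    exact (Commute.pow_right (show Commute x (y : G) from hyc.symm) _)
  have hcop : Nat.Coprime (orderOf x) (orderOf n) := by
    rw [hxo, hno]
    exact Nat.Coprime.pow_left _ ((Nat.Prime.coprime_iff_not_dvd hp).2 hb)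
  have hxn_o : orderOf (x * n) = p ^ k * b := by
    rw [hcomm.orderOf_mul_eq_mul_orderOf_of_coprime hcop, hxo, hno]
  -- `x * n ∉ N`
  have hxnN : x * n ∉ N := by
    intro hmem
    apply hx
    have h1 : (x * n) ^ b ∈ N := Subgroup.pow_mem N hmem b
    rw [hcomm.mul_pow, ← hno, pow_orderOf_eq_one, mul_one, hno] at h1
    -- `x` is a power of `x ^ b`
    have hcop' : Nat.Coprime b (orderOf x) := by
      rw [hxo]
      exact (Nat.Coprime.pow_left _ ((Nat.Prime.coprime_iff_not_dvd hp).2 hb)).symm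
    have hx1 : 1 < orderOf x := by
      rw [hxo]; exact Nat.one_lt_pow hk.ne' hp.one_lt
    obtain ⟨m, -, hm⟩ := Nat.exists_mul_mod_eq_one_of_coprime hcop' hx1
    have h2 : x = (x ^ b) ^ m := by
      rw [← pow_mul, ← pow_mod_orderOf, hm, pow_one]
    rw [h2]
    exact Subgroup.pow_mem N h1 m
  have hpp := h _ hxnN
  rw [hxn_o] at hpp
  -- so `b = 1`
  have hb1 : b = 1 := by
    by_contra hb1
    obtain ⟨r, hr, hrb⟩ := Nat.exists_prime_and_dvd hb1
    rw [isPrimePow_iff_unique_prime_dvd] at hpp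
    obtain ⟨q, -, hq⟩ := hpp
    have h1 : p = q := hq p ⟨hp, Dvd.dvd.mul_right (dvd_pow_self p hk.ne') b⟩
    have h2 : r = q := hq r ⟨hr, Dvd.dvd.mul_left hrb _⟩
    apply hb
    rw [h1, ← h2]; exact hrb
  refine ⟨a, ?_⟩
  apply Subtype.ext
  rw [Subgroup.coe_pow, Subgroup.coe_one]
  have : orderOf n = 1 := by rw [hno, hb1]
  rw [orderOf_eq_one_iff] at this
  exact this

end Cfsg.Agent.Lead.PPMaxCent
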