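import Mathlib
import Cfsg.Agent.Lead.PPMaxCentA

set_option autoImplicit false

/-! A maximal subgroup with a normal complement of coprime order (S3903, part B). -/

namespace Cfsg.Agent.Lead.PPMaxCent

open Cfsg.Agent.Helper1

universe u

variable {G : Type u} [Group G] [Finite G]

/-- If a solvable maximal subgroup `M` has a normal complement `L` of coprime order, the group is
solvable (`L` is a `q`-group by coprime action). -/
theorem solvable_of_coatom_compl {M L : Subgroup G} (hM : IsCoatom M)
    (hMsolv : Group.IsSolvable M) (hLn : L.Normal)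
    (hcop : Nat.Coprime (Nat.card M) (Nat.card L)) (hsupL : M ⊔ L = ⊤) :
    Group.IsSolvable G := by
  have hML : M ⊓ L = ⊥ := (Subgroup.disjoint_of_coprime_natCard hcop).eq_bot
  have hLbot : L ≠ ⊥ := by
    intro h
    rw [h, sup_bot_eq] at hsupL
    exact hM.1 hsupL
  obtain ⟨q, hq, hqd⟩ := Nat.exists_prime_and_dvd
    (fun h => hLbot (Subgroup.card_eq_one.1 h) : Nat.card L ≠ 1)
  haveI : Fact q.Prime := ⟨hq⟩
  have hMNL : M ≤ Subgroup.normalizer (L : Set G) := by
    rw [Subgroup.normalizer_eq_top_iff.2 hLn]; exact le_top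
  obtain ⟨R, hR⟩ := exists_invariant_sylow (p := q) M L hMNL hcop (Or.inl hMsolv)
  obtain ⟨R', hR'def⟩ : ∃ R' : Subgroup G, R' = (R : Subgroup L).map L.subtype := ⟨_, rfl⟩
  rw [← hR'def] at hR
  have hR'L : R' ≤ L := by
    rw [hR'def]; rintro _ ⟨y, -, rfl⟩; exact y.2
  have hR'ne : R' ≠ ⊥ := by
    intro h
    have h1 : Nat.card R' = q ^ (Nat.card L).factorization q := by
      rw [hR'def, Subgroup.card_map_of_injective L.subtype_injective]
      exact R.card_eq_multiplicity
    rw [h, Subgroup.card_bot] at h1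
    have h2 : 0 < (Nat.card L).factorization q :=
      hq.factorization_pos_of_dvd Nat.card_pos.ne' hqd
    have h3 : 1 < q ^ (Nat.card L).factorization q := Nat.one_lt_pow h2.ne' hq.one_lt
    omega
  have hsup : M ⊔ R' = ⊤ := by
    apply hM.2
    rw [lt_iff_le_and_ne]
    refine ⟨le_sup_left, fun h => hR'ne ?_⟩
    have h1 : R' ≤ M := by rw [h]; exact le_sup_right
    rw [eq_bot_iff, ← hML]
    exact le_inf h1 hR'L
  have hLR : L ≤ R' := by
    intro y hy
    have hy' : y ∈ ((M ⊔ R' : Subgroup G) : Set G) := by rw [hsup]; exact Set.mem_univ y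
    rw [Subgroup.coe_mul_of_left_le_normalizer_right M R' hR] at hy'
    obtain ⟨m, hm, z, hz, rfl⟩ := Set.mem_mul.1 hy'
    have hmL : m ∈ L := by
      have : m = (m * z) * z⁻¹ := by group
      rw [this]
      exact Subgroup.mul_mem _ hy (Subgroup.inv_mem _ (hR'L hz))
    have hm1 : m = 1 := by
      have : m ∈ M ⊓ L := ⟨hm, hmL⟩
      rw [hML, Subgroup.mem_bot] at this
      exact this
    rw [hm1, one_mul]; exact hz
  have hLp : IsPGroup q L := by
    intro y
    have hyR : (y : G) ∈ R' := hLR y.2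
    rw [hR'def] at hyR
    obtain ⟨y', hy', hyy⟩ := hyR
    have : y' = y := Subtype.ext hyy
    rw [this] at hy'
    obtain ⟨k, hk⟩ := R.2 ⟨y, hy'⟩
    refine ⟨k, ?_⟩
    have := congrArg Subtype.val hk
    simpa using this
  have hLsolv : Group.IsSolvable L := by
    haveI := hLp.isNilpotent
    infer_instance
  have hsurj : Function.Surjective ((QuotientGroup.mk' L).comp M.subtype) := by
    intro y
    obtain ⟨g, rfl⟩ := QuotientGroup.mk'_surjective L y
    have hg : g ∈ ((M ⊔ L : Subgroup G) : Set G) := by rw [hsupL]; exact Set.mem_univ g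
    rw [Subgroup.mul_normal M L] at hg
    obtain ⟨m, hm, l, hl, rfl⟩ := Set.mem_mul.1 hg
    refine ⟨⟨m, hm⟩, ?_⟩
    change (QuotientGroup.mk' L) m = (QuotientGroup.mk' L) (m * l)
    rw [map_mul]
    have : (QuotientGroup.mk' L) l = 1 := by
      rw [← MonoidHom.mem_ker, QuotientGroup.ker_mk']; exact hl
    rw [this, mul_one]
  have hQsolv : Group.IsSolvable (G ⧸ L) := Group.isSolvable_of_surjective hsurj
  exact Group.isSolvable_of_ker_le_range L.subtype (QuotientGroup.mk' L) (by
    rw [QuotientGroup.ker_mk', Subgroup.range_subtype])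

end Cfsg.Agent.Lead.PPMaxCent
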