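import Mathlib
import Cfsg.Agent.Lead.PPMaxCentB

set_option autoImplicit false

/-! The counting argument for S3903: if the centres of the Sylow `p`-subgroups cover the
complement of a proper normal subgroup, the Sylow `p`-subgroups are abelian and
self-normalizing. -/

namespace Cfsg.Agent.Lead.PPMaxCent

universe u

variable {G : Type u} [Group G] [Finite G]

/-- the centre of a subgroup, as a subgroup of the ambient group -/
def zOf (P : Subgroup G) : Subgroup G := P ⊓ Subgroup.centralizer (P : Set G)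

theorem zOf_le (P : Subgroup G) : zOf P ≤ P := inf_le_left

theorem card_mul_card_le (Z N : Subgroup G) [N.Normal] :
    Nat.card Z * Nat.card N ≤ Nat.card G * Nat.card (Z ⊓ N : Subgroup G) := by
  have h1 : Nat.card (Z ⊓ N : Subgroup G) * N.relIndex Z = Nat.card Z := by
    have := Subgroup.relIndex_mul_relIndex (⊥ : Subgroup G) (Z ⊓ N) Z bot_le inf_le_left
    rw [Subgroup.relIndex_bot_left, Subgroup.relIndex_bot_left, Subgroup.inf_relIndex_left] at this
    exact this
  have h2 : N.relIndex Z ∣ N.index := Subgroup.relIndex_dvd_index_of_normal N Z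
  have h3 : N.relIndex Z ≤ N.index :=
    Nat.le_of_dvd (Nat.pos_of_ne_zero (Subgroup.index_ne_zero_of_finite)) h2
  have h4 : Nat.card N * N.index = Nat.card G := Subgroup.card_mul_index N
  calc Nat.card Z * Nat.card N = Nat.card (Z ⊓ N : Subgroup G) * N.relIndex Z * Nat.card N := by
        rw [h1]
    _ ≤ Nat.card (Z ⊓ N : Subgroup G) * N.index * Nat.card N := by
        apply Nat.mul_le_mul_right
        exact Nat.mul_le_mul_left _ h3
    _ = Nat.card G * Nat.card (Z ⊓ N : Subgroup G) := by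
        rw [← h4]; ring

theorem counting {p : ℕ} [Fact p.Prime] (N : Subgroup G) [N.Normal] (hN : N ≠ ⊤)
    (hcov : ∀ x : G, x ∉ N → ∃ P : Sylow p G, x ∈ zOf (P : Subgroup G)) (P₀ : Sylow p G) :
    zOf (P₀ : Subgroup G) = P₀ ∧ Subgroup.normalizer ((P₀ : Subgroup G) : Set G) = P₀ := by
  classical
  haveI : Fintype G := Fintype.ofFinite G
  haveI : Fintype (Sylow p G) := Fintype.ofFinite _
  obtain ⟨g, hg⟩ : ∃ g, g = Nat.card G := ⟨_, rfl⟩
  obtain ⟨m, hm⟩ : ∃ m, m = Nat.card N := ⟨_, rfl⟩
  obtain ⟨s, hs0⟩ : ∃ s, s = Nat.card (P₀ : Subgroup G) := ⟨_, rfl⟩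
  have hs : ∀ P : Sylow p G, Nat.card (P : Subgroup G) = s := by
    intro P
    rw [hs0, P.card_eq_multiplicity, P₀.card_eq_multiplicity]
  obtain ⟨z, hz⟩ : ∃ z : Sylow p G → ℕ, z = fun P : Sylow p G => Nat.card (zOf (P : Subgroup G)) := ⟨_, rfl⟩
  obtain ⟨w, hw⟩ : ∃ w : Sylow p G → ℕ,
      w = fun P : Sylow p G => Nat.card (zOf (P : Subgroup G) ⊓ N : Subgroup G) := ⟨_, rfl⟩
  obtain ⟨B, hBdef⟩ : ∃ B : Sylow p G → Finset G,
      B = fun P : Sylow p G => Finset.univ.filter (fun x => x ∈ zOf (P : Subgroup G) ∧ x ∉ N) := ⟨_, rfl⟩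
  have hB : ∀ P, (B P).card + w P = z P := by
    intro P
    have e1 : w P = (Finset.univ.filter (fun x : G => x ∈ zOf (P : Subgroup G) ∧ x ∈ N)).card := by
      rw [hw]
      change Nat.card ((zOf (P : Subgroup G) ⊓ N : Subgroup G)) = _
      rw [Nat.card_eq_fintype_card, Fintype.card_subtype]
      congr 1
      ext x
      simp only [Finset.mem_filter, Subgroup.mem_inf]
    have e2 : z P = (Finset.univ.filter (fun x : G => x ∈ zOf (P : Subgroup G))).card := by
      rw [hz]
      change Nat.card (zOf (P : Subgroup G)) = _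
      rw [Nat.card_eq_fintype_card, Fintype.card_subtype]
    rw [e1, e2, hBdef]
    have := Finset.card_filter_add_card_filter_not
      (s := Finset.univ.filter (fun x : G => x ∈ zOf (P : Subgroup G))) (fun x => x ∈ N)
    rw [Finset.filter_filter, Finset.filter_filter] at this
    rw [← this]
    exact add_comm _ _
  have hA : (Finset.univ.filter (fun x : G => x ∉ N)).card + m = g := by
    have e1 : m = (Finset.univ.filter (fun x : G => x ∈ N)).card := by
      rw [hm, Nat.card_eq_fintype_card, Fintype.card_subtype]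
    have := Finset.card_filter_add_card_filter_not
      (s := (Finset.univ : Finset G)) (fun x => x ∈ N)
    rw [e1, hg, Nat.card_eq_fintype_card, ← Finset.card_univ, ← this]
    exact add_comm _ _
  have hcover : (Finset.univ.filter (fun x : G => x ∉ N)) ⊆ Finset.univ.biUnion B := by
    intro x hx
    rw [Finset.mem_filter] at hx
    obtain ⟨P, hP⟩ := hcov x hx.2
    rw [Finset.mem_biUnion]
    refine ⟨P, Finset.mem_univ P, ?_⟩
    rw [hBdef]
    exact Finset.mem_filter.2 ⟨Finset.mem_univ x, hP, hx.2⟩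
  have h1 : g ≤ (∑ P, (B P).card) + m := by
    rw [← hA]
    exact Nat.add_le_add_right ((Finset.card_le_card hcover).trans Finset.card_biUnion_le) m
  have h2 : ∀ P, g * (B P).card + z P * m ≤ g * z P := by
    intro P
    have e := card_mul_card_le (zOf (P : Subgroup G)) N
    have e' : z P * m ≤ g * w P := by
      rw [hz, hw, hm, hg]; exact e
    calc g * (B P).card + z P * m ≤ g * (B P).card + g * w P := Nat.add_le_add_left e' _
      _ = g * z P := by rw [← mul_add, hB P]
  have hmg : m < g := by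
    rw [hm, hg]
    apply lt_of_le_of_ne (Subgroup.card_le_card_group N)
    intro h
    exact hN ((Subgroup.card_eq_iff_eq_top N).1 h)
  obtain ⟨Bs, hBs⟩ : ∃ Bs, Bs = ∑ P, (B P).card := ⟨_, rfl⟩
  obtain ⟨Zs, hZs⟩ : ∃ Zs, Zs = ∑ P, z P := ⟨_, rfl⟩
  rw [← hBs] at h1
  have h3 : g * Bs + Zs * m ≤ g * Zs := by
    rw [hBs, hZs, Finset.mul_sum, Finset.sum_mul, Finset.mul_sum, ← Finset.sum_add_distrib]
    exact Finset.sum_le_sum (fun P _ => h2 P)
  have hBpos : 0 < Bs := by omega
  have h4 : g ≤ Zs := by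
    have : g * Bs + Zs * m ≤ Bs * Zs + Zs * m := by
      calc g * Bs + Zs * m ≤ g * Zs := h3
        _ ≤ (Bs + m) * Zs := Nat.mul_le_mul_right _ h1
        _ = Bs * Zs + Zs * m := by ring
    have h5 : g * Bs ≤ Bs * Zs := by omega
    rw [mul_comm g Bs] at h5
    exact Nat.le_of_mul_le_mul_left h5 hBpos
  have hzs : ∀ P, z P ≤ s := by
    intro P
    rw [hz, ← hs P]
    exact Subgroup.card_le_of_le (zOf_le _)
  obtain ⟨ω, hω⟩ : ∃ ω, ω = Fintype.card (Sylow p G) := ⟨_, rfl⟩
  have h6 : Zs ≤ ω * s := by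
    rw [hZs, hω]
    calc ∑ P, z P ≤ ∑ _P : Sylow p G, s := Finset.sum_le_sum (fun P _ => hzs P)
      _ = Fintype.card (Sylow p G) * s := by
          rw [Finset.sum_const, smul_eq_mul, Finset.card_univ]
  obtain ⟨n, hn⟩ : ∃ n, n = Nat.card (Subgroup.normalizer ((P₀ : Subgroup G) : Set G)) := ⟨_, rfl⟩
  have h7 : n * ω = g := by
    rw [hn, hω, hg, ← Nat.card_eq_fintype_card, P₀.card_eq_index_normalizer]
    exact Subgroup.card_mul_index _
  have h8 : s ≤ n := by
    rw [hs0, hn]
    exact Subgroup.card_le_of_le Subgroup.le_normalizer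
  have hωpos : 0 < ω := by
    rw [hω]; exact Fintype.card_pos
  have h9 : ω * s ≤ ω * n := Nat.mul_le_mul_left _ h8
  have h10 : ω * n = ω * s := by
    have : ω * n = g := by rw [mul_comm]; exact h7
    omega
  have hsn : n = s := Nat.eq_of_mul_eq_mul_left hωpos h10
  have hZeq : Zs = ω * s := by
    have : ω * n = g := by rw [mul_comm]; exact h7
    omega
  have hz0 : z P₀ = s := by
    by_contra hne
    have hlt : z P₀ < s := lt_of_le_of_ne (hzs P₀) hne
    have : ∑ P, z P < ∑ _P : Sylow p G, s :=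
      Finset.sum_lt_sum (fun P _ => hzs P) ⟨P₀, Finset.mem_univ _, hlt⟩
    rw [Finset.sum_const, smul_eq_mul, Finset.card_univ, ← hω, ← hZs] at this
    omega
  constructor
  · apply Subgroup.eq_of_le_of_card_ge (zOf_le _)
    have : Nat.card (zOf (P₀ : Subgroup G)) = s := by
      have := hz0; rw [hz] at this; exact this
    rw [this, hs0]
  · symm
    apply Subgroup.eq_of_le_of_card_ge Subgroup.le_normalizer
    rw [← hn, hsn, hs0]

end Cfsg.Agent.Lead.PPMaxCent
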