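import Mathlib
import Cfsg.Agent.Lead.PPMaxCentC

set_option autoImplicit false

/-! S3903: assembly. -/

namespace Cfsg.Agent.Lead.PPMaxCent

universe u

variable {G : Type u} [Group G] [Finite G]

/-- the case where all elements outside `N` are `2`-elements -/
theorem solvable_of_two (N : Subgroup G) [N.Normal] (hN : N ≠ ⊤)
    (h2 : ∀ x : G, x ∉ N → IsPGroup 2 (Subgroup.centralizer ({x} : Set G)) ∧
      IsCoatom (Subgroup.centralizer ({x} : Set G))) : Group.IsSolvable G := by
  by_cases hG2 : IsPGroup 2 G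
  · have := hG2.isNilpotent
    infer_instance
  have hsyl : ∀ x : G, x ∉ N →
      ∃ P : Sylow 2 G, (P : Subgroup G) = Subgroup.centralizer ({x} : Set G) := by
    intro x hx
    obtain ⟨hp, hc⟩ := h2 x hx
    obtain ⟨Q, hQ⟩ := hp.exists_le_sylow
    refine ⟨Q, ?_⟩
    rcases hc.le_iff.1 hQ with h | h
    · exfalso
      apply hG2
      have h3 : IsPGroup 2 (⊤ : Subgroup G) := h ▸ Q.isPGroup'
      exact h3.of_equiv Subgroup.topEquiv
    · exact h
  have hcov : ∀ x : G, x ∉ N → ∃ P : Sylow 2 G, x ∈ zOf (P : Subgroup G) := by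
    intro x hx
    obtain ⟨P, hP⟩ := hsyl x hx
    refine ⟨P, ?_⟩
    rw [zOf, Subgroup.mem_inf, hP]
    constructor
    · rw [Subgroup.mem_centralizer_iff]
      intro y hy
      rw [Set.mem_singleton_iff] at hy
      rw [hy]
    · rw [Subgroup.mem_centralizer_iff]
      intro y hy
      have hy' : y ∈ Subgroup.centralizer ({x} : Set G) := hy
      rw [Subgroup.mem_centralizer_iff] at hy'
      exact (hy' x (Set.mem_singleton x)).symm
  obtain ⟨x₀, hx₀⟩ : ∃ x : G, x ∉ N := by
    by_contra hall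
    exact hN (eq_top_iff.2 (fun x _ => not_not.1 (fun hx => hall ⟨x, hx⟩)))
  obtain ⟨P₀, hP₀⟩ := hsyl x₀ hx₀
  obtain ⟨hz, hn⟩ := counting N hN hcov P₀
  have hP : Subgroup.normalizer ((P₀ : Subgroup G) : Set G) ≤
      Subgroup.centralizer ((P₀ : Subgroup G) : Set G) := by
    rw [hn]
    intro y hy
    have : y ∈ zOf (P₀ : Subgroup G) := by rw [hz]; exact hy
    exact this.2
  have hcompl := MonoidHom.ker_transferSylow_isComplement' P₀ hP
  have hndvd := MonoidHom.not_dvd_card_ker_transferSylow P₀ hP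
  have hM : IsCoatom (P₀ : Subgroup G) := by rw [hP₀]; exact (h2 x₀ hx₀).2
  have hMsolv : Group.IsSolvable (P₀ : Subgroup G) := by
    have := P₀.isPGroup'.isNilpotent
    infer_instance
  have hcop : Nat.Coprime (Nat.card (P₀ : Subgroup G))
      (Nat.card (MonoidHom.transferSylow P₀ hP).ker) := by
    obtain ⟨k, hk⟩ := P₀.isPGroup'.exists_card_eq
    rw [hk]
    exact Nat.Coprime.pow_left _ ((Nat.Prime.coprime_iff_not_dvd Nat.prime_two).2 hndvd)
  have hsup : (P₀ : Subgroup G) ⊔ (MonoidHom.transferSylow P₀ hP).ker = ⊤ := by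
    rw [sup_comm]; exact hcompl.sup_eq_top
  exact solvable_of_coatom_compl hM hMsolv (MonoidHom.normal_ker _) hcop hsup

/-- S3903. -/
theorem main (N : Subgroup G) [N.Normal] (hN : N ≠ ⊤)
    (h : ∀ x : G, x ∉ N → IsPrimePow (orderOf x) ∧
      IsCoatom (Subgroup.centralizer ({x} : Set G))) : Group.IsSolvable N := by
  suffices hG : Group.IsSolvable G by infer_instance
  by_cases hodd : ∃ x : G, x ∉ N ∧ ∃ p k : ℕ, p.Prime ∧ p ≠ 2 ∧ 0 < k ∧ orderOf x = p ^ k
  · obtain ⟨x, hx, p, k, hp, hp2, hk, hxo⟩ := hodd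
    have hpg := isPGroup_centralizer N (fun y hy => (h y hy).1) hx hp hk hxo
    haveI : Fact p.Prime := ⟨hp⟩
    refine NilpMax.main _ (h x hx).2 hpg.isNilpotent ?_
    obtain ⟨j, hj⟩ := hpg.exists_card_eq
    rw [hj]
    exact Odd.pow (hp.eq_two_or_odd'.resolve_left hp2)
  · apply solvable_of_two N hN
    intro x hx
    obtain ⟨p, k, hp, hk, hpk⟩ := (isPrimePow_nat_iff _).1 (h x hx).1
    have hp2 : p = 2 := by
      by_contra hne
      exact hodd ⟨x, hx, p, k, hp, hne, hk, hpk.symm⟩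
    subst hp2
    exact ⟨isPGroup_centralizer N (fun y hy => (h y hy).1) hx hp hk hpk.symm, (h x hx).2⟩

end Cfsg.Agent.Lead.PPMaxCent
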