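import Mathlib
import Cfsg.Agent.Lead.OmegaFusionPNilpotent
import Cfsg.Agent.S0007

set_option autoImplicit false

namespace Cfsg.Agent.Lead

universe u

/-- `S4126`. -/
theorem hasNormalPComplement_of_omega_ppower_classes {G : Type u} [Group G] [Finite G] (p : ℕ)
    [Fact p.Prime]
    (h : ∀ x : G, (orderOf x = p ∨ (p = 2 ∧ orderOf x = 4)) →
      ∃ a : ℕ, (Subgroup.centralizer ({x} : Set G)).index = p ^ a) :
    Cfsg.HasNormalPComplement p G := by
  have hp : p.Prime := Fact.out
  obtain ⟨P⟩ : Nonempty (Sylow p G) := inferInstance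
  rw [hasNormalPComplement_iff_controls_omega_fusion P]
  intro a haP haΩ g _
  by_cases ha1 : a = 1
  · refine ⟨1, Subgroup.one_mem _, ?_⟩
    rw [ha1]; group
  have hord : orderOf a = p ∨ (p = 2 ∧ orderOf a = 4) := by
    rcases haΩ with h1 | ⟨h1, h2⟩
    · exact Or.inl (orderOf_eq_prime h1 ha1)
    · subst h1
      have hdvd : orderOf a ∣ 2 ^ 2 := orderOf_dvd_of_pow_eq_one (by norm_num; exact h2)
      obtain ⟨k, hk, hk'⟩ := (Nat.dvd_prime_pow Nat.prime_two).mp hdvd
      interval_cases k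
      · exfalso
        apply ha1
        rw [pow_zero] at hk'
        exact orderOf_eq_one_iff.mp hk'
      · left; simpa using hk'
      · right; exact ⟨rfl, by simpa using hk'⟩
  obtain ⟨k, hk⟩ := h a hord
  have hcop : (P : Subgroup G).index.Coprime (Subgroup.centralizer ({a} : Set G)).index := by
    rw [hk]
    apply Nat.Coprime.pow_right
    exact (Nat.Coprime.symm ((Nat.Prime.coprime_iff_not_dvd hp).mpr P.not_dvd_index))
  obtain ⟨x, hx, c, hc, hg⟩ := (Cfsg.Agent.S0007.result (P : Subgroup G) _ hcop).2 g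
  refine ⟨x, hx, ?_⟩
  have hca : c * a = a * c := by
    have := Subgroup.mem_centralizer_singleton_iff.mp hc
    exact this
  rw [hg]
  calc x * c * a * (x * c)⁻¹ = x * (c * a) * c⁻¹ * x⁻¹ := by group
    _ = x * (a * c) * c⁻¹ * x⁻¹ := by rw [hca]
    _ = x * a * x⁻¹ := by group

end Cfsg.Agent.Lead
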