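import Mathlib
import Cfsg.Agent.Lead.PSLnFusA
import Cfsg.Agent.Helper1.StrongClosedNPCc
import Cfsg.Agent.Lead.FusionSat3

set_option autoImplicit false

/-! Torus elements of `SL_{n+3}(F)` and the strongly closed subgroups of the unitriangular group of
`PSL_{n+3}(F)`. -/

namespace Cfsg.Agent.Lead.PSLnFus

open Matrix Cfsg Cfsg.Agent.Helper8.SLTrans Cfsg.Agent.Helper8.SLRoot Cfsg.Agent.Helper8.AutSLn

variable {F : Type*} [Field F] {n : ℕ}

/-- `diag(t, t⁻¹)` in `SL₂` -/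
def tor2 (t : Fˣ) : SpecialLinearGroup (Fin 2) F :=
  ⟨!![(t : F), 0; 0, ((t⁻¹ : Fˣ) : F)], by simp [Matrix.det_fin_two]⟩

/-- the torus element with `t` at `i` and `t⁻¹` at `j` -/
noncomputable def hh (i j : Fin (n + 3)) (hij : i ≠ j) (t : Fˣ) :
    SpecialLinearGroup (Fin (n + 3)) F :=
  Psi (x := eb F n i) (φ := eb F n j) (y := eb F n j) (ψ := eb F n i)
    (eb_dot_ne hij.symm) (eb_dot_ne hij) (eb_dot_self j) (eb_dot_self i) (tor2 t)

theorem hh_mulVec (i j : Fin (n + 3)) (hij : i ≠ j) (t : Fˣ) (v : Fin (n + 3) → F) :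
    ((hh i j hij t : SpecialLinearGroup (Fin (n + 3)) F) :
      Matrix (Fin (n + 3)) (Fin (n + 3)) F) *ᵥ v =
      v + (((t : F) - 1) * v i) • eb F n i + ((((t⁻¹ : Fˣ) : F) - 1) * v j) • eb F n j := by
  unfold hh
  rw [Psi_coe, PsiMat_mulVec, eb_dot_left, eb_dot_left]
  simp [tor2]

theorem hh_apply (i j : Fin (n + 3)) (hij : i ≠ j) (t : Fˣ) (a b : Fin (n + 3)) :
    ((hh i j hij t : SpecialLinearGroup (Fin (n + 3)) F) :
      Matrix (Fin (n + 3)) (Fin (n + 3)) F) a b =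
      if a = b then (if a = i then (t : F) else if a = j then ((t⁻¹ : Fˣ) : F) else 1) else 0 := by
  rw [← mulVec_eb ((hh i j hij t : SpecialLinearGroup (Fin (n + 3)) F) :
      Matrix (Fin (n + 3)) (Fin (n + 3)) F) b a, hh_mulVec]
  simp only [Pi.add_apply, Pi.smul_apply, eb_apply, smul_eq_mul]
  by_cases hab : a = b
  · subst hab
    by_cases hai : a = i
    · subst hai
      simp [hij, hij.symm]
    · by_cases haj : a = j
      · subst haj
        simp [hij, hij.symm]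
      · simp [hai, haj, Ne.symm hai, Ne.symm haj]
  · by_cases hai : a = i
    · subst hai
      simp [hab, Ne.symm hab, hij, hij.symm]
    · by_cases haj : a = j
      · subst haj
        simp [hab, Ne.symm hab, hij, hij.symm]
      · simp [hab, hai, haj]

/-- the torus elements lie in the subgroup generated by the two opposite root groups -/
theorem hh_mem_sup (i j : Fin (n + 3)) (hij : i ≠ j) (t : Fˣ) :
    hh i j hij t ∈ XG (eb F n i) (eb F n j) (eb_dot_ne hij.symm) ⊔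
      XG (eb F n j) (eb F n i) (eb_dot_ne hij) := by
  have h1 : hh i j hij t ∈ (Psi (x := eb F n i) (φ := eb F n j) (y := eb F n j) (ψ := eb F n i)
      (eb_dot_ne hij.symm) (eb_dot_ne hij) (eb_dot_self j) (eb_dot_self i)).range := ⟨tor2 t, rfl⟩
  rw [MonoidHom.range_eq_map, ← Cfsg.Agent.S5016.sup_eq_top, Subgroup.map_sup, map_upper',
    map_lower', sup_comm] at h1
  exact h1

theorem TVc_smul_left (x φ : Fin (n + 3) → F) (h : φ ⬝ᵥ x = 0) (t c : F)
    (h' : φ ⬝ᵥ (t • x) = 0) : TVc (t • x) φ h' c = TVc x φ h (c * t) := by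
  apply sl_ext
  intro v
  rw [TVc_mulVec, TVc_mulVec, smul_smul]
  congr 2
  ring

/-- the torus element `hh i j t` scales `e_i` -/
theorem hh_mulVec_eb_left (i j : Fin (n + 3)) (hij : i ≠ j) (t : Fˣ) :
    ((hh i j hij t : SpecialLinearGroup (Fin (n + 3)) F) :
      Matrix (Fin (n + 3)) (Fin (n + 3)) F) *ᵥ eb F n i = (t : F) • eb F n i := by
  ext a
  rw [mulVec_eb, hh_apply, Pi.smul_apply, eb_apply, smul_eq_mul]
  by_cases ha : a = i
  · subst ha
    rw [if_pos rfl, if_pos rfl, if_pos rfl, mul_one]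
  · rw [if_neg ha, if_neg ha, mul_zero]

/-- the torus element `hh i j t` fixes the row vector `e_k` for `k ∉ {i, j}` -/
theorem eb_vecMul_hh (i j k : Fin (n + 3)) (hij : i ≠ j) (hki : k ≠ i) (hkj : k ≠ j) (t : Fˣ) :
    eb F n k ᵥ* ((hh i j hij t : SpecialLinearGroup (Fin (n + 3)) F) :
      Matrix (Fin (n + 3)) (Fin (n + 3)) F) = eb F n k := by
  ext b
  rw [vecMul_eb, hh_apply, eb_apply]
  by_cases hb : k = b
  · subst hb
    rw [if_pos rfl, if_pos rfl, if_neg hki, if_neg hkj]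
  · rw [if_neg hb, if_neg (Ne.symm hb)]

theorem eb_vecMul_hh_inv (i j k : Fin (n + 3)) (hij : i ≠ j) (hki : k ≠ i) (hkj : k ≠ j)
    (t : Fˣ) :
    eb F n k ᵥ* (((hh i j hij t)⁻¹ : SpecialLinearGroup (Fin (n + 3)) F) :
      Matrix (Fin (n + 3)) (Fin (n + 3)) F) = eb F n k := by
  have h1 := eb_vecMul_hh i j k hij hki hkj t
  have h2 := congrArg (fun w => w ᵥ* (((hh i j hij t)⁻¹ : SpecialLinearGroup (Fin (n + 3)) F) :
      Matrix (Fin (n + 3)) (Fin (n + 3)) F)) h1
  simp only [Matrix.vecMul_vecMul] at h2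
  rw [Cfsg.Agent.Helper8.SLRoot.coe_mul_inv, Matrix.vecMul_one] at h2
  exact h2.symm

theorem one_ne_last : (1 : Fin (n + 3)) ≠ Fin.last (n + 2) := by
  intro h
  have := congrArg Fin.val h
  rw [Fin.val_last] at this
  have h1 : ((1 : Fin (n + 3)) : ℕ) = 1 := rfl
  omega

/-- conjugating the highest root element by a torus element -/
theorem hh_conj_highest (t : Fˣ) (c : F) :
    hh (0 : Fin (n + 3)) 1 one_ne_zero''.symm t *
      TVc (eb F n 0) (eb F n (Fin.last (n + 2))) last_dot_zero c *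
      (hh (0 : Fin (n + 3)) 1 one_ne_zero''.symm t)⁻¹ =
      TVc (eb F n 0) (eb F n (Fin.last (n + 2))) last_dot_zero (c * (t : F)) := by
  rw [TVc_conj]
  have h1 := hh_mulVec_eb_left (F := F) (0 : Fin (n + 3)) 1 one_ne_zero''.symm t
  have h2 := eb_vecMul_hh_inv (F := F) (0 : Fin (n + 3)) 1 (Fin.last (n + 2)) one_ne_zero''.symm
    (zero_lt_last (n := n)).ne' one_ne_last.symm t
  rw [← TVc_smul_left (eb F n 0) (eb F n (Fin.last (n + 2))) last_dot_zero (t : F) c
    (by rw [dotProduct_smul, last_dot_zero, smul_zero])]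
  exact TVc_congr _ _ h1 h2 c

open scoped Pointwise in
/-- the only strongly closed subgroups of the image of the unitriangular group are `1` and itself -/
theorem stronglyClosed_Ub [Fintype F] (p : ℕ) [Fact p.Prime] [CharP F p]
    (T : Subgroup (ProjectiveSpecialLinearGroup (Fin (n + 3)) F)) (hT : T ≤ Ub F n)
    (hcl : ∀ x ∈ T, ∀ g : ProjectiveSpecialLinearGroup (Fin (n + 3)) F,
      g * x * g⁻¹ ∈ Ub F n → g * x * g⁻¹ ∈ T) : T = ⊥ ∨ T = Ub F n := by
  by_cases hT0 : T = ⊥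
  · exact Or.inl hT0
  right
  apply le_antisymm hT
  have hUbT : Ub F n ≤ Subgroup.normalizer (T : Set (ProjectiveSpecialLinearGroup (Fin (n + 3)) F)) := by
    intro s hs
    apply mem_normalizer_of_conj_mem_of_finite
    intro y hy
    exact hcl y hy s (mul_mem (mul_mem hs (hT hy)) (inv_mem hs))
  obtain ⟨d, hdT, hd1, hdc⟩ := Cfsg.Agent.Helper1.StrongClosedNPC.exists_central_of_normal
    (isPGroup_Ub (F := F) (n := n) p) hT hUbT hT0
  have hdZ : d ∈ ZZ (Ub F n) := mem_ZZ.mpr ⟨hT hdT, hdc⟩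
  rw [ZZ_Ub, mem_Rb] at hdZ
  obtain ⟨c, rfl⟩ := hdZ
  have hc0 : c ≠ 0 := by
    rintro rfl
    apply hd1
    rw [TVc_zero, map_one]
  -- the highest root group lies in `T`
  have hhigh : ∀ c' : F, pq F n (TVc (eb F n 0) (eb F n (Fin.last (n + 2))) last_dot_zero c') ∈ T := by
    intro c'
    by_cases hc' : c' = 0
    · subst hc'
      rw [TVc_zero, map_one]
      exact one_mem _
    · have ht0 : c' / c ≠ 0 := div_ne_zero hc' hc0
      have h1 := hh_conj_highest (F := F) (n := n) (Units.mk0 _ ht0) c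
      have h2 : c * ((Units.mk0 _ ht0 : Fˣ) : F) = c' := by
        rw [Units.val_mk0]
        field_simp
      rw [h2] at h1
      have h3 := congrArg (pq F n) h1
      rw [map_mul, map_mul, map_inv] at h3
      rw [← h3]
      apply hcl _ hdT
      rw [h3]
      exact ⟨_, TVc_eb_mem_UT zero_lt_last c', rfl⟩
  -- every positive root group lies in `T`
  have hroot : ∀ (i j : Fin (n + 3)) (hij : i < j) (c' : F),
      pq F n (xr i j hij.ne' c') ∈ T := by
    intro i j hij c'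
    obtain ⟨a, ha⟩ := (isRoot_Rb (F := F) (n := n) last_dot_zero (eb_ne_zero 0)
      (eb_ne_zero _)).exists_conj (isRoot_Rb (eb_dot_ne hij.ne') (eb_ne_zero i) (eb_ne_zero j))
    have h1 : pq F n (xr i j hij.ne' c') ∈ Rb (eb F n i) (eb F n j) (eb_dot_ne hij.ne') :=
      mem_Rb.mpr ⟨c', rfl⟩
    rw [ha, Subgroup.mem_smul_pointwise_iff_exists] at h1
    obtain ⟨x, hx, hxe⟩ := h1
    obtain ⟨c'', rfl⟩ := mem_Rb.mp hx
    rw [MulAut.smul_def, MulAut.conj_apply] at hxe
    rw [← hxe]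
    apply hcl _ (hhigh c'')
    rw [hxe]
    exact ⟨_, xr_mem_UT hij c', rfl⟩
  unfold Ub
  refine (Subgroup.map_mono UT_le_posRoots).trans ?_
  unfold posRoots
  rw [MonoidHom.map_closure, Subgroup.closure_le]
  rintro _ ⟨_, ⟨i, j, hij, c', rfl⟩, rfl⟩
  exact hroot i j hij c'

end Cfsg.Agent.Lead.PSLnFus
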