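import Mathlib
import Cfsg.Agent.Lead.PSLnFusB

set_option autoImplicit false

/-! The normalizer of the image of the unitriangular group in `PSL_{n+3}(F)` consists of images of
upper triangular matrices. -/

namespace Cfsg.Agent.Lead.PSLnFus

open Matrix Cfsg Cfsg.Agent.Helper8.SLTrans Cfsg.Agent.Helper8.SLRoot Cfsg.Agent.Helper8.AutSLn

variable {F : Type*} [Field F] {n : ℕ}

/-- the upper triangular subgroup of `SL_{n+3}(F)` -/
def BT (F : Type*) [Field F] (n : ℕ) : Subgroup (SpecialLinearGroup (Fin (n + 3)) F) where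
  carrier := {g | (g : Matrix (Fin (n + 3)) (Fin (n + 3)) F).BlockTriangular id}
  mul_mem' := by
    intro a b ha hb
    show ((a * b : SpecialLinearGroup (Fin (n + 3)) F) :
      Matrix (Fin (n + 3)) (Fin (n + 3)) F).BlockTriangular id
    rw [Matrix.SpecialLinearGroup.coe_mul]
    exact Matrix.BlockTriangular.mul ha hb
  one_mem' := by
    show ((1 : SpecialLinearGroup (Fin (n + 3)) F) :
      Matrix (Fin (n + 3)) (Fin (n + 3)) F).BlockTriangular id
    rw [Matrix.SpecialLinearGroup.coe_one]
    exact blockTriangular_one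
  inv_mem' := by
    intro a ha
    exact upper_inv ha

theorem mem_BT {g : SpecialLinearGroup (Fin (n + 3)) F} :
    g ∈ BT F n ↔ (g : Matrix (Fin (n + 3)) (Fin (n + 3)) F).BlockTriangular id := Iff.rfl

theorem UT_le_BT : UT F (n + 3) ≤ BT F n := fun _ hu => hu.1

/-- conjugates of root elements whose image lies in `Ub` are unitriangular -/
theorem conj_xr_mem_UT (g : SpecialLinearGroup (Fin (n + 3)) F) {i j : Fin (n + 3)} (hij : i < j)
    (c : F) (h : pq F n (g * xr i j hij.ne' c * g⁻¹) ∈ Ub F n) :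
    g * xr i j hij.ne' c * g⁻¹ ∈ UT F (n + 3) := by
  obtain ⟨u', hu', he⟩ := h
  have h1 : u' = g * xr i j hij.ne' c * g⁻¹ := by
    apply eq_of_pq_eq he (eb_ne_zero (F := F) (n := n) 0) (UT_mulVec_eb_zero hu')
    unfold xr
    rw [TVc_conj]
    exact TVc_sub_one_sq _ _ _ c
  rw [← h1]
  exact hu'

/-- an element of `SL` whose image normalizes `Ub` conjugates `UT` into itself -/
theorem conj_mem_UT_of_normalizer (g : SpecialLinearGroup (Fin (n + 3)) F)
    (hg : pq F n g ∈ Subgroup.normalizer
      ((Ub F n : Subgroup (ProjectiveSpecialLinearGroup (Fin (n + 3)) F)) : Set _))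
    (u : SpecialLinearGroup (Fin (n + 3)) F) (hu : u ∈ UT F (n + 3)) :
    g * u * g⁻¹ ∈ UT F (n + 3) := by
  have hle : posRoots F n ≤ (UT F (n + 3)).comap (MulAut.conj g).toMonoidHom := by
    unfold posRoots
    rw [Subgroup.closure_le]
    rintro _ ⟨i, j, hij, c, rfl⟩
    rw [SetLike.mem_coe, Subgroup.mem_comap]
    show g * xr i j hij.ne' c * g⁻¹ ∈ UT F (n + 3)
    apply conj_xr_mem_UT g hij c
    rw [map_mul, map_mul, map_inv]
    exact (Subgroup.mem_normalizer_iff.mp hg _).mp ⟨_, xr_mem_UT hij c, rfl⟩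
  exact hle (UT_le_posRoots hu)

/-- an element of `SL` with `g⁻¹ UT g ≤ UT` is upper triangular -/
theorem upper_of_conj_UT (g : SpecialLinearGroup (Fin (n + 3)) F)
    (h : ∀ u ∈ UT F (n + 3), g⁻¹ * u * g ∈ UT F (n + 3)) : g ∈ BT F n := by
  have key : ∀ (j : ℕ) (jj : Fin (n + 3)), jj.val = j → ∀ a : Fin (n + 3), jj < a →
      (g : Matrix (Fin (n + 3)) (Fin (n + 3)) F) a jj = 0 := by
    intro j
    induction j using Nat.strong_induction_on with
    | _ j ih =>
    intro jj hjj a hja
    -- the predecessor `m` of `a`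
    have ha1 : 1 ≤ a.val := by
      have : jj.val < a.val := hja
      omega
    set m : Fin (n + 3) := ⟨a.val - 1, by have := a.2; omega⟩ with hm
    have hma : m < a := by
      rw [Fin.lt_def]
      show a.val - 1 < a.val
      omega
    have hjm : jj ≤ m := by
      rw [Fin.le_def]
      show jj.val ≤ a.val - 1
      have : jj.val < a.val := hja
      omega
    have hu := xr_mem_UT (F := F) hma 1
    have hu'' := h _ hu
    set u'' := g⁻¹ * xr m a hma.ne' 1 * g with hu''def
    have heq : xr m a hma.ne' 1 * g = g * u'' := by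
      rw [hu''def]; group
    have h1 : ((xr m a hma.ne' 1 * g : SpecialLinearGroup (Fin (n + 3)) F) :
        Matrix (Fin (n + 3)) (Fin (n + 3)) F) m jj =
        ((g * u'' : SpecialLinearGroup (Fin (n + 3)) F) :
          Matrix (Fin (n + 3)) (Fin (n + 3)) F) m jj := by rw [heq]
    rw [xr_mul_apply, if_pos rfl, Matrix.SpecialLinearGroup.coe_mul, Matrix.mul_apply] at h1
    have h2 : ∑ k, (g : Matrix (Fin (n + 3)) (Fin (n + 3)) F) m k *
        (u'' : Matrix (Fin (n + 3)) (Fin (n + 3)) F) k jj =
        (g : Matrix (Fin (n + 3)) (Fin (n + 3)) F) m jj := by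
      rw [Finset.sum_eq_single jj]
      · rw [hu''.2, mul_one]
      · intro k _ hk
        rcases lt_or_gt_of_ne hk with hlt | hgt
        · have : (g : Matrix (Fin (n + 3)) (Fin (n + 3)) F) m k = 0 :=
            ih k.val (by rw [← hjj]; exact hlt) k rfl m (lt_of_lt_of_le hlt hjm)
          rw [this, zero_mul]
        · rw [hu''.1 hgt, mul_zero]
      · intro hh
        exact absurd (Finset.mem_univ jj) hh
    rw [h2] at h1
    have h3 : (1 : F) * 1 * (g : Matrix (Fin (n + 3)) (Fin (n + 3)) F) a jj = 0 := by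
      have := h1
      rw [add_eq_left] at this
      exact this
    rw [one_mul, one_mul] at h3
    exact h3
  intro a jj hja
  exact key jj.val jj rfl a hja

/-- the normalizer of `Ub` consists of images of upper triangular matrices -/
theorem normalizer_Ub_le :
    Subgroup.normalizer ((Ub F n : Subgroup (ProjectiveSpecialLinearGroup (Fin (n + 3)) F)) : Set _) ≤
      (BT F n).map (pq F n) := by
  intro m hm
  obtain ⟨g, rfl⟩ := pq_surjective m
  refine ⟨g, ?_, rfl⟩
  apply upper_of_conj_UT
  intro u hu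
  have hm' : pq F n g⁻¹ ∈ Subgroup.normalizer
      ((Ub F n : Subgroup (ProjectiveSpecialLinearGroup (Fin (n + 3)) F)) : Set _) := by
    rw [map_inv]
    exact inv_mem hm
  have := conj_mem_UT_of_normalizer g⁻¹ hm' u hu
  rwa [inv_inv] at this

end Cfsg.Agent.Lead.PSLnFus
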