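import Mathlib
import Cfsg.Agent.Lead.PSLnFusC

set_option autoImplicit false

/-! The unipotent radicals of the minimal parabolic subgroups of `SL_{n+3}(F)`. -/

namespace Cfsg.Agent.Lead.PSLnFus

open Matrix Cfsg Cfsg.Agent.Helper8.SLTrans Cfsg.Agent.Helper8.SLRoot Cfsg.Agent.Helper8.AutSLn

variable {F : Type*} [Field F] {n : ℕ}

/-- the entry in an adjacent position is additive on the unitriangular group -/
theorem adj_mul_apply {a b : Fin (n + 3)} (hab : b.val = a.val + 1)
    {u v : SpecialLinearGroup (Fin (n + 3)) F} (hu : u ∈ UT F (n + 3)) (hv : v ∈ UT F (n + 3)) :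
    ((u * v : SpecialLinearGroup (Fin (n + 3)) F) : Matrix (Fin (n + 3)) (Fin (n + 3)) F) a b =
      (u : Matrix (Fin (n + 3)) (Fin (n + 3)) F) a b +
        (v : Matrix (Fin (n + 3)) (Fin (n + 3)) F) a b := by
  have hne : a ≠ b := by
    intro h
    rw [h] at hab
    omega
  rw [Matrix.SpecialLinearGroup.coe_mul, Matrix.mul_apply, Finset.sum_eq_add a b hne]
  · rw [hu.2, hv.2, one_mul, mul_one, add_comm]
  · rintro k - ⟨hka, hkb⟩
    rcases lt_or_gt_of_ne hka with h | h
    · rw [hu.1 h, zero_mul]
    · have hkb' : b < k := by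
        rw [Fin.lt_def] at h ⊢
        have : k.val ≠ b.val := fun e => hkb (Fin.ext e)
        omega
      rw [hv.1 hkb', mul_zero]
  · intro h
    exact absurd (Finset.mem_univ a) h
  · intro h
    exact absurd (Finset.mem_univ b) h

theorem adj_inv_apply {a b : Fin (n + 3)} (hab : b.val = a.val + 1)
    {u : SpecialLinearGroup (Fin (n + 3)) F} (hu : u ∈ UT F (n + 3)) :
    ((u⁻¹ : SpecialLinearGroup (Fin (n + 3)) F) : Matrix (Fin (n + 3)) (Fin (n + 3)) F) a b =
      - (u : Matrix (Fin (n + 3)) (Fin (n + 3)) F) a b := by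
  have hne : a ≠ b := by
    intro h
    rw [h] at hab
    omega
  have h1 := adj_mul_apply hab hu (inv_mem hu)
  rw [mul_inv_cancel, Matrix.SpecialLinearGroup.coe_one, Matrix.one_apply_ne hne] at h1
  exact (neg_eq_of_add_eq_zero_right h1.symm).symm

/-- the unipotent radical of the minimal parabolic subgroup attached to adjacent `a, b` -/
def RR (F : Type*) [Field F] (n : ℕ) (a b : Fin (n + 3)) (hab : b.val = a.val + 1) :
    Subgroup (SpecialLinearGroup (Fin (n + 3)) F) where
  carrier := {u | u ∈ UT F (n + 3) ∧ (u : Matrix (Fin (n + 3)) (Fin (n + 3)) F) a b = 0}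
  mul_mem' := by
    rintro u v ⟨hu, hu0⟩ ⟨hv, hv0⟩
    refine ⟨mul_mem hu hv, ?_⟩
    rw [adj_mul_apply hab hu hv, hu0, hv0, add_zero]
  one_mem' := by
    refine ⟨one_mem _, ?_⟩
    rw [Matrix.SpecialLinearGroup.coe_one, Matrix.one_apply_ne]
    intro h
    rw [h] at hab
    omega
  inv_mem' := by
    rintro u ⟨hu, hu0⟩
    refine ⟨inv_mem hu, ?_⟩
    rw [adj_inv_apply hab hu, hu0, neg_zero]

theorem mem_RR {a b : Fin (n + 3)} {hab : b.val = a.val + 1}
    {u : SpecialLinearGroup (Fin (n + 3)) F} :
    u ∈ RR F n a b hab ↔ u ∈ UT F (n + 3) ∧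
      (u : Matrix (Fin (n + 3)) (Fin (n + 3)) F) a b = 0 := Iff.rfl

theorem RR_le_UT (a b : Fin (n + 3)) (hab : b.val = a.val + 1) : RR F n a b hab ≤ UT F (n + 3) :=
  fun _ hu => hu.1

/-- `UT` normalizes `RR` -/
theorem UT_conj_RR {a b : Fin (n + 3)} (hab : b.val = a.val + 1)
    {s r : SpecialLinearGroup (Fin (n + 3)) F} (hs : s ∈ UT F (n + 3)) (hr : r ∈ RR F n a b hab) :
    s * r * s⁻¹ ∈ RR F n a b hab := by
  refine ⟨mul_mem (mul_mem hs hr.1) (inv_mem hs), ?_⟩
  rw [adj_mul_apply hab (mul_mem hs hr.1) (inv_mem hs), adj_mul_apply hab hs hr.1,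
    adj_inv_apply hab hs, hr.2]
  ring

/-- the lower root element normalizes `RR` -/
theorem lower_conj_RR {a b : Fin (n + 3)} (hab : b.val = a.val + 1) (c : F)
    {r : SpecialLinearGroup (Fin (n + 3)) F} (hr : r ∈ RR F n a b hab) :
    xr b a (by intro h; rw [h] at hab; omega) c * r *
      (xr b a (by intro h; rw [h] at hab; omega) c)⁻¹ ∈ RR F n a b hab := by
  have hne : a ≠ b := by
    intro h
    rw [h] at hab
    omega
  have hlt : a < b := by
    rw [Fin.lt_def]; omega
  have hinv : (xr b a hne c)⁻¹ = xr b a hne (-c) := TVc_inv _ _ _ c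
  rw [hinv]
  obtain ⟨⟨hr1, hr2⟩, hr0⟩ := hr
  have hentry : ∀ k l : Fin (n + 3),
      ((xr b a hne c * r * xr b a hne (-c) : SpecialLinearGroup (Fin (n + 3)) F) :
        Matrix (Fin (n + 3)) (Fin (n + 3)) F) k l =
      (r : Matrix (Fin (n + 3)) (Fin (n + 3)) F) k l +
        c * (if k = b then 1 else 0) * (r : Matrix (Fin (n + 3)) (Fin (n + 3)) F) a l -
        c * (r : Matrix (Fin (n + 3)) (Fin (n + 3)) F) k b * (if l = a then 1 else 0) := by
    intro k l
    rw [mul_xr_apply, xr_mul_apply, xr_mul_apply, hr0]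
    ring
  refine ⟨⟨?_, ?_⟩, ?_⟩
  · intro k l hlk
    change l < k at hlk
    rw [hentry, hr1 hlk]
    by_cases hkb : k = b
    · subst hkb
      by_cases hla : l = a
      · subst hla
        rw [if_pos rfl, if_pos rfl, hr2, hr2]
        ring
      · have hla' : l < a := by
          rw [Fin.lt_def] at hlk ⊢
          have : l.val ≠ a.val := fun e => hla (Fin.ext e)
          omega
        rw [if_pos rfl, if_neg hla, hr1 hla']
        ring
    · rw [if_neg hkb]
      by_cases hla : l = a
      · subst hla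
        have hbk : b < k := by
          rw [Fin.lt_def] at hlk ⊢
          have : k.val ≠ b.val := fun e => hkb (Fin.ext e)
          omega
        rw [if_pos rfl, hr1 hbk]
        ring
      · rw [if_neg hla]
        ring
  · intro k
    rw [hentry, hr2]
    by_cases hkb : k = b
    · subst hkb
      rw [if_pos rfl, if_neg hne.symm, hr0]
      ring
    · rw [if_neg hkb]
      by_cases hka : k = a
      · subst hka
        rw [if_pos rfl, hr0]
        ring
      · rw [if_neg hka]
        ring
  · rw [hentry, hr0, if_neg hne, if_neg hne.symm]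
    ring

/-- an element of `UT` commuting with `RR` lies in `RR` -/
theorem mem_RR_of_comm {a b : Fin (n + 3)} (hab : b.val = a.val + 1)
    {u : SpecialLinearGroup (Fin (n + 3)) F} (hu : u ∈ UT F (n + 3))
    (hc : ∀ r ∈ RR F n a b hab, u * r = r * u) : u ∈ RR F n a b hab := by
  refine ⟨hu, ?_⟩
  have hne : a ≠ b := by
    intro h
    rw [h] at hab
    omega
  by_cases hb : b.val + 1 < n + 3
  · -- the successor `c'` of `b`
    set c' : Fin (n + 3) := ⟨b.val + 1, hb⟩ with hc'
    have hbc : b < c' := by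
      rw [Fin.lt_def]; show b.val < b.val + 1; omega
    have hac : a ≠ c' := by
      intro h
      have := congrArg Fin.val h
      rw [hc'] at this
      simp only at this
      omega
    have hr : xr b c' hbc.ne' (1 : F) ∈ RR F n a b hab := by
      refine ⟨xr_mem_UT hbc 1, ?_⟩
      rw [xr_apply, Matrix.one_apply_ne hne, if_neg hne]
      ring
    have h1 := hc _ hr
    have h2 : ((u * xr b c' hbc.ne' (1 : F) : SpecialLinearGroup (Fin (n + 3)) F) :
        Matrix (Fin (n + 3)) (Fin (n + 3)) F) a c' =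
        ((xr b c' hbc.ne' (1 : F) * u : SpecialLinearGroup (Fin (n + 3)) F) :
          Matrix (Fin (n + 3)) (Fin (n + 3)) F) a c' := by rw [h1]
    rw [mul_xr_apply, xr_mul_apply, if_pos rfl, if_neg hne] at h2
    have h3 : (1 : F) * (u : Matrix (Fin (n + 3)) (Fin (n + 3)) F) a b * 1 = 0 := by
      have := h2
      rw [mul_zero, zero_mul, add_zero, add_eq_left] at this
      exact this
    rw [one_mul, mul_one] at h3
    exact h3
  · -- the predecessor `a'` of `a`
    have ha1 : 1 ≤ a.val := by
      have := b.2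
      omega
    set a' : Fin (n + 3) := ⟨a.val - 1, by have := a.2; omega⟩ with ha'
    have haa : a' < a := by
      rw [Fin.lt_def]; show a.val - 1 < a.val; omega
    have ha'b : a' ≠ b := by
      intro h
      have := congrArg Fin.val h
      rw [ha'] at this
      simp only at this
      omega
    have hr : xr a' a haa.ne' (1 : F) ∈ RR F n a b hab := by
      refine ⟨xr_mem_UT haa 1, ?_⟩
      rw [xr_apply, Matrix.one_apply_ne hne, if_neg haa.ne']
      ring
    have h1 := hc _ hr
    have h2 : ((u * xr a' a haa.ne' (1 : F) : SpecialLinearGroup (Fin (n + 3)) F) :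
        Matrix (Fin (n + 3)) (Fin (n + 3)) F) a' b =
        ((xr a' a haa.ne' (1 : F) * u : SpecialLinearGroup (Fin (n + 3)) F) :
          Matrix (Fin (n + 3)) (Fin (n + 3)) F) a' b := by rw [h1]
    rw [mul_xr_apply, xr_mul_apply, if_pos rfl, if_neg hne.symm] at h2
    have h3 : (1 : F) * 1 * (u : Matrix (Fin (n + 3)) (Fin (n + 3)) F) a b = 0 := by
      have := h2
      rw [mul_zero, add_zero] at this
      have h4 := this.symm
      rw [add_eq_left] at h4
      exact h4
    rw [one_mul, one_mul] at h3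
    exact h3

end Cfsg.Agent.Lead.PSLnFus
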