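import Mathlib
import Cfsg.Agent.Lead.PSLnFusD

set_option autoImplicit false

/-! The torus of `SL_{n+3}(F)` is generated by the rank one tori of adjacent positions; upper
triangular matrices factor as unitriangular times torus. -/

namespace Cfsg.Agent.Lead.PSLnFus

open Matrix Cfsg Cfsg.Agent.Helper8.SLTrans Cfsg.Agent.Helper8.SLRoot Cfsg.Agent.Helper8.AutSLn

variable {F : Type*} [Field F] {n : ℕ}

theorem adj_ne {a b : Fin (n + 3)} (hab : b.val = a.val + 1) : a ≠ b := by
  intro h
  rw [h] at hab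
  omega

theorem hh_eq_diagonal (i j : Fin (n + 3)) (hij : i ≠ j) (t : Fˣ) :
    ((hh i j hij t : SpecialLinearGroup (Fin (n + 3)) F) :
      Matrix (Fin (n + 3)) (Fin (n + 3)) F) =
      Matrix.diagonal (fun a => if a = i then (t : F) else if a = j then ((t⁻¹ : Fˣ) : F) else 1) := by
  ext a b
  rw [hh_apply, Matrix.diagonal_apply]

/-- the subgroup generated by the rank one tori of adjacent positions -/
def H0 (F : Type*) [Field F] (n : ℕ) : Subgroup (SpecialLinearGroup (Fin (n + 3)) F) :=
  Subgroup.closure {g | ∃ (a b : Fin (n + 3)) (hab : b.val = a.val + 1) (t : Fˣ),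
    g = hh a b (adj_ne hab) t}

theorem diag_mem_H0_aux : ∀ (m k : ℕ), k + m = n + 2 →
    ∀ d : SpecialLinearGroup (Fin (n + 3)) F,
      (∃ δ : Fin (n + 3) → F, (d : Matrix (Fin (n + 3)) (Fin (n + 3)) F) = Matrix.diagonal δ ∧
        ∀ a : Fin (n + 3), a.val < k → δ a = 1) → d ∈ H0 F n := by
  intro m
  induction m with
  | zero =>
    rintro k hk d ⟨δ, hd, hδ⟩
    have hk' : k = n + 2 := by omega
    subst hk'
    have hdet : ∏ a, δ a = 1 := by
      have := d.2
      rwa [hd, Matrix.det_diagonal] at this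
    rw [Fin.prod_univ_castSucc] at hdet
    have h1 : ∏ i : Fin (n + 2), δ i.castSucc = 1 := by
      apply Finset.prod_eq_one
      intro i _
      apply hδ
      rw [Fin.val_castSucc]
      exact i.2
    rw [h1, one_mul] at hdet
    have : d = 1 := by
      apply Subtype.ext
      rw [hd, Matrix.SpecialLinearGroup.coe_one, ← Matrix.diagonal_one]
      congr 1
      funext a
      by_cases ha : a = Fin.last (n + 2)
      · rw [ha, hdet]
      · apply hδ
        have := Fin.val_lt_last ha
        exact this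
    rw [this]
    exact one_mem _
  | succ m ih =>
    rintro k hk d ⟨δ, hd, hδ⟩
    have hk1 : k + 1 < n + 3 := by omega
    set a : Fin (n + 3) := ⟨k, by omega⟩ with ha
    set b : Fin (n + 3) := ⟨k + 1, hk1⟩ with hb
    have hab : b.val = a.val + 1 := rfl
    have hdet : ∏ c, δ c = 1 := by
      have := d.2
      rwa [hd, Matrix.det_diagonal] at this
    have hδ0 : δ a ≠ 0 := by
      intro h0
      have : ∏ c, δ c = 0 := Finset.prod_eq_zero (Finset.mem_univ a) h0
      rw [this] at hdet
      exact zero_ne_one hdet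
    set t : Fˣ := Units.mk0 (δ a) hδ0 with ht
    set d' := hh a b (adj_ne hab) t⁻¹ * d with hd'
    have hd'mem : d' ∈ H0 F n := by
      apply ih (k + 1) (by omega) d'
      refine ⟨fun c => (if c = a then ((t⁻¹ : Fˣ) : F) else if c = b then (((t⁻¹)⁻¹ : Fˣ) : F) else 1) * δ c,
        ?_, ?_⟩
      · rw [hd', Matrix.SpecialLinearGroup.coe_mul, hh_eq_diagonal, hd,
          Matrix.diagonal_mul_diagonal]
      · intro c hc
        show (if c = a then ((t⁻¹ : Fˣ) : F) else if c = b then (((t⁻¹)⁻¹ : Fˣ) : F) else 1) * δ c = 1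
        by_cases hca : c = a
        · rw [if_pos hca, hca, ht, Units.val_inv_eq_inv_val, Units.val_mk0, inv_mul_cancel₀ hδ0]
        · have hcb : c ≠ b := by
            intro h
            rw [h] at hc
            simp only [hb] at hc
            omega
          rw [if_neg hca, if_neg hcb, one_mul]
          apply hδ
          have : c.val ≠ k := fun e => hca (Fin.ext e)
          omega
    have hd_eq : d = (hh a b (adj_ne hab) t⁻¹)⁻¹ * d' := by
      rw [hd']; group
    rw [hd_eq]
    apply mul_mem (inv_mem _) hd'mem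
    exact Subgroup.subset_closure ⟨a, b, hab, t⁻¹, rfl⟩

/-- every diagonal matrix of determinant one lies in `H0` -/
theorem diag_mem_H0 (d : SpecialLinearGroup (Fin (n + 3)) F) (δ : Fin (n + 3) → F)
    (hd : (d : Matrix (Fin (n + 3)) (Fin (n + 3)) F) = Matrix.diagonal δ) : d ∈ H0 F n :=
  diag_mem_H0_aux (n + 2) 0 (by omega) d ⟨δ, hd, fun a ha => absurd ha (Nat.not_lt_zero _)⟩

/-- upper triangular = unitriangular times torus -/
theorem BT_decomp (b : SpecialLinearGroup (Fin (n + 3)) F) (hb : b ∈ BT F n) :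
    ∃ u ∈ UT F (n + 3), ∃ h ∈ H0 F n, b = u * h := by
  have hb' : (b : Matrix (Fin (n + 3)) (Fin (n + 3)) F).BlockTriangular id := hb
  have hdet : ∏ a, (b : Matrix (Fin (n + 3)) (Fin (n + 3)) F) a a = 1 := by
    rw [← Matrix.det_of_upperTriangular hb']
    exact b.2
  have hne : ∀ a, (b : Matrix (Fin (n + 3)) (Fin (n + 3)) F) a a ≠ 0 := by
    intro a h0
    have : ∏ c, (b : Matrix (Fin (n + 3)) (Fin (n + 3)) F) c c = 0 :=
      Finset.prod_eq_zero (Finset.mem_univ a) h0
    rw [this] at hdet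
    exact zero_ne_one hdet
  have hdet' : ∏ a, ((b : Matrix (Fin (n + 3)) (Fin (n + 3)) F) a a)⁻¹ = 1 := by
    rw [Finset.prod_inv_distrib, hdet, inv_one]
  set e : SpecialLinearGroup (Fin (n + 3)) F :=
    ⟨Matrix.diagonal (fun a => ((b : Matrix (Fin (n + 3)) (Fin (n + 3)) F) a a)⁻¹), by
      rw [Matrix.det_diagonal, hdet']⟩ with he
  have heH : e ∈ H0 F n := diag_mem_H0 e _ rfl
  have heU : (e : Matrix (Fin (n + 3)) (Fin (n + 3)) F).BlockTriangular id :=
    Matrix.blockTriangular_diagonal _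
  refine ⟨b * e, ⟨?_, fun a => ?_⟩, e⁻¹, inv_mem heH, by group⟩
  · rw [Matrix.SpecialLinearGroup.coe_mul]
    exact hb'.mul heU
  · rw [Matrix.SpecialLinearGroup.coe_mul, diag_mul_of_upper hb' heU]
    show (b : Matrix (Fin (n + 3)) (Fin (n + 3)) F) a a *
      Matrix.diagonal (fun a => ((b : Matrix (Fin (n + 3)) (Fin (n + 3)) F) a a)⁻¹) a a = 1
    rw [Matrix.diagonal_apply_eq, mul_inv_cancel₀ (hne a)]

/-- upper triangular matrices normalize the unitriangular group -/
theorem BT_conj_UT {b u : SpecialLinearGroup (Fin (n + 3)) F} (hb : b ∈ BT F n)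
    (hu : u ∈ UT F (n + 3)) : b * u * b⁻¹ ∈ UT F (n + 3) := by
  have hb' : (b : Matrix (Fin (n + 3)) (Fin (n + 3)) F).BlockTriangular id := hb
  have hbi : ((b⁻¹ : SpecialLinearGroup (Fin (n + 3)) F) :
      Matrix (Fin (n + 3)) (Fin (n + 3)) F).BlockTriangular id := upper_inv hb'
  have hbu : ((b * u : SpecialLinearGroup (Fin (n + 3)) F) :
      Matrix (Fin (n + 3)) (Fin (n + 3)) F).BlockTriangular id := by
    rw [Matrix.SpecialLinearGroup.coe_mul]
    exact hb'.mul hu.1
  refine ⟨?_, fun a => ?_⟩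
  · rw [Matrix.SpecialLinearGroup.coe_mul]
    exact hbu.mul hbi
  · rw [Matrix.SpecialLinearGroup.coe_mul, diag_mul_of_upper hbu hbi,
      Matrix.SpecialLinearGroup.coe_mul, diag_mul_of_upper hb' hu.1, hu.2, mul_one]
    have h1 := diag_mul_of_upper hb' hbi a
    rw [Cfsg.Agent.Helper8.AutSLn.coe_mul_inv, Matrix.one_apply_eq] at h1
    exact h1.symm

theorem hh_mem_BT (i j : Fin (n + 3)) (hij : i ≠ j) (t : Fˣ) : hh i j hij t ∈ BT F n := by
  show ((hh i j hij t : SpecialLinearGroup (Fin (n + 3)) F) :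
      Matrix (Fin (n + 3)) (Fin (n + 3)) F).BlockTriangular id
  rw [hh_eq_diagonal]
  exact Matrix.blockTriangular_diagonal _

end Cfsg.Agent.Lead.PSLnFus
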