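import Mathlib
import Cfsg.Agent.Lead.PSLnFusE
import Cfsg.Agent.Lead.SimpleCritD

set_option autoImplicit false

/-! The `p`-fusion system of `PSL_{n+3}(F)` in the defining characteristic is simple. -/

namespace Cfsg.Agent.Lead.PSLnFus

open Matrix Cfsg Cfsg.Agent.Helper8.SLTrans Cfsg.Agent.Helper8.SLRoot Cfsg.Agent.Helper8.AutSLn
open Cfsg.Agent.Lead.SimpCrit

variable {F : Type*} [Field F] {n : ℕ}

theorem xr_pow (i j : Fin (n + 3)) (h : j ≠ i) (c : F) (m : ℕ) :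
    xr i j h c ^ m = xr i j h ((m : F) * c) := by
  induction m with
  | zero => rw [pow_zero, Nat.cast_zero, zero_mul, xr_zero]
  | succ m ih =>
    rw [pow_succ, ih, xr_add]
    congr 1
    push_cast
    ring

theorem orderOf_pq_xr (p : ℕ) [Fact p.Prime] [CharP F p] (i j : Fin (n + 3)) (h : j ≠ i) (c : F) :
    ∃ k : ℕ, orderOf (pq F n (xr i j h c)) = p ^ k := by
  have h1 : pq F n (xr i j h c) ^ p = 1 := by
    rw [← map_pow, xr_pow, CharP.cast_eq_zero, zero_mul, xr_zero, map_one]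
  have h2 := orderOf_dvd_of_pow_eq_one h1
  rcases (Nat.dvd_prime (Fact.out : p.Prime)).mp h2 with h3 | h3
  · exact ⟨0, by rw [h3, pow_zero]⟩
  · exact ⟨1, by rw [h3, pow_one]⟩

theorem pq_injOn_UT {u : SpecialLinearGroup (Fin (n + 3)) F} (hu : u ∈ UT F (n + 3))
    (h : pq F n u = 1) : u = 1 := by
  apply eq_one_of_mem_UT_of_mem_center hu
  rw [← ker_pq]
  exact h

theorem Ub_ne_bot : Ub F n ≠ ⊥ := by
  intro h
  have h1 : pq F n (xr (0 : Fin (n + 3)) (Fin.last (n + 2)) (zero_lt_last (n := n)).ne' 1) ∈ Ub F n :=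
    ⟨_, xr_mem_UT zero_lt_last 1, rfl⟩
  rw [h, Subgroup.mem_bot] at h1
  have h2 := pq_injOn_UT (xr_mem_UT (F := F) (zero_lt_last (n := n)) 1) h1
  unfold xr at h2
  rw [TVc_eq_one_iff _ (eb_ne_zero 0) (eb_ne_zero _)] at h2
  exact one_ne_zero h2

/-- the image of `RR` in `PSL` -/
def Rbar (F : Type*) [Field F] (n : ℕ) (a b : Fin (n + 3)) (hab : b.val = a.val + 1) :
    Subgroup (ProjectiveSpecialLinearGroup (Fin (n + 3)) F) := (RR F n a b hab).map (pq F n)

theorem Rbar_le_Ub (a b : Fin (n + 3)) (hab : b.val = a.val + 1) : Rbar F n a b hab ≤ Ub F n :=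
  Subgroup.map_mono (RR_le_UT a b hab)

theorem Ub_le_normalizer_Rbar [Finite F] (a b : Fin (n + 3)) (hab : b.val = a.val + 1) :
    Ub F n ≤ Subgroup.normalizer ((Rbar F n a b hab : Subgroup _) : Set _) := by
  rintro _ ⟨s, hs, rfl⟩
  apply mem_normalizer_of_conj_mem_of_finite
  rintro _ ⟨r, hr, rfl⟩
  rw [← map_inv, ← map_mul, ← map_mul]
  exact ⟨_, UT_conj_RR hab hs hr, rfl⟩

theorem lower_mem_normalizer_Rbar [Finite F] (a b : Fin (n + 3)) (hab : b.val = a.val + 1) (c : F) :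
    pq F n (xr b a (adj_ne hab) c) ∈
      Subgroup.normalizer ((Rbar F n a b hab : Subgroup _) : Set _) := by
  apply mem_normalizer_of_conj_mem_of_finite
  rintro _ ⟨r, hr, rfl⟩
  rw [← map_inv, ← map_mul, ← map_mul]
  exact ⟨_, lower_conj_RR hab c hr, rfl⟩

theorem centralizer_Rbar_le (a b : Fin (n + 3)) (hab : b.val = a.val + 1) :
    Ub F n ⊓ Subgroup.centralizer ((Rbar F n a b hab : Subgroup _) : Set _) ≤ Rbar F n a b hab := by
  rintro _ ⟨⟨u, hu, rfl⟩, hc⟩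
  refine ⟨u, ?_, rfl⟩
  apply mem_RR_of_comm hab hu
  intro r hr
  have h1 := Subgroup.mem_centralizer_iff.mp hc (pq F n r) ⟨r, hr, rfl⟩
  rw [← map_mul, ← map_mul, MonoidHom.eq_iff, ker_pq] at h1
  have h2 : (u * r)⁻¹ * (r * u) ∈ UT F (n + 3) :=
    mul_mem (inv_mem (mul_mem hu hr.1)) (mul_mem hr.1 hu)
  have h3 := eq_one_of_mem_UT_of_mem_center h2 h1
  rw [inv_mul_eq_one] at h3
  exact h3

/-- the hypotheses of the simplicity criterion hold for `Ub` -/
theorem crit_Ub [Fintype F] (p : ℕ) [Fact p.Prime] [CharP F p] : Crit p (Ub F n) := by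
  refine ⟨fun T hT hcl => stronglyClosed_Ub p T hT hcl, ?_⟩
  intro m hm
  obtain ⟨b, hb, rfl⟩ := normalizer_Ub_le hm
  obtain ⟨u, hu, h, hh0, rfl⟩ := BT_decomp b hb
  rw [map_mul]
  apply mul_mem
  · -- the unipotent part
    apply Subgroup.subset_closure
    have huU : pq F n u ∈ Ub F n := ⟨u, hu, rfl⟩
    refine ⟨Subgroup.le_normalizer huU, Ub F n, le_rfl, Subgroup.le_normalizer, inf_le_left, ?_⟩
    apply Subgroup.subset_closure
    refine ⟨Subgroup.le_normalizer huU, ?_⟩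
    obtain ⟨k, hk⟩ := (IsPGroup.iff_orderOf.mp (isPGroup_Ub (F := F) (n := n) p)) ⟨_, huU⟩
    refine ⟨k, ?_⟩
    rw [← hk]
    exact (Subgroup.orderOf_mk _ huU).symm
  · -- the torus part
    have h1 : pq F n h ∈ (H0 F n).map (pq F n) := ⟨h, hh0, rfl⟩
    unfold H0 at h1
    rw [MonoidHom.map_closure] at h1
    refine Subgroup.closure_mono ?_ h1
    rintro _ ⟨_, ⟨a, b', hab, t, rfl⟩, rfl⟩
    refine ⟨?_, Rbar F n a b' hab, Rbar_le_Ub a b' hab, Ub_le_normalizer_Rbar a b' hab,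
      centralizer_Rbar_le a b' hab, ?_⟩
    · apply mem_normalizer_of_conj_mem_of_finite
      rintro _ ⟨u', hu', rfl⟩
      rw [← map_inv, ← map_mul, ← map_mul]
      exact ⟨_, BT_conj_UT (hh_mem_BT a b' (adj_ne hab) t) hu', rfl⟩
    · have h2 : pq F n (hh a b' (adj_ne hab) t) ∈
          (XG (eb F n a) (eb F n b') (eb_dot_ne (adj_ne hab).symm) ⊔
            XG (eb F n b') (eb F n a) (eb_dot_ne (adj_ne hab))).map (pq F n) :=
        ⟨_, hh_mem_sup a b' (adj_ne hab) t, rfl⟩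
      rw [Subgroup.map_sup] at h2
      refine (sup_le ?_ ?_ : _ ≤ Subgroup.closure _) h2
      · rintro _ ⟨_, ⟨c, rfl⟩, rfl⟩
        apply Subgroup.subset_closure
        have hlt : a < b' := by rw [Fin.lt_def]; omega
        refine ⟨Ub_le_normalizer_Rbar a b' hab ⟨_, xr_mem_UT hlt c, rfl⟩, ?_⟩
        exact orderOf_pq_xr p a b' hlt.ne' c
      · rintro _ ⟨_, ⟨c, rfl⟩, rfl⟩
        apply Subgroup.subset_closure
        exact ⟨lower_mem_normalizer_Rbar a b' hab c, orderOf_pq_xr p b' a (adj_ne hab) c⟩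

/-- the `p`-fusion system of `PSL_{n+3}(F)` on every Sylow `p`-subgroup is simple -/
theorem main [Fintype F] (p : ℕ) [Fact p.Prime] [CharP F p]
    (S : Sylow p (ProjectiveSpecialLinearGroup (Fin (n + 3)) F)) :
    (groupFusionSystem (S : Subgroup (ProjectiveSpecialLinearGroup (Fin (n + 3)) F))).IsSimple p := by
  apply crit_all p (sylowUb (F := F) (n := n) p) _ _ S
  · rw [coe_sylowUb]
    exact Ub_ne_bot
  · rw [coe_sylowUb]
    exact crit_Ub p

end Cfsg.Agent.Lead.PSLnFus
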