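import Mathlib
import Cfsg.Prelude.Def_FusionSystem
import Cfsg.Prelude.Def_LocalEven
import Cfsg.Agent.Lead.FusionAut
import Cfsg.Agent.Lead.FusionSat2
import Cfsg.Agent.Lead.SylowLemmas
import Cfsg.Agent.Helper4.UpperPSeries2

set_option autoImplicit false

/-!
`p`-stability of a group in the normalizer form against `p`-stability of its fusion system.
-/

namespace Cfsg.Agent.Lead.PStabFus

open Cfsg Cfsg.FusionSystem

open scoped commutatorElement

variable {G : Type*} [Group G]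

/-- membership in `O_p` of the image is the same for two surjections with the same kernel -/
theorem pCore_mem_iff_of_ker_eq {N A₁ A₂ : Type*} [Group N] [Group A₁] [Group A₂] (p : ℕ)
    (f₁ : N →* A₁) (f₂ : N →* A₂) (h₁ : Function.Surjective f₁) (h₂ : Function.Surjective f₂)
    (hk : f₁.ker = f₂.ker) (x : N) : f₁ x ∈ Cfsg.pCore p A₁ ↔ f₂ x ∈ Cfsg.pCore p A₂ := by
  obtain ⟨e, he⟩ : ∃ e : A₁ ≃* A₂, ∀ y, e (f₁ y) = f₂ y := by
    refine ⟨(QuotientGroup.quotientKerEquivOfSurjective f₁ h₁).symm.trans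
      ((QuotientGroup.quotientMulEquivOfEq hk).trans
        (QuotientGroup.quotientKerEquivOfSurjective f₂ h₂)), fun y => ?_⟩
    have h3 : (QuotientGroup.quotientKerEquivOfSurjective f₁ h₁).symm (f₁ y) =
        (QuotientGroup.mk y : N ⧸ f₁.ker) := by
      rw [MulEquiv.symm_apply_eq]
      rfl
    show (QuotientGroup.quotientKerEquivOfSurjective f₂ h₂)
      ((QuotientGroup.quotientMulEquivOfEq hk)
        ((QuotientGroup.quotientKerEquivOfSurjective f₁ h₁).symm (f₁ y))) = f₂ y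
    rw [h3]
    rfl
  rw [← Cfsg.Agent.Helper4.pCore_map_mulEquiv (p := p) e, ← he x]
  constructor
  · intro h
    exact ⟨_, h, rfl⟩
  · rintro ⟨y, hy, hye⟩
    have := e.injective hye
    rwa [← this]

theorem mem_centralizer_zpowers_iff (g x : G) :
    x ∈ Subgroup.centralizer (Subgroup.zpowers g : Set G) ↔ Commute x g := by
  rw [Subgroup.mem_centralizer_iff]
  constructor
  · intro h
    exact (h g (Subgroup.mem_zpowers g)).symm
  · rintro h _ ⟨k, rfl⟩
    exact ((h.zpow_right k).eq).symm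

/-- the elementwise form of quadratic action gives `[Q, g, g] = 1` -/
theorem comm_comm_eq_bot [Finite G] (Q : Subgroup G) (g : G) (h : ∀ a ∈ Q, Commute ⁅a, g⁆ g) :
    ⁅⁅Q, Subgroup.zpowers g⁆, Subgroup.zpowers g⁆ = ⊥ := by
  rw [Subgroup.commutator_eq_bot_iff_le_centralizer, Subgroup.commutator_le]
  intro a ha z hz
  rw [mem_centralizer_zpowers_iff]
  rw [← mem_powers_iff_mem_zpowers] at hz
  obtain ⟨k, rfl⟩ := hz
  induction k with
  | zero =>
    simp
  | succ k ih =>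
    have hc : Commute ⁅a, g⁆ (g ^ k) := (h a ha).pow_right k
    have h1 : ⁅a, g ^ (k + 1)⁆ = ⁅a, g ^ k⁆ * ⁅a, g⁆ := by
      have h2 : ⁅a, g ^ (k + 1)⁆ = ⁅a, g ^ k⁆ * (g ^ k * ⁅a, g⁆ * (g ^ k)⁻¹) := by
        rw [pow_succ]
        simp only [commutatorElement_def]
        group
      rw [h2, ← hc.eq, mul_inv_cancel_right]
    rw [h1]
    exact ih.mul_left (h a ha)

/-- `[Q, g, g] = 1` gives the elementwise form -/
theorem commute_of_comm_comm_eq_bot (Q : Subgroup G) (g : G)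
    (h : ⁅⁅Q, Subgroup.zpowers g⁆, Subgroup.zpowers g⁆ = ⊥) : ∀ a ∈ Q, Commute ⁅a, g⁆ g := by
  intro a ha
  have h1 : ⁅⁅a, g⁆, g⁆ ∈ ⁅⁅Q, Subgroup.zpowers g⁆, Subgroup.zpowers g⁆ :=
    Subgroup.commutator_mem_commutator
      (Subgroup.commutator_mem_commutator ha (Subgroup.mem_zpowers g)) (Subgroup.mem_zpowers g)
  rw [h, Subgroup.mem_bot] at h1
  exact commutatorElement_eq_one_iff_commute.mp h1

/-- the quadratic condition on the automorphism induced by `n ∈ N(Q)` -/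
theorem quad_iff (Q : Subgroup G) (n : Subgroup.normalizer (Q : Set G)) :
    (∀ a : Q, (Q.normalizerMonoidHom n a⁻¹) * a * (Q.normalizerMonoidHom n a⁻¹) *
        (Q.normalizerMonoidHom n (Q.normalizerMonoidHom n a)) = 1) ↔
      ∀ a ∈ Q, Commute ⁅a, (n : G)⁆ (n : G) := by
  have key : ∀ a : G, (n : G) * a⁻¹ * (n : G)⁻¹ * a * ((n : G) * a⁻¹ * (n : G)⁻¹) *
      ((n : G) * ((n : G) * a * (n : G)⁻¹) * (n : G)⁻¹) =
      ⁅a⁻¹, (n : G)⁆⁻¹ * ((n : G) * ⁅a⁻¹, (n : G)⁆ * (n : G)⁻¹) := by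
    intro a
    simp only [commutatorElement_def]
    group
  constructor
  · intro h a ha
    have h1 := congrArg (fun z : Q => (z : G)) (h ⟨a⁻¹, Q.inv_mem ha⟩)
    simp only [Subgroup.coe_mul, Subgroup.normalizerMonoidHom_apply_apply_coe, Subgroup.coe_one,
      Subgroup.coe_inv] at h1
    rw [key] at h1
    simp only [inv_inv] at h1
    have h4 : (n : G) * ⁅a, (n : G)⁆ * (n : G)⁻¹ = ⁅a, (n : G)⁆ := by
      rw [inv_mul_eq_one] at h1
      exact h1.symm
    show ⁅a, (n : G)⁆ * (n : G) = (n : G) * ⁅a, (n : G)⁆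
    have h5 := congrArg (fun z => z * (n : G)) h4
    simp only [inv_mul_cancel_right] at h5
    exact h5.symm
  · intro h a
    apply Subtype.ext
    simp only [Subgroup.coe_mul, Subgroup.normalizerMonoidHom_apply_apply_coe, Subgroup.coe_one,
      Subgroup.coe_inv]
    rw [key]
    have h1 := h (a : G)⁻¹ (Q.inv_mem a.2)
    have h2 : (n : G) * ⁅(a : G)⁻¹, (n : G)⁆ * (n : G)⁻¹ = ⁅(a : G)⁻¹, (n : G)⁆ := by
      rw [← h1.eq, mul_inv_cancel_right]
    rw [h2, inv_mul_cancel]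

/-- `Aut_F(Q)` for the fusion system of a group is the image of `N(Q)` -/
theorem autGroup_eq_range {S Q : Subgroup G} (hQ : Q ≤ S) :
    (Cfsg.groupFusionSystem S).autGroup Q = Q.normalizerMonoidHom.range := by
  ext α
  rw [Fusion.mem_autGroup_iff _ hQ]
  constructor
  · rintro ⟨-, -, g, hg⟩
    have hg' : ∀ x : Q, ((α x : Q) : G) = g * (x : G) * g⁻¹ := fun x => hg x
    have hgN : g ∈ Subgroup.normalizer (Q : Set G) := by
      rw [Subgroup.mem_normalizer_iff]
      intro x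
      constructor
      · intro hx
        rw [← hg' ⟨x, hx⟩]
        exact (α ⟨x, hx⟩).2
      · intro hx
        have h1 := hg' (α.symm ⟨g * x * g⁻¹, hx⟩)
        rw [MulEquiv.apply_symm_apply] at h1
        have h2 : x = ((α.symm ⟨g * x * g⁻¹, hx⟩ : Q) : G) := by
          have h3 : g * x * g⁻¹ = g * ((α.symm ⟨g * x * g⁻¹, hx⟩ : Q) : G) * g⁻¹ := h1
          exact mul_left_cancel (mul_right_cancel h3)
        rw [h2]
        exact (α.symm ⟨g * x * g⁻¹, hx⟩).2
    refine ⟨⟨g, hgN⟩, ?_⟩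
    ext x
    rw [hg' x]
    rfl
  · rintro ⟨n, rfl⟩
    refine ⟨hQ, fun x => hQ (Q.normalizerMonoidHom n x).2, (n : G), fun x => rfl⟩

/-- conjugation by `t` as an isomorphism `N(Q) ≃* N(Q')` when `Q' = tQt⁻¹` -/
noncomputable def normEquiv (t : G) (Q Q' : Subgroup G) (h : ∀ x, x ∈ Q ↔ t * x * t⁻¹ ∈ Q') :
    Subgroup.normalizer (Q : Set G) ≃* Subgroup.normalizer (Q' : Set G) where
  toFun x := ⟨t * (x : G) * t⁻¹, by
    rw [Subgroup.mem_normalizer_iff]
    intro y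
    have hx := Subgroup.mem_normalizer_iff.mp x.2 (t⁻¹ * y * t)
    have h1 := h (t⁻¹ * y * t)
    have h2 := h ((x : G) * (t⁻¹ * y * t) * (x : G)⁻¹)
    have e1 : t * (t⁻¹ * y * t) * t⁻¹ = y := by group
    have e2 : t * ((x : G) * (t⁻¹ * y * t) * (x : G)⁻¹) * t⁻¹ =
        t * (x : G) * t⁻¹ * y * (t * (x : G) * t⁻¹)⁻¹ := by group
    rw [e1] at h1
    rw [e2] at h2
    rw [← h1, ← h2]
    exact hx⟩
  invFun y := ⟨t⁻¹ * (y : G) * t, by
    rw [Subgroup.mem_normalizer_iff]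
    intro x
    have hy := Subgroup.mem_normalizer_iff.mp y.2 (t * x * t⁻¹)
    have h1 := h x
    have h2 := h (t⁻¹ * (y : G) * t * x * (t⁻¹ * (y : G) * t)⁻¹)
    have e2 : t * (t⁻¹ * (y : G) * t * x * (t⁻¹ * (y : G) * t)⁻¹) * t⁻¹ =
        (y : G) * (t * x * t⁻¹) * (y : G)⁻¹ := by group
    rw [e2] at h2
    rw [h1, h2]
    exact hy⟩
  left_inv x := by
    apply Subtype.ext
    show t⁻¹ * (t * (x : G) * t⁻¹) * t = (x : G)
    group
  right_inv y := by
    apply Subtype.ext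
    show t * (t⁻¹ * (y : G) * t) * t⁻¹ = (y : G)
    group
  map_mul' x y := by
    apply Subtype.ext
    show t * ((x : G) * (y : G)) * t⁻¹ = t * (x : G) * t⁻¹ * (t * (y : G) * t⁻¹)
    group

theorem normEquiv_coe (t : G) (Q Q' : Subgroup G) (h : ∀ x, x ∈ Q ↔ t * x * t⁻¹ ∈ Q')
    (x : Subgroup.normalizer (Q : Set G)) : ((normEquiv t Q Q' h x : _) : G) = t * (x : G) * t⁻¹ :=
  rfl

/-- the two kernels agree -/
theorem ker_eq (t : G) (Q Q' : Subgroup G) (h : ∀ x, x ∈ Q ↔ t * x * t⁻¹ ∈ Q') :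
    (QuotientGroup.mk' ((Subgroup.centralizer (Q : Set G)).subgroupOf
      (Subgroup.normalizer (Q : Set G)))).ker =
    (Q'.normalizerMonoidHom.rangeRestrict.comp (normEquiv t Q Q' h).toMonoidHom).ker := by
  rw [QuotientGroup.ker_mk']
  ext x
  rw [MonoidHom.mem_ker, MonoidHom.comp_apply, ← MonoidHom.mem_ker, MonoidHom.ker_rangeRestrict,
    Subgroup.normalizerMonoidHom_ker, Subgroup.mem_subgroupOf, Subgroup.mem_subgroupOf,
    Subgroup.mem_centralizer_iff, Subgroup.mem_centralizer_iff]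
  show (∀ y ∈ (Q : Set G), y * (x : G) = (x : G) * y) ↔
    ∀ y ∈ (Q' : Set G), y * (t * (x : G) * t⁻¹) = t * (x : G) * t⁻¹ * y
  constructor
  · intro hx y hy
    have h1 := (h (t⁻¹ * y * t)).mpr (by
      have e1 : t * (t⁻¹ * y * t) * t⁻¹ = y := by group
      rw [e1]; exact hy)
    have h2 := hx _ h1
    have h3 := congrArg (fun z => t * z * t⁻¹) h2
    have e3 : t * (t⁻¹ * y * t * (x : G)) * t⁻¹ = y * (t * (x : G) * t⁻¹) := by group
    have e4 : t * ((x : G) * (t⁻¹ * y * t)) * t⁻¹ = t * (x : G) * t⁻¹ * y := by group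
    rw [e3, e4] at h3
    exact h3
  · intro hx y hy
    have h2 := hx _ ((h y).mp hy)
    have h3 := congrArg (fun z => t⁻¹ * z * t) h2
    have e3 : t⁻¹ * (t * y * t⁻¹ * (t * (x : G) * t⁻¹)) * t = y * (x : G) := by group
    have e4 : t⁻¹ * (t * (x : G) * t⁻¹ * (t * y * t⁻¹)) * t = (x : G) * y := by group
    rw [e3, e4] at h3
    exact h3

/-- `O_p` of `N(Q)/C(Q)` against `O_p` of the image of `N(Q')` in `Aut(Q')`, for `Q' = tQt⁻¹` -/
theorem mem_pCore_iff (p : ℕ) (t : G) (Q Q' : Subgroup G) (h : ∀ x, x ∈ Q ↔ t * x * t⁻¹ ∈ Q')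
    (x : Subgroup.normalizer (Q : Set G)) :
    (QuotientGroup.mk x : ↥(Subgroup.normalizer (Q : Set G)) ⧸
        (Subgroup.centralizer (Q : Set G)).subgroupOf (Subgroup.normalizer (Q : Set G))) ∈
      Cfsg.pCore p _ ↔
    Q'.normalizerMonoidHom (normEquiv t Q Q' h x) ∈
      (Cfsg.pCore p Q'.normalizerMonoidHom.range).map Q'.normalizerMonoidHom.range.subtype := by
  have h1 := pCore_mem_iff_of_ker_eq p
    (QuotientGroup.mk' ((Subgroup.centralizer (Q : Set G)).subgroupOf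
      (Subgroup.normalizer (Q : Set G))))
    (Q'.normalizerMonoidHom.rangeRestrict.comp (normEquiv t Q Q' h).toMonoidHom)
    (QuotientGroup.mk'_surjective _)
    (Q'.normalizerMonoidHom.rangeRestrict_surjective.comp (normEquiv t Q Q' h).surjective)
    (ker_eq t Q Q' h) x
  rw [QuotientGroup.mk'_apply] at h1
  rw [h1]
  constructor
  · intro h2
    exact ⟨_, h2, rfl⟩
  · rintro ⟨y, hy, hye⟩
    have : y = (Q'.normalizerMonoidHom.rangeRestrict.comp (normEquiv t Q Q' h).toMonoidHom) x :=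
      Subtype.ext hye
    rw [← this]
    exact hy

theorem main {p : ℕ} [Fact p.Prime] [Finite G] (P : Sylow p G) :
    Cfsg.IsNormalizerPStable p G ↔
      (∀ Q : Subgroup G, (Cfsg.groupFusionSystem (P : Subgroup G)).IsFullyNormalized Q →
        ∀ χ : MulAut ↥Q, χ ∈ (Cfsg.groupFusionSystem (P : Subgroup G)).autGroup Q →
          (∀ a : ↥Q, (χ a⁻¹) * a * (χ a⁻¹) * (χ (χ a)) = 1) →
            χ ∈ ((Cfsg.pCore p ↥((Cfsg.groupFusionSystem (P : Subgroup G)).autGroup Q)).map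
              ((Cfsg.groupFusionSystem (P : Subgroup G)).autGroup Q).subtype :
                Subgroup (MulAut ↥Q))) := by
  have hid : ∀ Q : Subgroup G, ∀ x, x ∈ Q ↔ (1 : G) * x * (1 : G)⁻¹ ∈ Q := by
    intro Q x
    simp
  constructor
  · intro hst Q hQ χ hχ hquad
    have hQP : Q ≤ (P : Subgroup G) := hQ.1
    have hQp : IsPGroup p Q := P.2.to_le hQP
    rw [autGroup_eq_range hQP] at hχ ⊢
    obtain ⟨n, rfl⟩ := hχ
    have h1 := (quad_iff Q n).mp hquad
    have h2 := comm_comm_eq_bot Q (n : G) h1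
    have h3 := hst Q hQp (n : G) n.2 h2
    have h4 := (mem_pCore_iff p 1 Q Q (hid Q) n).mp h3
    have h5 : normEquiv 1 Q Q (hid Q) n = n := by
      apply Subtype.ext
      rw [normEquiv_coe]
      simp
    rw [h5] at h4
    exact h4
  · intro hF Q hQp g hg hquad
    obtain ⟨h, hh⟩ := exists_conj_le_sylow P Q hQp
    obtain ⟨Q'', ⟨φ, ⟨-, -, k, hk⟩, hrange⟩, hfn⟩ :=
      Fusion.exists_isConj_fullyNormalized (Cfsg.groupFusionSystem (P : Subgroup G)) hh
    have hconj : ∀ x, x ∈ Q ↔ (k * h) * x * (k * h)⁻¹ ∈ Q'' := by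
      intro x
      rw [← hrange]
      constructor
      · intro hx
        have hx' : h * x * h⁻¹ ∈ Q.map (MulAut.conj h).toMonoidHom := ⟨x, hx, rfl⟩
        refine ⟨⟨_, hx'⟩, ?_⟩
        rw [hk]
        show k * (h * x * h⁻¹) * k⁻¹ = _
        group
      · rintro ⟨⟨y, z, hz, rfl⟩, hy⟩
        rw [hk] at hy
        have hy' : k * (h * z * h⁻¹) * k⁻¹ = k * h * x * (k * h)⁻¹ := hy
        have : z = x := by
          have e1 : k * h * x * (k * h)⁻¹ = k * (h * x * h⁻¹) * k⁻¹ := by group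
          rw [e1] at hy'
          exact mul_left_cancel (mul_right_cancel (mul_left_cancel (mul_right_cancel hy')))
        rw [← this]
        exact hz
    rw [mem_pCore_iff p (k * h) Q Q'' hconj ⟨g, hg⟩, ← autGroup_eq_range hfn.1]
    apply hF Q'' hfn
    · rw [autGroup_eq_range hfn.1]
      exact ⟨_, rfl⟩
    · rw [quad_iff]
      intro a ha
      rw [normEquiv_coe]
      show Commute ⁅a, k * h * g * (k * h)⁻¹⁆ (k * h * g * (k * h)⁻¹)
      have ha' : (k * h)⁻¹ * a * (k * h) ∈ Q := by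
        rw [hconj]
        have e1 : k * h * ((k * h)⁻¹ * a * (k * h)) * (k * h)⁻¹ = a := by group
        rw [e1]
        exact ha
      have h1 := commute_of_comm_comm_eq_bot Q g hquad _ ha'
      have e2 : ⁅a, k * h * g * (k * h)⁻¹⁆ =
          (k * h) * ⁅(k * h)⁻¹ * a * (k * h), g⁆ * (k * h)⁻¹ := by
        simp only [commutatorElement_def]
        group
      rw [e2]
      show (k * h) * ⁅(k * h)⁻¹ * a * (k * h), g⁆ * (k * h)⁻¹ * (k * h * g * (k * h)⁻¹) =
        k * h * g * (k * h)⁻¹ * ((k * h) * ⁅(k * h)⁻¹ * a * (k * h), g⁆ * (k * h)⁻¹)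
      have e3 : (k * h) * ⁅(k * h)⁻¹ * a * (k * h), g⁆ * (k * h)⁻¹ * (k * h * g * (k * h)⁻¹) =
          (k * h) * (⁅(k * h)⁻¹ * a * (k * h), g⁆ * g) * (k * h)⁻¹ := by group
      have e4 : k * h * g * (k * h)⁻¹ * ((k * h) * ⁅(k * h)⁻¹ * a * (k * h), g⁆ * (k * h)⁻¹) =
          (k * h) * (g * ⁅(k * h)⁻¹ * a * (k * h), g⁆) * (k * h)⁻¹ := by group
      rw [e3, e4, h1.eq]

end Cfsg.Agent.Lead.PStabFus
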