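import Mathlib
import Cfsg.Prelude.Def_OddOrderLocal

set_option autoImplicit false

namespace Cfsg.Agent.Lead.PuigSeriesOld

open Cfsg

theorem puigStep_antitone {G : Type*} [Group G] {X Y : Subgroup G} (h : X ≤ Y) :
    puigStep Y ≤ puigStep X := by
  unfold puigStep
  apply sSup_le_sSup
  rintro A ⟨hA, hY⟩
  exact ⟨hA, h.trans hY⟩

theorem puigStep_bot {G : Type*} [Group G] : puigStep (⊥ : Subgroup G) = ⊤ := by
  rw [eq_top_iff]
  intro g _
  have : Subgroup.zpowers g ≤ puigStep (⊥ : Subgroup G) := by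
    unfold puigStep
    apply le_sSup
    refine ⟨inferInstance, bot_le⟩
  exact this (Subgroup.mem_zpowers g)

theorem puigSeq_succ {G : Type*} [Group G] (n : ℕ) :
    puigSeq G (n + 1) = puigStep (puigSeq G n) := rfl

theorem puigSeq_zero {G : Type*} [Group G] : puigSeq G 0 = ⊥ := rfl

theorem puigSeq_one {G : Type*} [Group G] : puigSeq G 1 = ⊤ := by
  rw [puigSeq_succ, puigSeq_zero, puigStep_bot]

theorem puigSeq_even_le_succ {G : Type*} [Group G] (j : ℕ) :
    puigSeq G (2 * j) ≤ puigSeq G (2 * j + 1) ∧ puigSeq G (2 * j + 2) ≤ puigSeq G (2 * j + 1) := by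
  induction j with
  | zero =>
    have h0 : puigSeq G (2 * 0) ≤ puigSeq G (2 * 0 + 1) := by
      simp [puigSeq_zero]
    refine ⟨h0, ?_⟩
    rw [puigSeq_succ (2 * 0 + 1), puigSeq_succ (2 * 0)]
    exact puigStep_antitone h0
  | succ j ih =>
    have h1 : puigSeq G (2 * (j + 1)) ≤ puigSeq G (2 * (j + 1) + 1) := by
      have e1 : 2 * (j + 1) = (2 * j + 1) + 1 := by ring
      have e2 : 2 * (j + 1) + 1 = (2 * j + 2) + 1 := by ring
      rw [e2, puigSeq_succ (2 * j + 2), e1, puigSeq_succ (2 * j + 1)]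
      exact puigStep_antitone ih.2
    refine ⟨h1, ?_⟩
    rw [puigSeq_succ (2 * (j + 1) + 1), puigSeq_succ (2 * (j + 1))]
    exact puigStep_antitone h1

theorem puigSeq_even_mono_step {G : Type*} [Group G] (n : ℕ) :
    puigSeq G (2 * n) ≤ puigSeq G (2 * n + 2) ∧ puigSeq G (2 * n + 3) ≤ puigSeq G (2 * n + 1) := by
  induction n with
  | zero =>
    have h0 : puigSeq G (2 * 0) ≤ puigSeq G (2 * 0 + 2) := by simp [puigSeq_zero]
    refine ⟨h0, ?_⟩
    rw [puigSeq_succ (2 * 0 + 2), puigSeq_succ (2 * 0)]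
    exact puigStep_antitone h0
  | succ n ih =>
    have h1 : puigSeq G (2 * (n + 1)) ≤ puigSeq G (2 * (n + 1) + 2) := by
      have e1 : 2 * (n + 1) = (2 * n + 1) + 1 := by ring
      have e2 : 2 * (n + 1) + 2 = (2 * n + 3) + 1 := by ring
      rw [e2, puigSeq_succ (2 * n + 3), e1, puigSeq_succ (2 * n + 1)]
      exact puigStep_antitone ih.2
    refine ⟨h1, ?_⟩
    have e3 : 2 * (n + 1) + 3 = (2 * (n + 1) + 2) + 1 := by ring
    rw [e3, puigSeq_succ (2 * (n + 1) + 2), puigSeq_succ (2 * (n + 1))]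
    exact puigStep_antitone h1

theorem puigSeq_even_monotone {G : Type*} [Group G] :
    Monotone (fun n => puigSeq G (2 * n)) := by
  apply monotone_nat_of_le_succ
  intro n
  exact (puigSeq_even_mono_step n).1

theorem puigSeq_odd_antitone {G : Type*} [Group G] :
    Antitone (fun n => puigSeq G (2 * n + 1)) := by
  apply antitone_nat_of_succ_le
  intro n
  exact (puigSeq_even_mono_step n).2

theorem puigSeq_even_le_odd {G : Type*} [Group G] (n m : ℕ) :
    puigSeq G (2 * n) ≤ puigSeq G (2 * m + 1) := by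
  have h1 : puigSeq G (2 * n) ≤ puigSeq G (2 * (max n m)) :=
    puigSeq_even_monotone (le_max_left n m)
  have h2 : puigSeq G (2 * (max n m) + 1) ≤ puigSeq G (2 * m + 1) :=
    puigSeq_odd_antitone (le_max_right n m)
  exact h1.trans ((puigSeq_even_le_succ _).1.trans h2)

theorem puigLower_le_puigSubgroup {G : Type*} [Group G] : puigLower G ≤ puigSubgroup G := by
  unfold puigLower puigSubgroup
  exact iSup_le fun n => le_iInf fun m => puigSeq_even_le_odd n m

theorem puig_stabilizes {G : Type*} [Group G] [Finite G] :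
    ∃ k : ℕ, ∀ n : ℕ, k ≤ n → puigSeq G (2 * n) = puigLower G ∧
      puigSeq G (2 * n + 1) = puigSubgroup G := by
  have : Finite (Subgroup G) := inferInstance
  obtain ⟨k, hk⟩ := (wellFoundedGT_iff_monotone_chain_condition (α := Subgroup G)).1 inferInstance
    ⟨fun n => puigSeq G (2 * n), puigSeq_even_monotone⟩
  simp only [OrderHom.coe_mk] at hk
  have hL : puigLower G = puigSeq G (2 * k) := by
    unfold puigLower
    apply le_antisymm
    · apply iSup_le
      intro n
      rcases le_total n k with h | h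
      · exact puigSeq_even_monotone h
      · exact (hk n h).ge
    · exact le_iSup (fun n => puigSeq G (2 * n)) k
  have hodd : ∀ n, k ≤ n → puigSeq G (2 * n + 1) = puigSeq G (2 * k + 1) := by
    intro n hn
    rw [puigSeq_succ, puigSeq_succ, ← hk n hn]
  have hU : puigSubgroup G = puigSeq G (2 * k + 1) := by
    unfold puigSubgroup
    apply le_antisymm
    · exact iInf_le (fun n => puigSeq G (2 * n + 1)) k
    · apply le_iInf
      intro n
      rcases le_total n k with h | h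
      · exact puigSeq_odd_antitone h
      · exact (hodd n h).ge
  refine ⟨k, fun n hn => ⟨?_, ?_⟩⟩
  · rw [hL, hk n hn]
  · rw [hU, hodd n hn]

theorem puig_series_facts {G : Type*} [Group G] [Finite G] :
    Cfsg.puigSeq G 0 = ⊥ ∧ Cfsg.puigSeq G 1 = ⊤ ∧
      (∀ n m : ℕ, Cfsg.puigSeq G (2 * n) ≤ Cfsg.puigSeq G (2 * n + 2) ∧ Cfsg.puigSeq G (2 * n) ≤ Cfsg.puigSeq G (2 * m + 1) ∧
        Cfsg.puigSeq G (2 * m + 3) ≤ Cfsg.puigSeq G (2 * m + 1)) ∧
      (∃ k : ℕ, ∀ n : ℕ, k ≤ n → Cfsg.puigSeq G (2 * n) = Cfsg.puigLower G ∧ Cfsg.puigSeq G (2 * n + 1) = Cfsg.puigSubgroup G) ∧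
      Cfsg.puigLower G ≤ Cfsg.puigSubgroup G ∧
      Cfsg.puigStep (Cfsg.puigLower G) = Cfsg.puigSubgroup G ∧ Cfsg.puigStep (Cfsg.puigSubgroup G) = Cfsg.puigLower G := by
  refine ⟨puigSeq_zero, puigSeq_one, fun n m => ⟨(puigSeq_even_mono_step n).1,
    puigSeq_even_le_odd n m, (puigSeq_even_mono_step m).2⟩, puig_stabilizes,
    puigLower_le_puigSubgroup, ?_, ?_⟩
  · obtain ⟨k, hk⟩ := puig_stabilizes (G := G)
    rw [← (hk k le_rfl).1, ← (hk k le_rfl).2, puigSeq_succ]
  · obtain ⟨k, hk⟩ := puig_stabilizes (G := G)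
    rw [← (hk k le_rfl).2, ← (hk (k+1) (Nat.le_succ k)).1, ← puigSeq_succ]
    congr 1

end Cfsg.Agent.Lead.PuigSeriesOld
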