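import Mathlib
import Cfsg.Agent.Lead.PuigSeriesOld
import Cfsg.Agent.Helper1.Nilp

set_option autoImplicit false

namespace Cfsg.Agent.Lead.PuigSeriesOld

open Cfsg Cfsg.Agent.Helper1
open scoped commutatorElement

theorem puigStep_normal {G : Type*} [Group G] (X : Subgroup G) [hX : X.Normal] :
    (puigStep X).Normal := by
  constructor
  intro n hn g
  have key : puigStep X ≤ (puigStep X).comap (MulAut.conj g).toMonoidHom := by
    unfold puigStep
    apply sSup_le
    rintro A ⟨hA, hXA⟩
    rw [← Subgroup.map_le_iff_le_comap]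
    apply le_sSup
    refine ⟨?_, ?_⟩
    · exact Subgroup.map_isMulCommutative A _
    · intro x hx
      rw [Subgroup.mem_normalizer_iff]
      intro y
      have hx' : g⁻¹ * x * g⁻¹⁻¹ ∈ X := hX.conj_mem x hx g⁻¹
      have := (Subgroup.mem_normalizer_iff.1 (hXA hx')) (g⁻¹ * y * g)
      simp only [Subgroup.mem_map, MulEquiv.coe_toMonoidHom, MulAut.conj_apply]
      constructor
      · rintro ⟨a, ha, rfl⟩
        refine ⟨g⁻¹ * (x * (g * a * g⁻¹) * x⁻¹) * g, ?_, by group⟩
        have h2 := (Subgroup.mem_normalizer_iff.1 (hXA hx')) a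
        have h3 := h2.1 ha
        convert h3 using 1
        group
      · rintro ⟨a, ha, hax⟩
        have h2 := (Subgroup.mem_normalizer_iff.1 (hXA hx')) (g⁻¹ * y * g)
        have e : g⁻¹ * x * g⁻¹⁻¹ * (g⁻¹ * y * g) * (g⁻¹ * x * g⁻¹⁻¹)⁻¹ = a := by
          have : x * y * x⁻¹ = g * a * g⁻¹ := hax.symm
          calc g⁻¹ * x * g⁻¹⁻¹ * (g⁻¹ * y * g) * (g⁻¹ * x * g⁻¹⁻¹)⁻¹
              = g⁻¹ * (x * y * x⁻¹) * g := by group
            _ = a := by rw [this]; group
        rw [e] at h2
        refine ⟨g⁻¹ * y * g, h2.2 ha, by group⟩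
  have := key hn
  simpa using this

theorem puigSeq_normal {G : Type*} [Group G] (n : ℕ) : (puigSeq G n).Normal := by
  induction n with
  | zero => rw [puigSeq_zero]; infer_instance
  | succ n ih => rw [puigSeq_succ]; exact puigStep_normal _

theorem centralizer_puigStep_le {G : Type*} [Group G] [Group.IsNilpotent G]
    (X : Subgroup G) [hX : X.Normal] :
    Subgroup.centralizer ((puigStep X : Subgroup G) : Set G) ≤ puigStep X := by
  have hLn : (puigStep X).Normal := puigStep_normal X
  set L := puigStep X with hL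
  have hCn : (Subgroup.centralizer (L : Set G)).Normal := inferInstance
  by_contra hCL
  obtain ⟨c, hcC, hcL, hc⟩ := exists_mem_commutator_mem_of_not_le hCL
  set Z := L ⊓ Subgroup.centralizer (L : Set G) with hZ
  have hZn : Z.Normal := inferInstance
  set A := Subgroup.closure ((Z : Set G) ∪ {c}) with hA
  have hcA : c ∈ A := Subgroup.subset_closure (Or.inr rfl)
  have hZA : Z ≤ A := fun z hz => Subgroup.subset_closure (Or.inl hz)
  have hAc : IsMulCommutative A := by
    apply Subgroup.isMulCommutative_closure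
    rintro a (ha | ha) b (hb | hb)
    · have ha' := Subgroup.mem_inf.1 ha
      have hb' := Subgroup.mem_inf.1 hb
      exact (Subgroup.mem_centralizer_iff.1 hb'.2 a ha'.1)
    · rw [Set.mem_singleton_iff] at hb; subst hb
      exact (Subgroup.mem_centralizer_iff.1 hcC a (Subgroup.mem_inf.1 ha).1)
    · rw [Set.mem_singleton_iff] at ha; subst ha
      exact (Subgroup.mem_centralizer_iff.1 hcC b (Subgroup.mem_inf.1 hb).1).symm
    · rw [Set.mem_singleton_iff] at ha hb; subst ha; subst hb; rfl
  have hAn : A.Normal := by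
    constructor
    intro m hm g
    induction hm using Subgroup.closure_induction with
    | mem s hs =>
      rcases hs with hs | hs
      · exact hZA (hZn.conj_mem s hs g)
      · rw [Set.mem_singleton_iff] at hs; subst hs
        have h1 : ⁅s, g⁆ ∈ L := hc g
        have h1' : ⁅s, g⁆ ∈ Subgroup.centralizer (L : Set G) := by
          rw [commutatorElement_def]
          have : s * g * s⁻¹ * g⁻¹ = s * (g * s⁻¹ * g⁻¹) := by group
          rw [this]
          exact Subgroup.mul_mem _ hcC (hCn.conj_mem _ (Subgroup.inv_mem _ hcC) g)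
        have h2 : g * s * g⁻¹ = (⁅s, g⁆)⁻¹ * s := by
          simp [commutatorElement_def, mul_assoc]
        rw [h2]
        exact A.mul_mem (A.inv_mem (hZA (Subgroup.mem_inf.2 ⟨h1, h1'⟩))) hcA
    | one => simp
    | mul a b _ _ iha ihb =>
      have : g * (a * b) * g⁻¹ = (g * a * g⁻¹) * (g * b * g⁻¹) := by group
      rw [this]; exact A.mul_mem iha ihb
    | inv a _ iha =>
      have : g * a⁻¹ * g⁻¹ = (g * a * g⁻¹)⁻¹ := by group
      rw [this]; exact A.inv_mem iha
  have hAL : A ≤ L := by
    rw [hL]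
    unfold puigStep
    apply le_sSup
    refine ⟨hAc, ?_⟩
    rw [Subgroup.normalizer_eq_top]
    exact le_top
  exact hcL (hAL hcA)

theorem puig_pgroup_facts {R : Type*} [Group R] [Finite R] (p : ℕ) [Fact p.Prime] (hR : IsPGroup p R) [Nontrivial R] :
    (∀ i : ℕ, 0 < i → Subgroup.center R ≤ Subgroup.centralizer ((Cfsg.puigSeq R i : Subgroup R) : Set R) ∧
        Subgroup.centralizer ((Cfsg.puigSeq R i : Subgroup R) : Set R) ≤ Cfsg.puigSeq R i) ∧
      (Subgroup.center R ≤ Subgroup.centralizer ((Cfsg.puigLower R : Subgroup R) : Set R) ∧ Subgroup.centralizer ((Cfsg.puigLower R : Subgroup R) : Set R) ≤ Cfsg.puigLower R) ∧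
      (Subgroup.center R ≤ Subgroup.centralizer ((Cfsg.puigSubgroup R : Subgroup R) : Set R) ∧ Subgroup.centralizer ((Cfsg.puigSubgroup R : Subgroup R) : Set R) ≤ Cfsg.puigSubgroup R) ∧
      Cfsg.puigSubgroup R ≠ ⊥ ∧ Cfsg.puigLower R ≠ ⊥ := by
  have hnil : Group.IsNilpotent R := hR.isNilpotent
  have hcen : ∀ S : Set R, Subgroup.center R ≤ Subgroup.centralizer S := fun S =>
    Subgroup.center_le_centralizer S
  have hi : ∀ i : ℕ, 0 < i →
      Subgroup.centralizer ((Cfsg.puigSeq R i : Subgroup R) : Set R) ≤ Cfsg.puigSeq R i := by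
    intro i hi
    obtain ⟨j, rfl⟩ := Nat.exists_eq_succ_of_ne_zero hi.ne'
    rw [puigSeq_succ]
    have := puigSeq_normal (G := R) j
    exact centralizer_puigStep_le _
  obtain ⟨k, hk⟩ := puig_stabilizes (G := R)
  have h1 := hk (k + 1) (Nat.le_succ k)
  have hlow : Subgroup.centralizer ((Cfsg.puigLower R : Subgroup R) : Set R) ≤ Cfsg.puigLower R := by
    rw [← h1.1]; exact hi _ (by omega)
  have hup : Subgroup.centralizer ((Cfsg.puigSubgroup R : Subgroup R) : Set R) ≤ Cfsg.puigSubgroup R := by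
    rw [← h1.2]; exact hi _ (by omega)
  have hne : ∀ L : Subgroup R, Subgroup.centralizer (L : Set R) ≤ L → L ≠ ⊥ := by
    rintro L hL rfl
    have : Subgroup.centralizer (((⊥ : Subgroup R) : Subgroup R) : Set R) = ⊤ := by
      rw [Subgroup.coe_bot, Subgroup.centralizer_eq_top_iff_subset]
      simp
    rw [this] at hL
    exact top_ne_bot (le_bot_iff.1 hL)
  exact ⟨fun i h => ⟨hcen _, hi i h⟩, ⟨hcen _, hlow⟩, ⟨hcen _, hup⟩, hne _ hup, hne _ hlow⟩

end Cfsg.Agent.Lead.PuigSeriesOld
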