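import Mathlib

set_option autoImplicit false

/-!
Two-by-two matrix algebra for quaternion subgroups of `GL₂(F)`.
-/

namespace Cfsg.Agent.Lead.Q8N

open Matrix

variable {F : Type*} [Field F]

/-- Cayley–Hamilton for `2 × 2` matrices. -/
theorem cayley2 (M : Matrix (Fin 2) (Fin 2) F) :
    M * M = M.trace • M - M.det • (1 : Matrix (Fin 2) (Fin 2) F) := by
  ext i j
  fin_cases i <;> fin_cases j <;>
    simp [Matrix.mul_apply, Fin.sum_univ_two, Matrix.det_fin_two, Matrix.trace_fin_two] <;> ring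

theorem eq_of_entries {X α_β : Matrix (Fin 2) (Fin 2) F} (h00 : X 0 0 = α_β 0 0)
    (h01 : X 0 1 = α_β 0 1) (h10 : X 1 0 = α_β 1 0) (h11 : X 1 1 = α_β 1 1) : X = α_β := by
  ext i j
  fin_cases i <;> fin_cases j
  · exact h00
  · exact h01
  · exact h10
  · exact h11

theorem entries_lin (α β : F) (M : Matrix (Fin 2) (Fin 2) F) :
    (α • (1 : Matrix (Fin 2) (Fin 2) F) + β • M) 0 0 = α + β * M 0 0 ∧
    (α • (1 : Matrix (Fin 2) (Fin 2) F) + β • M) 0 1 = β * M 0 1 ∧
    (α • (1 : Matrix (Fin 2) (Fin 2) F) + β • M) 1 0 = β * M 1 0 ∧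
    (α • (1 : Matrix (Fin 2) (Fin 2) F) + β • M) 1 1 = α + β * M 1 1 := by
  simp

/-- the centraliser of a non-scalar `2 × 2` matrix. -/
theorem comm_nonscalar {M X : Matrix (Fin 2) (Fin 2) F} (hM : ∀ z : F, M ≠ z • (1 : Matrix (Fin 2) (Fin 2) F))
    (hX : X * M = M * X) : ∃ α β : F, X = α • (1 : Matrix (Fin 2) (Fin 2) F) + β • M := by
  have e00 := congrFun (congrFun hX 0) 0
  have e01 := congrFun (congrFun hX 0) 1
  have e10 := congrFun (congrFun hX 1) 0
  have e11 := congrFun (congrFun hX 1) 1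
  simp only [Matrix.mul_apply, Fin.sum_univ_two] at e00 e01 e10 e11
  by_cases hb : M 0 1 = 0
  · by_cases hc : M 1 0 = 0
    · have had : M 0 0 ≠ M 1 1 := by
        intro h
        apply hM (M 0 0)
        apply eq_of_entries <;> simp [hb, hc, h]
      have hne : M 0 0 - M 1 1 ≠ 0 := sub_ne_zero.mpr had
      have x01 : X 0 1 = 0 := by
        have : (M 0 0 - M 1 1) * X 0 1 = 0 := by
          rw [hb] at e01; linear_combination -e01
        exact (mul_eq_zero.mp this).resolve_left hne
      have x10 : X 1 0 = 0 := by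
        have : (M 0 0 - M 1 1) * X 1 0 = 0 := by
          rw [hc] at e10; linear_combination e10
        exact (mul_eq_zero.mp this).resolve_left hne
      refine ⟨X 1 1 - (X 0 0 - X 1 1) / (M 0 0 - M 1 1) * M 1 1,
        (X 0 0 - X 1 1) / (M 0 0 - M 1 1), ?_⟩
      obtain ⟨l00, l01, l10, l11⟩ := entries_lin (X 1 1 - (X 0 0 - X 1 1) / (M 0 0 - M 1 1) * M 1 1)
        ((X 0 0 - X 1 1) / (M 0 0 - M 1 1)) M
      apply eq_of_entries
      · rw [l00]; field_simp; ring
      · rw [l01, hb, x01]; ring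
      · rw [l10, hc, x10]; ring
      · rw [l11]; ring
    · have x01 : X 0 1 = 0 := by
        have : X 0 1 * M 1 0 = 0 := by
          rw [hb] at e00; linear_combination e00
        exact (mul_eq_zero.mp this).resolve_right hc
      have h11 : (X 1 1 - X 0 0) * M 1 0 = X 1 0 * (M 1 1 - M 0 0) := by
        linear_combination e10
      refine ⟨X 0 0 - X 1 0 / M 1 0 * M 0 0, X 1 0 / M 1 0, ?_⟩
      obtain ⟨l00, l01, l10, l11⟩ := entries_lin (X 0 0 - X 1 0 / M 1 0 * M 0 0) (X 1 0 / M 1 0) M
      apply eq_of_entries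
      · rw [l00]; ring
      · rw [l01, hb, x01]; ring
      · rw [l10]; field_simp
      · rw [l11]; field_simp; linear_combination h11
  · have h10 : X 1 0 * M 0 1 = X 0 1 * M 1 0 := by linear_combination -e00
    have h11 : (X 1 1 - X 0 0) * M 0 1 = X 0 1 * (M 1 1 - M 0 0) := by
      linear_combination -e01
    refine ⟨X 0 0 - X 0 1 / M 0 1 * M 0 0, X 0 1 / M 0 1, ?_⟩
    obtain ⟨l00, l01, l10, l11⟩ := entries_lin (X 0 0 - X 0 1 / M 0 1 * M 0 0) (X 0 1 / M 0 1) M
    apply eq_of_entries
    · rw [l00]; ring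
    · rw [l01]; field_simp
    · rw [l10]; field_simp; linear_combination h10
    · rw [l11]; field_simp; linear_combination h11

theorem smul_one_inj {a b : F} (h : a • (1 : Matrix (Fin 2) (Fin 2) F) = b • 1) : a = b := by
  have := congrFun (congrFun h 0) 0
  simpa using this

theorem trace_det_of_sq {M : Matrix (Fin 2) (Fin 2) F} (hM : M * M = -1)
    (hns : ∀ z : F, M ≠ z • (1 : Matrix (Fin 2) (Fin 2) F)) : M.trace = 0 ∧ M.det = 1 := by
  have hc := cayley2 M
  rw [hM] at hc
  have ht : M.trace = 0 := by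
    by_contra ht
    apply hns ((M.det - 1) / M.trace)
    have h1 : M.trace • M = (M.det - 1) • (1 : Matrix (Fin 2) (Fin 2) F) := by
      rw [sub_smul, one_smul]
      have : M.trace • M = M.det • (1 : Matrix (Fin 2) (Fin 2) F) + -1 := by
        rw [hc]; abel
      rw [this]; abel
    calc M = (M.trace)⁻¹ • (M.trace • M) := by rw [smul_smul, inv_mul_cancel₀ ht, one_smul]
      _ = ((M.det - 1) / M.trace) • (1 : Matrix (Fin 2) (Fin 2) F) := by
          rw [h1, smul_smul]; congr 1; field_simp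
  refine ⟨ht, ?_⟩
  rw [ht, zero_smul, zero_sub] at hc
  have : (-1 : F) • (1 : Matrix (Fin 2) (Fin 2) F) = (-M.det) • 1 := by
    rw [neg_smul, one_smul, neg_smul]; exact hc
  have := smul_one_inj this
  linear_combination this

/-- the structure of a quaternion group inside `GL₂(F)`, on the level of matrices. -/
theorem q8_struct (h2 : (2 : F) ≠ 0) {I J W : Matrix (Fin 2) (Fin 2) F}
    (hIW : I * W = 1) (hI4 : (I * I) * (I * I) = 1) (hI2 : I * I ≠ 1)
    (hJI : J * I = W * J) (hJJ : J * J = I * I) :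
    I * I = -1 ∧ J * J = -1 ∧ I * J = -(J * I) ∧ I.trace = 0 ∧ I.det = 1 ∧ J.trace = 0 ∧ J.det = 1 := by
  have hJ4 : J * (J * J * J) = 1 := by
    have : J * (J * J * J) = (J * J) * (J * J) := by simp only [Matrix.mul_assoc]
    rw [this, hJJ, hI4]
  -- I * I is scalar
  have hsc : ∃ z : F, I * I = z • (1 : Matrix (Fin 2) (Fin 2) F) := by
    by_contra hns
    push Not at hns
    have cI : I * (I * I) = (I * I) * I := by simp only [Matrix.mul_assoc]
    have cJ : J * (I * I) = (I * I) * J := by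
      rw [← hJJ]; simp only [Matrix.mul_assoc]
    obtain ⟨a, b, hI⟩ := comm_nonscalar hns cI
    obtain ⟨c, d, hJ⟩ := comm_nonscalar hns cJ
    have hcomm : I * J = J * I := by
      have e : ∀ (a b c d : F) (Z : Matrix (Fin 2) (Fin 2) F),
          (a • (1 : Matrix (Fin 2) (Fin 2) F) + b • Z) * (c • (1 : Matrix (Fin 2) (Fin 2) F) + d • Z) =
          (c • (1 : Matrix (Fin 2) (Fin 2) F) + d • Z) * (a • (1 : Matrix (Fin 2) (Fin 2) F) + b • Z) := by
        intro a b c d Z
        simp only [Matrix.add_mul, Matrix.mul_add, Matrix.smul_mul, Matrix.mul_smul, Matrix.one_mul,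
          Matrix.mul_one, smul_smul]
        simp only [smul_add, smul_smul]
        rw [mul_comm c a, mul_comm c b, mul_comm d a, mul_comm d b]
        abel
      conv_lhs => rw [hI, hJ]
      conv_rhs => rw [hI, hJ]
      exact e a b c d (I * I)
    have h1 : (I - W) * J = 0 := by rw [Matrix.sub_mul, hcomm, hJI, sub_self]
    have h3 : I - W = 0 := by
      have : (I - W) * (J * (J * J * J)) = 0 := by rw [← Matrix.mul_assoc, h1, Matrix.zero_mul]
      rwa [hJ4, Matrix.mul_one] at this
    have h4 : I = W := sub_eq_zero.mp h3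
    apply hI2
    conv_lhs => rw [h4]
    rw [← h4] at hIW
    rw [← h4]; exact hIW
  obtain ⟨z, hz⟩ := hsc
  have hz2 : z * z = 1 := by
    rw [hz, Matrix.smul_mul, Matrix.mul_smul, Matrix.one_mul, smul_smul] at hI4
    have : (z * z) • (1 : Matrix (Fin 2) (Fin 2) F) = (1 : F) • 1 := by rw [hI4, one_smul]
    exact smul_one_inj this
  have hz1 : z ≠ 1 := by
    intro h
    apply hI2
    rw [hz, h, one_smul]
  have hzm : z = -1 := by
    have : (z - 1) * (z + 1) = 0 := by linear_combination hz2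
    rcases mul_eq_zero.mp this with h | h
    · exact absurd (by linear_combination h) hz1
    · linear_combination h
  have hII : I * I = -1 := by rw [hz, hzm, neg_smul, one_smul]
  have hJJ' : J * J = -1 := by rw [hJJ, hII]
  have hW : W = -I := by
    have : (-I) * I = 1 := by rw [Matrix.neg_mul, hII, neg_neg]
    calc W = ((-I) * I) * W := by rw [this, Matrix.one_mul]
      _ = (-I) * (I * W) := by rw [Matrix.mul_assoc]
      _ = -I := by rw [hIW, Matrix.mul_one]
  have hanti : I * J = -(J * I) := by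
    rw [hJI, hW, Matrix.neg_mul, neg_neg]
  have hne1 : (1 : Matrix (Fin 2) (Fin 2) F) ≠ 0 := one_ne_zero
  have hIJ0 : I * J ≠ 0 := by
    intro h
    have : I * (I * J) * J = 0 := by rw [h, Matrix.mul_zero, Matrix.zero_mul]
    rw [← Matrix.mul_assoc, hII, Matrix.neg_mul, Matrix.one_mul, Matrix.neg_mul, hJJ', neg_neg] at this
    exact hne1 this
  have key : ∀ M : Matrix (Fin 2) (Fin 2) F, (M = I ∨ M = J) → ∀ z : F, M ≠ z • (1 : Matrix (Fin 2) (Fin 2) F) := by
    intro M hM z hMz
    have hcomm : I * J = J * I := by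
      rcases hM with h | h
      · rw [← h, hMz, Matrix.smul_mul, Matrix.mul_smul, Matrix.one_mul, Matrix.mul_one]
      · rw [← h, hMz, Matrix.smul_mul, Matrix.mul_smul, Matrix.one_mul, Matrix.mul_one]
    rw [hanti] at hcomm
    have h5 : (2 : F) • (J * I) = 0 := by
      rw [two_smul]
      have := congrArg (fun X => X + J * I) hcomm
      simp only [neg_add_cancel] at this
      exact this.symm
    have h6 : J * I = 0 := (smul_eq_zero.mp h5).resolve_left h2
    apply hIJ0
    rw [hanti, h6, neg_zero]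
  obtain ⟨tI, dI⟩ := trace_det_of_sq hII (key I (Or.inl rfl))
  obtain ⟨tJ, dJ⟩ := trace_det_of_sq hJJ' (key J (Or.inr rfl))
  exact ⟨hII, hJJ', hanti, tI, dI, tJ, dJ⟩

end Cfsg.Agent.Lead.Q8N
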