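import Mathlib
import Cfsg.Agent.Lead.Q8NormA

set_option autoImplicit false

/-!
Quaternion triples of `2 × 2` matrices and the element `ω = -(1 + i + j + k)/2`.
-/

namespace Cfsg.Agent.Lead.Q8N

open Matrix

variable {F : Type*} [Field F]

/-- a quaternion triple of matrices. -/
structure QT (I J K : Matrix (Fin 2) (Fin 2) F) : Prop where
  II : I * I = -1
  JJ : J * J = -1
  KK : K * K = -1
  IJ : I * J = K
  JI : J * I = -K
  JK : J * K = I
  KJ : K * J = -I
  KI : K * I = J
  IK : I * K = -J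

theorem QT.of_anti {I J : Matrix (Fin 2) (Fin 2) F} (hII : I * I = -1) (hJJ : J * J = -1)
    (hanti : I * J = -(J * I)) : QT I J (I * J) := by
  have hJI : J * I = -(I * J) := by rw [hanti, neg_neg]
  refine ⟨hII, hJJ, ?_, rfl, hJI, ?_, ?_, ?_, ?_⟩
  · -- (IJ)(IJ) = I (JI) J = - I I J J
    calc I * J * (I * J) = I * (J * I) * J := by simp only [Matrix.mul_assoc]
      _ = -(I * I * (J * J)) := by rw [hJI]; simp only [Matrix.mul_neg, Matrix.neg_mul, Matrix.mul_assoc]
      _ = -1 := by rw [hII, hJJ]; simp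
  · calc J * (I * J) = (J * I) * J := by simp only [Matrix.mul_assoc]
      _ = -(I * (J * J)) := by rw [hJI]; simp only [Matrix.neg_mul, Matrix.mul_assoc]
      _ = I := by rw [hJJ]; simp
  · calc I * J * J = I * (J * J) := by simp only [Matrix.mul_assoc]
      _ = -I := by rw [hJJ]; simp
  · calc I * J * I = I * (J * I) := by simp only [Matrix.mul_assoc]
      _ = -(I * I * J) := by rw [hJI]; simp only [Matrix.mul_neg, Matrix.mul_assoc]
      _ = J := by rw [hII]; simp
  · calc I * (I * J) = (I * I) * J := by simp only [Matrix.mul_assoc]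
      _ = -J := by rw [hII]; simp

/-- the sum `1 + i + j + k`. -/
def om' (I J K : Matrix (Fin 2) (Fin 2) F) : Matrix (Fin 2) (Fin 2) F := 1 + I + J + K

/-- the element `ω`. -/
noncomputable def om (I J K : Matrix (Fin 2) (Fin 2) F) : Matrix (Fin 2) (Fin 2) F :=
  (-(2 : F)⁻¹) • om' I J K

variable {I J K : Matrix (Fin 2) (Fin 2) F}

theorem om'_mul_I (h : QT I J K) : om' I J K * I = J * om' I J K := by
  unfold om'
  simp only [Matrix.add_mul, Matrix.mul_add, Matrix.one_mul, Matrix.mul_one, h.II, h.JI, h.KI,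
    h.JJ, h.JK]
  abel

theorem om'_mul_J (h : QT I J K) : om' I J K * J = K * om' I J K := by
  unfold om'
  simp only [Matrix.add_mul, Matrix.mul_add, Matrix.one_mul, Matrix.mul_one, h.IJ, h.JJ, h.KJ,
    h.KI, h.KK]
  abel

theorem om'_mul_K (h : QT I J K) : om' I J K * K = I * om' I J K := by
  unfold om'
  simp only [Matrix.add_mul, Matrix.mul_add, Matrix.one_mul, Matrix.mul_one, h.IK, h.JK, h.KK,
    h.II, h.IJ]
  abel

theorem om'_sq (h : QT I J K) : om' I J K * om' I J K = (2 : F) • om' I J K - (4 : F) • 1 := by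
  unfold om'
  simp only [Matrix.add_mul, Matrix.mul_add, Matrix.one_mul, Matrix.mul_one, h.II, h.JJ, h.KK,
    h.IJ, h.JI, h.JK, h.KJ, h.KI, h.IK]
  rw [show (4 : F) = 1 + 1 + 1 + 1 by norm_num, show (2 : F) = 1 + 1 by norm_num]
  simp only [add_smul, one_smul]
  abel

theorem om_mul_I (h : QT I J K) : om I J K * I = J * om I J K := by
  unfold om
  rw [Matrix.smul_mul, Matrix.mul_smul, om'_mul_I h]

theorem om_mul_J (h : QT I J K) : om I J K * J = K * om I J K := by
  unfold om
  rw [Matrix.smul_mul, Matrix.mul_smul, om'_mul_J h]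

theorem om_mul_K (h : QT I J K) : om I J K * K = I * om I J K := by
  unfold om
  rw [Matrix.smul_mul, Matrix.mul_smul, om'_mul_K h]

theorem om_sq (h2 : (2 : F) ≠ 0) (h : QT I J K) :
    om I J K * om I J K = -om I J K - 1 := by
  unfold om
  rw [Matrix.smul_mul, Matrix.mul_smul, om'_sq h, smul_smul, smul_sub, smul_smul, smul_smul]
  have e1 : -(2 : F)⁻¹ * -(2 : F)⁻¹ * 2 = (2 : F)⁻¹ := by field_simp
  have e2 : -(2 : F)⁻¹ * -(2 : F)⁻¹ * 4 = 1 := by field_simp; norm_num
  rw [e1, e2, one_smul, neg_smul, neg_neg]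

theorem om_cube (h2 : (2 : F) ≠ 0) (h : QT I J K) :
    om I J K * om I J K * om I J K = 1 := by
  rw [om_sq h2 h, Matrix.sub_mul, Matrix.neg_mul, om_sq h2 h, Matrix.one_mul]
  abel

theorem trace_K (h2 : (2 : F) ≠ 0) (h : QT I J K) : K.trace = 0 := by
  have h1 : (I * J).trace = (J * I).trace := Matrix.trace_mul_comm I J
  rw [h.IJ, h.JI, Matrix.trace_neg] at h1
  have : (2 : F) * K.trace = 0 := by linear_combination h1
  exact (mul_eq_zero.mp this).resolve_left h2

theorem trace_om (h2 : (2 : F) ≠ 0) (h : QT I J K) (hI : I.trace = 0) (hJ : J.trace = 0) :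
    (om I J K).trace = -1 := by
  unfold om om'
  rw [Matrix.trace_smul, Matrix.trace_add, Matrix.trace_add, Matrix.trace_add, hI, hJ,
    trace_K h2 h, Matrix.trace_one]
  simp
  field_simp

theorem det_om (h2 : (2 : F) ≠ 0) (h : QT I J K) (hI : I.trace = 0) (hJ : J.trace = 0) :
    (om I J K).det = 1 := by
  have hc := cayley2 (om I J K)
  rw [om_sq h2 h, trace_om h2 h hI hJ] at hc
  have h1 : (om I J K).det • (1 : Matrix (Fin 2) (Fin 2) F) = (1 : F) • 1 := by
    rw [one_smul]
    have := congrArg (fun X => -(X - (-1 : F) • om I J K)) hc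
    simp only [neg_smul, one_smul, sub_neg_eq_add] at this
    have e1 : -(-om I J K - 1 + om I J K) = (1 : Matrix (Fin 2) (Fin 2) F) := by abel
    have e2 : -(-om I J K - (om I J K).det • (1 : Matrix (Fin 2) (Fin 2) F) + om I J K) =
        (om I J K).det • (1 : Matrix (Fin 2) (Fin 2) F) := by abel
    rw [e1, e2] at this
    exact this.symm
  exact smul_one_inj h1

end Cfsg.Agent.Lead.Q8N
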