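import Mathlib
import Cfsg.Agent.Lead.Q8NormB

set_option autoImplicit false

/-!
Quaternion subgroups of `GL₂(F)`: generators and the matrix relations.
-/

namespace Cfsg.Agent.Lead.Q8N

open Matrix

variable {F : Type*} [Field F]

theorem quat_facts :
    (QuaternionGroup.a 1 : QuaternionGroup 2) ^ 4 = 1 ∧
    (QuaternionGroup.a 1 : QuaternionGroup 2) ^ 2 ≠ 1 ∧
    (QuaternionGroup.xa 0 : QuaternionGroup 2) * QuaternionGroup.a 1 =
      (QuaternionGroup.a 1)⁻¹ * QuaternionGroup.xa 0 ∧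
    (QuaternionGroup.xa 0 : QuaternionGroup 2) * QuaternionGroup.xa 0 =
      QuaternionGroup.a 1 * QuaternionGroup.a 1 := by
  decide

theorem quat_enum (q : QuaternionGroup 2) :
    ∃ k : ℕ, q = (QuaternionGroup.a 1) ^ k ∨ q = QuaternionGroup.xa 0 * (QuaternionGroup.a 1) ^ k := by
  rcases q with i | i
  · refine ⟨i.val, Or.inl ?_⟩
    rw [QuaternionGroup.a_one_pow, ZMod.natCast_zmod_val]
  · refine ⟨i.val, Or.inr ?_⟩
    rw [QuaternionGroup.a_one_pow, ZMod.natCast_zmod_val, QuaternionGroup.xa_mul_a, zero_add]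

theorem exists_gens {R : Subgroup (GL (Fin 2) F)} (e : ↥R ≃* QuaternionGroup 2) :
    ∃ Ig Jg : GL (Fin 2) F, Ig ∈ R ∧ Jg ∈ R ∧ Ig ^ 4 = 1 ∧ Ig ^ 2 ≠ 1 ∧ Jg * Ig = Ig⁻¹ * Jg ∧
      Jg * Jg = Ig * Ig ∧ ∀ n ∈ R, ∃ k : ℕ, n = Ig ^ k ∨ n = Jg * Ig ^ k := by
  obtain ⟨q4, q2, qJI, qJJ⟩ := quat_facts
  refine ⟨(e.symm (QuaternionGroup.a 1) : ↥R), (e.symm (QuaternionGroup.xa 0) : ↥R),
    (e.symm _).2, (e.symm _).2, ?_, ?_, ?_, ?_, ?_⟩
  · have : (e.symm (QuaternionGroup.a 1)) ^ 4 = 1 := by rw [← map_pow, q4, map_one]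
    have := congrArg Subtype.val this
    simpa using this
  · intro h
    apply q2
    have h' : (e.symm (QuaternionGroup.a 1)) ^ 2 = 1 := Subtype.ext (by simpa using h)
    rw [← map_pow] at h'
    have := congrArg e h'
    simpa using this
  · have : e.symm (QuaternionGroup.xa 0) * e.symm (QuaternionGroup.a 1) =
        (e.symm (QuaternionGroup.a 1))⁻¹ * e.symm (QuaternionGroup.xa 0) := by
      rw [← map_mul, qJI, map_mul, map_inv]
    have := congrArg Subtype.val this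
    simpa using this
  · have : e.symm (QuaternionGroup.xa 0) * e.symm (QuaternionGroup.xa 0) =
        e.symm (QuaternionGroup.a 1) * e.symm (QuaternionGroup.a 1) := by
      rw [← map_mul, qJJ, map_mul]
    have := congrArg Subtype.val this
    simpa using this
  · intro n hn
    obtain ⟨k, hk⟩ := quat_enum (e ⟨n, hn⟩)
    refine ⟨k, ?_⟩
    rcases hk with hk | hk
    · left
      have : (⟨n, hn⟩ : ↥R) = (e.symm (QuaternionGroup.a 1)) ^ k := by
        rw [← map_pow, ← hk, MulEquiv.symm_apply_apply]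
      have := congrArg Subtype.val this
      simpa using this
    · right
      have : (⟨n, hn⟩ : ↥R) = e.symm (QuaternionGroup.xa 0) * (e.symm (QuaternionGroup.a 1)) ^ k := by
        rw [← map_pow, ← map_mul, ← hk, MulEquiv.symm_apply_apply]
      have := congrArg Subtype.val this
      simpa using this

/-- the matrix relations of the generators. -/
theorem gens_matrix (h2 : (2 : F) ≠ 0) {Ig Jg : GL (Fin 2) F} (h4 : Ig ^ 4 = 1) (h2' : Ig ^ 2 ≠ 1)
    (hJI : Jg * Ig = Ig⁻¹ * Jg) (hJJ : Jg * Jg = Ig * Ig) :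
    QT (Ig : Matrix (Fin 2) (Fin 2) F) (Jg : Matrix (Fin 2) (Fin 2) F)
      ((Ig : Matrix (Fin 2) (Fin 2) F) * (Jg : Matrix (Fin 2) (Fin 2) F)) ∧
    (Ig : Matrix (Fin 2) (Fin 2) F).trace = 0 ∧ (Ig : Matrix (Fin 2) (Fin 2) F).det = 1 ∧
    (Jg : Matrix (Fin 2) (Fin 2) F).trace = 0 ∧ (Jg : Matrix (Fin 2) (Fin 2) F).det = 1 := by
  have hIW : (Ig : Matrix (Fin 2) (Fin 2) F) * ((Ig⁻¹ : GL (Fin 2) F) : Matrix (Fin 2) (Fin 2) F) = 1 := by
    rw [← Units.val_mul, mul_inv_cancel, Units.val_one]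
  have hI4 : ((Ig : Matrix (Fin 2) (Fin 2) F) * Ig) * ((Ig : Matrix (Fin 2) (Fin 2) F) * Ig) = 1 := by
    have := congrArg (fun g : GL (Fin 2) F => (g : Matrix (Fin 2) (Fin 2) F)) h4
    simp only [Units.val_pow_eq_pow_val, Units.val_one] at this
    rw [← this]
    simp only [pow_succ, pow_zero, one_mul, Matrix.mul_assoc]
  have hI2 : (Ig : Matrix (Fin 2) (Fin 2) F) * Ig ≠ 1 := by
    intro h
    apply h2'
    apply Units.ext
    rw [Units.val_pow_eq_pow_val, Units.val_one, pow_two]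
    exact h
  have hJI' : (Jg : Matrix (Fin 2) (Fin 2) F) * Ig =
      ((Ig⁻¹ : GL (Fin 2) F) : Matrix (Fin 2) (Fin 2) F) * Jg := by
    rw [← Units.val_mul, ← Units.val_mul, hJI]
  have hJJ' : (Jg : Matrix (Fin 2) (Fin 2) F) * Jg = (Ig : Matrix (Fin 2) (Fin 2) F) * Ig := by
    rw [← Units.val_mul, ← Units.val_mul, hJJ]
  obtain ⟨hII, hJJm, hanti, tI, dI, tJ, dJ⟩ := q8_struct h2 hIW hI4 hI2 hJI' hJJ'
  exact ⟨QT.of_anti hII hJJm hanti, tI, dI, tJ, dJ⟩

end Cfsg.Agent.Lead.Q8N
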