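import Mathlib
import Cfsg.Agent.Lead.Q8NormC
import Cfsg.Agent.Helper8.SL2Classes

set_option autoImplicit false

/-!
The element `ω` normalises a quaternion subgroup; conjugacy in `SL₂` by traces, inside `GL₂`.
-/

namespace Cfsg.Agent.Lead.Q8N

open Matrix

variable {F : Type*} [Field F]

/-- the unit `ω`. -/
noncomputable def omU (h2 : (2 : F) ≠ 0) {I J K : Matrix (Fin 2) (Fin 2) F} (h : QT I J K) :
    GL (Fin 2) F where
  val := om I J K
  inv := om I J K * om I J K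
  val_inv := by rw [← Matrix.mul_assoc]; exact om_cube h2 h
  inv_val := om_cube h2 h

theorem omU_val (h2 : (2 : F) ≠ 0) {I J K : Matrix (Fin 2) (Fin 2) F} (h : QT I J K) :
    ((omU h2 h : GL (Fin 2) F) : Matrix (Fin 2) (Fin 2) F) = om I J K := rfl

theorem omU_conj_I (h2 : (2 : F) ≠ 0) {Ig Jg : GL (Fin 2) F}
    (h : QT (Ig : Matrix (Fin 2) (Fin 2) F) (Jg : Matrix (Fin 2) (Fin 2) F)
      ((Ig : Matrix (Fin 2) (Fin 2) F) * (Jg : Matrix (Fin 2) (Fin 2) F))) :
    omU h2 h * Ig * (omU h2 h)⁻¹ = Jg := by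
  rw [mul_inv_eq_iff_eq_mul]
  apply Units.ext
  rw [Units.val_mul, Units.val_mul, omU_val]
  exact om_mul_I h

theorem omU_conj_J (h2 : (2 : F) ≠ 0) {Ig Jg : GL (Fin 2) F}
    (h : QT (Ig : Matrix (Fin 2) (Fin 2) F) (Jg : Matrix (Fin 2) (Fin 2) F)
      ((Ig : Matrix (Fin 2) (Fin 2) F) * (Jg : Matrix (Fin 2) (Fin 2) F))) :
    omU h2 h * Jg * (omU h2 h)⁻¹ = Ig * Jg := by
  rw [mul_inv_eq_iff_eq_mul]
  apply Units.ext
  rw [Units.val_mul, Units.val_mul, Units.val_mul, omU_val]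
  exact om_mul_J h

theorem omU_mem_normalizer [Finite F] (h2 : (2 : F) ≠ 0) {R : Subgroup (GL (Fin 2) F)} {Ig Jg : GL (Fin 2) F}
    (hI : Ig ∈ R) (hJ : Jg ∈ R)
    (hgen : ∀ n ∈ R, ∃ k : ℕ, n = Ig ^ k ∨ n = Jg * Ig ^ k)
    (h : QT (Ig : Matrix (Fin 2) (Fin 2) F) (Jg : Matrix (Fin 2) (Fin 2) F)
      ((Ig : Matrix (Fin 2) (Fin 2) F) * (Jg : Matrix (Fin 2) (Fin 2) F))) :
    omU h2 h ∈ Subgroup.normalizer (R : Set (GL (Fin 2) F)) := by
  haveI : Finite (R : Set (GL (Fin 2) F)) := Set.toFinite _ |>.to_subtype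
  apply Subgroup.mem_normalizer_fintype
  intro n hn
  have hpow : ∀ k : ℕ, omU h2 h * Ig ^ k * (omU h2 h)⁻¹ = Jg ^ k := by
    intro k
    have := omU_conj_I h2 h
    calc omU h2 h * Ig ^ k * (omU h2 h)⁻¹ = (omU h2 h * Ig * (omU h2 h)⁻¹) ^ k := by rw [conj_pow]
      _ = Jg ^ k := by rw [this]
  obtain ⟨k, hk | hk⟩ := hgen n hn
  · rw [hk, hpow]
    exact R.pow_mem hJ k
  · rw [hk]
    have : omU h2 h * (Jg * Ig ^ k) * (omU h2 h)⁻¹ =
        (omU h2 h * Jg * (omU h2 h)⁻¹) * (omU h2 h * Ig ^ k * (omU h2 h)⁻¹) := by group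
    rw [this, hpow, omU_conj_J]
    exact R.mul_mem (R.mul_mem hI hJ) (R.pow_mem hJ k)

/-- matrices commuting with both generators are scalar. -/
theorem scalar_of_comm (h2 : (2 : F) ≠ 0) {I J K Y : Matrix (Fin 2) (Fin 2) F} (h : QT I J K)
    (hI : I.trace = 0) (hYI : Y * I = I * Y) (hYJ : Y * J = J * Y) :
    ∃ z : F, Y = z • (1 : Matrix (Fin 2) (Fin 2) F) := by
  have hns : ∀ z : F, I ≠ z • (1 : Matrix (Fin 2) (Fin 2) F) := by
    intro z hz
    have h1 : z * z = -1 := by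
      have := h.II
      rw [hz, Matrix.smul_mul, Matrix.mul_smul, Matrix.one_mul, smul_smul] at this
      have h' : (z * z) • (1 : Matrix (Fin 2) (Fin 2) F) = (-1 : F) • 1 := by
        rw [this, neg_smul, one_smul]
      exact smul_one_inj h'
    have h3 : (2 : F) * z = 0 := by
      rw [hz, Matrix.trace_smul, Matrix.trace_one] at hI
      simp at hI
      rcases hI with hI | hI
      · rw [hI, mul_zero]
      · exact absurd hI h2
    have hz0 : z = 0 := (mul_eq_zero.mp h3).resolve_left h2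
    rw [hz0] at h1
    have : (1 : F) = 0 := by linear_combination h1
    exact one_ne_zero this
  obtain ⟨α, β, hY⟩ := comm_nonscalar hns hYI
  refine ⟨α, ?_⟩
  have hK0 : K ≠ 0 := by
    intro hK
    have := h.KK
    rw [hK, Matrix.mul_zero] at this
    have h1 : (0 : Matrix (Fin 2) (Fin 2) F) 0 0 = (-1 : Matrix (Fin 2) (Fin 2) F) 0 0 := by rw [this]
    simp at h1
  have hb : β = 0 := by
    have e1 : Y * J = α • J + β • K := by
      rw [hY, Matrix.add_mul, Matrix.smul_mul, Matrix.smul_mul, Matrix.one_mul, h.IJ]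
    have e2 : J * Y = α • J - β • K := by
      rw [hY, Matrix.mul_add, Matrix.mul_smul, Matrix.mul_smul, Matrix.mul_one, h.JI, smul_neg,
        sub_eq_add_neg]
    rw [e1, e2] at hYJ
    have e3 : (2 * β) • K = 0 := by
      rw [mul_smul, two_smul]
      have := congrArg (fun X => X - α • J + β • K) hYJ
      simp only [add_sub_cancel_left, sub_sub_cancel_left] at this
      rw [this]; abel
    rcases smul_eq_zero.mp e3 with h' | h'
    · exact (mul_eq_zero.mp h').resolve_left h2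
    · exact absurd h' hK0
  rw [hY, hb, zero_smul, add_zero]

end Cfsg.Agent.Lead.Q8N
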