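import Mathlib
import Cfsg.Agent.Lead.Q8NormD
import Cfsg.Prelude.Def_GeometricClasses

set_option autoImplicit false

/-!
Elements of prime order and the normaliser of a quaternion subgroup of `GL₂(p)`.
-/

namespace Cfsg.Agent.Lead.Q8N

open Matrix

variable {F : Type*} [Field F]

theorem mem_SL_iff (g : GL (Fin 2) F) :
    g ∈ Cfsg.Geo.specialLinear (Fin 2) F ↔ (g : Matrix (Fin 2) (Fin 2) F).det = 1 := by
  unfold Cfsg.Geo.specialLinear
  rw [MonoidHom.mem_ker]
  constructor
  · intro h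
    have := congrArg Units.val h
    simpa using this
  · intro h
    apply Units.ext
    simpa using h

open Cfsg.Agent.Helper8.SL2C in
theorem conj_of_trace [Finite F] {x t : GL (Fin 2) F} (hx : (x : Matrix (Fin 2) (Fin 2) F).det = 1)
    (ht : (t : Matrix (Fin 2) (Fin 2) F).det = 1)
    (htr : (t : Matrix (Fin 2) (Fin 2) F).trace = (x : Matrix (Fin 2) (Fin 2) F).trace)
    (hne : (x : Matrix (Fin 2) (Fin 2) F).trace ^ 2 ≠ 4) :
    ∃ g : GL (Fin 2) F, (g : Matrix (Fin 2) (Fin 2) F).det = 1 ∧ g⁻¹ * x * g = t := by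
  let xs : SpecialLinearGroup (Fin 2) F := ⟨x, hx⟩
  let ts : SpecialLinearGroup (Fin 2) F := ⟨t, ht⟩
  have e1 : tr xs = (x : Matrix (Fin 2) (Fin 2) F).trace := by
    rw [Matrix.trace_fin_two]; rfl
  have e2 : tr ts = (t : Matrix (Fin 2) (Fin 2) F).trace := by
    rw [Matrix.trace_fin_two]; rfl
  have h1 := isConj_comp_of_tr_sq_ne (g := xs) (by rw [e1]; exact hne)
  have h2 := isConj_comp_of_tr_sq_ne (g := ts) (by rw [e2, htr]; exact hne)
  rw [e1] at h1
  rw [e2, htr] at h2
  obtain ⟨c, hc⟩ := isConj_iff.mp (h1.trans h2.symm)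
  refine ⟨SpecialLinearGroup.toGL c⁻¹, (c⁻¹).2, ?_⟩
  have hxs : SpecialLinearGroup.toGL xs = x := Units.ext rfl
  have hts : SpecialLinearGroup.toGL ts = t := Units.ext rfl
  rw [← hxs, ← hts, ← hc, map_mul, map_mul, map_inv, inv_inv]

/-- a scalar matrix of determinant one has square one. -/
theorem sq_of_scalar {x : GL (Fin 2) F} (hx : (x : Matrix (Fin 2) (Fin 2) F).det = 1) {z : F}
    (hz : (x : Matrix (Fin 2) (Fin 2) F) = z • 1) : x ^ 2 = 1 := by
  have hzz : z * z = 1 := by
    rw [hz, Matrix.det_smul, Matrix.det_one] at hx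
    simp at hx
    rcases hx with hx | hx <;> rw [hx] <;> ring
  apply Units.ext
  rw [Units.val_pow_eq_pow_val, Units.val_one, pow_two, hz, Matrix.smul_mul, Matrix.mul_smul,
    Matrix.one_mul, smul_smul, hzz, one_smul]

/-- trace zero from `x² ` scalar. -/
theorem trace_of_sq_scalar {M : Matrix (Fin 2) (Fin 2) F} (hd : M.det = 1) {z : F}
    (hz : M * M = z • 1) (hns : ∀ z : F, M ≠ z • (1 : Matrix (Fin 2) (Fin 2) F)) : M.trace = 0 := by
  by_contra ht
  have hc := cayley2 M
  rw [hz, hd, one_smul] at hc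
  apply hns ((z + 1) / M.trace)
  have h1 : M.trace • M = (z + 1) • (1 : Matrix (Fin 2) (Fin 2) F) := by
    rw [add_smul, one_smul, hc]; abel
  calc M = (M.trace)⁻¹ • (M.trace • M) := by rw [smul_smul, inv_mul_cancel₀ ht, one_smul]
    _ = ((z + 1) / M.trace) • (1 : Matrix (Fin 2) (Fin 2) F) := by
        rw [h1, smul_smul]; congr 1; field_simp

/-- trace `±1` from `x³` scalar. -/
theorem trace_of_cube_scalar {M : Matrix (Fin 2) (Fin 2) F} (hd : M.det = 1) {z : F}
    (hz : M * M * M = z • 1) (hns : ∀ z : F, M ≠ z • (1 : Matrix (Fin 2) (Fin 2) F)) :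
    M.trace = 1 ∨ M.trace = -1 := by
  have hc := cayley2 M
  rw [hd, one_smul] at hc
  have h3 : M * M * M = (M.trace ^ 2 - 1) • M - M.trace • (1 : Matrix (Fin 2) (Fin 2) F) := by
    rw [hc, Matrix.sub_mul, Matrix.smul_mul, hc, Matrix.one_mul, smul_sub, smul_smul, sub_smul,
      one_smul, pow_two]
    abel
  have ht : M.trace ^ 2 - 1 = 0 := by
    by_contra ht
    apply hns ((z + M.trace) / (M.trace ^ 2 - 1))
    have h1 : (M.trace ^ 2 - 1) • M = (z + M.trace) • (1 : Matrix (Fin 2) (Fin 2) F) := by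
      rw [add_smul, ← hz, h3]; abel
    calc M = (M.trace ^ 2 - 1)⁻¹ • ((M.trace ^ 2 - 1) • M) := by
          rw [smul_smul, inv_mul_cancel₀ ht, one_smul]
      _ = ((z + M.trace) / (M.trace ^ 2 - 1)) • (1 : Matrix (Fin 2) (Fin 2) F) := by
          rw [h1, smul_smul]; congr 1; field_simp
  have : (M.trace - 1) * (M.trace + 1) = 0 := by linear_combination ht
  rcases mul_eq_zero.mp this with h | h
  · left; linear_combination h
  · right; linear_combination h

end Cfsg.Agent.Lead.Q8N
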