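import Mathlib
import Cfsg.Agent.Lead.Q8NormE

set_option autoImplicit false

/-!
Elements of prime order at least five normalising a group of order eight centralise it.
-/

namespace Cfsg.Agent.Lead.Q8N

open Matrix

/-- a normalising element whose `r`-th power centralises a group of order 8 (with a central
involution-like element fixed) centralises it, `r ≥ 5` prime. -/
theorem central_of_prime {G : Type*} [Group G] (R : Subgroup G) [Finite R] (hcard : Nat.card R = 8)
    {y : G} (hy : y ∈ Subgroup.normalizer (R : Set G)) {r : ℕ} (hr : r.Prime) (hr5 : 5 ≤ r)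
    (hpow : ∀ n ∈ R, y ^ r * n * (y ^ r)⁻¹ = n) {Z : G} (hZ : Z ∈ R) (hZ1 : Z ≠ 1)
    (hZy : y * Z * y⁻¹ = Z) : ∀ n ∈ R, y * n * y⁻¹ = n := by
  classical
  haveI : Fintype R := Fintype.ofFinite R
  haveI : Fact r.Prime := ⟨hr⟩
  have hmem : ∀ n : R, y * (n : G) * y⁻¹ ∈ R := fun n =>
    (Subgroup.mem_normalizer_iff.mp hy n).mp n.2
  let f : Function.End R := fun n => ⟨y * (n : G) * y⁻¹, hmem n⟩
  have hfk : ∀ (k : ℕ) (n : R), (((f ^ k) n : R) : G) = y ^ k * (n : G) * (y ^ k)⁻¹ := by
    intro k
    induction k with
    | zero =>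
      intro n
      simp only [pow_zero, one_mul, inv_one, mul_one]
      rfl
    | succ k ih =>
      intro n
      rw [pow_succ']
      change y * (((f ^ k) n : R) : G) * y⁻¹ = _
      rw [ih n, pow_succ']
      group
  have hfr : f ^ r ^ 1 = 1 := by
    rw [pow_one]
    funext n
    apply Subtype.ext
    rw [hfk r n, hpow _ n.2]
    rfl
  have hmod := Equiv.Perm.card_fixedPoints_modEq (f := f) (p := r) (n := 1) hfr
  -- the fixed points form a subgroup
  let C : Subgroup R := (Subgroup.centralizer ({y} : Set G)).subgroupOf R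
  have hCmem : ∀ n : R, n ∈ C ↔ f n = n := by
    intro n
    rw [Subgroup.mem_subgroupOf, Subgroup.mem_centralizer_iff]
    constructor
    · intro h
      apply Subtype.ext
      change y * (n : G) * y⁻¹ = n
      rw [h y rfl]; group
    · intro h g hg
      rw [Set.mem_singleton_iff] at hg
      rw [hg]
      have := congrArg Subtype.val h
      change y * (n : G) * y⁻¹ = n at this
      calc y * (n : G) = y * n * y⁻¹ * y := by group
        _ = n * y := by rw [this]
  have hcardC : Fintype.card (Function.fixedPoints f) = Nat.card C := by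
    rw [← Nat.card_eq_fintype_card]
    apply Nat.card_congr
    exact Equiv.subtypeEquivRight (fun n => (hCmem n).symm)
  have hdvd : Nat.card C ∣ 8 := by
    rw [← hcard]; exact Subgroup.card_subgroup_dvd_card C
  have h2 : 1 < Nat.card C := by
    rw [Subgroup.one_lt_card_iff_ne_bot]
    intro hbot
    have : (⟨Z, hZ⟩ : R) ∈ C := (hCmem _).mpr (Subtype.ext hZy)
    rw [hbot, Subgroup.mem_bot] at this
    exact hZ1 (congrArg Subtype.val this)
  have hc8 : Nat.card C = 8 := by
    rw [← Nat.card_eq_fintype_card, hcard, hcardC] at hmod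
    have hle : Nat.card C ≤ 8 := Nat.le_of_dvd (by norm_num) hdvd
    have hd := (Nat.modEq_iff_dvd' hle).mp hmod.symm
    by_contra hne
    have hpos : 0 < 8 - Nat.card C := by omega
    have hrle := Nat.le_of_dvd hpos hd
    have : Nat.card C = 2 ∨ Nat.card C = 4 := by
      have : Nat.card C ∈ Nat.divisors 8 := Nat.mem_divisors.mpr ⟨hdvd, by norm_num⟩
      have h8 : Nat.divisors 8 = {1, 2, 4, 8} := by decide
      rw [h8] at this
      simp only [Finset.mem_insert, Finset.mem_singleton] at this
      rcases this with h | h | h | h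
      · rw [h] at h2; omega
      · exact Or.inl h
      · exact Or.inr h
      · exact absurd h hne
    rcases this with h | h
    · rw [h] at hd
      have : r ≤ 6 := Nat.le_of_dvd (by norm_num) hd
      interval_cases r
      · norm_num at hd
      · exact absurd hr (by decide)
    · rw [h] at hd
      have : r ≤ 4 := Nat.le_of_dvd (by norm_num) hd
      omega
  have htop : C = ⊤ := Subgroup.eq_top_of_card_eq C (by rw [hc8, hcard])
  intro n hn
  have : (⟨n, hn⟩ : R) ∈ C := by rw [htop]; exact Subgroup.mem_top _
  have := (hCmem _).mp this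
  exact congrArg Subtype.val this

end Cfsg.Agent.Lead.Q8N
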