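import Mathlib
import Cfsg.Agent.Lead.Q8NormF

set_option autoImplicit false

/-!
Assembly: elements of prime order of `PSL₂(p)` and the normaliser of a quaternion subgroup.
-/

namespace Cfsg.Agent.Lead.Q8N

open Matrix

theorem s5997 {F : Type*} [Field F] [Fintype F] {p : ℕ} [Fact p.Prime] [CharP F p]
    (hp : 5 ≤ p)
    (R : Subgroup (GL (Fin 2) F)) (hR : Nonempty (↥R ≃* QuaternionGroup 2))
    (r : ℕ) [hrp : Fact r.Prime]
    (hΩ : r ∣ (Cfsg.Geo.subgroupNormalizer R).relIndex (Cfsg.Geo.specialLinear (Fin 2) F)) :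
    (∀ x ∈ Cfsg.Geo.specialLinear (Fin 2) F,
      (∃ z : F, ((x ^ r : GL (Fin 2) F) : Matrix (Fin 2) (Fin 2) F) = z • (1 : Matrix (Fin 2) (Fin 2) F)) →
      (∀ z : F, (x : Matrix (Fin 2) (Fin 2) F) ≠ z • (1 : Matrix (Fin 2) (Fin 2) F)) →
      ∃ g ∈ Cfsg.Geo.specialLinear (Fin 2) F, g⁻¹ * x * g ∈ Cfsg.Geo.subgroupNormalizer R) ↔
      (r = 2 ∨ r = 3) := by
  obtain ⟨e⟩ := hR
  have hpp : p.Prime := Fact.out
  have h2 : (2 : F) ≠ 0 := by
    intro h
    have h' : ((2 : ℕ) : F) = 0 := by exact_mod_cast h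
    have := (CharP.cast_eq_zero_iff F p 2).mp h'
    have := Nat.le_of_dvd (by norm_num) this
    omega
  have h3 : (3 : F) ≠ 0 := by
    intro h
    have h' : ((3 : ℕ) : F) = 0 := by exact_mod_cast h
    have := (CharP.cast_eq_zero_iff F p 3).mp h'
    have := Nat.le_of_dvd (by norm_num) this
    omega
  obtain ⟨Ig, Jg, hI, hJ, hI4, hI2, hJI, hJJ, hgen⟩ := exists_gens e
  obtain ⟨hQT, tI, dI, tJ, dJ⟩ := gens_matrix h2 hI4 hI2 hJI hJJ
  have hωN := omU_mem_normalizer h2 hI hJ hgen hQT
  have hRN : R ≤ Subgroup.normalizer (R : Set (GL (Fin 2) F)) := Subgroup.le_normalizer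
  have hcardR : Nat.card R = 8 := by
    rw [Nat.card_congr e.toEquiv, Nat.card_eq_fintype_card, QuaternionGroup.card]
  constructor
  · -- every element of order r fixes a point ⇒ r ∈ {2, 3}
    intro hall
    by_contra hr23
    push Not at hr23
    have hr5 : 5 ≤ r := by
      have := hrp.out.two_le
      have h4 : r ≠ 4 := by
        intro h; rw [h] at hrp; exact absurd hrp.out (by decide)
      omega
    -- an element of order r in SL
    have hdvd : r ∣ Nat.card (Cfsg.Geo.specialLinear (Fin 2) F) :=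
      dvd_trans hΩ (Subgroup.relIndex_dvd_card _ _)
    obtain ⟨x, hx⟩ := exists_prime_orderOf_dvd_card' r hdvd
    have hxr : (x : GL (Fin 2) F) ^ r = 1 := by
      have := pow_orderOf_eq_one x
      rw [hx] at this
      have := congrArg Subtype.val this
      simpa using this
    have hxd : ((x : GL (Fin 2) F) : Matrix (Fin 2) (Fin 2) F).det = 1 := (mem_SL_iff _).mp x.2
    have hxns : ∀ z : F, ((x : GL (Fin 2) F) : Matrix (Fin 2) (Fin 2) F) ≠ z • 1 := by
      intro z hz
      have h1 := sq_of_scalar hxd hz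
      have h2' : x ^ 2 = 1 := Subtype.ext (by simpa using h1)
      have := orderOf_dvd_of_pow_eq_one h2'
      rw [hx] at this
      have := Nat.le_of_dvd (by norm_num) this
      omega
    obtain ⟨g, hg, hy⟩ := hall x x.2 ⟨1, by rw [hxr, one_smul]; rfl⟩ hxns
    obtain ⟨y, hydef⟩ : ∃ y : GL (Fin 2) F, y = g⁻¹ * (x : GL (Fin 2) F) * g := ⟨_, rfl⟩
    rw [← hydef] at hy
    have hyr : y ^ r = 1 := by
      rw [hydef]
      have : (g⁻¹ * (x : GL (Fin 2) F) * g) ^ r = g⁻¹ * (x : GL (Fin 2) F) ^ r * g := by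
        have := conj_pow (a := g⁻¹) (b := (x : GL (Fin 2) F)) (i := r)
        rw [inv_inv] at this
        exact this
      rw [this, hxr]; group
    have hZ : Ig * Ig ∈ R := R.mul_mem hI hI
    have hZm : ((Ig * Ig : GL (Fin 2) F) : Matrix (Fin 2) (Fin 2) F) = -1 := by
      rw [Units.val_mul]; exact hQT.II
    have hZ1 : Ig * Ig ≠ 1 := by
      intro h
      apply hI2
      rw [pow_two]; exact h
    have hZy : y * (Ig * Ig) * y⁻¹ = Ig * Ig := by
      rw [mul_inv_eq_iff_eq_mul]
      apply Units.ext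
      rw [Units.val_mul (a := y), Units.val_mul (b := y), hZm, mul_neg, mul_one, neg_mul, one_mul]
    have hcen := central_of_prime R hcardR hy hrp.out hr5
      (fun n _ => by rw [hyr]; group) hZ hZ1 hZy
    have cI : (y : Matrix (Fin 2) (Fin 2) F) * Ig = (Ig : Matrix (Fin 2) (Fin 2) F) * y := by
      have := hcen Ig hI
      rw [mul_inv_eq_iff_eq_mul] at this
      rw [← Units.val_mul, ← Units.val_mul, this]
    have cJ : (y : Matrix (Fin 2) (Fin 2) F) * Jg = (Jg : Matrix (Fin 2) (Fin 2) F) * y := by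
      have := hcen Jg hJ
      rw [mul_inv_eq_iff_eq_mul] at this
      rw [← Units.val_mul, ← Units.val_mul, this]
    obtain ⟨z, hz⟩ := scalar_of_comm h2 hQT tI cI cJ
    apply hxns z
    have hxy : (x : GL (Fin 2) F) = g * y * g⁻¹ := by rw [hydef]; group
    rw [hxy, Units.val_mul, Units.val_mul, hz, Matrix.mul_smul, Matrix.mul_one, Matrix.smul_mul,
      ← Units.val_mul, mul_inv_cancel, Units.val_one]
  · rintro (rfl | rfl)
    · -- r = 2
      intro x hx ⟨z, hz⟩ hns
      have hxd := (mem_SL_iff x).mp hx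
      have hz' : (x : Matrix (Fin 2) (Fin 2) F) * x = z • 1 := by
        rw [← hz, Units.val_pow_eq_pow_val, pow_two]
      have ht := trace_of_sq_scalar hxd hz' hns
      have hne : (x : Matrix (Fin 2) (Fin 2) F).trace ^ 2 ≠ 4 := by
        rw [ht]
        intro h
        apply h2
        have : (2 : F) * 2 = 0 := by linear_combination -h
        rcases mul_eq_zero.mp this with h | h <;> exact h
      obtain ⟨g, hgd, hg⟩ := conj_of_trace hxd dI (by rw [tI, ht]) hne
      exact ⟨g, (mem_SL_iff g).mpr hgd, by rw [hg]; exact hRN hI⟩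
    · -- r = 3
      intro x hx ⟨z, hz⟩ hns
      have hxd := (mem_SL_iff x).mp hx
      have hz' : (x : Matrix (Fin 2) (Fin 2) F) * x * x = z • 1 := by
        rw [← hz, Units.val_pow_eq_pow_val, pow_succ, pow_two]
      have ht := trace_of_cube_scalar hxd hz' hns
      have hne : (x : Matrix (Fin 2) (Fin 2) F).trace ^ 2 ≠ 4 := by
        intro h
        apply h3
        rcases ht with ht | ht <;> rw [ht] at h <;> linear_combination -h
      rcases ht with ht | ht
      · -- trace 1: conjugate to -ω = (Ig * Ig) * ω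
        have hZm : ((Ig * Ig : GL (Fin 2) F) : Matrix (Fin 2) (Fin 2) F) = -1 := by
          rw [Units.val_mul]; exact hQT.II
        have hval : ((Ig * Ig * omU h2 hQT : GL (Fin 2) F) : Matrix (Fin 2) (Fin 2) F) =
            -om (Ig : Matrix (Fin 2) (Fin 2) F) Jg ((Ig : Matrix (Fin 2) (Fin 2) F) * Jg) := by
          rw [Units.val_mul, hZm, omU_val]; simp
        have hd : ((Ig * Ig * omU h2 hQT : GL (Fin 2) F) : Matrix (Fin 2) (Fin 2) F).det = 1 := by
          rw [hval, Matrix.det_neg, det_om h2 hQT tI tJ]; simp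
        have htr : ((Ig * Ig * omU h2 hQT : GL (Fin 2) F) : Matrix (Fin 2) (Fin 2) F).trace =
            (x : Matrix (Fin 2) (Fin 2) F).trace := by
          rw [hval, Matrix.trace_neg, trace_om h2 hQT tI tJ, ht]; simp
        obtain ⟨g, hgd, hg⟩ := conj_of_trace hxd hd htr hne
        refine ⟨g, (mem_SL_iff g).mpr hgd, ?_⟩
        rw [hg]
        exact Subgroup.mul_mem _ (hRN (R.mul_mem hI hI)) hωN
      · have hd : ((omU h2 hQT : GL (Fin 2) F) : Matrix (Fin 2) (Fin 2) F).det = 1 := by
          rw [omU_val]; exact det_om h2 hQT tI tJ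
        have htr : ((omU h2 hQT : GL (Fin 2) F) : Matrix (Fin 2) (Fin 2) F).trace =
            (x : Matrix (Fin 2) (Fin 2) F).trace := by
          rw [omU_val, trace_om h2 hQT tI tJ, ht]
        obtain ⟨g, hgd, hg⟩ := conj_of_trace hxd hd htr hne
        exact ⟨g, (mem_SL_iff g).mpr hgd, by rw [hg]; exact hωN⟩

end Cfsg.Agent.Lead.Q8N
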