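import Mathlib
import Cfsg.Agent.Lead.QdStruct5
import Cfsg.Agent.Lead.InvolvesLemmas
import Cfsg.Agent.Helper1.QdSecC

set_option autoImplicit false

/-!
`Qd(p)`: normal subgroups, and involvement modulo normal `p'`-subgroups.
-/

namespace Cfsg.Agent.Lead.QdLoc

open Cfsg Cfsg.Agent.Lead.Qd

theorem involves_of_maps_ker {X : Type*} [Group X] {Y : Type*} [Group Y] {A : Type*} [Group A]
    (f : A →* Y) (g : A →* X) (hg : Function.Surjective g) (hker : f.ker ≤ g.ker) :
    Cfsg.Involves X Y := by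
  refine Cfsg.Agent.Lead.involves_of_maps (QuotientGroup.kerLift f) (QuotientGroup.kerLift_injective f)
    (QuotientGroup.lift f.ker g hker) ?_
  intro x
  obtain ⟨a, rfl⟩ := hg x
  exact ⟨QuotientGroup.mk a, rfl⟩

theorem involves_of_inj {H : Type*} [Group H] {D D' : Type*} [Group D] [Group D']
    (f : D' →* D) (hf : Function.Injective f) (h : Cfsg.Involves H D') : Cfsg.Involves H D := by
  obtain ⟨K, g, hg⟩ := Cfsg.Agent.Lead.exists_maps_of_involves h
  exact Cfsg.Agent.Lead.involves_of_maps (f.comp K.subtype) (hf.comp K.subtype_injective) g hg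

theorem involves_of_surj {H : Type*} [Group H] {D D' : Type*} [Group D] [Group D']
    (f : D →* D') (hf : Function.Surjective f) (h : Cfsg.Involves H D') : Cfsg.Involves H D := by
  obtain ⟨K, g, hg⟩ := Cfsg.Agent.Lead.exists_maps_of_involves h
  exact Cfsg.Agent.Lead.involves_of_maps (K.comap f).subtype (Subgroup.subtype_injective _)
    (g.comp (f.subgroupComap K)) (hg.comp (f.subgroupComap_surjective_of_surjective K hf))

variable (p : ℕ) [hp : Fact p.Prime]

theorem mkq_one_npow (v : Fin 2 → ZMod p) (k : ℕ) : (mkq p 1 v) ^ k = mkq p 1 (k • v) := by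
  induction k with
  | zero => rw [pow_zero, zero_smul, mkq_one]
  | succ k ih =>
    rw [pow_succ, ih, mkq_mul, mul_one, Matrix.SpecialLinearGroup.coe_one, Matrix.one_mulVec,
      succ_nsmul, add_comm]

theorem V_isPGroup : IsPGroup p ↥(V p) := by
  rintro ⟨g, hg⟩
  obtain ⟨v, rfl⟩ := (mem_V p _).1 hg
  refine ⟨1, ?_⟩
  apply Subtype.ext
  show (mkq p 1 v) ^ (p ^ 1) = 1
  rw [pow_one, mkq_one_npow]
  have : (p : ℕ) • v = 0 := by
    ext i
    simp
  rw [this, mkq_one]

theorem normal_eq_bot_or_V_le (T : Subgroup ↥(Cfsg.qd p)) [hT : T.Normal] : T = ⊥ ∨ V p ≤ T := by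
  by_cases h : T ⊓ V p = ⊥
  · left
    rw [Subgroup.eq_bot_iff_forall]
    intro g hg
    have hcomm : ∀ v, g * mkq p 1 v * g⁻¹ = mkq p 1 v := by
      intro v
      have h1 : g * mkq p 1 v * g⁻¹ * (mkq p 1 v)⁻¹ ∈ T ⊓ V p := by
        refine ⟨?_, ?_⟩
        · have h2 : mkq p 1 v * g⁻¹ * (mkq p 1 v)⁻¹ ∈ T :=
            hT.conj_mem _ (T.inv_mem hg) _
          have h3 := T.mul_mem hg h2
          have h4 : g * mkq p 1 v * g⁻¹ * (mkq p 1 v)⁻¹ = g * (mkq p 1 v * g⁻¹ * (mkq p 1 v)⁻¹) := by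
            group
          rw [h4]
          exact h3
        · have hv : mkq p 1 v ∈ V p := (mem_V p _).2 ⟨v, rfl⟩
          exact (V p).mul_mem ((V_normal p).conj_mem _ hv _) ((V p).inv_mem hv)
      rw [h, Subgroup.mem_bot] at h1
      exact mul_inv_eq_one.1 h1
    have hA : blk p g = 1 := by
      apply Cfsg.Agent.Helper1.QdSec.eq_one_of_mulVec_eq
      intro v
      have h1 := hcomm v
      rw [← mkq_blk_vec p g, conj_mkq_one] at h1
      exact (mkq_inj p h1).2
    have hgV : g ∈ V p := by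
      rw [mem_V]
      exact ⟨vec p g, by rw [← hA, mkq_blk_vec]⟩
    have : g ∈ T ⊓ V p := ⟨hg, hgV⟩
    rwa [h, Subgroup.mem_bot] at this
  · right
    exact (V_le_of_normal p (T ⊓ V p) inf_le_right inferInstance h).trans inf_le_left

theorem eq_bot_of_normal_of_coprime (T : Subgroup ↥(Cfsg.qd p)) [hT : T.Normal]
    (hc : (Nat.card T).Coprime p) : T = ⊥ := by
  rcases normal_eq_bot_or_V_le p T with h | h
  · exact h
  · exfalso
    have hmem : mkq p 1 ![1, 0] ∈ T := h ((mem_V p _).2 ⟨_, rfl⟩)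
    have hne : mkq p 1 ![1, 0] ≠ 1 := by
      intro h1
      rw [← mkq_one p] at h1
      have := (mkq_inj p h1).2
      have h2 := congrFun this 0
      simp at h2
    have hpow : (mkq p 1 ![1, 0]) ^ p = 1 := by
      rw [mkq_one_npow]
      have : (p : ℕ) • (![1, 0] : Fin 2 → ZMod p) = 0 := by
        ext i
        simp
      rw [this, mkq_one]
    have hord : orderOf (⟨mkq p 1 ![1, 0], hmem⟩ : T) = p := by
      apply orderOf_eq_prime
      · apply Subtype.ext
        simpa using hpow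
      · intro h1
        exact hne (congrArg Subtype.val h1)
    have hdvd : p ∣ Nat.card T := by
      have h1 := orderOf_dvd_natCard (⟨mkq p 1 ![1, 0], hmem⟩ : T)
      rwa [hord] at h1
    exact hp.out.one_lt.ne' (Nat.eq_one_of_dvd_coprimes hc hdvd (dvd_refl p))

theorem involves_quotient_of_coprime {X : Type*} [Group X] (K : Subgroup X) [K.Normal]
    [Finite K] (hK : (Nat.card K).Coprime p) (h : Cfsg.Involves ↥(Cfsg.qd p) X) :
    Cfsg.Involves ↥(Cfsg.qd p) (X ⧸ K) := by
  obtain ⟨H, φ, hφ⟩ := Cfsg.Agent.Lead.exists_maps_of_involves h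
  refine involves_of_maps_ker ((QuotientGroup.mk' K).comp H.subtype) φ hφ ?_
  have hker : ((QuotientGroup.mk' K).comp H.subtype).ker = K.subgroupOf H := by
    ext x
    rw [MonoidHom.mem_ker, Subgroup.mem_subgroupOf, MonoidHom.comp_apply, QuotientGroup.mk'_apply,
      QuotientGroup.eq_one_iff]
    rfl
  rw [hker]
  haveI : ((K.subgroupOf H).map φ).Normal := Subgroup.Normal.map inferInstance φ hφ
  have hcop : (Nat.card ↥((K.subgroupOf H).map φ)).Coprime p := by
    refine Nat.Coprime.coprime_dvd_left ?_ hK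
    refine (Subgroup.card_map_dvd _ φ).trans ?_
    exact Subgroup.card_comap_dvd_of_injective K H.subtype H.subtype_injective
  have hbot := eq_bot_of_normal_of_coprime p _ hcop
  intro x hx
  rw [MonoidHom.mem_ker]
  have : φ x ∈ (K.subgroupOf H).map φ := Subgroup.mem_map_of_mem φ hx
  rwa [hbot, Subgroup.mem_bot] at this

end Cfsg.Agent.Lead.QdLoc
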