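import Mathlib
import Cfsg.Agent.Lead.QdLocA

set_option autoImplicit false

/-!
`Qd(p)`-configurations: the Frattini reduction and the natural-module criterion in section form.
-/

namespace Cfsg.Agent.Lead.QdLoc

open Cfsg Cfsg.Agent.Lead.Qd

variable (p : ℕ) [hp : Fact p.Prime]

theorem exists_frattini_config {Λ : Type*} [Group Λ] [Finite Λ] (φ : Λ →* ↥(Cfsg.qd p))
    (hφ : Function.Surjective φ) :
    ∃ Λ₁ R₀ : Subgroup Λ, IsPGroup p R₀ ∧ R₀ ≤ Λ₁ ∧ Λ₁ ≤ Subgroup.normalizer (R₀ : Set Λ) ∧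
      Λ₁.map φ = ⊤ ∧ R₀.map φ = V p := by
  obtain ⟨W, hW⟩ : ∃ W : Subgroup Λ, W = (V p).comap φ := ⟨_, rfl⟩
  haveI hWn : W.Normal := by rw [hW]; infer_instance
  obtain ⟨R⟩ : Nonempty (Sylow p W) := inferInstance
  have hRV : ((R : Subgroup W).map W.subtype).map φ = V p := by
    apply le_antisymm
    · rintro _ ⟨_, ⟨r, -, rfl⟩, rfl⟩
      have h1 : (r : Λ) ∈ W := r.2
      exact hW.le h1
    · intro x hx
      have hsurj : Function.Surjective (φ.subgroupComap (V p)) :=
        φ.subgroupComap_surjective_of_surjective (V p) hφ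
      have htop : ((R : Subgroup W).map ((φ.subgroupComap (V p)).comp
          (MulEquiv.subgroupCongr hW).toMonoidHom) : Subgroup ↥(V p)) = ⊤ := by
        have hsurj' : Function.Surjective ((φ.subgroupComap (V p)).comp
            (MulEquiv.subgroupCongr hW).toMonoidHom) :=
          hsurj.comp (MulEquiv.subgroupCongr hW).surjective
        have h1 := (R.mapSurjective hsurj').3 ((V_isPGroup p).to_subgroup ⊤) le_top
        rw [Sylow.coe_mapSurjective] at h1
        exact h1.symm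
      have hx' : (⟨x, hx⟩ : ↥(V p)) ∈ ((R : Subgroup W).map ((φ.subgroupComap (V p)).comp
          (MulEquiv.subgroupCongr hW).toMonoidHom) : Subgroup ↥(V p)) := by
        rw [htop]; exact Subgroup.mem_top _
      obtain ⟨r, hr, hrx⟩ := hx'
      refine ⟨(r : Λ), ⟨r, hr, rfl⟩, ?_⟩
      exact congrArg Subtype.val hrx
  refine ⟨Subgroup.normalizer (((R : Subgroup W).map W.subtype : Subgroup Λ) : Set Λ),
    (R : Subgroup W).map W.subtype, R.2.map _, Subgroup.le_normalizer, le_rfl, ?_, hRV⟩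
  have h1 := Sylow.normalizer_sup_eq_top R
  have h2 : (Subgroup.normalizer (((R : Subgroup W).map W.subtype : Subgroup Λ) : Set Λ) ⊔ W).map φ
      = ⊤ := by
    rw [h1, ← MonoidHom.range_eq_map, MonoidHom.range_eq_top]
    exact hφ
  rw [Subgroup.map_sup] at h2
  have h3 : W.map φ ≤
      (Subgroup.normalizer (((R : Subgroup W).map W.subtype : Subgroup Λ) : Set Λ)).map φ := by
    have h4 : W.map φ ≤ V p := by
      rw [hW]; exact Subgroup.map_comap_le _ _
    refine h4.trans ?_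
    rw [← hRV]
    exact Subgroup.map_mono Subgroup.le_normalizer
  rwa [sup_eq_left.2 h3] at h2

open scoped MatrixGroups in
theorem involves_qd_of_action (hp2 : p ≠ 2) {X : Type*} [Group X] {Λ' : Type*} [Group Λ']
    [Finite Λ'] (π : Λ' →* X) (ρ : Λ' →* SL2 p) (hρ : Function.Surjective ρ)
    {R : Type*} [Group R] (j : R →* X) (hj : Function.Injective j)
    (τ : R →* Multiplicative (Fin 2 → ZMod p)) (hτ : Function.Surjective τ)
    (hact : ∀ a r, ∃ r', π a * j r * (π a)⁻¹ = j r' ∧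
      Multiplicative.toAdd (τ r') = (ρ a).1.mulVec (Multiplicative.toAdd (τ r))) :
    Cfsg.Involves ↥(Cfsg.qd p) X := by
  obtain ⟨Q₁, hQ₁⟩ : ∃ Q₁ : Subgroup X, Q₁ = τ.ker.map j := ⟨_, rfl⟩
  have hker_of : ∀ a r, r ∈ τ.ker → ∃ r' ∈ τ.ker, π a * j r * (π a)⁻¹ = j r' := by
    intro a r hr
    obtain ⟨r', h1, h2⟩ := hact a r
    refine ⟨r', ?_, h1⟩
    rw [MonoidHom.mem_ker] at hr ⊢
    apply Multiplicative.toAdd.injective
    rw [h2, hr]
    simp
  have hπN : ∀ a, π a ∈ Subgroup.normalizer (Q₁ : Set X) := by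
    intro a
    rw [Subgroup.mem_normalizer_iff]
    intro h
    constructor
    · intro hh
      rw [hQ₁] at hh ⊢
      obtain ⟨k, hk, rfl⟩ := hh
      obtain ⟨r', hr', h1⟩ := hker_of a k hk
      exact ⟨r', hr', h1.symm⟩
    · intro hh
      rw [hQ₁] at hh ⊢
      obtain ⟨k, hk, hkh⟩ := hh
      obtain ⟨r', hr', h1⟩ := hker_of a⁻¹ k hk
      refine ⟨r', hr', ?_⟩
      rw [← h1, hkh, map_inv]
      group
  have hjN : ∀ r, j r ∈ Subgroup.normalizer (Q₁ : Set X) := by
    intro r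
    rw [Subgroup.mem_normalizer_iff]
    intro h
    constructor
    · intro hh
      rw [hQ₁] at hh ⊢
      obtain ⟨k, hk, rfl⟩ := hh
      refine ⟨r * k * r⁻¹, (MonoidHom.normal_ker τ).conj_mem k hk r, ?_⟩
      rw [map_mul, map_mul, map_inv]
    · intro hh
      rw [hQ₁] at hh ⊢
      obtain ⟨k, hk, hkh⟩ := hh
      refine ⟨r⁻¹ * k * r, ?_, ?_⟩
      · have := (MonoidHom.normal_ker τ).conj_mem k hk r⁻¹
        rwa [inv_inv] at this
      · rw [map_mul, map_mul, map_inv, hkh]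
        group
  set N₁ : Subgroup X := Subgroup.normalizer (Q₁ : Set X) with hN₁
  have hmk : ∀ r r' : R, τ r = τ r' →
      (QuotientGroup.mk (⟨j r, hjN r⟩ : N₁) : N₁ ⧸ Q₁.subgroupOf N₁) =
        QuotientGroup.mk (⟨j r', hjN r'⟩ : N₁) := by
    intro r r' h
    rw [QuotientGroup.eq, Subgroup.mem_subgroupOf]
    show (j r)⁻¹ * j r' ∈ Q₁
    rw [hQ₁]
    refine ⟨r⁻¹ * r', ?_, by rw [map_mul, map_inv]⟩
    show r⁻¹ * r' ∈ τ.ker
    rw [MonoidHom.mem_ker, map_mul, map_inv, h, inv_mul_cancel]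
  have hmk' : ∀ r r' : R, (QuotientGroup.mk (⟨j r, hjN r⟩ : N₁) : N₁ ⧸ Q₁.subgroupOf N₁) =
        QuotientGroup.mk (⟨j r', hjN r'⟩ : N₁) → τ r = τ r' := by
    intro r r' h
    rw [QuotientGroup.eq, Subgroup.mem_subgroupOf] at h
    have h' : (j r)⁻¹ * j r' ∈ Q₁ := h
    rw [hQ₁] at h'
    obtain ⟨k, hk, hkr⟩ := h'
    have h2 : k = r⁻¹ * r' := hj (by rw [hkr, map_mul, map_inv])
    have hk' : k ∈ τ.ker := hk
    rw [h2, MonoidHom.mem_ker, map_mul, map_inv, inv_mul_eq_one] at hk'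
    exact hk'
  obtain ⟨sec, hsec⟩ : ∃ sec : (Fin 2 → ZMod p) → R, ∀ v, τ (sec v) = Multiplicative.ofAdd v :=
    ⟨fun v => Classical.choose (hτ (Multiplicative.ofAdd v)),
      fun v => Classical.choose_spec (hτ (Multiplicative.ofAdd v))⟩
  have hY : Cfsg.Involves ↥(Cfsg.qd p) (N₁ ⧸ Q₁.subgroupOf N₁) := by
    refine Cfsg.Agent.Helper1.QdSec.involves_qd_of_natural hp2
      ((QuotientGroup.mk' (Q₁.subgroupOf N₁)).comp (π.codRestrict N₁ hπN)) ρ hρ
      (fun v => QuotientGroup.mk (⟨j (sec v), hjN _⟩ : N₁)) ?_ ?_ ?_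
    · intro v w
      have h1 : (QuotientGroup.mk (⟨j (sec v), hjN _⟩ : N₁) : N₁ ⧸ Q₁.subgroupOf N₁) *
          QuotientGroup.mk (⟨j (sec w), hjN _⟩ : N₁) =
          QuotientGroup.mk (⟨j (sec v * sec w), hjN _⟩ : N₁) := by
        rw [← QuotientGroup.mk_mul]
        congr 1
        apply Subtype.ext
        show j (sec v) * j (sec w) = j (sec v * sec w)
        rw [map_mul]
      rw [h1]
      apply hmk
      rw [map_mul, hsec, hsec, hsec, ofAdd_add]
    · intro v w h
      have := hmk' _ _ h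
      rw [hsec, hsec] at this
      exact Multiplicative.ofAdd.injective this
    · intro a v
      obtain ⟨r', h1, h2⟩ := hact a (sec v)
      have h3 : ((QuotientGroup.mk' (Q₁.subgroupOf N₁)).comp (π.codRestrict N₁ hπN)) a *
          QuotientGroup.mk (⟨j (sec v), hjN _⟩ : N₁) *
          (((QuotientGroup.mk' (Q₁.subgroupOf N₁)).comp (π.codRestrict N₁ hπN)) a)⁻¹ =
          QuotientGroup.mk (⟨j r', hjN _⟩ : N₁) := by
        rw [MonoidHom.comp_apply, QuotientGroup.mk'_apply, ← QuotientGroup.mk_mul,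
          ← QuotientGroup.mk_inv, ← QuotientGroup.mk_mul]
        congr 1
        apply Subtype.ext
        exact h1
      rw [h3]
      apply hmk
      apply Multiplicative.toAdd.injective
      rw [h2, hsec, hsec]
      rfl
  exact involves_of_inj N₁.subtype N₁.subtype_injective
    (involves_of_surj (QuotientGroup.mk' (Q₁.subgroupOf N₁)) (QuotientGroup.mk'_surjective _) hY)

end Cfsg.Agent.Lead.QdLoc
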