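import Mathlib
import Cfsg.Agent.Lead.QdLocB
import Cfsg.Agent.Lead.SylowLemmas

set_option autoImplicit false

/-!
A finite group involving `Qd(p)` (`p` odd) has a `p`-subgroup `T` containing every `p`-subgroup of
its centralizer whose normalizer involves `Qd(p)`.
-/

namespace Cfsg.Agent.Lead.QdLoc

open Cfsg Cfsg.Agent.Lead.Qd

variable (p : ℕ) [hp : Fact p.Prime]

theorem mem_normalizer_sup' {G : Type*} [Group G] {P Q : Subgroup G} {g : G}
    (hP : g ∈ Subgroup.normalizer (P : Set G)) (hQ : g ∈ Subgroup.normalizer (Q : Set G)) :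
    g ∈ Subgroup.normalizer ((P ⊔ Q : Subgroup G) : Set G) := by
  rw [Subgroup.mem_normalizer_iff_map_conj_eq] at hP hQ ⊢
  rw [Subgroup.map_sup, hP, hQ]

theorem conj_mem_centralizer {G : Type*} [Group G] {T : Subgroup G} {n c : G}
    (hn : n ∈ Subgroup.normalizer (T : Set G)) (hc : c ∈ Subgroup.centralizer (T : Set G)) :
    n * c * n⁻¹ ∈ Subgroup.centralizer (T : Set G) := by
  rw [Subgroup.mem_centralizer_iff] at hc ⊢
  intro x hx
  have hx' : n⁻¹ * x * n ∈ T := by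
    have := (Subgroup.mem_normalizer_iff.1 (Subgroup.inv_mem _ hn) x).1 hx
    rwa [inv_inv] at this
  have h1 := hc _ hx'
  calc x * (n * c * n⁻¹) = n * ((n⁻¹ * x * n) * c) * n⁻¹ := by group
    _ = n * (c * (n⁻¹ * x * n)) * n⁻¹ := by rw [h1]
    _ = n * c * n⁻¹ * x := by group

theorem centralizer_le_normalizer' {G : Type*} [Group G] (T : Subgroup G) :
    Subgroup.centralizer (T : Set G) ≤ Subgroup.normalizer (T : Set G) := by
  intro c hc
  rw [Subgroup.mem_normalizer_iff]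
  intro x
  rw [Subgroup.mem_centralizer_iff] at hc
  constructor
  · intro hx
    have : c * x * c⁻¹ = x := by rw [← hc x hx]; group
    rwa [this]
  · intro hx
    have h1 := hc _ hx
    have : x = c * x * c⁻¹ := by
      have h2 : c * x * c⁻¹ * c = c * (c * x * c⁻¹) := h1
      have h3 : c * x = c * (c * x * c⁻¹) := by
        rw [← h2]; group
      exact mul_left_cancel h3
    rwa [this]

/-- Frattini: `N(T) = C(T) · (N(T) ∩ N(T ⊔ S₁))` for a Sylow `p`-subgroup `S₁` of `C(T)`. -/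
theorem exists_mul_mem_normalizer {G : Type*} [Group G] [Finite G] (T S₁ : Subgroup G)
    (hS₁C : S₁ ≤ Subgroup.centralizer (T : Set G)) (hS₁p : IsPGroup p S₁)
    (hcard : Nat.card S₁ = p ^ (Nat.card ↥(Subgroup.centralizer (T : Set G))).factorization p)
    (n : G) (hn : n ∈ Subgroup.normalizer (T : Set G)) :
    ∃ c ∈ Subgroup.centralizer (T : Set G),
      c * n ∈ Subgroup.normalizer ((T ⊔ S₁ : Subgroup G) : Set G) := by
  have hS₂C : S₁.map (MulAut.conj n).toMonoidHom ≤ Subgroup.centralizer (T : Set G) := by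
    rintro _ ⟨s, hs, rfl⟩
    exact conj_mem_centralizer hn (hS₁C hs)
  obtain ⟨c, hc, hle⟩ := Cfsg.Agent.Lead.exists_conj_le_of_card_eq_ppart hS₁C hcard hS₂C
    (hS₁p.map _)
  refine ⟨c, hc, ?_⟩
  have hcn : c * n ∈ Subgroup.normalizer (T : Set G) :=
    Subgroup.mul_mem _ (centralizer_le_normalizer' T hc) hn
  apply mem_normalizer_sup' hcn
  rw [Subgroup.mem_normalizer_iff_map_conj_eq]
  have h1 : S₁.map (MulAut.conj (c * n) : G →* G) ≤ S₁ := by
    rintro _ ⟨s, hs, rfl⟩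
    apply hle
    refine ⟨n * s * n⁻¹, ⟨s, hs, rfl⟩, ?_⟩
    simp only [MulEquiv.coe_toMonoidHom, MulAut.conj_apply, MonoidHom.coe_coe]
    group
  apply Subgroup.eq_of_le_of_card_ge h1
  rw [Subgroup.card_map_of_injective (MulAut.conj (c * n)).injective]

theorem exists_centric_local {G : Type*} [Group G] [Finite G] (hp2 : p ≠ 2)
    (h : Cfsg.Involves ↥(Cfsg.qd p) G) :
    ∃ T : Subgroup G, IsPGroup p T ∧
      Cfsg.Involves ↥(Cfsg.qd p) ↥(Subgroup.normalizer (T : Set G)) ∧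
      ∀ S₀ : Subgroup G, S₀ ≤ Subgroup.centralizer (T : Set G) → IsPGroup p S₀ → S₀ ≤ T := by
  classical
  -- a maximal good subgroup
  have hbot : (⊥ : Subgroup G) ∈ {T : Subgroup G | IsPGroup p T ∧
      Cfsg.Involves ↥(Cfsg.qd p) ↥(Subgroup.normalizer (T : Set G))} := by
    refine ⟨IsPGroup.of_bot, ?_⟩
    refine involves_of_surj (Subgroup.normalizer (((⊥ : Subgroup G)) : Set G)).subtype ?_ h
    intro g
    refine ⟨⟨g, ?_⟩, rfl⟩
    rw [Subgroup.mem_normalizer_iff]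
    intro x
    simp [Subgroup.mem_bot]
  obtain ⟨T, hTgood, hTmax⟩ := Set.Finite.exists_maximalFor (fun T : Subgroup G => Nat.card T)
    {T : Subgroup G | IsPGroup p T ∧
      Cfsg.Involves ↥(Cfsg.qd p) ↥(Subgroup.normalizer (T : Set G))} (Set.toFinite _) ⟨⊥, hbot⟩
  have hmax : ∀ T' : Subgroup G, IsPGroup p T' →
      Cfsg.Involves ↥(Cfsg.qd p) ↥(Subgroup.normalizer (T' : Set G)) →
      Nat.card T' ≤ Nat.card T := by
    intro T' h1 h2
    rcases le_total (Nat.card T') (Nat.card T) with h3 | h3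
    · exact h3
    · exact hTmax ⟨h1, h2⟩ h3
  obtain ⟨hTp, hTinv⟩ := hTgood
  refine ⟨T, hTp, hTinv, ?_⟩
  -- the configuration
  obtain ⟨K, φ, hφ⟩ := Cfsg.Agent.Lead.exists_maps_of_involves hTinv
  obtain ⟨i, hi⟩ : ∃ i : ↥K →* G, i = (Subgroup.normalizer (T : Set G)).subtype.comp K.subtype :=
    ⟨_, rfl⟩
  have hiinj : Function.Injective i := by
    rw [hi]
    exact (Subgroup.subtype_injective _).comp (Subgroup.subtype_injective _)
  have hiN : ∀ l, i l ∈ Subgroup.normalizer (T : Set G) := by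
    intro l
    rw [hi]
    exact (l : ↥(Subgroup.normalizer (T : Set G))).2
  obtain ⟨Λ₁, R₀, hR₀p, hR₀Λ, hΛ₁n, hΛ₁top, hR₀V⟩ := exists_frattini_config p φ hφ
  have hiΛ₁ : ∀ l ∈ Λ₁, i l ∈ Subgroup.normalizer ((R₀.map i : Subgroup G) : Set G) :=
    fun l hl => Subgroup.le_normalizer_map i ⟨l, hΛ₁n hl, rfl⟩
  have hΛ₁surj : Function.Surjective (φ.comp Λ₁.subtype) := by
    intro x
    have hx : x ∈ Λ₁.map φ := hΛ₁top ▸ Subgroup.mem_top x
    obtain ⟨l, hl, rfl⟩ := hx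
    exact ⟨⟨l, hl⟩, rfl⟩
  -- step 3: `i(R₀) ≤ T`
  have hR₀T : R₀.map i ≤ T := by
    have hRN : R₀.map i ≤ Subgroup.normalizer (T : Set G) := by
      rintro _ ⟨r, -, rfl⟩
      exact hiN r
    have h1 : IsPGroup p ↥(T ⊔ R₀.map i) := hTp.to_sup_of_normal_left' (hR₀p.map i) hRN
    have h2 : Cfsg.Involves ↥(Cfsg.qd p)
        ↥(Subgroup.normalizer ((T ⊔ R₀.map i : Subgroup G) : Set G)) := by
      refine Cfsg.Agent.Lead.involves_of_maps
        ((i.comp Λ₁.subtype).codRestrict (Subgroup.normalizer ((T ⊔ R₀.map i : Subgroup G) : Set G))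
          (fun l => mem_normalizer_sup' (hiN l) (hiΛ₁ l l.2))) ?_ (φ.comp Λ₁.subtype) hΛ₁surj
      intro a b hab
      have := congrArg Subtype.val hab
      exact Subtype.ext (hiinj this)
    have h3 := hmax _ h1 h2
    have h4 : T = T ⊔ R₀.map i := Subgroup.eq_of_le_of_card_ge le_sup_left h3
    exact (le_sup_right (a := T)).trans h4.ge
  -- main argument
  intro S₀ hS₀C hS₀p
  by_contra hS₀T
  obtain ⟨S₁, hS₀S₁, hS₁C, hS₁p, hS₁card⟩ := Cfsg.Agent.Lead.exists_le_card_eq_ppart hS₀p hS₀C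
  have hS₁N : S₁ ≤ Subgroup.normalizer (T : Set G) := hS₁C.trans (centralizer_le_normalizer' T)
  have hT'p : IsPGroup p ↥(T ⊔ S₁) := hTp.to_sup_of_normal_left' hS₁p hS₁N
  have hFR := exists_mul_mem_normalizer p T S₁ hS₁C hS₁p hS₁card
  have hgoal : Cfsg.Involves ↥(Cfsg.qd p) ↥(Subgroup.normalizer ((T ⊔ S₁ : Subgroup G) : Set G)) := by
    -- the correspondence subgroup
    let A₁ : Subgroup (G × ↥K) :=
      { carrier := {a | a.1 ∈ Subgroup.normalizer ((T ⊔ S₁ : Subgroup G) : Set G) ∧ a.2 ∈ Λ₁ ∧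
          a.1 * (i a.2)⁻¹ ∈ Subgroup.centralizer (T : Set G)}
        one_mem' := by
          refine ⟨Subgroup.one_mem _, Subgroup.one_mem _, ?_⟩
          simp
        mul_mem' := by
          rintro ⟨m, l⟩ ⟨m', l'⟩ ⟨hm, hl, hc⟩ ⟨hm', hl', hc'⟩
          refine ⟨Subgroup.mul_mem _ hm hm', Subgroup.mul_mem _ hl hl', ?_⟩
          have hmN : m ∈ Subgroup.normalizer (T : Set G) := by
            have h1 : m = (m * (i l)⁻¹) * i l := by group
            rw [h1]
            exact Subgroup.mul_mem _ (centralizer_le_normalizer' T hc) (hiN l)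
          have h2 : (m * m') * (i (l * l'))⁻¹ = (m * (m' * (i l')⁻¹) * m⁻¹) * (m * (i l)⁻¹) := by
            rw [map_mul]; group
          show (m * m') * (i (l * l'))⁻¹ ∈ Subgroup.centralizer (T : Set G)
          rw [h2]
          exact Subgroup.mul_mem _ (conj_mem_centralizer hmN hc') hc
        inv_mem' := by
          rintro ⟨m, l⟩ ⟨hm, hl, hc⟩
          refine ⟨Subgroup.inv_mem _ hm, Subgroup.inv_mem _ hl, ?_⟩
          have hmN : m ∈ Subgroup.normalizer (T : Set G) := by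
            have h1 : m = (m * (i l)⁻¹) * i l := by group
            rw [h1]
            exact Subgroup.mul_mem _ (centralizer_le_normalizer' T hc) (hiN l)
          have h2 : m⁻¹ * (i l⁻¹)⁻¹ = m⁻¹ * (m * (i l)⁻¹)⁻¹ * (m⁻¹)⁻¹ := by
            rw [map_inv]; group
          show m⁻¹ * (i l⁻¹)⁻¹ ∈ Subgroup.centralizer (T : Set G)
          rw [h2]
          exact conj_mem_centralizer (Subgroup.inv_mem _ hmN) (Subgroup.inv_mem _ hc) }
    have hA₁ : ∀ a : G × ↥K, a ∈ A₁ ↔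
        a.1 ∈ Subgroup.normalizer ((T ⊔ S₁ : Subgroup G) : Set G) ∧ a.2 ∈ Λ₁ ∧
          a.1 * (i a.2)⁻¹ ∈ Subgroup.centralizer (T : Set G) := fun a => Iff.rfl
    have hR₀N : ∀ r : ↥R₀, i (r : ↥K) ∈ Subgroup.normalizer ((T ⊔ S₁ : Subgroup G) : Set G) := by
      intro r
      apply Subgroup.le_normalizer
      exact le_sup_left (a := T) (hR₀T ⟨r, r.2, rfl⟩)
    have hvecmul : ∀ x y : ↥(Cfsg.qd p), x ∈ V p → y ∈ V p → vec p (x * y) = vec p x + vec p y := by
      intro x y hx hy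
      obtain ⟨v, rfl⟩ := (mem_V p x).1 hx
      obtain ⟨w, rfl⟩ := (mem_V p y).1 hy
      rw [mkq_mul, vec_mkq, vec_mkq, vec_mkq, Matrix.SpecialLinearGroup.coe_one,
        Matrix.one_mulVec, add_comm]
    have hφR₀ : ∀ r : ↥R₀, φ (r : ↥K) ∈ V p := by
      intro r
      rw [← hR₀V]
      exact ⟨r, r.2, rfl⟩
    let τ : ↥R₀ →* Multiplicative (Fin 2 → ZMod p) :=
      { toFun := fun r => Multiplicative.ofAdd (vec p (φ (r : ↥K)))
        map_one' := by
          show Multiplicative.ofAdd (vec p (φ ((1 : ↥R₀) : ↥K))) = 1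
          rw [Subgroup.coe_one, map_one, ← mkq_one p, vec_mkq]
          rfl
        map_mul' := by
          intro r r'
          show Multiplicative.ofAdd (vec p (φ ((r * r' : ↥R₀) : ↥K))) =
            Multiplicative.ofAdd (vec p (φ (r : ↥K))) * Multiplicative.ofAdd (vec p (φ (r' : ↥K)))
          rw [Subgroup.coe_mul, map_mul, hvecmul _ _ (hφR₀ r) (hφR₀ r'), ofAdd_add] }
    have hτ : ∀ r : ↥R₀, Multiplicative.toAdd (τ r) = vec p (φ (r : ↥K)) := fun r => rfl
    refine involves_qd_of_action p hp2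
      (((MonoidHom.fst G ↥K).comp A₁.subtype).codRestrict
        (Subgroup.normalizer ((T ⊔ S₁ : Subgroup G) : Set G)) (fun a => ((hA₁ a.1).1 a.2).1))
      ((proj p).comp (φ.comp ((MonoidHom.snd G ↥K).comp A₁.subtype))) ?_
      ((i.comp R₀.subtype).codRestrict (Subgroup.normalizer ((T ⊔ S₁ : Subgroup G) : Set G)) hR₀N)
      ?_ τ ?_ ?_
    · -- surjectivity of ρ
      intro B
      obtain ⟨x, rfl⟩ := proj_surjective p B
      obtain ⟨⟨l, hl⟩, rfl⟩ := hΛ₁surj x
      obtain ⟨c, hc, hcn⟩ := hFR (i l) (hiN l)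
      refine ⟨⟨(c * i l, l), (hA₁ _).2 ⟨hcn, hl, ?_⟩⟩, rfl⟩
      show c * i l * (i l)⁻¹ ∈ Subgroup.centralizer (T : Set G)
      rw [mul_inv_cancel_right]
      exact hc
    · -- injectivity of j
      intro a b hab
      have := congrArg Subtype.val hab
      exact Subtype.ext (hiinj this)
    · -- surjectivity of τ
      intro v
      have hv : mkq p 1 (Multiplicative.toAdd v) ∈ R₀.map φ := by
        rw [hR₀V, mem_V]
        exact ⟨_, rfl⟩
      obtain ⟨r, hr, hrv⟩ := hv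
      refine ⟨⟨r, hr⟩, ?_⟩
      apply Multiplicative.toAdd.injective
      rw [hτ]
      show vec p (φ r) = _
      rw [hrv, vec_mkq]
    · -- the action
      rintro ⟨⟨m, l⟩, ha⟩ r
      obtain ⟨hm, hl, hc⟩ := (hA₁ _).1 ha
      have hr' : l * (r : ↥K) * l⁻¹ ∈ R₀ :=
        (Subgroup.mem_normalizer_iff.1 (hΛ₁n hl) _).1 r.2
      refine ⟨⟨l * (r : ↥K) * l⁻¹, hr'⟩, ?_, ?_⟩
      · apply Subtype.ext
        show m * i (r : ↥K) * m⁻¹ = i (l * (r : ↥K) * l⁻¹)
        have hc' : m * (i l)⁻¹ ∈ Subgroup.centralizer (T : Set G) := hc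
        have hmem : i (l * (r : ↥K) * l⁻¹) ∈ T := hR₀T ⟨_, hr', rfl⟩
        have h1 := (Subgroup.mem_centralizer_iff.1 hc') _ hmem
        have h2 : i (l * (r : ↥K) * l⁻¹) = i l * i (r : ↥K) * (i l)⁻¹ := by
          rw [map_mul, map_mul, map_inv]
        calc m * i (r : ↥K) * m⁻¹
            = (m * (i l)⁻¹) * (i l * i (r : ↥K) * (i l)⁻¹) * (m * (i l)⁻¹)⁻¹ := by group
          _ = (m * (i l)⁻¹) * i (l * (r : ↥K) * l⁻¹) * (m * (i l)⁻¹)⁻¹ := by rw [h2]
          _ = i (l * (r : ↥K) * l⁻¹) * (m * (i l)⁻¹) * (m * (i l)⁻¹)⁻¹ := by rw [h1]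
          _ = i (l * (r : ↥K) * l⁻¹) := by group
      · rw [hτ, hτ]
        show vec p (φ (l * (r : ↥K) * l⁻¹)) = (proj p (φ l)).1.mulVec (vec p (φ (r : ↥K)))
        obtain ⟨v, hv⟩ := (mem_V p _).1 (hφR₀ r)
        rw [map_mul, map_mul, map_inv, hv, ← mkq_blk_vec p (φ l), conj_mkq_one, vec_mkq, vec_mkq,
          proj_mkq]
  have hlt := hmax _ hT'p hgoal
  have heq : T = T ⊔ S₁ := Subgroup.eq_of_le_of_card_ge le_sup_left hlt
  apply hS₀T
  exact (hS₀S₁.trans (le_sup_right (a := T))).trans heq.ge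

end Cfsg.Agent.Lead.QdLoc
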