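import Mathlib
import Cfsg.Prelude.Def_FusionSystem
import Cfsg.Agent.Lead.QdLocC

set_option autoImplicit false

/-!
A finite group involving `Qd(p)` (`p` odd) has a centric fully normalized subgroup `T` of a given
Sylow `p`-subgroup such that `N_G(T)` modulo every normal `p'`-subgroup involves `Qd(p)`.
-/

namespace Cfsg.Agent.Lead.QdLoc

open Cfsg Cfsg.FusionSystem Cfsg.Agent.Lead.Qd

universe u

theorem exists_conj_of_isConj {G : Type*} [Group G] (S T Q : Subgroup G)
    (h : (groupFusionSystem S).IsConj T Q) :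
    ∃ g : G, Q = T.map (MulAut.conj g).toMonoidHom := by
  obtain ⟨φ, ⟨-, -, g, hg⟩, rfl⟩ := h
  refine ⟨g, ?_⟩
  ext y
  constructor
  · rintro ⟨x, rfl⟩
    exact ⟨x, x.2, (hg x).symm⟩
  · rintro ⟨x, hx, rfl⟩
    exact ⟨⟨x, hx⟩, hg ⟨x, hx⟩⟩

theorem le_map_conj_of_centric {G : Type*} [Group G] (p : ℕ) (T₀ : Subgroup G)
    (hcen : ∀ S₀ : Subgroup G, S₀ ≤ Subgroup.centralizer (T₀ : Set G) → IsPGroup p S₀ → S₀ ≤ T₀)
    (y : G) (S' : Subgroup G)
    (hS' : S' ≤ Subgroup.centralizer ((T₀.map (MulAut.conj y).toMonoidHom : Subgroup G) : Set G))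
    (hS'p : IsPGroup p S') : S' ≤ T₀.map (MulAut.conj y).toMonoidHom := by
  have h1 : S'.comap (MulAut.conj y).toMonoidHom ≤ Subgroup.centralizer (T₀ : Set G) := by
    intro x hx
    rw [Subgroup.mem_comap] at hx
    have h2 := hS' hx
    rw [Subgroup.mem_centralizer_iff] at h2 ⊢
    intro t ht
    have h3 := h2 (y * t * y⁻¹) ⟨t, ht, rfl⟩
    simp only [MulEquiv.coe_toMonoidHom, MulAut.conj_apply] at h3
    have h4 : y * (t * x) * y⁻¹ = y * (x * t) * y⁻¹ := by
      calc y * (t * x) * y⁻¹ = y * t * y⁻¹ * (y * x * y⁻¹) := by group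
        _ = y * x * y⁻¹ * (y * t * y⁻¹) := h3
        _ = y * (x * t) * y⁻¹ := by group
    exact mul_left_cancel (mul_right_cancel h4)
  have h2 := hcen _ h1 (hS'p.comap_of_injective _ (MulAut.conj y).injective)
  intro s hs
  refine ⟨y⁻¹ * s * y, h2 ?_, ?_⟩
  · rw [Subgroup.mem_comap]
    simp only [MulEquiv.coe_toMonoidHom, MulAut.conj_apply]
    have : y * (y⁻¹ * s * y) * y⁻¹ = s := by group
    rwa [this]
  · simp only [MulEquiv.coe_toMonoidHom, MulAut.conj_apply]
    group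

theorem exists_local_qd {G : Type u} [Group G] [Finite G] {p : ℕ} [hp : Fact p.Prime] (hp2 : p ≠ 2)
    (P : Sylow p G) (h : Cfsg.Involves ↥(Cfsg.qd p) G) :
    ∃ T : Subgroup G, (groupFusionSystem (P : Subgroup G)).IsCentric T ∧
      (groupFusionSystem (P : Subgroup G)).IsFullyNormalized T ∧
      ∀ (K : Subgroup ↥(Subgroup.normalizer (T : Set G))) [K.Normal], (Nat.card K).Coprime p →
        Cfsg.Involves ↥(Cfsg.qd p) (↥(Subgroup.normalizer (T : Set G)) ⧸ K) := by
  obtain ⟨T₀, hT₀p, hT₀inv, hT₀cen⟩ := exists_centric_local p hp2 h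
  obtain ⟨SN, hT₀SN, hSNN, hSNp, hSNcard⟩ :=
    Cfsg.Agent.Lead.exists_le_card_eq_ppart hT₀p (Subgroup.le_normalizer (H := T₀))
  obtain ⟨g, hg⟩ := Cfsg.Agent.Lead.exists_conj_le_sylow P SN hSNp
  have hTP : T₀.map (MulAut.conj g).toMonoidHom ≤ (P : Subgroup G) :=
    (Subgroup.map_mono hT₀SN).trans hg
  have hnorm : ∀ y : G, Nat.card ↥(Subgroup.normalizer
      ((T₀.map (MulAut.conj y).toMonoidHom : Subgroup G) : Set G)) =
      Nat.card ↥(Subgroup.normalizer (T₀ : Set G)) := by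
    intro y
    rw [Cfsg.Agent.Lead.normalizer_map_conj, Cfsg.Agent.Lead.card_map_conj]
  have hmapmap : ∀ x y : G, (T₀.map (MulAut.conj y).toMonoidHom).map (MulAut.conj x).toMonoidHom =
      T₀.map (MulAut.conj (x * y)).toMonoidHom := by
    intro x y
    rw [Subgroup.map_map]
    congr 1
    ext z
    simp [mul_assoc]
  refine ⟨T₀.map (MulAut.conj g).toMonoidHom, ⟨hTP, ?_⟩, ⟨hTP, ?_⟩, ?_⟩
  · -- centric
    intro Q hQ
    obtain ⟨x, rfl⟩ := exists_conj_of_isConj _ _ _ hQ
    rw [hmapmap]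
    apply le_map_conj_of_centric p T₀ hT₀cen
    · rw [← hmapmap]
      exact inf_le_right
    · exact P.2.to_le inf_le_left
  · -- fully normalized
    intro Q hQ
    obtain ⟨x, rfl⟩ := exists_conj_of_isConj _ _ _ hQ
    rw [hmapmap]
    have h1 : Nat.card ↥(normalizerIn (P : Subgroup G) (T₀.map (MulAut.conj (x * g)).toMonoidHom)) ≤
        p ^ (Nat.card ↥(Subgroup.normalizer (T₀ : Set G))).factorization p := by
      rw [← hnorm (x * g)]
      exact Cfsg.Agent.Lead.card_le_ppart_of_isPGroup (P.2.to_le inf_le_left) inf_le_right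
    have h2 : SN.map (MulAut.conj g).toMonoidHom ≤
        normalizerIn (P : Subgroup G) (T₀.map (MulAut.conj g).toMonoidHom) := by
      refine le_inf hg ?_
      rw [Cfsg.Agent.Lead.normalizer_map_conj]
      exact Subgroup.map_mono hSNN
    have h3 := Subgroup.card_le_of_le h2
    rw [Cfsg.Agent.Lead.card_map_conj, hSNcard] at h3
    exact h1.trans h3
  · intro K _ hK
    haveI : Finite ↥K := inferInstance
    apply involves_quotient_of_coprime p K hK
    have hmem : ∀ n : ↥(Subgroup.normalizer (T₀ : Set G)), g * (n : G) * g⁻¹ ∈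
        Subgroup.normalizer ((T₀.map (MulAut.conj g).toMonoidHom : Subgroup G) : Set G) := by
      intro n
      rw [Cfsg.Agent.Lead.normalizer_map_conj]
      exact ⟨n, n.2, rfl⟩
    refine involves_of_inj (((MulAut.conj g).toMonoidHom.comp
      (Subgroup.normalizer (T₀ : Set G)).subtype).codRestrict _ hmem) ?_ hT₀inv
    intro a b hab
    have h1 : g * (a : G) * g⁻¹ = g * (b : G) * g⁻¹ := congrArg Subtype.val hab
    exact Subtype.ext (mul_left_cancel (mul_right_cancel h1))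

end Cfsg.Agent.Lead.QdLoc
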