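import Mathlib
import Cfsg.Prelude.Def_FusionReduction
import Cfsg.Agent.Lead.QdLocD
import Cfsg.Agent.Lead.LocModG

set_option autoImplicit false

/-!
The fusion system of a finite group on a Sylow `p`-subgroup is `Qd(p)`-free iff the group is.
-/

namespace Cfsg.Agent.Lead.QdLoc

open Cfsg Cfsg.FusionSystem

universe u

theorem sectionFree_iff {G : Type u} [Group G] [Finite G] {p : ℕ} [Fact p.Prime] (hp : p ≠ 2)
    (P : Sylow p G) :
    (Cfsg.groupFusionSystem (P : Subgroup G)).IsSectionFree p ↥(Cfsg.qd p) ↔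
      ¬ Cfsg.Involves ↥(Cfsg.qd p) G := by
  constructor
  · intro hfree hinv
    obtain ⟨T, hc, hn, hloc⟩ := exists_local_qd hp P hinv
    exact Cfsg.Agent.Lead.LocMod.not_sectionFree_of_local P T hc hn hloc hfree
  · intro h
    exact Cfsg.Agent.Lead.LocMod.sectionFree_of_not_involves P h

end Cfsg.Agent.Lead.QdLoc
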