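import Mathlib
import Cfsg.Prelude.Def_FusionComponents
import Cfsg.Prelude.Def_LocalEven
import Cfsg.Agent.Helper1.ZJFusQdA
import Cfsg.Agent.Lead.FusionFactor
import Cfsg.Agent.Lead.FusionSat3

set_option autoImplicit false

/-!
Group-level part: in a `Qd(p)`-free group (`p` odd) with Sylow `p`-subgroup `S` and `R` normal in `S`, `R ≠ S`,
there is a subgroup `U` of `S` strictly containing `R` whose normalizer controls strong fusion in `S` modulo `R`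
among elements of `N_G(R)`.  Also: construction of homomorphisms induced along a homomorphism.
-/

namespace Cfsg.Agent.Lead
namespace QdSolv

open Cfsg Cfsg.FusionSystem

universe u

theorem exists_inducedAlong {Ω : Type*} [Group Ω] {S : Subgroup Ω} {Ω' : Type*} [Group Ω']
    (θ : S →* Ω') (P' : Subgroup Ω') (hP' : P' ≤ θ.range)
    (ψ : ↥(preimageAlong θ P') →* Ω) (hψS : ∀ m, ψ m ∈ S)
    (hker : ∀ m : ↥(preimageAlong θ P'),
      θ ⟨m.1, Fusion.preimageAlong_le θ P' m.2⟩ = 1 → θ ⟨ψ m, hψS m⟩ = 1) :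
    ∃ φ' : P' →* Ω', InducedAlong θ ψ φ' := by
  have hMS : preimageAlong θ P' ≤ S := Fusion.preimageAlong_le θ P'
  have hMP' : ∀ m : ↥(preimageAlong θ P'), θ ⟨m.1, hMS m.2⟩ ∈ P' := fun m =>
    ((Fusion.mem_preimageAlong θ P' m.1).mp m.2).2
  let f : ↥(preimageAlong θ P') →* Ω' :=
    { toFun := fun m => θ ⟨ψ m, hψS m⟩
      map_one' := by
        have : (⟨ψ 1, hψS 1⟩ : S) = 1 := Subtype.ext (map_one ψ)
        rw [this, map_one]
      map_mul' := by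
        intro a b
        have : (⟨ψ (a * b), hψS (a * b)⟩ : S) = ⟨ψ a, hψS a⟩ * ⟨ψ b, hψS b⟩ :=
          Subtype.ext (map_mul ψ a b)
        rw [this, map_mul] }
  let g : ↥(preimageAlong θ P') →* P' :=
    { toFun := fun m => ⟨θ ⟨m.1, hMS m.2⟩, hMP' m⟩
      map_one' := by
        apply Subtype.ext
        have : (⟨((1 : ↥(preimageAlong θ P')) : Ω), hMS (1 : ↥(preimageAlong θ P')).2⟩ : S) = 1 := rfl
        show θ ⟨((1 : ↥(preimageAlong θ P')) : Ω), hMS (1 : ↥(preimageAlong θ P')).2⟩ = 1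
        rw [this, map_one]
      map_mul' := by
        intro a b
        apply Subtype.ext
        have : (⟨((a * b : ↥(preimageAlong θ P')) : Ω), hMS (a * b).2⟩ : S) =
            ⟨a.1, hMS a.2⟩ * ⟨b.1, hMS b.2⟩ := rfl
        show θ ⟨((a * b : ↥(preimageAlong θ P')) : Ω), hMS (a * b).2⟩ =
          θ ⟨a.1, hMS a.2⟩ * θ ⟨b.1, hMS b.2⟩
        rw [this, map_mul] }
  have hg : Function.Surjective g := by
    rintro ⟨y, hy⟩
    obtain ⟨s, rfl⟩ := hP' hy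
    have hsM : (s : Ω) ∈ preimageAlong θ P' :=
      (Fusion.mem_preimageAlong θ P' s).mpr ⟨s.2, hy⟩
    exact ⟨⟨s, hsM⟩, Subtype.ext rfl⟩
  have hkerfg : g.ker ≤ f.ker := by
    intro m hm
    rw [MonoidHom.mem_ker] at hm ⊢
    have h1 : θ ⟨m.1, hMS m.2⟩ = 1 := congrArg Subtype.val hm
    exact hker m h1
  refine ⟨g.liftOfSurjective hg ⟨f, hkerfg⟩, hMS, hψS, hMP', fun m => ?_⟩
  exact MonoidHom.liftOfRightInverse_comp_apply g _ (Function.rightInverse_surjInv hg) ⟨f, hkerfg⟩ m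

/-- control of strong fusion by `N(U)` can be read in any Sylow subgroup containing `U` -/
theorem control_in_sylow {G : Type*} [Group G] [Finite G] {p : ℕ} [Fact p.Prime] (U : Subgroup G)
    (h : Cfsg.ControlsStrongFusion p U) (T : Sylow p G) (hUT : U ≤ (T : Subgroup G))
    (A : Set G) (hA : A ⊆ (T : Subgroup G)) (g : G)
    (hg : ∀ a ∈ A, g * a * g⁻¹ ∈ (T : Subgroup G)) :
    ∃ x ∈ Subgroup.normalizer (U : Set G), ∀ a ∈ A, g * a * g⁻¹ = x * a * x⁻¹ := by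
  obtain ⟨T', hUT', hall⟩ := h
  obtain ⟨y, hy⟩ := MulAction.exists_smul_eq G T T'
  have hyT : ∀ t, t ∈ (T : Subgroup G) → y * t * y⁻¹ ∈ (T' : Subgroup G) := by
    intro t ht
    rw [← hy, Sylow.coe_subgroup_smul]
    have := Subgroup.smul_mem_pointwise_smul t (MulAut.conj y) (T : Subgroup G) ht
    rwa [MulAut.smul_def, MulAut.conj_apply] at this
  -- `y` normalizes `U`
  have hyU : y ∈ Subgroup.normalizer (U : Set G) := by
    apply mem_normalizer_of_conj_mem_of_finite U y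
    obtain ⟨x, hx, hxa⟩ := (hall (U : Set G) hUT').2 y (by
      rintro _ ⟨a, ha, rfl⟩
      exact hyT a (hUT ha))
    intro a ha
    rw [hxa a ha]
    exact (Subgroup.mem_normalizer_iff.mp hx a).mp ha
  -- transport the data to `T'`
  obtain ⟨x, hx, hxa⟩ := (hall ((fun a => y * a * y⁻¹) '' A) (by
      rintro _ ⟨a, ha, rfl⟩
      exact hyT a (hA ha))).2 (y * g * y⁻¹) (by
      rintro _ ⟨_, ⟨a, ha, rfl⟩, rfl⟩
      have h1 : y * g * y⁻¹ * (y * a * y⁻¹) * (y * g * y⁻¹)⁻¹ = y * (g * a * g⁻¹) * y⁻¹ := by group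
      show y * g * y⁻¹ * (y * a * y⁻¹) * (y * g * y⁻¹)⁻¹ ∈ (T' : Subgroup G)
      rw [h1]
      exact hyT _ (hg a ha))
  refine ⟨y⁻¹ * x * y, Subgroup.mul_mem _ (Subgroup.mul_mem _ (Subgroup.inv_mem _ hyU) hx) hyU, ?_⟩
  intro a ha
  have h2 := hxa (y * a * y⁻¹) ⟨a, ha, rfl⟩
  have h3 : g * a * g⁻¹ = y⁻¹ * (y * g * y⁻¹ * (y * a * y⁻¹) * (y * g * y⁻¹)⁻¹) * y := by group
  rw [h3, h2]
  group

theorem exists_control {G : Type u} [Group G] [Finite G] {p : ℕ} [Fact p.Prime] (hp : p ≠ 2)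
    (hqd : ¬ Cfsg.Involves ↥(Cfsg.qd p) G) (P : Sylow p G) (R : Subgroup G)
    (hRS : R ≤ (P : Subgroup G)) (hne : R ≠ (P : Subgroup G))
    (hn : (P : Subgroup G) ≤ Subgroup.normalizer (R : Set G)) :
    ∃ U : Subgroup G, R ≤ U ∧ U ≤ (P : Subgroup G) ∧ U ≠ R ∧
      ∀ (A : Set G), A ⊆ (P : Subgroup G) → ∀ g ∈ Subgroup.normalizer (R : Set G),
        (∀ a ∈ A, g * a * g⁻¹ ∈ (P : Subgroup G)) →
        ∃ n ∈ Subgroup.normalizer (R : Set G), n ∈ Subgroup.normalizer (U : Set G) ∧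
          ∀ a ∈ A, (g * a * g⁻¹)⁻¹ * (n * a * n⁻¹) ∈ R := by
  set K := Subgroup.normalizer (R : Set G) with hK
  set π := QuotientGroup.mk' (R.subgroupOf K) with hπ
  have hπs : Function.Surjective π := QuotientGroup.mk'_surjective _
  have hπker : ∀ k : K, π k = 1 ↔ (k : G) ∈ R := by
    intro k
    rw [hπ, QuotientGroup.mk'_apply, QuotientGroup.eq_one_iff, Subgroup.mem_subgroupOf]
  set T : Sylow p (K ⧸ R.subgroupOf K) := (P.subtype hn).mapSurjective hπs with hT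
  have hTmem : ∀ y, y ∈ (T : Subgroup (K ⧸ R.subgroupOf K)) ↔
      ∃ s : G, ∃ hs : s ∈ (P : Subgroup G), π ⟨s, hn hs⟩ = y := by
    intro y
    rw [hT, Sylow.coe_mapSurjective, Subgroup.mem_map]
    constructor
    · rintro ⟨k, hk, rfl⟩
      rw [Sylow.coe_subtype, Subgroup.mem_subgroupOf] at hk
      exact ⟨k.1, hk, rfl⟩
    · rintro ⟨s, hs, rfl⟩
      refine ⟨⟨s, hn hs⟩, ?_, rfl⟩
      rw [Sylow.coe_subtype, Subgroup.mem_subgroupOf]
      exact hs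
  have hctrl := Cfsg.Agent.Helper1.ZJFus.controls_of_qd_free hp hqd K R T
  set U₀ := Cfsg.centerThompsonAOf (T : Subgroup (K ⧸ R.subgroupOf K)) with hU₀
  have hU₀T : U₀ ≤ (T : Subgroup (K ⧸ R.subgroupOf K)) := by
    intro x hx
    obtain ⟨⟨t, -, rfl⟩, -⟩ := hx
    exact t.2
  -- `T` is nontrivial
  have hTnt : Nontrivial ↥(T : Subgroup (K ⧸ R.subgroupOf K)) := by
    obtain ⟨s, hs, hsR⟩ : ∃ s, s ∈ (P : Subgroup G) ∧ s ∉ R := by
      by_contra hcon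
      push Not at hcon
      exact hne (le_antisymm hRS hcon)
    refine ⟨⟨⟨π ⟨s, hn hs⟩, (hTmem _).mpr ⟨s, hs, rfl⟩⟩, 1, ?_⟩⟩
    intro h
    have h1 : π ⟨s, hn hs⟩ = 1 := congrArg Subtype.val h
    exact hsR ((hπker _).mp h1)
  have hU₀ne : U₀ ≠ ⊥ := by
    rw [hU₀, ← Cfsg.Agent.Helper1.ThompsonRed.zjFunctor_of]
    have h1 := Cfsg.Agent.Helper1.ThompsonRed.zjFunctor_ne_bot (p := p)
      ↥(T : Subgroup (K ⧸ R.subgroupOf K)) T.isPGroup' hTnt
    intro h2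
    apply h1
    unfold Cfsg.Agent.Helper1.ThompsonRed.CharFunctor.of at h2
    exact (Subgroup.map_eq_bot_iff_of_injective _ (Subgroup.subtype_injective _)).mp h2
  refine ⟨(U₀.comap π).map K.subtype, ?_, ?_, ?_, ?_⟩
  · intro r hr
    have hrK : r ∈ K := Subgroup.le_normalizer hr
    refine ⟨⟨r, hrK⟩, ?_, rfl⟩
    show π ⟨r, hrK⟩ ∈ U₀
    rw [(hπker _).mpr hr]
    exact Subgroup.one_mem _
  · rintro _ ⟨k, hk, rfl⟩
    have hk' : π k ∈ U₀ := hk
    obtain ⟨s, hs, hsk⟩ := (hTmem _).mp (hU₀T hk')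
    have h1 : π (⟨s, hn hs⟩⁻¹ * k) = 1 := by
      rw [map_mul, map_inv, hsk, inv_mul_cancel]
    have h2 : s⁻¹ * (k : G) ∈ R := (hπker _).mp h1
    have h3 : (k : G) = s * (s⁻¹ * (k : G)) := by group
    show (k : G) ∈ (P : Subgroup G)
    rw [h3]
    exact Subgroup.mul_mem _ hs (hRS h2)
  · intro heq
    apply hU₀ne
    rw [Subgroup.eq_bot_iff_forall]
    intro u hu
    obtain ⟨k, rfl⟩ := hπs u
    have hkmem : (k : G) ∈ (U₀.comap π).map K.subtype := ⟨k, hu, rfl⟩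
    rw [heq] at hkmem
    exact (hπker k).mpr hkmem
  · intro A hA g hg hgA
    have hAK : ∀ a ∈ A, a ∈ K := fun a ha => hn (hA ha)
    obtain ⟨x, hx, hxa⟩ := control_in_sylow U₀ hctrl T hU₀T
      {y | ∃ a, ∃ ha : a ∈ A, π ⟨a, hAK a ha⟩ = y}
      (by
        rintro _ ⟨a, ha, rfl⟩
        exact (hTmem _).mpr ⟨a, hA ha, rfl⟩)
      (π ⟨g, hg⟩)
      (by
        rintro _ ⟨a, ha, rfl⟩
        refine (hTmem _).mpr ⟨g * a * g⁻¹, hgA a ha, ?_⟩
        rw [← map_mul, ← map_inv, ← map_mul]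
        rfl)
    obtain ⟨n, rfl⟩ := hπs x
    refine ⟨n, n.2, ?_, ?_⟩
    · apply mem_normalizer_of_conj_mem_of_finite
      rintro _ ⟨k, hk, rfl⟩
      refine ⟨n * k * n⁻¹, ?_, rfl⟩
      show π (n * k * n⁻¹) ∈ U₀
      rw [map_mul, map_mul, map_inv]
      exact (Subgroup.mem_normalizer_iff.mp hx _).mp hk
    · intro a ha
      have h1 := hxa (π ⟨a, hAK a ha⟩) ⟨a, ha, rfl⟩
      have h2 : π ((⟨g, hg⟩ * ⟨a, hAK a ha⟩ * ⟨g, hg⟩⁻¹)⁻¹ * (n * ⟨a, hAK a ha⟩ * n⁻¹)) = 1 := by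
        rw [map_mul, map_inv, map_mul, map_mul, map_inv, map_mul, map_mul, map_inv, h1, inv_mul_cancel]
      exact (hπker _).mp h2

end QdSolv
end Cfsg.Agent.Lead
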