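import Mathlib
import Cfsg.Agent.Lead.QdSolvA

set_option autoImplicit false

/-!
The fusion system of a `Qd(p)`-free group (`p` odd) on a Sylow `p`-subgroup is a solvable fusion system.
-/

namespace Cfsg.Agent.Lead
namespace QdSolv

open Cfsg Cfsg.FusionSystem

universe u

theorem factor_core_ne_bot {G : Type u} [Group G] [Finite G] {p : ℕ} [Fact p.Prime] (hp : p ≠ 2)
    (hqd : ¬ Cfsg.Involves ↥(Cfsg.qd p) G) (P : Sylow p G) (R : Subgroup G)
    (hR : (Cfsg.groupFusionSystem (P : Subgroup G)).StronglyClosed R)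
    (hne : R ≠ (P : Subgroup G)) [hnorm : (R.subgroupOf (P : Subgroup G)).Normal]
    (E : FusionSystem (⊤ : Subgroup ((P : Subgroup G) ⧸ R.subgroupOf (P : Subgroup G))))
    (hE : (Cfsg.groupFusionSystem (P : Subgroup G)).IsFactorSystem R
      (QuotientGroup.mk' (R.subgroupOf (P : Subgroup G))) E) : E.core ≠ ⊥ := by
  set S : Subgroup G := (P : Subgroup G) with hS
  set F := Cfsg.groupFusionSystem S with hF
  set θ := QuotientGroup.mk' (R.subgroupOf S) with hθ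
  obtain ⟨hRS, hker, hrange, hHom⟩ := hE
  have hθs : Function.Surjective θ := QuotientGroup.mk'_surjective _
  have hn : S ≤ Subgroup.normalizer (R : Set G) :=
    (Subgroup.normal_subgroupOf_iff_le_normalizer hRS).mp hnorm
  obtain ⟨U, hRU, hUS, hUR, hctrl⟩ := exists_control hp hqd P R hRS hne hn
  set W : Subgroup (S ⧸ R.subgroupOf S) := imageAlong θ U with hW
  have hWmem : ∀ y, y ∈ W ↔ ∃ (u : G) (hu : u ∈ U), θ ⟨u, hUS hu⟩ = y := by
    intro y
    rw [hW, Fusion.mem_imageAlong]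
    constructor
    · rintro ⟨x, hx, hxS, rfl⟩
      exact ⟨x, hx, rfl⟩
    · rintro ⟨u, hu, rfl⟩
      exact ⟨u, hu, hUS hu, rfl⟩
  -- `W` is not trivial
  have hWne : W ≠ ⊥ := by
    intro hbot
    apply hUR
    apply le_antisymm _ hRU
    intro u hu
    have h1 : θ ⟨u, hUS hu⟩ ∈ W := (hWmem _).mpr ⟨u, hu, rfl⟩
    rw [hbot, Subgroup.mem_bot] at h1
    exact (hker _).mp h1
  -- `W` is normal in `E`
  have hWnorm : E.IsNormal W := by
    refine ⟨le_top, fun P' φ' hφ' => ?_⟩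
    set A := preimageAlong θ P' with hA
    obtain ⟨-, φ, hφ, hind⟩ := (hHom P' φ').mp hφ'
    obtain ⟨hAS, hφS, hAP', hφφ'⟩ := hind
    obtain ⟨-, -, g, hg⟩ := hφ
    have hRA : R ≤ A := by
      intro r hr
      rw [hA, Fusion.mem_preimageAlong]
      refine ⟨hRS hr, ?_⟩
      rw [(hker ⟨r, hRS hr⟩).mpr hr]
      exact Subgroup.one_mem _
    -- `g` normalizes `R`
    have hgR : g ∈ Subgroup.normalizer (R : Set G) := by
      haveI : Finite R := Finite.of_injective (fun r : R => (⟨r.1, hRS r.2⟩ : S))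
        (fun a b hab => Subtype.ext (congrArg (fun z : S => (z : G)) hab))
      apply mem_normalizer_of_conj_mem_of_finite R g
      intro r hr
      have hmem : ((MulAut.conj g).toMonoidHom.comp R.subtype) ∈ F.Hom R := by
        refine ⟨hRS, fun x => ?_, g, fun x => rfl⟩
        have := hφS ⟨x.1, hRA x.2⟩
        rw [hg] at this
        exact this
      exact hR.2 R le_rfl _ hmem ⟨r, hr⟩
    obtain ⟨n, hnR, hnU, hna⟩ := hctrl (A : Set G) hAS g hgR (fun a ha => by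
      have := hφS ⟨a, ha⟩
      rw [hg] at this
      exact this)
    -- conjugation by `n` carries the preimage of `P' ⊔ W` into `S`
    set B := preimageAlong θ (P' ⊔ W) with hB
    have hBS : B ≤ S := Fusion.preimageAlong_le θ _
    set C : Subgroup G := S ⊓ S.comap (MulAut.conj n).toMonoidHom with hC
    have hCmem : ∀ x, x ∈ C ↔ x ∈ S ∧ n * x * n⁻¹ ∈ S := fun x => Iff.rfl
    have hAC : A ≤ C := by
      intro a ha
      refine (hCmem a).mpr ⟨hAS ha, ?_⟩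
      have h1 : g * a * g⁻¹ ∈ S := by
        have := hφS ⟨a, ha⟩
        rw [hg] at this
        exact this
      have h2 : n * a * n⁻¹ = g * a * g⁻¹ * ((g * a * g⁻¹)⁻¹ * (n * a * n⁻¹)) := by group
      rw [h2]
      exact Subgroup.mul_mem _ h1 (hRS (hna a ha))
    have hUC : U ≤ C := by
      intro u hu
      exact (hCmem u).mpr ⟨hUS hu, hUS ((Subgroup.mem_normalizer_iff.mp hnU u).mp hu)⟩
    have hle : P' ⊔ W ≤ imageAlong θ C := by
      apply sup_le
      · intro y hy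
        obtain ⟨s, rfl⟩ := hθs y
        have hsA : (s : G) ∈ A := (Fusion.mem_preimageAlong θ P' s).mpr ⟨s.2, hy⟩
        exact (Fusion.mem_imageAlong θ C _).mpr ⟨s, hAC hsA, s.2, rfl⟩
      · intro y hy
        obtain ⟨u, hu, rfl⟩ := (hWmem y).mp hy
        exact (Fusion.mem_imageAlong θ C _).mpr ⟨u, hUC hu, hUS hu, rfl⟩
    have hBC : B ≤ C := by
      intro b hb
      obtain ⟨hbS, hbθ⟩ := (Fusion.mem_preimageAlong θ _ b).mp hb
      obtain ⟨c, hc, hcS, hcb⟩ := (Fusion.mem_imageAlong θ C _).mp (hle hbθ)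
      have h1 : θ (⟨c, hcS⟩⁻¹ * ⟨b, hbS⟩) = 1 := by
        rw [map_mul, map_inv, hcb, inv_mul_cancel]
      have h2 : c⁻¹ * b ∈ R := (hker _).mp h1
      have h3 : b = c * (c⁻¹ * b) := by group
      rw [h3]
      exact Subgroup.mul_mem _ hc (hAC (hRA h2))
    set ψ : B →* G := (MulAut.conj n).toMonoidHom.comp B.subtype with hψ
    have hψx : ∀ b : B, ψ b = n * (b : G) * n⁻¹ := fun b => rfl
    have hψS : ∀ b : B, ψ b ∈ S := fun b => ((hCmem _).mp (hBC b.2)).2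
    have hψF : ψ ∈ F.Hom B := ⟨hBS, hψS, n, hψx⟩
    obtain ⟨ψ', hψ'⟩ := exists_inducedAlong θ (P' ⊔ W)
      (fun y _ => by obtain ⟨s, rfl⟩ := hθs y; exact ⟨s, rfl⟩) ψ hψS (by
        intro m hm
        have h1 : (m : G) ∈ R := (hker _).mp hm
        refine (hker _).mpr ?_
        show ψ m ∈ R
        rw [hψx]
        exact (Subgroup.mem_normalizer_iff.mp hnR _).mp h1)
    have hψ'E : ψ' ∈ E.Hom (P' ⊔ W) := (hHom _ ψ').mpr ⟨le_top, ψ, hψF, hψ'⟩
    obtain ⟨hBS', hψS', hBP', hψψ'⟩ := hψ'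
    refine ⟨ψ', hψ'E, ?_, ?_⟩
    · intro x
      obtain ⟨s, hs⟩ := hθs (x : S ⧸ R.subgroupOf S)
      have hsA : (s : G) ∈ A := (Fusion.mem_preimageAlong θ P' s).mpr ⟨s.2, by rw [hs]; exact x.2⟩
      have hsB : (s : G) ∈ B :=
        (Fusion.mem_preimageAlong θ _ s).mpr ⟨s.2, by
          rw [hs]; exact (le_sup_left : P' ≤ P' ⊔ W) x.2⟩
      have h1 := hφφ' ⟨s, hsA⟩
      have h2 := hψψ' ⟨s, hsB⟩
      have e1 : (⟨θ ⟨(s : G), hAS hsA⟩, hAP' ⟨s, hsA⟩⟩ : P') = x := Subtype.ext hs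
      have e2 : (⟨θ ⟨(s : G), hBS hsB⟩, hBP' ⟨s, hsB⟩⟩ : ↥(P' ⊔ W)) =
          Subgroup.inclusion le_sup_left x := Subtype.ext hs
      rw [e1] at h1
      rw [e2] at h2
      rw [h1, h2]
      -- the two images agree modulo `R`
      have h3 : (g * (s : G) * g⁻¹)⁻¹ * (n * (s : G) * n⁻¹) ∈ R := hna s hsA
      have h4 : θ (⟨φ ⟨s, hsA⟩, hφS ⟨s, hsA⟩⟩⁻¹ * ⟨ψ ⟨s, hsB⟩, hψS ⟨s, hsB⟩⟩) = 1 := by
        refine (hker _).mpr ?_
        show (φ ⟨s, hsA⟩)⁻¹ * ψ ⟨s, hsB⟩ ∈ R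
        rw [hg, hψx]
        exact h3
      rw [map_mul, map_inv] at h4
      exact (inv_mul_eq_one.mp h4).symm
    · apply le_antisymm
      · rintro _ ⟨y, hy, rfl⟩
        have hyW : (y : S ⧸ R.subgroupOf S) ∈ W := hy
        obtain ⟨u, hu, huy⟩ := (hWmem _).mp hyW
        have huB : u ∈ B := (Fusion.mem_preimageAlong θ _ u).mpr ⟨hUS hu, by
          rw [huy]; exact y.2⟩
        have h2 := hψψ' ⟨u, huB⟩
        have e2 : (⟨θ ⟨u, hBS huB⟩, hBP' ⟨u, huB⟩⟩ : ↥(P' ⊔ W)) = y := Subtype.ext huy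
        rw [e2] at h2
        rw [h2]
        refine (hWmem _).mpr ⟨n * u * n⁻¹, (Subgroup.mem_normalizer_iff.mp hnU u).mp hu, rfl⟩
      · intro y hy
        obtain ⟨u, hu, rfl⟩ := (hWmem _).mp hy
        have hu' : n⁻¹ * u * n ∈ U := by
          have := (Subgroup.mem_normalizer_iff.mp (Subgroup.inv_mem _ hnU) u).mp hu
          rwa [inv_inv] at this
        have hu'W : θ ⟨n⁻¹ * u * n, hUS hu'⟩ ∈ W := (hWmem _).mpr ⟨_, hu', rfl⟩
        have hu'B : n⁻¹ * u * n ∈ B := (Fusion.mem_preimageAlong θ _ _).mpr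
          ⟨hUS hu', (le_sup_right : W ≤ P' ⊔ W) hu'W⟩
        refine ⟨⟨θ ⟨n⁻¹ * u * n, hUS hu'⟩, (le_sup_right : W ≤ P' ⊔ W) hu'W⟩, hu'W, ?_⟩
        have h2 := hψψ' ⟨n⁻¹ * u * n, hu'B⟩
        rw [h2]
        congr 1
        apply Subtype.ext
        show ψ ⟨n⁻¹ * u * n, hu'B⟩ = u
        rw [hψx]
        show n * (n⁻¹ * u * n) * n⁻¹ = u
        group
  intro hcore
  apply hWne
  have hle : W ≤ E.core := le_sSup hWnorm
  rw [hcore] at hle
  exact le_bot_iff.mp hle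

end QdSolv
end Cfsg.Agent.Lead
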