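import Mathlib

set_option autoImplicit false

/-!
Two quadratically acting generators of a linear group that is not a `p`-group, with the
`p'`-part of the order of their product dividing `q - 1`, give a homomorphism onto a
non-`p`-subgroup of `SL(2, q)`.
-/

namespace Cfsg.Agent.Lead.QuadPair

open Polynomial

universe u v

variable {K : Type v} [Field K]

section eigen

variable [Fintype K] {p : ℕ} [Fact p.Prime] [CharP K p]

/-- `X ^ (p ^ e * k) - 1` splits over a finite field `K` with `k ∣ |K| - 1`. -/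
theorem splits_pow_sub_one {e k : ℕ} (hk : k ∣ Fintype.card K - 1) :
    Splits (X ^ (p ^ e * k) - 1 : K[X]) := by
  have h1 : Splits (X ^ (Nat.card K) - X : K[X]) := Polynomial.splits_X_pow_nat_card_sub_X
  rw [Nat.card_eq_fintype_card] at h1
  have hq : 1 ≤ Fintype.card K := Fintype.card_pos
  have h2 : (X ^ (Fintype.card K - 1) - 1 : K[X]) ∣ X ^ Fintype.card K - X := by
    refine ⟨X, ?_⟩
    rw [sub_mul, one_mul, ← pow_succ, Nat.sub_add_cancel hq]
  have hne : (X ^ Fintype.card K - X : K[X]) ≠ 0 := by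
    exact FiniteField.X_pow_card_sub_X_ne_zero K (Fintype.one_lt_card (α := K))
  have h3 : Splits (X ^ (Fintype.card K - 1) - 1 : K[X]) := h1.of_dvd hne h2
  obtain ⟨l, hl⟩ := hk
  have h4 : (X ^ k - 1 : K[X]) ∣ X ^ (Fintype.card K - 1) - 1 := by
    rw [hl, pow_mul]
    have := sub_dvd_pow_sub_pow (X ^ k : K[X]) 1 l
    rwa [one_pow] at this
  have hne2 : (X ^ (Fintype.card K - 1) - 1 : K[X]) ≠ 0 := by
    intro h0
    rw [h0, zero_dvd_iff] at h2
    exact hne h2
  have h5 : Splits (X ^ k - 1 : K[X]) := h3.of_dvd hne2 h4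
  have h6 : (X ^ (p ^ e * k) - 1 : K[X]) = (X ^ k - 1) ^ (p ^ e) := by
    rw [sub_pow_char_pow, one_pow, ← pow_mul, mul_comm]
  rw [h6]
  exact h5.pow _

variable {W : Type u} [AddCommGroup W] [Module K W] [FiniteDimensional K W]

theorem exists_eigenvector [Nontrivial W] {e k : ℕ} (hk : k ∣ Fintype.card K - 1)
    (x : Module.End K W) (hx : x ^ (p ^ e * k) = 1) :
    ∃ (v : W) (ν : K), v ≠ 0 ∧ x v = ν • v := by
  have hk0 : k ≠ 0 := by
    rintro rfl
    have : Fintype.card K - 1 = 0 := Nat.eq_zero_of_zero_dvd hk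
    have := Fintype.one_lt_card (α := K)
    omega
  have hN0 : p ^ e * k ≠ 0 := mul_ne_zero (pow_ne_zero _ (Fact.out : p.Prime).ne_zero) hk0
  have hsplit := splits_pow_sub_one (K := K) (p := p) (e := e) hk
  have hdvd : minpoly K x ∣ (X ^ (p ^ e * k) - 1 : K[X]) := by
    apply minpoly.dvd
    simp [hx]
  have hne : (X ^ (p ^ e * k) - 1 : K[X]) ≠ 0 := X_pow_sub_C_ne_zero (Nat.pos_of_ne_zero hN0) 1
  have hs : Splits (minpoly K x) := hsplit.of_dvd hne hdvd
  have hint : IsIntegral K x := Algebra.IsIntegral.isIntegral x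
  have hdeg : (minpoly K x).degree ≠ 0 := (minpoly.degree_pos hint).ne'
  obtain ⟨ν, hν⟩ := hs.exists_eval_eq_zero hdeg
  have hev : x.HasEigenvalue ν := Module.End.hasEigenvalue_of_isRoot hν
  obtain ⟨v, hv⟩ := hev.exists_hasEigenvector
  exact ⟨v, ν, hv.2, hv.apply_eq_smul⟩

end eigen

section quad

variable {W : Type u} [AddCommGroup W] [Module K W]

/-- Quadratic action of a linear automorphism. -/
def Quad (f : W ≃ₗ[K] W) : Prop := ∀ w : W, f (f w - w) = f w - w

theorem one_app (w : W) : (1 : W ≃ₗ[K] W) w = w := rfl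

theorem Quad.sq {f : W ≃ₗ[K] W} (hf : Quad f) (w : W) : f (f w) = f w + f w - w := by
  have := hf w
  rw [map_sub] at this
  rw [sub_eq_iff_eq_add] at this
  rw [this]
  abel

theorem Quad.pow_apply {f : W ≃ₗ[K] W} (hf : Quad f) (n : ℕ) (w : W) :
    (f ^ n) w = w + n • (f w - w) := by
  induction n with
  | zero => simp
  | succ n ih =>
    rw [pow_succ', LinearEquiv.mul_apply, ih, map_add, map_nsmul, hf w, succ_nsmul]
    abel

theorem Quad.pow_char {p : ℕ} [CharP K p] {f : W ≃ₗ[K] W} (hf : Quad f) : f ^ p = 1 := by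
  ext w
  rw [hf.pow_apply, one_app]
  have : (p : ℕ) • (f w - w) = 0 := by
    rw [← Nat.cast_smul_eq_nsmul K, CharP.cast_eq_zero, zero_smul]
  rw [this, add_zero]

/-- In dimension at most one, a quadratic automorphism is trivial. -/
theorem Quad.eq_one_of_finrank_le_one [FiniteDimensional K W] (h1 : Module.finrank K W ≤ 1)
    {f : W ≃ₗ[K] W} (hf : Quad f) : f = 1 := by
  obtain ⟨v₀, hv₀⟩ := finrank_le_one_iff.1 h1
  obtain ⟨c, hc⟩ := hv₀ (f v₀)
  have hfix : f v₀ = v₀ := by
    by_cases h0 : v₀ = 0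
    · rw [h0, map_zero]
    · have h2 := hf v₀
      have h2' : f ((c - 1) • v₀) = (c - 1) • v₀ := by
        rw [sub_smul, one_smul, hc]; exact h2
      rw [map_smul, ← hc, smul_smul, ← sub_eq_zero, ← sub_smul] at h2'
      have h2 := h2'
      have h3 := (smul_eq_zero.1 h2).resolve_right h0
      have h4 : (c - 1) * (c - 1) = 0 := by
        have : (c - 1) * c - (c - 1) = (c - 1) * (c - 1) := by ring
        rw [← this]; exact h3
      have h5 : c - 1 = 0 := mul_self_eq_zero.1 h4
      rw [← hc, sub_eq_zero.1 h5, one_smul]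
  ext w
  obtain ⟨d, rfl⟩ := hv₀ w
  rw [map_smul, hfix, one_app]

end quad

section stab

variable {W : Type u} [AddCommGroup W] [Module K W]

/-- The stabilizer of a submodule in the group of linear automorphisms. -/
def stab (U : Submodule K W) : Subgroup (W ≃ₗ[K] W) where
  carrier := {g | U.map (g : W →ₗ[K] W) = U}
  one_mem' := by
    show U.map ((1 : W ≃ₗ[K] W) : W →ₗ[K] W) = U
    rw [LinearEquiv.coe_toLinearMap_one, Submodule.map_id]
  mul_mem' := by
    intro g h hg hh
    show U.map ((g * h : W ≃ₗ[K] W) : W →ₗ[K] W) = U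
    rw [LinearEquiv.coe_toLinearMap_mul, Module.End.mul_eq_comp, Submodule.map_comp]
    have hg' : U.map (g : W →ₗ[K] W) = U := hg
    have hh' : U.map (h : W →ₗ[K] W) = U := hh
    rw [hh', hg']
  inv_mem' := by
    intro g hg
    show U.map ((g⁻¹ : W ≃ₗ[K] W) : W →ₗ[K] W) = U
    have hg' : U.map (g : W →ₗ[K] W) = U := hg
    conv_lhs => rw [← hg']
    rw [← Submodule.map_comp]
    have : ((g⁻¹ : W ≃ₗ[K] W) : W →ₗ[K] W) ∘ₗ (g : W →ₗ[K] W) = LinearMap.id := by
      ext w
      show g⁻¹ (g w) = w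
      rw [← LinearEquiv.mul_apply, inv_mul_cancel, one_app]
    rw [this, Submodule.map_id]

theorem mem_stab {U : Submodule K W} {g : W ≃ₗ[K] W} :
    g ∈ stab U ↔ U.map (g : W →ₗ[K] W) = U := Iff.rfl

theorem apply_mem_of_mem_stab {U : Submodule K W} {g : W ≃ₗ[K] W} (hg : g ∈ stab U) {u : W}
    (hu : u ∈ U) : g u ∈ U := by
  have : g u ∈ U.map (g : W →ₗ[K] W) := Submodule.mem_map_of_mem hu
  rwa [mem_stab.1 hg] at this

/-- Restriction to the stabilized submodule. -/
noncomputable def resHom (U : Submodule K W) : stab U →* (U ≃ₗ[K] U) where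
  toFun g := ((g : W ≃ₗ[K] W).submoduleMap U).trans (LinearEquiv.ofEq _ _ (mem_stab.1 g.2))
  map_one' := by
    ext u
    rfl
  map_mul' := by
    intro g h
    ext u
    rfl

theorem resHom_apply (U : Submodule K W) (g : stab U) (u : U) :
    ((resHom U g u : U) : W) = (g : W ≃ₗ[K] W) u := rfl

/-- Action on the quotient by the stabilized submodule. -/
noncomputable def quotHom (U : Submodule K W) : stab U →* ((W ⧸ U) ≃ₗ[K] (W ⧸ U)) where
  toFun g := Submodule.Quotient.equiv U U (g : W ≃ₗ[K] W) (mem_stab.1 g.2)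
  map_one' := by
    ext x
    induction x using Submodule.Quotient.induction_on with
    | _ w => rfl
  map_mul' := by
    intro g h
    ext x
    induction x using Submodule.Quotient.induction_on with
    | _ w => rfl

theorem quotHom_mk (U : Submodule K W) (g : stab U) (w : W) :
    quotHom U g (Submodule.Quotient.mk w) = Submodule.Quotient.mk ((g : W ≃ₗ[K] W) w) := rfl

/-- An automorphism in the stabilizer acting trivially on `U` and `W ⧸ U` is quadratic. -/
theorem quad_of_trivial {U : Submodule K W} (g : stab U) (h1 : resHom U g = 1)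
    (h2 : quotHom U g = 1) : Quad (g : W ≃ₗ[K] W) := by
  intro w
  have hw : (g : W ≃ₗ[K] W) w - w ∈ U := by
    have := congrArg (fun f => f (Submodule.Quotient.mk w)) h2
    simp only [quotHom_mk, one_app] at this
    exact (Submodule.Quotient.eq U).1 this
  have := congrArg (fun f => ((f ⟨_, hw⟩ : U) : W)) h1
  simp only [resHom_apply, one_app] at this
  exact this

theorem mem_stab_of_forall_mem [FiniteDimensional K W] {U : Submodule K W} {g : W ≃ₗ[K] W}
    (h : ∀ u ∈ U, g u ∈ U) : g ∈ stab U := by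
  rw [mem_stab]
  have hle : U.map (g : W →ₗ[K] W) ≤ U := by
    rw [Submodule.map_le_iff_le_comap]
    intro u hu
    exact h u hu
  exact Submodule.eq_of_le_of_finrank_eq hle (LinearEquiv.finrank_map_eq g U)

theorem Quad.symm_apply {f : W ≃ₗ[K] W} (hf : Quad f) (w : W) : f.symm w = w + w - f w := by
  rw [LinearEquiv.symm_apply_eq, map_sub, map_add, hf.sq]
  abel

/-- The span of an eigenvector `v` of `a * b` and `a v` is invariant under `a` and `b`. -/
theorem span_invariant {a b : W ≃ₗ[K] W} (ha : Quad a) (hb : Quad b) {v : W} {ν : K}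
    (hν : ν ≠ 0) (hv : a (b v) = ν • v) :
    (∀ u ∈ Submodule.span K ({v, a v} : Set W), a u ∈ Submodule.span K ({v, a v} : Set W)) ∧
    (∀ u ∈ Submodule.span K ({v, a v} : Set W), b u ∈ Submodule.span K ({v, a v} : Set W)) := by
  obtain ⟨U, hU⟩ : ∃ U, U = Submodule.span K ({v, a v} : Set W) := ⟨_, rfl⟩
  rw [← hU]
  have hvU : v ∈ U := by rw [hU]; exact Submodule.subset_span (by simp)
  have havU : a v ∈ U := by rw [hU]; exact Submodule.subset_span (by simp)
  have hbv : b v = ν • (v + v - a v) := by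
    have h1 : b v = a.symm (ν • v) := by rw [LinearEquiv.eq_symm_apply]; exact hv
    rw [h1, map_smul, ha.symm_apply]
  have hbvU : b v ∈ U := by
    rw [hbv]
    exact U.smul_mem _ (U.sub_mem (U.add_mem hvU hvU) havU)
  have hav : a v = v + v - ν⁻¹ • b v := by
    rw [hbv, smul_smul, inv_mul_cancel₀ hν, one_smul]
    abel
  constructor
  · have hle : U ≤ U.comap (a : W →ₗ[K] W) := by
      rw [hU, Submodule.span_le, ← hU]
      intro x hx
      rcases hx with rfl | rfl
      · exact havU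
      · show a (a v) ∈ U
        rw [ha.sq]
        exact U.sub_mem (U.add_mem havU havU) hvU
    intro u hu
    exact hle hu
  · have hle : U ≤ U.comap (b : W →ₗ[K] W) := by
      rw [hU, Submodule.span_le, ← hU]
      intro x hx
      rcases hx with rfl | rfl
      · exact hbvU
      · show b (a v) ∈ U
        rw [hav, map_sub, map_add, map_smul, hb.sq]
        exact U.sub_mem (U.add_mem hbvU hbvU)
          (U.smul_mem _ (U.sub_mem (U.add_mem hbvU hbvU) hvU))
    intro u hu
    exact hle hu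

end stab

section main

variable [Fintype K] {p : ℕ} [Fact p.Prime] [CharP K p]
variable {G : Type*} [Group G] {a b : G}

theorem units_eq_one_of_pow_char (u : Kˣ) (hu : u ^ p = 1) : u = 1 := by
  apply Units.ext
  have h1 : (u : K) ^ p = 1 := by
    have := congrArg Units.val hu
    simpa using this
  apply frobenius_inj K p
  rw [frobenius_def, frobenius_def, h1, Units.val_one, one_pow]

theorem eq_top_of_closure (hgen : Subgroup.closure {a, b} = ⊤) (S : Subgroup G) (ha : a ∈ S)
    (hb : b ∈ S) : S = ⊤ := by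
  rw [eq_top_iff, ← hgen, Subgroup.closure_le]
  intro x hx
  rcases hx with rfl | rfl
  · exact ha
  · exact hb

variable {W : Type u} [AddCommGroup W] [Module K W] [FiniteDimensional K W]

theorem small (hgen : Subgroup.closure {a, b} = ⊤) (hd : Module.finrank K W ≤ 2)
    (ρ : G →* (W ≃ₗ[K] W)) (ha : Quad (ρ a)) (hb : Quad (ρ b))
    (hnp : ¬ ∀ g : G, ∃ j : ℕ, ρ g ^ p ^ j = 1) :
    ∃ φ : G →* Matrix.SpecialLinearGroup (Fin 2) K, ¬ ∀ g : G, ∃ j : ℕ, φ g ^ p ^ j = 1 := by
  by_cases h2 : Module.finrank K W = 2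
  · let bs : Module.Basis (Fin 2) K W := Module.finBasisOfFinrankEq K W h2
    let d : G →* Kˣ := (LinearEquiv.det (R := K) (M := W)).comp ρ
    have hda : d a = 1 := by
      apply units_eq_one_of_pow_char (p := p)
      rw [← map_pow]
      show LinearEquiv.det (ρ (a ^ p)) = 1
      rw [map_pow, ha.pow_char (p := p), map_one]
    have hdb : d b = 1 := by
      apply units_eq_one_of_pow_char (p := p)
      rw [← map_pow]
      show LinearEquiv.det (ρ (b ^ p)) = 1
      rw [map_pow, hb.pow_char (p := p), map_one]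
    have hker : d.ker = ⊤ := eq_top_of_closure hgen d.ker hda hdb
    have hdet : ∀ g : G, LinearMap.det ((ρ g : W ≃ₗ[K] W) : W →ₗ[K] W) = 1 := by
      intro g
      have hg : g ∈ d.ker := by rw [hker]; trivial
      have h1 : LinearEquiv.det (ρ g) = 1 := hg
      have h3 := congrArg Units.val h1
      rw [LinearEquiv.coe_det] at h3
      simpa using h3
    let φ : G →* Matrix.SpecialLinearGroup (Fin 2) K :=
      { toFun := fun g => ⟨LinearMap.toMatrix bs bs ((ρ g : W ≃ₗ[K] W) : W →ₗ[K] W), by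
          rw [LinearMap.det_toMatrix]; exact hdet g⟩
        map_one' := by
          apply Subtype.ext
          show LinearMap.toMatrix bs bs ((ρ 1 : W ≃ₗ[K] W) : W →ₗ[K] W) = 1
          rw [map_one, LinearEquiv.coe_toLinearMap_one, LinearMap.toMatrix_id]
        map_mul' := by
          intro g h
          apply Subtype.ext
          show LinearMap.toMatrix bs bs ((ρ (g * h) : W ≃ₗ[K] W) : W →ₗ[K] W) =
            LinearMap.toMatrix bs bs ((ρ g : W ≃ₗ[K] W) : W →ₗ[K] W) *
              LinearMap.toMatrix bs bs ((ρ h : W ≃ₗ[K] W) : W →ₗ[K] W)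
          rw [map_mul, LinearEquiv.coe_toLinearMap_mul, LinearMap.toMatrix_mul] }
    refine ⟨φ, ?_⟩
    intro hall
    apply hnp
    intro g
    obtain ⟨j, hj⟩ := hall g
    refine ⟨j, ?_⟩
    rw [← map_pow] at hj ⊢
    have h3 : LinearMap.toMatrix bs bs ((ρ (g ^ p ^ j) : W ≃ₗ[K] W) : W →ₗ[K] W) = 1 :=
      congrArg Subtype.val hj
    rw [← LinearMap.toMatrix_id bs] at h3
    have h4 := (LinearMap.toMatrix bs bs).injective h3
    apply LinearEquiv.toLinearMap_injective
    rw [h4]
    rfl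
  · exfalso
    have h1 : Module.finrank K W ≤ 1 := by omega
    have ha1 : ρ a = 1 := ha.eq_one_of_finrank_le_one h1
    have hb1 : ρ b = 1 := hb.eq_one_of_finrank_le_one h1
    have hker : ρ.ker = ⊤ := eq_top_of_closure hgen ρ.ker ha1 hb1
    apply hnp
    intro g
    refine ⟨0, ?_⟩
    have hg : g ∈ ρ.ker := by rw [hker]; trivial
    rw [pow_zero, pow_one]
    exact hg

omit [FiniteDimensional K W] in
theorem pgroup_of_res_quot {U : Submodule K W} (ρ' : G →* stab U)
    (hU : ∀ g : G, ∃ j : ℕ, (resHom U (ρ' g)) ^ p ^ j = 1)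
    (hQ : ∀ g : G, ∃ j : ℕ, (quotHom U (ρ' g)) ^ p ^ j = 1) :
    ∀ g : G, ∃ j : ℕ, ((ρ' g : stab U) : W ≃ₗ[K] W) ^ p ^ j = 1 := by
  intro g
  obtain ⟨i, hi⟩ := hU g
  obtain ⟨j, hj⟩ := hQ g
  refine ⟨i + j + 1, ?_⟩
  have h1 : resHom U (ρ' (g ^ p ^ (i + j))) = 1 := by
    rw [map_pow, map_pow, pow_add, pow_mul, hi, one_pow]
  have h2 : quotHom U (ρ' (g ^ p ^ (i + j))) = 1 := by
    rw [map_pow, map_pow, pow_add, mul_comm, pow_mul, hj, one_pow]
  have hq := quad_of_trivial _ h1 h2
  have h3 := hq.pow_char (p := p)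
  rw [map_pow, Subgroup.coe_pow, ← pow_mul, ← pow_succ] at h3
  exact h3

theorem key (hgen : Subgroup.closure {a, b} = ⊤) {e k : ℕ} (hk : k ∣ Fintype.card K - 1) :
    ∀ n : ℕ, ∀ (W : Type u) [AddCommGroup W] [Module K W] [FiniteDimensional K W],
      Module.finrank K W = n → ∀ ρ : G →* (W ≃ₗ[K] W), Quad (ρ a) → Quad (ρ b) →
      ρ (a * b) ^ (p ^ e * k) = 1 → (¬ ∀ g : G, ∃ j : ℕ, ρ g ^ p ^ j = 1) →
      ∃ φ : G →* Matrix.SpecialLinearGroup (Fin 2) K, ¬ ∀ g : G, ∃ j : ℕ, φ g ^ p ^ j = 1 := by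
  intro n
  induction n using Nat.strong_induction_on with
  | _ n ih =>
  intro W _ _ _ hn ρ ha hb hpow hnp
  by_cases hd : Module.finrank K W ≤ 2
  · exact small hgen hd ρ ha hb hnp
  · have hn3 : 3 ≤ n := by omega
    haveI : Nontrivial W := Module.nontrivial_of_finrank_pos (R := K) (by omega)
    -- eigenvector of `a * b`
    have hx : (LinearEquiv.automorphismGroup.toLinearMapMonoidHom (ρ (a * b))) ^ (p ^ e * k)
        = 1 := by
      rw [← map_pow, hpow, map_one]
    obtain ⟨v, ν, hv0, hv⟩ := exists_eigenvector (p := p) (e := e) hk _ hx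
    have hv' : ρ a (ρ b v) = ν • v := by
      rw [map_mul] at hv
      exact hv
    have hν : ν ≠ 0 := by
      intro h0
      rw [h0, zero_smul] at hv'
      have h1 := (LinearEquiv.map_eq_zero_iff _).1 hv'
      exact hv0 ((LinearEquiv.map_eq_zero_iff _).1 h1)
    obtain ⟨U, hUdef⟩ : ∃ U, U = Submodule.span K ({v, ρ a v} : Set W) := ⟨_, rfl⟩
    obtain ⟨hUa, hUb⟩ := span_invariant ha hb hν hv'
    rw [← hUdef] at hUa hUb
    have hsa : ρ a ∈ stab U := mem_stab_of_forall_mem hUa
    have hsb : ρ b ∈ stab U := mem_stab_of_forall_mem hUb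
    have hall : ∀ g : G, ρ g ∈ stab U := by
      have := eq_top_of_closure hgen ((stab U).comap ρ) hsa hsb
      intro g
      have hg : g ∈ (stab U).comap ρ := by rw [this]; trivial
      exact hg
    obtain ⟨ρ', hρ'⟩ : ∃ ρ' : G →* stab U, ∀ g, ((ρ' g : stab U) : W ≃ₗ[K] W) = ρ g :=
      ⟨ρ.codRestrict (stab U) hall, fun g => rfl⟩
    have hvU : v ∈ U := by rw [hUdef]; exact Submodule.subset_span (by simp)
    have hUle : Module.finrank K U ≤ 2 := by
      classical
      have h1 : Module.finrank K (Submodule.span K (({v, ρ a v} : Finset W) : Set W)) ≤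
          ({v, ρ a v} : Finset W).card := finrank_span_finset_le_card (R := K) _
      have h2 : (({v, ρ a v} : Finset W) : Set W) = ({v, ρ a v} : Set W) := by simp
      rw [h2, ← hUdef] at h1
      exact h1.trans Finset.card_le_two
    have hUpos : 0 < Module.finrank K U := by
      rw [Module.finrank_pos_iff_exists_ne_zero]
      exact ⟨⟨v, hvU⟩, fun h => hv0 (congrArg Subtype.val h)⟩
    have hQlt : Module.finrank K (W ⧸ U) < n := by
      have := Submodule.finrank_quotient_add_finrank U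
      omega
    have hpow' : ρ' ((a * b) ^ (p ^ e * k)) = 1 := by
      apply Subtype.ext
      rw [hρ', map_pow, hpow]
      rfl
    by_cases hU : ∀ g : G, ∃ j : ℕ, (resHom U (ρ' g)) ^ p ^ j = 1
    · by_cases hQ : ∀ g : G, ∃ j : ℕ, (quotHom U (ρ' g)) ^ p ^ j = 1
      · exfalso
        apply hnp
        intro g
        obtain ⟨j, hj⟩ := pgroup_of_res_quot ρ' hU hQ g
        exact ⟨j, by rw [← hρ']; exact hj⟩
      · refine ih _ hQlt (W ⧸ U) rfl ((quotHom U).comp ρ') ?_ ?_ ?_ hQ
        · intro x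
          induction x using Submodule.Quotient.induction_on with
          | _ w =>
            simp only [MonoidHom.comp_apply, quotHom_mk, ← Submodule.Quotient.mk_sub, hρ']
            rw [ha w]
        · intro x
          induction x using Submodule.Quotient.induction_on with
          | _ w =>
            simp only [MonoidHom.comp_apply, quotHom_mk, ← Submodule.Quotient.mk_sub, hρ']
            rw [hb w]
        · rw [← map_pow, MonoidHom.comp_apply, hpow', map_one]
    · refine ih _ (by omega) U rfl ((resHom U).comp ρ') ?_ ?_ ?_ hU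
      · intro u
        apply Subtype.ext
        simp only [MonoidHom.comp_apply, Submodule.coe_sub, resHom_apply, hρ']
        exact ha u
      · intro u
        apply Subtype.ext
        simp only [MonoidHom.comp_apply, Submodule.coe_sub, resHom_apply, hρ']
        exact hb u
      · rw [← map_pow, MonoidHom.comp_apply, hpow', map_one]

end main

theorem main {K : Type*} [Field K] [Fintype K] {p : ℕ} [Fact p.Prime] [CharP K p] {W : Type*}
    [AddCommGroup W] [Module K W] [FiniteDimensional K W]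
    (H : Subgroup (W ≃ₗ[K] W)) (a b : W ≃ₗ[K] W) (hH : H = Subgroup.closure {a, b})
    (ha : ∀ w : W, a (a w - w) = a w - w) (hb : ∀ w : W, b (b w - w) = b w - w)
    (hnp : ¬ IsPGroup p H)
    (hk : ∃ e k : ℕ, orderOf (a * b) = p ^ e * k ∧ k ∣ Fintype.card K - 1) :
    ∃ φ : H →* Matrix.SpecialLinearGroup (Fin 2) K, ¬ IsPGroup p φ.range := by
  subst hH
  obtain ⟨e, k, hord, hk⟩ := hk
  have haH : a ∈ Subgroup.closure ({a, b} : Set (W ≃ₗ[K] W)) :=
    Subgroup.subset_closure (by simp)
  have hbH : b ∈ Subgroup.closure ({a, b} : Set (W ≃ₗ[K] W)) :=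
    Subgroup.subset_closure (by simp)
  have hgen : Subgroup.closure ({⟨a, haH⟩, ⟨b, hbH⟩} :
      Set (Subgroup.closure ({a, b} : Set (W ≃ₗ[K] W)))) = ⊤ := by
    have h1 := Subgroup.closure_closure_coe_preimage (k := ({a, b} : Set (W ≃ₗ[K] W)))
    have h2 : ((↑) ⁻¹' ({a, b} : Set (W ≃ₗ[K] W)) :
        Set (Subgroup.closure ({a, b} : Set (W ≃ₗ[K] W)))) = {⟨a, haH⟩, ⟨b, hbH⟩} := by
      ext x
      simp only [Set.mem_preimage, Set.mem_insert_iff, Set.mem_singleton_iff, Subtype.ext_iff]
    rw [h2] at h1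
    exact h1
  have hnp' : ¬ ∀ g : Subgroup.closure ({a, b} : Set (W ≃ₗ[K] W)),
      ∃ j : ℕ, (Subgroup.closure ({a, b} : Set (W ≃ₗ[K] W))).subtype g ^ p ^ j = 1 := by
    intro hall
    apply hnp
    intro g
    obtain ⟨j, hj⟩ := hall g
    exact ⟨j, Subtype.ext (by simpa using hj)⟩
  have hpow : (Subgroup.closure ({a, b} : Set (W ≃ₗ[K] W))).subtype
      (⟨a, haH⟩ * ⟨b, hbH⟩) ^ (p ^ e * k) = 1 := by
    show (a * b) ^ (p ^ e * k) = 1
    rw [← hord, pow_orderOf_eq_one]
  obtain ⟨φ, hφ⟩ := key (p := p) (a := (⟨a, haH⟩ : Subgroup.closure ({a, b} : Set (W ≃ₗ[K] W))))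
    (b := ⟨b, hbH⟩) hgen (e := e) hk _ W rfl
    (Subgroup.closure ({a, b} : Set (W ≃ₗ[K] W))).subtype ha hb hpow hnp'
  refine ⟨φ, ?_⟩
  intro hP
  apply hφ
  intro g
  obtain ⟨j, hj⟩ := hP ⟨φ g, ⟨g, rfl⟩⟩
  exact ⟨j, by simpa using congrArg Subtype.val hj⟩

end Cfsg.Agent.Lead.QuadPair
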