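import Mathlib
import Cfsg.Prelude.Def_PLocal
import Cfsg.Agent.Lead.Ab2Stmts
import Cfsg.Agent.Lead.SL2P3C

set_option autoImplicit false

/-!
Pairs of quadratic elements generating a group which is not a `p`-group map onto a group
generated by two opposite transvections.
-/

namespace Cfsg.Agent.Lead.QuadPair

universe u
open scoped commutatorElement Pointwise
open Matrix
open Cfsg.Agent.Helper1 Cfsg.Agent.Helper1.OddGL2 Cfsg.Agent.Lead.Ab2GL2

theorem hom_of_relation {G₁ G₂ : Type*} [Group G₁] [Group G₂] (S : Subgroup (G₁ × G₂))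
    (hS : ∀ b : G₂, ((1 : G₁), b) ∈ S → b = 1) (x y : G₁) (X Y : G₂) (hx : (x, X) ∈ S)
    (hy : (y, Y) ∈ S) :
    ∃ ψ : ↥(Subgroup.closure {x, y}) →* G₂,
      (∀ h : x ∈ Subgroup.closure {x, y}, ψ ⟨x, h⟩ = X) ∧
      (∀ h : y ∈ Subgroup.closure {x, y}, ψ ⟨y, h⟩ = Y) := by
  obtain ⟨Γ, hΓ⟩ : ∃ Γ : Subgroup (G₁ × G₂), Γ = Subgroup.closure {(x, X), (y, Y)} := ⟨_, rfl⟩
  have hΓS : Γ ≤ S := by
    rw [hΓ, Subgroup.closure_le]
    rintro _ (rfl | rfl)
    · exact hx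
    · exact hy
  have h1 : Γ.map (MonoidHom.fst G₁ G₂) = Subgroup.closure {x, y} := by
    rw [hΓ, MonoidHom.map_closure]
    congr 1
    ext a
    simp [Set.image_pair]
  have hinj : Function.Injective ((MonoidHom.fst G₁ G₂).subgroupMap Γ) := by
    rw [injective_iff_map_eq_one]
    rintro ⟨⟨a, b⟩, hab⟩ h
    have ha : a = 1 := congrArg Subtype.val h
    subst ha
    have hb := hS b (hΓS hab)
    subst hb
    rfl
  have hsurj := (MonoidHom.fst G₁ G₂).subgroupMap_surjective Γ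
  obtain ⟨e, he⟩ : ∃ e : ↥Γ ≃* ↥(Γ.map (MonoidHom.fst G₁ G₂)),
      ∀ z, e z = (MonoidHom.fst G₁ G₂).subgroupMap Γ z :=
    ⟨MulEquiv.ofBijective _ ⟨hinj, hsurj⟩, fun z => rfl⟩
  obtain ⟨ψ, hψ⟩ : ∃ ψ : ↥(Subgroup.closure {x, y}) →* G₂,
      ψ = ((MonoidHom.snd G₁ G₂).comp Γ.subtype).comp
        (e.symm.toMonoidHom.comp (MulEquiv.subgroupCongr h1).symm.toMonoidHom) := ⟨_, rfl⟩
  have hxΓ : (x, X) ∈ Γ := hΓ ▸ Subgroup.subset_closure (by simp)
  have hyΓ : (y, Y) ∈ Γ := hΓ ▸ Subgroup.subset_closure (by simp)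
  have key : ∀ (z : G₁) (Z : G₂) (hz : (z, Z) ∈ Γ) (h : z ∈ Subgroup.closure {x, y}),
      ψ ⟨z, h⟩ = Z := by
    intro z Z hz h
    have h2 : e.symm ((MulEquiv.subgroupCongr h1).symm ⟨z, h⟩) = ⟨(z, Z), hz⟩ := by
      rw [MulEquiv.symm_apply_eq, he]
      apply Subtype.ext
      rfl
    rw [hψ]
    show (e.symm ((MulEquiv.subgroupCongr h1).symm ⟨z, h⟩) : G₁ × G₂).2 = Z
    rw [h2]
  exact ⟨ψ, fun h => key x X hxΓ h, fun h => key y Y hyΓ h⟩

theorem exists_transvection_rel {p : ℕ} [hp : Fact p.Prime] (hp2 : p ≠ 2) {M : Type*}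
    [AddCommGroup M] [Module (ZMod p) M] [Finite M] (α β : Module.End (ZMod p) M)
    (hα : α * α = 0) (hβ : β * β = 0) (x y : M ≃ₗ[ZMod p] M) (hx : ∀ v, x v = v + α v)
    (hy : ∀ v, y v = v + β v) (hnp : ¬ IsPGroup p (Subgroup.closure {x, y})) :
    ∃ (E : Type) (_ : Field E) (_ : CharP E p) (X Y : GL (Fin 2) E) (c : E), c ≠ 0 ∧
      (X : Matrix (Fin 2) (Fin 2) E) = !![1, c; 0, 1] ∧
      (Y : Matrix (Fin 2) (Fin 2) E) = !![1, 0; 1, 1] ∧
      ∃ S : Subgroup ((M ≃ₗ[ZMod p] M) × GL (Fin 2) E),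
        (∀ A : GL (Fin 2) E, ((1 : M ≃ₗ[ZMod p] M), A) ∈ S → A = 1) ∧ (x, X) ∈ S ∧ (y, Y) ∈ S := by
  by_contra hcon
  apply hnp
  apply isPGroupClosureGen hp2 α β hα hβ x y hx hy
  intro E _ _ X Y c hc hX hY S hS hxS hyS
  exact hcon ⟨E, inferInstance, inferInstance, X, Y, c, hc, hX, hY, S, hS, hxS, hyS⟩

theorem exists_transvection_hom_abs' {p : ℕ} [hp : Fact p.Prime] (hp2 : p ≠ 2) {A : Type*}
    [CommGroup A] [Finite A] [Module (ZMod p) (Additive A)] {X₀ : Type*} [Group X₀]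
    (θ : X₀ →* MulAut A) (a y : X₀)
    (hqa : ∀ v : A, θ a (θ a v * v⁻¹) * (θ a v * v⁻¹)⁻¹ = 1)
    (hqy : ∀ v : A, θ y (θ y v * v⁻¹) * (θ y v * v⁻¹)⁻¹ = 1)
    (d : X₀) (hd : d ∈ Subgroup.closure {a, y}) (hdp : (orderOf d).Coprime p) (hθd : θ d ≠ 1) :
    ∃ (E : Type) (_ : Field E) (_ : CharP E p) (X Y : GL (Fin 2) E) (c : E), c ≠ 0 ∧
      (X : Matrix (Fin 2) (Fin 2) E) = !![1, c; 0, 1] ∧
      (Y : Matrix (Fin 2) (Fin 2) E) = !![1, 0; 1, 1] ∧
      ∃ ψ : ↥(Subgroup.closure {a, y}) →* GL (Fin 2) E,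
        (∀ h : a ∈ Subgroup.closure {a, y}, ψ ⟨a, h⟩ = X) ∧
        (∀ h : y ∈ Subgroup.closure {a, y}, ψ ⟨y, h⟩ = Y) := by
  obtain ⟨ρ, hρ⟩ := exists_linRep (A := A) p
  obtain ⟨Φ, hΦ⟩ : ∃ Φ, Φ = ρ.comp θ := ⟨_, rfl⟩
  have hΦa : ∀ (g : X₀) (v : Additive A), Φ g v = Additive.ofMul (θ g (Additive.toMul v)) := by
    intro g v; rw [hΦ]; exact hρ _ _
  have key : ∀ g : X₀, (∀ v : A, θ g (θ g v * v⁻¹) * (θ g v * v⁻¹)⁻¹ = 1) →
      ((Φ g : Module.End (ZMod p) (Additive A)) - 1) * ((Φ g : Module.End (ZMod p) (Additive A)) - 1)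
        = 0 := by
    intro g hg
    apply LinearMap.ext
    intro v
    have h1 : ∀ w : Additive A, ((Φ g : Module.End (ZMod p) (Additive A)) - 1) w =
        Additive.ofMul (θ g (Additive.toMul w) * (Additive.toMul w)⁻¹) := by
      intro w
      rw [LinearMap.sub_apply, Module.End.one_apply]
      show Φ g w - w = _
      rw [hΦa, sub_eq_add_neg]
      rfl
    rw [Module.End.mul_apply, h1, h1]
    show Additive.ofMul _ = 0
    simp only [toMul_ofMul]
    rw [hg]; rfl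
  have hxv : ∀ g : X₀, ∀ v : Additive A,
      Φ g v = v + ((Φ g : Module.End (ZMod p) (Additive A)) - 1) v := by
    intro g v
    rw [LinearMap.sub_apply, Module.End.one_apply]
    show Φ g v = v + (Φ g v - v)
    abel
  have hcl : Subgroup.closure {Φ a, Φ y} = (Subgroup.closure {a, y}).map Φ := by
    rw [MonoidHom.map_closure, Set.image_pair]
  have hdm : Φ d ∈ Subgroup.closure {Φ a, Φ y} := by
    rw [hcl]; exact Subgroup.mem_map_of_mem _ hd
  have hnp : ¬ IsPGroup p (Subgroup.closure {Φ a, Φ y}) := by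
    intro hpg
    apply hθd
    obtain ⟨k, hk⟩ := hpg ⟨Φ d, hdm⟩
    have hk' : (Φ d) ^ (p ^ k) = 1 := congrArg Subtype.val hk
    have ho : (Φ d) ^ (orderOf d) = 1 := by rw [← map_pow, pow_orderOf_eq_one, map_one]
    have h1 := pow_gcd_eq_one.2 ⟨hk', ho⟩
    rw [Nat.Coprime.gcd_eq_one (Nat.Coprime.pow_left k hdp.symm), pow_one] at h1
    ext v
    have h2 := hΦa d (Additive.ofMul v)
    rw [h1] at h2
    exact (congrArg Additive.toMul h2).symm
  obtain ⟨E, iF, iC, X, Y, c, hc, hX, hY, S, hS, hxS, hyS⟩ :=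
    exists_transvection_rel hp2 _ _ (key a hqa) (key y hqy) (Φ a) (Φ y) (hxv a) (hxv y) hnp
  obtain ⟨ψ₀, hψ₀x, hψ₀y⟩ := hom_of_relation S hS (Φ a) (Φ y) X Y hxS hyS
  have hmem : ∀ z : ↥(Subgroup.closure {a, y}), Φ (z : X₀) ∈ Subgroup.closure {Φ a, Φ y} := by
    intro z
    rw [hcl]; exact Subgroup.mem_map_of_mem _ z.2
  refine ⟨E, iF, iC, X, Y, c, hc, hX, hY,
    ψ₀.comp ((Φ.comp (Subgroup.closure {a, y}).subtype).codRestrict _ hmem), ?_, ?_⟩
  · intro h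
    exact hψ₀x _
  · intro h
    exact hψ₀y _

theorem exists_transvection_hom_abs {p : ℕ} [hp : Fact p.Prime] (hp2 : p ≠ 2) {A : Type*}
    [CommGroup A] [Finite A] (hA : ∀ a : A, a ^ p = 1) {X₀ : Type*} [Group X₀]
    (θ : X₀ →* MulAut A) (a y : X₀)
    (hqa : ∀ v : A, θ a (θ a v * v⁻¹) * (θ a v * v⁻¹)⁻¹ = 1)
    (hqy : ∀ v : A, θ y (θ y v * v⁻¹) * (θ y v * v⁻¹)⁻¹ = 1)
    (d : X₀) (hd : d ∈ Subgroup.closure {a, y}) (hdp : (orderOf d).Coprime p) (hθd : θ d ≠ 1) :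
    ∃ (E : Type) (_ : Field E) (_ : CharP E p) (X Y : GL (Fin 2) E) (c : E), c ≠ 0 ∧
      (X : Matrix (Fin 2) (Fin 2) E) = !![1, c; 0, 1] ∧
      (Y : Matrix (Fin 2) (Fin 2) E) = !![1, 0; 1, 1] ∧
      ∃ ψ : ↥(Subgroup.closure {a, y}) →* GL (Fin 2) E,
        (∀ h : a ∈ Subgroup.closure {a, y}, ψ ⟨a, h⟩ = X) ∧
        (∀ h : y ∈ Subgroup.closure {a, y}, ψ ⟨y, h⟩ = Y) := by
  let inst : Module (ZMod p) (Additive A) := AddCommGroup.zmodModule (n := p) (fun x => by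
    show Additive.ofMul ((Additive.toMul x) ^ p) = 0
    rw [hA]; rfl)
  exact exists_transvection_hom_abs' hp2 θ a y hqa hqy d hd hdp hθd

/-- group-level version, `V` normal -/
theorem exists_transvection_hom_normal {X₀ : Type u} [Group X₀] [Finite X₀] {p : ℕ}
    [hp : Fact p.Prime] (hp2 : p ≠ 2) (V : Subgroup X₀) [hVn : V.Normal]
    (hVab : ∀ u ∈ V, ∀ v ∈ V, u * v = v * u) (hVp : ∀ v ∈ V, v ^ p = 1) (a y : X₀)
    (hqa : ⁅⁅V, Subgroup.zpowers a⁆, Subgroup.zpowers a⁆ = ⊥)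
    (hqy : ⁅⁅V, Subgroup.zpowers y⁆, Subgroup.zpowers y⁆ = ⊥)
    (d : X₀) (hd : d ∈ Subgroup.closure {a, y}) (hdp : (orderOf d).Coprime p)
    (hdV : d ∉ Subgroup.centralizer (V : Set X₀)) :
    ∃ (E : Type) (_ : Field E) (_ : CharP E p) (X Y : GL (Fin 2) E) (c : E), c ≠ 0 ∧
      (X : Matrix (Fin 2) (Fin 2) E) = !![1, c; 0, 1] ∧
      (Y : Matrix (Fin 2) (Fin 2) E) = !![1, 0; 1, 1] ∧
      ∃ ψ : ↥(Subgroup.closure {a, y}) →* GL (Fin 2) E,
        (∀ h : a ∈ Subgroup.closure {a, y}, ψ ⟨a, h⟩ = X) ∧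
        (∀ h : y ∈ Subgroup.closure {a, y}, ψ ⟨y, h⟩ = Y) := by
  letI : CommGroup V := { (inferInstance : Group V) with
    mul_comm := fun u v => Subtype.ext (hVab u u.2 v v.2) }
  have hA : ∀ v : V, v ^ p = 1 := fun v => Subtype.ext (hVp v v.2)
  have key : ∀ g : X₀, ⁅⁅V, Subgroup.zpowers g⁆, Subgroup.zpowers g⁆ = ⊥ → ∀ v : V,
      (MulAut.conjNormal (H := V) g) ((MulAut.conjNormal (H := V) g) v * v⁻¹) *
        ((MulAut.conjNormal (H := V) g) v * v⁻¹)⁻¹ = 1 := by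
    intro g hg v
    apply Subtype.ext
    have := quadratic_elementwise V g hg v v.2
    simp only [Subgroup.coe_mul, Subgroup.coe_inv, MulAut.conjNormal_apply, Subgroup.coe_one]
    exact this
  apply exists_transvection_hom_abs hp2 hA (MulAut.conjNormal (H := V)) a y (key a hqa) (key y hqy)
    d hd hdp
  intro h1
  apply hdV
  rw [Subgroup.mem_centralizer_iff]
  intro v hv
  have h2 := congrArg (fun f : MulAut V => ((f ⟨v, hv⟩ : V) : X₀)) h1
  simp only [MulAut.conjNormal_apply, MulAut.one_apply] at h2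
  calc v * d = (d * v * d⁻¹) * d := by rw [h2]
    _ = d * v := by group

/-- sections from maps, with the subgroup inside `H` -/
theorem section_le_of_maps {Q₀ : Type*} [Group Q₀] {G : Type*} [Group G] {A : Type*} [Group A]
    (H : Subgroup G) (i : A →* G) (hi : Function.Injective i) (hiH : ∀ x, i x ∈ H) (f : A →* Q₀)
    (hf : Function.Surjective f) :
    ∃ (K L : Subgroup G) (_ : (L.subgroupOf K).Normal), K ≤ H ∧
      Nonempty ((K ⧸ L.subgroupOf K) ≃* Q₀) := by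
  set e : A ≃* i.range := MonoidHom.ofInjective hi with he
  set f' : i.range →* Q₀ := f.comp e.symm.toMonoidHom with hf'
  have hf's : Function.Surjective f' := hf.comp e.symm.surjective
  have h : (f'.ker.map i.range.subtype).subgroupOf i.range = f'.ker := by
    rw [Subgroup.subgroupOf, Subgroup.comap_map_eq_self_of_injective (Subgroup.subtype_injective _)]
  have hn : ((f'.ker.map i.range.subtype).subgroupOf i.range).Normal := by
    rw [h]; infer_instance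
  refine ⟨i.range, f'.ker.map i.range.subtype, hn, ?_,
    ⟨(QuotientGroup.quotientMulEquivOfEq h).trans
      (QuotientGroup.quotientKerEquivOfSurjective f' hf's)⟩⟩
  rintro _ ⟨x, rfl⟩
  exact hiH x

/-- group-level version, `V` arbitrary, landing in the closure of the two transvections -/
theorem exists_transvection_quotient {G : Type u} [Group G] [Finite G] {p : ℕ}
    [hp : Fact p.Prime] (hp2 : p ≠ 2) (V : Subgroup G) (hV : Cfsg.IsElementaryAbelian p V)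
    (a b : G) (haN : a ∈ Subgroup.normalizer (V : Set G)) (hbN : b ∈ Subgroup.normalizer (V : Set G))
    (hqa : ⁅⁅V, Subgroup.zpowers a⁆, Subgroup.zpowers a⁆ = ⊥)
    (hqb : ⁅⁅V, Subgroup.zpowers b⁆, Subgroup.zpowers b⁆ = ⊥)
    (d : G) (hd : d ∈ Subgroup.closure {a, b}) (hdp : (orderOf d).Coprime p)
    (hdV : d ∉ Subgroup.centralizer (V : Set G)) :
    ∃ (E : Type) (_ : Field E) (_ : CharP E p) (X Y : GL (Fin 2) E) (c : E), c ≠ 0 ∧
      (X : Matrix (Fin 2) (Fin 2) E) = !![1, c; 0, 1] ∧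
      (Y : Matrix (Fin 2) (Fin 2) E) = !![1, 0; 1, 1] ∧
      ∃ ψ : ↥(Subgroup.closure {a, b}) →* ↥(Subgroup.closure {X, Y}), Function.Surjective ψ ∧
        (∀ h : a ∈ Subgroup.closure {a, b}, ((ψ ⟨a, h⟩ : ↥(Subgroup.closure {X, Y})) : GL (Fin 2) E) = X) ∧
        (∀ h : b ∈ Subgroup.closure {a, b}, ((ψ ⟨b, h⟩ : ↥(Subgroup.closure {X, Y})) : GL (Fin 2) E) = Y) := by
  obtain ⟨N, hN⟩ : ∃ N, N = Subgroup.normalizer (V : Set G) := ⟨_, rfl⟩
  rw [← hN] at haN hbN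
  have hVN : V ≤ N := hN ▸ Subgroup.le_normalizer
  haveI hVn : (V.subgroupOf N).Normal := by
    rw [hN]; exact Subgroup.normal_in_normalizer
  obtain ⟨a', ha'⟩ : ∃ a' : N, a' = ⟨a, haN⟩ := ⟨_, rfl⟩
  obtain ⟨b', hb'⟩ : ∃ b' : N, b' = ⟨b, hbN⟩ := ⟨_, rfl⟩
  have hquad : ∀ (c : G) (c' : N), (c' : G) = c →
      ⁅⁅V, Subgroup.zpowers c⁆, Subgroup.zpowers c⁆ = ⊥ →
      ⁅⁅V.subgroupOf N, Subgroup.zpowers c'⁆, Subgroup.zpowers c'⁆ = ⊥ := by
    intro c c' hcc hq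
    rw [← Subgroup.map_eq_bot_iff_of_injective _ (Subgroup.subtype_injective N),
      Subgroup.map_commutator, Subgroup.map_commutator, eq_bot_iff, ← hq]
    have h1 : (V.subgroupOf N).map N.subtype ≤ V := by
      rw [Subgroup.subgroupOf_map_subtype]; exact inf_le_left
    have h2 : (Subgroup.zpowers c').map N.subtype ≤ Subgroup.zpowers c := by
      rw [MonoidHom.map_zpowers, Subgroup.zpowers_le]
      show (c' : G) ∈ _
      rw [hcc]; exact Subgroup.mem_zpowers c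
    exact Subgroup.commutator_mono (Subgroup.commutator_mono h1 h2) h2
  have hqa' := hquad a a' (by rw [ha']) hqa
  have hqb' := hquad b b' (by rw [hb']) hqb
  have hmap : (Subgroup.closure {a', b'}).map N.subtype = Subgroup.closure {a, b} := by
    rw [MonoidHom.map_closure, Set.image_pair, ha', hb']
    rfl
  have hVab : ∀ u ∈ V.subgroupOf N, ∀ v ∈ V.subgroupOf N, u * v = v * u := by
    intro u hu v hv
    apply Subtype.ext
    show (u : G) * (v : G) = (v : G) * (u : G)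
    exact congrArg Subtype.val (hV.1.is_comm.comm ⟨(u : G), hu⟩ ⟨(v : G), hv⟩)
  have hVp : ∀ v ∈ V.subgroupOf N, v ^ p = 1 := by
    intro v hv
    apply Subtype.ext
    exact hV.2 (v : G) hv
  have hd0 := hd
  rw [← hmap] at hd0
  obtain ⟨d', hd', hdd⟩ := hd0
  have hdd' : (d' : G) = d := hdd
  have hdp' : (orderOf d').Coprime p := by
    rw [← Subgroup.orderOf_coe, hdd']; exact hdp
  have hdV' : d' ∉ Subgroup.centralizer ((V.subgroupOf N : Subgroup N) : Set N) := by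
    intro hcen
    apply hdV
    rw [Subgroup.mem_centralizer_iff]
    intro v hv
    have h2 := (Subgroup.mem_centralizer_iff.1 hcen) ⟨v, hVN hv⟩ (Subgroup.mem_subgroupOf.2 hv)
    have h3 := congrArg (fun z : N => (z : G)) h2
    simp only [Subgroup.coe_mul] at h3
    rw [← hdd']
    exact h3
  obtain ⟨E, iF, iC, X, Y, c, hc, hX, hY, ψN, hψa, hψb⟩ :=
    exists_transvection_hom_normal hp2 (V.subgroupOf N) hVab hVp a' b' hqa' hqb' d' hd' hdp' hdV'
  refine ⟨E, iF, iC, X, Y, c, hc, hX, hY, ?_⟩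
  -- the isomorphism between the two closures
  obtain ⟨ι, hι⟩ : ∃ ι : ↥(Subgroup.closure {a', b'}) ≃* ↥(Subgroup.closure {a, b}),
      ∀ z, ((ι z : ↥(Subgroup.closure {a, b})) : G) = ((z : N) : G) :=
    ⟨((Subgroup.closure {a', b'}).equivMapOfInjective N.subtype N.subtype_injective).trans
      (MulEquiv.subgroupCongr hmap), fun z => rfl⟩
  obtain ⟨ψ, hψ⟩ : ∃ ψ : ↥(Subgroup.closure {a, b}) →* GL (Fin 2) E,
      ψ = ψN.comp ι.symm.toMonoidHom := ⟨_, rfl⟩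
  have ha'cl : a' ∈ Subgroup.closure {a', b'} := Subgroup.subset_closure (by simp)
  have hb'cl : b' ∈ Subgroup.closure {a', b'} := Subgroup.subset_closure (by simp)
  have hψa' : ∀ h : a ∈ Subgroup.closure {a, b}, ψ ⟨a, h⟩ = X := by
    intro h
    have h1 : ι.symm ⟨a, h⟩ = ⟨a', ha'cl⟩ := by
      rw [MulEquiv.symm_apply_eq]
      apply Subtype.ext
      rw [hι]
      exact (congrArg Subtype.val ha').symm
    rw [hψ]
    show ψN (ι.symm ⟨a, h⟩) = X
    rw [h1]; exact hψa _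
  have hψb' : ∀ h : b ∈ Subgroup.closure {a, b}, ψ ⟨b, h⟩ = Y := by
    intro h
    have h1 : ι.symm ⟨b, h⟩ = ⟨b', hb'cl⟩ := by
      rw [MulEquiv.symm_apply_eq]
      apply Subtype.ext
      rw [hι]
      exact (congrArg Subtype.val hb').symm
    rw [hψ]
    show ψN (ι.symm ⟨b, h⟩) = Y
    rw [h1]; exact hψb _
  have hrange : ψ.range = Subgroup.closure {X, Y} := by
    rw [MonoidHom.range_eq_map, ← Subgroup.closure_closure_coe_preimage (k := ({a, b} : Set G)),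
      MonoidHom.map_closure]
    congr 1
    ext z
    constructor
    · rintro ⟨w, hw, rfl⟩
      rcases hw with hw | hw
      · have : w = ⟨a, Subgroup.subset_closure (by simp)⟩ := Subtype.ext hw
        rw [this, hψa']; simp
      · have hw' : (w : G) = b := hw
        have : w = ⟨b, Subgroup.subset_closure (by simp)⟩ := Subtype.ext hw'
        rw [this, hψb']; simp
    · rintro (rfl | rfl)
      · exact ⟨⟨a, Subgroup.subset_closure (by simp)⟩, by simp, hψa' _⟩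
      · exact ⟨⟨b, Subgroup.subset_closure (by simp)⟩, by simp, hψb' _⟩
  refine ⟨(MulEquiv.subgroupCongr hrange).toMonoidHom.comp ψ.rangeRestrict, ?_, ?_, ?_⟩
  · exact (MulEquiv.subgroupCongr hrange).surjective.comp ψ.rangeRestrict_surjective
  · intro h
    exact hψa' h
  · intro h
    exact hψb' h

/-- the `SL₂(3)` conclusion inside a finite group generated by two opposite transvections -/
theorem sl23_of_closure {E : Type*} [Field E] {p : ℕ} [hp : Fact p.Prime] [CharP E p] (hp2 : p ≠ 2)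
    (X Y : GL (Fin 2) E) (c : E)
    (hX : (X : Matrix (Fin 2) (Fin 2) E) = !![1, c; 0, 1])
    (hY : (Y : Matrix (Fin 2) (Fin 2) E) = !![1, 0; 1, 1])
    [Finite (Subgroup.closure {X, Y})] (u : ↥(Subgroup.closure {X, Y})) (j : ℕ)
    (hu : orderOf u = p ^ j) (R : Subgroup ↥(Subgroup.closure {X, Y}))
    (hR : (Nat.card R).Coprime p)
    (huR : u ∈ Subgroup.normalizer (R : Set ↥(Subgroup.closure {X, Y})))
    (hr₀ : ∃ r ∈ R, u * r * u⁻¹ ≠ r) :
    p = 3 ∧ Nonempty (↥(R ⊔ Subgroup.zpowers u) ≃* Matrix.SpecialLinearGroup (Fin 2) (ZMod 3)) := by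
  obtain ⟨μ, hμ⟩ : ∃ μ : ↥(Subgroup.closure {X, Y}) →* Matrix (Fin 2) (Fin 2) E,
      ∀ g, μ g = ((g : GL (Fin 2) E) : Matrix (Fin 2) (Fin 2) E) :=
    ⟨(Units.coeHom _).comp (Subgroup.closure {X, Y}).subtype, fun g => rfl⟩
  have hμinj : Function.Injective μ := by
    intro g h hgh
    rw [hμ, hμ] at hgh
    exact Subtype.ext (Units.ext hgh)
  have hμdet : ∀ g, (μ g).det = 1 := by
    intro g
    rw [hμ]
    exact det_eq_one_of_mem_closure X Y c hX hY g g.2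
  obtain ⟨h3, -, h⟩ := Cfsg.Agent.Lead.SL2P3.main_gen hp2 μ hμinj hμdet u j hu R hR huR hr₀
  exact ⟨h3, h⟩

/-- a section from an isomorphism of a subgroup of the image -/
theorem section_of_quotient_iso {G : Type*} [Group G] (H D : Subgroup G) (hDH : D ≤ H)
    {Γ : Type*} [Group Γ] (ψ : ↥D →* Γ) (hψs : Function.Surjective ψ) (T : Subgroup Γ)
    {Q₀ : Type*} [Group Q₀] (e : ↥T ≃* Q₀) :
    ∃ (K L : Subgroup G) (_ : (L.subgroupOf K).Normal), K ≤ H ∧
      Nonempty ((K ⧸ L.subgroupOf K) ≃* Q₀) := by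
  apply section_le_of_maps H (D.subtype.comp (T.comap ψ).subtype)
    (D.subtype_injective.comp (T.comap ψ).subtype_injective) ?_
    (e.toMonoidHom.comp (ψ.subgroupComap T))
    (e.surjective.comp (MonoidHom.subgroupComap_surjective_of_surjective ψ T hψs))
  intro x
  exact hDH (x : ↥D).2

theorem s0594 {G : Type u} [Group G] [Finite G] {p : ℕ} [hp : Fact p.Prime] (hp2 : p ≠ 2)
    (V H : Subgroup G) (hV : Cfsg.IsElementaryAbelian p V)
    (hHV : H ≤ Subgroup.normalizer (V : Set G))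
    (hf : H ⊓ Subgroup.centralizer (V : Set G) = ⊥) (a : G) (haH : a ∈ H)
    (ha : ⁅⁅V, Subgroup.zpowers a⁆, Subgroup.zpowers a⁆ = ⊥)
    (Q : Subgroup G) (hQH : Q ≤ H) (hQn : H ≤ Subgroup.normalizer (Q : Set G))
    (hQ : (Nat.card Q).Coprime p) (hQa : ⁅Q, Subgroup.zpowers a⁆ ≠ ⊥) :
    p = 3 ∧ ∃ (K L : Subgroup G) (_ : (L.subgroupOf K).Normal), K ≤ H ∧
      Nonempty ((K ⧸ L.subgroupOf K) ≃* Matrix.SpecialLinearGroup (Fin 2) (ZMod 3)) := by
  obtain ⟨q, hqQ, hqa⟩ : ∃ q ∈ Q, a * q * a⁻¹ ≠ q := by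
    by_contra hcon
    push Not at hcon
    apply hQa
    rw [Subgroup.commutator_eq_bot_iff_le_centralizer]
    intro r hr
    rw [Subgroup.mem_centralizer_iff]
    intro h hh
    obtain ⟨k, rfl⟩ := Subgroup.mem_zpowers_iff.1 hh
    have h1 : Commute a r := by
      show a * r = r * a
      calc a * r = (a * r * a⁻¹) * a := by group
        _ = r * a := by rw [hcon r hr]
    exact (h1.zpow_left k).eq
  obtain ⟨b, hb⟩ : ∃ b, b = q * a * q⁻¹ := ⟨_, rfl⟩
  have hqH : q ∈ H := hQH hqQ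
  have hbH : b ∈ H := hb ▸ H.mul_mem (H.mul_mem hqH haH) (H.inv_mem hqH)
  have hqb : ⁅⁅V, Subgroup.zpowers b⁆, Subgroup.zpowers b⁆ = ⊥ :=
    hb ▸ quadConj V a q (hHV hqH) ha
  obtain ⟨d, hd⟩ : ∃ d, d = b * a⁻¹ := ⟨_, rfl⟩
  have hacl : a ∈ Subgroup.closure {a, b} := Subgroup.subset_closure (by simp)
  have hbcl : b ∈ Subgroup.closure {a, b} := Subgroup.subset_closure (by simp)
  have hdcl : d ∈ Subgroup.closure {a, b} :=
    hd ▸ Subgroup.mul_mem _ hbcl (Subgroup.inv_mem _ hacl)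
  have hdQ : d ∈ Q := by
    rw [hd, hb]
    have h1 : a * q⁻¹ * a⁻¹ ∈ Q :=
      (Subgroup.mem_normalizer_iff.1 (hQn haH) q⁻¹).1 (Q.inv_mem hqQ)
    have h2 : q * a * q⁻¹ * a⁻¹ = q * (a * q⁻¹ * a⁻¹) := by group
    rw [h2]; exact Q.mul_mem hqQ h1
  have hd1 : d ≠ 1 := by
    intro h
    apply hqa
    have h2 : q * a * q⁻¹ = a := by
      rw [hd] at h
      rw [← hb]; exact mul_inv_eq_one.1 h
    calc a * q * a⁻¹ = (q * a * q⁻¹) * q * a⁻¹ := by rw [h2]
      _ = q := by group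
  have hdp : (orderOf d).Coprime p := hQ.coprime_dvd_left (Subgroup.orderOf_dvd_natCard Q hdQ)
  have hclH : Subgroup.closure {a, b} ≤ H := by
    rw [Subgroup.closure_le]
    rintro _ (rfl | rfl)
    · exact haH
    · exact hbH
  have hdV : d ∉ Subgroup.centralizer (V : Set G) := by
    intro h
    have h1 : d ∈ H ⊓ Subgroup.centralizer (V : Set G) := ⟨hclH hdcl, h⟩
    rw [hf, Subgroup.mem_bot] at h1
    exact hd1 h1
  obtain ⟨E, iF, iC, X, Y, c, hc, hX, hY, ψ, hψs, hψa, hψb⟩ :=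
    exists_transvection_quotient hp2 V hV a b (hHV haH) (hHV hbH) ha hqb d hdcl hdp hdV
  haveI : Finite ↥(Subgroup.closure {X, Y}) := Finite.of_surjective ψ hψs
  obtain ⟨a₀, ha₀⟩ : ∃ a₀ : ↥(Subgroup.closure {a, b}), a₀ = ⟨a, hacl⟩ := ⟨_, rfl⟩
  obtain ⟨b₀, hb₀⟩ : ∃ b₀ : ↥(Subgroup.closure {a, b}), b₀ = ⟨b, hbcl⟩ := ⟨_, rfl⟩
  obtain ⟨d₀, hd₀⟩ : ∃ d₀ : ↥(Subgroup.closure {a, b}), d₀ = ⟨d, hdcl⟩ := ⟨_, rfl⟩
  have hbda : b₀ = d₀ * a₀ := by
    apply Subtype.ext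
    rw [hb₀, hd₀, ha₀]
    show b = d * a
    rw [hd]; group
  obtain ⟨u, hu⟩ : ∃ u, u = ψ a₀ := ⟨_, rfl⟩
  obtain ⟨w, hw⟩ : ∃ w, w = ψ b₀ := ⟨_, rfl⟩
  obtain ⟨r, hr⟩ : ∃ r, r = ψ d₀ := ⟨_, rfl⟩
  have hwru : w = r * u := by rw [hw, hr, hu, ← map_mul, ← hbda]
  have huX : ((u : ↥(Subgroup.closure {X, Y})) : GL (Fin 2) E) = X := by
    rw [hu, ha₀]; exact hψa _
  have hwY : ((w : ↥(Subgroup.closure {X, Y})) : GL (Fin 2) E) = Y := by
    rw [hw, hb₀]; exact hψb _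
  have hup : u ^ p = 1 := by
    apply Subtype.ext
    rw [Subgroup.coe_pow, huX]
    exact upper_pow_char X c hX
  have hwp : w ^ p = 1 := by
    apply Subtype.ext
    rw [Subgroup.coe_pow, hwY]
    exact lower_pow_char Y hY
  obtain ⟨j, hj⟩ : ∃ j, orderOf u = p ^ j := by
    have h1 : orderOf u ∣ p ^ 1 := by rw [pow_one]; exact orderOf_dvd_of_pow_eq_one hup
    obtain ⟨j, -, hj⟩ := (Nat.dvd_prime_pow hp.out).1 h1
    exact ⟨j, hj⟩
  obtain ⟨Q', hQ'⟩ : ∃ Q' : Subgroup ↥(Subgroup.closure {a, b}),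
      Q' = Q.subgroupOf (Subgroup.closure {a, b}) := ⟨_, rfl⟩
  obtain ⟨R, hRdef⟩ : ∃ R, R = Q'.map ψ := ⟨_, rfl⟩
  have hR : (Nat.card R).Coprime p := by
    have h1 : Nat.card R ∣ Nat.card Q' := hRdef ▸ Subgroup.card_map_dvd Q' ψ
    have h2 : Nat.card Q' ∣ Nat.card Q := by
      rw [hQ']
      apply Subgroup.card_dvd_of_injective
        (((Subgroup.closure {a, b}).subtype.comp
          (Q.subgroupOf (Subgroup.closure {a, b})).subtype).codRestrict Q (fun x => x.2))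
      intro x y hxy
      have h3 := congrArg Subtype.val hxy
      exact Subtype.ext (Subtype.ext h3)
    exact hQ.coprime_dvd_left (h1.trans h2)
  have huR : u ∈ Subgroup.normalizer (R : Set ↥(Subgroup.closure {X, Y})) := by
    rw [hRdef]
    apply Subgroup.le_normalizer_map ψ
    refine ⟨a₀, ?_, hu.symm⟩
    rw [SetLike.mem_coe, Subgroup.mem_normalizer_iff]
    intro x
    rw [hQ', Subgroup.mem_subgroupOf, Subgroup.mem_subgroupOf]
    have := Subgroup.mem_normalizer_iff.1 (hQn haH) (x : G)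
    rw [ha₀]
    exact this
  have hrR : r ∈ R := by
    rw [hRdef, hr]
    apply Subgroup.mem_map_of_mem
    rw [hQ', Subgroup.mem_subgroupOf, hd₀]
    exact hdQ
  have hr₀ : ∃ r' ∈ R, u * r' * u⁻¹ ≠ r' := by
    by_contra hcon
    push Not at hcon
    have h1 : Commute r u := by
      show r * u = u * r
      calc r * u = (u * r * u⁻¹) * u := by rw [hcon r hrR]
        _ = u * r := by group
    have h2 : r ^ p = 1 := by
      have h3 := h1.mul_pow p
      rw [← hwru, hwp, hup, mul_one] at h3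
      exact h3.symm
    have h4 : r ^ orderOf d = 1 := by
      rw [hr, ← map_pow]
      have : d₀ ^ orderOf d = 1 := by
        apply Subtype.ext
        rw [hd₀]
        show d ^ orderOf d = 1
        exact pow_orderOf_eq_one d
      rw [this, map_one]
    have h5 := pow_gcd_eq_one.2 ⟨h2, h4⟩
    rw [Nat.Coprime.gcd_eq_one hdp.symm, pow_one] at h5
    rw [h5, one_mul] at hwru
    have h6 : Y = X := hwY.symm.trans ((congrArg Subtype.val hwru).trans huX)
    have h7 : (Y : Matrix (Fin 2) (Fin 2) E) 1 0 = (X : Matrix (Fin 2) (Fin 2) E) 1 0 := by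
      rw [h6]
    rw [hX, hY] at h7
    simp at h7
  obtain ⟨h3, ⟨e⟩⟩ := sl23_of_closure hp2 X Y c hX hY u j hj R hR huR hr₀
  exact ⟨h3, section_of_quotient_iso H _ hclH ψ hψs _ e⟩

end Cfsg.Agent.Lead.QuadPair
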