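import Mathlib
import Cfsg.Prelude.Def_PLocal
import Cfsg.Agent.Lead.QuadPairSL23
import Cfsg.Agent.Lead.PSolvD

set_option autoImplicit false

/-!
S0596: a `p`-solvable group acting faithfully and not `p`-stably involves `SL₂(3)`, and `p = 3`.
-/

namespace Cfsg.Agent.Lead.QuadPair

universe u
open scoped commutatorElement Pointwise
open Matrix
open Cfsg.Agent.Helper2 (cj)
open Cfsg.Agent.Helper1 Cfsg.Agent.Helper1.OddGL2 Cfsg.Agent.Lead.Ab2GL2 Cfsg.Agent.Lead.PSolvGL2

theorem pCore_ne_bot_of_centralizes {Γ : Type*} [Group Γ] [Finite Γ] {p : ℕ} [hp : Fact p.Prime]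
    (hcen : ∀ u : Γ, ∀ j : ℕ, orderOf u = p ^ j → ∀ k ∈ Cfsg.pPrimeCore p Γ, u * k * u⁻¹ = k)
    (hsol : Cfsg.IsPSolvable p Γ) (hpΓ : p ∣ Nat.card Γ) : Cfsg.pCore p Γ ≠ ⊥ := by
  obtain ⟨K, hKdef⟩ : ∃ K, K = Cfsg.pPrimeCore p Γ := ⟨_, rfl⟩
  haveI hKn : K.Normal := hKdef ▸ inferInstance
  have hKcop : (Nat.card K).Coprime p := hKdef ▸ card_pPrimeCore_coprime p
  have hKtop : K < ⊤ := by
    rw [lt_top_iff_ne_top]
    intro h
    rw [h, Subgroup.card_top] at hKcop
    exact hp.out.one_lt.ne' (Nat.Coprime.eq_one_of_dvd hKcop.symm hpΓ)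
  obtain ⟨W, hWn, hKW, -, hfac⟩ :=
    Cfsg.Agent.Helper4.exists_normal_section_of_isPSolvable hsol ⊤ K hKtop
  have hcardW : Nat.card W = Nat.card K * K.relIndex W := by
    rw [mul_comm]; exact (relIndex_mul_card_of_le hKW.le).symm
  obtain ⟨m, hm⟩ : ∃ m : ℕ, K.relIndex W = p ^ m := by
    rcases hfac with h | h
    · exact h
    · exfalso
      have h1 : (Nat.card W).Coprime p := by rw [hcardW]; exact Nat.Coprime.mul_left hKcop h
      have h2 : W ≤ K := hKdef ▸ le_pPrimeCore hWn h1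
      exact absurd hKW (not_lt_of_ge h2)
  have hm0 : m ≠ 0 := by
    intro h
    rw [h, pow_zero, Subgroup.relIndex_eq_one] at hm
    exact absurd hKW (not_lt_of_ge hm)
  -- a Sylow `p`-subgroup of `W`
  let P₀ : Sylow p W := default
  obtain ⟨P, hP⟩ : ∃ P : Subgroup Γ, P = (P₀ : Subgroup W).map W.subtype := ⟨_, rfl⟩
  have hPW : P ≤ W := hP ▸ Subgroup.map_subtype_le _
  have hPp : IsPGroup p P := hP ▸ P₀.2.map _
  have hPcard : Nat.card P = p ^ m := by
    rw [hP, Subgroup.card_map_of_injective W.subtype_injective, P₀.card_eq_multiplicity, hcardW, hm,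
      Nat.factorization_mul Nat.card_pos.ne' (pow_ne_zero _ hp.out.ne_zero), Finsupp.add_apply,
      Nat.factorization_eq_zero_of_not_dvd, zero_add, hp.out.factorization_pow,
      Finsupp.single_eq_same]
    intro h
    exact hp.out.one_lt.ne' (Nat.Coprime.eq_one_of_dvd hKcop.symm h)
  -- `P` centralizes `K`
  have hPK : ∀ u ∈ P, ∀ k ∈ K, u * k * u⁻¹ = k := by
    intro u hu
    obtain ⟨j, hj⟩ := (IsPGroup.iff_orderOf.1 hPp) ⟨u, hu⟩
    rw [Subgroup.orderOf_mk] at hj
    intro k hk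
    exact hcen u j hj k (hKdef ▸ hk)
  -- the normalizer of `P` in `W` is `W`
  have hNW : W ≤ Subgroup.normalizer (P : Set Γ) := by
    have hK_le : K ≤ W ⊓ Subgroup.normalizer (P : Set Γ) := by
      refine le_inf hKW.le ?_
      intro k hk
      rw [Subgroup.mem_normalizer_iff]
      intro u
      constructor
      · intro hu
        have h1 := hPK u hu k⁻¹ (K.inv_mem hk)
        have h2 : k * u * k⁻¹ = u := by
          have : u * k⁻¹ = k⁻¹ * u := by
            calc u * k⁻¹ = (u * k⁻¹ * u⁻¹) * u := by group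
              _ = k⁻¹ * u := by rw [h1]
          calc k * u * k⁻¹ = k * (u * k⁻¹) := by group
            _ = k * (k⁻¹ * u) := by rw [this]
            _ = u := by group
        rw [h2]; exact hu
      · intro hu
        have h1 := hPK _ hu k⁻¹ (K.inv_mem hk)
        -- (k u k⁻¹) k⁻¹ (k u k⁻¹)⁻¹ = k⁻¹  →  u commutes with k
        have h2 : u = k * u * k⁻¹ := by
          have e : (k * u * k⁻¹) * k⁻¹ * (k * u * k⁻¹)⁻¹ = k * (u * k⁻¹ * u⁻¹) * k⁻¹ := by group
          rw [e] at h1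
          have h3 : u * k⁻¹ * u⁻¹ = k⁻¹ := by
            have := congrArg (fun z => k⁻¹ * z * k) h1
            simpa [mul_assoc] using this
          have h4 : u * k⁻¹ = k⁻¹ * u := by
            calc u * k⁻¹ = (u * k⁻¹ * u⁻¹) * u := by group
              _ = k⁻¹ * u := by rw [h3]
          calc u = k * (k⁻¹ * u) := by group
            _ = k * (u * k⁻¹) := by rw [h4]
            _ = k * u * k⁻¹ := by group
        rw [h2]; exact hu
    have hP_le : P ≤ W ⊓ Subgroup.normalizer (P : Set Γ) := le_inf hPW Subgroup.le_normalizer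
    have h1 : Nat.card K ∣ Nat.card ↥(W ⊓ Subgroup.normalizer (P : Set Γ)) :=
      Subgroup.card_dvd_of_le hK_le
    have h2 : Nat.card P ∣ Nat.card ↥(W ⊓ Subgroup.normalizer (P : Set Γ)) :=
      Subgroup.card_dvd_of_le hP_le
    have h3 : Nat.card W ∣ Nat.card ↥(W ⊓ Subgroup.normalizer (P : Set Γ)) := by
      rw [hcardW, hm, ← hPcard]
      exact Nat.Coprime.mul_dvd_of_dvd_of_dvd (by rw [hPcard]; exact Nat.Coprime.pow_right m hKcop)
        h1 h2
    have h4 : W ⊓ Subgroup.normalizer (P : Set Γ) = W :=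
      Subgroup.eq_of_le_of_card_ge inf_le_left (Nat.le_of_dvd Nat.card_pos h3)
    rw [← h4]; exact inf_le_right
  -- `P₀` is normal in `W`, hence characteristic
  haveI hP₀n : (P₀ : Subgroup W).Normal := by
    refine ⟨fun x hx w => ?_⟩
    have h1 : ((w * x * w⁻¹ : W) : Γ) ∈ P := by
      have h2 := (Subgroup.mem_normalizer_iff.1 (hNW w.2) (x : Γ)).1 (hP ▸ ⟨x, hx, rfl⟩)
      exact h2
    rw [hP] at h1
    obtain ⟨y, hy, hyx⟩ := h1
    have : y = w * x * w⁻¹ := Subtype.ext hyx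
    rwa [← this]
  haveI hP₀c : (P₀ : Subgroup W).Characteristic := Sylow.characteristic_of_normal P₀ hP₀n
  have hPn : P.Normal := by
    rw [← Subgroup.normalizer_eq_top_iff, eq_top_iff, hP]
    refine le_trans ?_ (le_normalizer_map_of_characteristic W (P₀ : Subgroup W))
    rw [Subgroup.normalizer_eq_top_iff.2 hWn]
  have hPne : P ≠ ⊥ := by
    intro h
    rw [h, Subgroup.card_bot] at hPcard
    have : 1 < p ^ m := Nat.one_lt_pow hm0 hp.out.one_lt
    omega
  intro hbot
  have := le_pCore hPn hPp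
  rw [hbot, le_bot_iff] at this
  exact hPne this


theorem s0596 {G : Type u} [Group G] [Finite G] {p : ℕ} [hp : Fact p.Prime] (hp2 : p ≠ 2)
    (V H : Subgroup G) (hV : Cfsg.IsElementaryAbelian p V)
    (hHV : H ≤ Subgroup.normalizer (V : Set G))
    (hf : H ⊓ Subgroup.centralizer (V : Set G) = ⊥) (hsep : Cfsg.IsPSolvable p H) (a : G)
    (haH : a ∈ H) (hq : ⁅⁅V, Subgroup.zpowers a⁆, Subgroup.zpowers a⁆ = ⊥)
    (hna : a ∉ (Cfsg.pCore p H).map H.subtype) :
    p = 3 ∧ ∃ (K L : Subgroup G) (_ : (L.subgroupOf K).Normal), K ≤ H ∧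
      Nonempty ((K ⧸ L.subgroupOf K) ≃* Matrix.SpecialLinearGroup (Fin 2) (ZMod 3)) := by
  by_contra hgoal
  apply hna
  have hpair : ∀ g : H, IsPGroup p (Subgroup.closure {a, (g : G) * a * (g : G)⁻¹}) := by
    intro g
    obtain ⟨b, hb⟩ : ∃ b, b = (g : G) * a * (g : G)⁻¹ := ⟨_, rfl⟩
    rw [← hb]
    have hbH : b ∈ H := hb ▸ H.mul_mem (H.mul_mem g.2 haH) (H.inv_mem g.2)
    have hqb : ⁅⁅V, Subgroup.zpowers b⁆, Subgroup.zpowers b⁆ = ⊥ :=
      hb ▸ quadConj V a (g : G) (hHV g.2) hq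
    have hclH : Subgroup.closure {a, b} ≤ H := by
      rw [Subgroup.closure_le]
      rintro _ (rfl | rfl)
      · exact haH
      · exact hbH
    by_contra hnp
    apply hgoal
    -- a nontrivial `p'`-element
    obtain ⟨d, hdcl, hdp, hd1⟩ : ∃ d ∈ Subgroup.closure {a, b}, (orderOf d).Coprime p ∧ d ≠ 1 := by
      by_contra hcon
      push Not at hcon
      apply hnp
      rintro ⟨e, he⟩
      obtain ⟨i, m, hm, him⟩ :=
        Nat.exists_eq_pow_mul_and_not_dvd (orderOf_pos e).ne' p hp.out.ne_one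
      refine ⟨i, ?_⟩
      apply Subtype.ext
      show e ^ (p ^ i) = 1
      apply hcon _ (Subgroup.pow_mem _ he _)
      have ho : orderOf (e ^ (p ^ i)) = m := by
        rw [orderOf_pow' e (pow_ne_zero i hp.out.ne_zero), him, Nat.gcd_mul_right_left,
          Nat.mul_div_cancel_left _ (pow_pos hp.out.pos i)]
      rw [ho]
      exact ((Nat.Prime.coprime_iff_not_dvd hp.out).2 hm).symm
    have hdV : d ∉ Subgroup.centralizer (V : Set G) := by
      intro h
      have h1 : d ∈ H ⊓ Subgroup.centralizer (V : Set G) := ⟨hclH hdcl, h⟩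
      rw [hf, Subgroup.mem_bot] at h1
      exact hd1 h1
    obtain ⟨E, iF, iC, X, Y, c, hc, hX, hY, ψ, hψs, hψa, hψb⟩ :=
      exists_transvection_quotient hp2 V hV a b (hHV haH) (hHV hbH) hq hqb d hdcl hdp hdV
    haveI : Finite ↥(Subgroup.closure {X, Y}) := Finite.of_surjective ψ hψs
    have hsolD : Cfsg.IsPSolvable p ↥(Subgroup.closure {a, b}) :=
      isPSolvable_of_injective (Subgroup.inclusion hclH) (Subgroup.inclusion_injective hclH) hsep
    have hsolΓ : Cfsg.IsPSolvable p ↥(Subgroup.closure {X, Y}) :=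
      isPSolvable_of_surjective ψ hψs hsolD
    have hacl : a ∈ Subgroup.closure {a, b} := Subgroup.subset_closure (by simp)
    obtain ⟨u, hu⟩ : ∃ u, u = ψ ⟨a, hacl⟩ := ⟨_, rfl⟩
    have huX : ((u : ↥(Subgroup.closure {X, Y})) : GL (Fin 2) E) = X := by
      rw [hu]; exact hψa _
    have hup : u ^ p = 1 := by
      apply Subtype.ext
      rw [Subgroup.coe_pow, huX]
      exact upper_pow_char X c hX
    have hu1 : u ≠ 1 := by
      intro h
      have h1 : X = 1 := by rw [← huX, h]; rfl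
      have h2 : (X : Matrix (Fin 2) (Fin 2) E) 0 1 = (1 : Matrix (Fin 2) (Fin 2) E) 0 1 := by
        rw [h1]; rfl
      rw [hX] at h2
      simp at h2
      exact hc h2
    have hpΓ : p ∣ Nat.card ↥(Subgroup.closure {X, Y}) := by
      have h1 : orderOf u = p := orderOf_eq_prime hup hu1
      rw [← h1]
      exact orderOf_dvd_natCard u
    by_cases hcen : ∀ u : ↥(Subgroup.closure {X, Y}), ∀ j : ℕ, orderOf u = p ^ j →
        ∀ k ∈ Cfsg.pPrimeCore p ↥(Subgroup.closure {X, Y}), u * k * u⁻¹ = k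
    · exfalso
      have hO := pCore_ne_bot_of_centralizes hcen hsolΓ hpΓ
      obtain ⟨v, hv0, hv⟩ := invariant_line_of_pCore_ne_bot (Subgroup.closure {X, Y}) hO
      exact no_invariant_line X Y c hc hX hY v hv0 hv
    · push Not at hcen
      obtain ⟨u', j, hj, k, hk, hne⟩ := hcen
      have hKn : (Cfsg.pPrimeCore p ↥(Subgroup.closure {X, Y})).Normal := inferInstance
      obtain ⟨h3, ⟨e⟩⟩ := sl23_of_closure hp2 X Y c hX hY u' j hj
        (Cfsg.pPrimeCore p ↥(Subgroup.closure {X, Y})) (card_pPrimeCore_coprime p)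
        (by rw [Subgroup.normalizer_eq_top_iff.2 hKn]; exact Subgroup.mem_top _) ⟨k, hk, hne⟩
      exact ⟨h3, section_of_quotient_iso H _ hclH ψ hψs _ e⟩
  obtain ⟨A, hA⟩ : ∃ A : Subgroup H, A = Subgroup.zpowers (⟨a, haH⟩ : H) := ⟨_, rfl⟩
  have hsub : ∀ g : H, A ⊔ cj g A ≤
      (Subgroup.closure {a, (g : G) * a * (g : G)⁻¹}).comap H.subtype := by
    intro g
    apply sup_le
    · rw [hA, Subgroup.zpowers_le, Subgroup.mem_comap]
      exact Subgroup.subset_closure (by simp)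
    · have e1 : cj g A = Subgroup.zpowers (g * ⟨a, haH⟩ * g⁻¹) := by
        show A.map (MulAut.conj g).toMonoidHom = _
        rw [hA, MonoidHom.map_zpowers]
        rfl
      rw [e1, Subgroup.zpowers_le, Subgroup.mem_comap]
      exact Subgroup.subset_closure (by simp)
  have hpg : ∀ g : H, IsPGroup p ↥(A ⊔ cj g A) := by
    intro g
    rintro ⟨d, hd⟩
    have h1 := hsub g hd
    rw [Subgroup.mem_comap] at h1
    obtain ⟨k, hk⟩ := hpair g ⟨_, h1⟩
    have h5 : (d : G) ^ (p ^ k) = 1 := congrArg Subtype.val hk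
    refine ⟨k, ?_⟩
    apply Subtype.ext
    apply Subtype.ext
    simp only [Subgroup.coe_pow, Subgroup.coe_one]
    exact h5
  have hAp : IsPGroup p A := by
    have h1 := hpg 1
    exact h1.to_le le_sup_left
  obtain ⟨N, hNn, hNp, hle⟩ := Cfsg.Agent.Helper2.baer_suzuki A hAp hpg
  have h3 : (⟨a, haH⟩ : H) ∈ Cfsg.pCore p H :=
    le_pCore hNn hNp (hle (hA ▸ Subgroup.mem_zpowers _))
  exact ⟨⟨a, haH⟩, h3, rfl⟩

end Cfsg.Agent.Lead.QuadPair
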