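import Mathlib
import Cfsg.Agent.S0016
import Cfsg.Agent.Helper4.DicyclicHom
import Cfsg.Prelude.Def_TwoFusion
import Cfsg.Prelude.Def_Transfer

set_option autoImplicit false

namespace Cfsg.Agent.Lead.QuatSplit

open QuaternionGroup

/-- squares land in a coatom of a commutative finite 2-group -/
theorem sq_mem_of_isCoatom {Z : Type*} [CommGroup Z] [Finite Z] (hZ : IsPGroup 2 Z)
    (C : Subgroup Z) (hC : IsCoatom C) (z : Z) : z ^ 2 ∈ C := by
  by_contra hz2
  have hzC : z ∉ C := fun h => hz2 (C.pow_mem h 2)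
  have hlt : C < C ⊔ Subgroup.zpowers (z ^ 2) := by
    refine lt_of_le_of_ne le_sup_left ?_
    intro h
    apply hz2
    rw [h]
    exact Subgroup.mem_sup_right (Subgroup.mem_zpowers _)
  have htop := hC.2 _ hlt
  have hzmem : z ∈ C ⊔ Subgroup.zpowers (z ^ 2) := by rw [htop]; trivial
  rw [Subgroup.mem_sup] at hzmem
  obtain ⟨c, hc, y, hy, hcy⟩ := hzmem
  obtain ⟨k, hk⟩ := Subgroup.mem_zpowers_iff.1 hy
  -- z = c * z^(2k), so z^(1-2k) ∈ C
  have e1 : (z ^ 2) ^ k = z ^ (2 * k) := by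
    rw [← zpow_natCast z 2, ← zpow_mul]; norm_num
  have h1 : z ^ (1 - 2 * k) = c := by
    rw [zpow_sub, zpow_one, ← e1, hk]
    exact (eq_mul_inv_of_mul_eq hcy).symm
  obtain ⟨m, hm⟩ := hZ z
  -- 1 - 2k is coprime to 2^m
  have hcop : IsCoprime (1 - 2 * k) ((2 ^ m : ℕ) : ℤ) := by
    have : IsCoprime (1 - 2 * k) (2 : ℤ) := by
      refine ⟨1, k, ?_⟩; ring
    have h2 := IsCoprime.pow_right (n := m) this
    simpa using h2
  obtain ⟨u, v, huv⟩ := hcop
  have hz : z = c ^ u := by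
    have : z ^ (u * (1 - 2 * k) + v * ((2 ^ m : ℕ) : ℤ)) = z := by rw [huv, zpow_one]
    rw [zpow_add, zpow_mul', zpow_mul', zpow_natCast, hm, one_zpow, mul_one, h1] at this
    exact this.symm
  exact hzC (hz ▸ C.zpow_mem hc u)

/-- two elements outside a coatom of a commutative finite 2-group differ by an element of it -/
theorem div_mem_of_isCoatom {Z : Type*} [CommGroup Z] [Finite Z] (hZ : IsPGroup 2 Z)
    (C : Subgroup Z) (hC : IsCoatom C) (u v : Z) (hu : u ∉ C) (hv : v ∉ C) : u * v⁻¹ ∈ C := by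
  have hlt : C < C ⊔ Subgroup.zpowers u := by
    refine lt_of_le_of_ne le_sup_left ?_
    intro h
    apply hu
    rw [h]
    exact Subgroup.mem_sup_right (Subgroup.mem_zpowers _)
  have htop := hC.2 _ hlt
  have hvmem : v ∈ C ⊔ Subgroup.zpowers u := by rw [htop]; trivial
  rw [Subgroup.mem_sup] at hvmem
  obtain ⟨c, hc, y, hy, hcy⟩ := hvmem
  obtain ⟨k, hk⟩ := Subgroup.mem_zpowers_iff.1 hy
  have hu2 : u ^ 2 ∈ C := sq_mem_of_isCoatom hZ C hC u
  rcases Int.even_or_odd' k with ⟨j, hj | hj⟩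
  · exfalso
    apply hv
    rw [← hcy, ← hk, hj, zpow_mul, zpow_ofNat]
    exact C.mul_mem hc (C.zpow_mem hu2 j)
  · have hv' : v = (c * (u ^ 2) ^ j) * u := by
      rw [← hcy, ← hk, hj, zpow_add, zpow_mul, zpow_ofNat, zpow_one, mul_assoc]
    have : u * v⁻¹ = (c * (u ^ 2) ^ j)⁻¹ := by
      rw [hv', mul_inv_rev, mul_inv_cancel_left]
    rw [this]
    exact C.inv_mem (C.mul_mem hc (C.zpow_mem hu2 j))


theorem sq_mem_of_isCoatom' {Z : Type*} [Group Z] [Finite Z] (hc : ∀ a b : Z, a * b = b * a)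
    (hZ : IsPGroup 2 Z) (C : Subgroup Z) (hC : IsCoatom C) (z : Z) : z ^ 2 ∈ C := by
  letI : CommGroup Z := { (inferInstance : Group Z) with mul_comm := hc }
  exact sq_mem_of_isCoatom hZ C hC z

theorem div_mem_of_isCoatom' {Z : Type*} [Group Z] [Finite Z] (hc : ∀ a b : Z, a * b = b * a)
    (hZ : IsPGroup 2 Z) (C : Subgroup Z) (hC : IsCoatom C) (u v : Z) (hu : u ∉ C) (hv : v ∉ C) :
    u * v⁻¹ ∈ C := by
  letI : CommGroup Z := { (inferInstance : Group Z) with mul_comm := hc }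
  exact div_mem_of_isCoatom hZ C hC u v hu hv

section Core

variable {S : Type*} [Group S] {ι : Type*} (N : ι → Subgroup S) [hNn : ∀ i, (N i).Normal]

structure Hyp : Prop where
  hNZ : ∀ i, N i ≤ Subgroup.center S
  hdiv : ∀ i, ∀ u ∈ Subgroup.center S, ∀ v ∈ Subgroup.center S, u ∉ N i → v ∉ N i → u * v⁻¹ ∈ N i
  hsq : ∀ i, ∀ z ∈ Subgroup.center S, z ^ 2 ∈ N i
  hint : ∀ x : S, (∀ i, x ∈ N i) → x = 1
  huniq : ∀ i, ∃! x : S ⧸ N i, orderOf x = 2
  hZN : ∀ i, ∃ z ∈ Subgroup.center S, z ∉ N i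

theorem mem_center_of_sq_mem (h : Hyp N) (i : ι) (g : S) (hg : g ^ 2 ∈ N i) :
    g ∈ Subgroup.center S := by
  obtain ⟨t, ht, htu⟩ := h.huniq i
  obtain ⟨z, hzZ, hzN⟩ := h.hZN i
  have hz1 : (QuotientGroup.mk z : S ⧸ N i) ≠ 1 := fun h1 => hzN ((QuotientGroup.eq_one_iff z).1 h1)
  have hz2 : (QuotientGroup.mk z : S ⧸ N i) ^ 2 = 1 := by
    rw [← QuotientGroup.mk_pow]; exact (QuotientGroup.eq_one_iff _).2 (h.hsq i z hzZ)
  have hzt : (QuotientGroup.mk z : S ⧸ N i) = t := htu _ (orderOf_eq_prime hz2 hz1)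
  by_cases hg1 : (QuotientGroup.mk g : S ⧸ N i) = 1
  · exact h.hNZ i ((QuotientGroup.eq_one_iff g).1 hg1)
  · have hg2 : (QuotientGroup.mk g : S ⧸ N i) ^ 2 = 1 := by
      rw [← QuotientGroup.mk_pow]; exact (QuotientGroup.eq_one_iff _).2 hg
    have hgt : (QuotientGroup.mk g : S ⧸ N i) = t := htu _ (orderOf_eq_prime hg2 hg1)
    have h3 : (QuotientGroup.mk g : S ⧸ N i) = QuotientGroup.mk z := by rw [hgt, hzt]
    rw [QuotientGroup.eq] at h3
    have h4 := h.hNZ i h3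
    have h5 : g = z * (g⁻¹ * z)⁻¹ := by group
    rw [h5]; exact Subgroup.mul_mem _ hzZ (Subgroup.inv_mem _ h4)

def Out (x : S) : Prop := x ∈ Subgroup.center S ∧ ∀ i, x ∉ N i

theorem out_unique (h : Hyp N) {u v : S} (hu : Out N u) (hv : Out N v) : u = v := by
  have : u * v⁻¹ = 1 := h.hint _ (fun i => h.hdiv i u hu.1 v hv.1 (hu.2 i) (hv.2 i))
  exact mul_inv_eq_one.1 this

theorem out_sq (h : Hyp N) {g : S} (hg : g ∉ Subgroup.center S) (hg2 : g ^ 2 ∈ Subgroup.center S) :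
    Out N (g ^ 2) :=
  ⟨hg2, fun i hi => hg (mem_center_of_sq_mem N h i g hi)⟩

theorem center_sq (h : Hyp N) {z : S} (hz : z ∈ Subgroup.center S) : z ^ 2 = 1 :=
  h.hint _ (fun i => h.hsq i z hz)

theorem exists_section (h : Hyp N) (i0 : ι) (M k : ℕ) (hMk : M = k * 2) (hk0 : 0 < k)
    (e : S ⧸ N i0 ≃* QuaternionGroup M) :
    ∃ σ : QuaternionGroup M →* S, ∀ q, (QuotientGroup.mk (σ q) : S ⧸ N i0) = e.symm q := by
  have : NeZero M := ⟨by omega⟩
  have : NeZero (2 * M) := ⟨by have := NeZero.ne M; omega⟩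
  obtain ⟨a', ha'⟩ := QuotientGroup.mk_surjective (s := N i0) (e.symm (a 1))
  obtain ⟨b', hb'⟩ := QuotientGroup.mk_surjective (s := N i0) (e.symm (xa 0))
  have hea : e (QuotientGroup.mk a') = a 1 := by rw [ha']; simp
  have heb : e (QuotientGroup.mk b') = xa 0 := by rw [hb']; simp
  have hcomm : ∀ g ∈ Subgroup.center S, ∀ q : QuaternionGroup M,
      e (QuotientGroup.mk g) * q = q * e (QuotientGroup.mk g) := by
    intro g hg q
    obtain ⟨s, hs⟩ := QuotientGroup.mk_surjective (s := N i0) (e.symm q)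
    have hq : q = e (QuotientGroup.mk s) := by rw [hs]; simp
    rw [hq, ← map_mul, ← map_mul, ← QuotientGroup.mk_mul, ← QuotientGroup.mk_mul]
    rw [Subgroup.mem_center_iff] at hg
    rw [hg s]
  have h2ne : (2 : ZMod (2 * M)) ≠ 0 := by
    intro h0
    have h1 : ((2 : ℕ) : ZMod (2 * M)) = 0 := by exact_mod_cast h0
    rw [ZMod.natCast_eq_zero_iff] at h1
    have := Nat.le_of_dvd (by norm_num) h1
    omega
  have hMne : ((M : ℕ) : ZMod (2 * M)) ≠ 0 := by
    intro h0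
    rw [ZMod.natCast_eq_zero_iff] at h0
    have := Nat.le_of_dvd (NeZero.pos M) h0
    have := NeZero.pos M
    omega
  -- noncentral elements
  have hb_nc : b' ∉ Subgroup.center S := by
    intro hb
    have h1 := hcomm b' hb (a 1)
    rw [heb, xa_mul_a, a_mul_xa] at h1
    have h2 := xa.inj h1
    apply h2ne
    linear_combination h2
  have heba : e (QuotientGroup.mk (b' * a')) = xa 1 := by
    rw [QuotientGroup.mk_mul, map_mul, heb, hea, xa_mul_a, zero_add]
  have hba_nc : b' * a' ∉ Subgroup.center S := by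
    intro hb
    have h1 := hcomm (b' * a') hb (a 1)
    rw [heba, xa_mul_a, a_mul_xa] at h1
    have h2 := xa.inj h1
    apply h2ne
    linear_combination h2
  have heak : e (QuotientGroup.mk (a' ^ k)) = a (k : ZMod (2 * M)) := by
    rw [QuotientGroup.mk_pow, map_pow, hea, a_one_pow]
  have hak_nc : a' ^ k ∉ Subgroup.center S := by
    intro hb
    have h1 := hcomm (a' ^ k) hb (xa 0)
    rw [heak, xa_mul_a, a_mul_xa] at h1
    have h2 := xa.inj h1
    apply hMne
    have hc : ((M : ℕ) : ZMod (2 * M)) = (k : ZMod (2 * M)) * 2 := by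
      have : ((M : ℕ) : ZMod (2 * M)) = ((k * 2 : ℕ) : ZMod (2 * M)) := by rw [← hMk]
      rw [this]; push_cast; rfl
    rw [hc]
    linear_combination -h2
  -- fourth powers
  have hb4 : (b' ^ 2) ^ 2 ∈ N i0 := by
    rw [← QuotientGroup.eq_one_iff]
    apply e.injective
    rw [map_one, QuotientGroup.mk_pow, QuotientGroup.mk_pow, map_pow, map_pow, heb, ← pow_mul]
    exact xa_pow_four 0
  have hba4 : ((b' * a') ^ 2) ^ 2 ∈ N i0 := by
    rw [← QuotientGroup.eq_one_iff]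
    apply e.injective
    rw [map_one, QuotientGroup.mk_pow, QuotientGroup.mk_pow, map_pow, map_pow, heba, ← pow_mul]
    exact xa_pow_four 1
  have hak4 : ((a' ^ k) ^ 2) ^ 2 ∈ N i0 := by
    rw [← QuotientGroup.eq_one_iff]
    apply e.injective
    rw [map_one, QuotientGroup.mk_pow, QuotientGroup.mk_pow, QuotientGroup.mk_pow, map_pow,
      map_pow, map_pow, hea, ← pow_mul, ← pow_mul, a_one_pow, one_def]
    congr 1
    have h0 : ((2 * M : ℕ) : ZMod (2 * M)) = 0 := ZMod.natCast_self _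
    have e1 : k * (2 * 2) = 2 * M := by rw [hMk]; ring
    rw [e1]; exact h0
  have hb2Z := mem_center_of_sq_mem N h i0 _ hb4
  have hba2Z := mem_center_of_sq_mem N h i0 _ hba4
  have hak2Z := mem_center_of_sq_mem N h i0 _ hak4
  have ob := out_sq N h hb_nc hb2Z
  have oba := out_sq N h hba_nc hba2Z
  have oak := out_sq N h hak_nc hak2Z
  have hw1 : (b' * a') ^ 2 = b' ^ 2 := out_unique N h oba ob
  have hw2 : (a' ^ k) ^ 2 = b' ^ 2 := out_unique N h oak ob
  have hJ : b' * b' = a' ^ M := by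
    rw [hMk, pow_mul, hw2, pow_two]
  have huJ : a' * b' * a' = b' := by
    rw [pow_two, pow_two] at hw1
    have : b' * (a' * b' * a') = b' * b' := by rw [← hw1]; group
    exact mul_left_cancel this
  have hu : a' ^ (2 * M) = 1 := by
    rw [pow_mul', ← hJ, ← pow_two]
    exact center_sq N h hb2Z
  refine ⟨Cfsg.Agent.Helper4.dicyclicHom a' b' hu hJ huJ, ?_⟩
  rintro (i | i)
  · rw [Cfsg.Agent.Helper4.dicyclicHom_a, QuotientGroup.mk_pow, ha', ← map_pow, a_one_pow,
      ZMod.natCast_zmod_val]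
  · rw [Cfsg.Agent.Helper4.dicyclicHom_xa, QuotientGroup.mk_mul, QuotientGroup.mk_pow, ha', hb',
      ← map_pow, ← map_mul, a_one_pow, ZMod.natCast_zmod_val, xa_mul_a, zero_add]

end Core


theorem complement_props {S : Type*} [Group S] (Nn : Subgroup S) [Nn.Normal] (Q : Subgroup S)
    (h1 : Q ⊓ Nn = ⊥)
    (hsurj : ∀ s : S, ∃ q ∈ Q, (QuotientGroup.mk q : S ⧸ Nn) = QuotientGroup.mk s)
    (hnc : ¬ IsMulCommutative (S ⧸ Nn)) (hu : ∃! x : S ⧸ Nn, orderOf x = 2) :
    ¬ IsMulCommutative Q ∧ ∃! x : Q, orderOf x = 2 := by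
  let f : Q →* S ⧸ Nn := (QuotientGroup.mk' Nn).comp Q.subtype
  have hinj : Function.Injective f := by
    rw [injective_iff_map_eq_one]
    intro x hx
    have h2 : (x : S) ∈ Nn := (QuotientGroup.eq_one_iff _).1 hx
    have h3 : (x : S) ∈ Q ⊓ Nn := ⟨x.2, h2⟩
    rw [h1, Subgroup.mem_bot] at h3
    exact Subtype.ext h3
  have hsur : Function.Surjective f := by
    intro y
    obtain ⟨s, rfl⟩ := QuotientGroup.mk_surjective y
    obtain ⟨q, hq, hqs⟩ := hsurj s
    exact ⟨⟨q, hq⟩, hqs⟩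
  let φ : Q ≃* S ⧸ Nn := MulEquiv.ofBijective f ⟨hinj, hsur⟩
  constructor
  · intro hc
    apply hnc
    refine ⟨⟨fun x y => ?_⟩⟩
    obtain ⟨x', rfl⟩ := φ.surjective x
    obtain ⟨y', rfl⟩ := φ.surjective y
    rw [← map_mul, ← map_mul, hc.is_comm.comm]
  · obtain ⟨t, ht, htu⟩ := hu
    refine ⟨φ.symm t, ?_, ?_⟩
    · change orderOf (φ.symm t) = 2
      rw [MulEquiv.orderOf_eq]; exact ht
    · intro y hy
      have h2 : φ y = t := htu _ (by
        show orderOf (φ y) = 2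
        rw [MulEquiv.orderOf_eq]; exact hy)
      rw [← h2]; simp

theorem unique_card_two {H : Type*} [Group H] [Finite H] (hu : ∃! x : H, orderOf x = 2)
    (A B : Subgroup H) (hA : Nat.card A = 2) (hB : Nat.card B = 2) : A = B := by
  obtain ⟨t, ht, htu⟩ := hu
  have key : ∀ K : Subgroup H, Nat.card K = 2 → K = Subgroup.zpowers t := by
    intro K hK
    have hnt : Nontrivial K := (Finite.one_lt_card_iff_nontrivial).1 (by rw [hK]; norm_num)
    obtain ⟨x, hx⟩ := exists_ne (1 : K)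
    have hx2 : x ^ 2 = 1 := by rw [← hK]; exact pow_card_eq_one'
    have hx2' : (x : H) ^ 2 = 1 := by
      have := congrArg Subtype.val hx2
      simpa using this
    have hx1 : (x : H) ≠ 1 := fun h => hx (Subtype.ext h)
    have hxt : (x : H) = t := htu _ (orderOf_eq_prime hx2' hx1)
    symm
    apply Subgroup.eq_of_le_of_card_ge
    · rw [Subgroup.zpowers_le, ← hxt]; exact x.2
    · rw [hK, Nat.card_zpowers, ht]
  rw [key A hA, key B hB]

theorem s3201 {S : Type*} [Group S] [Finite S]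
    (hS : IsPGroup 2 S) (n : ℕ) (hn : 2 ≤ n) (C : Fin n → Subgroup ↥(Subgroup.center S))
    (hCmax : ∀ i, IsCoatom (C i)) (hCint : ⨅ i, C i = ⊥)
    (hCq : ∀ i, ∃ (_ : ((C i).map (Subgroup.center S).subtype).Normal),
      ¬ IsMulCommutative (S ⧸ (C i).map (Subgroup.center S).subtype) ∧
      ∃! x : S ⧸ (C i).map (Subgroup.center S).subtype, orderOf x = 2) :
    ∃ E Q : Subgroup S, Cfsg.IsInternalDirectProduct E Q ⊤ ∧ Cfsg.IsElementaryAbelian 2 E ∧
      ¬ IsMulCommutative ↥Q ∧ ∃! x : ↥Q, orderOf x = 2 := by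
  let N : Fin n → Subgroup S := fun i => (C i).map (Subgroup.center S).subtype
  have hNi : ∀ i, N i = (C i).map (Subgroup.center S).subtype := fun i => rfl
  have hNn : ∀ i, (N i).Normal := fun i => (hCq i).fst
  have hZc : ∀ a b : Subgroup.center S, a * b = b * a := fun a b =>
    Subtype.ext ((Subgroup.mem_center_iff.1 a.2 b.1).symm)
  have hZ2 : IsPGroup 2 (Subgroup.center S) := hS.to_subgroup _
  have memN : ∀ i (x : S) (hx : x ∈ Subgroup.center S), x ∈ N i ↔ (⟨x, hx⟩ : Subgroup.center S) ∈ C i := by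
    intro i x hx
    rw [hNi]
    constructor
    · rintro ⟨y, hy, rfl⟩
      exact hy
    · intro h
      exact ⟨⟨x, hx⟩, h, rfl⟩
  have hNZ : ∀ i, N i ≤ Subgroup.center S := fun i => by
    rw [hNi]; exact Subgroup.map_subtype_le _
  have i0 : Fin n := ⟨0, by omega⟩
  have hyp : Hyp N := by
    refine ⟨hNZ, ?_, ?_, ?_, ?_, ?_⟩
    · intro i u hu v hv huN hvN
      have huC : (⟨u, hu⟩ : Subgroup.center S) ∉ C i := fun h => huN ((memN i u hu).2 h)
      have hvC : (⟨v, hv⟩ : Subgroup.center S) ∉ C i := fun h => hvN ((memN i v hv).2 h)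
      have := div_mem_of_isCoatom' hZc hZ2 (C i) (hCmax i) _ _ huC hvC
      exact (memN i (u * v⁻¹) (Subgroup.mul_mem _ hu (Subgroup.inv_mem _ hv))).2 this
    · intro i z hz
      have := sq_mem_of_isCoatom' hZc hZ2 (C i) (hCmax i) ⟨z, hz⟩
      exact (memN i (z ^ 2) (Subgroup.pow_mem _ hz 2)).2 this
    · intro x hx
      have hxZ : x ∈ Subgroup.center S := hNZ i0 (hx i0)
      have : (⟨x, hxZ⟩ : Subgroup.center S) ∈ ⨅ i, C i := by
        rw [Subgroup.mem_iInf]
        intro i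
        exact (memN i x hxZ).1 (hx i)
      rw [hCint, Subgroup.mem_bot] at this
      exact congrArg Subtype.val this
    · intro i
      exact (hCq i).snd.2
    · intro i
      obtain ⟨z, hz⟩ : ∃ z, z ∉ C i := by
        by_contra hh
        push Not at hh
        exact (hCmax i).1 (eq_top_iff.2 fun z _ => hh z)
      exact ⟨z.1, z.2, fun h => hz ((memN i z.1 z.2).1 h)⟩
  have hnc : ¬ IsMulCommutative (S ⧸ N i0) := (hCq i0).snd.1
  have hq2 : IsPGroup 2 (S ⧸ N i0) := hS.to_quotient (N i0)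
  have hquat := Cfsg.Agent.S0016.result 2 hq2 (unique_card_two (hyp.huniq i0))
  rcases hquat with hcyc | ⟨_, m, ⟨e⟩⟩
  · exact absurd IsCyclic.isMulCommutative hnc
  have hm : 1 ≤ m := by
    by_contra hm0
    have hm0' : m = 0 := by omega
    subst hm0'
    apply hnc
    have hcard : Nat.card (S ⧸ N i0) = 2 ^ 2 := by
      rw [Nat.card_congr e.toEquiv, Nat.card_eq_fintype_card, QuaternionGroup.card]
      norm_num
    exact ⟨⟨IsPGroup.commutative_of_card_eq_prime_sq hcard⟩⟩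
  obtain ⟨σ, hσ⟩ := exists_section N hyp i0 (2 ^ m) (2 ^ (m - 1))
    (by rw [← pow_succ]; congr 1; omega) (by positivity) e
  have h1 : σ.range ⊓ N i0 = ⊥ := by
    rw [eq_bot_iff]
    rintro x ⟨⟨q, rfl⟩, hx⟩
    have h2 : (QuotientGroup.mk (σ q) : S ⧸ N i0) = 1 := (QuotientGroup.eq_one_iff _).2 hx
    rw [hσ] at h2
    have h3 : q = 1 := by simpa using h2
    rw [h3, map_one]; exact Subgroup.mem_bot.2 rfl
  have hsurj : ∀ s : S, ∃ q ∈ σ.range, (QuotientGroup.mk q : S ⧸ N i0) = QuotientGroup.mk s := by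
    intro s
    refine ⟨σ (e (QuotientGroup.mk s)), ⟨_, rfl⟩, ?_⟩
    rw [hσ]; simp
  obtain ⟨hQnc, hQu⟩ := complement_props (N i0) σ.range h1 hsurj hnc (hyp.huniq i0)
  refine ⟨N i0, σ.range, ⟨le_top, le_top, ?_, ?_, ?_⟩, ⟨?_, ?_⟩, hQnc, hQu⟩
  · intro a ha b _
    exact ((Subgroup.mem_center_iff.1 (hNZ i0 ha)) b).symm
  · rw [inf_comm]; exact h1
  · rw [eq_top_iff]
    intro s _
    obtain ⟨q, hq, hqs⟩ := hsurj s
    rw [QuotientGroup.eq] at hqs
    have : s = q * (q⁻¹ * s) := by group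
    rw [this, sup_comm]
    exact Subgroup.mul_mem_sup hq hqs
  · refine ⟨⟨fun x y => Subtype.ext ?_⟩⟩
    exact ((Subgroup.mem_center_iff.1 (hNZ i0 x.2)) y.1).symm
  · intro a ha
    exact center_sq N hyp (hNZ i0 ha)

end Cfsg.Agent.Lead.QuatSplit
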