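import Mathlib
import Cfsg.Prelude.Def_Transfer
import Cfsg.Agent.Lead.SL23Recog
import Cfsg.Agent.S0016
import Cfsg.Agent.Helper1.FrobPCompl

set_option autoImplicit false

/-!
A group with generalized quaternion Sylow `2`-subgroups has a normal `2`-complement or involves
`SL(2,3)`.
-/

namespace Cfsg.Agent.Lead.QuatSylow

open Cfsg QuaternionGroup Cfsg.Agent.Lead.SL23Recog

theorem q8_facts : ∀ s t : QuaternionGroup 2, s ^ 4 = 1 → s ^ 2 ≠ 1 → t ≠ 1 → t ≠ s → t ≠ s ^ 2 →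
    t ≠ s ^ 3 →
    (t * t = s ^ 2 ∧ t * s * t⁻¹ = s⁻¹ ∧ t ^ 2 ≠ 1 ∧
      ∀ w : QuaternionGroup 2, (w = 1 ∨ w = s ∨ w = s ^ 2 ∨ w = s ^ 3) ∨
        (w = 1 ∨ w = t ∨ w = t ^ 2 ∨ w = t ^ 3) ∨ w = s * t ∨ w = t * s) := by
  decide

theorem q8_pow_four : ∀ w : QuaternionGroup 2, w ^ 4 = 1 := by decide

theorem q8_sq : ∀ w : QuaternionGroup 2, w ^ 2 = 1 → w = 1 ∨ w = a 2 := by decide

section Abstract

variable {Q₀ : Type*} [Group Q₀] (e : Q₀ ≃* QuaternionGroup 2)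

include e

theorem pow_four (w : Q₀) : w ^ 4 = 1 := by
  apply e.injective
  rw [map_pow, map_one]
  exact q8_pow_four _

theorem facts (s t : Q₀) (hs : s ^ 2 ≠ 1) (h1 : t ≠ 1) (h2 : t ≠ s) (h3 : t ≠ s ^ 2)
    (h4 : t ≠ s ^ 3) :
    t * t = s ^ 2 ∧ t * s * t⁻¹ = s⁻¹ ∧ t ^ 2 ≠ 1 ∧
      ∀ w : Q₀, (w = 1 ∨ w = s ∨ w = s ^ 2 ∨ w = s ^ 3) ∨
        (w = 1 ∨ w = t ∨ w = t ^ 2 ∨ w = t ^ 3) ∨ w = s * t ∨ w = t * s := by
  have key := q8_facts (e s) (e t) (q8_pow_four _)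
    (by rw [← map_pow]; intro h; exact hs (e.injective (h.trans (map_one e).symm)))
    (by intro h; exact h1 (e.injective (h.trans (map_one e).symm)))
    (by intro h; exact h2 (e.injective h))
    (by rw [← map_pow]; intro h; exact h3 (e.injective h))
    (by rw [← map_pow]; intro h; exact h4 (e.injective h))
  obtain ⟨k1, k2, k3, k4⟩ := key
  refine ⟨?_, ?_, ?_, ?_⟩
  · apply e.injective
    rw [map_mul, map_pow]; exact k1
  · apply e.injective
    rw [map_mul, map_mul, map_inv, map_inv]; exact k2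
  · intro h
    apply k3
    rw [← map_pow, h, map_one]
  · intro w
    have := k4 (e w)
    simp only [← map_pow, ← map_mul, ← map_one e, e.injective.eq_iff] at this
    exact this

theorem aut_sq_fixed (β : MulAut Q₀) (t : Q₀) (ht : t ^ 2 = 1) : β t = t := by
  have h1 : (e t) ^ 2 = 1 := by rw [← map_pow, ht, map_one]
  have h2 : (e (β t)) ^ 2 = 1 := by rw [← map_pow, ← map_pow, ht, map_one, map_one]
  rcases q8_sq _ h1 with h | h
  · have : t = 1 := e.injective (h.trans (map_one e).symm)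
    rw [this, map_one]
  · rcases q8_sq _ h2 with h' | h'
    · have h3 : β t = 1 := e.injective (h'.trans (map_one e).symm)
      have h4 : t = 1 := β.injective (h3.trans (map_one β).symm)
      rw [h4, map_one]
    · exact e.injective (h'.trans h.symm)

/-- an automorphism of odd order moving `t` moves it out of `⟨t⟩` -/
theorem aut_moves (β : MulAut Q₀) {r : ℕ} (hr : Odd r) (hβ : β ^ r = 1) (t : Q₀) (ht : β t ≠ t) :
    t ^ 2 ≠ 1 ∧ β t ≠ 1 ∧ β t ≠ t ∧ β t ≠ t ^ 2 ∧ β t ≠ t ^ 3 := by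
  have ht2 : t ^ 2 ≠ 1 := fun h => ht (aut_sq_fixed e β t h)
  have ht1 : t ≠ 1 := by
    rintro rfl
    exact ht2 (one_pow 2)
  refine ⟨ht2, ?_, ht, ?_, ?_⟩
  · intro h
    exact ht1 (β.injective (h.trans (map_one β).symm))
  · intro h
    have h1 : (β t) ^ 2 = 1 := by
      rw [h, ← pow_mul]; exact pow_four e t
    rw [← map_pow] at h1
    exact ht2 (β.injective (h1.trans (map_one β).symm))
  · intro h
    have hinv : t ^ 3 = t⁻¹ := by
      rw [eq_inv_iff_mul_eq_one, ← pow_succ]; exact pow_four e t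
    rw [hinv] at h
    have h2 : (β ^ 2) t = t := by
      rw [pow_two, MulAut.mul_apply, h, map_inv, h, inv_inv]
    obtain ⟨j, hj⟩ := hr
    have h3 : ∀ j : ℕ, (β ^ (2 * j)) t = t := by
      intro j
      induction j with
      | zero => simp
      | succ j ih =>
        rw [mul_add, mul_one, pow_add, MulAut.mul_apply, h2, ih]
    have h4 : (β ^ r) t = t⁻¹ := by
      rw [hj, pow_succ', MulAut.mul_apply, h3, h]
    rw [hβ, MulAut.one_apply] at h4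
    apply ht2
    rw [pow_two]
    nth_rewrite 1 [h4]
    exact inv_mul_cancel t

theorem exists_good_pair (α : MulAut Q₀) {r : ℕ} (hr : Odd r) (hα : α ^ r = 1) (hα1 : α ≠ 1) :
    ∃ x y : Q₀, x ^ 2 ≠ 1 ∧ y * y = x ^ 2 ∧ y * x * y⁻¹ = x⁻¹ ∧
      (y ≠ 1 ∧ y ≠ x ∧ y ≠ x ^ 2 ∧ y ≠ x ^ 3) ∧ α x = y ∧ α y = x * y := by
  obtain ⟨x₀, hx₀⟩ : ∃ x₀, α x₀ ≠ x₀ := by
    by_contra hcon
    push Not at hcon
    apply hα1
    ext w
    exact hcon w
  obtain ⟨hx2, m1, m2, m3, m4⟩ := aut_moves e α hr hα x₀ hx₀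
  obtain ⟨y₀, hy₀⟩ : ∃ y₀, y₀ = α x₀ := ⟨_, rfl⟩
  rw [← hy₀] at m1 m2 m3 m4
  obtain ⟨f1, f2, f3, f4⟩ := facts e x₀ y₀ hx2 m1 m2 m3 m4
  have hy₀' : α y₀ ≠ y₀ := by
    intro h
    rw [hy₀] at h
    exact hx₀ (α.injective h)
  obtain ⟨_, n1, n2, n3, n4⟩ := aut_moves e α hr hα y₀ hy₀'
  -- `α y₀ ∉ ⟨x₀⟩`
  have hβ : (α ^ 2) ^ r = 1 := by rw [← pow_mul, mul_comm, pow_mul, hα, one_pow]
  have hβx : (α ^ 2) x₀ ≠ x₀ := by
    intro h
    obtain ⟨j, hj⟩ := hr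
    have h3 : ∀ j : ℕ, (α ^ (2 * j)) x₀ = x₀ := by
      intro j
      induction j with
      | zero => simp
      | succ j ih =>
        rw [mul_add, mul_one, pow_add, MulAut.mul_apply, h, ih]
    have h4 : (α ^ r) x₀ = α x₀ := by
      rw [hj, pow_succ', MulAut.mul_apply, h3]
    rw [hα, MulAut.one_apply] at h4
    exact hx₀ h4.symm
  obtain ⟨_, k1, k2, k3, k4⟩ := aut_moves e (α ^ 2) hr hβ x₀ hβx
  have hβeq : (α ^ 2) x₀ = α y₀ := by
    rw [pow_two, MulAut.mul_apply, hy₀]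
  rw [hβeq] at k1 k2 k3 k4
  have hcases : α y₀ = x₀ * y₀ ∨ α y₀ = y₀ * x₀ := by
    rcases f4 (α y₀) with h | h | h
    · rcases h with h | h | h | h
      · exact absurd h k1
      · exact absurd h k2
      · exact absurd h k3
      · exact absurd h k4
    · rcases h with h | h | h | h
      · exact absurd h n1
      · exact absurd h n2
      · exact absurd h n3
      · exact absurd h n4
    · exact h
  rcases hcases with hc | hc
  · exact ⟨x₀, y₀, hx2, f1, f2, ⟨m1, m2, m3, m4⟩, hy₀.symm, hc⟩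
  · -- use the inverses
    have hx₀inv : α x₀⁻¹ ≠ x₀⁻¹ := by
      intro h
      rw [map_inv, inv_inj] at h
      exact hx₀ h
    obtain ⟨hx2', p1, p2, p3, p4⟩ := aut_moves e α hr hα x₀⁻¹ hx₀inv
    have hyinv : α x₀⁻¹ = y₀⁻¹ := by rw [map_inv, hy₀]
    rw [hyinv] at p1 p2 p3 p4
    obtain ⟨g1, g2, g3, g4⟩ := facts e x₀⁻¹ y₀⁻¹ hx2' p1 p2 p3 p4
    refine ⟨x₀⁻¹, y₀⁻¹, hx2', g1, g2, ⟨p1, p2, p3, p4⟩, hyinv, ?_⟩
    rw [map_inv, hc, mul_inv_rev]

end Abstract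

end Cfsg.Agent.Lead.QuatSylow
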