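import Mathlib
import Cfsg.Agent.Lead.QuatSylow

set_option autoImplicit false

/-!
A group with generalized quaternion Sylow `2`-subgroups has a normal `2`-complement or involves
`SL(2,3)`: the assembly.
-/

namespace Cfsg.Agent.Lead.QuatSylow

open Cfsg QuaternionGroup Cfsg.Agent.Lead.SL23Recog

variable {G : Type*} [Group G] [Finite G]

/-- a subgroup embedding in a generalized quaternion group has at most one subgroup of order two -/
theorem unique_order_two {Q : Type*} [Group Q] [Finite Q] {N : ℕ} [NeZero N]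
    (ι : Q →* QuaternionGroup N) (hι : Function.Injective ι) (H K : Subgroup Q)
    (hH : Nat.card H = 2) (hK : Nat.card K = 2) : H = K := by
  have key : ∀ L : Subgroup Q, Nat.card L = 2 → ∃ h : Q, ι h = a N ∧ L = Subgroup.zpowers h := by
    intro L hL
    haveI : Fact (Nat.Prime 2) := ⟨Nat.prime_two⟩
    obtain ⟨h, hh⟩ := exists_prime_orderOf_dvd_card' 2 (by rw [hL] : 2 ∣ Nat.card L)
    have hh' : orderOf (h : Q) = 2 := by rw [Subgroup.orderOf_coe]; exact hh
    refine ⟨h, ?_, ?_⟩
    · have h1 : (ι h) ^ 2 = 1 := by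
        rw [← map_pow, ← hh', pow_orderOf_eq_one, map_one]
      rcases (Cfsg.Agent.Lead.QuatAut.sq_eq_one_iff (ι h)).1 h1 with h2 | h2
      · exfalso
        have : (h : Q) = 1 := hι (h2.trans (map_one ι).symm)
        rw [this, orderOf_one] at hh'
        norm_num at hh'
      · exact h2
    · symm
      apply Subgroup.eq_of_le_of_card_ge
      · rw [Subgroup.zpowers_le]; exact h.2
      · rw [Nat.card_zpowers, hh', hL]
  obtain ⟨h, hh, rfl⟩ := key H hH
  obtain ⟨k, hk, rfl⟩ := key K hK
  have : h = k := hι (hh.trans hk.symm)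
  rw [this]

theorem main (T : Sylow 2 G) (n : ℕ) (hn : 1 ≤ n)
    (hT : Nonempty ((T : Subgroup G) ≃* QuaternionGroup (2 ^ n))) :
    Cfsg.HasNormalPComplement 2 G ∨ Cfsg.Involves X23 G := by
  haveI : Fact (Nat.Prime 2) := ⟨Nat.prime_two⟩
  by_cases hcomp : Cfsg.HasNormalPComplement 2 G
  · exact Or.inl hcomp
  right
  have hnot : ¬ Cfsg.Agent.Helper1.PLocalCentral 2 G :=
    fun h => hcomp (Cfsg.Agent.Helper1.frobenius_pcomplement h)
  unfold Cfsg.Agent.Helper1.PLocalCentral at hnot
  push Not at hnot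
  obtain ⟨Q, hQ2, g, hgN, hgodd, hgC⟩ := hnot
  obtain ⟨eT⟩ := hT
  haveI : NeZero (2 ^ n) := ⟨pow_ne_zero _ (by norm_num)⟩
  -- `Q` embeds in the quaternion group
  obtain ⟨T', hT'⟩ := hQ2.exists_le_sylow
  obtain ⟨ι, hι⟩ : ∃ ι : ↥Q →* QuaternionGroup (2 ^ n), Function.Injective ι := by
    refine ⟨eT.toMonoidHom.comp ((Sylow.equiv T' T).toMonoidHom.comp (Subgroup.inclusion hT')), ?_⟩
    exact eT.injective.comp ((Sylow.equiv T' T).injective.comp (Subgroup.inclusion_injective hT'))
  have huniq : ∀ H K : Subgroup ↥Q, Nat.card H = 2 → Nat.card K = 2 → H = K :=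
    fun H K hH hK => unique_order_two ι hι H K hH hK
  -- the automorphism induced by `g`
  obtain ⟨gn, hgn⟩ : ∃ gn : Subgroup.normalizer (Q : Set G), (gn : G) = g := ⟨⟨g, hgN⟩, rfl⟩
  obtain ⟨α, hα⟩ : ∃ α : MulAut ↥Q, α = Q.normalizerMonoidHom gn := ⟨_, rfl⟩
  have hαapp : ∀ q : ↥Q, ((α q : ↥Q) : G) = g * q * g⁻¹ := by
    intro q
    rw [hα, ← hgn]; rfl
  have hα1 : α ≠ 1 := by
    intro h
    apply hgC
    rw [Subgroup.mem_centralizer_iff]
    intro q hq
    have := hαapp ⟨q, hq⟩
    rw [h, MulAut.one_apply] at this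
    have h2 : q = g * q * g⁻¹ := this
    calc q * g = g * q * g⁻¹ * g := by rw [← h2]
      _ = g * q := by group
  obtain ⟨r, hr⟩ : ∃ r, r = orderOf g := ⟨_, rfl⟩
  have hrodd : Odd r := by
    rw [hr]
    exact Nat.Coprime.odd_of_right hgodd
  have hαr : α ^ r = 1 := by
    rw [hα, ← map_pow]
    have : gn ^ r = 1 := by
      apply Subtype.ext
      rw [Subgroup.coe_pow, hgn, hr, pow_orderOf_eq_one]; rfl
    rw [this, map_one]
  rcases Cfsg.Agent.S0016.result 2 hQ2 huniq with hcyc | ⟨-, m, ⟨e⟩⟩
  · exfalso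
    obtain ⟨k, hk⟩ := IsPGroup.iff_card.1 hQ2
    haveI := hcyc
    exact hα1 (Cfsg.Agent.Lead.QuatAut.mulAut_cyclic_two_group_odd hk α hrodd hαr)
  · rcases Nat.lt_or_ge m 1 with hm0 | hm1
    · -- `m = 0`: cyclic of order `4`
      exfalso
      have hm : m = 0 := by omega
      subst hm
      haveI : IsCyclic (QuaternionGroup (2 ^ 0)) := QuaternionGroup.quaternionGroup_one_isCyclic
      haveI : IsCyclic ↥Q := isCyclic_of_surjective e.symm e.symm.surjective
      obtain ⟨k, hk⟩ := IsPGroup.iff_card.1 hQ2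
      exact hα1 (Cfsg.Agent.Lead.QuatAut.mulAut_cyclic_two_group_odd hk α hrodd hαr)
    · rcases Nat.lt_or_ge m 2 with hm1' | hm2
      · -- `Q₈`
        have hm : m = 1 := by omega
        subst hm
        obtain ⟨e', he'⟩ : ∃ e' : ↥Q ≃* QuaternionGroup 2, e' = e := ⟨e, rfl⟩
        obtain ⟨x, y, hx2, hyy, hrel, ⟨d1, d2, d3, d4⟩, hαx, hαy⟩ :=
          exists_good_pair e' α hrodd hαr hα1
        have hx4 : x ^ 4 = 1 := pow_four e' x
        have hQcard : Nat.card ↥Q = 8 := by
          rw [Nat.card_congr e'.toEquiv, Nat.card_eq_fintype_card, QuaternionGroup.card]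
        have hxord : orderOf (x : G) = 2 * 2 := by
          rw [Subgroup.orderOf_coe]
          have h1 : orderOf x ∣ 4 := orderOf_dvd_of_pow_eq_one hx4
          have h2 : ¬ orderOf x ∣ 2 := fun h => hx2 (orderOf_dvd_iff_pow_eq_one.1 h)
          have h3 : orderOf x ≤ 4 := Nat.le_of_dvd (by norm_num) h1
          interval_cases h : orderOf x <;> simp_all
        have hyx : (y : G) ∉ Subgroup.zpowers (x : G) := by
          classical
          intro hmem
          rw [mem_zpowers_iff_mem_range_orderOf, hxord] at hmem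
          simp only [Finset.mem_image, Finset.mem_range] at hmem
          obtain ⟨k, hk4, hk⟩ := hmem
          have hk' : x ^ k = y := by
            apply Subtype.ext
            rw [Subgroup.coe_pow]; exact hk
          interval_cases k
          · exact d1 (by rw [← hk', pow_zero])
          · exact d2 (by rw [← hk', pow_one])
          · exact d3 hk'.symm
          · exact d4 hk'.symm
        have hQg : Q ⊓ Subgroup.zpowers g = ⊥ := by
          rw [eq_bot_iff]
          rintro w ⟨hwQ, hwg⟩
          rw [Subgroup.mem_bot]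
          obtain ⟨k, hk⟩ := hQ2 ⟨w, hwQ⟩
          have hk' : w ^ 2 ^ k = 1 := congrArg Subtype.val hk
          have h1 : orderOf w ∣ 2 ^ k := orderOf_dvd_of_pow_eq_one hk'
          have h2 : orderOf w ∣ orderOf g := orderOf_dvd_of_mem_zpowers hwg
          have h3 : orderOf w ∣ Nat.gcd (orderOf g) (2 ^ k) := Nat.dvd_gcd h2 h1
          have h4 : Nat.gcd (orderOf g) (2 ^ k) = 1 := by
            rw [← Nat.coprime_iff_gcd_eq_one]
            exact Nat.Coprime.pow_right _ hgodd
          rw [h4, Nat.dvd_one, orderOf_eq_one_iff] at h3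
          exact h3
        apply involves_of_quaternion Q hQcard (x : G) (y : G) x.2 y.2 hxord ?_ ?_ hyx g hgN ?_ ?_ hQg
          (orderOf_pos g).ne'
        · have := congrArg Subtype.val hyy
          simpa using this
        · have := congrArg Subtype.val hrel
          simpa using this
        · rw [← hαapp, hαx]
        · rw [← hαapp, hαy]; rfl
      · -- large quaternion
        exfalso
        obtain ⟨α', hα'⟩ : ∃ α' : MulAut (QuaternionGroup (2 ^ m)), α' = MulAut.congr e α := ⟨_, rfl⟩
        have hα'r : α' ^ r = 1 := by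
          rw [hα', ← map_pow, hαr, map_one]
        have h1 := Cfsg.Agent.Lead.QuatAut.mulAut_quat_odd hm2 α' hrodd hα'r
        rw [hα'] at h1
        apply hα1
        exact (MulAut.congr e).injective (h1.trans (map_one _).symm)

end Cfsg.Agent.Lead.QuatSylow
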