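import Mathlib
import Cfsg.Prelude.Def_Characters
import Cfsg.Prelude.Def_BlockLocal
import Cfsg.Prelude.Def_Blocks
import Cfsg.Prelude.Def_Local
import Cfsg.Agent.Helper6.RMcKStmts
import Cfsg.Agent.Helper6.BrauerPerm2
import Cfsg.Agent.Lead.PSolvC

set_option autoImplicit false
set_option linter.style.haveILetI false

/-! # Piece FT for S4807: the frozen statement from the ambient main theorem -/

namespace Cfsg.Agent.Lead.RMcK

open Cfsg.Agent.Helper6 Cfsg.Agent.Helper6.RMcK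

universe u

/-- `Ov` in terms of the raw finite sum. -/
theorem ov_iff_finsum {Γ : Type u} [Group Γ] [Finite Γ] {A B : Subgroup Γ} (h : A ≤ B)
    (χ : B → ℂ) (θ : A → ℂ) :
    Ov h χ θ ↔ (∑ᶠ a : A, χ (Subgroup.inclusion h a) * (starRingEnd ℂ) (θ a)) ≠ 0 := by
  classical
  haveI : Fintype A := Fintype.ofFinite A
  unfold Ov
  rw [ip_eq_classInner]
  unfold Cfsg.classInner
  rw [finsum_eq_sum_of_fintype]
  have hc : ((Nat.card A : ℂ))⁻¹ ≠ 0 := by
    apply inv_ne_zero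
    exact_mod_cast Nat.card_pos.ne'
  constructor
  · intro h1 h2
    apply h1
    unfold res
    rw [h2, mul_zero]
  · intro h1
    apply mul_ne_zero hc
    exact h1

/-- irreducible characters of `G` and of `⊤ : Subgroup G` -/
noncomputable def irrTopEquiv (G : Type u) [Group G] [Finite G] :
    Cfsg.IrrCharacter G ≃ Cfsg.IrrCharacter ↥(⊤ : Subgroup G) where
  toFun χ := ⟨(χ : G → ℂ) ∘ (Subgroup.topEquiv : ↥(⊤ : Subgroup G) ≃* G),
    IsIrrCharacter.comp_mulEquiv _ χ.2⟩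
  invFun ψ := ⟨(ψ : ↥(⊤ : Subgroup G) → ℂ) ∘ (Subgroup.topEquiv : ↥(⊤ : Subgroup G) ≃* G).symm,
    IsIrrCharacter.comp_mulEquiv _ ψ.2⟩
  left_inv χ := by
    apply Subtype.ext
    funext g
    simp
  right_inv ψ := by
    apply Subtype.ext
    funext g
    change (ψ : ↥(⊤ : Subgroup G) → ℂ) (Subgroup.topEquiv.symm (Subgroup.topEquiv g)) = _
    rw [MulEquiv.symm_apply_apply]

theorem irrTopEquiv_apply (G : Type u) [Group G] [Finite G] (χ : Cfsg.IrrCharacter G)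
    (g : ↥(⊤ : Subgroup G)) : ((irrTopEquiv G χ : Cfsg.IrrCharacter ↥(⊤ : Subgroup G)) :
      ↥(⊤ : Subgroup G) → ℂ) g = (χ : G → ℂ) (g : G) := rfl

/-- **FT** (helper6's skeleton for S4807): the frozen statement from the ambient main theorem. -/
theorem FT_result_of_main {G : Type u} [Group G] [Finite G] (p : ℕ) [Fact p.Prime]
    (hM : MainStmt G p)
    (hG : Cfsg.IsPSolvable p G) (L : Subgroup G) [L.Normal] (S : Sylow p G) (P : Subgroup G)
    (hP : P = L ⊔ (S : Subgroup G))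
    (hLN : L ≤ (Subgroup.normalizer ((P : Subgroup G) : Set G)))
    (ν : Cfsg.IrrCharacter ↥L)
    (hν : ∀ x ∈ P, Cfsg.IsConjCharOf L x (ν : ↥L → ℂ) (ν : ↥L → ℂ)) :
    Nat.card {χ : Cfsg.IrrCharacter G // ¬ p ∣ Cfsg.charDegree (χ : G → ℂ) ∧
      (∑ᶠ l : ↥L, (χ : G → ℂ) (l : G) * (starRingEnd ℂ) ((ν : ↥L → ℂ) l)) ≠ 0} =
    Nat.card {ψ : Cfsg.IrrCharacter ↥(Subgroup.normalizer ((P : Subgroup G) : Set G)) //
      ¬ p ∣ Cfsg.charDegree (ψ : ↥(Subgroup.normalizer ((P : Subgroup G) : Set G)) → ℂ) ∧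
      (∑ᶠ l : ↥L, (ψ : ↥(Subgroup.normalizer ((P : Subgroup G) : Set G)) → ℂ)
        (Subgroup.inclusion hLN l) * (starRingEnd ℂ) ((ν : ↥L → ℂ) l)) ≠ 0} := by
  classical
  have hLtop : L ≤ (⊤ : Subgroup G) := le_top
  -- the right-hand side is `pcnt p hLN ν`
  have hR : Nat.card {ψ : Cfsg.IrrCharacter ↥(Subgroup.normalizer ((P : Subgroup G) : Set G)) //
      ¬ p ∣ Cfsg.charDegree (ψ : ↥(Subgroup.normalizer ((P : Subgroup G) : Set G)) → ℂ) ∧
      (∑ᶠ l : ↥L, (ψ : ↥(Subgroup.normalizer ((P : Subgroup G) : Set G)) → ℂ)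
        (Subgroup.inclusion hLN l) * (starRingEnd ℂ) ((ν : ↥L → ℂ) l)) ≠ 0} =
      pcnt p hLN (ν : ↥L → ℂ) := by
    unfold pcnt
    apply Nat.card_congr
    apply Equiv.subtypeEquivRight
    intro ψ
    rw [ov_iff_finsum]
  -- the left-hand side is `pcnt p hLtop ν`
  have hL : Nat.card {χ : Cfsg.IrrCharacter G // ¬ p ∣ Cfsg.charDegree (χ : G → ℂ) ∧
      (∑ᶠ l : ↥L, (χ : G → ℂ) (l : G) * (starRingEnd ℂ) ((ν : ↥L → ℂ) l)) ≠ 0} =
      pcnt p hLtop (ν : ↥L → ℂ) := by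
    unfold pcnt
    apply Nat.card_congr
    refine Equiv.subtypeEquiv (irrTopEquiv G) ?_
    intro χ
    rw [ov_iff_finsum]
    have h1 : Cfsg.charDegree ((irrTopEquiv G χ : Cfsg.IrrCharacter ↥(⊤ : Subgroup G)) :
        ↥(⊤ : Subgroup G) → ℂ) = Cfsg.charDegree (χ : G → ℂ) := by
      unfold Cfsg.charDegree
      rw [irrTopEquiv_apply]
      rfl
    rw [h1]
    rfl
  rw [hL, hR]
  have hps : Cfsg.IsPSolvable p ↥(⊤ : Subgroup G) :=
    Cfsg.Agent.Lead.PSolvGL2.isPSolvable_of_injective (Subgroup.subtype ⊤)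
      (Subgroup.subtype_injective _) hG
  have hSP : (S : Subgroup G) ≤ P := by rw [hP]; exact le_sup_right
  refine hM ⊤ L (S : Subgroup G) (Subgroup.normalizer ((P : Subgroup G) : Set G)) hLtop hLN hps
    ?_ le_top S.isPGroup' ?_ ?_ (ν : ↥L → ℂ) ν.2 ?_
  · rw [Subgroup.normalizer_eq_top]
  · rw [Subgroup.relIndex_top_right]
    exact S.not_dvd_index
  · rw [top_inf_eq, hP]
  · intro x hx
    refine ⟨?_, hν x (hSP hx)⟩
    rw [Subgroup.normalizer_eq_top]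
    trivial

end Cfsg.Agent.Lead.RMcK
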