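import Mathlib
import Cfsg.Agent.Lead.RankThreeCent
import Cfsg.Agent.Lead.FourConnected
import Cfsg.Agent.Helper2.KleinSylow
import Cfsg.Agent.Helper2.ThompsonTransfer2
import Cfsg.Agent.Lead.SylowLemmas

set_option autoImplicit false

/-!
In a finite group of 2-rank at least three without subgroups of index two, every involution
centralizes an elementary abelian subgroup of order eight.
-/

namespace Cfsg.Agent.Lead.RankThreeCent

open Cfsg

variable {S : Type*} [Group S] [Finite S]

omit [Finite S] in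
theorem sup_zpowers_exp_two (U : Subgroup S) [U.Normal] (hU : ∀ u ∈ U, u ^ 2 = 1) (f : S)
    (hf2 : f ^ 2 = 1) (hcomm : ∀ v ∈ U, f * v = v * f) :
    ∀ x ∈ U ⊔ Subgroup.zpowers f, x ^ 2 = 1 := by
  intro x hx
  have : x ∈ ((U ⊔ Subgroup.zpowers f : Subgroup S) : Set S) := hx
  rw [Subgroup.normal_mul] at this
  obtain ⟨a, ha, b, hb, rfl⟩ := Set.mem_mul.1 this
  obtain ⟨k, rfl⟩ := Subgroup.mem_zpowers_iff.1 hb
  have hc : Commute a (f ^ k) := ((show Commute f a from hcomm a ha).zpow_left k).symm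
  rw [hc.mul_pow, hU a ha, one_mul, ← zpow_natCast, ← zpow_mul, mul_comm, zpow_mul, zpow_natCast,
    hf2, one_zpow]

theorem key (h2 : IsPGroup 2 S) (E : Subgroup S) (hE8 : Nat.card E = 8)
    (hE : ∀ e ∈ E, e ^ 2 = 1) :
    ∃ T : Subgroup S, (T = ⊤ ∨ T.index = 2) ∧ ∀ t ∈ T, t ^ 2 = 1 →
      ∃ E' : Subgroup S, E' ≤ Subgroup.centralizer ({t} : Set S) ∧ Nat.card E' = 8 ∧
        ∀ e ∈ E', e ^ 2 = 1 := by
  haveI : Fact (Nat.Prime 2) := ⟨Nat.prime_two⟩
  obtain ⟨U, hUn, hU4, hUsq⟩ := exists_normal_four h2 E hE8 hE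
  haveI := hUn
  have hK : IsKleinFour U :=
    Cfsg.Agent.Lead.isKleinFour_of_card_of_sq U hU4 (fun x hx => by rw [← pow_two]; exact hUsq x hx)
  have hUne : U ≠ ⊥ := by
    intro h
    rw [h, Subgroup.card_bot] at hU4
    omega
  obtain ⟨z, hzU, hz1, hzc⟩ := Cfsg.Agent.Helper5.exists_ne_one_mem_center_of_normal h2 U hUne
  obtain ⟨u, huU, hu1, huz⟩ : ∃ u ∈ U, u ≠ 1 ∧ u ≠ z := by
    obtain ⟨a, b, ha, hb, ha1, hb1, hab⟩ := Cfsg.Agent.Helper2.klein_elements U hK
    by_cases haz : a = z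
    · exact ⟨b, hb, hb1, fun h => hab (haz.trans h.symm)⟩
    · exact ⟨a, ha, ha1, haz⟩
  have hcases : ∀ w ∈ U, w = 1 ∨ w = z ∨ w = u ∨ w = z * u := fun w hw =>
    Cfsg.Agent.Helper2.klein_mem_cases U hK hzU huU hz1 hu1 (Ne.symm huz) hw
  obtain ⟨T, hT⟩ : ∃ T, T = Subgroup.centralizer (U : Set S) := ⟨_, rfl⟩
  have hmemT : ∀ x : S, x ∈ T ↔ x * u = u * x := by
    intro x
    rw [hT, Subgroup.mem_centralizer_iff]
    constructor
    · intro h
      exact (h u huU).symm
    · intro h w hw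
      rcases hcases w hw with rfl | rfl | rfl | rfl
      · simp
      · exact (hzc x).symm
      · exact h.symm
      · rw [mul_assoc, ← h, ← mul_assoc, ← hzc x, mul_assoc]
  have hconj : ∀ s : S, s ∉ T → s * u * s⁻¹ = z * u := by
    intro s hs
    have hmem : s * u * s⁻¹ ∈ U := hUn.conj_mem u huU s
    rcases hcases _ hmem with h | h | h | h
    · exfalso
      apply hu1
      have : u = s⁻¹ * (s * u * s⁻¹) * s := by group
      rw [this, h]; group
    · exfalso
      apply huz
      have : u = s⁻¹ * (s * u * s⁻¹) * s := by group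
      rw [this, h, mul_assoc, ← hzc s, ← mul_assoc, inv_mul_cancel, one_mul]
    · exfalso
      apply hs
      rw [hmemT]
      calc s * u = s * u * s⁻¹ * s := by group
        _ = u * s := by rw [h]
    · exact h
  have hzz : z * z = 1 := by rw [← pow_two]; exact hUsq z hzU
  have hTidx : T = ⊤ ∨ T.index = 2 := by
    by_cases htop : T = ⊤
    · exact Or.inl htop
    · right
      obtain ⟨s₀, hs₀⟩ : ∃ s₀, s₀ ∉ T := by
        by_contra hcon
        push Not at hcon
        exact htop (eq_top_iff.2 fun x _ => hcon x)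
      rw [Subgroup.index_eq_two_iff]
      refine ⟨s₀, fun b => ?_⟩
      by_cases hb : b ∈ T
      · refine Or.inr ⟨hb, fun h => hs₀ ?_⟩
        have := T.mul_mem (T.inv_mem hb) h
        rwa [inv_mul_cancel_left] at this
      · refine Or.inl ⟨?_, hb⟩
        rw [hmemT]
        have h1 := hconj s₀ hs₀
        have h2' := hconj b hb
        calc b * s₀ * u = b * (s₀ * u * s₀⁻¹) * s₀ := by group
          _ = b * (z * u) * s₀ := by rw [h1]
          _ = z * (b * u * b⁻¹) * b * s₀ := by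
            rw [← mul_assoc b z u, hzc b]; group
          _ = u * (b * s₀) := by rw [h2', ← mul_assoc z z u, hzz, one_mul, mul_assoc]
  haveI hTn : T.Normal := by
    rcases hTidx with h | h
    · rw [h]; infer_instance
    · exact Subgroup.normal_of_index_eq_two h
  -- an elementary abelian subgroup of order 8 in `T`
  have hUT : U ≤ T := by
    rw [hT]
    intro a ha
    rw [Subgroup.mem_centralizer_iff]
    intro b hb
    exact comm_of_exp_two hUsq hb ha
  have hE' : ∃ E' : Subgroup S, E' ≤ T ∧ Nat.card E' = 8 ∧ ∀ e ∈ E', e ^ 2 = 1 := by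
    have hF : 4 ≤ Nat.card (T ⊓ E : Subgroup S) := by
      have hd : T.relIndex E ∣ T.index := Subgroup.relIndex_dvd_index_of_normal T E
      have hle : T.relIndex E ≤ 2 := by
        rcases hTidx with h | h
        · have h1 : T.index = 1 := by rw [h]; exact Subgroup.index_top
          rw [h1] at hd
          exact le_trans (Nat.le_of_dvd one_pos hd) one_le_two
        · rw [h] at hd
          exact Nat.le_of_dvd two_pos hd
      have h3 := Cfsg.Agent.Helper1.relIndex_mul_card_of_le (inf_le_right : T ⊓ E ≤ E)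
      rw [Subgroup.inf_relIndex_right, hE8] at h3
      nlinarith
    by_cases hFU : T ⊓ E ≤ U
    · have hFeq : T ⊓ E = U := Subgroup.eq_of_le_of_card_ge hFU (by rw [hU4]; exact hF)
      have hUE : U ≤ E := hFeq ▸ inf_le_right
      refine ⟨E, ?_, hE8, hE⟩
      rw [hT]
      intro e he
      rw [Subgroup.mem_centralizer_iff]
      intro b hb
      exact comm_of_exp_two hE (hUE hb) he
    · obtain ⟨f, hf, hfU⟩ := SetLike.not_le_iff_exists.1 hFU
      have hfc : ∀ v ∈ U, f * v = v * f := by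
        intro v hv
        have hfT : f ∈ T := hf.1
        rw [hT, Subgroup.mem_centralizer_iff] at hfT
        exact (hfT v hv).symm
      refine ⟨U ⊔ Subgroup.zpowers f, ?_, ?_, ?_⟩
      · apply sup_le hUT
        rw [Subgroup.zpowers_le]; exact hf.1
      · rw [Cfsg.Agent.Lead.E32.card_sup_zpowers U f
          (by rw [← pow_two]; exact hE f hf.2) hfU hfc, hU4]
      · exact sup_zpowers_exp_two U hUsq f (hE f hf.2) hfc
  obtain ⟨E', hE'T, hE'8, hE'sq⟩ := hE'
  refine ⟨T, hTidx, ?_⟩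
  intro t ht ht2
  by_cases htU : t ∈ U
  · refine ⟨E', ?_, hE'8, hE'sq⟩
    intro e he
    rw [Subgroup.mem_centralizer_singleton_iff]
    have := hE'T he
    rw [hT, Subgroup.mem_centralizer_iff] at this
    exact (this t htU).symm
  · have htc : ∀ v ∈ U, t * v = v * t := by
      intro v hv
      rw [hT, Subgroup.mem_centralizer_iff] at ht
      exact (ht v hv).symm
    refine ⟨U ⊔ Subgroup.zpowers t, ?_, ?_, ?_⟩
    · apply sup_le
      · intro v hv
        rw [Subgroup.mem_centralizer_singleton_iff]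
        exact (htc v hv).symm
      · rw [Subgroup.zpowers_le, Subgroup.mem_centralizer_singleton_iff]
    · rw [Cfsg.Agent.Lead.E32.card_sup_zpowers U t (by rw [← pow_two]; exact ht2) htU htc, hU4]
    · exact sup_zpowers_exp_two U hUsq t ht2 htc

theorem main {G : Type*} [Group G] [Finite G] (hno : ∀ H : Subgroup G, H.index ≠ 2)
    (hrank : ∃ E : Subgroup G, Nat.card E = 8 ∧ ∀ e ∈ E, e ^ 2 = 1) (x : G) (hx : orderOf x = 2) :
    ∃ E : Subgroup G, E ≤ Subgroup.centralizer ({x} : Set G) ∧ Nat.card E = 8 ∧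
      ∀ e ∈ E, e ^ 2 = 1 := by
  haveI : Fact (Nat.Prime 2) := ⟨Nat.prime_two⟩
  obtain ⟨E, hE8, hEsq⟩ := hrank
  have hEp : IsPGroup 2 ↥E := IsPGroup.of_card (n := 3) (by rw [hE8]; norm_num)
  obtain ⟨P, hEP⟩ := hEp.exists_le_sylow
  -- work inside `P`
  have h2P : IsPGroup 2 ↥(P : Subgroup G) := P.2
  have hE8' : Nat.card (E.subgroupOf (P : Subgroup G)) = 8 := by
    rw [Cfsg.Agent.Lead.card_subgroupOf_of_le hEP, hE8]
  have hEsq' : ∀ e ∈ E.subgroupOf (P : Subgroup G), e ^ 2 = 1 := by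
    intro e he
    apply Subtype.ext
    have := hEsq (e : G) (Subgroup.mem_subgroupOf.1 he)
    simpa using this
  obtain ⟨T₀, hT₀idx, hT₀⟩ := key h2P (E.subgroupOf (P : Subgroup G)) hE8' hEsq'
  -- conjugate `x` into `P`
  have hxp : IsPGroup 2 ↥(Subgroup.zpowers x) :=
    IsPGroup.of_card (n := 1) (by rw [Nat.card_zpowers, hx, pow_one])
  obtain ⟨g, hg⟩ := Cfsg.Agent.Lead.exists_conj_le_sylow P (Subgroup.zpowers x) hxp
  have hx₁P : g * x * g⁻¹ ∈ (P : Subgroup G) := by
    apply hg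
    exact ⟨x, Subgroup.mem_zpowers x, by simp [MulAut.conj_apply]⟩
  have hx₁o : orderOf (g * x * g⁻¹) = 2 := by
    rw [← hx]
    exact orderOf_injective (MulAut.conj g).toMonoidHom (MulAut.conj g).injective x
  -- conjugate into `T`
  have hconjT : ∃ h : G, h * (g * x * g⁻¹) * h⁻¹ ∈ T₀.map (P : Subgroup G).subtype := by
    rcases hT₀idx with htop | hidx
    · refine ⟨1, ?_⟩
      rw [htop]
      refine ⟨⟨g * x * g⁻¹, hx₁P⟩, Subgroup.mem_top _, ?_⟩
      simp
    · have hrel : (T₀.map (P : Subgroup G).subtype).relIndex (P : Subgroup G) = 2 := by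
        unfold Subgroup.relIndex Subgroup.subgroupOf
        rw [Subgroup.comap_map_eq_self_of_injective (P : Subgroup G).subtype_injective]
        exact hidx
      rcases Cfsg.Agent.Helper2.thompson_transfer_classical P _ hrel (g * x * g⁻¹) hx₁o with
        ⟨M, -, hM2, -⟩ | h
      · exact absurd hM2 (hno M)
      · exact h
  obtain ⟨h, t, htT, hteq⟩ := hconjT
  have ht2 : t ^ 2 = 1 := by
    apply Subtype.ext
    have h1 : ((t ^ 2 : ↥(P : Subgroup G)) : G) = (h * (g * x * g⁻¹) * h⁻¹) ^ 2 := by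
      rw [← hteq]; simp
    have hx2 : x ^ 2 = 1 := by
      have := pow_orderOf_eq_one x
      rwa [hx] at this
    rw [h1, conj_pow, conj_pow, hx2]
    simp
  obtain ⟨E', hE'c, hE'8, hE'sq⟩ := hT₀ t htT ht2
  obtain ⟨k, hk⟩ : ∃ k : G, k = h * g := ⟨_, rfl⟩
  have htk : ((t : ↥(P : Subgroup G)) : G) = k * x * k⁻¹ := by
    have : (P : Subgroup G).subtype t = (t : G) := rfl
    rw [← this, hteq, hk]; group
  refine ⟨(E'.map (P : Subgroup G).subtype).map (MulAut.conj k⁻¹).toMonoidHom, ?_, ?_, ?_⟩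
  · rintro _ ⟨_, ⟨e, he, rfl⟩, rfl⟩
    rw [Subgroup.mem_centralizer_singleton_iff]
    have h1 := hE'c he
    rw [Subgroup.mem_centralizer_singleton_iff] at h1
    have h2 : (e : G) * (t : G) = ((t : ↥(P : Subgroup G)) : G) * (e : G) := by
      have := congrArg Subtype.val h1
      simpa using this
    rw [htk] at h2
    simp only [MulEquiv.coe_toMonoidHom, MulAut.conj_apply, Subgroup.coe_subtype, inv_inv]
    calc k⁻¹ * (e : G) * k * x = k⁻¹ * ((e : G) * (k * x * k⁻¹)) * k := by group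
      _ = k⁻¹ * (k * x * k⁻¹ * (e : G)) * k := by rw [h2]
      _ = x * (k⁻¹ * (e : G) * k) := by group
  · rw [Subgroup.card_map_of_injective (MulAut.conj k⁻¹).injective,
      Subgroup.card_map_of_injective (P : Subgroup G).subtype_injective, hE'8]
  · rintro _ ⟨_, ⟨e, he, rfl⟩, rfl⟩
    rw [← map_pow, ← map_pow, hE'sq e he, map_one, map_one]

end Cfsg.Agent.Lead.RankThreeCent
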