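import Mathlib
import Cfsg.Agent.Lead.RealSimpleA

set_option autoImplicit false

namespace Cfsg.Agent.Lead.RealSimple

open Cfsg Cfsg.FusionSystem

variable {Ω : Type*} [Group Ω] {S : Subgroup Ω} {G : Type*} [Group G] (ι : S →* G)

theorem subSys_invariant (F : FusionSystem S) (hι : F.IsRealizedBy ι) (N : Subgroup G)
    [hN : N.Normal] :
    ∀ (P : Subgroup Ω) (hPT : P ≤ pre ι N) (φ : P →* Ω), φ ∈ (subSys ι hι.1 N).Hom P →
      ∀ α ∈ F.autGroup (pre ι N),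
      ∃ χ ∈ (subSys ι hι.1 N).Hom
          ((P.subgroupOf (pre ι N)).map ((pre ι N).subtype.comp α.toMonoidHom)),
        ∀ (x : P) (hφx : φ x ∈ pre ι N)
          (hαx : ((α ⟨x, hPT x.2⟩ : pre ι N) : Ω) ∈
            (P.subgroupOf (pre ι N)).map ((pre ι N).subtype.comp α.toMonoidHom)),
          χ ⟨(α ⟨x, hPT x.2⟩ : pre ι N), hαx⟩ = ((α ⟨φ x, hφx⟩ : pre ι N) : Ω) := by
  rintro P hPT φ ⟨hP, hφ, n, hn, h⟩ α hα
  obtain ⟨g, hg⟩ := exists_of_mem_autGroup ι F hι (pre ι N) (pre_le ι N) α hα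
  obtain ⟨β, hβ⟩ : ∃ β : pre ι N →* Ω, β = (pre ι N).subtype.comp α.toMonoidHom := ⟨_, rfl⟩
  have hβapp : ∀ t : pre ι N, β t = ((α t : pre ι N) : Ω) := fun t => by rw [hβ]; rfl
  have hβinj : Function.Injective β := by
    intro a b hab
    rw [hβapp, hβapp] at hab
    exact α.injective (Subtype.ext hab)
  rw [← hβ]
  let e := (P.subgroupOf (pre ι N)).equivMapOfInjective β hβinj
  let r : ↥((P.subgroupOf (pre ι N)).map β) →* P :=
    (Subgroup.subgroupOfEquivOfLe hPT).toMonoidHom.comp e.symm.toMonoidHom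
  have hkey : ∀ y : ↥((P.subgroupOf (pre ι N)).map β),
      (y : Ω) = ((α ⟨r y, hPT (r y).2⟩ : pre ι N) : Ω) := by
    intro y
    have h1 := e.apply_symm_apply y
    have h2 : β ((e.symm y : ↥(P.subgroupOf (pre ι N))) : pre ι N) = (y : Ω) := by
      have := congrArg Subtype.val h1
      rw [Subgroup.coe_equivMapOfInjective_apply] at this
      exact this
    rw [← h2, hβapp]
    rfl
  have hrx : ∀ (x : P) (hαx : ((α ⟨x, hPT x.2⟩ : pre ι N) : Ω) ∈ (P.subgroupOf (pre ι N)).map β),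
      r ⟨(α ⟨x, hPT x.2⟩ : pre ι N), hαx⟩ = x := by
    intro x hαx
    have h1 := hkey ⟨(α ⟨x, hPT x.2⟩ : pre ι N), hαx⟩
    have h2 : (⟨x, hPT x.2⟩ : pre ι N) = ⟨r ⟨(α ⟨x, hPT x.2⟩ : pre ι N), hαx⟩, hPT (r _).2⟩ :=
      α.injective (Subtype.ext h1)
    have h3 : (x : Ω) = (r ⟨(α ⟨x, hPT x.2⟩ : pre ι N), hαx⟩ : P) :=
      congrArg (fun z : pre ι N => (z : Ω)) h2
    exact Subtype.ext h3.symm
  refine ⟨β.comp ((φ.codRestrict (pre ι N) hφ).comp r), ⟨?_, ?_, g * n * g⁻¹, ?_, ?_⟩, ?_⟩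
  · rintro _ ⟨t, -, rfl⟩
    rw [hβapp]; exact (α t).2
  · intro y
    show β _ ∈ pre ι N
    rw [hβapp]; exact (α _).2
  · exact hN.conj_mem n hn g
  · intro y
    have e1 : ι ⟨(β.comp ((φ.codRestrict (pre ι N) hφ).comp r)) y,
        pre_le ι N (by show β _ ∈ pre ι N; rw [hβapp]; exact (α _).2)⟩ =
        g * ι ⟨φ (r y), pre_le ι N (hφ (r y))⟩ * g⁻¹ := by
      rw [← hg ⟨φ (r y), hφ (r y)⟩]
      apply map_congr
      show β _ = _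
      rw [hβapp]; rfl
    have e2 : ι ⟨(y : Ω), pre_le ι N (by
        obtain ⟨t, -, ht⟩ := y.2
        rw [← ht, hβapp]; exact (α t).2)⟩ = g * ι ⟨r y, pre_le ι N (hPT (r y).2)⟩ * g⁻¹ := by
      rw [← hg ⟨r y, hPT (r y).2⟩]
      exact map_congr ι (hkey y) _ _
    rw [e1, e2, h (r y)]
    group
  · intro x hφx hαx
    show β ⟨φ (r ⟨(α ⟨x, hPT x.2⟩ : pre ι N), hαx⟩), _⟩ = _
    rw [hβapp]
    congr 2
    apply Subtype.ext
    show φ (r ⟨(α ⟨x, hPT x.2⟩ : pre ι N), hαx⟩) = φ x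
    rw [hrx x hαx]


/-- membership in the image of `ι⁻¹(N)`, written with a Sylow subgroup of `N` -/
theorem mem_map_sylow_iff {p : ℕ} [Fact p.Prime] (N : Subgroup G) (Q : Sylow p N)
    (hQ : (Q : Subgroup N) = (resHom ι N).range) (x : G) :
    x ∈ (Q : Subgroup N).map N.subtype ↔ ∃ t : pre ι N, ι ⟨t, pre_le ι N t.2⟩ = x := by
  rw [hQ]
  constructor
  · rintro ⟨y, ⟨t, rfl⟩, rfl⟩
    exact ⟨t, rfl⟩
  · rintro ⟨t, rfl⟩
    exact ⟨resHom ι N t, ⟨t, rfl⟩, rfl⟩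

theorem subSys_frattini [Finite G] (p : ℕ) [Fact p.Prime] (F : FusionSystem S)
    (hι : F.IsRealizedBy ι) (N : Subgroup G) [hN : N.Normal] (T : Sylow p G)
    (hT : (T : Subgroup G) = ι.range) :
    ∀ (P : Subgroup Ω), P ≤ pre ι N → ∀ (φ : P →* Ω), φ ∈ F.Hom P →
      ∃ α ∈ F.autGroup (pre ι N), ∃ φ₀ ∈ (subSys ι hι.1 N).Hom P,
        ∀ (x : P) (hx : φ₀ x ∈ pre ι N), φ x = ((α ⟨φ₀ x, hx⟩ : pre ι N) : Ω) := by
  intro P hPT φ hφ
  have hPS := hPT.trans (pre_le ι N)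
  have hφS : ∀ x : P, φ x ∈ S := Fusion.map_mem F hφ
  obtain ⟨g, hg⟩ := (hι.2 P hPS φ hφS).1 hφ
  obtain ⟨Q, hQ⟩ := exists_sylow_resHom ι p N T hT
  have hQG := mem_map_sylow_iff ι N Q hQ
  have htop := Sylow.normalizer_sup_eq_top Q
  have hgmem : g ∈ Subgroup.normalizer (((Q : Subgroup N).map N.subtype : Subgroup G) : Set G) ⊔ N := by
    rw [htop]; trivial
  rw [← SetLike.mem_coe, Subgroup.mul_normal, Set.mem_mul] at hgmem
  obtain ⟨a, ha, n, hn, rfl⟩ := hgmem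
  have ha' : ∀ x : G, x ∈ (Q : Subgroup N).map N.subtype →
      a * x * a⁻¹ ∈ (Q : Subgroup N).map N.subtype := fun x hx =>
    (Subgroup.mem_normalizer_iff.1 ha x).1 hx
  have hainv : a⁻¹ ∈ Subgroup.normalizer (((Q : Subgroup N).map N.subtype : Subgroup G) : Set G) :=
    Subgroup.inv_mem _ ha
  have ha'' : ∀ x : G, x ∈ (Q : Subgroup N).map N.subtype →
      a⁻¹ * x * a ∈ (Q : Subgroup N).map N.subtype := fun x hx => by
    have := (Subgroup.mem_normalizer_iff.1 hainv x).1 hx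
    rwa [inv_inv] at this
  have hφT : ∀ x : P, φ x ∈ pre ι N := (pre_stronglyClosed ι F hι N).2 P hPT φ hφ
  have key : ∀ x : P, ∃ t : pre ι N, ι ⟨t, pre_le ι N t.2⟩ = n * ι ⟨x, hPS x.2⟩ * n⁻¹ := by
    intro x
    rw [← hQG]
    have h1 : ι ⟨φ x, hφS x⟩ ∈ (Q : Subgroup N).map N.subtype := (hQG _).2 ⟨⟨φ x, hφT x⟩, rfl⟩
    have h2 := ha'' _ h1
    rw [hg x] at h2
    have : a⁻¹ * (a * n * ι ⟨x, hPS x.2⟩ * (a * n)⁻¹) * a = n * ι ⟨x, hPS x.2⟩ * n⁻¹ := by group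
    rwa [this] at h2
  have hnr : ∀ x : P, n * ι ⟨x, hPS x.2⟩ * n⁻¹ ∈ ι.range := by
    intro x
    obtain ⟨t, ht⟩ := key x
    exact ⟨_, ht⟩
  have h1 : ∀ x : pre ι N, ∃ y : pre ι N,
      ι ⟨y, pre_le ι N y.2⟩ = a * ι ⟨x, pre_le ι N x.2⟩ * a⁻¹ := by
    intro x
    rw [← hQG]
    exact ha' _ ((hQG _).2 ⟨x, rfl⟩)
  have h2 : ∀ x : pre ι N, ∃ y : pre ι N,
      ι ⟨y, pre_le ι N y.2⟩ = a⁻¹ * ι ⟨x, pre_le ι N x.2⟩ * a := by
    intro x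
    rw [← hQG]
    exact ha'' _ ((hQG _).2 ⟨x, rfl⟩)
  have hφ₀T : ∀ x : P, realHom ι hι.1 P hPS n hnr x ∈ pre ι N := by
    intro x
    rw [mem_pre]
    refine ⟨realHom_mem ι hι.1 P hPS n hnr x, ?_⟩
    rw [map_realHom]
    exact hN.conj_mem _ (map_mem_of_mem_pre ι (hPT x.2)) n
  refine ⟨realAut ι hι.1 (pre ι N) (pre_le ι N) a h1 h2,
    realAut_mem_autGroup ι F hι (pre ι N) (pre_le ι N) a h1 h2,
    realHom ι hι.1 P hPS n hnr, ⟨hPT, hφ₀T, n, hn, fun x => map_realHom ι hι.1 P hPS n hnr x⟩, ?_⟩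
  intro x hx
  have e1 : ι ⟨φ x, hφS x⟩ = ι ⟨((realAut ι hι.1 (pre ι N) (pre_le ι N) a h1 h2
      ⟨realHom ι hι.1 P hPS n hnr x, hx⟩ : pre ι N) : Ω), pre_le ι N (Subtype.property _)⟩ := by
    rw [map_realAut ι hι.1 (pre ι N) (pre_le ι N) a h1 h2 ⟨realHom ι hι.1 P hPS n hnr x, hx⟩]
    rw [hg x]
    have := map_realHom ι hι.1 P hPS n hnr x
    rw [this]
    group
  have e2 := hι.1 e1
  exact congrArg (fun z : S => (z : Ω)) e2

end Cfsg.Agent.Lead.RealSimple
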