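import Mathlib
import Cfsg.Agent.Lead.RealSimpleB
import Cfsg.Agent.Lead.SylowLemmas
import Cfsg.Agent.Lead.FusionMorph3
import Cfsg.Agent.Helper1.Coprime

set_option autoImplicit false

namespace Cfsg.Agent.Lead.RealSimple

open Cfsg Cfsg.FusionSystem

section GroupTheory

variable {G : Type*} [Group G]

/-- conjugating the centralizer of `A` by an element whose inverse conjugation preserves `A` -/
theorem conj_mem_centralizer {A : Subgroup G} {g x : G} (hg : ∀ a ∈ A, g⁻¹ * a * g ∈ A)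
    (hx : x ∈ Subgroup.centralizer (A : Set G)) :
    g * x * g⁻¹ ∈ Subgroup.centralizer (A : Set G) := by
  rw [Subgroup.mem_centralizer_iff] at hx ⊢
  intro a ha
  have h1 := hx _ (hg a ha)
  -- h1 : g⁻¹ * a * g * x = x * (g⁻¹ * a * g)
  calc a * (g * x * g⁻¹) = g * ((g⁻¹ * a * g) * x) * g⁻¹ := by group
    _ = g * (x * (g⁻¹ * a * g)) * g⁻¹ := by rw [h1]
    _ = g * x * g⁻¹ * a := by group

theorem ext_group [Finite G] {p : ℕ} [Fact p.Prime] (R : Sylow p G)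
    (N : Subgroup G) [hN : N.Normal] (n : G) (hn : n ∈ N)
    (hnA : ∀ x ∈ (R : Subgroup G) ⊓ N, n * x * n⁻¹ ∈ (R : Subgroup G) ⊓ N)
    (hnA' : ∀ x ∈ (R : Subgroup G) ⊓ N, n⁻¹ * x * n ∈ (R : Subgroup G) ⊓ N) :
    ∃ n' ∈ N, (∀ x ∈ (R : Subgroup G) ⊓ N, n' * x * n'⁻¹ = n * x * n⁻¹) ∧
      (∀ d ∈ (R : Subgroup G) ⊓ Subgroup.centralizer (((R : Subgroup G) ⊓ N : Subgroup G) : Set G),
        n' * d * n'⁻¹ ∈ (R : Subgroup G) ⊓
          Subgroup.centralizer (((R : Subgroup G) ⊓ N : Subgroup G) : Set G)) ∧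
      (∀ d ∈ (R : Subgroup G) ⊓ Subgroup.centralizer (((R : Subgroup G) ⊓ N : Subgroup G) : Set G),
        n'⁻¹ * d * n' ∈ (R : Subgroup G) ⊓
          Subgroup.centralizer (((R : Subgroup G) ⊓ N : Subgroup G) : Set G)) := by
  obtain ⟨A, hA⟩ : ∃ A : Subgroup G, A = (R : Subgroup G) ⊓ N := ⟨_, rfl⟩
  rw [← hA] at hnA hnA' ⊢
  obtain ⟨D, hD⟩ : ∃ D : Subgroup G, D = (R : Subgroup G) ⊓ Subgroup.centralizer (A : Set G) :=
    ⟨_, rfl⟩
  rw [← hD]
  obtain ⟨K₀, hK₀⟩ : ∃ K₀ : Subgroup G, K₀ = N ⊓ Subgroup.centralizer (A : Set G) := ⟨_, rfl⟩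
  have hAR : A ≤ R := hA ▸ inf_le_left
  have hAN : A ≤ N := hA ▸ inf_le_right
  have hDR : D ≤ R := hD ▸ inf_le_left
  have hDC : D ≤ Subgroup.centralizer (A : Set G) := hD ▸ inf_le_right
  -- R normalizes A
  have hRA : ∀ r ∈ (R : Subgroup G), ∀ a ∈ A, r * a * r⁻¹ ∈ A := by
    intro r hr a ha
    rw [hA] at ha ⊢
    exact ⟨(R : Subgroup G).mul_mem ((R : Subgroup G).mul_mem hr ha.1) ((R : Subgroup G).inv_mem hr),
      hN.conj_mem a ha.2 r⟩
  have hRA' : ∀ r ∈ (R : Subgroup G), ∀ a ∈ A, r⁻¹ * a * r ∈ A := by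
    intro r hr a ha
    have := hRA r⁻¹ ((R : Subgroup G).inv_mem hr) a ha
    rwa [inv_inv] at this
  have hRnormC : (R : Subgroup G) ≤
      Subgroup.normalizer ((Subgroup.centralizer (A : Set G) : Subgroup G) : Set G) := by
    intro r hr
    rw [Subgroup.mem_normalizer_iff]
    intro x
    constructor
    · intro hx
      exact conj_mem_centralizer (hRA' r hr) hx
    · intro hx
      have h1 : ∀ a ∈ A, (r⁻¹)⁻¹ * a * r⁻¹ ∈ A := fun a ha => by
        rw [inv_inv]; exact hRA r hr a ha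
      have := conj_mem_centralizer h1 hx
      have e : r⁻¹ * (r * x * r⁻¹) * r⁻¹⁻¹ = x := by group
      rwa [e] at this
  have hRnormK : (R : Subgroup G) ≤ Subgroup.normalizer (K₀ : Set G) := by
    rw [hK₀]
    exact Cfsg.Agent.Helper1.le_normalizer_inf (fun r _ => by
      rw [Subgroup.normalizer_eq_top]; trivial) hRnormC
  have hDp : IsPGroup p D := R.isPGroup'.to_le hDR
  -- n D n⁻¹ ≤ R ⊔ K₀
  have hBle : D.map (MulAut.conj n).toMonoidHom ≤ (R : Subgroup G) ⊔ K₀ := by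
    rintro _ ⟨d, hd, rfl⟩
    simp only [MulEquiv.coe_toMonoidHom, MulAut.conj_apply]
    have e : n * d * n⁻¹ = d * (d⁻¹ * n * d * n⁻¹) := by group
    rw [e]
    refine Subgroup.mul_mem_sup (hDR hd) ?_
    rw [hK₀]
    constructor
    · have h1 : d⁻¹ * n * d ∈ N := by
        have := hN.conj_mem n hn d⁻¹
        rwa [inv_inv] at this
      exact N.mul_mem h1 (N.inv_mem hn)
    · -- centralizes A
      show d⁻¹ * n * d * n⁻¹ ∈ Subgroup.centralizer (A : Set G)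
      rw [Subgroup.mem_centralizer_iff]
      intro a ha
      have hdc := Subgroup.mem_centralizer_iff.1 (hDC hd)
      have h1 := hdc _ (hnA' a ha)
      have h2 := hdc a ha
      -- h1 : n⁻¹ a n * d = d * (n⁻¹ a n); h2 : a * d = d * a
      have h3 : d⁻¹ * a = a * d⁻¹ := by
        calc d⁻¹ * a = d⁻¹ * (a * d) * d⁻¹ := by group
          _ = d⁻¹ * (d * a) * d⁻¹ := by rw [h2]
          _ = a * d⁻¹ := by group
      calc a * (d⁻¹ * n * d * n⁻¹) = (a * d⁻¹) * n * d * n⁻¹ := by group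
        _ = (d⁻¹ * a) * n * d * n⁻¹ := by rw [h3]
        _ = d⁻¹ * n * ((n⁻¹ * a * n) * d) * n⁻¹ := by group
        _ = d⁻¹ * n * (d * (n⁻¹ * a * n)) * n⁻¹ := by rw [h1]
        _ = d⁻¹ * n * d * n⁻¹ * a := by group
  have hRcard : Nat.card (R : Subgroup G) = p ^ (Nat.card (⊤ : Subgroup G)).factorization p := by
    rw [Subgroup.card_top]; exact R.card_eq_multiplicity
  obtain ⟨k, hk, hkB⟩ := exists_conj_le_of_le_sup (p := p) (A := ⊤) (R := (R : Subgroup G))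
    (K := K₀) (B := D.map (MulAut.conj n).toMonoidHom) le_top hRcard le_top hRnormK R.isPGroup'
    (hDp.map _) hBle
  have hkN : k ∈ N := (hK₀ ▸ hk : k ∈ N ⊓ Subgroup.centralizer (A : Set G)).1
  have hkC : k ∈ Subgroup.centralizer (A : Set G) :=
    (hK₀ ▸ hk : k ∈ N ⊓ Subgroup.centralizer (A : Set G)).2
  have hkc := Subgroup.mem_centralizer_iff.1 hkC
  -- conjugation by k fixes elements of A
  have hkfix : ∀ a ∈ A, k * a * k⁻¹ = a := by
    intro a ha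
    have := hkc a ha
    calc k * a * k⁻¹ = (a * k) * k⁻¹ := by rw [this]
      _ = a := by group
  have hkfix' : ∀ a ∈ A, k⁻¹ * a * k = a := by
    intro a ha
    have := hkc a ha
    calc k⁻¹ * a * k = k⁻¹ * (a * k) := by group
      _ = k⁻¹ * (k * a) := by rw [this]
      _ = a := by group
  have hn'A' : ∀ a ∈ A, (k * n)⁻¹ * a * (k * n) ∈ A := by
    intro a ha
    have e : (k * n)⁻¹ * a * (k * n) = n⁻¹ * (k⁻¹ * a * k) * n := by group
    rw [e, hkfix' a ha]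
    exact hnA' a ha
  have hfwd : ∀ d ∈ D, (k * n) * d * (k * n)⁻¹ ∈ D := by
    intro d hd
    rw [hD]
    constructor
    · have : (k * n) * d * (k * n)⁻¹ = k * (n * d * n⁻¹) * k⁻¹ := by group
      rw [this]
      apply hkB
      exact ⟨n * d * n⁻¹, ⟨d, hd, rfl⟩, rfl⟩
    · exact conj_mem_centralizer hn'A' (hDC hd)
  refine ⟨k * n, N.mul_mem hkN hn, ?_, hfwd, ?_⟩
  · intro x hx
    have e : (k * n) * x * (k * n)⁻¹ = k * (n * x * n⁻¹) * k⁻¹ := by group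
    rw [e, hkfix _ (hnA x hx)]
  · -- the reverse direction by cardinality
    have hle : D.map (MulAut.conj (k * n)).toMonoidHom ≤ D := by
      rintro _ ⟨d, hd, rfl⟩
      exact hfwd d hd
    have heq : D.map (MulAut.conj (k * n)).toMonoidHom = D := by
      apply Subgroup.eq_of_le_of_card_ge hle
      rw [card_map_conj]
    intro d hd
    rw [← heq] at hd
    obtain ⟨d', hd', hdd⟩ := hd
    simp only [MulEquiv.coe_toMonoidHom, MulAut.conj_apply] at hdd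
    rw [← hdd]
    have e : (k * n)⁻¹ * (k * n * d' * (k * n)⁻¹) * (k * n) = d' := by group
    rw [e]; exact hd'

end GroupTheory


section Images

variable {Ω : Type*} [Group Ω] {S : Subgroup Ω} {G : Type*} [Group G] (ι : S →* G)

/-- the image in `G` of a subgroup `P ≤ S` -/
def img (P : Subgroup Ω) : Subgroup G := (P.subgroupOf S).map ι

theorem mem_img {P : Subgroup Ω} (hP : P ≤ S) (y : G) :
    y ∈ img ι P ↔ ∃ u : P, ι ⟨u, hP u.2⟩ = y := by
  unfold img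
  constructor
  · rintro ⟨s, hs, rfl⟩
    exact ⟨⟨s.1, hs⟩, rfl⟩
  · rintro ⟨u, rfl⟩
    exact ⟨⟨u, hP u.2⟩, u.2, rfl⟩

theorem img_sup {P Q : Subgroup Ω} (hP : P ≤ S) (hQ : Q ≤ S) :
    img ι (P ⊔ Q) = img ι P ⊔ img ι Q := by
  unfold img
  rw [Subgroup.subgroupOf_sup hP hQ, Subgroup.map_sup]

theorem img_pre (N : Subgroup G) : img ι (pre ι N) = ι.range ⊓ N := by
  ext y
  rw [mem_img ι (pre_le ι N)]
  constructor
  · rintro ⟨u, rfl⟩
    exact ⟨⟨_, rfl⟩, map_mem_of_mem_pre ι u.2⟩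
  · rintro ⟨⟨s, rfl⟩, hs⟩
    exact ⟨⟨s.1, (mem_pre ι).2 ⟨s.2, hs⟩⟩, rfl⟩

theorem img_centralizerIn (hinj : Function.Injective ι) {T : Subgroup Ω} (hT : T ≤ S) :
    img ι (centralizerIn S T) = ι.range ⊓ Subgroup.centralizer ((img ι T : Subgroup G) : Set G) := by
  have hCS : centralizerIn S T ≤ S := inf_le_left
  ext y
  rw [mem_img ι hCS]
  constructor
  · rintro ⟨u, rfl⟩
    refine ⟨⟨_, rfl⟩, ?_⟩
    show ι ⟨u, hCS u.2⟩ ∈ Subgroup.centralizer ((img ι T : Subgroup G) : Set G)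
    rw [Subgroup.mem_centralizer_iff]
    intro h hh
    obtain ⟨t, rfl⟩ := (mem_img ι hT h).1 hh
    have hu : (u : Ω) ∈ Subgroup.centralizer (T : Set Ω) := u.2.2
    have h1 := Subgroup.mem_centralizer_iff.1 hu t t.2
    rw [← map_mul, ← map_mul]
    congr 1
    exact Subtype.ext h1
  · rintro ⟨⟨s, rfl⟩, hs⟩
    refine ⟨⟨s.1, s.2, ?_⟩, rfl⟩
    show (s : Ω) ∈ Subgroup.centralizer (T : Set Ω)
    rw [Subgroup.mem_centralizer_iff]
    intro t ht
    have hs' : ι s ∈ Subgroup.centralizer ((img ι T : Subgroup G) : Set G) := hs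
    have h1 := Subgroup.mem_centralizer_iff.1 hs' (ι ⟨t, hT ht⟩) ((mem_img ι hT _).2 ⟨⟨t, ht⟩, rfl⟩)
    rw [← map_mul, ← map_mul] at h1
    have h2 := hinj h1
    exact congrArg (fun z : S => (z : Ω)) h2

end Images


section Extension

variable {Ω : Type*} [Group Ω] {S : Subgroup Ω} {G : Type*} [Group G] (ι : S →* G)

theorem subSys_extension [Finite G] (p : ℕ) [Fact p.Prime] (F : FusionSystem S)
    (hι : F.IsRealizedBy ι) (N : Subgroup G) [hN : N.Normal] (T₀ : Sylow p G)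
    (hT : (T₀ : Subgroup G) = ι.range) :
    ∀ α ∈ (subSys ι hι.1 N).autGroup (pre ι N),
      ∃ β ∈ F.autGroup (pre ι N ⊔ centralizerIn S (pre ι N)),
        (∀ x : pre ι N, ((β (Subgroup.inclusion le_sup_left x) :
          ↥(pre ι N ⊔ centralizerIn S (pre ι N))) : Ω) = ((α x : pre ι N) : Ω)) ∧
        ∀ c : ↥(pre ι N ⊔ centralizerIn S (pre ι N)), (c : Ω) ∈ centralizerIn S (pre ι N) →
          (c : Ω)⁻¹ * ((β c : ↥(pre ι N ⊔ centralizerIn S (pre ι N))) : Ω) ∈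
            pre ι N ⊓ Subgroup.centralizer (pre ι N : Set Ω) := by
  intro α hα
  have hTS := pre_le ι N
  have hCS : centralizerIn S (pre ι N) ≤ S := inf_le_left
  have hUS : pre ι N ⊔ centralizerIn S (pre ι N) ≤ S := sup_le hTS hCS
  rw [Fusion.mem_autGroup_iff (subSys ι hι.1 N) (le_refl _)] at hα
  obtain ⟨hP, hφ, n, hn, h⟩ := hα
  have h' : ∀ x : pre ι N, ι ⟨(α x : pre ι N), hTS (α x).2⟩ = n * ι ⟨x, hTS x.2⟩ * n⁻¹ :=
    fun x => h x
  have hA : img ι (pre ι N) = (T₀ : Subgroup G) ⊓ N := by rw [img_pre, hT]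
  have hD : img ι (centralizerIn S (pre ι N)) = (T₀ : Subgroup G) ⊓
      Subgroup.centralizer (((T₀ : Subgroup G) ⊓ N : Subgroup G) : Set G) := by
    rw [img_centralizerIn ι hι.1 hTS, hA, hT]
  have hnA : ∀ x ∈ (T₀ : Subgroup G) ⊓ N, n * x * n⁻¹ ∈ (T₀ : Subgroup G) ⊓ N := by
    intro x hx
    rw [← hA] at hx ⊢
    obtain ⟨t, rfl⟩ := (mem_img ι hTS x).1 hx
    rw [← h' t]
    exact (mem_img ι hTS _).2 ⟨α t, rfl⟩
  have hnA' : ∀ x ∈ (T₀ : Subgroup G) ⊓ N, n⁻¹ * x * n ∈ (T₀ : Subgroup G) ⊓ N := by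
    intro x hx
    rw [← hA] at hx ⊢
    obtain ⟨t, rfl⟩ := (mem_img ι hTS x).1 hx
    have h1 := h' (α.symm t)
    have h2 : ι ⟨t, hTS t.2⟩ = n * ι ⟨(α.symm t : pre ι N), hTS (α.symm t).2⟩ * n⁻¹ := by
      rw [← h1]
      apply map_congr
      rw [MulEquiv.apply_symm_apply]
    rw [h2]
    have e : n⁻¹ * (n * ι ⟨(α.symm t : pre ι N), hTS (α.symm t).2⟩ * n⁻¹) * n =
        ι ⟨(α.symm t : pre ι N), hTS (α.symm t).2⟩ := by group
    rw [e]
    exact (mem_img ι hTS _).2 ⟨α.symm t, rfl⟩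
  obtain ⟨n', hn'N, hact, hfwd, hbwd⟩ := ext_group T₀ N n hn hnA hnA'
  rw [← hD] at hfwd hbwd
  rw [← hA] at hact hnA hnA'
  have hA_fwd : ∀ y ∈ img ι (pre ι N), n' * y * n'⁻¹ ∈ img ι (pre ι N) := fun y hy => by
    rw [hact y hy]; exact hnA y hy
  have hA_bwd : ∀ y ∈ img ι (pre ι N), n'⁻¹ * y * n' ∈ img ι (pre ι N) := by
    intro y hy
    have h1 := hnA' y hy
    have h2 := hact _ h1
    have h3 : n' * (n⁻¹ * y * n) * n'⁻¹ = y := by rw [h2]; group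
    have h4 : n'⁻¹ * y * n' = n⁻¹ * y * n := by
      calc n'⁻¹ * y * n' = n'⁻¹ * (n' * (n⁻¹ * y * n) * n'⁻¹) * n' := by rw [h3]
        _ = n⁻¹ * y * n := by group
    rw [h4]; exact h1
  have hU : img ι (pre ι N ⊔ centralizerIn S (pre ι N)) =
      img ι (pre ι N) ⊔ img ι (centralizerIn S (pre ι N)) := img_sup ι hTS hCS
  have hU_fwd : ∀ y ∈ img ι (pre ι N ⊔ centralizerIn S (pre ι N)),
      n' * y * n'⁻¹ ∈ img ι (pre ι N ⊔ centralizerIn S (pre ι N)) := by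
    intro y hy
    rw [hU] at hy ⊢
    have hle : (img ι (pre ι N) ⊔ img ι (centralizerIn S (pre ι N))).map
        (MulAut.conj n').toMonoidHom ≤ img ι (pre ι N) ⊔ img ι (centralizerIn S (pre ι N)) := by
      rw [Subgroup.map_sup]
      apply sup_le_sup
      · rintro _ ⟨z, hz, rfl⟩; exact hA_fwd z hz
      · rintro _ ⟨z, hz, rfl⟩; exact hfwd z hz
    exact hle ⟨y, hy, rfl⟩
  have hU_bwd : ∀ y ∈ img ι (pre ι N ⊔ centralizerIn S (pre ι N)),
      n'⁻¹ * y * n' ∈ img ι (pre ι N ⊔ centralizerIn S (pre ι N)) := by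
    intro y hy
    rw [hU] at hy ⊢
    have hle : (img ι (pre ι N) ⊔ img ι (centralizerIn S (pre ι N))).map
        (MulAut.conj n'⁻¹).toMonoidHom ≤ img ι (pre ι N) ⊔ img ι (centralizerIn S (pre ι N)) := by
      rw [Subgroup.map_sup]
      apply sup_le_sup
      · rintro _ ⟨z, hz, rfl⟩
        simp only [MulEquiv.coe_toMonoidHom, MulAut.conj_apply, inv_inv]
        exact hA_bwd z hz
      · rintro _ ⟨z, hz, rfl⟩
        simp only [MulEquiv.coe_toMonoidHom, MulAut.conj_apply, inv_inv]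
        exact hbwd z hz
    have := hle ⟨y, hy, rfl⟩
    simpa only [MulEquiv.coe_toMonoidHom, MulAut.conj_apply, inv_inv] using this
  have h1 : ∀ x : ↥(pre ι N ⊔ centralizerIn S (pre ι N)),
      ∃ y : ↥(pre ι N ⊔ centralizerIn S (pre ι N)),
        ι ⟨y, hUS y.2⟩ = n' * ι ⟨x, hUS x.2⟩ * n'⁻¹ := fun x =>
    (mem_img ι hUS _).1 (hU_fwd _ ((mem_img ι hUS _).2 ⟨x, rfl⟩))
  have h2 : ∀ x : ↥(pre ι N ⊔ centralizerIn S (pre ι N)),
      ∃ y : ↥(pre ι N ⊔ centralizerIn S (pre ι N)),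
        ι ⟨y, hUS y.2⟩ = n'⁻¹ * ι ⟨x, hUS x.2⟩ * n' := fun x =>
    (mem_img ι hUS _).1 (hU_bwd _ ((mem_img ι hUS _).2 ⟨x, rfl⟩))
  refine ⟨realAut ι hι.1 _ hUS n' h1 h2, realAut_mem_autGroup ι F hι _ hUS n' h1 h2, ?_, ?_⟩
  · intro x
    have e1 : ι ⟨(realAut ι hι.1 _ hUS n' h1 h2 (Subgroup.inclusion le_sup_left x) :
        ↥(pre ι N ⊔ centralizerIn S (pre ι N))), hUS (Subtype.property _)⟩ =
        ι ⟨(α x : pre ι N), hTS (α x).2⟩ := by
      rw [map_realAut ι hι.1 _ hUS n' h1 h2 (Subgroup.inclusion le_sup_left x), h' x]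
      exact hact _ ((mem_img ι hTS _).2 ⟨x, rfl⟩)
    exact congrArg (fun z : S => (z : Ω)) (hι.1 e1)
  · intro c hc
    obtain ⟨y, hy⟩ : ∃ y : Ω, y = (c : Ω)⁻¹ * ((realAut ι hι.1 _ hUS n' h1 h2 c :
        ↥(pre ι N ⊔ centralizerIn S (pre ι N))) : Ω) := ⟨_, rfl⟩
    rw [← hy]
    have hyS : y ∈ S := by
      rw [hy]; exact S.mul_mem (S.inv_mem (hUS c.2)) (hUS (Subtype.property _))
    have hιy : ι ⟨y, hyS⟩ = (ι ⟨c, hUS c.2⟩)⁻¹ * (n' * ι ⟨c, hUS c.2⟩ * n'⁻¹) := by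
      rw [← map_realAut ι hι.1 _ hUS n' h1 h2 c, ← map_inv, ← map_mul]
      apply map_congr
      exact hy
    have hcD : ι ⟨c, hUS c.2⟩ ∈ img ι (centralizerIn S (pre ι N)) :=
      (mem_img ι hCS _).2 ⟨⟨c, hc⟩, rfl⟩
    have hyD : ι ⟨y, hyS⟩ ∈ img ι (centralizerIn S (pre ι N)) := by
      rw [hιy]
      exact Subgroup.mul_mem _ (Subgroup.inv_mem _ hcD) (hfwd _ hcD)
    have hyN : ι ⟨y, hyS⟩ ∈ N := by
      rw [hιy]
      have e : (ι ⟨c, hUS c.2⟩)⁻¹ * (n' * ι ⟨c, hUS c.2⟩ * n'⁻¹) =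
          ((ι ⟨c, hUS c.2⟩)⁻¹ * n' * (ι ⟨c, hUS c.2⟩)⁻¹⁻¹) * n'⁻¹ := by group
      rw [e]; exact N.mul_mem (hN.conj_mem n' hn'N _) (N.inv_mem hn'N)
    constructor
    · exact (mem_pre ι).2 ⟨hyS, hyN⟩
    · obtain ⟨c', hc'⟩ := (mem_img ι hCS _).1 hyD
      have h3 := hι.1 hc'
      have hyc : (c' : Ω) = y := congrArg (fun z : S => (z : Ω)) h3
      rw [← hyc]; exact c'.2.2

end Extension

end Cfsg.Agent.Lead.RealSimple
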