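import Mathlib
import Cfsg.Agent.Lead.RealSimpleC

set_option autoImplicit false

namespace Cfsg.Agent.Lead.RealSimple

open Cfsg Cfsg.FusionSystem

universe u

section Assemble

variable {Ω : Type*} [Group Ω] {S : Subgroup Ω} {G : Type*} [Group G] (ι : S →* G)

theorem subSys_isNormalIn [Finite G] (p : ℕ) [Fact p.Prime] (F : FusionSystem S)
    (hF : F.IsSaturated p) (hι : F.IsRealizedBy ι) (N : Subgroup G) [hN : N.Normal]
    (T₀ : Sylow p G) (hT : (T₀ : Subgroup G) = ι.range) :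
    (subSys ι hι.1 N).IsNormalIn F p :=
  ⟨⟨subSys_isSaturated ι p hι.1 N T₀ hT, hF,
    ⟨subSys_isSubsystemOf ι F hι N, pre_stronglyClosed ι F hι N, subSys_invariant ι F hι N,
      subSys_frattini ι p F hι N T₀ hT⟩⟩, subSys_extension ι p F hι N T₀ hT⟩

/-- quotient by a normal subgroup meeting the image of `S` trivially -/
theorem quotient_realizes [Finite G] (p : ℕ) [Fact p.Prime] (F : FusionSystem S)
    (hι : F.IsRealizedBy ι) (N : Subgroup G) [hN : N.Normal]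
    (T₀ : Sylow p G) (hT : (T₀ : Subgroup G) = ι.range) (h0 : pre ι N = ⊥) :
    F.IsRealizedBy ((QuotientGroup.mk' N).comp ι) ∧
      ∃ T : Sylow p (G ⧸ N), (T : Subgroup (G ⧸ N)) = ((QuotientGroup.mk' N).comp ι).range := by
  have htriv : ∀ y ∈ ι.range, y ∈ N → y = 1 := by
    rintro _ ⟨s, rfl⟩ hs
    have h1 : (s : Ω) ∈ pre ι N := (mem_pre ι).2 ⟨s.2, hs⟩
    rw [h0, Subgroup.mem_bot] at h1
    have : s = 1 := Subtype.ext h1
    rw [this, map_one]
  refine ⟨⟨?_, ?_⟩, ?_⟩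
  · -- injective
    intro s t hst
    have h1 : (QuotientGroup.mk (ι s) : G ⧸ N) = QuotientGroup.mk (ι t) := hst
    rw [QuotientGroup.eq] at h1
    have h2 : (ι s)⁻¹ * ι t = 1 := by
      apply htriv _ _ h1
      rw [← map_inv, ← map_mul]; exact ⟨_, rfl⟩
    apply hι.1
    exact inv_mul_eq_one.1 h2
  · intro P hP φ hφ
    constructor
    · intro h
      obtain ⟨g, hg⟩ := (hι.2 P hP φ hφ).1 h
      refine ⟨QuotientGroup.mk g, fun x => ?_⟩
      show (QuotientGroup.mk (ι ⟨φ x, hφ x⟩) : G ⧸ N) = _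
      rw [hg x]; rfl
    · rintro ⟨gbar, hg⟩
      obtain ⟨g, rfl⟩ := QuotientGroup.mk_surjective gbar
      have hmod : ∀ x : P, (ι ⟨φ x, hφ x⟩)⁻¹ * (g * ι ⟨x, hP x.2⟩ * g⁻¹) ∈ N := by
        intro x
        rw [← QuotientGroup.eq]
        exact hg x
      -- conjugate the image of P into the Sylow subgroup by an element of N
      have hBle : (img ι P).map (MulAut.conj g).toMonoidHom ≤ (T₀ : Subgroup G) ⊔ N := by
        rintro _ ⟨y, hy, rfl⟩
        obtain ⟨x, rfl⟩ := (mem_img ι hP y).1 hy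
        simp only [MulEquiv.coe_toMonoidHom, MulAut.conj_apply]
        have e : g * ι ⟨x, hP x.2⟩ * g⁻¹ =
            ι ⟨φ x, hφ x⟩ * ((ι ⟨φ x, hφ x⟩)⁻¹ * (g * ι ⟨x, hP x.2⟩ * g⁻¹)) := by group
        rw [e]
        exact Subgroup.mul_mem_sup (hT ▸ ⟨_, rfl⟩) (hmod x)
      have hRcard : Nat.card (T₀ : Subgroup G) =
          p ^ (Nat.card (⊤ : Subgroup G)).factorization p := by
        rw [Subgroup.card_top]; exact T₀.card_eq_multiplicity
      have hPp : IsPGroup p (img ι P) := by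
        apply IsPGroup.to_le T₀.isPGroup'
        rw [hT]
        rintro y hy
        obtain ⟨x, rfl⟩ := (mem_img ι hP y).1 hy
        exact ⟨_, rfl⟩
      obtain ⟨k, hk, hkB⟩ := exists_conj_le_of_le_sup (p := p) (A := ⊤) (R := (T₀ : Subgroup G))
        (K := N) (B := (img ι P).map (MulAut.conj g).toMonoidHom) le_top hRcard le_top
        (fun r _ => by rw [Subgroup.normalizer_eq_top]; trivial) T₀.isPGroup' (hPp.map _) hBle
      refine (hι.2 P hP φ hφ).2 ⟨k * g, fun x => ?_⟩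
      have h1 : k * (g * ι ⟨x, hP x.2⟩ * g⁻¹) * k⁻¹ ∈ ι.range := by
        rw [← hT]
        apply hkB
        exact ⟨g * ι ⟨x, hP x.2⟩ * g⁻¹, ⟨_, (mem_img ι hP _).2 ⟨x, rfl⟩, rfl⟩, rfl⟩
      have h2 : (ι ⟨φ x, hφ x⟩)⁻¹ * (k * (g * ι ⟨x, hP x.2⟩ * g⁻¹) * k⁻¹) ∈ N := by
        have e : (ι ⟨φ x, hφ x⟩)⁻¹ * (k * (g * ι ⟨x, hP x.2⟩ * g⁻¹) * k⁻¹) =
            ((ι ⟨φ x, hφ x⟩)⁻¹ * k * (ι ⟨φ x, hφ x⟩)⁻¹⁻¹) *
              ((ι ⟨φ x, hφ x⟩)⁻¹ * (g * ι ⟨x, hP x.2⟩ * g⁻¹)) * k⁻¹ := by group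
        rw [e]
        exact N.mul_mem (N.mul_mem (hN.conj_mem k hk _) (hmod x)) (N.inv_mem hk)
      have h3 : (ι ⟨φ x, hφ x⟩)⁻¹ * (k * (g * ι ⟨x, hP x.2⟩ * g⁻¹) * k⁻¹) = 1 := by
        apply htriv _ _ h2
        exact Subgroup.mul_mem _ (Subgroup.inv_mem _ ⟨_, rfl⟩) h1
      have h4 := inv_mul_eq_one.1 h3
      rw [h4]; group
  · refine ⟨T₀.mapSurjective (QuotientGroup.mk'_surjective N), ?_⟩
    rw [Sylow.coe_mapSurjective, hT, MonoidHom.range_comp]

end Assemble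


section Main

variable {Ω : Type u} [Group Ω] {S : Subgroup Ω}

/-- a normal subgroup containing the image of `S` realizes the same system, if its own system is
all of `F` -/
theorem sub_realizes {G : Type u} [Group G] [Finite G] (ι : S →* G) (p : ℕ) [Fact p.Prime]
    (F : FusionSystem S) (hι : F.IsRealizedBy ι) (N : Subgroup G) [hN : N.Normal]
    (T₀ : Sylow p G) (hT : (T₀ : Subgroup G) = ι.range) (hTS : pre ι N = S)
    (hHom : ∀ P : Subgroup Ω, (subSys ι hι.1 N).Hom P = F.Hom P) :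
    ∃ ι' : S →* N, F.IsRealizedBy ι' ∧ ∃ T : Sylow p N, (T : Subgroup N) = ι'.range := by
  have hmem : ∀ s : S, ι s ∈ N := by
    intro s
    have h1 : (s : Ω) ∈ pre ι N := by rw [hTS]; exact s.2
    exact map_mem_of_mem_pre ι h1
  refine ⟨ι.codRestrict N hmem, ⟨?_, ?_⟩, ?_⟩
  · intro s t hst
    apply hι.1
    exact congrArg Subtype.val hst
  · intro P hP φ hφ
    constructor
    · intro h
      rw [← hHom P] at h
      obtain ⟨hP', hφ', g, hg, hh⟩ := h
      exact ⟨⟨g, hg⟩, fun x => Subtype.ext (hh x)⟩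
    · rintro ⟨g, hh⟩
      exact (hι.2 P hP φ hφ).2 ⟨g.1, fun x => congrArg Subtype.val (hh x)⟩
  · obtain ⟨Q, hQ⟩ := exists_sylow_resHom ι p N T₀ hT
    refine ⟨Q, ?_⟩
    rw [hQ]
    ext y
    constructor
    · rintro ⟨t, rfl⟩
      exact ⟨⟨t.1, pre_le ι N t.2⟩, rfl⟩
    · rintro ⟨s, rfl⟩
      have h1 : (s : Ω) ∈ pre ι N := by rw [hTS]; exact s.2
      exact ⟨⟨s.1, h1⟩, rfl⟩

theorem main [Finite S] (p : ℕ) [Fact p.Prime] (F : FusionSystem S) (hsimple : F.IsSimple p) :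
    ∀ n : ℕ, ∀ (G : Type u) [Group G] [Finite G] (ι : S →* G), Nat.card G = n →
      F.IsRealizedBy ι → (∃ T : Sylow p G, (T : Subgroup G) = ι.range) →
      ∃ (G' : Type u) (_ : Group G') (_ : Finite G') (_ : IsSimpleGroup G') (ι' : S →* G'),
        F.IsRealizedBy ι' ∧ ∃ T : Sylow p G', (T : Subgroup G') = ι'.range := by
  intro n
  induction n using Nat.strong_induction_on with
  | _ n ih =>
    intro G _ _ ι hcard hι hSyl
    obtain ⟨T₀, hT⟩ := hSyl
    by_cases hs : ∀ N : Subgroup G, N.Normal → N = ⊥ ∨ N = ⊤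
    · have hnt : Nontrivial G := by
        obtain ⟨s, hs1⟩ := (Subgroup.ne_bot_iff_exists_ne_one).1 hsimple.2.1
        refine ⟨⟨ι s, 1, ?_⟩⟩
        intro h
        rw [← map_one ι] at h
        exact hs1 (hι.1 h)
      have hsg : IsSimpleGroup G :=
        { toNontrivial := hnt
          eq_bot_or_eq_top_of_normal := hs }
      exact ⟨G, inferInstance, inferInstance, hsg, ι, hι, T₀, hT⟩
    · push Not at hs
      obtain ⟨N, hN, hNbot, hNtop⟩ := hs
      have hnorm := subSys_isNormalIn ι p F hsimple.1 hι N T₀ hT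
      rcases hsimple.2.2 (pre ι N) (subSys ι hι.1 N) hnorm with h0 | ⟨hTS, hHom⟩
      · obtain ⟨hι', hSyl'⟩ := quotient_realizes ι p F hι N T₀ hT h0
        refine ih (Nat.card (G ⧸ N)) ?_ (G ⧸ N) _ rfl hι' hSyl'
        rw [← hcard, Subgroup.card_eq_card_quotient_mul_card_subgroup N]
        have h1 : 1 < Nat.card N := (Subgroup.one_lt_card_iff_ne_bot N).2 hNbot
        have h2 : 0 < Nat.card (G ⧸ N) := Nat.card_pos
        nlinarith
      · obtain ⟨ι', hι', hSyl'⟩ := sub_realizes ι p F hι N T₀ hT hTS hHom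
        refine ih (Nat.card N) ?_ N ι' rfl hι' hSyl'
        rw [← hcard]
        apply lt_of_le_of_ne (Subgroup.card_le_card_group N)
        intro h
        exact hNtop (Subgroup.eq_top_of_card_eq N h)

theorem s5343 [Finite S] (p : ℕ) [Fact p.Prime] (F : FusionSystem S) (hsimple : F.IsSimple p)
    (hreal : F.IsRealizable p) :
    ∃ (G : Type u) (_ : Group G) (_ : Finite G) (_ : IsSimpleGroup G) (ι : ↥S →* G),
      F.IsRealizedBy ι ∧ ∃ T : Sylow p G, (T : Subgroup G) = ι.range := by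
  obtain ⟨G, _, _, ι, hι, hT⟩ := hreal
  exact main p F hsimple (Nat.card G) G ι rfl hι hT

end Main

end Cfsg.Agent.Lead.RealSimple
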