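import Mathlib
import Cfsg.Prelude.Def_RootSubgroups
import Cfsg.Agent.Helper2.BaerSuzuki
import Cfsg.Agent.Helper2.Dihedral
import Cfsg.Agent.Helper5.Cores

/-!
Lead: basic lemmas on sets of root involutions (Timmesfeld), for S5045–S5047.
-/

set_option autoImplicit false

namespace Cfsg.Agent.Lead.RootInv

open Cfsg

variable {G : Type*} [Group G]

theorem orderOf_conj' (g x : G) : orderOf (g * x * g⁻¹) = orderOf x := by
  have := MulEquiv.orderOf_eq (MulAut.conj g) x
  simpa using this

theorem orderOf_mul_swap (a b : G) : orderOf (a * b) = orderOf (b * a) := by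
  have h : b * a = a⁻¹ * (a * b) * a⁻¹⁻¹ := by group
  rw [h, orderOf_conj']

section basics

variable {D : Set G} (hD : IsRootInvolutionSet D)
include hD

theorem sq_one {d : G} (hd : d ∈ D) : d * d = 1 := by
  have := hD.orderOf_eq d hd
  rw [← pow_two, ← this]; exact pow_orderOf_eq_one d

theorem inv_self {d : G} (hd : d ∈ D) : d⁻¹ = d :=
  inv_eq_of_mul_eq_one_left (sq_one hD hd)

theorem ne_one {d : G} (hd : d ∈ D) : d ≠ 1 := by
  intro h
  have := hD.orderOf_eq d hd
  rw [h, orderOf_one] at this
  omega

omit hD in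
theorem oddAdj_symm {a b : G} (h : OddAdj D a b) : OddAdj D b a := by
  obtain ⟨ha, hb, hne, hodd⟩ := h
  exact ⟨hb, ha, hne.symm, by rwa [orderOf_mul_swap]⟩

theorem oddAdj_conj {a b : G} (h : OddAdj D a b) (g : G) :
    OddAdj D (g * a * g⁻¹) (g * b * g⁻¹) := by
  obtain ⟨ha, hb, hne, hodd⟩ := h
  refine ⟨hD.conj_mem a ha g, hD.conj_mem b hb g, ?_, ?_⟩
  · intro h
    apply hne
    have := congrArg (fun x => g⁻¹ * x * g) h
    simpa [mul_assoc] using this
  · have : g * a * g⁻¹ * (g * b * g⁻¹) = g * (a * b) * g⁻¹ := by group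
    rw [this, orderOf_conj']; exact hodd

/-- adjacent elements have product of odd order at least 3: in particular if the product squares to one they are equal. -/
theorem oddAdj_not_sq {a b : G} (h : OddAdj D a b) : (a * b) ^ 2 ≠ 1 := by
  obtain ⟨ha, hb, hne, hodd⟩ := h
  intro h2
  have h1 : orderOf (a * b) ∣ 2 := orderOf_dvd_of_pow_eq_one h2
  have h3 : orderOf (a * b) = 1 := by
    rcases (Nat.dvd_prime Nat.prime_two).mp h1 with h | h
    · exact h
    · rw [h] at hodd; exact absurd hodd (by decide)
  rw [orderOf_eq_one_iff] at h3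
  apply hne
  have : a = b⁻¹ := eq_inv_of_mul_eq_one_left h3
  rw [this, inv_self hD hb]

theorem oddAdj_not_commute {a b : G} (h : OddAdj D a b) : a * b ≠ b * a := by
  intro hc
  apply oddAdj_not_sq hD h
  have ha := sq_one hD h.1
  have hb := sq_one hD h.2.1
  calc (a * b) ^ 2 = a * (b * a) * b := by rw [pow_two]; group
    _ = a * (a * b) * b := by rw [hc]
    _ = (a * a) * (b * b) := by group
    _ = 1 := by rw [ha, hb, one_mul]

theorem oddAdj_not_pow_four {a b : G} (h : OddAdj D a b) : (a * b) ^ 4 ≠ 1 := by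
  intro h4
  have hodd := h.2.2.2
  have h1 : orderOf (a * b) ∣ 4 := orderOf_dvd_of_pow_eq_one h4
  have h2 : orderOf (a * b) ∣ 2 ^ 2 := by simpa using h1
  obtain ⟨k, hk, hk2⟩ := (Nat.dvd_prime_pow Nat.prime_two).mp h2
  have hk0 : k = 0 := by
    by_contra hne
    have : Even (2 ^ k) := (Nat.even_pow' hne).mpr even_two
    rw [← hk2] at this
    exact (Nat.not_even_iff_odd.mpr hodd) this
  rw [hk0, pow_zero] at hk2
  apply oddAdj_not_sq hD h
  rw [orderOf_eq_one_iff] at hk2
  rw [hk2, one_pow]

/-- **P1.** If `x, y, x*y ∈ D` commute, `c` commutes with `x`, then `c` is not adjacent to `y`. -/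
theorem p1 {x y c : G} (hx : x ∈ D) (hy : y ∈ D) (hxy : x * y ∈ D) (hcomm : x * y = y * x)
    (hc : c ∈ D) (hcx : c * x = x * c) (hadj : OddAdj D c y) : False := by
  have hxx := sq_one hD hx
  have hodd := hadj.2.2.2
  -- `c * (x*y) = x * (c*y)` with `x` commuting with `c*y`
  have h1 : c * (x * y) = x * (c * y) := by rw [← mul_assoc, hcx, mul_assoc]
  have hcm : Commute x (c * y) := by
    show x * (c * y) = c * y * x
    rw [← mul_assoc, ← hcx, mul_assoc, hcomm, mul_assoc]
  have hpow : ∀ n : ℕ, (c * (x * y)) ^ n = x ^ n * (c * y) ^ n := by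
    intro n; rw [h1, hcm.mul_pow]
  have hx2 : x ^ 2 = 1 := by rw [pow_two, hxx]
  have hx4 : x ^ 4 = 1 := by
    rw [show (4 : ℕ) = 2 * 2 from rfl, pow_mul, hx2, one_pow]
  rcases hD.pair c hc (x * y) hxy with h | h | h
  · -- commute
    apply oddAdj_not_commute hD hadj
    have h2 : x * (c * y) = x * (y * c) := by
      rw [← h1, h, mul_assoc]
    exact mul_left_cancel h2
  · -- odd order n
    obtain ⟨m, hm⟩ := h
    have h2 := hpow (orderOf (c * (x * y)))
    rw [pow_orderOf_eq_one] at h2
    have hxn : x ^ orderOf (c * (x * y)) = x := by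
      rw [hm, pow_succ, pow_mul, pow_two, hxx, one_pow, one_mul]
    rw [hxn] at h2
    -- `(c*y)^n = x`
    have h3 : (c * y) ^ orderOf (c * (x * y)) = x := by
      have : (c * y) ^ orderOf (c * (x * y)) = x⁻¹ := eq_inv_of_mul_eq_one_right h2.symm
      rw [this, inv_self hD hx]
    obtain ⟨k, hk⟩ := hodd
    have h4 : x ^ orderOf (c * y) = 1 := by
      rw [← h3, ← pow_mul, mul_comm, pow_mul, pow_orderOf_eq_one, one_pow]
    have h5 : x ^ orderOf (c * y) = x := by
      rw [hk, pow_succ, pow_mul, pow_two, hxx, one_pow, one_mul]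
    rw [h5] at h4
    exact ne_one hD hx h4
  · -- order 4
    have h2 := hpow 4
    rw [← h.1, pow_orderOf_eq_one, h.1, hx4, one_mul] at h2
    exact oddAdj_not_pow_four hD hadj h2.symm

omit hD in
/-- if `(c*a)^4 = 1` for involutions then `c` commutes with `a c a`. -/
theorem commute_conj_of_pow_four {c a : G} (hc : c * c = 1) (ha : a * a = 1) (h : (c * a) ^ 4 = 1) :
    c * (a * c * a) = (a * c * a) * c := by
  have h1 : (c * a) ^ 4 = (c * (a * c * a)) * (c * (a * c * a)) := by
    have : (c * a) ^ 4 = ((c * a) * (c * a)) * ((c * a) * (c * a)) := by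
      rw [show (4 : ℕ) = 2 + 2 from rfl, pow_add, pow_two]
    rw [this]; group
  rw [h1] at h
  -- `(c * (a c a))^2 = 1` and both are involutions
  have h2 : (a * c * a) * (a * c * a) = 1 := by
    calc (a * c * a) * (a * c * a) = a * c * (a * a) * c * a := by group
      _ = a * (c * c) * a := by rw [ha]; group
      _ = 1 := by rw [hc, mul_one, ha]
  calc c * (a * c * a) = c * (a * c * a) * 1 := by rw [mul_one]
    _ = c * (a * c * a) * ((c * (a * c * a)) * (c * (a * c * a)))⁻¹ := by rw [h, inv_one]
    _ = (c * (a * c * a))⁻¹ := by group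
    _ = (a * c * a)⁻¹ * c⁻¹ := by rw [mul_inv_rev]
    _ = (a * c * a) * c := by
        rw [inv_eq_of_mul_eq_one_left h2, inv_eq_of_mul_eq_one_left hc]

/-- **L.** For a line `{a, e, f = a*e}` and `c` adjacent to `e`, not both `c*a` and `c*f` have order 4. -/
theorem lineL {a e c : G} (ha : a ∈ D) (he : e ∈ D) (hae : a * e = e * a)
    (hc : c ∈ D) (hadj : OddAdj D c e) (h1 : (c * a) ^ 4 = 1) (h2 : (c * (a * e)) ^ 4 = 1) : False := by
  have haa := sq_one hD ha
  have hee := sq_one hD he
  have hcc := sq_one hD hc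
  have hff : (a * e) * (a * e) = 1 := by
    calc (a * e) * (a * e) = a * (e * a) * e := by group
      _ = a * (a * e) * e := by rw [hae]
      _ = (a * a) * (e * e) := by group
      _ = 1 := by rw [haa, hee, one_mul]
  -- `c` commutes with `a c a` and with `f c f`
  have k1 := commute_conj_of_pow_four hcc haa h1
  have k2 := commute_conj_of_pow_four hcc hff h2
  -- conjugate `k2` by `e`: `e c e` commutes with `a c a`
  have k3 : (e * c * e) * (a * c * a) = (a * c * a) * (e * c * e) := by
    have e1 : e * (a * e * c * (a * e)) * e = a * c * a := by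
      calc e * (a * e * c * (a * e)) * e = (e * a) * e * c * a * (e * e) := by group
        _ = (a * e) * e * c * a * (e * e) := by rw [hae]
        _ = a * (e * e) * c * a * (e * e) := by group
        _ = a * c * a := by rw [hee]; group
    have this : e * (c * (a * e * c * (a * e))) * e = e * ((a * e * c * (a * e)) * c) * e := by
      rw [k2]
    calc (e * c * e) * (a * c * a) = (e * c * e) * (e * (a * e * c * (a * e)) * e) := by rw [e1]
      _ = e * c * (e * e) * (a * e * c * (a * e)) * e := by group
      _ = e * (c * (a * e * c * (a * e))) * e := by rw [hee]; group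
      _ = e * ((a * e * c * (a * e)) * c) * e := by rw [this]
      _ = e * (a * e * c * (a * e)) * (e * e) * c * e := by rw [hee]; group
      _ = (e * (a * e * c * (a * e)) * e) * (e * c * e) := by group
      _ = (a * c * a) * (e * c * e) := by rw [e1]
  -- `e` is in the subgroup generated by `c` and `e c e`, hence commutes with `a c a`
  obtain ⟨m, hm⟩ := hadj.2.2.2
  have he_eq : e = c * (c * (e * c * e)) ^ (m + 1) := by
    have h3 : c * (e * c * e) = (c * e) ^ 2 := by rw [pow_two]; group
    rw [h3, ← pow_mul]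
    have h4 : 2 * (m + 1) = orderOf (c * e) + 1 := by omega
    rw [h4, pow_succ, pow_orderOf_eq_one, one_mul, ← mul_assoc, hcc, one_mul]
  have hZ : e ∈ Subgroup.centralizer ({a * c * a} : Set G) := by
    rw [he_eq]
    have hcZ : c ∈ Subgroup.centralizer ({a * c * a} : Set G) := by
      rw [Subgroup.mem_centralizer_iff]
      intro x hx
      rw [Set.mem_singleton_iff] at hx
      rw [hx]; exact k1.symm
    have heZ : e * c * e ∈ Subgroup.centralizer ({a * c * a} : Set G) := by
      rw [Subgroup.mem_centralizer_iff]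
      intro x hx
      rw [Set.mem_singleton_iff] at hx
      rw [hx]; exact k3.symm
    exact Subgroup.mul_mem _ hcZ (Subgroup.pow_mem _ (Subgroup.mul_mem _ hcZ heZ) _)
  rw [Subgroup.mem_centralizer_iff] at hZ
  have k4 : (a * c * a) * e = e * (a * c * a) := hZ _ rfl
  -- hence `c` commutes with `e`
  apply oddAdj_not_commute hD hadj
  have k5 : a * (c * e) * a = a * (e * c) * a := by
    calc a * (c * e) * a = a * c * (e * a) := by group
      _ = a * c * (a * e) := by rw [hae]
      _ = (a * c * a) * e := by group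
      _ = e * (a * c * a) := k4
      _ = (e * a) * c * a := by group
      _ = (a * e) * c * a := by rw [hae]
      _ = a * (e * c) * a := by group
  exact mul_left_cancel (mul_right_cancel k5)

/-- **Line lemma.** For a line `{a, e, a*e} ⊆ D` and `c` adjacent to `e`: `c` is adjacent to `a` or to `a*e`. -/
theorem line_adj {a e c : G} (ha : a ∈ D) (he : e ∈ D) (hf : a * e ∈ D) (hae : a * e = e * a)
    (hadj : OddAdj D c e) : OddAdj D c a ∨ OddAdj D c (a * e) := by
  have hc := hadj.1
  have hee := sq_one hD he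
  -- `c` does not commute with `a`
  have n1 : c * a ≠ a * c := fun h => p1 hD ha he hf hae hc h hadj
  -- `c` does not commute with `a*e`
  have hfe : (a * e) * e = a := by rw [mul_assoc, hee, mul_one]
  have n2 : c * (a * e) ≠ (a * e) * c := by
    intro h
    refine p1 hD hf he (by rw [hfe]; exact ha) ?_ hc h hadj
    rw [hfe, ← mul_assoc, ← hae, mul_assoc, hee, mul_one]
  have hca : c ≠ a := fun h => n1 (by rw [h])
  have hcf : c ≠ a * e := fun h => n2 (by rw [h])
  rcases hD.pair c hc a ha with h | h | h
  · exact absurd h n1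
  · exact Or.inl ⟨hc, ha, hca, h⟩
  · rcases hD.pair c hc (a * e) hf with h' | h' | h'
    · exact absurd h' n2
    · exact Or.inr ⟨hc, hf, hcf, h'⟩
    · exfalso
      refine lineL hD ha he hae hc hadj ?_ ?_
      · rw [← h.1]; exact pow_orderOf_eq_one _
      · rw [← h'.1]; exact pow_orderOf_eq_one _

end basics

end Cfsg.Agent.Lead.RootInv
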