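import Mathlib
import Cfsg.Agent.Lead.RootInvA

/-!
Lead: the odd-order-product graph of a set of root involutions: isolated vertices and components (S5045).
-/

set_option autoImplicit false

namespace Cfsg.Agent.Lead.RootInv

open Cfsg Cfsg.Agent.Helper2 Cfsg.Agent.Helper5

variable {G : Type*} [Group G] {D : Set G}

theorem rtg_symm {a b : G} (h : Relation.ReflTransGen (OddAdj D) a b) :
    Relation.ReflTransGen (OddAdj D) b a := by
  induction h with
  | refl => exact Relation.ReflTransGen.refl
  | tail _ hbc ih => exact Relation.ReflTransGen.head (oddAdj_symm hbc) ih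

theorem comp_eq_of_rtg {a b : G} (h : Relation.ReflTransGen (OddAdj D) a b) :
    elemComponentOf (OddAdj D) D a = elemComponentOf (OddAdj D) D b := by
  ext x
  constructor
  · rintro ⟨hx, hax⟩
    exact ⟨hx, (rtg_symm h).trans hax⟩
  · rintro ⟨hx, hbx⟩
    exact ⟨hx, h.trans hbx⟩

theorem exists_adj_of_nontrivial {a : G}
    (h : ∃ a' ∈ elemComponentOf (OddAdj D) D a, a' ≠ a) : ∃ c, OddAdj D a c := by
  obtain ⟨a', ⟨_, hr⟩, hne⟩ := h
  rcases Relation.ReflTransGen.cases_head hr with h | ⟨c, hc, _⟩
  · exact absurd h.symm hne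
  · exact ⟨c, hc⟩

theorem exists_adj_of_not_isolated {e : G} (he : e ∈ D)
    (hW : ¬ IsIsolatedElem (OddAdj D) D e) : ∃ c, OddAdj D c e := by
  by_contra hcon
  apply hW
  exact ⟨he, fun b => ⟨fun h => hcon ⟨b, oddAdj_symm h⟩, fun h => hcon ⟨b, h⟩⟩⟩

section main

variable (hD : IsRootInvolutionSet D)
include hD

theorem isolated_conj {w : G} (hw : IsIsolatedElem (OddAdj D) D w) (g : G) :
    IsIsolatedElem (OddAdj D) D (g * w * g⁻¹) := by
  refine ⟨hD.conj_mem w hw.1 g, fun b => ⟨fun h => ?_, fun h => ?_⟩⟩
  · have := oddAdj_conj hD h g⁻¹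
    have e1 : g⁻¹ * (g * w * g⁻¹) * g⁻¹⁻¹ = w := by group
    rw [e1] at this
    exact (hw.2 _).1 this
  · have := oddAdj_conj hD h g⁻¹
    have e1 : g⁻¹ * (g * w * g⁻¹) * g⁻¹⁻¹ = w := by group
    rw [e1] at this
    exact (hw.2 _).2 this

/-- product partners of a non-isolated `a` lie in the component of `a` or are isolated. -/
theorem partners_subset {a : G} (ha : a ∈ D) (hnt : ∃ c, OddAdj D a c) :
    productPartners D a ⊆
      elemComponentOf (OddAdj D) D a ∪ {w | IsIsolatedElem (OddAdj D) D w} := by
  rintro e ⟨⟨he, hea, _⟩, hprod⟩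
  by_cases hW : IsIsolatedElem (OddAdj D) D e
  · exact Or.inr hW
  · left
    refine ⟨he, ?_⟩
    obtain ⟨c, hadj⟩ := exists_adj_of_not_isolated he hW
    have hf : a * e ∈ D := by rw [← hea]; exact hprod
    rcases line_adj hD ha he hf hea.symm hadj with h | h
    · exact Relation.ReflTransGen.head (oddAdj_symm h) (Relation.ReflTransGen.single hadj)
    · obtain ⟨c', hc'⟩ := hnt
      rcases line_adj hD he ha hprod hea (oddAdj_symm hc') with h' | h'
      · exact Relation.ReflTransGen.head hc' (Relation.ReflTransGen.single h')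
      · rw [hea] at h'
        exact Relation.ReflTransGen.head hc'
          (Relation.ReflTransGen.head h'
            (Relation.ReflTransGen.head (oddAdj_symm h) (Relation.ReflTransGen.single hadj)))

/-- commutators of members of different nontrivial components are isolated vertices or trivial. -/
theorem comm_mem {a b : G} (ha : a ∈ D) (hb : b ∈ D) (hnta : ∃ c, OddAdj D a c)
    (hntb : ∃ c, OddAdj D b c)
    (hne : elemComponentOf (OddAdj D) D a ≠ elemComponentOf (OddAdj D) D b) :
    a * b * a⁻¹ * b⁻¹ ∈ Subgroup.closure {w | IsIsolatedElem (OddAdj D) D w} := by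
  have haa := sq_one hD ha
  have hbb := sq_one hD hb
  rcases hD.pair a ha b hb with h | h | ⟨h4, hz⟩
  · have : a * b * a⁻¹ * b⁻¹ = 1 := by rw [h]; group
    rw [this]; exact Subgroup.one_mem _
  · exfalso
    by_cases hab : a = b
    · exact hne (by rw [hab])
    · exact hne (comp_eq_of_rtg (Relation.ReflTransGen.single ⟨ha, hb, hab, h⟩))
  · have e0 : a * b * a⁻¹ * b⁻¹ = (a * b) ^ 2 := by
      rw [inv_self hD ha, inv_self hD hb, pow_two]; group
    rw [e0]
    apply Subgroup.subset_closure
    by_contra hW
    have h44 : (a * b) ^ 4 = 1 := by rw [← h4]; exact pow_orderOf_eq_one _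
    have h8 : a * b * a * b * a * b * a * b = 1 := by
      have : (a * b) ^ 4 = ((a * b) * (a * b)) * ((a * b) * (a * b)) := by
        rw [show (4 : ℕ) = 2 + 2 from rfl, pow_add, pow_two]
      rw [this] at h44
      rw [← h44]; group
    -- `z * a = b a b` and `z * b = a b a`
    have hza : (a * b) ^ 2 * a = b * a * b := by
      have h1 : (a * b) ^ 2 * a * (b * a * b) = 1 := by rw [pow_two, ← h8]; group
      have h2 : (b * a * b) * (b * a * b) = 1 := by
        calc (b * a * b) * (b * a * b) = b * a * (b * b) * a * b := by group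
          _ = b * (a * a) * b := by rw [hbb]; group
          _ = 1 := by rw [haa, mul_one, hbb]
      calc (a * b) ^ 2 * a = (a * b) ^ 2 * a * ((b * a * b) * (b * a * b)) := by rw [h2, mul_one]
        _ = ((a * b) ^ 2 * a * (b * a * b)) * (b * a * b) := by group
        _ = b * a * b := by rw [h1, one_mul]
    have haz : a * (a * b) ^ 2 = b * a * b := by
      rw [pow_two]
      calc a * (a * b * (a * b)) = (a * a) * b * a * b := by group
        _ = b * a * b := by rw [haa, one_mul]
    have hbz : b * (a * b) ^ 2 = a * b * a := by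
      have h1 : b * (a * b) ^ 2 * (a * b * a) = 1 := by
        rw [pow_two]
        calc b * (a * b * (a * b)) * (a * b * a) = b * (a * b * a * b * a * b * a * b) * b⁻¹ := by
              group
          _ = 1 := by rw [h8]; group
      have h2 : (a * b * a) * (a * b * a) = 1 := by
        calc (a * b * a) * (a * b * a) = a * b * (a * a) * b * a := by group
          _ = a * (b * b) * a := by rw [haa]; group
          _ = 1 := by rw [hbb, mul_one, haa]
      calc b * (a * b) ^ 2 = b * (a * b) ^ 2 * ((a * b * a) * (a * b * a)) := by rw [h2, mul_one]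
        _ = (b * (a * b) ^ 2 * (a * b * a)) * (a * b * a) := by group
        _ = a * b * a := by rw [h1, one_mul]
    have hzb : (a * b) ^ 2 * b = a * b * a := by
      rw [pow_two]
      calc a * b * (a * b) * b = a * b * a * (b * b) := by group
        _ = a * b * a := by rw [hbb, mul_one]
    have hbab : b * a * b ∈ D := by
      have := hD.conj_mem a ha b
      rwa [inv_self hD hb] at this
    have haba : a * b * a ∈ D := by
      have := hD.conj_mem b hb a
      rwa [inv_self hD ha] at this
    have hzpa : (a * b) ^ 2 ∈ productPartners D a := by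
      refine ⟨⟨hz, by rw [hza, haz], ?_⟩, by rw [hza]; exact hbab⟩
      intro h
      have : a * (a * b) ^ 2 = 1 := by rw [h, haa]
      rw [haz] at this
      exact ne_one hD hbab this
    have hzpb : (a * b) ^ 2 ∈ productPartners D b := by
      refine ⟨⟨hz, by rw [hzb, hbz], ?_⟩, by rw [hzb]; exact haba⟩
      intro h
      have : b * (a * b) ^ 2 = 1 := by rw [h, hbb]
      rw [hbz] at this
      exact ne_one hD haba this
    have h1 := partners_subset hD ha hnta hzpa
    have h2 := partners_subset hD hb hntb hzpb
    rcases h1 with h1 | h1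
    · rcases h2 with h2 | h2
      · exact hne (comp_eq_of_rtg (h1.2.trans (rtg_symm h2.2)))
      · exact hW h2
    · exact hW h1

end main

end Cfsg.Agent.Lead.RootInv
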