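import Mathlib
import Cfsg.Agent.Lead.RootInvB

/-!
Lead: the isolated vertices of the odd-order-product graph of a set of root involutions generate a normal 2-subgroup (S5045).
-/

set_option autoImplicit false

namespace Cfsg.Agent.Lead.RootInv

open Cfsg Cfsg.Agent.Helper2 Cfsg.Agent.Helper5

variable {G : Type*} [Group G] {D : Set G}

/-- two involutions whose product has order dividing 4 generate a 2-group. -/
theorem isPGroup_closure_pair {x y : G} (hx : x * x = 1) (hy : y * y = 1) (h4 : (x * y) ^ 4 = 1) :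
    IsPGroup 2 ↥(Subgroup.closure ({x, y} : Set G)) := by
  intro d
  refine ⟨3, ?_⟩
  apply Subtype.ext
  rw [Subgroup.coe_pow, Subgroup.coe_one]
  obtain ⟨i, hi | hi⟩ := mem_closure_pair_invol hx hy d.2
  · rw [hi]
    have h8 : (x * y) ^ (2 ^ 3) = 1 := by
      rw [show (2 ^ 3 : ℕ) = 4 * 2 from rfl, pow_mul, h4, one_pow]
    rw [← zpow_natCast, ← zpow_mul, mul_comm, zpow_mul, zpow_natCast, h8, one_zpow]
  · rw [hi]
    have h2 : (x * (x * y) ^ i) * (x * (x * y) ^ i) = 1 := by
      calc (x * (x * y) ^ i) * (x * (x * y) ^ i) = (x * (x * y) ^ i * x) * (x * y) ^ i := by group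
        _ = ((x * y) ^ (-i) * x * x) * (x * y) ^ i := by rw [invol_mul_zpow hx hy]
        _ = (x * y) ^ (-i) * (x * x) * (x * y) ^ i := by group
        _ = 1 := by rw [hx, mul_one, ← zpow_add, neg_add_cancel, zpow_zero]
    rw [show (2 ^ 3 : ℕ) = 2 * 4 from rfl, pow_mul, pow_two, h2, one_pow]

section main

variable [Finite G] (hD : IsRootInvolutionSet D)
include hD

theorem isolated_mem_pCore {w : G} (hw : IsIsolatedElem (OddAdj D) D w) : w ∈ Cfsg.pCore 2 G := by
  have : Fact (Nat.Prime 2) := ⟨Nat.prime_two⟩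
  have hww := sq_one hD hw.1
  have hX : IsPGroup 2 ↥(Subgroup.zpowers w) := by
    apply IsPGroup.of_card (n := 1)
    rw [Nat.card_zpowers, hD.orderOf_eq w hw.1, pow_one]
  obtain ⟨N, hN, hNp, hle⟩ := baer_suzuki (p := 2) (Subgroup.zpowers w) hX (by
    intro g
    have hw' : g * w * g⁻¹ ∈ D := hD.conj_mem w hw.1 g
    have hww' := sq_one hD hw'
    have h4 : (w * (g * w * g⁻¹)) ^ 4 = 1 := by
      rcases hD.pair w hw.1 _ hw' with h | h | h
      · have : (w * (g * w * g⁻¹)) ^ 2 = 1 := by
          calc (w * (g * w * g⁻¹)) ^ 2 = w * ((g * w * g⁻¹) * w) * (g * w * g⁻¹) := by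
                rw [pow_two]; group
            _ = w * (w * (g * w * g⁻¹)) * (g * w * g⁻¹) := by rw [← h]
            _ = (w * w) * ((g * w * g⁻¹) * (g * w * g⁻¹)) := by group
            _ = 1 := by rw [hww, hww', one_mul]
        rw [show (4 : ℕ) = 2 * 2 from rfl, pow_mul, this, one_pow]
      · by_cases he : w = g * w * g⁻¹
        · rw [← he, hww, one_pow]
        · exact absurd ⟨hw.1, hw', he, h⟩ (hw.2 _).1
      · rw [← h.1]; exact pow_orderOf_eq_one _
    refine (isPGroup_closure_pair hww hww' h4).to_le ?_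
    rw [sup_le_iff]
    constructor
    · rw [Subgroup.zpowers_le]
      exact Subgroup.subset_closure (by simp)
    · rw [cj_le_iff]
      intro x hx
      obtain ⟨i, rfl⟩ := Subgroup.mem_zpowers_iff.mp hx
      have : g * w ^ i * g⁻¹ = (g * w * g⁻¹) ^ i := by rw [conj_zpow]
      rw [this]
      exact Subgroup.zpow_mem _ (Subgroup.subset_closure (by simp)) _)
  exact le_pCore hN hNp (hle (Subgroup.mem_zpowers w))

theorem closure_isolated_le_pCore :
    Subgroup.closure {w | IsIsolatedElem (OddAdj D) D w} ≤ Cfsg.pCore 2 G := by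
  rw [Subgroup.closure_le]
  intro w hw
  exact isolated_mem_pCore hD hw

theorem closure_isolated_normal :
    (Subgroup.closure {w | IsIsolatedElem (OddAdj D) D w}).Normal := by
  constructor
  intro n hn g
  induction hn using Subgroup.closure_induction with
  | mem x hx => exact Subgroup.subset_closure (isolated_conj hD hx g)
  | one => simp
  | mul x y _ _ hx hy =>
    have : g * (x * y) * g⁻¹ = (g * x * g⁻¹) * (g * y * g⁻¹) := by group
    rw [this]; exact Subgroup.mul_mem _ hx hy
  | inv x _ hx =>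
    have : g * x⁻¹ * g⁻¹ = (g * x * g⁻¹)⁻¹ := by group
    rw [this]; exact Subgroup.inv_mem _ hx

theorem mem_pCore_isolated {d : G} (hd : d ∈ D) (hdQ : d ∈ Cfsg.pCore 2 G) :
    IsIsolatedElem (OddAdj D) D d := by
  have key : ∀ b, ¬ OddAdj D d b := by
    intro b hadj
    have hb := hadj.2.1
    have hQ : (Cfsg.pCore 2 G).Normal := pCore_normal 2 G
    have h1 : b * d * b⁻¹ ∈ Cfsg.pCore 2 G := hQ.conj_mem d hdQ b
    have h2 : (d * b) ^ 2 ∈ Cfsg.pCore 2 G := by
      have : (d * b) ^ 2 = d * (b * d * b⁻¹) := by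
        rw [inv_self hD hb, pow_two]; group
      rw [this]; exact Subgroup.mul_mem _ hdQ h1
    obtain ⟨k, hk⟩ := (isPGroup_pCore (G := G) 2) ⟨_, h2⟩
    have hk' : ((d * b) ^ 2) ^ (2 ^ k) = 1 := by
      have := congrArg Subtype.val hk
      simpa using this
    rw [← pow_mul] at hk'
    have hdvd : orderOf (d * b) ∣ 2 ^ (k + 1) := by
      rw [pow_succ, mul_comm]; exact orderOf_dvd_of_pow_eq_one hk'
    have hcop : Nat.Coprime (orderOf (d * b)) (2 ^ (k + 1)) :=
      Nat.Coprime.pow_right _ (Nat.coprime_two_right.mpr hadj.2.2.2)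
    have h1' : orderOf (d * b) = 1 := Nat.Coprime.eq_one_of_dvd hcop hdvd
    rw [orderOf_eq_one_iff] at h1'
    apply oddAdj_not_sq hD hadj
    rw [h1', one_pow]
  exact ⟨hd, fun b => ⟨key b, fun h => key b (oddAdj_symm h)⟩⟩

end main

end Cfsg.Agent.Lead.RootInv
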