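import Mathlib
import Cfsg.Prelude.Def_QuasithinSetup
import Cfsg.Agent.Lead.RootInvC

/-!
Lead: normal subgroups of a group generated by a connected set of root involutions containing a
line (S5048): every normal subgroup is the whole group or lies in the preimage of the centre of
`G / O_2(G)`.
-/

set_option autoImplicit false

namespace Cfsg.Agent.Lead.RootInv

open Cfsg Cfsg.Agent.Helper2 Cfsg.Agent.Helper5

variable {G : Type*} [Group G] {D : Set G}

/-- `O_p` is characteristic. -/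
theorem pCore_characteristic' (p : ℕ) (X : Type*) [Group X] : (Cfsg.pCore p X).Characteristic := by
  rw [Subgroup.characteristic_iff_map_le]
  intro φ
  unfold Cfsg.pCore
  rw [Subgroup.map_le_iff_le_comap]
  apply sSup_le
  intro N hN
  rw [← Subgroup.map_le_iff_le_comap]
  apply le_sSup
  exact ⟨hN.1.map φ.toMonoidHom φ.surjective, hN.2.map _⟩

/-- a normal `p`-subgroup of a normal subgroup lies in `O_p`. -/
theorem le_pCore_of_normal_of_normal (p : ℕ) [Fact p.Prime] (N Q : Subgroup G) [N.Normal]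
    (hQN : Q ≤ N) (hQ : IsPGroup p Q) (hNQ : ∀ n ∈ N, ∀ q ∈ Q, n * q * n⁻¹ ∈ Q) :
    Q ≤ Cfsg.pCore p G := by
  have hn : (Q.subgroupOf N).Normal := by
    constructor
    intro q hq n
    rw [Subgroup.mem_subgroupOf] at hq ⊢
    exact hNQ n n.2 q hq
  have hp : IsPGroup p (Q.subgroupOf N) := hQ.comap_subtype
  have h1 : Q.subgroupOf N ≤ Cfsg.pCore p ↥N := le_pCore hn hp
  have hchar := pCore_characteristic' p ↥N
  have hn2 : ((Cfsg.pCore p ↥N).map N.subtype).Normal :=
    ConjAct.normal_of_characteristic_of_normal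
  have h2 : (Cfsg.pCore p ↥N).map N.subtype ≤ Cfsg.pCore p G :=
    le_pCore hn2 ((isPGroup_pCore p).map _)
  intro q hq
  exact h2 ⟨⟨q, hQN hq⟩, h1 (Subgroup.mem_subgroupOf.2 hq), rfl⟩

section main

variable (hD : IsRootInvolutionSet D)
include hD

/-- members with a product of odd order are conjugate. -/
theorem exists_conj_of_oddAdj {a b : G} (h : OddAdj D a b) : ∃ g : G, b = g * a * g⁻¹ := by
  obtain ⟨k, hk⟩ := h.2.2.2
  have haa := sq_one hD h.1
  have hbb := sq_one hD h.2.1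
  refine ⟨(a * b) ^ (k : ℤ), ?_⟩
  rw [zpow_mul_invol haa hbb, mul_assoc, ← zpow_neg, ← zpow_add]
  have h2 : (a * b) ^ (-(k : ℤ) + -(k : ℤ)) = a * b := by
    have h1 : (a * b) ^ ((2 * k + 1 : ℕ) : ℤ) = 1 := by
      rw [zpow_natCast, ← hk, pow_orderOf_eq_one]
    have h3 : (-(k : ℤ) + -(k : ℤ)) = 1 - ((2 * k + 1 : ℕ) : ℤ) := by push_cast; ring
    rw [h3, zpow_sub, h1, inv_one, mul_one, zpow_one]
  rw [h2, ← mul_assoc, haa, one_mul]

theorem exists_conj_of_rtg {a b : G} (h : Relation.ReflTransGen (OddAdj D) a b) :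
    ∃ g : G, b = g * a * g⁻¹ := by
  induction h with
  | refl => exact ⟨1, by simp⟩
  | tail _ hbc ih =>
    obtain ⟨g, rfl⟩ := ih
    obtain ⟨g', hg'⟩ := exists_conj_of_oddAdj hD hbc
    exact ⟨g' * g, by rw [hg']; group⟩

/-- a normal subgroup meeting a connected `D` is everything. -/
theorem eq_top_of_mem (hc : IsConnectedSet (OddAdj D) D) (N : Subgroup G) [hN : N.Normal]
    {e : G} (he : e ∈ D) (heN : e ∈ N) : N = ⊤ := by
  rw [eq_top_iff, ← hD.generates, Subgroup.closure_le]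
  intro y hy
  obtain ⟨g, rfl⟩ := exists_conj_of_rtg hD (hc e he y hy)
  exact hN.conj_mem e heN g

/-- through every member of a connected `D` containing a line there is a line. -/
theorem exists_line (hc : IsConnectedSet (OddAdj D) D)
    (hDD : (D ∩ commutingProducts D).Nonempty) {d : G} (hd : d ∈ D) :
    ∃ a ∈ D, a * d ∈ D ∧ a * d = d * a := by
  obtain ⟨x, hxD, a₀, ha₀, b₀, hb₀, hcomm, -, rfl⟩ := hDD
  obtain ⟨g, rfl⟩ := exists_conj_of_rtg hD (hc b₀ hb₀ d hd)
  refine ⟨g * a₀ * g⁻¹, hD.conj_mem a₀ ha₀ g, ?_, ?_⟩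
  · have : g * a₀ * g⁻¹ * (g * b₀ * g⁻¹) = g * (a₀ * b₀) * g⁻¹ := by group
    rw [this]; exact hD.conj_mem _ hxD g
  · have h1 : g * a₀ * g⁻¹ * (g * b₀ * g⁻¹) = g * (a₀ * b₀) * g⁻¹ := by group
    have h2 : g * b₀ * g⁻¹ * (g * a₀ * g⁻¹) = g * (b₀ * a₀) * g⁻¹ := by group
    rw [h1, h2, hcomm]

/-- if some `d * d^n` (`n ∈ N`) has odd order greater than one, then `N = ⊤`. -/
theorem eq_top_of_oddAdj_conj (hc : IsConnectedSet (OddAdj D) D)
    (hDD : (D ∩ commutingProducts D).Nonempty) (N : Subgroup G) [hN : N.Normal]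
    {d n : G} (hd : d ∈ D) (hn : n ∈ N) (hadj : OddAdj D d (n * d * n⁻¹)) : N = ⊤ := by
  obtain ⟨a, ha, hf, hae⟩ := exists_line hD hc hDD hd
  have hdd := sq_one hD hd
  have haa := sq_one hD ha
  -- `d' ≡ d` modulo `N`
  have hmod : (QuotientGroup.mk' N) (n * d * n⁻¹) = (QuotientGroup.mk' N) d := by
    have h1 : (QuotientGroup.mk' N) n = 1 := (QuotientGroup.eq_one_iff n).2 hn
    rw [map_mul, map_mul, map_inv, h1, one_mul, inv_one, mul_one]
  have hker : ∀ x : G, (QuotientGroup.mk' N) x = 1 → x ∈ N := fun x hx =>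
    (QuotientGroup.eq_one_iff x).1 hx
  rcases line_adj hD ha hd hf hae (oddAdj_symm hadj) with h | h
  · -- `d' * a` of odd order, so `d * a ∈ N`
    obtain ⟨k, hk⟩ := h.2.2.2
    have h1 : ((n * d * n⁻¹) * a) ^ (2 * k + 1) = 1 := by rw [← hk, pow_orderOf_eq_one]
    have h2 := congrArg (QuotientGroup.mk' N) h1
    rw [map_pow, map_mul, hmod, ← map_mul, ← map_pow, map_one] at h2
    have h3 : (d * a) ^ (2 * k + 1) = d * a := by
      have h4 : (d * a) ^ 2 = 1 := by
        rw [pow_two]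
        calc d * a * (d * a) = d * (a * d) * a := by group
          _ = d * (d * a) * a := by rw [hae]
          _ = (d * d) * (a * a) := by group
          _ = 1 := by rw [hdd, haa, one_mul]
      rw [pow_succ, pow_mul, h4, one_pow, one_mul]
    rw [h3] at h2
    have h5 : a * d ∈ N := by rw [hae]; exact hker _ h2
    exact eq_top_of_mem hD hc N hf h5
  · -- `d' * (a * d)` of odd order, so `a ∈ N`
    obtain ⟨k, hk⟩ := h.2.2.2
    have h1 : ((n * d * n⁻¹) * (a * d)) ^ (2 * k + 1) = 1 := by rw [← hk, pow_orderOf_eq_one]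
    have h2 := congrArg (QuotientGroup.mk' N) h1
    rw [map_pow, map_mul, hmod, ← map_mul, ← map_pow, map_one] at h2
    have h6 : d * (a * d) = a := by
      rw [hae, ← mul_assoc, hdd, one_mul]
    rw [h6] at h2
    have h3 : a ^ (2 * k + 1) = a := by
      rw [pow_succ, pow_mul, pow_two, haa, one_pow, one_mul]
    rw [h3] at h2
    exact eq_top_of_mem hD hc N ha (hker _ h2)

/-- fourth power of `d * d'` is trivial unless they are odd-adjacent. -/
theorem pow_four_of_not_oddAdj {d d' : G} (hd : d ∈ D) (hd' : d' ∈ D) (h : ¬ OddAdj D d d') :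
    (d * d') ^ 4 = 1 := by
  have hdd := sq_one hD hd
  have hdd' := sq_one hD hd'
  rcases hD.pair d hd d' hd' with h1 | h1 | h1
  · have : (d * d') ^ 2 = 1 := by
      calc (d * d') ^ 2 = d * (d' * d) * d' := by rw [pow_two]; group
        _ = d * (d * d') * d' := by rw [← h1]
        _ = (d * d) * (d' * d') := by group
        _ = 1 := by rw [hdd, hdd', one_mul]
    rw [show (4 : ℕ) = 2 * 2 from rfl, pow_mul, this, one_pow]
  · by_cases he : d = d'
    · rw [← he, hdd, one_pow]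
    · exact absurd ⟨hd, hd', he, h1⟩ h
  · rw [← h1.1]; exact pow_orderOf_eq_one _

/-- if no `d * d^n` (`n ∈ N`) has odd order greater than one, then `d * d^n ∈ O_2(G)`. -/
theorem mul_conj_mem_pCore [Finite G] (N : Subgroup G) [hN : N.Normal] {d : G} (hd : d ∈ D)
    (h : ∀ n ∈ N, ¬ OddAdj D d (n * d * n⁻¹)) {n : G} (hn : n ∈ N) :
    d * (n * d * n⁻¹) ∈ Cfsg.pCore 2 G := by
  have : Fact (Nat.Prime 2) := ⟨Nat.prime_two⟩
  have hdd := sq_one hD hd
  set H : Subgroup G := N ⊔ Subgroup.zpowers d with hH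
  have hNH : N ≤ H := le_sup_left
  have hdH : d ∈ H := (le_sup_right : Subgroup.zpowers d ≤ H) (Subgroup.mem_zpowers d)
  -- conjugates of `d` under `H` are conjugates under `N`
  have key1 : ∀ x ∈ H, ∃ m ∈ N, x * d * x⁻¹ = m * d * m⁻¹ := by
    intro x hx
    have hx' : x ∈ ((N ⊔ Subgroup.zpowers d : Subgroup G) : Set G) := hx
    rw [Subgroup.normal_mul] at hx'
    obtain ⟨m, hm, z, hz, rfl⟩ := Set.mem_mul.1 hx'
    refine ⟨m, hm, ?_⟩
    obtain ⟨i, rfl⟩ := Subgroup.mem_zpowers_iff.1 hz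
    have hc : d ^ i * d * (d ^ i)⁻¹ = d := by
      rw [← zpow_add_one, ← zpow_neg, ← zpow_add]; simp
    calc m * d ^ i * d * (m * d ^ i)⁻¹ = m * (d ^ i * d * (d ^ i)⁻¹) * m⁻¹ := by group
      _ = m * d * m⁻¹ := by rw [hc]
  let dH : ↥H := ⟨d, hdH⟩
  have hdHdH : dH * dH = 1 := Subtype.ext hdd
  have hX : IsPGroup 2 ↥(Subgroup.zpowers dH) := by
    apply IsPGroup.of_card (n := 1)
    rw [Nat.card_zpowers, pow_one]
    have : orderOf dH = orderOf d := by
      rw [← Subgroup.orderOf_coe]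
    rw [this, hD.orderOf_eq d hd]
  obtain ⟨M, hMn, hMp, hle⟩ := baer_suzuki (p := 2) (Subgroup.zpowers dH) hX (by
    intro g
    obtain ⟨m, hm, hgm⟩ := key1 g g.2
    have hw' : (g : G) * d * (g : G)⁻¹ ∈ D := hD.conj_mem d hd g
    have h4 : (d * ((g : G) * d * (g : G)⁻¹)) ^ 4 = 1 := by
      apply pow_four_of_not_oddAdj hD hd hw'
      rw [hgm]; exact h m hm
    have hgg : (g * dH * g⁻¹) * (g * dH * g⁻¹) = 1 := by
      calc (g * dH * g⁻¹) * (g * dH * g⁻¹) = g * (dH * dH) * g⁻¹ := by group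
        _ = 1 := by rw [hdHdH]; group
    have h4' : (dH * (g * dH * g⁻¹)) ^ 4 = 1 := by
      apply Subtype.ext
      rw [Subgroup.coe_pow]
      exact h4
    refine (isPGroup_closure_pair hdHdH hgg h4').to_le ?_
    rw [sup_le_iff]
    constructor
    · rw [Subgroup.zpowers_le]
      exact Subgroup.subset_closure (by simp)
    · rw [cj_le_iff]
      intro x hx
      obtain ⟨i, rfl⟩ := Subgroup.mem_zpowers_iff.mp hx
      have : g * dH ^ i * g⁻¹ = (g * dH * g⁻¹) ^ i := by rw [conj_zpow]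
      rw [this]
      exact Subgroup.zpow_mem _ (Subgroup.subset_closure (by simp)) _)
  have hdM : dH ∈ M := hle (Subgroup.mem_zpowers dH)
  -- the relevant normal `2`-subgroup of `N`
  set Q : Subgroup G := M.map H.subtype ⊓ N with hQ
  have hQ2 : IsPGroup 2 Q := (hMp.map H.subtype).to_le inf_le_left
  have hNQ : ∀ m ∈ N, ∀ q ∈ Q, m * q * m⁻¹ ∈ Q := by
    intro m hm q hq
    obtain ⟨⟨y, hy, rfl⟩, hqN⟩ := Subgroup.mem_inf.1 hq
    refine Subgroup.mem_inf.2 ⟨?_, hN.conj_mem _ hqN m⟩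
    exact ⟨(⟨m, hNH hm⟩ : ↥H) * y * (⟨m, hNH hm⟩ : ↥H)⁻¹, hMn.conj_mem y hy _, rfl⟩
  have hmem : d * (n * d * n⁻¹) ∈ Q := by
    refine Subgroup.mem_inf.2 ⟨?_, ?_⟩
    · refine ⟨dH * ((⟨n, hNH hn⟩ : ↥H) * dH * (⟨n, hNH hn⟩ : ↥H)⁻¹),
        M.mul_mem hdM (hMn.conj_mem dH hdM _), rfl⟩
    · have h1 : d * (n * d * n⁻¹) = (d * n * d⁻¹) * n⁻¹ := by
        rw [inv_self hD hd]; group
      rw [h1]
      exact N.mul_mem (hN.conj_mem n hn d) (N.inv_mem hn)
  exact le_pCore_of_normal_of_normal 2 N Q inf_le_right hQ2 hNQ hmem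

/-- **Dichotomy.** Every normal subgroup is the whole group or lies in `O_{2,Z}(G)`. -/
theorem normal_eq_top_or_le_twoZCore [Finite G] (hc : IsConnectedSet (OddAdj D) D)
    (hDD : (D ∩ commutingProducts D).Nonempty) (N : Subgroup G) [hN : N.Normal] :
    N = ⊤ ∨ N ≤ Cfsg.twoZCore G := by
  by_cases hex : ∃ d ∈ D, ∃ n ∈ N, OddAdj D d (n * d * n⁻¹)
  · obtain ⟨d, hd, n, hn, hadj⟩ := hex
    exact Or.inl (eq_top_of_oddAdj_conj hD hc hDD N hd hn hadj)
  · right
    simp only [not_exists, not_and] at hex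
    intro n hn
    show (QuotientGroup.mk' (Cfsg.pCore 2 G)) n ∈ Subgroup.center (G ⧸ Cfsg.pCore 2 G)
    rw [Subgroup.mem_center_iff]
    intro y
    obtain ⟨g, rfl⟩ := QuotientGroup.mk'_surjective (Cfsg.pCore 2 G) y
    -- the centralizer of the image of `n` contains the image of `D`, hence everything
    have hg : g ∈ (Subgroup.centralizer
        ({(QuotientGroup.mk' (Cfsg.pCore 2 G)) n} : Set (G ⧸ Cfsg.pCore 2 G))).comap
          (QuotientGroup.mk' (Cfsg.pCore 2 G)) := by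
      have hle : Subgroup.closure D ≤ (Subgroup.centralizer
          ({(QuotientGroup.mk' (Cfsg.pCore 2 G)) n} : Set (G ⧸ Cfsg.pCore 2 G))).comap
            (QuotientGroup.mk' (Cfsg.pCore 2 G)) := by
        rw [Subgroup.closure_le]
        intro d hd
        show (QuotientGroup.mk' (Cfsg.pCore 2 G)) d ∈ Subgroup.centralizer _
        rw [Subgroup.mem_centralizer_singleton_iff]
        have h1 := mul_conj_mem_pCore hD N hd (hex d hd) hn
        have h2 : (QuotientGroup.mk' (Cfsg.pCore 2 G)) (d * (n * d * n⁻¹)) = 1 :=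
          (QuotientGroup.eq_one_iff _).2 h1
        rw [map_mul, map_mul, map_mul, map_inv] at h2
        have hdd : (QuotientGroup.mk' (Cfsg.pCore 2 G)) d * (QuotientGroup.mk' (Cfsg.pCore 2 G)) d = 1 := by
          rw [← map_mul, sq_one hD hd, map_one]
        -- `d̄ n̄ d̄ n̄⁻¹ = 1` and `d̄² = 1` give `d̄ n̄ = n̄ d̄`
        set db := (QuotientGroup.mk' (Cfsg.pCore 2 G)) d
        set nb := (QuotientGroup.mk' (Cfsg.pCore 2 G)) n
        have h3 : nb * db * nb⁻¹ = db := by
          have : nb * db * nb⁻¹ = db⁻¹ := eq_inv_of_mul_eq_one_right h2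
          rw [this, inv_eq_of_mul_eq_one_left hdd]
        calc db * nb = (nb * db * nb⁻¹) * nb := by rw [h3]
          _ = nb * db := by group
      rw [hD.generates] at hle
      exact hle (Subgroup.mem_top g)
    have hg' := Subgroup.mem_centralizer_singleton_iff.1 (Subgroup.mem_comap.1 hg)
    exact hg'

end main

end Cfsg.Agent.Lead.RootInv
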