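import Mathlib
import Cfsg.Prelude.Def_QuasithinSetup
import Cfsg.Agent.Lead.RootInvD

/-!
Lead: the solvable radical and simplicity for a connected set of root involutions containing a line
(S5048).
-/

set_option autoImplicit false

namespace Cfsg.Agent.Lead.RootInv

open Cfsg Cfsg.Agent.Helper2 Cfsg.Agent.Helper5

variable {G : Type*} [Group G] {D : Set G}

/-- `O_{2,Z}(G)` is solvable. -/
theorem twoZCore_isSolvable [Finite G] : Group.IsSolvable ↥(Cfsg.twoZCore G) := by
  have : Fact (Nat.Prime 2) := ⟨Nat.prime_two⟩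
  have hle : Cfsg.pCore 2 G ≤ Cfsg.twoZCore G := by
    intro x hx
    show (QuotientGroup.mk' (Cfsg.pCore 2 G)) x ∈ Subgroup.center (G ⧸ Cfsg.pCore 2 G)
    have : (QuotientGroup.mk' (Cfsg.pCore 2 G)) x = 1 := (QuotientGroup.eq_one_iff x).2 hx
    rw [this]; exact Subgroup.one_mem _
  have hnil : Group.IsNilpotent ↥(Cfsg.pCore 2 G) := (isPGroup_pCore (G := G) 2).isNilpotent
  have hs1 : Group.IsSolvable ↥(Cfsg.pCore 2 G) := inferInstance
  have hs2 : Group.IsSolvable ↥(Subgroup.center (G ⧸ Cfsg.pCore 2 G)) :=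
    Group.isSolvable_of_comm (fun a b => Subtype.ext ((Subgroup.mem_center_iff.1 b.2) (a : G ⧸ Cfsg.pCore 2 G)))
  let g : ↥(Cfsg.twoZCore G) →* ↥(Subgroup.center (G ⧸ Cfsg.pCore 2 G)) :=
    ((QuotientGroup.mk' (Cfsg.pCore 2 G)).comp (Cfsg.twoZCore G).subtype).codRestrict _
      (fun x => x.2)
  refine Group.isSolvable_of_ker_le_range (Subgroup.inclusion hle) g ?_
  intro x hx
  have hx1 : g x = 1 := hx
  have hx2 : (QuotientGroup.mk' (Cfsg.pCore 2 G)) (x : G) = 1 := congrArg Subtype.val hx1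
  have hx3 : (x : G) ∈ Cfsg.pCore 2 G := (QuotientGroup.eq_one_iff _).1 hx2
  exact ⟨⟨x, hx3⟩, Subtype.ext rfl⟩

section main

variable (hD : IsRootInvolutionSet D)
include hD

/-- the product of two odd-adjacent members does not lie in `O_{2,Z}(G)`. -/
theorem mul_not_mem_twoZCore [Finite G] {d d' : G} (hadj : OddAdj D d d') :
    d * d' ∉ Cfsg.twoZCore G := by
  intro hmem
  have hd := hadj.1
  have hd' := hadj.2.1
  have hdd := sq_one hD hd
  have hdd' := sq_one hD hd'
  have hc : (QuotientGroup.mk' (Cfsg.pCore 2 G)) (d * d') ∈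
      Subgroup.center (G ⧸ Cfsg.pCore 2 G) := hmem
  rw [Subgroup.mem_center_iff] at hc
  have h1 := hc ((QuotientGroup.mk' (Cfsg.pCore 2 G)) d)
  rw [← map_mul, ← map_mul] at h1
  -- `d (d d') = (d d') d` modulo `O_2`, so `(d d')^2 ∈ O_2`
  have h2 : (d * (d * d'))⁻¹ * (d * d' * d) ∈ Cfsg.pCore 2 G :=
    QuotientGroup.eq.1 h1
  have h3 : (d * (d * d'))⁻¹ * (d * d' * d) = (d' * d) ^ 2 := by
    rw [← mul_assoc d d d', hdd, one_mul, pow_two, inv_self hD hd']
    group
  rw [h3] at h2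
  obtain ⟨k, hk⟩ := (isPGroup_pCore (G := G) 2) ⟨_, h2⟩
  have hk' : ((d' * d) ^ 2) ^ (2 ^ k) = 1 := by
    have := congrArg Subtype.val hk
    simpa using this
  rw [← pow_mul] at hk'
  have hadj' := oddAdj_symm hadj
  have hdvd : orderOf (d' * d) ∣ 2 ^ (k + 1) := by
    rw [pow_succ, mul_comm]; exact orderOf_dvd_of_pow_eq_one hk'
  have hcop : Nat.Coprime (orderOf (d' * d)) (2 ^ (k + 1)) :=
    Nat.Coprime.pow_right _ (Nat.coprime_two_right.mpr hadj'.2.2.2)
  have h1' : orderOf (d' * d) = 1 := Nat.Coprime.eq_one_of_dvd hcop hdvd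
  rw [orderOf_eq_one_iff] at h1'
  apply oddAdj_not_sq hD hadj'
  rw [h1', one_pow]

/-- an odd-adjacent pair exists. -/
theorem exists_oddAdj (hc : IsConnectedSet (OddAdj D) D)
    (hDD : (D ∩ commutingProducts D).Nonempty) : ∃ d d' : G, OddAdj D d d' := by
  obtain ⟨x, -, a₀, ha₀, b₀, hb₀, -, hne, rfl⟩ := hDD
  have hab : a₀ ≠ b₀ := by
    rintro rfl
    exact hne (sq_one hD ha₀)
  rcases Relation.ReflTransGen.cases_head (hc a₀ ha₀ b₀ hb₀) with h | ⟨c, hc', -⟩
  · exact absurd h hab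
  · exact ⟨a₀, c, hc'⟩

/-- **S5048.** -/
theorem solvableRadical_eq_and_simple [Finite G] (hc : IsConnectedSet (OddAdj D) D)
    (hDD : (D ∩ commutingProducts D).Nonempty) :
    Cfsg.solvableRadical G = Cfsg.twoZCore G ∧ IsSimpleGroup (G ⧸ Cfsg.twoZCore G) := by
  obtain ⟨d, d', hadj⟩ := exists_oddAdj hD hc hDD
  have hnot := mul_not_mem_twoZCore hD hadj
  have hsimple : IsSimpleGroup (G ⧸ Cfsg.twoZCore G) := by
    have hnt : Nontrivial (G ⧸ Cfsg.twoZCore G) := by
      refine ⟨⟨(QuotientGroup.mk' (Cfsg.twoZCore G)) (d * d'), 1, ?_⟩⟩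
      intro h
      exact hnot ((QuotientGroup.eq_one_iff _).1 h)
    refine ⟨?_⟩
    intro K hK
    have hKn : (K.comap (QuotientGroup.mk' (Cfsg.twoZCore G))).Normal := hK.comap _
    rcases normal_eq_top_or_le_twoZCore hD hc hDD (K.comap (QuotientGroup.mk' (Cfsg.twoZCore G)))
      with h | h
    · right
      rw [eq_top_iff]
      intro y _
      obtain ⟨g, rfl⟩ := QuotientGroup.mk'_surjective (Cfsg.twoZCore G) y
      have : g ∈ K.comap (QuotientGroup.mk' (Cfsg.twoZCore G)) := by rw [h]; exact Subgroup.mem_top g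
      exact this
    · left
      rw [eq_bot_iff]
      intro y hy
      obtain ⟨g, rfl⟩ := QuotientGroup.mk'_surjective (Cfsg.twoZCore G) y
      have hg : g ∈ K.comap (QuotientGroup.mk' (Cfsg.twoZCore G)) := hy
      rw [Subgroup.mem_bot]
      exact (QuotientGroup.eq_one_iff _).2 (h hg)
  refine ⟨?_, hsimple⟩
  -- the quotient is not commutative
  have hncomm : ¬ ∀ a b : G ⧸ Cfsg.twoZCore G, a * b = b * a := by
    intro hcomm
    obtain ⟨g, hg⟩ := exists_conj_of_oddAdj hD hadj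
    have h1 : d * d' = d * g * d⁻¹ * g⁻¹ := by
      rw [hg, inv_self hD hadj.1]; group
    have h2 : (QuotientGroup.mk' (Cfsg.twoZCore G)) (d * d') = 1 := by
      rw [h1, map_mul, map_mul, map_mul, map_inv, map_inv,
        hcomm ((QuotientGroup.mk' (Cfsg.twoZCore G)) d) ((QuotientGroup.mk' (Cfsg.twoZCore G)) g)]
      group
    exact hnot ((QuotientGroup.eq_one_iff _).1 h2)
  apply le_antisymm
  · apply sSup_le
    rintro N ⟨hNn, hNs⟩
    rcases normal_eq_top_or_le_twoZCore hD hc hDD N with h | h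
    · exfalso
      apply hncomm
      have hGs : Group.IsSolvable G := by
        have hsurj : Function.Surjective ((⊤ : Subgroup G).subtype) := fun x => ⟨⟨x, trivial⟩, rfl⟩
        rw [h] at hNs
        exact Group.isSolvable_of_surjective hsurj
      have hQs : Group.IsSolvable (G ⧸ Cfsg.twoZCore G) :=
        Group.isSolvable_of_surjective (QuotientGroup.mk'_surjective (Cfsg.twoZCore G))
      exact IsSimpleGroup.comm_iff_isSolvable.2 hQs
    · exact h
  · exact le_sSup ⟨inferInstance, twoZCore_isSolvable⟩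

end main

end Cfsg.Agent.Lead.RootInv
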