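import Mathlib
import Cfsg.Prelude.Def_LocalEven
import Cfsg.Prelude.Def_Transfer
import Cfsg.Prelude.Def_Solvable
import Cfsg.Agent.Helper1.PQLemma
import Cfsg.Agent.Helper1.Fitting
import Cfsg.Agent.Helper2.GenHyper
import Cfsg.Agent.Helper9.S3
import Cfsg.Agent.Lead.InvolvesLemmas
import Cfsg.Agent.Lead.PSolvB

set_option autoImplicit false

/-!
`S₃`-free groups acting faithfully on elementary abelian `2`-groups: `|V : C_V(A)| ≥ |A|²`.
-/

namespace Cfsg.Agent.Lead
namespace S3Free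

open Cfsg.Agent.Lead.PSolvGL2

/-- An element of order prime to `6` normalizing a `2`-group `W` and centralizing a subgroup of index
at most `4` centralizes `W`. -/
theorem centralizes_of_small_index {X : Type*} [Group X] [Finite X] (W W₀ : Subgroup X)
    (hW : IsPGroup 2 W) (x : X) (hxW : x ∈ Subgroup.normalizer (W : Set X)) (hW₀ : W₀ ≤ W)
    (hcent : ∀ w ∈ W₀, x * w = w * x) (hidx : W₀.relIndex W ≤ 4) (n : ℕ) (hn : n.Coprime 6)
    (hx : x ^ n = 1) : ∀ w ∈ W, x * w = w * x := by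
  classical
  obtain ⟨φ, hφdef⟩ : ∃ φ : MulAut W, φ = conjAut W x hxW := ⟨_, rfl⟩
  have hφa : ∀ g : W, ((φ g : W) : X) = x * g * x⁻¹ := by
    intro g; rw [hφdef]; rfl
  have hφn : φ ^ n = 1 := by
    ext g
    rw [hφdef, conjAut_pow_apply, hx]
    simp
  have hfix : ∀ g : W, (g : X) ∈ W₀ → φ g = g := by
    intro g hg
    apply Subtype.ext
    rw [hφa, hcent _ hg]; group
  have hmem : ∀ g : W, ((φ g : W) : X) ∈ W₀ ↔ (g : X) ∈ W₀ := by
    intro g
    constructor
    · intro h
      have h1 := hcent _ h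
      rw [hφa] at h1 h
      have h2 : x * (g : X) * x⁻¹ = g := by
        have : x * (x * (g : X) * x⁻¹) = x * g := by rw [h1]; group
        exact mul_left_cancel this
      rwa [h2] at h
    · intro h
      rw [hfix g h]; exact h
  obtain ⟨W₀', hW₀'⟩ : ∃ W₀' : Subgroup W, W₀' = W₀.subgroupOf W := ⟨_, rfl⟩
  have hcard : Nat.card (W ⧸ W₀') ≤ 4 := by
    have : Nat.card (W ⧸ W₀') = W₀.relIndex W := by
      rw [hW₀']; rfl
    rw [this]; exact hidx
  obtain ⟨σ, hσ⟩ : ∃ σ : Equiv.Perm (W ⧸ W₀'),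
      ∀ g : W, σ (QuotientGroup.mk g) = QuotientGroup.mk (φ g) := by
    refine ⟨Quotient.congr φ.toEquiv ?_, fun g => rfl⟩
    intro a b
    show QuotientGroup.leftRel _ a b ↔ QuotientGroup.leftRel _ (φ a) (φ b)
    rw [QuotientGroup.leftRel_apply, QuotientGroup.leftRel_apply, ← map_inv, ← map_mul]
    rw [hW₀', Subgroup.mem_subgroupOf, Subgroup.mem_subgroupOf]
    exact (hmem _).symm
  have hσk : ∀ (k : ℕ) (g : W), (σ ^ k) (QuotientGroup.mk g) = QuotientGroup.mk ((φ ^ k) g) := by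
    intro k
    induction k with
    | zero => intro g; simp
    | succ k ih =>
      intro g
      rw [pow_succ', Equiv.Perm.mul_apply, ih, hσ, pow_succ', MulAut.mul_apply]
  have hσn : σ ^ n = 1 := by
    ext w
    induction w using QuotientGroup.induction_on with
    | H g => rw [hσk, hφn]; rfl
  have hσ1 : σ = 1 := perm_eq_one_of_card_le_four σ hcard n hn hσn
  have hgz : ∀ g : W, g⁻¹ * φ g ∈ W₀' := by
    intro g
    have h1 := hσ g
    rw [hσ1, Equiv.Perm.one_apply] at h1
    exact QuotientGroup.eq.1 h1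
  intro w hw
  obtain ⟨g, hg⟩ : ∃ g : W, g = ⟨w, hw⟩ := ⟨_, rfl⟩
  have hc : g⁻¹ * φ g ∈ W₀' := hgz g
  have hc' : ((g⁻¹ * φ g : W) : X) ∈ W₀ := by
    rw [hW₀', Subgroup.mem_subgroupOf] at hc; exact hc
  have hcfix : φ (g⁻¹ * φ g) = g⁻¹ * φ g := hfix _ hc'
  have hk := mulAut_pow_apply_mul φ g (g⁻¹ * φ g) hcfix (by group) n
  rw [hφn, MulAut.one_apply] at hk
  have hcn : (g⁻¹ * φ g) ^ n = 1 := by
    have := congrArg (g⁻¹ * ·) hk
    simpa using this.symm
  obtain ⟨j, hj⟩ := hW (g⁻¹ * φ g)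
  have hn2 : Nat.Coprime n (2 ^ j) := (hn.coprime_dvd_right (by norm_num : 2 ∣ 6)).pow_right j
  have hc1 : g⁻¹ * φ g = 1 := by
    have h1 := pow_gcd_eq_one.2 ⟨hcn, hj⟩
    rwa [hn2.gcd_eq_one, pow_one] at h1
  have hφg : φ g = g := by
    have : φ g = g * (g⁻¹ * φ g) := by group
    rw [this, hc1, mul_one]
  have h2 := congrArg Subtype.val hφg
  rw [hφa, hg] at h2
  -- x * w * x⁻¹ = w
  have h3 : x * w * x⁻¹ = w := h2
  calc x * w = (x * w * x⁻¹) * x := by group
    _ = w * x := by rw [h3]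


theorem mem_normalizer_inf {X : Type*} [Group X] {H₁ H₂ : Subgroup X} {g : X}
    (h1 : g ∈ Subgroup.normalizer (H₁ : Set X)) (h2 : g ∈ Subgroup.normalizer (H₂ : Set X)) :
    g ∈ Subgroup.normalizer ((H₁ ⊓ H₂ : Subgroup X) : Set X) := by
  rw [Subgroup.mem_normalizer_iff] at h1 h2 ⊢
  intro h
  rw [Subgroup.mem_inf, Subgroup.mem_inf, ← h1 h, ← h2 h]

theorem mem_normalizer_centralizer {X : Type*} [Group X] {S : Set X} {g : X}
    (h : g ∈ Subgroup.centralizer S) :
    g ∈ Subgroup.normalizer ((Subgroup.centralizer S : Subgroup X) : Set X) :=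
  Subgroup.le_normalizer h

/-- An involution `a` not commuting with an element `d` of a subgroup `D` of odd order normalized
by `a` inverts an element of odd prime order of `D`. -/
theorem exists_inverted_prime {X : Type*} [Group X] [Finite X] (D : Subgroup X)
    (hD : (Nat.card D).Coprime 2) (a : X) (ha : a * a = 1)
    (haD : a ∈ Subgroup.normalizer (D : Set X)) (d : X) (hd : d ∈ D) (hne : a * d ≠ d * a) :
    ∃ (x : X) (r : ℕ), x ∈ D ∧ r.Prime ∧ r ≠ 2 ∧ orderOf x = r ∧ a * x * a⁻¹ = x⁻¹ := by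
  have hainv : a⁻¹ = a := inv_eq_of_mul_eq_one_left ha
  obtain ⟨y, hy⟩ : ∃ y : X, y = a * d * a⁻¹ * d⁻¹ := ⟨_, rfl⟩
  have hyD : y ∈ D := by
    rw [hy]
    exact D.mul_mem ((Subgroup.mem_normalizer_iff.1 haD d).1 hd) (D.inv_mem hd)
  have hy1 : y ≠ 1 := by
    intro h
    apply hne
    rw [hy] at h
    have : a * d * a⁻¹ = d := by
      have := mul_inv_eq_one.1 h
      exact this
    calc a * d = (a * d * a⁻¹) * a := by group
      _ = d * a := by rw [this]
  have hyinv : a * y * a⁻¹ = y⁻¹ := by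
    rw [hy, hainv]
    have h1 : (a * d * a * d⁻¹)⁻¹ = d * a⁻¹ * d⁻¹ * a⁻¹ := by group
    rw [h1, hainv]
    calc a * (a * d * a * d⁻¹) * a = (a * a) * d * a * d⁻¹ * a := by simp only [mul_assoc]
      _ = d * a * d⁻¹ * a := by rw [ha, one_mul]
  have hord : orderOf y ≠ 1 := fun h => hy1 (orderOf_eq_one_iff.1 h)
  obtain ⟨r, hr, hrd⟩ := Nat.exists_prime_and_dvd hord
  have hord0 : orderOf y ≠ 0 := (orderOf_pos y).ne'
  refine ⟨y ^ (orderOf y / r), r, D.pow_mem hyD _, hr, ?_, orderOf_pow_orderOf_div hord0 hrd, ?_⟩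
  · rintro rfl
    have h1 : orderOf y ∣ Nat.card D := by
      have := orderOf_dvd_natCard (⟨y, hyD⟩ : D)
      rwa [← Subgroup.orderOf_coe] at this
    have h2 : 2 ∣ Nat.card D := hrd.trans h1
    have := Nat.Coprime.eq_one_of_dvd hD.symm h2
    omega
  · have : a * y ^ (orderOf y / r) * a⁻¹ = (a * y * a⁻¹) ^ (orderOf y / r) := by
      rw [conj_pow]
    rw [this, hyinv, inv_pow]


theorem involves_S3 {X : Type*} [Group X] (M : Subgroup X) (a x : X) (haM : a ∈ M) (hxM : x ∈ M)
    (ha : a * a = 1) (hx3 : orderOf x = 3) (hinv : a * x * a⁻¹ = x⁻¹) :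
    Cfsg.Involves (Equiv.Perm (Fin 3)) ↥M := by
  have hainv : a⁻¹ = a := inv_eq_of_mul_eq_one_left ha
  have hx3' : x * (x * x) = 1 := by
    have := pow_orderOf_eq_one x
    rw [hx3] at this
    rw [← this]; simp only [pow_succ, pow_zero, one_mul, mul_assoc]
  have hx1 : x ≠ 1 := by
    intro h
    rw [h, orderOf_one] at hx3; omega
  have hxinv : x⁻¹ = x * x := inv_eq_of_mul_eq_one_right hx3'
  rw [hainv] at hinv
  -- a x a = x⁻¹
  have h1 : a * x * a * x = 1 := by rw [hinv]; group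
  obtain ⟨d, hd⟩ : ∃ d : M, d = ⟨a, haM⟩ := ⟨_, rfl⟩
  obtain ⟨e, he⟩ : ∃ e : M, e = ⟨a * x, M.mul_mem haM hxM⟩ := ⟨_, rfl⟩
  have hdd : d * d = 1 := by
    rw [hd]; apply Subtype.ext; exact ha
  have hee : e * e = 1 := by
    rw [he]; apply Subtype.ext
    show a * x * (a * x) = 1
    rw [← h1]; simp only [mul_assoc]
  have hbr : d * e * d = e * d * e := by
    rw [hd, he]; apply Subtype.ext
    show a * (a * x) * a = a * x * a * (a * x)
    have e1 : a * (a * x) * a = x * a := by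
      calc a * (a * x) * a = (a * a) * x * a := by simp only [mul_assoc]
        _ = x * a := by rw [ha, one_mul]
    have e2 : a * x * a * (a * x) = a * (x * x) := by
      calc a * x * a * (a * x) = a * x * (a * a) * x := by simp only [mul_assoc]
        _ = a * (x * x) := by rw [ha, mul_one, mul_assoc]
    rw [e1, e2, ← hxinv, ← hinv]
    calc x * a = (a * a) * x * a := by rw [ha, one_mul]
      _ = a * (a * x * a) := by simp only [mul_assoc]
  have hd1 : d ≠ 1 := by
    intro h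
    rw [hd] at h
    have h2 : a = 1 := congrArg Subtype.val h
    rw [h2] at hinv
    simp at hinv
    -- x = x⁻¹
    have : x * x = 1 := by
      calc x * x = x * x⁻¹ := by rw [← hinv]
        _ = 1 := mul_inv_cancel x
    rw [this, mul_one] at hx3'
    exact hx1 hx3'
  have hde : d ≠ e := by
    intro h
    rw [hd, he] at h
    have h2 : a = a * x := congrArg Subtype.val h
    have : x = 1 := by
      have := mul_left_cancel (a := a) (b := 1) (c := x) (by rw [mul_one]; exact h2)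
      exact this.symm
    exact hx1 this
  obtain ⟨iso⟩ := Cfsg.Agent.Helper9.closure_pair_equiv_perm3 d e hdd hee hbr hd1 hde
  exact involves_of_maps (Subgroup.closure ({d, e} : Set M)).subtype
    (Subgroup.subtype_injective _) iso.toMonoidHom iso.surjective


/-- The inductive step: the quadratic lower bound on a hyperplane centralizer quotient. -/
theorem four_le_relIndex {X : Type*} [Group X] [Finite X] (M V : Subgroup X)
    (hV : Cfsg.IsElementaryAbelian 2 V) (hMV : M ≤ Subgroup.normalizer (V : Set X))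
    (hfaith : M ⊓ Subgroup.centralizer (V : Set X) = ⊥)
    (B : Subgroup X) (hBM : B ≤ M) (hB : IsPGroup 2 B)
    (a x : X) (haM : a ∈ M) (hxM : x ∈ M) (ha : a * a = 1)
    (haB : a ∈ Subgroup.centralizer (B : Set X)) (hxB : x ∈ Subgroup.centralizer (B : Set X))
    (r : ℕ) (hr : r.Prime) (hr2 : r ≠ 2) (hr3 : r ≠ 3) (hxr : orderOf x = r)
    (hinv : a * x * a⁻¹ = x⁻¹) :
    4 ≤ (V ⊓ Subgroup.centralizer (B : Set X) ⊓ Subgroup.centralizer ({a} : Set X)).relIndex
      (V ⊓ Subgroup.centralizer (B : Set X)) := by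
  haveI : Fact (Nat.Prime 2) := ⟨Nat.prime_two⟩
  have hainv : a⁻¹ = a := inv_eq_of_mul_eq_one_left ha
  have hVpg : IsPGroup 2 V := Helper2.isPGroup_of_elementary hV
  obtain ⟨W, hWdef⟩ : ∃ W : Subgroup X, W = V ⊓ Subgroup.centralizer (B : Set X) := ⟨_, rfl⟩
  rw [← hWdef]
  have hWV : W ≤ V := by rw [hWdef]; exact inf_le_left
  have hWpg : IsPGroup 2 W := hVpg.to_le hWV
  have hx1 : x ≠ 1 := by
    intro h
    rw [h, orderOf_one] at hxr
    exact hr.one_lt.ne hxr
  have hxr1 : x ^ r = 1 := by rw [← hxr]; exact pow_orderOf_eq_one x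
  have hxW : x ∈ Subgroup.normalizer (W : Set X) := by
    rw [hWdef]
    exact mem_normalizer_inf (hMV hxM) (mem_normalizer_centralizer hxB)
  have hxinvW : x⁻¹ ∈ Subgroup.normalizer (W : Set X) := Subgroup.inv_mem _ hxW
  -- x does not centralize W
  have hnotW : ¬ ∀ w ∈ W, x * w = w * x := by
    intro hall
    have hQcard : (Nat.card (Subgroup.zpowers x)).Coprime 2 := by
      rw [Nat.card_zpowers, hxr]
      exact (Nat.coprime_primes hr Nat.prime_two).2 hr2
    have hPQ : B ≤ Subgroup.centralizer ((Subgroup.zpowers x : Subgroup X) : Set X) := by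
      rw [Subgroup.le_centralizer_iff, Subgroup.zpowers_le]
      exact hxB
    have hQV : Subgroup.zpowers x ≤ Subgroup.normalizer (V : Set X) := by
      rw [Subgroup.zpowers_le]; exact hMV hxM
    have hC : V ⊓ Subgroup.centralizer (B : Set X) ≤
        Subgroup.centralizer ((Subgroup.zpowers x : Subgroup X) : Set X) := by
      rw [← hWdef, Subgroup.le_centralizer_iff, Subgroup.zpowers_le]
      rw [Subgroup.mem_centralizer_iff]
      intro w hw
      exact (hall w hw).symm
    have h1 := Helper1.thompson_PxQ 2 B (Subgroup.zpowers x) hB hQcard hPQ (Nat.card V) V rfl hVpg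
      (hBM.trans hMV) hQV hC
    rw [Subgroup.commutator_eq_bot_iff_le_centralizer, Subgroup.le_centralizer_iff,
      Subgroup.zpowers_le] at h1
    have h2 : x ∈ M ⊓ Subgroup.centralizer (V : Set X) := ⟨hxM, h1⟩
    rw [hfaith, Subgroup.mem_bot] at h2
    exact hx1 h2
  by_contra hlt
  push Not at hlt
  obtain ⟨W₁, hW₁def⟩ : ∃ W₁ : Subgroup X, W₁ = W ⊓ Subgroup.centralizer ({a} : Set X) := ⟨_, rfl⟩
  rw [← hW₁def] at hlt
  -- the index is at most 2
  have hle2 : W₁.relIndex W ≤ 2 := by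
    have hdvd : W₁.relIndex W ∣ Nat.card W := Subgroup.relIndex_dvd_card W₁ W
    obtain ⟨k, hk⟩ := IsPGroup.iff_card.1 hWpg
    rw [hk] at hdvd
    obtain ⟨i, _, hi⟩ := (Nat.dvd_prime_pow Nat.prime_two).1 hdvd
    rw [hi] at hlt ⊢
    have : i < 2 := by
      by_contra h
      push Not at h
      have : 2 ^ 2 ≤ 2 ^ i := Nat.pow_le_pow_right (by norm_num) h
      omega
    interval_cases i <;> norm_num
  -- the conjugate
  obtain ⟨a', ha'def⟩ : ∃ a' : X, a' = x⁻¹ * a * x := ⟨_, rfl⟩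
  obtain ⟨W₁', hW₁'def⟩ : ∃ W₁' : Subgroup X, W₁' = W ⊓ Subgroup.centralizer ({a'} : Set X) :=
    ⟨_, rfl⟩
  have hWmap : W.map (MulAut.conj x⁻¹).toMonoidHom = W := by
    ext z
    rw [Subgroup.mem_map]
    constructor
    · rintro ⟨w, hw, rfl⟩
      exact (Subgroup.mem_normalizer_iff.1 hxinvW w).1 hw
    · intro hz
      refine ⟨x * z * x⁻¹, (Subgroup.mem_normalizer_iff.1 hxW z).1 hz, ?_⟩
      simp [MulAut.conj_apply]
      group
  have hW₁map : W₁.map (MulAut.conj x⁻¹).toMonoidHom = W₁' := by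
    ext z
    rw [Subgroup.mem_map, hW₁'def, hW₁def]
    constructor
    · rintro ⟨w, hww, rfl⟩
      obtain ⟨hw, hwa⟩ := Subgroup.mem_inf.1 hww
      refine Subgroup.mem_inf.2 ⟨(Subgroup.mem_normalizer_iff.1 hxinvW w).1 hw, ?_⟩
      rw [Subgroup.mem_centralizer_iff] at hwa ⊢
      intro h hh
      rw [Set.mem_singleton_iff] at hh
      have h1 := hwa a (Set.mem_singleton a)
      rw [hh, ha'def]
      simp only [MulEquiv.coe_toMonoidHom, MulAut.conj_apply, inv_inv]
      calc x⁻¹ * a * x * (x⁻¹ * w * x) = x⁻¹ * (a * w) * x := by group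
        _ = x⁻¹ * (w * a) * x := by rw [h1]
        _ = x⁻¹ * w * x * (x⁻¹ * a * x) := by group
    · intro hzz
      obtain ⟨hz, hza⟩ := Subgroup.mem_inf.1 hzz
      refine ⟨x * z * x⁻¹, Subgroup.mem_inf.2 ⟨(Subgroup.mem_normalizer_iff.1 hxW z).1 hz, ?_⟩, ?_⟩
      · rw [Subgroup.mem_centralizer_iff] at hza ⊢
        intro h hh
        rw [Set.mem_singleton_iff] at hh
        have h1 := hza a' (Set.mem_singleton a')
        rw [ha'def] at h1
        rw [hh]
        calc a * (x * z * x⁻¹) = x * (x⁻¹ * a * x * z) * x⁻¹ := by group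
          _ = x * (z * (x⁻¹ * a * x)) * x⁻¹ := by rw [h1]
          _ = x * z * x⁻¹ * a := by group
      · simp [MulAut.conj_apply]
        group
  have hidx' : W₁'.relIndex W = W₁.relIndex W := by
    have := Subgroup.relIndex_map_map_of_injective W₁ W
      (f := (MulAut.conj x⁻¹).toMonoidHom) (MulAut.conj x⁻¹).injective
    rw [hW₁map, hWmap] at this
    exact this
  obtain ⟨W₀, hW₀def⟩ : ∃ W₀ : Subgroup X, W₀ = W₁ ⊓ W₁' := ⟨_, rfl⟩
  have hW₀idx : W₀.relIndex W ≤ 4 := by
    rw [hW₀def]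
    refine (Subgroup.relIndex_inf_le).trans ?_
    rw [hidx']
    calc W₁.relIndex W * W₁.relIndex W ≤ 2 * 2 := Nat.mul_le_mul hle2 hle2
      _ = 4 := by norm_num
  have hW₀W : W₀ ≤ W := by
    rw [hW₀def, hW₁def]; exact inf_le_left.trans inf_le_left
  -- a * a' = x * x
  have haa' : a * a' = x * x := by
    rw [ha'def]
    have h1 : a * x⁻¹ * a = x := by
      have := congrArg (fun t => t⁻¹) hinv
      simp only [_root_.mul_inv_rev, inv_inv] at this
      rw [hainv] at this
      rw [mul_assoc]; exact this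
    calc a * (x⁻¹ * a * x) = (a * x⁻¹ * a) * x := by simp only [mul_assoc]
      _ = x * x := by rw [h1]
  have hcent : ∀ w ∈ W₀, x * w = w * x := by
    intro w hw
    rw [hW₀def, hW₁def, hW₁'def] at hw
    obtain ⟨hw1, hw2⟩ := Subgroup.mem_inf.1 hw
    obtain ⟨_, hwa⟩ := Subgroup.mem_inf.1 hw1
    obtain ⟨_, hwa'⟩ := Subgroup.mem_inf.1 hw2
    rw [Subgroup.mem_centralizer_iff] at hwa hwa'
    have h1 := hwa a (Set.mem_singleton a)
    have h2 := hwa' a' (Set.mem_singleton a')
    have h3 : (x * x) * w = w * (x * x) := by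
      rw [← haa']
      calc a * a' * w = a * (a' * w) := by rw [mul_assoc]
        _ = a * (w * a') := by rw [h2]
        _ = (a * w) * a' := by rw [mul_assoc]
        _ = w * a * a' := by rw [h1]
        _ = w * (a * a') := by rw [mul_assoc]
    -- x is a power of x * x
    have hodd : Odd r := hr.odd_of_ne_two hr2
    obtain ⟨m, hm⟩ := hodd
    have hxpow : (x * x) ^ (m + 1) = x := by
      rw [← pow_two, ← pow_mul]
      have : 2 * (m + 1) = r + 1 := by omega
      rw [this, pow_succ, hxr1, one_mul]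
    have h4 : Commute (x * x) w := h3
    have h5 : Commute ((x * x) ^ (m + 1)) w := h4.pow_left _
    rw [hxpow] at h5
    exact h5
  have hr6 : r.Coprime 6 := by
    have h2 : r.Coprime 2 := (Nat.coprime_primes hr Nat.prime_two).2 hr2
    have h3 : r.Coprime 3 := (Nat.coprime_primes hr Nat.prime_three).2 hr3
    have : (6 : ℕ) = 2 * 3 := by norm_num
    rw [this]
    exact Nat.Coprime.mul_right h2 h3
  exact hnotW (centralizes_of_small_index W W₀ hWpg x hxW hW₀W hcent hW₀idx r hr6 hxr1)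


theorem key {X : Type*} [Group X] [Finite X] (M V K : Subgroup X)
    (hV : Cfsg.IsElementaryAbelian 2 V) (hMV : M ≤ Subgroup.normalizer (V : Set X))
    (hfaith : M ⊓ Subgroup.centralizer (V : Set X) = ⊥)
    (hKM : K ≤ M) (hKodd : (Nat.card K).Coprime 2) (hMK : M ≤ Subgroup.normalizer (K : Set X))
    (hcon : M ⊓ Subgroup.centralizer (K : Set X) ≤ K)
    (hfree : ¬ Cfsg.Involves (Equiv.Perm (Fin 3)) ↥M) :
    ∀ (n : ℕ) (A : Subgroup X), Nat.card A = n → A ≤ M → Cfsg.IsElementaryAbelian 2 A →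
      Nat.card A ^ 2 ≤ (V ⊓ Subgroup.centralizer (A : Set X)).relIndex V := by
  haveI : Fact (Nat.Prime 2) := ⟨Nat.prime_two⟩
  intro n
  induction n using Nat.strong_induction_on with
  | _ n ih =>
  intro A hn hAM hA
  have hApg : IsPGroup 2 A := Helper2.isPGroup_of_elementary hA
  have hpos : ∀ S : Subgroup X, S.relIndex V ≠ 0 := fun S => Subgroup.index_ne_zero_of_finite
  by_cases hAK : A ≤ Subgroup.centralizer (K : Set X)
  · have h1 : A ≤ K := (le_inf hAM hAK).trans hcon
    have h2 : Nat.card A ∣ Nat.card K := Subgroup.card_dvd_of_le h1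
    obtain ⟨k, hk⟩ := IsPGroup.iff_card.1 hApg
    have h3 : Nat.card A = 1 := by
      rcases Nat.eq_zero_or_pos k with h0 | h0
      · rw [hk, h0, pow_zero]
      · exfalso
        have h4 : 2 ∣ Nat.card K := (dvd_pow_self 2 h0.ne').trans (hk ▸ h2)
        have := Nat.Coprime.eq_one_of_dvd hKodd.symm h4
        omega
    rw [h3, one_pow]
    exact Nat.one_le_iff_ne_zero.2 (hpos _)
  · have h2K : ¬ 2 ∣ Nat.card K := by
      intro h
      have := Nat.Coprime.eq_one_of_dvd hKodd.symm h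
      omega
    have hgen := Helper2.le_iSup_hyperplane_centralizers 2 (Nat.card A) A K rfl hA h2K
      (hAM.trans hMK)
    have hex : ∃ B : Subgroup X, B ≤ A ∧ B.relIndex A ≤ 2 ∧
        ¬ K ⊓ Subgroup.centralizer (B : Set X) ≤ Subgroup.centralizer (A : Set X) := by
      by_contra hcon2
      push Not at hcon2
      apply hAK
      rw [Subgroup.le_centralizer_iff]
      refine hgen.trans (iSup_le ?_)
      rintro ⟨B, hBA, hBi⟩
      exact hcon2 B hBA hBi
    obtain ⟨B, hBA, hBi, hnot⟩ := hex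
    obtain ⟨d, hdKB, hdA⟩ := SetLike.not_le_iff_exists.1 hnot
    obtain ⟨hdK, hdB⟩ := Subgroup.mem_inf.1 hdKB
    rw [Subgroup.mem_centralizer_iff] at hdA
    push Not at hdA
    obtain ⟨a, haA, hne⟩ := hdA
    have haB' : a ∉ B := fun h => hne ((Subgroup.mem_centralizer_iff.1 hdB) a h)
    have hBne : ¬ A ≤ B := fun h => haB' (h haA)
    have hBi2 : B.relIndex A = 2 := by
      have h0 : B.relIndex A ≠ 0 := Subgroup.index_ne_zero_of_finite
      have h1 : B.relIndex A ≠ 1 := fun h => hBne (Subgroup.relIndex_eq_one.1 h)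
      omega
    have hcardA : Nat.card A = 2 * Nat.card B := by
      have := Helper1.relIndex_mul_card_of_le hBA
      rw [hBi2] at this
      omega
    have hBlt : Nat.card B < n := by
      rw [← hn, hcardA]
      have : 0 < Nat.card B := Nat.card_pos
      omega
    have hBel : Cfsg.IsElementaryAbelian 2 B := Helper2.isElementaryAbelian_of_le hA hBA
    have hBpg : IsPGroup 2 B := Helper2.isPGroup_of_elementary hBel
    have hIH := ih (Nat.card B) hBlt B rfl (hBA.trans hAM) hBel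
    have ha2 : a * a = 1 := by
      have := hA.2 a haA
      rwa [pow_two] at this
    have haM : a ∈ M := hAM haA
    have haCB : a ∈ Subgroup.centralizer (B : Set X) := by
      rw [Subgroup.mem_centralizer_iff]
      intro b hb
      have := hA.1.is_comm.comm ⟨b, hBA hb⟩ ⟨a, haA⟩
      exact congrArg Subtype.val this
    have haD : a ∈ Subgroup.normalizer ((K ⊓ Subgroup.centralizer (B : Set X) : Subgroup X) : Set X) :=
      mem_normalizer_inf (hMK haM) (mem_normalizer_centralizer haCB)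
    have hDodd : (Nat.card (K ⊓ Subgroup.centralizer (B : Set X) : Subgroup X)).Coprime 2 :=
      Nat.Coprime.coprime_dvd_left (Subgroup.card_dvd_of_le inf_le_left) hKodd
    obtain ⟨x, r, hxD, hr, hr2, hxr, hinv⟩ :=
      exists_inverted_prime (K ⊓ Subgroup.centralizer (B : Set X)) hDodd a ha2 haD d hdKB hne
    obtain ⟨hxK, hxB⟩ := Subgroup.mem_inf.1 hxD
    have hxM : x ∈ M := hKM hxK
    by_cases hr3 : r = 3
    · exact absurd (involves_S3 M a x haM hxM ha2 (hr3 ▸ hxr) hinv) hfree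
    have h4 := four_le_relIndex M V hV hMV hfaith B (hBA.trans hAM) hBpg a x haM hxM ha2 haCB hxB
      r hr hr2 hr3 hxr hinv
    have hle1 : V ⊓ Subgroup.centralizer (A : Set X) ≤
        V ⊓ Subgroup.centralizer (B : Set X) ⊓ Subgroup.centralizer ({a} : Set X) := by
      intro v hv
      obtain ⟨hvV, hvA⟩ := Subgroup.mem_inf.1 hv
      refine Subgroup.mem_inf.2 ⟨Subgroup.mem_inf.2 ⟨hvV, ?_⟩, ?_⟩
      · exact Subgroup.centralizer_le (by exact_mod_cast hBA) hvA
      · rw [Subgroup.mem_centralizer_iff] at hvA ⊢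
        intro h hh
        rw [Set.mem_singleton_iff] at hh
        rw [hh]; exact hvA a haA
    have hdvd := Subgroup.relIndex_dvd_of_le_left V hle1
    have hmul := Subgroup.relIndex_mul_relIndex
      (V ⊓ Subgroup.centralizer (B : Set X) ⊓ Subgroup.centralizer ({a} : Set X))
      (V ⊓ Subgroup.centralizer (B : Set X)) V inf_le_left inf_le_left
    calc Nat.card A ^ 2 = 4 * Nat.card B ^ 2 := by rw [hcardA]; ring
      _ ≤ (V ⊓ Subgroup.centralizer (B : Set X) ⊓ Subgroup.centralizer ({a} : Set X)).relIndex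
            (V ⊓ Subgroup.centralizer (B : Set X)) *
          (V ⊓ Subgroup.centralizer (B : Set X)).relIndex V := Nat.mul_le_mul h4 hIH
      _ = (V ⊓ Subgroup.centralizer (B : Set X) ⊓ Subgroup.centralizer ({a} : Set X)).relIndex V :=
          hmul
      _ ≤ (V ⊓ Subgroup.centralizer (A : Set X)).relIndex V :=
          Nat.le_of_dvd (Nat.pos_of_ne_zero (hpos _)) hdvd

theorem s3755 {X : Type*} [Group X] [Finite X] (M V : Subgroup X)
    (hV : Cfsg.IsElementaryAbelian 2 V) (hMV : M ≤ Subgroup.normalizer (V : Set X))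
    (hfaith : M ⊓ Subgroup.centralizer (V : Set X) = ⊥)
    (hcon : Subgroup.centralizer (Cfsg.pPrimeCore 2 ↥M : Set ↥M) ≤ Cfsg.pPrimeCore 2 ↥M)
    (A : Subgroup X) (hAM : A ≤ M) (hA : Cfsg.IsElementaryAbelian 2 A)
    (hsmall : (V ⊓ Subgroup.centralizer (A : Set X)).relIndex V < Nat.card A ^ 2) :
    Cfsg.Involves (Equiv.Perm (Fin 3)) ↥M := by
  by_contra hfree
  obtain ⟨K, hKdef⟩ : ∃ K : Subgroup X, K = (Cfsg.pPrimeCore 2 ↥M).map M.subtype := ⟨_, rfl⟩
  have hKM : K ≤ M := by rw [hKdef]; exact Subgroup.map_subtype_le _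
  have hKodd : (Nat.card K).Coprime 2 := by
    rw [hKdef, Subgroup.card_map_of_injective (Subgroup.subtype_injective M)]
    exact Helper1.card_pPrimeCore_coprime 2
  have hKmem : ∀ g : M, (g : X) ∈ K ↔ g ∈ Cfsg.pPrimeCore 2 ↥M := by
    intro g
    rw [hKdef, Subgroup.mem_map]
    constructor
    · rintro ⟨k, hk, hkg⟩
      have : k = g := Subtype.ext hkg
      rw [← this]; exact hk
    · intro hg
      exact ⟨g, hg, rfl⟩
  have hMK : M ≤ Subgroup.normalizer (K : Set X) := by
    intro m hm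
    rw [Subgroup.mem_normalizer_iff]
    intro h
    constructor
    · intro hh
      have hhM : h ∈ M := hKM hh
      have h1 : (⟨h, hhM⟩ : M) ∈ Cfsg.pPrimeCore 2 ↥M := (hKmem ⟨h, hhM⟩).1 hh
      have h2 := (Helper1.pPrimeCore_normal (G := ↥M) 2).conj_mem _ h1 ⟨m, hm⟩
      exact (hKmem _).2 h2
    · intro hh
      have hhM : m * h * m⁻¹ ∈ M := hKM hh
      have h1 : (⟨m * h * m⁻¹, hhM⟩ : M) ∈ Cfsg.pPrimeCore 2 ↥M := (hKmem ⟨_, hhM⟩).1 hh
      have h2 := (Helper1.pPrimeCore_normal (G := ↥M) 2).conj_mem _ h1 (⟨m, hm⟩ : M)⁻¹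
      have h3 := (hKmem _).2 h2
      have h4 : (((⟨m, hm⟩ : M)⁻¹ * ⟨m * h * m⁻¹, hhM⟩ * ((⟨m, hm⟩ : M)⁻¹)⁻¹ : M) : X) = h := by
        show m⁻¹ * (m * h * m⁻¹) * (m⁻¹)⁻¹ = h
        group
      rwa [h4] at h3
  have hcon' : M ⊓ Subgroup.centralizer (K : Set X) ≤ K := by
    intro g hg
    obtain ⟨hgM, hgC⟩ := Subgroup.mem_inf.1 hg
    have h1 : (⟨g, hgM⟩ : M) ∈ Subgroup.centralizer (Cfsg.pPrimeCore 2 ↥M : Set ↥M) := by
      rw [Subgroup.mem_centralizer_iff]
      intro k hk
      apply Subtype.ext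
      rw [Subgroup.mem_centralizer_iff] at hgC
      exact hgC (k : X) ((hKmem k).2 hk)
    exact (hKmem ⟨g, hgM⟩).2 (hcon h1)
  have := key M V K hV hMV hfaith hKM hKodd hMK hcon' hfree (Nat.card A) A rfl hAM hA
  omega

end S3Free
end Cfsg.Agent.Lead
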