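import Cfsg.Agent.Lead.S3fOp
import Cfsg.Agent.Lead.S3fGp

/-!
S4305, case (a-I): a central subgroup on which `σ` acts without fixed points.
-/

set_option autoImplicit false

namespace Cfsg.Agent.Lead.S3F

open scoped BigOperators
open Classical

variable {k : Type*} [Field k] {Γ : Type*} [Group Γ] [Fintype Γ]
  {W : Type*} [AddCommGroup W] [Module k W] (ρ : Representation k Γ W)

section refl

omit [Fintype Γ]
variable {σ τ : Γ}

theorem NoFix.mul_left (_h : S3Rel σ τ) (hfix : NoFix ρ σ τ) : NoFix ρ σ (σ * τ) := by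
  intro w h1 h2
  apply hfix w h1
  have : ρ τ w = ρ σ⁻¹ (ρ (σ * τ) w) := by
    rw [rho_rho]; congr 2; group
  rw [this, h2]
  have h3 : ρ σ⁻¹ (ρ σ w) = w := by rw [rho_rho, inv_mul_cancel, map_one]; rfl
  rw [h1] at h3
  exact h3

theorem S3Rel.mul_left (h : S3Rel σ τ) : S3Rel σ (σ * τ) := by
  have h1 := h.mul_right.mul_right
  have e : τ * σ * σ = σ * τ := by
    have := h.elts.2.2.2.1
    rw [← this]; group
  rwa [e] at h1

end refl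

/-- the kernel attached to the reflection `t`. -/
def kerRefl (Q E : Subgroup Γ) (t : Γ) : Subgroup Γ where
  carrier := {x | x ∈ Q ∧ ∀ χ : E →* kˣ, t ∈ charStab E χ → ∀ w ∈ wtSpace ρ E χ, ρ x w = w}
  mul_mem' := by
    rintro a b ⟨ha, ha'⟩ ⟨hb, hb'⟩
    refine ⟨Q.mul_mem ha hb, ?_⟩
    intro χ ht w hw
    rw [map_mul, Module.End.mul_apply, hb' χ ht w hw, ha' χ ht w hw]
  one_mem' := ⟨Q.one_mem, fun χ _ w _ => by simp⟩
  inv_mem' := by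
    rintro a ⟨ha, ha'⟩
    refine ⟨Q.inv_mem ha, ?_⟩
    intro χ ht w hw
    have h1 := ha' χ ht w hw
    have h2 : ρ a⁻¹ (ρ a w) = w := by rw [rho_rho, inv_mul_cancel, map_one]; rfl
    rw [h1] at h2
    exact h2

section main

variable {σ τ : Γ} (Q E : Subgroup Γ)
  (hEZ : ∀ e ∈ E, ∀ x ∈ Q, e * x = x * e)
include hEZ

omit [Fintype Γ] in
theorem mem_normalizer_of_central {x : Γ} (hx : x ∈ Q) :
    x ∈ Subgroup.normalizer (E : Set Γ) := by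
  rw [Subgroup.mem_normalizer_iff]
  intro e
  constructor
  · intro he
    have : x * e * x⁻¹ = e := by rw [← hEZ e he x hx]; group
    rwa [this]
  · intro he
    have h1 := hEZ _ he x hx
    have : e = x * e * x⁻¹ := by
      have h2 : x * e * x⁻¹ * x = x * (x * e * x⁻¹) := by rw [h1]
      have h3 : x * e = x * (x * e * x⁻¹) := by rw [← h2]; group
      exact mul_left_cancel h3
    rwa [this]

omit [Fintype Γ] in
theorem rho_mem_wtSpace_of_central {x : Γ} (hx : x ∈ Q) (χ : E →* kˣ) (w : W)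
    (hw : w ∈ wtSpace ρ E χ) : ρ x w ∈ wtSpace ρ E χ := by
  apply rho_mem_wtSpace_of_mem_charStab ρ E χ x _ w hw
  refine ⟨mem_normalizer_of_central Q E hEZ hx, ?_⟩
  apply conjChar_of_commute
  intro e he
  exact (hEZ e he x hx).symm

omit [Fintype Γ] in
theorem kerRefl_normal (t : Γ) : ∀ g ∈ Q, ∀ x ∈ kerRefl ρ Q E t, g * x * g⁻¹ ∈ kerRefl ρ Q E t := by
  rintro g hg x ⟨hx, hx'⟩
  refine ⟨Q.mul_mem (Q.mul_mem hg hx) (Q.inv_mem hg), ?_⟩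
  intro χ ht w hw
  have h1 : ρ g⁻¹ w ∈ wtSpace ρ E χ :=
    rho_mem_wtSpace_of_central ρ Q E hEZ (Q.inv_mem hg) χ w hw
  have h2 := hx' χ ht _ h1
  calc ρ (g * x * g⁻¹) w = ρ g (ρ x (ρ g⁻¹ w)) := by rw [rho_rho, rho_rho, mul_assoc]
    _ = ρ g (ρ g⁻¹ w) := by rw [h2]
    _ = w := by rw [rho_rho, mul_inv_cancel, map_one]; rfl

end main

section main2

variable {σ τ : Γ} (Q E : Subgroup Γ)

variable (hEσ : ∀ e ∈ E, σ * e * σ⁻¹ = e → e = 1)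
  (hCW : ∀ w : W, (∀ e ∈ E, ρ e w = w) → w = 0)
  (hσE : σ ∈ Subgroup.normalizer (E : Set Γ))
include hEσ hCW hσE

/-- a weight with a non-zero vector is not fixed by `σ`. -/
theorem sigma_not_mem_charStab (χ : E →* kˣ) (w : W) (hw : w ∈ wtSpace ρ E χ) (hw0 : w ≠ 0) :
    σ ∉ charStab E χ := by
  rintro ⟨hσ, hσχ⟩
  apply hw0
  apply hCW
  intro e he
  have hσE' : ∀ x ∈ E, σ * x * σ⁻¹ ∈ E := fun x hx =>
    (Subgroup.mem_normalizer_iff.1 hσE x).1 hx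
  obtain ⟨x, hx, hxe⟩ := exists_eq_inv_mul_conj E σ hσE' hEσ e he
  have h1 : χ ⟨σ * x * σ⁻¹, hσE' x hx⟩ = χ ⟨x, hx⟩ := by
    have h2 : conjChar E σ hσ χ ⟨σ * x * σ⁻¹, hσE' x hx⟩ = χ ⟨σ * x * σ⁻¹, hσE' x hx⟩ := by
      rw [hσχ]
    rw [← h2]
    apply conjChar_apply'
    show x = σ⁻¹ * (σ * x * σ⁻¹) * σ
    group
  have h3 : χ ⟨e, he⟩ = 1 := by
    have : (⟨e, he⟩ : E) = (⟨x, hx⟩ : E)⁻¹ * ⟨σ * x * σ⁻¹, hσE' x hx⟩ := Subtype.ext hxe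
    rw [this, map_mul, map_inv, h1, inv_mul_cancel]
  have h4 := hw ⟨e, he⟩
  rw [h3] at h4
  simpa using h4


end main2

section main3

variable {σ τ : Γ} (Q E : Subgroup Γ)
  (hEZ : ∀ e ∈ E, ∀ x ∈ Q, e * x = x * e)
  (hEk : (Fintype.card E : k) ≠ 0)
  (hEσ : ∀ e ∈ E, σ * e * σ⁻¹ = e → e = 1)
  (hCW : ∀ w : W, (∀ e ∈ E, ρ e w = w) → w = 0)
  (hσE : σ ∈ Subgroup.normalizer (E : Set Γ))
include hEZ hEk hEσ hCW hσE

/-- a reflection fixing a weight negates the weight space. -/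
theorem refl_neg (t : Γ) (ht : S3Rel σ t) (hfixt : NoFix ρ σ t)
    (χ : E →* kˣ) (hts : t ∈ charStab E χ) (w : W) (hw : w ∈ wtSpace ρ E χ) : ρ t w = -w := by
  by_cases hw0 : w = 0
  · rw [hw0]; simp
  · have hσs := sigma_not_mem_charStab ρ E hEσ hCW hσE χ w hw hw0
    exact tau_neg_of_mem_charStab ρ ht hfixt E hEk hσE χ hts hσs w hw

/-- `x⁻¹ · t x t⁻¹` lies in the kernel attached to `t`. -/
theorem inv_mul_conj_mem_kerRefl (t : Γ) (ht : S3Rel σ t) (hfixt : NoFix ρ σ t)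
    (htQ : t ∈ Subgroup.normalizer (Q : Set Γ)) (x : Γ) (hx : x ∈ Q) :
    x⁻¹ * (t * x * t⁻¹) ∈ kerRefl ρ Q E t := by
  have htx : t * x * t⁻¹ ∈ Q := (Subgroup.mem_normalizer_iff.1 htQ x).1 hx
  refine ⟨Q.mul_mem (Q.inv_mem hx) htx, ?_⟩
  intro χ hts w hw
  have hti : t⁻¹ = t := ht.tau_inv
  have h1 : ρ t w = -w := refl_neg ρ Q E hEZ hEk hEσ hCW hσE t ht hfixt χ hts w hw
  have h2 : ρ x w ∈ wtSpace ρ E χ := rho_mem_wtSpace_of_central ρ Q E hEZ hx χ w hw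
  have h3 : ρ t (ρ x w) = -(ρ x w) := refl_neg ρ Q E hEZ hEk hEσ hCW hσE t ht hfixt χ hts _ h2
  calc ρ (x⁻¹ * (t * x * t⁻¹)) w = ρ x⁻¹ (ρ t (ρ x (ρ t w))) := by
        rw [rho_rho, rho_rho, rho_rho, hti]; congr 2; group
    _ = ρ x⁻¹ (ρ t (ρ x (-w))) := by rw [h1]
    _ = ρ x⁻¹ (ρ x w) := by rw [map_neg, map_neg, h3, neg_neg]
    _ = w := by rw [rho_rho, inv_mul_cancel, map_one]; rfl

omit hEZ in
/-- an element in all three kernels acts trivially. -/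
theorem rho_eq_one_of_mem_kerRefl [HasEnoughRootsOfUnity k (Monoid.exponent E)]
    (h : S3Rel σ τ) (hfix : NoFix ρ σ τ)
    (hEc : ∀ a ∈ E, ∀ b ∈ E, a * b = b * a)
    (hτE : τ ∈ Subgroup.normalizer (E : Set Γ)) (x : Γ)
    (h0 : x ∈ kerRefl ρ Q E τ) (h1 : x ∈ kerRefl ρ Q E (σ * τ))
    (h2 : x ∈ kerRefl ρ Q E (σ * σ * τ)) : ρ x = 1 := by
  ext w
  rw [Module.End.one_apply]
  obtain ⟨S, hS⟩ := exists_wt_decomp ρ E hEc hEk w
  rw [hS, map_sum]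
  apply Finset.sum_congr rfl
  intro χ _
  set u := wtProj ρ E χ w with hu
  have hu1 : u ∈ wtSpace ρ E χ := wtProj_apply_mem ρ E χ w
  by_cases hu0 : u = 0
  · rw [hu0, map_zero]
  · have hσs := sigma_not_mem_charStab ρ E hEσ hCW hσE χ u hu1 hu0
    rcases exists_mem_charStab ρ h hfix E hEk hσE hτE χ u hu1 hu0 with hs | hs | hs | hs
    · exact absurd hs hσs
    · exact h0.2 χ hs u hu1
    · exact h1.2 χ hs u hu1
    · exact h2.2 χ hs u hu1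

omit hEZ hEk hEσ hCW in
/-- conjugation by `σ` permutes the kernels. -/
theorem conj_mem_kerRefl (hσQ : σ ∈ Subgroup.normalizer (Q : Set Γ)) (t : Γ) (x : Γ)
    (hx : x ∈ kerRefl ρ Q E t) : σ * x * σ⁻¹ ∈ kerRefl ρ Q E (σ * t * σ⁻¹) := by
  refine ⟨(Subgroup.mem_normalizer_iff.1 hσQ x).1 hx.1, ?_⟩
  intro χ hts w hw
  have hσi : σ⁻¹ ∈ Subgroup.normalizer (E : Set Γ) := Subgroup.inv_mem _ hσE
  have h1 : ρ σ⁻¹ w ∈ wtSpace ρ E (conjChar E σ⁻¹ hσi χ) := rho_mem_wtSpace ρ E σ⁻¹ hσi χ w hw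
  have h2 : t ∈ charStab E (conjChar E σ⁻¹ hσi χ) := by
    have := conj_mem_charStab hts hσi
    have e : σ⁻¹ * (σ * t * σ⁻¹) * σ⁻¹⁻¹ = t := by group
    rwa [e] at this
  have h3 := hx.2 _ h2 _ h1
  calc ρ (σ * x * σ⁻¹) w = ρ σ (ρ x (ρ σ⁻¹ w)) := by rw [rho_rho, rho_rho, mul_assoc]
    _ = ρ σ (ρ σ⁻¹ w) := by rw [h3]
    _ = w := by rw [rho_rho, mul_inv_cancel, map_one]; rfl

/-- a product decomposition of the `σ`-commutator through two reflections. -/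
theorem exists_kerRefl_mul (t t' : Γ) (ht : S3Rel σ t) (hfixt : NoFix ρ σ t)
    (htQ : t ∈ Subgroup.normalizer (Q : Set Γ))
    (ht' : S3Rel σ t') (hfixt' : NoFix ρ σ t')
    (htQ' : t' ∈ Subgroup.normalizer (Q : Set Γ)) (hprod : t' * t = σ) (x : Γ) (hx : x ∈ Q) :
    ∃ a ∈ kerRefl ρ Q E t, ∃ b ∈ kerRefl ρ Q E t', x⁻¹ * (σ * x * σ⁻¹) = a * b := by
  have hy : t * x * t⁻¹ ∈ Q := (Subgroup.mem_normalizer_iff.1 htQ x).1 hx
  refine ⟨_, inv_mul_conj_mem_kerRefl ρ Q E hEZ hEk hEσ hCW hσE t ht hfixt htQ x hx,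
    _, inv_mul_conj_mem_kerRefl ρ Q E hEZ hEk hEσ hCW hσE t' ht' hfixt' htQ' _ hy, ?_⟩
  rw [← hprod]
  group

end main3

section final

variable {σ τ : Γ}

/-- **Case (a-I).** -/
theorem comm_of_central_fpf (h : S3Rel σ τ) (hfix : NoFix ρ σ τ) (Q E : Subgroup Γ)
    (hEQ : E ≤ Q) (hEZ : ∀ e ∈ E, ∀ x ∈ Q, e * x = x * e)
    (hσQ : σ ∈ Subgroup.normalizer (Q : Set Γ)) (hτQ : τ ∈ Subgroup.normalizer (Q : Set Γ))
    (hσE : σ ∈ Subgroup.normalizer (E : Set Γ)) (hτE : τ ∈ Subgroup.normalizer (E : Set Γ))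
    (hEk : (Fintype.card E : k) ≠ 0) [HasEnoughRootsOfUnity k (Monoid.exponent E)]
    (hEσ : ∀ e ∈ E, σ * e * σ⁻¹ = e → e = 1)
    (hCW : ∀ w : W, (∀ e ∈ E, ρ e w = w) → w = 0)
    (hfaith : ∀ x ∈ Q, ρ x = 1 → x = 1)
    (hCQ : ∀ x ∈ Q, σ * x * σ⁻¹ = x → τ * x * τ⁻¹ = x → x = 1)
    (hodd : Odd (Nat.card Q)) :
    ∀ a ∈ Q, ∀ b ∈ Q, a * b = b * a := by
  obtain ⟨e1, e2, e3, e4, e5, e6⟩ := h.elts
  have hEc : ∀ a ∈ E, ∀ b ∈ E, a * b = b * a := fun a ha b hb => hEZ a ha b (hEQ hb)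
  -- the three reflections
  have r0 : S3Rel σ τ := h
  have r1 : S3Rel σ (σ * τ) := h.mul_left
  have r2 : S3Rel σ (σ * σ * τ) := by
    have := r1.mul_left
    rwa [← mul_assoc] at this
  have f0 : NoFix ρ σ τ := hfix
  have f1 : NoFix ρ σ (σ * τ) := NoFix.mul_left ρ h hfix
  have f2 : NoFix ρ σ (σ * σ * τ) := by
    have := NoFix.mul_left ρ r1 f1
    rwa [← mul_assoc] at this
  have q0 := hτQ
  have q1 : σ * τ ∈ Subgroup.normalizer (Q : Set Γ) := Subgroup.mul_mem _ hσQ hτQ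
  have q2 : σ * σ * τ ∈ Subgroup.normalizer (Q : Set Γ) :=
    Subgroup.mul_mem _ (Subgroup.mul_mem _ hσQ hσQ) hτQ
  set K0 := kerRefl ρ Q E τ with hK0
  set K1 := kerRefl ρ Q E (σ * σ * τ) with hK1
  set K2 := kerRefl ρ Q E (σ * τ) with hK2
  have hint : ∀ x, x ∈ K0 → x ∈ K1 → x ∈ K2 → x = 1 := by
    intro x h0 h1 h2
    exact hfaith x h0.1
      (rho_eq_one_of_mem_kerRefl ρ Q E hEk hEσ hCW hσE h hfix hEc hτE x h0 h2 h1)
  have hσQ' : ∀ x ∈ Q, σ * x * σ⁻¹ ∈ Q := fun x hx => (Subgroup.mem_normalizer_iff.1 hσQ x).1 hx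
  -- `σ` has no fixed points on `Q`
  have hfpf : ∀ c ∈ Q, σ * c * σ⁻¹ = c → c = 1 := by
    intro c hc hσc
    -- each reflection inverts `c`
    have key : ∀ t : Γ, S3Rel σ t → t ∈ Subgroup.normalizer (Q : Set Γ) →
        (∀ x ∈ Q, σ * x * σ⁻¹ = x → t * x * t⁻¹ = x → x = 1) → NoFix ρ σ t →
        c ∈ kerRefl ρ Q E t := by
      intro t ht htQ htfix hfixt
      let X : Subgroup Γ :=
        { carrier := {x | x ∈ Q ∧ σ * x * σ⁻¹ = x}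
          mul_mem' := by
            rintro a b ⟨ha, ha'⟩ ⟨hb, hb'⟩
            refine ⟨Q.mul_mem ha hb, ?_⟩
            calc σ * (a * b) * σ⁻¹ = (σ * a * σ⁻¹) * (σ * b * σ⁻¹) := by group
              _ = a * b := by rw [ha', hb']
          one_mem' := ⟨Q.one_mem, by group⟩
          inv_mem' := by
            rintro a ⟨ha, ha'⟩
            refine ⟨Q.inv_mem ha, ?_⟩
            calc σ * a⁻¹ * σ⁻¹ = (σ * a * σ⁻¹)⁻¹ := by group
              _ = a⁻¹ := by rw [ha'] }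
      have htt : t * t = 1 := ht.elts.2.1
      have hX : ∀ x ∈ X, t * x * t⁻¹ ∈ X := by
        rintro x ⟨hx, hx'⟩
        refine ⟨(Subgroup.mem_normalizer_iff.1 htQ x).1 hx, ?_⟩
        have hst : σ * t = t * σ⁻¹ := ht.sigma_tau
        have hx'' : σ⁻¹ * x * σ = x := by
          calc σ⁻¹ * x * σ = σ⁻¹ * (σ * x * σ⁻¹) * σ := by rw [hx']
            _ = x := by group
        calc σ * (t * x * t⁻¹) * σ⁻¹ = (σ * t) * x * (σ * t)⁻¹ := by group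
          _ = (t * σ⁻¹) * x * (t * σ⁻¹)⁻¹ := by rw [hst]
          _ = t * (σ⁻¹ * x * σ) * t⁻¹ := by group
          _ = t * x * t⁻¹ := by rw [hx'']
      have hXf : ∀ x ∈ X, t * x * t⁻¹ = x → x = 1 := by
        rintro x ⟨hx, hx'⟩ hx2
        exact htfix x hx hx' hx2
      have hinv := inverts_of_fpf X t htt hX hXf c ⟨hc, hσc⟩
      have h1 := inv_mul_conj_mem_kerRefl ρ Q E hEZ hEk hEσ hCW hσE t ht hfixt htQ c hc
      rw [hinv] at h1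
      -- `c⁻¹ * c⁻¹ ∈ K`, and `c` has odd order
      have hco : Odd (orderOf c) := by
        have hd : orderOf c ∣ Nat.card Q := by
          have := Subgroup.orderOf_dvd_natCard Q hc
          exact this
        exact Odd.of_dvd_nat hodd hd
      obtain ⟨m, hm⟩ := hco
      have h2 : c = (c⁻¹ * c⁻¹) ^ m := by
        have h3 : c ^ (2 * m + 1) = 1 := by rw [← hm]; exact pow_orderOf_eq_one c
        have h4 : (c⁻¹ * c⁻¹) ^ m = (c ^ (2 * m))⁻¹ := by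
          rw [← mul_inv_rev, inv_pow, ← pow_two, ← pow_mul]
        rw [h4]
        have h5 : c ^ (2 * m) * c = 1 := by rw [← pow_succ]; exact h3
        exact (inv_eq_of_mul_eq_one_right h5).symm ▸ rfl
      rw [h2]
      exact Subgroup.pow_mem _ h1 m
    have fx0 : ∀ x ∈ Q, σ * x * σ⁻¹ = x → τ * x * τ⁻¹ = x → x = 1 := hCQ
    have fx1 : ∀ x ∈ Q, σ * x * σ⁻¹ = x → (σ * τ) * x * (σ * τ)⁻¹ = x → x = 1 := by
      intro x hx h1 h2
      apply hCQ x hx h1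
      have : τ * x * τ⁻¹ = σ⁻¹ * ((σ * τ) * x * (σ * τ)⁻¹) * σ := by group
      rw [this, h2]
      calc σ⁻¹ * x * σ = σ⁻¹ * (σ * x * σ⁻¹) * σ := by rw [h1]
        _ = x := by group
    have fx2 : ∀ x ∈ Q, σ * x * σ⁻¹ = x → (σ * σ * τ) * x * (σ * σ * τ)⁻¹ = x → x = 1 := by
      intro x hx h1 h2
      apply fx1 x hx h1
      have : (σ * τ) * x * (σ * τ)⁻¹ = σ⁻¹ * ((σ * σ * τ) * x * (σ * σ * τ)⁻¹) * σ := by group
      rw [this, h2]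
      calc σ⁻¹ * x * σ = σ⁻¹ * (σ * x * σ⁻¹) * σ := by rw [h1]
        _ = x := by group
    exact hint c (key τ r0 q0 fx0 f0) (key _ r2 q2 fx2 f2) (key _ r1 q1 fx1 f1)
  -- conjugation by `σ`
  have c0 : ∀ x ∈ K0, σ * x * σ⁻¹ ∈ K1 := by
    intro x hx
    have := conj_mem_kerRefl ρ Q E hσE hσQ τ x hx
    have e : σ * τ * σ⁻¹ = σ * σ * τ := by
      rw [mul_assoc σ τ, ← h.sigma_tau]; group
    rwa [e] at this
  have c1 : ∀ x ∈ K1, σ * x * σ⁻¹ ∈ K2 := by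
    intro x hx
    have := conj_mem_kerRefl ρ Q E hσE hσQ _ x hx
    have e : σ * (σ * σ * τ) * σ⁻¹ = σ * τ := by
      have : σ * (σ * σ * τ) * σ⁻¹ = (σ * (σ * σ)) * (τ * σ⁻¹) := by group
      rw [this, e1, one_mul, ← h.sigma_tau]
    rwa [e] at this
  have c2 : ∀ x ∈ K2, σ * x * σ⁻¹ ∈ K0 := by
    intro x hx
    have := conj_mem_kerRefl ρ Q E hσE hσQ _ x hx
    have e : σ * (σ * τ) * σ⁻¹ = τ := by
      have : σ * (σ * τ) * σ⁻¹ = (σ * σ) * (τ * σ⁻¹) := by group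
      rw [this, ← h.sigma_tau, ← mul_assoc, mul_assoc σ σ σ, e1, one_mul]
    rwa [e] at this
  have n0 := kerRefl_normal ρ Q E hEZ τ
  have n1 := kerRefl_normal ρ Q E hEZ (σ * σ * τ)
  have n2 := kerRefl_normal ρ Q E hEZ (σ * τ)
  -- reorder a product of elements of two normal subgroups
  have swap : ∀ (A B : Subgroup Γ), (∀ g ∈ Q, ∀ x ∈ A, g * x * g⁻¹ ∈ A) → B ≤ Q →
      ∀ y : Γ, (∃ b ∈ B, ∃ a ∈ A, y = b * a) → ∃ a ∈ A, ∃ b ∈ B, y = a * b := by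
    rintro A B nA hB y ⟨b, hb, a, ha, rfl⟩
    exact ⟨b * a * b⁻¹, nA b (hB hb) a ha, b, hb, by group⟩
  have hK0Q : K0 ≤ Q := fun x hx => hx.1
  have hK1Q : K1 ≤ Q := fun x hx => hx.1
  have hK2Q : K2 ≤ Q := fun x hx => hx.1
  -- products
  have p01 : ∀ x ∈ Q, ∃ a ∈ K0, ∃ b ∈ K1, x⁻¹ * (σ * x * σ⁻¹) = a * b := by
    intro x hx
    -- τ * (σσ τ) = σ
    have hp : τ * (σ * σ * τ) = σ := e6
    apply swap K0 K1 n0 hK1Q
    exact exists_kerRefl_mul ρ Q E hEZ hEk hEσ hCW hσE (σ * σ * τ) τ r2 f2 q2 r0 f0 q0 hp x hx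
  have p12 : ∀ x ∈ Q, ∃ a ∈ K1, ∃ b ∈ K2, x⁻¹ * (σ * x * σ⁻¹) = a * b := by
    intro x hx
    have hp : (σ * σ * τ) * (σ * τ) = σ := by
      calc (σ * σ * τ) * (σ * τ) = σ * σ * (τ * (σ * τ)) := by group
        _ = σ * σ * (σ * σ) := by rw [e5]
        _ = (σ * (σ * σ)) * σ := by group
        _ = σ := by rw [e1, one_mul]
    apply swap K1 K2 n1 hK2Q
    exact exists_kerRefl_mul ρ Q E hEZ hEk hEσ hCW hσE (σ * τ) (σ * σ * τ) r1 f1 q1 r2 f2 q2 hp x hx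
  have p20 : ∀ x ∈ Q, ∃ a ∈ K2, ∃ b ∈ K0, x⁻¹ * (σ * x * σ⁻¹) = a * b := by
    intro x hx
    have hp : (σ * τ) * τ = σ := by rw [mul_assoc, e2, mul_one]
    apply swap K2 K0 n2 hK0Q
    exact exists_kerRefl_mul ρ Q E hEZ hEk hEσ hCW hσE τ (σ * τ) r0 f0 q0 r1 f1 q1 hp x hx
  have hσ3 : σ * σ * σ = 1 := by rw [mul_assoc]; exact e1
  exact comm_of_three_kernels Q K0 K1 K2 σ hσ3 hσQ' hfpf hK0Q hK1Q hK2Q n0 n1 n2 c0 c1 c2 hint
    p01 p12 p20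

end final

end Cfsg.Agent.Lead.S3F
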