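import Cfsg.Agent.Lead.S3fOp
import Cfsg.Agent.Lead.S3fGp
import Cfsg.Agent.Lead.S3fRt

/-!
S4305, case (a-II): `σ` centralises the centre of a minimal non-abelian invariant `q`-group.
-/

set_option autoImplicit false

namespace Cfsg.Agent.Lead.S3F

open scoped BigOperators
open Classical

variable {k : Type*} [Field k] {Γ : Type*} [Group Γ] [Fintype Γ]
  {W : Type*} [AddCommGroup W] [Module k W] (ρ : Representation k Γ W)

section fpfW

variable {σ : Γ} (hσ3 : σ * (σ * σ) = 1) (hσW : ∀ w : W, ρ σ w = w → w = 0)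
include hσ3 hσW

omit [Fintype Γ] in
/-- when `σ` has no fixed vectors, `1 + σ + σ²` vanishes. -/
theorem trace_sigma_eq_zero (w : W) : w + ρ σ w + ρ (σ * σ) w = 0 := by
  apply hσW
  simp only [map_add, rho_rho]
  rw [hσ3, map_one, Module.End.one_apply]
  abel

/-- a `σ`-invariant abelian subgroup acting faithfully is centralised by `σ`
when `σ` has no fixed vectors. -/
theorem sigma_centralizes_of_abelian (E : Subgroup Γ)
    (hEc : ∀ a ∈ E, ∀ b ∈ E, a * b = b * a)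
    (hσE : σ ∈ Subgroup.normalizer (E : Set Γ))
    (hEk : (Fintype.card E : k) ≠ 0) [HasEnoughRootsOfUnity k (Monoid.exponent E)]
    (hfaith : ∀ x ∈ E, ρ x = 1 → x = 1) : ∀ e ∈ E, σ * e * σ⁻¹ = e := by
  intro e he
  have hσe : σ * e * σ⁻¹ ∈ E := (Subgroup.mem_normalizer_iff.1 hσE e).1 he
  have hd : e⁻¹ * (σ * e * σ⁻¹) ∈ E := E.mul_mem (E.inv_mem he) hσe
  have hρd : ρ (e⁻¹ * (σ * e * σ⁻¹)) = 1 := by
    ext w
    rw [Module.End.one_apply]
    obtain ⟨S, hS⟩ := exists_wt_decomp ρ E hEc hEk w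
    rw [hS, map_sum]
    apply Finset.sum_congr rfl
    intro μ _
    set u := wtProj ρ E μ w with hu
    have hu1 : u ∈ wtSpace ρ E μ := wtProj_apply_mem ρ E μ w
    by_cases hu0 : u = 0
    · rw [hu0, map_zero]
    · -- `σ` stabilises `μ`
      have hs : σ ∈ charStab E μ := by
        by_contra hs
        have hs2 : σ * σ ∉ charStab E μ := by
          intro h5
          apply hs
          have h6 := Subgroup.mul_mem _ h5 h5
          have : σ * σ * (σ * σ) = σ := by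
            calc σ * σ * (σ * σ) = (σ * (σ * σ)) * σ := by group
              _ = σ := by rw [hσ3, one_mul]
          rwa [this] at h6
        have h1 := trace_sigma_eq_zero ρ hσ3 hσW u
        have h2 := congrArg (wtProj ρ E μ) h1
        simp only [map_add, map_zero] at h2
        rw [wtProj_of_mem ρ E hEk μ u hu1, wtProj_rho_of_not_mem ρ E hEk μ σ hσE hs u hu1,
          wtProj_rho_of_not_mem ρ E hEk μ (σ * σ) (Subgroup.mul_mem _ hσE hσE) hs2 u hu1] at h2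
        simp only [add_zero] at h2
        exact hu0 h2
      have hsi : σ⁻¹ ∈ charStab E μ := Subgroup.inv_mem _ hs
      obtain ⟨hn, hn'⟩ := hsi
      have h3 : μ ⟨σ * e * σ⁻¹, hσe⟩ = μ ⟨e, he⟩ := by
        have h4 : conjChar E σ⁻¹ hn μ ⟨e, he⟩ = μ ⟨e, he⟩ := by rw [hn']
        rw [← h4]
        symm
        apply conjChar_apply'
        show σ * e * σ⁻¹ = σ⁻¹⁻¹ * e * σ⁻¹
        rw [inv_inv]
      have h5 := hu1 ⟨e⁻¹ * (σ * e * σ⁻¹), hd⟩
      have h6 : μ ⟨e⁻¹ * (σ * e * σ⁻¹), hd⟩ = 1 := by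
        have : (⟨e⁻¹ * (σ * e * σ⁻¹), hd⟩ : E) = (⟨e, he⟩ : E)⁻¹ * ⟨σ * e * σ⁻¹, hσe⟩ := rfl
        rw [this, map_mul, map_inv, h3, inv_mul_cancel]
      rw [h6] at h5
      simpa using h5
  have := hfaith _ hd hρd
  calc σ * e * σ⁻¹ = e * (e⁻¹ * (σ * e * σ⁻¹)) := by group
    _ = e := by rw [this, mul_one]

end fpfW

section sigmaFree

variable {σ τ : Γ}

/-- if `σ` centralises a subgroup `Z` without fixed vectors, then `σ` has no fixed vectors. -/
theorem sigma_fpf_of_centralizes (h : S3Rel σ τ) (hfix : NoFix ρ σ τ) (Z : Subgroup Γ)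
    (hZσ : ∀ z ∈ Z, σ * z * σ⁻¹ = z) (hτZ : ∀ z ∈ Z, τ * z * τ⁻¹ ∈ Z)
    (hZτ : ∀ z ∈ Z, τ * z * τ⁻¹ = z → z = 1) (hodd : Odd (Nat.card Z))
    (hCW : ∀ w : W, (∀ z ∈ Z, ρ z w = w) → w = 0) : ∀ w : W, ρ σ w = w → w = 0 := by
  intro w hw
  apply hCW
  have hinv := inverts_of_fpf Z τ h.elts.2.1 hτZ hZτ
  have hτw : ρ τ w = -w := tau_neg_of_sigma_fixed ρ h hfix w hw
  -- `z * z` fixes `w`
  have hsq : ∀ z ∈ Z, ρ (z * z) w = w := by
    intro z hz
    have h1 : ρ σ (ρ z w) = ρ z w := by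
      rw [rho_rho]
      have : σ * z = z * σ := by
        have := hZσ z hz
        calc σ * z = (σ * z * σ⁻¹) * σ := by group
          _ = z * σ := by rw [this]
      rw [this, ← rho_rho, hw]
    have h2 : ρ τ (ρ z w) = -(ρ z w) := tau_neg_of_sigma_fixed ρ h hfix _ h1
    have h3 : ρ τ (ρ z w) = -(ρ z⁻¹ w) := by
      rw [rho_rho]
      have : τ * z = z⁻¹ * τ := by
        have := hinv z hz
        calc τ * z = (τ * z * τ⁻¹) * τ := by group
          _ = z⁻¹ * τ := by rw [this]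
      rw [this, ← rho_rho, hτw, map_neg]
    have h4 : ρ z w = ρ z⁻¹ w := by
      have := h2.symm.trans h3
      exact neg_injective this
    calc ρ (z * z) w = ρ z (ρ z w) := by rw [rho_rho]
      _ = ρ z (ρ z⁻¹ w) := by rw [h4]
      _ = w := by rw [rho_rho, mul_inv_cancel, map_one]; rfl
  intro z hz
  have hzo : Odd (orderOf z) := by
    have hd : orderOf z ∣ Nat.card Z := Subgroup.orderOf_dvd_natCard Z hz
    exact Odd.of_dvd_nat hodd hd
  obtain ⟨m, hm⟩ := hzo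
  -- `z = (z * z) ^ (m + 1)`
  have hz2 : z = (z * z) ^ (m + 1) := by
    have h3 : z ^ (2 * m + 1) = 1 := by rw [← hm]; exact pow_orderOf_eq_one z
    calc z = z ^ (2 * m + 1) * z := by rw [h3, one_mul]
      _ = (z * z) ^ (m + 1) := by rw [← pow_two, ← pow_mul, ← pow_succ]; congr 1
  have hpow : ∀ n : ℕ, ρ ((z * z) ^ n) w = w := by
    intro n
    induction n with
    | zero => simp
    | succ n ih => rw [pow_succ, ← rho_rho, hsq z hz, ih]
  rw [hz2]
  exact hpow (m + 1)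

end sigmaFree

section main

variable [IsAlgClosed k] {σ τ : Γ}

omit [Fintype Γ] in
theorem odd_card_of_isPGroup {q : ℕ} [hq : Fact q.Prime] (hq2 : q ≠ 2) (E : Subgroup Γ)
    [Finite E] (hE : IsPGroup q E) : Odd (Nat.card E) := by
  obtain ⟨n, hn⟩ := IsPGroup.iff_card.1 hE
  rw [hn]
  exact Odd.pow (hq.out.odd_of_ne_two hq2)

/-- **Case (a-II)**, first part: the structure of `Q`. -/
theorem structure_of_sigma_centralizes_center (h : S3Rel σ τ) (hfix : NoFix ρ σ τ)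
    (Q : Subgroup Γ) {q : ℕ} [hq : Fact q.Prime] (hQ : IsPGroup q Q) (hqk : (q : k) ≠ 0)
    (hq2 : q ≠ 2) (hq3 : q ≠ 3)
    (hσQ : σ ∈ Subgroup.normalizer (Q : Set Γ)) (hτQ : τ ∈ Subgroup.normalizer (Q : Set Γ))
    (hfaith : ∀ x ∈ Q, ρ x = 1 → x = 1)
    (hCQ : ∀ x ∈ Q, σ * x * σ⁻¹ = x → τ * x * τ⁻¹ = x → x = 1)
    (hmin : ∀ Q₀ : Subgroup Γ, Q₀ ≤ Q → Q₀ ≠ Q → σ ∈ Subgroup.normalizer (Q₀ : Set Γ) →
      τ ∈ Subgroup.normalizer (Q₀ : Set Γ) → ∀ a ∈ Q₀, ∀ b ∈ Q₀, a * b = b * a)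
    (hZσ : ∀ z ∈ Q, (∀ x ∈ Q, z * x = x * z) → σ * z * σ⁻¹ = z)
    (hIrr : ∀ E : Subgroup Γ, E ≤ Q → E ≠ ⊥ → (∀ g ∈ Q, ∀ x ∈ E, g * x * g⁻¹ ∈ E) →
      σ ∈ Subgroup.normalizer (E : Set Γ) → τ ∈ Subgroup.normalizer (E : Set Γ) →
      ∀ w : W, (∀ e ∈ E, ρ e w = w) → w = 0)
    (hna : ∃ a ∈ Q, ∃ b ∈ Q, a * b ≠ b * a) :
    (∀ w : W, ρ σ w = w → w = 0) ∧
    (∀ c ∈ Q, σ * c * σ⁻¹ = c → ∀ x ∈ Q, c * x = x * c) ∧
    (∀ c ∈ Q, σ * c * σ⁻¹ = c → τ * c * τ⁻¹ = c⁻¹) ∧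
    (∀ a ∈ Q, ∀ b ∈ Q, σ * (a * b * a⁻¹ * b⁻¹) * σ⁻¹ = a * b * a⁻¹ * b⁻¹) ∧
    (∃ x ∈ Q, σ * x * σ⁻¹ ≠ x) := by
  obtain ⟨e1, e2, e3, e4, e5, e6⟩ := h.elts
  have hσQ' : ∀ x ∈ Q, σ * x * σ⁻¹ ∈ Q := fun x hx => conj_mem_of_mem_normalizer' hσQ hx
  have hτQ' : ∀ x ∈ Q, τ * x * τ⁻¹ ∈ Q := fun x hx => conj_mem_of_mem_normalizer' hτQ hx
  have hσiQ' : ∀ x ∈ Q, σ⁻¹ * x * σ ∈ Q := fun x hx => by
    have := conj_mem_of_mem_normalizer' (Subgroup.inv_mem _ hσQ) hx
    simpa using this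
  have hτiQ' : ∀ x ∈ Q, τ⁻¹ * x * τ ∈ Q := fun x hx => by
    have := conj_mem_of_mem_normalizer' (Subgroup.inv_mem _ hτQ) hx
    simpa using this
  have hQodd : Odd (Nat.card Q) := odd_card_of_isPGroup hq2 Q hQ
  -- the centre
  let Z : Subgroup Γ :=
    { carrier := {z | z ∈ Q ∧ ∀ x ∈ Q, z * x = x * z}
      mul_mem' := by
        rintro a b ⟨ha, ha'⟩ ⟨hb, hb'⟩
        refine ⟨Q.mul_mem ha hb, fun x hx => ?_⟩
        calc a * b * x = a * (b * x) := by group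
          _ = a * (x * b) := by rw [hb' x hx]
          _ = (a * x) * b := by group
          _ = (x * a) * b := by rw [ha' x hx]
          _ = x * (a * b) := by group
      one_mem' := ⟨Q.one_mem, fun x _ => by simp⟩
      inv_mem' := by
        rintro a ⟨ha, ha'⟩
        refine ⟨Q.inv_mem ha, fun x hx => ?_⟩
        have := ha' x hx
        calc a⁻¹ * x = a⁻¹ * (x * a) * a⁻¹ := by group
          _ = a⁻¹ * (a * x) * a⁻¹ := by rw [this]
          _ = x * a⁻¹ := by group }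
  have hZQ : Z ≤ Q := fun z hz => hz.1
  have hZne : Z ≠ ⊥ := by
    obtain ⟨a, ha, b, hb, hab⟩ := hna
    haveI : Nontrivial Q := by
      refine ⟨⟨⟨a, ha⟩, 1, ?_⟩⟩
      intro h1
      have : a = 1 := congrArg Subtype.val h1
      apply hab
      rw [this]; simp
    have hc := IsPGroup.center_nontrivial hQ
    obtain ⟨z, hz⟩ := exists_ne (1 : Subgroup.center Q)
    intro hbot
    have hzZ : ((z : Q) : Γ) ∈ Z := by
      refine ⟨(z : Q).2, fun x hx => ?_⟩
      have := Subgroup.mem_center_iff.1 z.2 ⟨x, hx⟩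
      have h2 := congrArg Subtype.val this
      simpa using h2.symm
    rw [hbot, Subgroup.mem_bot] at hzZ
    apply hz
    apply Subtype.ext
    apply Subtype.ext
    simpa using hzZ
  have hZnQ : ∀ g ∈ Q, ∀ x ∈ Z, g * x * g⁻¹ ∈ Z := by
    rintro g hg x ⟨hx, hx'⟩
    have : g * x * g⁻¹ = x := by rw [← hx' g hg]; group
    rw [this]; exact ⟨hx, hx'⟩
  have hZconj : ∀ t : Γ, (∀ x ∈ Q, t * x * t⁻¹ ∈ Q) → (∀ x ∈ Q, t⁻¹ * x * t ∈ Q) →
      ∀ z ∈ Z, t * z * t⁻¹ ∈ Z := by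
    rintro t ht hti z ⟨hz, hz'⟩
    refine ⟨ht z hz, fun x hx => ?_⟩
    have := hz' _ (hti x hx)
    calc t * z * t⁻¹ * x = t * (z * (t⁻¹ * x * t)) * t⁻¹ := by group
      _ = t * ((t⁻¹ * x * t) * z) * t⁻¹ := by rw [this]
      _ = x * (t * z * t⁻¹) := by group
  have hσZ : σ ∈ Subgroup.normalizer (Z : Set Γ) :=
    mem_normalizer_of_conj_mem Z σ (hZconj σ hσQ' hσiQ')
  have hτZ : τ ∈ Subgroup.normalizer (Z : Set Γ) :=
    mem_normalizer_of_conj_mem Z τ (hZconj τ hτQ' hτiQ')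
  have hCWZ := hIrr Z hZQ hZne hZnQ hσZ hτZ
  have hZodd : Odd (Nat.card Z) := by
    have : Nat.card Z ∣ Nat.card Q := Subgroup.card_dvd_of_le hZQ
    exact Odd.of_dvd_nat hQodd this
  -- `σ` has no fixed vectors
  have hσW : ∀ w : W, ρ σ w = w → w = 0 :=
    sigma_fpf_of_centralizes ρ h hfix Z (fun z hz => hZσ z hz.1 hz.2)
      (hZconj τ hτQ' hτiQ') (fun z hz hz2 => hCQ z hz.1 (hZσ z hz.1 hz.2) hz2) hZodd hCWZ
  -- `σ` centralises `σ`-invariant abelian subgroups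
  have key : ∀ E : Subgroup Γ, E ≤ Q → (∀ a ∈ E, ∀ b ∈ E, a * b = b * a) →
      σ ∈ Subgroup.normalizer (E : Set Γ) → ∀ e ∈ E, σ * e * σ⁻¹ = e := by
    intro E hEQ hEc hσE
    have hEp : IsPGroup q E := hQ.to_le hEQ
    haveI := hasEnoughRootsOfUnity_of_isPGroup (k := k) hqk E hEp
    exact sigma_centralizes_of_abelian ρ e1 hσW E hEc hσE
      (card_cast_ne_zero_of_isPGroup hqk E hEp) (fun x hx => hfaith x (hEQ hx))
  -- the fixed points of `σ`
  let C : Subgroup Γ :=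
    { carrier := {x | x ∈ Q ∧ σ * x * σ⁻¹ = x}
      mul_mem' := by
        rintro a b ⟨ha, ha'⟩ ⟨hb, hb'⟩
        refine ⟨Q.mul_mem ha hb, ?_⟩
        calc σ * (a * b) * σ⁻¹ = (σ * a * σ⁻¹) * (σ * b * σ⁻¹) := by group
          _ = a * b := by rw [ha', hb']
      one_mem' := ⟨Q.one_mem, by group⟩
      inv_mem' := by
        rintro a ⟨ha, ha'⟩
        refine ⟨Q.inv_mem ha, ?_⟩
        calc σ * a⁻¹ * σ⁻¹ = (σ * a * σ⁻¹)⁻¹ := by group
          _ = a⁻¹ := by rw [ha'] }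
  have hCQ' : C ≤ Q := fun x hx => hx.1
  have hτC : ∀ x ∈ C, τ * x * τ⁻¹ ∈ C := by
    rintro x ⟨hx, hx'⟩
    refine ⟨hτQ' x hx, ?_⟩
    have hst : σ * τ = τ * σ⁻¹ := h.sigma_tau
    have hx'' : σ⁻¹ * x * σ = x := by
      calc σ⁻¹ * x * σ = σ⁻¹ * (σ * x * σ⁻¹) * σ := by rw [hx']
        _ = x := by group
    calc σ * (τ * x * τ⁻¹) * σ⁻¹ = (σ * τ) * x * (σ * τ)⁻¹ := by group
      _ = (τ * σ⁻¹) * x * (τ * σ⁻¹)⁻¹ := by rw [hst]
      _ = τ * (σ⁻¹ * x * σ) * τ⁻¹ := by group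
      _ = τ * x * τ⁻¹ := by rw [hx'']
  have hCinv : ∀ x ∈ C, τ * x * τ⁻¹ = x⁻¹ :=
    inverts_of_fpf C τ e2 hτC (fun x hx hx2 => hCQ x hx.1 hx.2 hx2)
  have hCab : ∀ a ∈ C, ∀ b ∈ C, a * b = b * a := by
    intro a ha b hb
    have h1 := hCinv (a * b) (C.mul_mem ha hb)
    have h2 : τ * (a * b) * τ⁻¹ = (τ * a * τ⁻¹) * (τ * b * τ⁻¹) := by group
    rw [h2, hCinv a ha, hCinv b hb] at h1
    have h3 : (a⁻¹ * b⁻¹)⁻¹ = ((a * b)⁻¹)⁻¹ := by rw [h1]
    rw [inv_inv, mul_inv_rev, inv_inv, inv_inv] at h3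
    exact h3.symm
  have hσC : σ ∈ Subgroup.normalizer (C : Set Γ) := by
    apply mem_normalizer_of_conj_mem
    rintro x ⟨hx, hx'⟩
    rw [hx']; exact ⟨hx, hx'⟩
  have hτCn : τ ∈ Subgroup.normalizer (C : Set Γ) := mem_normalizer_of_conj_mem C τ hτC
  -- proper invariant subgroups lie in `C`
  have hprop : ∀ Q₀ : Subgroup Γ, Q₀ ≤ Q → Q₀ ≠ Q → σ ∈ Subgroup.normalizer (Q₀ : Set Γ) →
      τ ∈ Subgroup.normalizer (Q₀ : Set Γ) → Q₀ ≤ C := by
    intro Q₀ h1 h2 h3 h4 x hx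
    exact ⟨h1 hx, key Q₀ h1 (hmin Q₀ h1 h2 h3 h4) h3 x hx⟩
  have hCne : C ≠ Q := by
    intro hC
    obtain ⟨a, ha, b, hb, hab⟩ := hna
    apply hab
    apply hCab a _ b _
    · rw [hC]; exact ha
    · rw [hC]; exact hb
  -- the derived subgroup lies in `C`
  have hder : ∀ a ∈ Q, ∀ b ∈ Q, a * b * a⁻¹ * b⁻¹ ∈ C := by
    have hD : ⁅Q, Q⁆ ≤ C := by
      apply hprop
      · exact Subgroup.commutator_le_self Q
      · intro hDQ
        -- `Q` is nilpotent and non-trivial, so `⁅Q, Q⁆ ≠ Q`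
        haveI : Nontrivial Q := by
          obtain ⟨a, ha, b, hb, hab⟩ := hna
          refine ⟨⟨⟨a, ha⟩, 1, ?_⟩⟩
          intro h1
          have : a = 1 := congrArg Subtype.val h1
          apply hab
          rw [this]; simp
        haveI : Group.IsNilpotent Q := hQ.isNilpotent
        have hlt := Group.IsSolvable.commutator_lt_top_of_nontrivial Q
        have hmap : (commutator Q).map Q.subtype = ⁅Q, Q⁆ := Subgroup.map_subtype_commutator Q
        have : (commutator Q) = ⊤ := by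
          apply Subgroup.map_injective Q.subtype_injective
          rw [hmap, hDQ, ← MonoidHom.range_eq_map, Q.range_subtype]
        exact (ne_of_lt hlt) this
      · apply mem_normalizer_of_conj_mem
        intro x hx
        have hm : (⁅Q, Q⁆ : Subgroup Γ).map (MulAut.conj σ).toMonoidHom = ⁅Q, Q⁆ := by
          rw [Subgroup.map_commutator]
          have : Q.map (MulAut.conj σ).toMonoidHom = Q := by
            ext y
            simp only [Subgroup.mem_map, MulEquiv.coe_toMonoidHom, MulAut.conj_apply]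
            constructor
            · rintro ⟨z, hz, rfl⟩; exact hσQ' z hz
            · intro hy; exact ⟨σ⁻¹ * y * σ, hσiQ' y hy, by group⟩
          rw [this]
        rw [← hm]
        exact ⟨x, hx, rfl⟩
      · apply mem_normalizer_of_conj_mem
        intro x hx
        have hm : (⁅Q, Q⁆ : Subgroup Γ).map (MulAut.conj τ).toMonoidHom = ⁅Q, Q⁆ := by
          rw [Subgroup.map_commutator]
          have : Q.map (MulAut.conj τ).toMonoidHom = Q := by
            ext y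
            simp only [Subgroup.mem_map, MulEquiv.coe_toMonoidHom, MulAut.conj_apply]
            constructor
            · rintro ⟨z, hz, rfl⟩; exact hτQ' z hz
            · intro hy; exact ⟨τ⁻¹ * y * τ, hτiQ' y hy, by group⟩
          rw [this]
        rw [← hm]
        exact ⟨x, hx, rfl⟩
    intro a ha b hb
    apply hD
    have := Subgroup.commutator_mem_commutator ha hb
    rwa [commutatorElement_def] at this
  -- `C` is normal in `Q`
  have hCn : ∀ g ∈ Q, ∀ c ∈ C, g * c * g⁻¹ ∈ C := by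
    intro g hg c hc
    have h1 := hder g hg c hc.1
    have : g * c * g⁻¹ = (g * c * g⁻¹ * c⁻¹) * c := by group
    rw [this]
    exact C.mul_mem h1 hc
  -- `C` is central
  have hCZ : ∀ c ∈ C, ∀ x ∈ Q, c * x = x * c := by
    -- the centraliser of `C` in `Q`
    let D : Subgroup Γ :=
      { carrier := {g | g ∈ Q ∧ ∀ c ∈ C, g * c = c * g}
        mul_mem' := by
          rintro a b ⟨ha, ha'⟩ ⟨hb, hb'⟩
          refine ⟨Q.mul_mem ha hb, fun c hc => ?_⟩
          calc a * b * c = a * (b * c) := by group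
            _ = a * (c * b) := by rw [hb' c hc]
            _ = (a * c) * b := by group
            _ = (c * a) * b := by rw [ha' c hc]
            _ = c * (a * b) := by group
        one_mem' := ⟨Q.one_mem, fun c _ => by simp⟩
        inv_mem' := by
          rintro a ⟨ha, ha'⟩
          refine ⟨Q.inv_mem ha, fun c hc => ?_⟩
          have := ha' c hc
          calc a⁻¹ * c = a⁻¹ * (c * a) * a⁻¹ := by group
            _ = a⁻¹ * (a * c) * a⁻¹ := by rw [this]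
            _ = c * a⁻¹ := by group }
    have hDQ : D ≤ Q := fun g hg => hg.1
    have hCD : C ≤ D := fun c hc => ⟨hc.1, fun c' hc' => hCab c hc c' hc'⟩
    have hDconj : ∀ t : Γ, (∀ x ∈ Q, t * x * t⁻¹ ∈ Q) → t⁻¹ ∈ Subgroup.normalizer (C : Set Γ) →
        ∀ g ∈ D, t * g * t⁻¹ ∈ D := by
      rintro t ht htC g ⟨hg, hg'⟩
      refine ⟨ht g hg, fun c hc => ?_⟩
      have hc' : t⁻¹ * c * t ∈ C := by
        have := conj_mem_of_mem_normalizer' htC hc
        simpa using this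
      have := hg' _ hc'
      calc t * g * t⁻¹ * c = t * (g * (t⁻¹ * c * t)) * t⁻¹ := by group
        _ = t * ((t⁻¹ * c * t) * g) * t⁻¹ := by rw [this]
        _ = c * (t * g * t⁻¹) := by group
    have hσD : σ ∈ Subgroup.normalizer (D : Set Γ) :=
      mem_normalizer_of_conj_mem D σ (hDconj σ hσQ' (Subgroup.inv_mem _ hσC))
    have hτD : τ ∈ Subgroup.normalizer (D : Set Γ) :=
      mem_normalizer_of_conj_mem D τ (hDconj τ hτQ' (Subgroup.inv_mem _ hτCn))
    -- all `x⁻¹ σ x σ⁻¹` lie in `D`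
    have hcomD : ∀ x ∈ Q, x⁻¹ * (σ * x * σ⁻¹) ∈ D := by
      intro x hx
      refine ⟨Q.mul_mem (Q.inv_mem hx) (hσQ' x hx), fun c hc => ?_⟩
      have h1 : x * c * x⁻¹ ∈ C := hCn x hx c hc
      have h2 : σ * (x * c * x⁻¹) * σ⁻¹ = x * c * x⁻¹ := h1.2
      have h3 : σ * (x * c * x⁻¹) * σ⁻¹ = (σ * x * σ⁻¹) * c * (σ * x * σ⁻¹)⁻¹ := by
        have hc2 : σ * c * σ⁻¹ = c := hc.2
        calc σ * (x * c * x⁻¹) * σ⁻¹ = (σ * x * σ⁻¹) * (σ * c * σ⁻¹) * (σ * x * σ⁻¹)⁻¹ := by group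
          _ = _ := by rw [hc2]
      rw [h3] at h2
      calc x⁻¹ * (σ * x * σ⁻¹) * c = x⁻¹ * ((σ * x * σ⁻¹) * c * (σ * x * σ⁻¹)⁻¹) * (σ * x * σ⁻¹) := by
            group
        _ = x⁻¹ * (x * c * x⁻¹) * (σ * x * σ⁻¹) := by rw [h2]
        _ = c * (x⁻¹ * (σ * x * σ⁻¹)) := by group
    by_cases hDe : D = Q
    · intro c hc x hx
      have : x ∈ D := by rw [hDe]; exact hx
      exact (this.2 c hc).symm
    · exfalso
      have hDC : D ≤ C := hprop D hDQ hDe hσD hτD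
      apply hCne
      apply le_antisymm hCQ'
      intro x hx
      refine ⟨hx, ?_⟩
      -- `y = x⁻¹ σ x σ⁻¹` is fixed by `σ`, so `y³ = 1`
      set y := x⁻¹ * (σ * x * σ⁻¹) with hy
      have hyC : y ∈ C := hDC (hcomD x hx)
      have hyσ : σ * y * σ⁻¹ = y := hyC.2
      have hx1 : σ * x * σ⁻¹ = x * y := by rw [hy]; group
      have hx2 : σ * (σ * x * σ⁻¹) * σ⁻¹ = x * y * y := by
        rw [hx1]
        calc σ * (x * y) * σ⁻¹ = (σ * x * σ⁻¹) * (σ * y * σ⁻¹) := by group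
          _ = x * y * y := by rw [hx1, hyσ]
      have hx3 : σ * (σ * (σ * x * σ⁻¹) * σ⁻¹) * σ⁻¹ = x * y * y * y := by
        rw [hx2]
        calc σ * (x * y * y) * σ⁻¹ = (σ * x * σ⁻¹) * (σ * y * σ⁻¹) * (σ * y * σ⁻¹) := by group
          _ = x * y * y * y := by rw [hx1, hyσ]
      have hx4 : σ * (σ * (σ * x * σ⁻¹) * σ⁻¹) * σ⁻¹ = x := by
        have : σ * (σ * (σ * x * σ⁻¹) * σ⁻¹) * σ⁻¹ = (σ * (σ * σ)) * x * (σ * (σ * σ))⁻¹ := by group
        rw [this, e1]; group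
      have hy3 : y ^ 3 = 1 := by
        have : x * y * y * y = x := by rw [← hx3, hx4]
        have h5 : x * (y * y * y) = x * 1 := by
          rw [mul_one]
          calc x * (y * y * y) = x * y * y * y := by group
            _ = x := this
        have h6 := mul_left_cancel h5
        rw [pow_succ, pow_two]; exact h6
      -- the order of `y` is a power of `q ≠ 3`
      have hy1 : y = 1 := by
        have hyQ : y ∈ Q := hyC.1
        obtain ⟨n, hn⟩ := hQ ⟨y, hyQ⟩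
        have hn' : y ^ (q ^ n) = 1 := by
          have := congrArg Subtype.val hn
          simpa using this
        have hcop : Nat.Coprime 3 (q ^ n) := by
          apply Nat.Coprime.pow_right
          rw [Nat.coprime_primes Nat.prime_three hq.out]
          exact fun h3 => hq3 h3.symm
        have h7 : orderOf y ∣ 3 := orderOf_dvd_of_pow_eq_one hy3
        have h8 : orderOf y ∣ q ^ n := orderOf_dvd_of_pow_eq_one hn'
        have h9 : orderOf y ∣ 1 := by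
          have := Nat.dvd_gcd h7 h8
          rwa [hcop] at this
        exact orderOf_eq_one_iff.1 (Nat.dvd_one.1 h9)
      rw [hx1, hy1, mul_one]
  refine ⟨hσW, fun c hc hcσ x hx => hCZ c ⟨hc, hcσ⟩ x hx, fun c hc hcσ => hCinv c ⟨hc, hcσ⟩,
    fun a ha b hb => (hder a ha b hb).2, ?_⟩
  by_contra hcon
  push Not at hcon
  apply hCne
  apply le_antisymm hCQ'
  intro x hx
  exact ⟨hx, hcon x hx⟩

end main

end Cfsg.Agent.Lead.S3F
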