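import Cfsg.Agent.Lead.S3fA2

/-!
S4305, case (a-II), second part: the contradiction.
-/

set_option autoImplicit false
set_option linter.style.haveILetI false

namespace Cfsg.Agent.Lead.S3F

open scoped BigOperators
open Classical

variable {k : Type*} [Field k] {Γ : Type*} [Group Γ] [Fintype Γ]
  {W : Type*} [AddCommGroup W] [Module k W] (ρ : Representation k Γ W)

/-- the subgroup of `Q` fixed by conjugation with `σ`. -/
def fixSub (Q : Subgroup Γ) (σ : Γ) : Subgroup Γ where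
  carrier := {x | x ∈ Q ∧ σ * x * σ⁻¹ = x}
  mul_mem' := by
    rintro a b ⟨ha, ha'⟩ ⟨hb, hb'⟩
    refine ⟨Q.mul_mem ha hb, ?_⟩
    calc σ * (a * b) * σ⁻¹ = (σ * a * σ⁻¹) * (σ * b * σ⁻¹) := by group
      _ = a * b := by rw [ha', hb']
  one_mem' := ⟨Q.one_mem, by group⟩
  inv_mem' := by
    rintro a ⟨ha, ha'⟩
    refine ⟨Q.inv_mem ha, ?_⟩
    calc σ * a⁻¹ * σ⁻¹ = (σ * a * σ⁻¹)⁻¹ := by group
      _ = a⁻¹ := by rw [ha']

/-- the stabiliser of a vector. -/
def vecStab (w : W) : Subgroup Γ where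
  carrier := {g | ρ g w = w}
  mul_mem' := by
    intro a b ha hb
    show ρ (a * b) w = w
    rw [← rho_rho, show ρ b w = w from hb, show ρ a w = w from ha]
  one_mem' := by
    show ρ 1 w = w
    rw [map_one, Module.End.one_apply]
  inv_mem' := by
    intro a ha
    show ρ a⁻¹ w = w
    have ha' : ρ a w = w := ha
    calc ρ a⁻¹ w = ρ a⁻¹ (ρ a w) := by rw [ha']
      _ = w := by rw [rho_rho, inv_mul_cancel, map_one, Module.End.one_apply]

omit [Fintype Γ] in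
theorem rho_injective (g : Γ) {u v : W} (huv : ρ g u = ρ g v) : u = v := by
  have := congrArg (ρ g⁻¹) huv
  rwa [rho_rho, rho_rho, inv_mul_cancel, map_one, Module.End.one_apply,
    Module.End.one_apply] at this

omit [Fintype Γ] in
theorem rho_eq_zero (g : Γ) {u : W} (hu : ρ g u = 0) : u = 0 := by
  apply rho_injective ρ g
  rw [hu, map_zero]

section step

variable {σ : Γ} (hσ3 : σ * (σ * σ) = 1) (hσW : ∀ w : W, ρ σ w = w → w = 0)
include hσ3 hσW

omit [Fintype Γ] in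
/-- the fixed vectors of `y = x (σ x⁻¹ σ⁻¹)` are stable under `σ`. -/
theorem sigma_stable_fixed (x : Γ) (v : W)
    (hv : ρ (x * (σ * x⁻¹ * σ⁻¹)) v = v) :
    ρ (x * (σ * x⁻¹ * σ⁻¹)) (ρ σ v) = ρ σ v := by
  generalize hy : x * (σ * x⁻¹ * σ⁻¹) = y at hv ⊢
  obtain ⟨z, hz⟩ : ∃ z, z = σ * y * σ⁻¹ := ⟨_, rfl⟩
  -- `g = y σ` is conjugate to `σ`
  have hg : y * σ = x * σ * x⁻¹ := by rw [← hy]; group
  have hg3 : (y * σ) * ((y * σ) * (y * σ)) = 1 := by
    rw [hg]
    calc x * σ * x⁻¹ * (x * σ * x⁻¹ * (x * σ * x⁻¹)) = x * (σ * (σ * σ)) * x⁻¹ := by group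
      _ = 1 := by rw [hσ3]; group
  have hgW : ∀ w : W, ρ (y * σ) w = w → w = 0 := by
    intro w hw
    rw [hg] at hw
    have h1 : ρ σ (ρ x⁻¹ w) = ρ x⁻¹ w := by
      have := congrArg (ρ x⁻¹) hw
      rw [rho_rho] at this
      rw [rho_rho]
      rw [← this]
      congr 2
      group
    exact rho_eq_zero ρ x⁻¹ (hσW _ h1)
  have t1 := trace_sigma_eq_zero ρ hσ3 hσW v
  have t2 := trace_sigma_eq_zero ρ hg3 hgW v
  have e1 : ρ (y * σ) v = ρ y (ρ σ v) := (rho_rho ρ y σ v).symm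
  have e2 : ρ ((y * σ) * (y * σ)) v = ρ y (ρ z (ρ (σ * σ) v)) := by
    symm
    rw [rho_rho, rho_rho]
    congr 2
    rw [hz]; group
  rw [e1, e2] at t2
  -- `u = v + σ v`
  have hu : ρ (σ * σ) v = -(v + ρ σ v) := by
    rw [eq_neg_iff_add_eq_zero, add_comm]; exact t1
  rw [hu, map_neg, map_neg] at t2
  have h3 : ρ y (v + ρ σ v) = v + ρ y (ρ σ v) := by rw [map_add, hv]
  have h4 : ρ y (v + ρ σ v) = ρ y (ρ z (v + ρ σ v)) := by
    rw [h3]
    rw [← sub_eq_zero, sub_eq_add_neg]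
    exact t2
  have h5 : v + ρ σ v = ρ z (v + ρ σ v) := rho_injective ρ y h4
  have h6 : ρ z (ρ (σ * σ) v) = ρ (σ * σ) v := by
    rw [hu, map_neg, ← h5]
  have h7 : ρ z (ρ (σ * σ) v) = ρ σ (ρ (y * σ) v) := by
    rw [rho_rho, rho_rho]
    congr 2
    rw [hz]; group
  have h8 : ρ (σ * σ) v = ρ σ (ρ σ v) := (rho_rho ρ σ σ v).symm
  rw [h7, h8] at h6
  have h9 := rho_injective ρ σ h6
  rw [← e1]
  exact h9

end step

section main

variable [IsAlgClosed k] {σ τ : Γ}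

omit [Fintype Γ] in
theorem exists_not_fixed_pow_fixed (Q : Subgroup Γ) {q : ℕ} (hQ : IsPGroup q Q) (σ : Γ)
    (x₀ : Γ) (hx₀Q : x₀ ∈ Q) (hx₀ : σ * x₀ * σ⁻¹ ≠ x₀) :
    ∃ x ∈ Q, σ * x * σ⁻¹ ≠ x ∧ σ * x ^ q * σ⁻¹ = x ^ q := by
  have hex : ∃ n : ℕ, σ * x₀ ^ (q ^ n) * σ⁻¹ = x₀ ^ (q ^ n) := by
    obtain ⟨n, hn⟩ := hQ ⟨x₀, hx₀Q⟩
    refine ⟨n, ?_⟩
    have hn' : x₀ ^ (q ^ n) = 1 := by
      have := congrArg Subtype.val hn
      simpa using this
    rw [hn']; group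
  have hm := Nat.find_spec hex
  have hmin := fun m => Nat.find_min hex (m := m)
  cases hfm : Nat.find hex with
  | zero =>
    exfalso
    rw [hfm] at hm
    apply hx₀
    simpa using hm
  | succ m =>
    refine ⟨x₀ ^ (q ^ m), Q.pow_mem hx₀Q _, ?_, ?_⟩
    · apply hmin m
      rw [hfm]; exact Nat.lt_succ_self m
    · rw [hfm] at hm
      rw [← pow_mul, ← pow_succ]
      exact hm

/-- **Case (a-II)**. -/
theorem comm_of_sigma_centralizes_center (h : S3Rel σ τ) (hfix : NoFix ρ σ τ)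
    (Q : Subgroup Γ) {q : ℕ} [hq : Fact q.Prime] (hQ : IsPGroup q Q) (hqk : (q : k) ≠ 0)
    (hq2 : q ≠ 2) (hq3 : q ≠ 3)
    (hσQ : σ ∈ Subgroup.normalizer (Q : Set Γ)) (hτQ : τ ∈ Subgroup.normalizer (Q : Set Γ))
    (hfaith : ∀ x ∈ Q, ρ x = 1 → x = 1)
    (hCQ : ∀ x ∈ Q, σ * x * σ⁻¹ = x → τ * x * τ⁻¹ = x → x = 1)
    (hmin : ∀ Q₀ : Subgroup Γ, Q₀ ≤ Q → Q₀ ≠ Q → σ ∈ Subgroup.normalizer (Q₀ : Set Γ) →
      τ ∈ Subgroup.normalizer (Q₀ : Set Γ) → ∀ a ∈ Q₀, ∀ b ∈ Q₀, a * b = b * a)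
    (hZσ : ∀ z ∈ Q, (∀ x ∈ Q, z * x = x * z) → σ * z * σ⁻¹ = z)
    (hIrr : ∀ E : Subgroup Γ, E ≤ Q → E ≠ ⊥ → (∀ g ∈ Q, ∀ x ∈ E, g * x * g⁻¹ ∈ E) →
      σ ∈ Subgroup.normalizer (E : Set Γ) → τ ∈ Subgroup.normalizer (E : Set Γ) →
      ∀ w : W, (∀ e ∈ E, ρ e w = w) → w = 0) :
    ∀ a ∈ Q, ∀ b ∈ Q, a * b = b * a := by
  by_contra hcon
  push Not at hcon
  obtain ⟨hσW, hCZ, hCinv, hder, x₀, hx₀Q, hx₀⟩ :=
    structure_of_sigma_centralizes_center ρ h hfix Q hQ hqk hq2 hq3 hσQ hτQ hfaith hCQ hmin hZσ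
      hIrr hcon
  obtain ⟨e1, e2, e3, e4, e5, e6⟩ := h.elts
  have hσQ' : ∀ x ∈ Q, σ * x * σ⁻¹ ∈ Q := fun x hx => conj_mem_of_mem_normalizer' hσQ hx
  have hτQ' : ∀ x ∈ Q, τ * x * τ⁻¹ ∈ Q := fun x hx => conj_mem_of_mem_normalizer' hτQ hx
  obtain ⟨x, hxQ, hxσ, hxq⟩ := exists_not_fixed_pow_fixed Q hQ σ x₀ hx₀Q hx₀
  have hq5 : Odd q := hq.out.odd_of_ne_two hq2
  -- the elements `y`, `z`
  have hbQ : σ * x⁻¹ * σ⁻¹ ∈ Q := hσQ' _ (Q.inv_mem hxQ)
  -- `y ^ q = 1`
  have hyq : (x * (σ * x⁻¹ * σ⁻¹)) ^ q = 1 := by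
    set b := σ * x⁻¹ * σ⁻¹ with hb
    set d := b⁻¹ * x⁻¹ * b * x with hd
    have hdQ : d ∈ Q := Q.mul_mem (Q.mul_mem (Q.mul_mem (Q.inv_mem hbQ) (Q.inv_mem hxQ)) hbQ) hxQ
    have hdσ : σ * d * σ⁻¹ = d := by
      have := hder b⁻¹ (Q.inv_mem hbQ) x⁻¹ (Q.inv_mem hxQ)
      rwa [inv_inv, inv_inv] at this
    have hdc := hCZ d hdQ hdσ
    have hbx : b * x = x * b * d := by rw [hd]; group
    have hbq : b ^ q = (x ^ q)⁻¹ := by
      rw [hb, conj_pow, inv_pow]
      calc σ * (x ^ q)⁻¹ * σ⁻¹ = (σ * x ^ q * σ⁻¹)⁻¹ := by group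
        _ = (x ^ q)⁻¹ := by rw [hxq]
    have hdq : d ^ q = 1 := by
      have h1 := pow_mul_comm_of_central hbx (hdc x hxQ) (hdc b hbQ) q
      rw [hbq] at h1
      have h2 : (x ^ q)⁻¹ * x = x * (x ^ q)⁻¹ := by
        have : Commute (x ^ q)⁻¹ x := ((Commute.refl x).pow_left q).inv_left
        exact this.eq
      rw [h2] at h1
      have h3 : x * (x ^ q)⁻¹ * 1 = x * (x ^ q)⁻¹ * d ^ q := by rw [mul_one]; exact h1
      exact (mul_left_cancel h3).symm
    rw [mul_pow_of_central hbx (hdc x hxQ) (hdc b hbQ) q, hbq]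
    obtain ⟨r, hr⟩ := hq5
    have hexp : q * (q - 1) / 2 = q * r := by
      have : q - 1 = 2 * r := by omega
      rw [this, ← mul_assoc, mul_comm q 2, mul_assoc, Nat.mul_div_cancel_left _ (by norm_num)]
    rw [hexp, pow_mul, hdq, one_pow, mul_one, mul_inv_cancel]
  generalize hy : x * (σ * x⁻¹ * σ⁻¹) = y at hyq
  have hyQ : y ∈ Q := by rw [← hy]; exact Q.mul_mem hxQ hbQ
  obtain ⟨z, hz⟩ : ∃ z, z = σ * y * σ⁻¹ := ⟨_, rfl⟩
  have hzQ : z ∈ Q := by rw [hz]; exact hσQ' y hyQ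
  -- `y z (σ z σ⁻¹) = 1`
  have hyz : y * z * (σ * z * σ⁻¹) = 1 := by
    rw [hz, ← hy]
    calc x * (σ * x⁻¹ * σ⁻¹) * (σ * (x * (σ * x⁻¹ * σ⁻¹)) * σ⁻¹)
          * (σ * (σ * (x * (σ * x⁻¹ * σ⁻¹)) * σ⁻¹) * σ⁻¹)
        = x * (σ * (σ * σ)) * x⁻¹ * (σ * (σ * σ))⁻¹ := by group
      _ = 1 := by rw [e1]; group
  -- `σ` does not fix `y`
  have hyσ : z ≠ y := by
    intro hzy
    have hy3 : y ^ 3 = 1 := by
      have h1 : σ * z * σ⁻¹ = y := by rw [hzy, ← hz, hzy]
      rw [h1, hzy] at hyz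
      rw [pow_succ, pow_two]; exact hyz
    have hy1 : y = 1 := by
      have hcop : Nat.Coprime 3 q := by
        rw [Nat.coprime_primes Nat.prime_three hq.out]
        exact fun h3 => hq3 h3.symm
      have h7 : orderOf y ∣ 3 := orderOf_dvd_of_pow_eq_one hy3
      have h8 : orderOf y ∣ q := orderOf_dvd_of_pow_eq_one hyq
      have h9 : orderOf y ∣ 1 := by
        have := Nat.dvd_gcd h7 h8
        rwa [hcop] at this
      exact orderOf_eq_one_iff.1 (Nat.dvd_one.1 h9)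
    apply hxσ
    rw [hy1] at hy
    calc σ * x * σ⁻¹ = (x * (σ * x⁻¹ * σ⁻¹))⁻¹ * x := by group
      _ = x := by rw [hy]; group
  -- the commutator `c`
  obtain ⟨c, hc⟩ : ∃ c, c = y⁻¹ * z⁻¹ * y * z := ⟨_, rfl⟩
  have hcQ : c ∈ Q := by
    rw [hc]
    exact Q.mul_mem (Q.mul_mem (Q.mul_mem (Q.inv_mem hyQ) (Q.inv_mem hzQ)) hyQ) hzQ
  have hcσ : σ * c * σ⁻¹ = c := by
    have := hder y⁻¹ (Q.inv_mem hyQ) z⁻¹ (Q.inv_mem hzQ)
    rw [inv_inv, inv_inv] at this
    rw [hc]; exact this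
  have hcc := hCZ c hcQ hcσ
  have hyzc : y * z = z * y * c := by rw [hc]; group
  have hzyc : z * y = y * z * c⁻¹ := by rw [hc]; group
  -- the invariant abelian subgroups have cardinality prime to the characteristic
  have hroots : ∀ E : Subgroup Γ, E ≤ Q →
      (Fintype.card E : k) ≠ 0 ∧ HasEnoughRootsOfUnity k (Monoid.exponent E) := by
    intro E hEQ
    have hEp : IsPGroup q E := hQ.to_le hEQ
    exact ⟨card_cast_ne_zero_of_isPGroup hqk E hEp,
      hasEnoughRootsOfUnity_of_isPGroup (k := k) hqk E hEp⟩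
  -- `c ≠ 1`
  have hc1 : c ≠ 1 := by
    intro hc1
    rw [hc1, mul_one] at hyzc
    let B : Subgroup Γ := Subgroup.closure {y, z}
    have hBQ : B ≤ Q := by
      rw [Subgroup.closure_le]
      intro g hg
      rcases hg with rfl | rfl
      · exact hyQ
      · exact hzQ
    have hBc : ∀ a ∈ B, ∀ b ∈ B, a * b = b * a := by
      have : IsMulCommutative B := by
        apply Subgroup.isMulCommutative_closure
        intro a ha b hb
        rcases ha with rfl | rfl <;> rcases hb with rfl | rfl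
        · rfl
        · exact hyzc
        · exact hyzc.symm
        · rfl
      intro a ha b hb
      exact setLike_mul_comm ha hb
    have hyB : y ∈ B := Subgroup.subset_closure (by simp)
    have hzB : z ∈ B := Subgroup.subset_closure (by simp)
    have hσB : σ ∈ Subgroup.normalizer (B : Set Γ) := by
      apply mem_normalizer_of_conj_mem
      intro g hg
      induction hg using Subgroup.closure_induction with
      | mem g hg =>
        rcases hg with hg | hg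
        · rw [hg, ← hz]; exact hzB
        · have hg' : g = z := hg
          have : σ * z * σ⁻¹ = (y * z)⁻¹ := eq_inv_of_mul_eq_one_right hyz
          rw [hg', this]
          exact B.inv_mem (B.mul_mem hyB hzB)
      | one =>
        have : σ * 1 * σ⁻¹ = 1 := by group
        rw [this]; exact B.one_mem
      | mul a b _ _ ha hb =>
        have : σ * (a * b) * σ⁻¹ = (σ * a * σ⁻¹) * (σ * b * σ⁻¹) := by group
        rw [this]; exact B.mul_mem ha hb
      | inv a _ ha =>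
        have : σ * a⁻¹ * σ⁻¹ = (σ * a * σ⁻¹)⁻¹ := by group
        rw [this]; exact B.inv_mem ha
    obtain ⟨hBk, hBr⟩ := hroots B hBQ
    haveI := hBr
    have := sigma_centralizes_of_abelian ρ e1 hσW B hBc hσB hBk (fun x hx => hfaith x (hBQ hx))
      y hyB
    exact hyσ (hz.trans this)
  -- `c` has no fixed vectors
  have hcW : ∀ w : W, ρ c w = w → w = 0 := by
    intro w hw
    let E : Subgroup Γ := Subgroup.zpowers c
    have hEfix : E ≤ fixSub Q σ := by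
      rw [Subgroup.zpowers_le]
      exact ⟨hcQ, hcσ⟩
    have hEQ : E ≤ Q := fun e he => (hEfix he).1
    have hEne : E ≠ ⊥ := by
      intro hbot
      apply hc1
      have : c ∈ E := Subgroup.mem_zpowers c
      rw [hbot, Subgroup.mem_bot] at this
      exact this
    have hEn : ∀ g ∈ Q, ∀ e ∈ E, g * e * g⁻¹ ∈ E := by
      intro g hg e he
      have h1 := hCZ e (hEfix he).1 (hEfix he).2 g hg
      have : g * e * g⁻¹ = e := by rw [← h1]; group
      rw [this]; exact he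
    have hσE : σ ∈ Subgroup.normalizer (E : Set Γ) := by
      apply mem_normalizer_of_conj_mem
      intro e he
      rw [(hEfix he).2]; exact he
    have hτE : τ ∈ Subgroup.normalizer (E : Set Γ) := by
      apply mem_normalizer_of_conj_mem
      intro e he
      rw [hCinv e (hEfix he).1 (hEfix he).2]; exact E.inv_mem he
    apply hIrr E hEQ hEne hEn hσE hτE w
    have hEw : E ≤ vecStab ρ w := by
      rw [Subgroup.zpowers_le]
      exact hw
    exact fun e he => hEw he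
  -- `y` has no fixed vectors
  have hyW : ∀ w : W, ρ y w = w → w = 0 := by
    intro w hw
    have h1 : ρ y (ρ σ w) = ρ σ w := by
      have := sigma_stable_fixed ρ e1 hσW x w (by rw [hy]; exact hw)
      rwa [hy] at this
    have h2 : ρ y (ρ σ (ρ σ w)) = ρ σ (ρ σ w) := by
      have := sigma_stable_fixed ρ e1 hσW x (ρ σ w) (by rw [hy]; exact h1)
      rwa [hy] at this
    -- `z` fixes `w`
    have h3 : ρ z w = w := by
      have hw3 : w = ρ σ (ρ σ (ρ σ w)) := by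
        rw [rho_rho, rho_rho, mul_assoc, e1, map_one, Module.End.one_apply]
      have : ρ z w = ρ σ (ρ y (ρ σ (ρ σ w))) := by
        rw [rho_rho, rho_rho, rho_rho, hz]
        congr 2
        calc σ * y * σ⁻¹ = σ * y * σ⁻¹ * (σ * (σ * σ)) := by rw [e1, mul_one]
          _ = σ * y * σ * σ := by group
      rw [this, h2]
      exact hw3.symm
    apply hcW
    have hyi : ρ y⁻¹ w = w := (vecStab ρ w).inv_mem hw
    have hzi : ρ z⁻¹ w = w := (vecStab ρ w).inv_mem h3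
    rw [hc, ← rho_rho, ← rho_rho, ← rho_rho, h3, hw, hzi, hyi]
  -- `c ^ q = 1`
  have hcq : c ^ q = 1 := by
    have h1 := pow_mul_comm_of_central hyzc (hcc z hzQ) (hcc y hyQ) q
    rw [hyq, one_mul, mul_one] at h1
    have h2 : z * 1 = z * c ^ q := by rw [mul_one]; exact h1
    exact (mul_left_cancel h2).symm
  -- conjugating `y` by powers of `z`
  have hconj : ∀ m : ℕ, y * z ^ m = z ^ m * y * c ^ m := by
    intro m
    have hci : ∀ g ∈ Q, c⁻¹ * g = g * c⁻¹ := by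
      intro g hg
      have := hcc g hg
      calc c⁻¹ * g = c⁻¹ * (g * c) * c⁻¹ := by group
        _ = c⁻¹ * (c * g) * c⁻¹ := by rw [this]
        _ = g * c⁻¹ := by group
    have h1 := pow_mul_comm_of_central hzyc (hci y hyQ) (hci z hzQ) m
    rw [inv_pow] at h1
    calc y * z ^ m = (y * z ^ m * (c ^ m)⁻¹) * c ^ m := by group
      _ = z ^ m * y * c ^ m := by rw [← h1]
  -- a non-zero vector
  have hW : ∃ w : W, w ≠ 0 := by
    by_contra hW
    push Not at hW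
    apply hc1
    apply hfaith c hcQ
    ext w
    rw [hW w, map_zero, map_zero]
  obtain ⟨w, hw⟩ := hW
  -- weights of `⟨y, c⟩`
  let E : Subgroup Γ := Subgroup.closure {y, c}
  have hEQ : E ≤ Q := by
    rw [Subgroup.closure_le]
    intro g hg
    rcases hg with hg | hg
    · rw [hg]; exact hyQ
    · have hg' : g = c := hg
      rw [hg']; exact hcQ
  have hEc : ∀ a ∈ E, ∀ b ∈ E, a * b = b * a := by
    have : IsMulCommutative E := by
      apply Subgroup.isMulCommutative_closure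
      intro a ha b hb
      rcases ha with rfl | rfl <;> rcases hb with rfl | rfl
      · rfl
      · exact (hcc _ hyQ).symm
      · exact hcc _ hyQ
      · rfl
    intro a ha b hb
    exact setLike_mul_comm ha hb
  have hyE : y ∈ E := Subgroup.subset_closure (by simp)
  have hcE : c ∈ E := Subgroup.subset_closure (by simp)
  obtain ⟨hEk, hEr⟩ := hroots E hEQ
  haveI := hEr
  have hex : ∃ χ : E →* kˣ, wtProj ρ E χ w ≠ 0 := by
    by_contra hno
    push Not at hno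
    exact hw (eq_zero_of_wtProj_eq_zero ρ E hEc hEk w hno)
  obtain ⟨χ, hχ⟩ := hex
  set u := wtProj ρ E χ w with hu
  have huE : u ∈ wtSpace ρ E χ := wtProj_apply_mem ρ E χ w
  obtain ⟨a, ha⟩ : ∃ a : k, a = ((χ ⟨y, hyE⟩ : kˣ) : k) := ⟨_, rfl⟩
  obtain ⟨b, hb⟩ : ∃ b : k, b = ((χ ⟨c, hcE⟩ : kˣ) : k) := ⟨_, rfl⟩
  have hya : ρ y u = a • u := by rw [ha]; exact huE ⟨y, hyE⟩
  have hcb : ρ c u = b • u := by rw [hb]; exact huE ⟨c, hcE⟩
  have haq : a ^ q = 1 := by
    rw [ha, ← Units.val_pow_eq_pow_val, ← map_pow]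
    have : (⟨y, hyE⟩ : E) ^ q = 1 := by
      apply Subtype.ext
      simpa using hyq
    rw [this, map_one, Units.val_one]
  have hbq : b ^ q = 1 := by
    rw [hb, ← Units.val_pow_eq_pow_val, ← map_pow]
    have : (⟨c, hcE⟩ : E) ^ q = 1 := by
      apply Subtype.ext
      simpa using hcq
    rw [this, map_one, Units.val_one]
  have hb1 : b ≠ 1 := by
    intro hb1
    rw [hb1, one_smul] at hcb
    exact hχ (hcW u hcb)
  have hprim : IsPrimitiveRoot b q := IsPrimitiveRoot.iff_orderOf.2 (orderOf_eq_prime hbq hb1)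
  haveI : NeZero q := ⟨hq.out.ne_zero⟩
  obtain ⟨i, hi, hab⟩ := hprim.eq_pow_of_pow_eq_one haq
  -- the vector `z ^ (q - i) u` is fixed by `y`
  have hcm : ∀ m : ℕ, ρ (c ^ m) u = b ^ m • u := by
    intro m
    induction m with
    | zero => simp
    | succ m ih =>
      rw [pow_succ, ← rho_rho, hcb, map_smul, ih, smul_smul, pow_succ, mul_comm]
  have hfixed : ρ y (ρ (z ^ (q - i)) u) = ρ (z ^ (q - i)) u := by
    rw [rho_rho, hconj (q - i), ← rho_rho, ← rho_rho, hcm, map_smul, hya, smul_smul, ← hab,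
      ← pow_add, Nat.sub_add_cancel hi.le, hbq, one_smul]
  exact hχ (rho_eq_zero ρ _ (hyW _ hfixed))

end main

end Cfsg.Agent.Lead.S3F
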