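import Cfsg.Agent.Lead.S3fGp

/-!
S4305: averaging over a group acting on an abelian group.
-/

set_option autoImplicit false
set_option linter.style.haveILetI false

namespace Cfsg.Agent.Lead.S3F

open scoped BigOperators IsMulCommutative
open Classical

variable {Γ : Type*} [Group Γ] [Fintype Γ]

/-- conjugation by a normalising element, as an endomorphism of `N`. -/
def conjHom (N : Subgroup Γ) (g : Γ) (hg : g ∈ Subgroup.normalizer (N : Set Γ)) : N →* N where
  toFun n := ⟨g * (n : Γ) * g⁻¹, conj_mem_of_mem_normalizer' hg n.2⟩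
  map_one' := by apply Subtype.ext; simp
  map_mul' a b := by apply Subtype.ext; simp [mul_assoc]

omit [Fintype Γ] in
@[simp] theorem conjHom_coe (N : Subgroup Γ) (g : Γ) (hg : g ∈ Subgroup.normalizer (N : Set Γ))
    (n : N) : ((conjHom N g hg n : N) : Γ) = g * (n : Γ) * g⁻¹ := rfl

variable (N L : Subgroup Γ) [IsMulCommutative N] (hLN : L ≤ Subgroup.normalizer (N : Set Γ))

/-- the product of the `L`-conjugates of `n`. -/
noncomputable def avg (n : N) : N := ∏ l : L, conjHom N (l : Γ) (hLN l.2) n

theorem avg_mul (a b : N) : avg N L hLN (a * b) = avg N L hLN a * avg N L hLN b := by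
  unfold avg
  rw [← Finset.prod_mul_distrib]
  apply Finset.prod_congr rfl
  intro l _
  rw [map_mul]

theorem avg_one : avg N L hLN 1 = 1 := by
  unfold avg
  apply Finset.prod_eq_one
  intro l _
  rw [map_one]

/-- the average is fixed by `L`. -/
theorem conj_avg (x : Γ) (hx : x ∈ L) (n : N) :
    x * (avg N L hLN n : Γ) * x⁻¹ = (avg N L hLN n : Γ) := by
  have h1 : conjHom N x (hLN hx) (avg N L hLN n) = avg N L hLN n := by
    unfold avg
    rw [map_prod]
    rw [← Equiv.prod_comp (Equiv.mulLeft (⟨x, hx⟩ : L))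
      (fun l : L => conjHom N (l : Γ) (hLN l.2) n)]
    apply Finset.prod_congr rfl
    intro l _
    apply Subtype.ext
    simp [mul_assoc]
  exact congrArg Subtype.val h1

/-- the average does not change under `L`-conjugation of the argument. -/
theorem avg_conj (x : Γ) (hx : x ∈ L) (n : N) :
    avg N L hLN (conjHom N x (hLN hx) n) = avg N L hLN n := by
  unfold avg
  rw [← Equiv.prod_comp (Equiv.mulRight (⟨x, hx⟩ : L)⁻¹)
    (fun l : L => conjHom N (l : Γ) (hLN l.2) (conjHom N x (hLN hx) n))]
  apply Finset.prod_congr rfl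
  intro l _
  apply Subtype.ext
  simp [mul_assoc]

/-- on fixed points the average is a power. -/
theorem avg_of_fixed (n : N) (hn : ∀ l ∈ L, l * (n : Γ) = (n : Γ) * l) :
    avg N L hLN n = n ^ Fintype.card L := by
  unfold avg
  have h1 : ∀ l : L, conjHom N (l : Γ) (hLN l.2) n = n := by
    intro l
    apply Subtype.ext
    rw [conjHom_coe, hn l l.2]
    group
  rw [Finset.prod_congr rfl (fun l _ => h1 l), Finset.prod_const, Finset.card_univ]

/-- the average stays in invariant subgroups. -/
theorem avg_mem (X : Subgroup Γ) (hLX : L ≤ Subgroup.normalizer (X : Set Γ)) (n : N)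
    (hn : (n : Γ) ∈ X) : (avg N L hLN n : Γ) ∈ X := by
  have h1 : avg N L hLN n ∈ X.subgroupOf N := by
    unfold avg
    apply Subgroup.prod_mem
    intro l _
    rw [Subgroup.mem_subgroupOf, conjHom_coe]
    exact conj_mem_of_mem_normalizer' (hLX l.2) hn
  exact h1

/-- characters fixed by `L` take the average to a power. -/
theorem char_avg {M : Type*} [CommGroup M] (χ : N →* M)
    (hχ : ∀ l (hl : l ∈ L) (n : N), χ (conjHom N l (hLN hl) n) = χ n) (n : N) :
    χ (avg N L hLN n) = χ n ^ Fintype.card L := by
  unfold avg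
  have h1 : ∀ l : L, χ (conjHom N (l : Γ) (hLN l.2) n) = χ n := fun l => hχ (l : Γ) l.2 n
  rw [map_prod, Finset.prod_congr rfl (fun l _ => h1 l), Finset.prod_const, Finset.card_univ]

/-- equivariance of the average. -/
theorem conj_avg_equivariant (a : Γ) (haN : a ∈ Subgroup.normalizer (N : Set Γ))
    (haL : a ∈ Subgroup.normalizer (L : Set Γ)) (n : N) :
    conjHom N a haN (avg N L hLN n) = avg N L hLN (conjHom N a haN n) := by
  unfold avg
  rw [map_prod]
  let e : L ≃ L :=
    { toFun := fun l => ⟨a * (l : Γ) * a⁻¹, conj_mem_of_mem_normalizer' haL l.2⟩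
      invFun := fun l => ⟨a⁻¹ * (l : Γ) * a, by
        have := conj_mem_of_mem_normalizer' (Subgroup.inv_mem _ haL) l.2
        simpa using this⟩
      left_inv := fun l => by apply Subtype.ext; simp [mul_assoc]
      right_inv := fun l => by apply Subtype.ext; simp [mul_assoc] }
  rw [← Equiv.prod_comp e (fun l : L => conjHom N (l : Γ) (hLN l.2) (conjHom N a haN n))]
  apply Finset.prod_congr rfl
  intro l _
  apply Subtype.ext
  simp [e, mul_assoc]

end Cfsg.Agent.Lead.S3F
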