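import Cfsg.Agent.Lead.S3fA1
import Cfsg.Agent.Lead.S3fA3
import Cfsg.Agent.Lead.S3fB2
import Cfsg.Agent.Lead.S3fB3
import Cfsg.Agent.Lead.S3fAv

/-!
S4305, case (b): an abelian group `R` acting on an abelian group `N`.
-/

set_option autoImplicit false
set_option linter.style.haveILetI false
set_option linter.unusedSectionVars false

namespace Cfsg.Agent.Lead.S3F

open scoped BigOperators IsMulCommutative
open Classical

variable {k : Type*} [Field k] {Γ : Type*} [Group Γ] [Fintype Γ]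
  {W : Type*} [AddCommGroup W] [Module k W] (ρ : Representation k Γ W)

omit [Fintype Γ] in
/-- a character stabilised by an involution which inverts `c` has `χ c ^ 2 = 1`. -/
theorem char_sq_of_inverts (N : Subgroup Γ) (χ : N →* kˣ) {b c : Γ} (hb : b ∈ charStab N χ)
    (hbb : b * b = 1) (hc : c ∈ N) (hinv : b * c * b⁻¹ = c⁻¹) : χ ⟨c, hc⟩ ^ 2 = 1 := by
  have hbi : b⁻¹ = b := inv_eq_of_mul_eq_one_left hbb
  have h1 : b⁻¹ * c * b = c⁻¹ := by
    calc b⁻¹ * c * b = b * c * b⁻¹ := by rw [hbi]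
      _ = c⁻¹ := hinv
  have hn' : b⁻¹ * c * b ∈ N := by rw [h1]; exact N.inv_mem hc
  have h2 := apply_conj_of_mem_charStab N hb ⟨c, hc⟩ hn'
  have h3 : (⟨b⁻¹ * c * b, hn'⟩ : N) = (⟨c, hc⟩ : N)⁻¹ := Subtype.ext h1
  rw [h3, map_inv] at h2
  rw [pow_two]
  calc χ ⟨c, hc⟩ * χ ⟨c, hc⟩ = (χ ⟨c, hc⟩)⁻¹ * χ ⟨c, hc⟩ := by rw [h2]
    _ = 1 := inv_mul_cancel _

/-- the data attached to a reflection. -/
structure ReflData (N R : Subgroup Γ) (σ t : Γ) : Prop where
  rel : S3Rel σ t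
  nN : t ∈ Subgroup.normalizer (N : Set Γ)
  nR : t ∈ Subgroup.normalizer (R : Set Γ)
  cN : ∀ n ∈ N, σ * n * σ⁻¹ = n → t * n * t⁻¹ = n → n = 1
  cR : ∀ x ∈ R, σ * x * σ⁻¹ = x → t * x * t⁻¹ = x → x = 1
  rmin : ∀ R₀ : Subgroup Γ, R₀ ≤ R → R₀ ≠ R → σ ∈ Subgroup.normalizer (R₀ : Set Γ) →
    t ∈ Subgroup.normalizer (R₀ : Set Γ) → ∀ x ∈ R₀, ∀ n ∈ N, x * n = n * x

omit [Fintype Γ] in
theorem ReflData.mul_left {N R : Subgroup Γ} {σ t : Γ} (d : ReflData N R σ t)
    (hσN : σ ∈ Subgroup.normalizer (N : Set Γ)) (hσR : σ ∈ Subgroup.normalizer (R : Set Γ)) :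
    ReflData N R σ (σ * t) where
  rel := d.rel.mul_left
  nN := Subgroup.mul_mem _ hσN d.nN
  nR := Subgroup.mul_mem _ hσR d.nR
  cN := by
    intro n hn h1 h2
    apply d.cN n hn h1
    calc t * n * t⁻¹ = σ⁻¹ * ((σ * t) * n * (σ * t)⁻¹) * σ := by group
      _ = σ⁻¹ * n * σ := by rw [h2]
      _ = σ⁻¹ * (σ * n * σ⁻¹) * σ := by rw [h1]
      _ = n := by group
  cR := by
    intro n hn h1 h2
    apply d.cR n hn h1
    calc t * n * t⁻¹ = σ⁻¹ * ((σ * t) * n * (σ * t)⁻¹) * σ := by group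
      _ = σ⁻¹ * n * σ := by rw [h2]
      _ = σ⁻¹ * (σ * n * σ⁻¹) * σ := by rw [h1]
      _ = n := by group
  rmin := by
    intro R₀ h1 h2 h3 h4
    apply d.rmin R₀ h1 h2 h3
    have : t = σ⁻¹ * (σ * t) := by group
    rw [this]
    exact Subgroup.mul_mem _ (Subgroup.inv_mem _ h3) h4

omit [Fintype Γ] in
/-- reflections normalise the fixed points of `σ`. -/
theorem conj_mem_fixSub {σ t : Γ} (h : S3Rel σ t) (Q : Subgroup Γ)
    (htQ : t ∈ Subgroup.normalizer (Q : Set Γ)) {x : Γ} (hx : x ∈ fixSub Q σ) :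
    t * x * t⁻¹ ∈ fixSub Q σ := by
  obtain ⟨hx, hx'⟩ := hx
  refine ⟨conj_mem_of_mem_normalizer' htQ hx, ?_⟩
  have hst : σ * t = t * σ⁻¹ := h.sigma_tau
  have hx'' : σ⁻¹ * x * σ = x := by
    calc σ⁻¹ * x * σ = σ⁻¹ * (σ * x * σ⁻¹) * σ := by rw [hx']
      _ = x := by group
  calc σ * (t * x * t⁻¹) * σ⁻¹ = (σ * t) * x * (σ * t)⁻¹ := by group
    _ = (t * σ⁻¹) * x * (t * σ⁻¹)⁻¹ := by rw [hst]
    _ = t * (σ⁻¹ * x * σ) * t⁻¹ := by group
    _ = t * x * t⁻¹ := by rw [hx'']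

/-- a reflection stabilising `χ` forces `χ` to be trivial on the fixed points of `σ`. -/
theorem char_fix_eq_one (N R : Subgroup Γ) {σ t : Γ} (d : ReflData N R σ t)
    (hN2 : (Nat.card N).Coprime 2) (χ : N →* kˣ) (ht : t ∈ charStab N χ)
    (e : Γ) (he : e ∈ N) (heσ : σ * e * σ⁻¹ = e) : χ ⟨e, he⟩ = 1 := by
  have htt : t * t = 1 := d.rel.elts.2.1
  have hinv := inverts_of_fpf (fixSub N σ) t htt
    (fun x hx => conj_mem_fixSub d.rel N d.nN hx)
    (fun x hx hxt => d.cN x hx.1 hx.2 hxt)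
  have h1 := char_sq_of_inverts N χ ht htt he (hinv e ⟨he, heσ⟩)
  exact apply_eq_one_of_pow_eq_one N χ ⟨e, he⟩ hN2 h1

/-- type D: a reflection cannot carry the stabiliser of a non-trivial character. -/
theorem false_of_refl_D (N R : Subgroup Γ) [IsMulCommutative N] {σ t : Γ} (d : ReflData N R σ t)
    (hRc : ∀ a ∈ R, ∀ b ∈ R, a * b = b * a)
    (hN2 : (Nat.card N).Coprime 2) {r : ℕ} [hr : Fact r.Prime] (hR : IsPGroup r R) (hr3 : r ≠ 3)
    (hNr : (Nat.card N).Coprime r)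
    (hσN : σ ∈ Subgroup.normalizer (N : Set Γ)) (hσR : σ ∈ Subgroup.normalizer (R : Set Γ))
    (hRN : R ≤ Subgroup.normalizer (N : Set Γ))
    (hD : ∀ x ∈ R, σ * x * σ⁻¹ = x → ∀ n ∈ N, x * n = n * x)
    (hRne : ∃ x ∈ R, ∃ n ∈ N, x * n ≠ n * x)
    (hCNR : ∀ n ∈ N, (∀ x ∈ R, x * n = n * x) → n = 1)
    (χ : N →* kˣ) (hχne : ∃ n : N, χ n ≠ 1)
    (x : Γ) (hx : x ∈ R) (hb : x⁻¹ * t * x ∈ charStab N χ)
    (hpsi : ∀ z ∈ R, psi t z ∈ charStab N χ) : False := by
  have hNc : ∀ a ∈ N, ∀ b ∈ N, a * b = b * a := fun a ha b hb =>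
    congrArg Subtype.val (mul_comm (⟨a, ha⟩ : N) ⟨b, hb⟩)
  have htt : t * t = 1 := d.rel.elts.2.1
  obtain ⟨b, hbdef⟩ : ∃ b, b = x⁻¹ * t * x := ⟨_, rfl⟩
  rw [← hbdef] at hb
  have hbb : b * b = 1 := by
    rw [hbdef]
    calc x⁻¹ * t * x * (x⁻¹ * t * x) = x⁻¹ * (t * t) * x := by group
      _ = 1 := by rw [htt]; group
  have hbN : b ∈ Subgroup.normalizer (N : Set Γ) := hb.1
  have hxR : x ∈ Subgroup.normalizer (R : Set Γ) := Subgroup.le_normalizer hx
  have hbR : b ∈ Subgroup.normalizer (R : Set Γ) := by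
    rw [hbdef]
    exact Subgroup.mul_mem _ (Subgroup.mul_mem _ (Subgroup.inv_mem _ hxR) d.nR) hxR
  set S := charStab N χ with hS
  set L := S ⊓ R with hL
  have hLR : L ≤ R := inf_le_right
  have hLS : L ≤ S := inf_le_left
  have hLN : L ≤ Subgroup.normalizer (N : Set Γ) := hLR.trans hRN
  have hbL : b ∈ Subgroup.normalizer (L : Set Γ) := by
    apply mem_normalizer_of_conj_mem
    intro l hl
    exact ⟨S.mul_mem (S.mul_mem hb hl.1) (S.inv_mem hb), conj_mem_of_mem_normalizer' hbR hl.2⟩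
  -- `b` has no fixed points on the centraliser of `L` in `N`
  have hfpf : ∀ c ∈ centIn N L, b * c * b⁻¹ = c → c = 1 := by
    rintro c ⟨hc, hcL⟩ hbc
    have hxN := hRN hx
    have hc' : x * c * x⁻¹ ∈ N := conj_mem_of_mem_normalizer' hxN hc
    have hc't : t * (x * c * x⁻¹) * t⁻¹ = x * c * x⁻¹ := by
      calc t * (x * c * x⁻¹) * t⁻¹ = x * ((x⁻¹ * t * x) * c * (x⁻¹ * t * x)⁻¹) * x⁻¹ := by group
        _ = x * c * x⁻¹ := by rw [← hbdef, hbc]
    have hc'L : ∀ z ∈ R, psi t z * (x * c * x⁻¹) = (x * c * x⁻¹) * psi t z := by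
      intro z hz
      have hyR : psi t z ∈ R := psi_t_mem R d.nR hz
      have hyL : psi t z ∈ L := ⟨hpsi z hz, hyR⟩
      have hyc : Commute (psi t z) c := (hcL _ hyL).symm
      have hyx : Commute (psi t z) x := hRc _ hyR x hx
      exact ((hyx.mul_right hyc).mul_right hyx.inv_right).eq
    have h1 := eq_one_of_refl_fixed N R d.rel hNc hRc hσN d.nN hσR d.nR hRN hR hr3 hD d.rmin hRne
      d.cN hCNR _ hc' hc't hc'L
    calc c = x⁻¹ * (x * c * x⁻¹) * x := by group
      _ = 1 := by rw [h1]; group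
  have hinv := inverts_of_fpf (centIn N L) b hbb
    (fun c hc => conj_mem_centIn N L hbN hbL hc) hfpf
  have hχC : ∀ c (hc : c ∈ N), c ∈ centIn N L → χ ⟨c, hc⟩ = 1 := by
    intro c hc hcL
    have h1 := char_sq_of_inverts N χ hb hbb hc (hinv c hcL)
    exact apply_eq_one_of_pow_eq_one N χ ⟨c, hc⟩ hN2 h1
  -- averaging
  obtain ⟨n, hn⟩ := hχne
  apply hn
  have havg : χ (avg N L hLN n) = χ n ^ Fintype.card L := by
    apply char_avg N L hLN χ
    intro l hl m
    have hli : l⁻¹ ∈ S := S.inv_mem (hLS hl)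
    have hm' : l⁻¹⁻¹ * (m : Γ) * l⁻¹ ∈ N := by
      rw [inv_inv]; exact conj_mem_of_mem_normalizer' (hLN hl) m.2
    have h2 := apply_conj_of_mem_charStab N hli m hm'
    rw [← h2]
    congr 1
    apply Subtype.ext
    simp
  have hmem : ((avg N L hLN n : N) : Γ) ∈ centIn N L := by
    refine ⟨(avg N L hLN n).2, fun l hl => ?_⟩
    have := conj_avg N L hLN l hl n
    calc ((avg N L hLN n : N) : Γ) * l = (l * ((avg N L hLN n : N) : Γ) * l⁻¹) * l := by rw [this]
      _ = l * ((avg N L hLN n : N) : Γ) := by group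
  have h3 := hχC _ (avg N L hLN n).2 hmem
  have h4 : χ n ^ Fintype.card L = 1 := by
    rw [← havg]; exact h3
  apply apply_eq_one_of_pow_eq_one N χ n _ h4
  -- `|L|` is a power of `r`
  obtain ⟨j, hj⟩ := IsPGroup.iff_card.1 (hR.to_le hLR)
  rw [← Nat.card_eq_fintype_card, hj]
  exact Nat.Coprime.pow_right _ hNr

theorem mem_normalizer_sup {X Y : Subgroup Γ} {g : Γ}
    (hX : g ∈ Subgroup.normalizer (X : Set Γ)) (hY : g ∈ Subgroup.normalizer (Y : Set Γ)) :
    g ∈ Subgroup.normalizer ((X ⊔ Y : Subgroup Γ) : Set Γ) := by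
  apply mem_normalizer_of_conj_mem
  intro z hz
  have hle : (X ⊔ Y).map (MulAut.conj g).toMonoidHom ≤ X ⊔ Y := by
    rw [Subgroup.map_sup]
    apply sup_le_sup
    · rintro _ ⟨x, hx, rfl⟩
      exact conj_mem_of_mem_normalizer' hX hx
    · rintro _ ⟨x, hx, rfl⟩
      exact conj_mem_of_mem_normalizer' hY hx
  exact hle ⟨z, hz, rfl⟩

/-- an element of `C_R(σ)` whose `psi` under a reflection lies in `S` lies in `S`. -/
theorem mem_of_psi_refl (N R : Subgroup Γ) {σ t : Γ} (d : ReflData N R σ t) {r : ℕ}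
    [hr : Fact r.Prime] (hR : IsPGroup r R) (hr2 : r ≠ 2) (S : Subgroup Γ) {z : Γ}
    (hz : z ∈ fixSub R σ) (hpsi : psi t z ∈ S) : z ∈ S := by
  have htt : t * t = 1 := d.rel.elts.2.1
  have hti : t⁻¹ = t := inv_eq_of_mul_eq_one_left htt
  have hinv := inverts_of_fpf (fixSub R σ) t htt
    (fun x hx => conj_mem_fixSub d.rel R d.nR hx)
    (fun x hx hxt => d.cR x hx.1 hx.2 hxt)
  have h1 : t * z⁻¹ * t⁻¹ = z := by
    have := hinv z⁻¹ ((fixSub R σ).inv_mem hz)
    rwa [inv_inv] at this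
  have h2 : psi t z = z ^ 2 := by
    unfold psi
    rw [pow_two]
    congr 1
    calc t⁻¹ * z⁻¹ * t = t * z⁻¹ * t⁻¹ := by rw [hti]
      _ = z := h1
  rw [h2] at hpsi
  apply mem_of_pow_mem_of_coprime S _ hpsi
  obtain ⟨n, hn⟩ := hR ⟨z, hz.1⟩
  have hn' : z ^ (r ^ n) = 1 := by
    have := congrArg Subtype.val hn
    simpa using this
  have hdvd : orderOf z ∣ r ^ n := orderOf_dvd_of_pow_eq_one hn'
  have hcop : Nat.Coprime (r ^ n) 2 := by
    apply Nat.Coprime.pow_left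
    rw [Nat.coprime_primes hr.out Nat.prime_two]
    exact hr2
  exact Nat.Coprime.coprime_dvd_left hdvd hcop

/-- **Case (b)**: the minimal configuration with `N` and `R` abelian is impossible. -/
theorem false_of_abelian_pair {σ τ : Γ} (h : S3Rel σ τ) (hfix : NoFix ρ σ τ)
    (N R : Subgroup Γ) [IsMulCommutative N]
    (hRc : ∀ a ∈ R, ∀ b ∈ R, a * b = b * a)
    (hNk : (Fintype.card N : k) ≠ 0) [HasEnoughRootsOfUnity k (Monoid.exponent N)]
    (hN6 : (Nat.card N).Coprime 6)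
    {r : ℕ} [hr : Fact r.Prime] (hR : IsPGroup r R) (hr2 : r ≠ 2) (hr3 : r ≠ 3)
    (hNr : (Nat.card N).Coprime r)
    (hσN : σ ∈ Subgroup.normalizer (N : Set Γ)) (hτN : τ ∈ Subgroup.normalizer (N : Set Γ))
    (hσR : σ ∈ Subgroup.normalizer (R : Set Γ)) (hτR : τ ∈ Subgroup.normalizer (R : Set Γ))
    (hRN : R ≤ Subgroup.normalizer (N : Set Γ))
    (hfaith : ∀ n ∈ N, ρ n = 1 → n = 1)
    (hCN : ∀ n ∈ N, σ * n * σ⁻¹ = n → τ * n * τ⁻¹ = n → n = 1)
    (hCR : ∀ x ∈ R, σ * x * σ⁻¹ = x → τ * x * τ⁻¹ = x → x = 1)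
    (hπ : ∀ n : N, avg N R hRN n = 1)
    (hRmin : ∀ R₀ : Subgroup Γ, R₀ ≤ R → R₀ ≠ R → σ ∈ Subgroup.normalizer (R₀ : Set Γ) →
      τ ∈ Subgroup.normalizer (R₀ : Set Γ) → ∀ x ∈ R₀, ∀ n ∈ N, x * n = n * x)
    (hRne : ∃ x ∈ R, ∃ n ∈ N, x * n ≠ n * x)
    (hIrr : ∀ E : Subgroup Γ, E ≤ N → E ≠ ⊥ → R ≤ Subgroup.normalizer (E : Set Γ) →
      σ ∈ Subgroup.normalizer (E : Set Γ) → τ ∈ Subgroup.normalizer (E : Set Γ) →
      ∀ w : W, (∀ e ∈ E, ρ e w = w) → w = 0) : False := by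
  have hNc : ∀ a ∈ N, ∀ b ∈ N, a * b = b * a := fun a ha b hb =>
    congrArg Subtype.val (mul_comm (⟨a, ha⟩ : N) ⟨b, hb⟩)
  obtain ⟨e1, e2, e3, e4, e5, e6⟩ := h.elts
  have hN2 : (Nat.card N).Coprime 2 := Nat.Coprime.coprime_dvd_right (by norm_num) hN6
  have hN3 : (Nat.card N).Coprime 3 := Nat.Coprime.coprime_dvd_right (by norm_num) hN6
  have hNne : N ≠ ⊥ := by
    obtain ⟨x, _, n, hn, hxn⟩ := hRne
    intro hbot
    rw [hbot, Subgroup.mem_bot] at hn
    apply hxn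
    rw [hn]; simp
  have hCW := hIrr N le_rfl hNne hRN hσN hτN
  -- the three reflections
  have d0 : ReflData N R σ τ := ⟨h, hτN, hτR, hCN, hCR, hRmin⟩
  have d1 : ReflData N R σ (σ * τ) := d0.mul_left hσN hσR
  have d2 : ReflData N R σ (σ * σ * τ) := by
    have := d1.mul_left hσN hσR
    rwa [← mul_assoc] at this
  -- `|R|` is prime to `|N|`
  have hcardR : ∀ L : Subgroup Γ, L ≤ R → (Nat.card N).Coprime (Fintype.card L) := by
    intro L hL
    obtain ⟨j, hj⟩ := IsPGroup.iff_card.1 (hR.to_le hL)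
    rw [← Nat.card_eq_fintype_card, hj]
    exact Nat.Coprime.pow_right _ hNr
  -- `C_N(R) = 1`
  have hCNR : ∀ n ∈ N, (∀ x ∈ R, x * n = n * x) → n = 1 := by
    intro n hn hnR
    have h1 := avg_of_fixed N R hRN ⟨n, hn⟩ hnR
    rw [hπ] at h1
    have h2 : n ^ Fintype.card R = 1 := by
      have := congrArg Subtype.val h1
      simpa using this.symm
    have h3 : n ^ Nat.card N = 1 := by
      have h5 : (⟨n, hn⟩ : N) ^ Nat.card N = 1 := pow_card_eq_one'
      have h6 := congrArg Subtype.val h5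
      rw [Subgroup.coe_pow, Subgroup.coe_one] at h6
      exact h6
    have h4 : orderOf n ∣ 1 := by
      have := Nat.dvd_gcd (orderOf_dvd_of_pow_eq_one h3) (orderOf_dvd_of_pow_eq_one h2)
      rwa [hcardR R le_rfl] at this
    exact orderOf_eq_one_iff.1 (Nat.dvd_one.1 h4)
  -- the key property of weights
  have hK := fun χ hχ g hg => exists_conj_mem_charStab ρ N h hfix hNk hσN hτN χ hχ g hg
  have hσiR : ∀ z ∈ R, σ⁻¹ * z * σ ∈ R := fun z hz => by
    have := conj_mem_of_mem_normalizer' (Subgroup.inv_mem _ hσR) hz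
    simpa using this
  have hr5 : 4 < r := by
    have h2 := hr.out.two_le
    have : r ≠ 4 := by
      intro h4
      rw [h4] at hr
      exact absurd hr.out (by norm_num)
    omega
  by_cases hD : ∀ x ∈ R, σ * x * σ⁻¹ = x → ∀ n ∈ N, x * n = n * x
  · -- type D
    obtain ⟨χ, hχ⟩ := exists_isWt ρ N hNc hNk hfaith hNne
    have hχne := exists_apply_ne_one ρ N hCW χ hχ
    let a : Fin 4 → Γ := ![σ, τ, σ * τ, σ * σ * τ]
    have haR : ∀ i, a i ∈ Subgroup.normalizer (R : Set Γ) := by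
      intro i
      fin_cases i
      · exact hσR
      · exact hτR
      · exact d1.nR
      · exact d2.nR
    have ha : ∀ i, ∀ z ∈ R, (a i)⁻¹ * z * a i ∈ R := by
      intro i z hz
      have := conj_mem_of_mem_normalizer' (Subgroup.inv_mem _ (haR i)) hz
      simpa using this
    have hcov : ∀ x ∈ R, ∃ i, x⁻¹ * a i * x ∈ charStab N χ := by
      intro x hx
      rcases hK χ hχ x (hRN hx) with h1 | h1 | h1 | h1
      · exact ⟨0, h1⟩
      · exact ⟨1, h1⟩
      · exact ⟨2, h1⟩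
      · exact ⟨3, h1⟩
    obtain ⟨i, x, hx, hb, hpsi⟩ := exists_cover_witness R hRc hR (by simpa using hr5)
      (charStab N χ) a ha hcov
    have hpsi' : ∀ z ∈ R, psi (a i) z ∈ charStab N χ := by
      intro z hz
      rw [← psi_conj_of_mem R hRc (ha i) hx hz]
      exact hpsi z hz
    fin_cases i
    · -- `σ`
      have hle : R ≤ charStab N χ :=
        le_of_psi_mem R (charStab N χ) hRc e1 hσiR hR hr3
          (fun z hz hzσ => mem_charStab_of_commute N (hD z hz hzσ)) hpsi'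
      obtain ⟨n, hn⟩ := hχne
      apply hn
      have havg : χ (avg N R hRN n) = χ n ^ Fintype.card R := by
        apply char_avg N R hRN χ
        intro l hl m
        have hli : l⁻¹ ∈ charStab N χ := Subgroup.inv_mem _ (hle hl)
        have hm' : l⁻¹⁻¹ * (m : Γ) * l⁻¹ ∈ N := by
          rw [inv_inv]; exact conj_mem_of_mem_normalizer' (hRN hl) m.2
        have h2 := apply_conj_of_mem_charStab N hli m hm'
        rw [← h2]
        congr 1
        apply Subtype.ext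
        simp
      rw [hπ, map_one] at havg
      exact apply_eq_one_of_pow_eq_one N χ n (hcardR R le_rfl) havg.symm
    · exact false_of_refl_D N R d0 hRc hN2 hR hr3 hNr hσN hσR hRN hD hRne hCNR χ hχne x hx hb hpsi'
    · exact false_of_refl_D N R d1 hRc hN2 hR hr3 hNr hσN hσR hRN hD hRne hCNR χ hχne x hx hb hpsi'
    · exact false_of_refl_D N R d2 hRc hN2 hR hr3 hNr hσN hσR hRN hD hRne hCNR χ hχne x hx hb hpsi'
  · -- type S
    push Not at hD
    obtain ⟨x₀, hx₀R, hx₀σ, n₀, hn₀, hx₀n₀⟩ := hD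
    have hRSle : fixSub R σ ⊔ centIn R N ≤ R := sup_le (fun x hx => hx.1) (fun x hx => hx.1)
    have hσfix : ∀ Q : Subgroup Γ, σ ∈ Subgroup.normalizer ((fixSub Q σ : Subgroup Γ) : Set Γ) := by
      intro Q
      apply mem_normalizer_of_conj_mem
      intro x hx
      rw [hx.2]; exact hx
    have hRSeq : fixSub R σ ⊔ centIn R N = R := by
      by_contra hne
      have hσRS : σ ∈ Subgroup.normalizer ((fixSub R σ ⊔ centIn R N : Subgroup Γ) : Set Γ) :=
        mem_normalizer_sup (hσfix R)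
          (mem_normalizer_of_conj_mem _ _ (fun x hx => conj_mem_centIn R N hσR hσN hx))
      have hτRS : τ ∈ Subgroup.normalizer ((fixSub R σ ⊔ centIn R N : Subgroup Γ) : Set Γ) :=
        mem_normalizer_sup
          (mem_normalizer_of_conj_mem _ _ (fun x hx => conj_mem_fixSub h R hτR hx))
          (mem_normalizer_of_conj_mem _ _ (fun x hx => conj_mem_centIn R N hτR hτN hx))
      exact hx₀n₀ (hRmin _ hRSle hne hσRS hτRS x₀ (Subgroup.mem_sup_left ⟨hx₀R, hx₀σ⟩) n₀ hn₀)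
    have hcontra : fixSub R σ ≤ centIn R N → False := by
      intro hle
      have h1 : R ≤ centIn R N := by
        have h0 : fixSub R σ ⊔ centIn R N ≤ centIn R N := sup_le hle le_rfl
        rwa [hRSeq] at h0
      exact hx₀n₀ ((h1 hx₀R).2 n₀ hn₀)
    have hr1 : 3 < r := by omega
    by_cases hE : fixSub N σ = ⊥
    · -- `σ` has no fixed points on `N`
      have hEbot : ∀ n ∈ N, σ * n * σ⁻¹ = n → n = 1 := by
        intro n hn hnσ
        have : n ∈ fixSub N σ := ⟨hn, hnσ⟩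
        rwa [hE, Subgroup.mem_bot] at this
      have hσnot : ∀ χ : N →* kˣ, IsWt ρ N χ → σ ∉ charStab N χ := by
        intro χ hχ hσS
        obtain ⟨n, hn⟩ := exists_apply_ne_one ρ N hCW χ hχ
        apply hn
        have hσiN : ∀ m : N, σ⁻¹ * (m : Γ) * σ ∈ N := fun m => by
          have := conj_mem_of_mem_normalizer' (Subgroup.inv_mem _ hσN) m.2
          simpa using this
        have hb := hσiN n
        have hc := hσiN ⟨_, hb⟩
        have hχb : χ ⟨_, hb⟩ = χ n := apply_conj_of_mem_charStab N hσS n hb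
        have hχc : χ ⟨_, hc⟩ = χ ⟨_, hb⟩ := apply_conj_of_mem_charStab N hσS ⟨_, hb⟩ hc
        have hm : (n : Γ) * (σ⁻¹ * (n : Γ) * σ) * (σ⁻¹ * (σ⁻¹ * (n : Γ) * σ) * σ) = 1 := by
          apply hEbot _ (N.mul_mem (N.mul_mem n.2 hb) hc)
          have h2 : σ * σ = σ⁻¹ := eq_inv_of_mul_eq_one_right e1
          have h4 : σ⁻¹ * σ⁻¹ = σ := by
            have := congrArg (·⁻¹) h2
            simpa using this
          have ea : σ * (n : Γ) * σ⁻¹ = σ⁻¹ * (σ⁻¹ * (n : Γ) * σ) * σ := by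
            calc σ * (n : Γ) * σ⁻¹ = (σ⁻¹ * σ⁻¹) * (n : Γ) * (σ * σ) := by rw [h4, h2]
              _ = σ⁻¹ * (σ⁻¹ * (n : Γ) * σ) * σ := by group
          calc σ * ((n : Γ) * (σ⁻¹ * (n : Γ) * σ) * (σ⁻¹ * (σ⁻¹ * (n : Γ) * σ) * σ)) * σ⁻¹
              = (σ * (n : Γ) * σ⁻¹) * (n : Γ) * (σ⁻¹ * (n : Γ) * σ) := by group
            _ = (σ⁻¹ * (σ⁻¹ * (n : Γ) * σ) * σ) * (n : Γ) * (σ⁻¹ * (n : Γ) * σ) := by rw [ea]
            _ = (n : Γ) * (σ⁻¹ * (n : Γ) * σ) * (σ⁻¹ * (σ⁻¹ * (n : Γ) * σ) * σ) := by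
                rw [hNc _ hc _ n.2, mul_assoc, hNc _ hc _ hb, ← mul_assoc]
        have h3 : χ n ^ 3 = 1 := by
          have h5 : (n * ⟨_, hb⟩ * ⟨_, hc⟩ : N) = 1 := Subtype.ext hm
          have h6 := congrArg χ h5
          rw [map_mul, map_mul, hχc, hχb, map_one] at h6
          rw [pow_succ, pow_two]; exact h6
        exact apply_eq_one_of_pow_eq_one N χ n hN3 h3
      apply hcontra
      intro x hx
      refine ⟨hx.1, ?_⟩
      apply commute_of_forall_mem_charStab ρ N hNc hNk hfaith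
      intro χ hχ
      -- cover `C_R(σ)` by the three reflections
      let a : Fin 3 → Γ := ![τ, σ * τ, σ * σ * τ]
      have hRc' : ∀ a ∈ fixSub R σ, ∀ b ∈ fixSub R σ, a * b = b * a :=
        fun a ha b hb => hRc a ha.1 b hb.1
      have hR' : IsPGroup r (fixSub R σ) := hR.to_le (fun x hx => hx.1)
      have ha : ∀ i, ∀ z ∈ fixSub R σ, (a i)⁻¹ * z * a i ∈ fixSub R σ := by
        intro i z hz
        have key : ∀ t : Γ, S3Rel σ t → t ∈ Subgroup.normalizer (R : Set Γ) →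
            t⁻¹ * z * t ∈ fixSub R σ := by
          intro t ht htR
          have hti : t⁻¹ = t := inv_eq_of_mul_eq_one_left ht.elts.2.1
          have := conj_mem_fixSub ht R htR hz
          rw [hti]
          rwa [hti] at this
        fin_cases i
        · exact key τ h hτR
        · exact key (σ * τ) d1.rel d1.nR
        · exact key (σ * σ * τ) d2.rel d2.nR
      have hcov : ∀ y ∈ fixSub R σ, ∃ i, y⁻¹ * a i * y ∈ charStab N χ := by
        intro y hy
        rcases hK χ hχ y (hRN hy.1) with h1 | h1 | h1 | h1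
        · exfalso
          apply hσnot χ hχ
          have : y⁻¹ * σ * y = σ := by
            calc y⁻¹ * σ * y = y⁻¹ * (σ * y * σ⁻¹) * σ := by group
              _ = σ := by rw [hy.2]; group
          rwa [this] at h1
        · exact ⟨0, h1⟩
        · exact ⟨1, h1⟩
        · exact ⟨2, h1⟩
      obtain ⟨i, y, hy, hb, hpsi⟩ := exists_cover_witness (fixSub R σ) hRc' hR'
        (by simpa using hr1) (charStab N χ) a ha hcov
      have hpsi' : psi (a i) x ∈ charStab N χ := by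
        rw [← psi_conj_of_mem (fixSub R σ) hRc' (ha i) hy hx]
        exact hpsi x hx
      fin_cases i
      · exact mem_of_psi_refl N R d0 hR hr2 _ hx hpsi'
      · exact mem_of_psi_refl N R d1 hR hr2 _ hx hpsi'
      · exact mem_of_psi_refl N R d2 hR hr2 _ hx hpsi'
    · -- `C_N(σ) ≠ 1`
      have hRE : R ≤ Subgroup.normalizer ((fixSub N σ : Subgroup Γ) : Set Γ) := by
        rw [← hRSeq]
        apply sup_le
        · intro x hx
          apply mem_normalizer_of_conj_mem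
          intro e he
          refine ⟨conj_mem_of_mem_normalizer' (hRN hx.1) he.1, ?_⟩
          calc σ * (x * e * x⁻¹) * σ⁻¹ = (σ * x * σ⁻¹) * (σ * e * σ⁻¹) * (σ * x * σ⁻¹)⁻¹ := by group
            _ = x * e * x⁻¹ := by rw [hx.2, he.2]
        · intro x hx
          apply mem_normalizer_of_conj_mem
          intro e he
          have : x * e * x⁻¹ = e := by rw [hx.2 e he.1]; group
          rw [this]; exact he
      have hτE : τ ∈ Subgroup.normalizer ((fixSub N σ : Subgroup Γ) : Set Γ) :=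
        mem_normalizer_of_conj_mem _ _ (fun x hx => conj_mem_fixSub h N hτN hx)
      have hCWE := hIrr (fixSub N σ) (fun x hx => hx.1) hE hRE (hσfix N) hτE
      -- every weight is fixed by `σ`
      have hσS : ∀ χ : N →* kˣ, IsWt ρ N χ → σ ∈ charStab N χ := by
        intro χ hχ
        have key : ∀ t : Γ, ReflData N R σ t → t ∈ charStab N χ → False := by
          intro t d ht
          obtain ⟨u, hu, hu0⟩ := hχ
          apply hu0
          apply hCWE
          intro e he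
          rw [hu ⟨e, he.1⟩, char_fix_eq_one N R d hN2 χ ht e he.1 he.2, Units.val_one, one_smul]
        have hone : ∀ g : Γ, (1 : Γ)⁻¹ * g * 1 = g := fun g => by group
        rcases hK χ hχ 1 (Subgroup.one_mem _) with h1 | h1 | h1 | h1
        · rwa [hone] at h1
        · rw [hone] at h1; exact (key τ d0 h1).elim
        · rw [hone] at h1; exact (key _ d1 h1).elim
        · rw [hone] at h1; exact (key _ d2 h1).elim
      have hσcent : ∀ n ∈ N, σ * n = n * σ :=
        commute_of_forall_mem_charStab ρ N hNc hNk hfaith hσS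
      have hτinvN := inverts_of_fpf N τ e2 (fun n hn => conj_mem_of_mem_normalizer' hτN hn)
        (fun n hn hnτ => hCN n hn (by rw [hσcent n hn]; group) hnτ)
      have hτinvR := inverts_of_fpf (fixSub R σ) τ e2 (fun x hx => conj_mem_fixSub h R hτR hx)
        (fun x hx hxt => hCR x hx.1 hx.2 hxt)
      apply hcontra
      intro x hx
      -- `x * x` centralises `N`
      have hsq : x ^ 2 ∈ centIn R N := by
        rw [pow_two]
        refine ⟨R.mul_mem hx.1 hx.1, fun n hn => ?_⟩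
        have hm : x * n * x⁻¹ ∈ N := conj_mem_of_mem_normalizer' (hRN hx.1) hn
        have h1 := hτinvN _ hm
        have h2 : τ * (x * n * x⁻¹) * τ⁻¹ = x⁻¹ * n⁻¹ * x := by
          calc τ * (x * n * x⁻¹) * τ⁻¹ = (τ * x * τ⁻¹) * (τ * n * τ⁻¹) * (τ * x * τ⁻¹)⁻¹ := by group
            _ = x⁻¹ * n⁻¹ * x := by rw [hτinvR x hx, hτinvN n hn, inv_inv]
        rw [h2] at h1
        -- `x⁻¹ n⁻¹ x = (x n x⁻¹)⁻¹`
        have h3 : x * x * n⁻¹ = n⁻¹ * (x * x) := by
          calc x * x * n⁻¹ = x * (x * n * x⁻¹)⁻¹ * x := by group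
            _ = x * (x⁻¹ * n⁻¹ * x) * x := by rw [h1]
            _ = n⁻¹ * (x * x) := by group
        have h4 : Commute (x * x) n⁻¹ := h3
        have h5 := h4.inv_right
        rw [inv_inv] at h5
        exact h5.eq
      apply mem_of_pow_mem_of_coprime _ _ hsq
      obtain ⟨j, hj⟩ := hR ⟨x, hx.1⟩
      have hj' : x ^ (r ^ j) = 1 := by
        have := congrArg Subtype.val hj
        simpa using this
      have hdvd : orderOf x ∣ r ^ j := orderOf_dvd_of_pow_eq_one hj'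
      have hcop : Nat.Coprime (r ^ j) 2 := by
        apply Nat.Coprime.pow_left
        rw [Nat.coprime_primes hr.out Nat.prime_two]
        exact hr2
      exact Nat.Coprime.coprime_dvd_left hdvd hcop

end Cfsg.Agent.Lead.S3F
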