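import Mathlib

/-!
S4305: the base change of an elementary abelian group to a module over an algebraically
closed field.
-/

set_option autoImplicit false
set_option linter.style.haveILetI false
set_option linter.unusedSectionVars false

namespace Cfsg.Agent.Lead.S3F

open scoped TensorProduct

universe u

/-- the coordinates of a base-changed map. -/
theorem coord_baseChange {F k M ι : Type*} [Field F] [Field k] [Algebra F k] [AddCommGroup M]
    [Module F M] [DecidableEq ι] (ℬ : Module.Basis ι F k) (f : M →ₗ[F] M)
    (w : k ⊗[F] M) (i : ι) :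
    TensorProduct.equivFinsuppOfBasisLeft ℬ (f.baseChange k w) i
      = f (TensorProduct.equivFinsuppOfBasisLeft ℬ w i) := by
  induction w using TensorProduct.induction_on with
  | zero => simp
  | tmul a m => simp
  | add x y hx hy => simp [hx, hy]

/-- the fixed points of a family of base-changed maps. -/
theorem eq_zero_of_baseChange_fixed {F k M : Type*} [Field F] [Field k] [Algebra F k]
    [AddCommGroup M] [Module F M] (S : Set (M →ₗ[F] M))
    (hS : ∀ m : M, (∀ f ∈ S, f m = m) → m = 0)
    (w : k ⊗[F] M) (hw : ∀ f ∈ S, f.baseChange k w = w) : w = 0 := by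
  classical
  obtain ⟨ι, ⟨ℬ⟩⟩ := Module.Basis.exists_basis F k
  apply (TensorProduct.equivFinsuppOfBasisLeft (N := M) ℬ).injective
  rw [map_zero]
  ext i
  rw [Finsupp.zero_apply]
  apply hS
  intro f hf
  rw [← coord_baseChange, hw f hf]

/-- the linearization, for a module structure given in advance. -/
theorem exists_rep_aux (p : ℕ) [hp : Fact p.Prime] (V : Type u) [CommGroup V] [Finite V]
    [Module (ZMod p) (Additive V)] :
    ∃ (k : Type) (_ : Field k) (_ : IsAlgClosed k) (W : Type u) (_ : AddCommGroup W)
      (_ : Module k W) (ρ : Representation k (MulAut V) W),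
      (∀ n : ℕ, n.Coprime p → (n : k) ≠ 0) ∧
      (∀ x : MulAut V, ρ x = 1 → x = 1) ∧
      (∀ S : Set (MulAut V), (∀ v : V, (∀ x ∈ S, x v = v) → v = 1) →
        ∀ w : W, (∀ x ∈ S, ρ x w = w) → w = 0) := by
  let ρ₀ : MulAut V →* Module.End (ZMod p) (Additive V) :=
    { toFun := fun x => (MonoidHom.toAdditive x.toMonoidHom).toZModLinearMap p
      map_one' := by
        refine LinearMap.ext fun v => ?_
        rfl
      map_mul' := by
        intro x y
        refine LinearMap.ext fun v => ?_
        rfl }
  have hρ₀ : ∀ (x : MulAut V) (v : V), ρ₀ x (Additive.ofMul v) = Additive.ofMul (x v) :=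
    fun x v => rfl
  let bc : Module.End (ZMod p) (Additive V) →*
      Module.End (AlgebraicClosure (ZMod p)) (AlgebraicClosure (ZMod p) ⊗[ZMod p] Additive V) :=
    (Module.End.baseChangeHom (ZMod p) (AlgebraicClosure (ZMod p)) (Additive V) :
      Module.End (ZMod p) (Additive V) →ₐ[ZMod p] _)
  have hbc : ∀ f, bc f = f.baseChange (AlgebraicClosure (ZMod p)) := fun f => rfl
  refine ⟨AlgebraicClosure (ZMod p), inferInstance, inferInstance,
    AlgebraicClosure (ZMod p) ⊗[ZMod p] Additive V, inferInstance, inferInstance,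
    bc.comp ρ₀, ?_, ?_, ?_⟩
  · intro n hn h0
    have h2 : ((Nat.gcd n p : ℕ) : AlgebraicClosure (ZMod p)) = 0 := by
      have := (CharP.cast_eq_zero_iff (AlgebraicClosure (ZMod p)) p _).1 h0
      exact (CharP.cast_eq_zero_iff (AlgebraicClosure (ZMod p)) p _).2
        (Nat.dvd_gcd this dvd_rfl)
    rw [hn] at h2
    simp at h2
  · intro x hx
    have h1 : bc (ρ₀ x) = bc 1 := by
      rw [map_one]; exact hx
    have h2 : ρ₀ x = 1 := by
      have hinj := LinearMap.baseChangeHom_injective (ZMod p) (Additive V)
        (AlgebraicClosure (ZMod p)) (N := Additive V)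
      apply hinj
      exact h1
    ext v
    have h3 := hρ₀ x v
    rw [h2] at h3
    exact (Additive.ofMul.injective h3).symm
  · intro S hS w hw
    apply eq_zero_of_baseChange_fixed (F := ZMod p) (k := AlgebraicClosure (ZMod p))
      (ρ₀ '' S) ?_ w ?_
    · intro m hm
      have h1 : m.toMul = 1 := by
        apply hS
        intro x hx
        have := hm (ρ₀ x) ⟨x, hx, rfl⟩
        exact congrArg Additive.toMul this
      exact congrArg Additive.ofMul h1
    · rintro f ⟨x, hx, rfl⟩
      exact hw x hx

/-- **The linearization** of an elementary abelian `p`-group. -/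
theorem exists_rep (p : ℕ) [hp : Fact p.Prime] (V : Type u) [Group V] [Finite V]
    (hcomm : ∀ a b : V, a * b = b * a) (hV : ∀ v : V, v ^ p = 1) :
    ∃ (k : Type) (_ : Field k) (_ : IsAlgClosed k) (W : Type u) (_ : AddCommGroup W)
      (_ : Module k W) (ρ : Representation k (MulAut V) W),
      (∀ n : ℕ, n.Coprime p → (n : k) ≠ 0) ∧
      (∀ x : MulAut V, ρ x = 1 → x = 1) ∧
      (∀ S : Set (MulAut V), (∀ v : V, (∀ x ∈ S, x v = v) → v = 1) →
        ∀ w : W, (∀ x ∈ S, ρ x w = w) → w = 0) := by
  letI : CommGroup V := { (inferInstance : Group V) with mul_comm := hcomm }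
  letI : Module (ZMod p) (Additive V) := AddCommGroup.zmodModule (n := p) (fun x => by
    change Additive.ofMul (x.toMul ^ p) = 0
    rw [hV]; rfl)
  exact exists_rep_aux p V

end Cfsg.Agent.Lead.S3F
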