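import Cfsg.Agent.Lead.S3fOp
import Cfsg.Agent.Lead.S3fGp
import Cfsg.Agent.Helper1.Coprime

/-!
S4305: the group-level configuration and its transfer along homomorphisms.
-/

set_option autoImplicit false
set_option linter.style.haveILetI false
set_option linter.unusedSectionVars false

namespace Cfsg.Agent.Lead.S3F

universe u

variable {Γ : Type*} [Group Γ] {Γ' : Type*} [Group Γ']

/-- the configuration: `σ, τ` generate a quotient of `S₃` acting coprimely and without fixed
points on the solvable group `G`. -/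
structure Cfg (G : Subgroup Γ) (σ τ : Γ) : Prop where
  rel : S3Rel σ τ
  cardA : Nat.card (Subgroup.closure ({σ, τ} : Set Γ)) ∣ 6
  hσ : σ ∈ Subgroup.normalizer (G : Set Γ)
  hτ : τ ∈ Subgroup.normalizer (G : Set Γ)
  solv : Group.IsSolvable G
  cop : (Nat.card G).Coprime 6
  fpf : ∀ g ∈ G, σ * g * σ⁻¹ = g → τ * g * τ⁻¹ = g → g = 1

/-- the conclusion: the derived subgroup is nilpotent. -/
def Nilp (G : Subgroup Γ) : Prop := ∃ c : ℕ, (⁅G, G⁆ : Subgroup Γ).lowerCentralSeries c = ⊥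

theorem closure_pair_le {σ τ : Γ} {B : Subgroup Γ} (h1 : σ ∈ B) (h2 : τ ∈ B) :
    Subgroup.closure ({σ, τ} : Set Γ) ≤ B := by
  rw [Subgroup.closure_le]
  intro g hg
  rcases hg with rfl | rfl
  · exact h1
  · exact h2

theorem S3Rel.map {σ τ : Γ} (h : S3Rel σ τ) (f : Γ →* Γ') : S3Rel (f σ) (f τ) := by
  refine ⟨?_, ?_, ?_⟩
  · rw [← map_pow, h.s3, map_one]
  · rw [← map_pow, h.t2, map_one]
  · rw [← map_inv, ← map_inv, ← map_mul, ← map_mul, h.rel]

theorem card_closure_map_dvd [Finite Γ] {σ τ : Γ} (f : Γ →* Γ')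
    (h : Nat.card (Subgroup.closure ({σ, τ} : Set Γ)) ∣ 6) :
    Nat.card (Subgroup.closure ({f σ, f τ} : Set Γ')) ∣ 6 := by
  have h1 : (Subgroup.closure ({σ, τ} : Set Γ)).map f = Subgroup.closure ({f σ, f τ} : Set Γ') := by
    rw [MonoidHom.map_closure, Set.image_pair]
  rw [← h1]
  exact dvd_trans (Subgroup.card_map_dvd _ f) h

namespace Cfg

variable {G : Subgroup Γ} {σ τ : Γ}

theorem coprimeA (h : Cfg G σ τ) {X : Subgroup Γ} (hX : X ≤ G) :
    (Nat.card (Subgroup.closure ({σ, τ} : Set Γ))).Coprime (Nat.card X) := by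
  have h1 : (Nat.card X).Coprime 6 :=
    Nat.Coprime.coprime_dvd_left (Subgroup.card_dvd_of_le hX) h.cop
  exact Nat.Coprime.coprime_dvd_left h.cardA h1.symm

/-- fixed points in the image of a homomorphism are trivial. -/
theorem fpf_map [Finite Γ] (h : Cfg G σ τ) (f : Γ →* Γ') (g : Γ) (hg : g ∈ G)
    (h1 : f σ * f g * (f σ)⁻¹ = f g) (h2 : f τ * f g * (f τ)⁻¹ = f g) : f g = 1 := by
  have hAG : Subgroup.closure ({σ, τ} : Set Γ) ≤ Subgroup.normalizer (G : Set Γ) :=
    closure_pair_le h.hσ h.hτ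
  obtain ⟨N, hN⟩ : ∃ N : Subgroup Γ, N = G ⊓ f.ker := ⟨_, rfl⟩
  have hNG : N ≤ G := by rw [hN]; exact inf_le_left
  have hnorm : ∀ a ∈ Subgroup.normalizer (G : Set Γ), a ∈ Subgroup.normalizer (N : Set Γ) := by
    intro a ha
    apply mem_normalizer_of_conj_mem
    intro x hx
    rw [hN] at hx ⊢
    replace hx := Subgroup.mem_inf.1 hx
    refine Subgroup.mem_inf.2 ⟨conj_mem_of_mem_normalizer' ha hx.1, ?_⟩
    exact (MonoidHom.normal_ker f).conj_mem x hx.2 a
  have hfix : ∀ a ∈ Subgroup.closure ({σ, τ} : Set Γ), a * g * a⁻¹ * g⁻¹ ∈ N := by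
    obtain ⟨B, hB⟩ : ∃ B : Subgroup Γ, B = Subgroup.normalizer (G : Set Γ) ⊓
        (Subgroup.centralizer ({f g} : Set Γ')).comap f := ⟨_, rfl⟩
    have hσB : σ ∈ B := by
      rw [hB]
      refine Subgroup.mem_inf.2 ⟨h.hσ, ?_⟩
      rw [Subgroup.mem_comap, Subgroup.mem_centralizer_iff]
      intro y hy
      rw [Set.mem_singleton_iff] at hy
      rw [hy]
      calc f g * f σ = (f σ * f g * (f σ)⁻¹) * f σ := by rw [h1]
        _ = f σ * f g := by group
    have hτB : τ ∈ B := by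
      rw [hB]
      refine Subgroup.mem_inf.2 ⟨h.hτ, ?_⟩
      rw [Subgroup.mem_comap, Subgroup.mem_centralizer_iff]
      intro y hy
      rw [Set.mem_singleton_iff] at hy
      rw [hy]
      calc f g * f τ = (f τ * f g * (f τ)⁻¹) * f τ := by rw [h2]
        _ = f τ * f g := by group
    intro a ha
    have haB := closure_pair_le hσB hτB ha
    rw [hB] at haB
    replace haB := Subgroup.mem_inf.1 haB
    rw [hN]
    refine Subgroup.mem_inf.2 ⟨G.mul_mem (conj_mem_of_mem_normalizer' haB.1 hg) (G.inv_mem hg), ?_⟩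
    have h3 := haB.2
    rw [Subgroup.mem_comap, Subgroup.mem_centralizer_iff] at h3
    have h4 := h3 (f g) rfl
    rw [MonoidHom.mem_ker]
    simp only [map_mul, map_inv]
    rw [← h4]
    group
  haveI := h.solv
  obtain ⟨c, hc, hcN⟩ := Cfsg.Agent.Helper1.coprime_fixed_coset
    (Subgroup.closure ({σ, τ} : Set Γ)) G hAG (h.coprimeA le_rfl) (Or.inr h.solv) N hNG
    (fun a ha => hnorm a (Subgroup.le_normalizer ha)) (fun a ha => hnorm a (hAG ha)) g hg hfix
  replace hc := Subgroup.mem_inf.1 hc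
  have hc1 : c = 1 := by
    have hcc := hc.2
    rw [Subgroup.mem_centralizer_iff] at hcc
    apply h.fpf c hc.1
    · have := hcc σ (Subgroup.subset_closure (by simp))
      rw [this]; group
    · have := hcc τ (Subgroup.subset_closure (by simp))
      rw [this]; group
  rw [hc1, mul_one, hN] at hcN
  have := (Subgroup.mem_inf.1 hcN).2
  rw [MonoidHom.mem_ker, map_inv, inv_eq_one] at this
  exact this

/-- the image of a configuration. -/
theorem map [Finite Γ] (h : Cfg G σ τ) (f : Γ →* Γ') : Cfg (G.map f) (f σ) (f τ) := by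
  haveI := h.solv
  refine ⟨h.rel.map f, card_closure_map_dvd f h.cardA, ?_, ?_, ?_, ?_, ?_⟩
  · exact Subgroup.le_normalizer_map f ⟨σ, h.hσ, rfl⟩
  · exact Subgroup.le_normalizer_map f ⟨τ, h.hτ, rfl⟩
  · exact Group.isSolvable_of_surjective (f := f.subgroupMap G) (f.subgroupMap_surjective G)
  · exact Nat.Coprime.coprime_dvd_left (Subgroup.card_map_dvd G f) h.cop
  · rintro x ⟨g, hg, rfl⟩ h1 h2
    exact h.fpf_map f g hg h1 h2

/-- an invariant subgroup of a configuration. -/
theorem sub (h : Cfg G σ τ) {G₀ : Subgroup Γ} (hle : G₀ ≤ G)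
    (hσ : σ ∈ Subgroup.normalizer (G₀ : Set Γ)) (hτ : τ ∈ Subgroup.normalizer (G₀ : Set Γ)) :
    Cfg G₀ σ τ := by
  haveI := h.solv
  refine ⟨h.rel, h.cardA, hσ, hτ, ?_, ?_, ?_⟩
  · exact Group.isSolvable_of_isSolvable_injective (f := Subgroup.inclusion hle)
      (Subgroup.inclusion_injective hle)
  · exact Nat.Coprime.coprime_dvd_left (Subgroup.card_dvd_of_le hle) h.cop
  · intro g hg
    exact h.fpf g (hle hg)

/-- a configuration seen inside a subgroup of the ambient group. -/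
theorem comap_subtype (h : Cfg G σ τ) (N : Subgroup Γ) (hGN : G ≤ N) (hσN : σ ∈ N) (hτN : τ ∈ N) :
    Cfg (G.subgroupOf N) (⟨σ, hσN⟩ : N) (⟨τ, hτN⟩ : N) := by
  haveI := h.solv
  refine ⟨⟨?_, ?_, ?_⟩, ?_, ?_, ?_, ?_, ?_, ?_⟩
  · apply Subtype.ext
    simpa using h.rel.s3
  · apply Subtype.ext
    simpa using h.rel.t2
  · apply Subtype.ext
    simpa using h.rel.rel
  · have h1 : (Subgroup.closure ({(⟨σ, hσN⟩ : N), ⟨τ, hτN⟩} : Set N)).map N.subtype
        = Subgroup.closure ({σ, τ} : Set Γ) := by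
      rw [MonoidHom.map_closure, Set.image_pair]
      rfl
    rw [← Subgroup.card_map_of_injective N.subtype_injective, h1]
    exact h.cardA
  · rw [Subgroup.mem_normalizer_iff]
    intro x
    rw [Subgroup.mem_subgroupOf, Subgroup.mem_subgroupOf]
    exact Subgroup.mem_normalizer_iff.1 h.hσ x
  · rw [Subgroup.mem_normalizer_iff]
    intro x
    rw [Subgroup.mem_subgroupOf, Subgroup.mem_subgroupOf]
    exact Subgroup.mem_normalizer_iff.1 h.hτ x
  · exact Group.isSolvable_of_isSolvable_injective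
      (f := (Subgroup.subgroupOfEquivOfLe hGN).toMonoidHom)
      (Subgroup.subgroupOfEquivOfLe hGN).injective
  · rw [Nat.card_congr (Subgroup.subgroupOfEquivOfLe hGN).toEquiv]
    exact h.cop
  · intro g hg h1 h2
    rw [Subgroup.mem_subgroupOf] at hg
    have := h.fpf g hg (by simpa using congrArg Subtype.val h1)
      (by simpa using congrArg Subtype.val h2)
    exact Subtype.ext this

end Cfg

/-- the conclusion transfers back from a subgroup of the ambient group. -/
theorem Nilp.of_subgroupOf {G N : Subgroup Γ} (hGN : G ≤ N) (h : Nilp (G.subgroupOf N)) :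
    Nilp G := by
  obtain ⟨c, hc⟩ := h
  refine ⟨c, ?_⟩
  have h1 : (⁅G.subgroupOf N, G.subgroupOf N⁆ : Subgroup N).map N.subtype = ⁅G, G⁆ := by
    rw [Subgroup.map_commutator, Subgroup.subgroupOf_map_subtype, inf_of_le_left hGN]
  rw [← h1, ← Subgroup.map_lowerCentralSeries, hc, Subgroup.map_bot]

end Cfsg.Agent.Lead.S3F
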