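import Cfsg.Agent.Lead.S3fBr2
import Cfsg.Agent.Lead.S3fM1

/-!
S4305: minimal normal subgroups, fixed points of automorphisms, images of nilpotent groups.
-/

set_option autoImplicit false
set_option linter.style.haveILetI false
set_option linter.unusedSectionVars false

namespace Cfsg.Agent.Lead.S3F

universe u

open scoped commutatorElement

variable {Γ : Type*} [Group Γ]

/-- a minimal normal solvable subgroup is elementary abelian. -/
theorem elementary_of_minimal [Finite Γ] (V : Subgroup Γ) [hVn : V.Normal]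
    (hVs : Group.IsSolvable V) (hVne : V ≠ ⊥)
    (hmin : ∀ U : Subgroup Γ, U.Normal → U ≤ V → U ≠ ⊥ → V ≤ U) :
    ∃ p : ℕ, p.Prime ∧ p ∣ Nat.card V ∧ (∀ a ∈ V, ∀ b ∈ V, a * b = b * a) ∧
      ∀ v ∈ V, v ^ p = 1 := by
  have hab : (⁅V, V⁆ : Subgroup Γ) = ⊥ := by
    by_contra hne
    have h1 : V ≤ ⁅V, V⁆ := hmin _ inferInstance (Subgroup.commutator_le_self V) hne
    haveI : Nontrivial V := (Subgroup.nontrivial_iff_ne_bot V).2 hVne
    have h2 := Group.IsSolvable.commutator_lt_top_of_nontrivial V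
    have h3 : (commutator V).map V.subtype = ⁅V, V⁆ := Subgroup.map_subtype_commutator V
    have h4 : commutator V = ⊤ := by
      rw [eq_top_iff]
      intro x _
      have hx : (x : Γ) ∈ (⁅V, V⁆ : Subgroup Γ) := h1 x.2
      rw [← h3] at hx
      obtain ⟨y, hy, hyx⟩ := hx
      have : y = x := Subtype.ext hyx
      rwa [this] at hy
    exact (ne_of_lt h2) h4
  have hVc : ∀ a ∈ V, ∀ b ∈ V, a * b = b * a := by
    rw [Subgroup.commutator_eq_bot_iff_le_centralizer] at hab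
    intro a ha b hb
    have := hab ha
    rw [Subgroup.mem_centralizer_iff] at this
    exact (this b hb).symm
  have hcard : Nat.card V ≠ 1 := fun h => hVne (Subgroup.card_eq_one.1 h)
  obtain ⟨p, hp, hpV⟩ := Nat.exists_prime_and_dvd hcard
  haveI : Fact p.Prime := ⟨hp⟩
  refine ⟨p, hp, hpV, hVc, ?_⟩
  obtain ⟨x, hx⟩ := exists_prime_orderOf_dvd_card' p hpV
  haveI : (powKer V hVc p).Normal := by
    refine ⟨fun d hd g => ?_⟩
    refine ⟨hVn.conj_mem d hd.1 g, ?_⟩
    rw [conj_pow, hd.2]; group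
  have hne : powKer V hVc p ≠ ⊥ := by
    intro hbot
    have h1 : (x : Γ) ∈ powKer V hVc p := by
      refine ⟨x.2, ?_⟩
      have := pow_orderOf_eq_one x
      rw [hx] at this
      have h6 := congrArg Subtype.val this
      rw [Subgroup.coe_pow, Subgroup.coe_one] at h6
      exact h6
    rw [hbot, Subgroup.mem_bot] at h1
    have h2 : x = 1 := Subtype.ext h1
    rw [h2, orderOf_one] at hx
    exact hp.one_lt.ne hx
  have hle := hmin _ inferInstance (powKer_le V hVc p) hne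
  intro v hv
  exact (hle hv).2

/-- the fixed points on `V` of a set of automorphisms of `V`. -/
def fixV (V : Subgroup Γ) (E : Set (MulAut V)) : Subgroup Γ where
  carrier := {v | ∃ hv : v ∈ V, ∀ e ∈ E, e ⟨v, hv⟩ = ⟨v, hv⟩}
  mul_mem' := by
    rintro a b ⟨ha, ha'⟩ ⟨hb, hb'⟩
    refine ⟨V.mul_mem ha hb, fun e he => ?_⟩
    have : (⟨a * b, V.mul_mem ha hb⟩ : V) = ⟨a, ha⟩ * ⟨b, hb⟩ := rfl
    rw [this, map_mul, ha' e he, hb' e he]
  one_mem' := ⟨V.one_mem, fun e _ => by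
    have : (⟨1, V.one_mem⟩ : V) = 1 := rfl
    rw [this, map_one]⟩
  inv_mem' := by
    rintro a ⟨ha, ha'⟩
    refine ⟨V.inv_mem ha, fun e he => ?_⟩
    have : (⟨a⁻¹, V.inv_mem ha⟩ : V) = (⟨a, ha⟩ : V)⁻¹ := rfl
    rw [this, map_inv, ha' e he]

theorem fixV_le (V : Subgroup Γ) (E : Set (MulAut V)) : fixV V E ≤ V := fun _ hv => hv.1

theorem conj_mem_fixV (V : Subgroup Γ) [hVn : V.Normal] (E : Set (MulAut V)) (g : Γ)
    (hg : ∀ e ∈ E, (MulAut.conjNormal g : MulAut V)⁻¹ * e * MulAut.conjNormal g ∈ E) :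
    ∀ x ∈ fixV V E, g * x * g⁻¹ ∈ fixV V E := by
  rintro x ⟨hx, hx'⟩
  refine ⟨hVn.conj_mem x hx g, fun e he => ?_⟩
  have h1 : (⟨g * x * g⁻¹, hVn.conj_mem x hx g⟩ : V) = (MulAut.conjNormal g : MulAut V) ⟨x, hx⟩ := by
    apply Subtype.ext
    rw [MulAut.conjNormal_apply]
  have h2 := hx' _ (hg e he)
  rw [MulAut.mul_apply, MulAut.mul_apply] at h2
  rw [h1]
  have h3 := congrArg (MulAut.conjNormal g : MulAut V) h2
  rw [MulAut.apply_inv_self] at h3
  exact h3

theorem eq_one_of_le_fixV (V : Subgroup Γ) (E : Set (MulAut V)) (h : V ≤ fixV V E) :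
    ∀ e ∈ E, e = 1 := by
  intro e he
  ext v
  obtain ⟨_, hv⟩ := h v.2
  have := hv e he
  rw [MulAut.one_apply]
  exact congrArg Subtype.val this

/-- a nilpotent normal subgroup acts on an elementary abelian normal `p`-subgroup through a
`p`-group. -/
theorem isPGroup_map_conjNormal [Finite Γ] (V : Subgroup Γ) [hVn : V.Normal] {p : ℕ}
    [hp : Fact p.Prime] (hVc : ∀ a ∈ V, ∀ b ∈ V, a * b = b * a) (hVp : ∀ v ∈ V, v ^ p = 1)
    (G₀ : Subgroup Γ) (hVG₀ : V ≤ G₀) (hnil : Nilp G₀) :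
    IsPGroup p ((⁅G₀, G₀⁆ : Subgroup Γ).map (MulAut.conjNormal : Γ →* MulAut V)) := by
  obtain ⟨c, hc⟩ := hnil
  obtain ⟨K, hK⟩ : ∃ K : Subgroup Γ, K = ⁅G₀, G₀⁆ := ⟨_, rfl⟩
  rw [← hK] at hc ⊢
  have hVpg : IsPGroup p V := fun v => ⟨1, by
    rw [pow_one]
    apply Subtype.ext
    rw [Subgroup.coe_pow, Subgroup.coe_one]
    exact hVp v v.2⟩
  obtain ⟨m, hm⟩ := (IsPGroup.iff_card).1 hVpg
  have hcent : ∀ z ∈ K, ∀ n : ℕ, n.Coprime p → z ^ n = 1 → ∀ v ∈ V, z * v * z⁻¹ = v := by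
    intro z hz n hn hzn
    obtain ⟨Y, hY⟩ : ∃ Y : Subgroup Γ, Y = Subgroup.zpowers z := ⟨_, rfl⟩
    have hzY : z ∈ Y := by rw [hY]; exact Subgroup.mem_zpowers z
    have hYK : Y ≤ K := by rw [hY]; exact Subgroup.zpowers_le.2 hz
    have hYV : Y ≤ Subgroup.normalizer (V : Set Γ) := by
      rw [Subgroup.normalizer_eq_top]; exact le_top
    have hcop : (Nat.card Y).Coprime (Nat.card V) := by
      rw [hY, Nat.card_zpowers, hm]
      exact Nat.Coprime.pow_right m
        (Nat.Coprime.coprime_dvd_left (orderOf_dvd_of_pow_eq_one hzn) hn)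
    have hVsolv : Group.IsSolvable V :=
      Group.isSolvable_of_comm (fun a b => Subtype.ext (hVc a a.2 b b.2))
    have hcc := Cfsg.Agent.Helper1.coprime_commutator_commutator Y V hYV hcop (Or.inr hVsolv)
    obtain ⟨M, hM⟩ : ∃ M : Subgroup Γ, M = ⁅V, Y⁆ := ⟨_, rfl⟩
    rw [← hM] at hcc
    have hMK : M ≤ K := by
      rw [hM, Subgroup.commutator_le]
      intro v hv y hy
      rw [commutatorElement_def]
      have hvn : v ∈ Subgroup.normalizer ((K : Subgroup Γ) : Set Γ) := by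
        rw [hK]
        exact mem_normalizer_commutator (Subgroup.le_normalizer (hVG₀ hv))
          (Subgroup.le_normalizer (hVG₀ hv))
      exact K.mul_mem (conj_mem_of_mem_normalizer' hvn (hYK hy)) (K.inv_mem (hYK hy))
    have hMl : ∀ i, M ≤ K.lowerCentralSeries i := by
      intro i
      induction i with
      | zero => exact hMK
      | succ i ih =>
        rw [Subgroup.lowerCentralSeries_succ]
        calc M = ⁅M, Y⁆ := hcc.symm
          _ ≤ ⁅K.lowerCentralSeries i, K⁆ := Subgroup.commutator_mono ih hYK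
    have hMbot : M = ⊥ := by
      have := hMl c
      rwa [hc, le_bot_iff] at this
    intro v hv
    have h1 : ⁅v, z⁆ ∈ M := by
      rw [hM]; exact Subgroup.commutator_mem_commutator hv hzY
    rw [hMbot, Subgroup.mem_bot, commutatorElement_eq_one_iff_commute] at h1
    have h2 : v * z = z * v := h1
    rw [← h2]; group
  rintro ⟨x, y, hy, rfl⟩
  obtain ⟨e, n', hnd, hord⟩ := Nat.exists_eq_pow_mul_and_not_dvd (orderOf_pos y).ne' p
    hp.out.ne_one
  have hn' : n'.Coprime p := ((Nat.Prime.coprime_iff_not_dvd hp.out).2 hnd).symm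
  have hz : y ^ (p ^ e) ∈ K := K.pow_mem hy _
  have hzn : (y ^ (p ^ e)) ^ n' = 1 := by
    rw [← pow_mul, ← hord, pow_orderOf_eq_one]
  have h1 := hcent _ hz n' hn' hzn
  refine ⟨e, ?_⟩
  apply Subtype.ext
  rw [Subgroup.coe_pow, Subgroup.coe_one]
  change (MulAut.conjNormal y : MulAut V) ^ (p ^ e) = 1
  rw [← map_pow]
  ext v
  rw [MulAut.conjNormal_apply, MulAut.one_apply]
  exact h1 v v.2

end Cfsg.Agent.Lead.S3F
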