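import Cfsg.Agent.Lead.S3fA1
import Cfsg.Agent.Lead.S3fA3
import Cfsg.Agent.Lead.S3fB3
import Cfsg.Agent.Lead.S3fAv

/-!
S4305: the minimal configuration of prime power order (case (a)).
-/

set_option autoImplicit false
set_option linter.style.haveILetI false
set_option linter.unusedSectionVars false

namespace Cfsg.Agent.Lead.S3F

open scoped BigOperators IsMulCommutative
open Classical

variable {k : Type*} [Field k] {Γ : Type*} [Group Γ] [Fintype Γ]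
  {W : Type*} [AddCommGroup W] [Module k W] (ρ : Representation k Γ W)

section norm

variable (Z : Subgroup Γ) [IsMulCommutative Z] {σ : Γ}
  (hσZ : σ ∈ Subgroup.normalizer (Z : Set Γ))

/-- the norm map of `σ` on an abelian group. -/
def normHom : Z →* Z :=
  MonoidHom.id Z * conjHom Z σ hσZ * conjHom Z (σ * σ) (Subgroup.mul_mem _ hσZ hσZ)

omit [Fintype Γ] in
theorem normHom_coe (z : Z) : ((normHom Z hσZ z : Z) : Γ)
    = (z : Γ) * (σ * (z : Γ) * σ⁻¹) * ((σ * σ) * (z : Γ) * (σ * σ)⁻¹) := rfl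

/-- the kernel of the norm map. -/
def normKer : Subgroup Γ := (normHom Z hσZ).ker.map Z.subtype

omit [Fintype Γ] in
theorem mem_normKer {e : Γ} : e ∈ normKer Z hσZ ↔
    e ∈ Z ∧ e * (σ * e * σ⁻¹) * ((σ * σ) * e * (σ * σ)⁻¹) = 1 := by
  unfold normKer
  rw [Subgroup.mem_map]
  constructor
  · rintro ⟨z, hz, rfl⟩
    refine ⟨z.2, ?_⟩
    have := congrArg Subtype.val (MonoidHom.mem_ker.1 hz)
    rwa [normHom_coe] at this
  · rintro ⟨he, h1⟩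
    refine ⟨⟨e, he⟩, ?_, rfl⟩
    rw [MonoidHom.mem_ker]
    apply Subtype.ext
    rw [normHom_coe]
    exact h1

end norm

theorem comm_identity_norm {G : Type*} [CommGroup G] (a b c : G) :
    a⁻¹ * b * (b⁻¹ * c) * (c⁻¹ * a) = 1 := by
  apply Additive.ofMul.injective
  simp only [ofMul_mul, ofMul_inv, ofMul_one]
  abel

section caseA

variable [IsAlgClosed k] {σ τ : Γ}

/-- **Case (a)**: a minimal configuration of prime power order is abelian. -/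
theorem comm_of_pgroup (h : S3Rel σ τ) (hfix : NoFix ρ σ τ)
    (Q : Subgroup Γ) {q : ℕ} [hq : Fact q.Prime] (hQ : IsPGroup q Q) (hqk : (q : k) ≠ 0)
    (hq2 : q ≠ 2) (hq3 : q ≠ 3)
    (hσQ : σ ∈ Subgroup.normalizer (Q : Set Γ)) (hτQ : τ ∈ Subgroup.normalizer (Q : Set Γ))
    (hfaith : ∀ x ∈ Q, ρ x = 1 → x = 1)
    (hCQ : ∀ x ∈ Q, σ * x * σ⁻¹ = x → τ * x * τ⁻¹ = x → x = 1)
    (hmin : ∀ Q₀ : Subgroup Γ, Q₀ ≤ Q → Q₀ ≠ Q → σ ∈ Subgroup.normalizer (Q₀ : Set Γ) →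
      τ ∈ Subgroup.normalizer (Q₀ : Set Γ) → ∀ a ∈ Q₀, ∀ b ∈ Q₀, a * b = b * a)
    (hIrr : ∀ E : Subgroup Γ, E ≤ Q → E ≠ ⊥ → (∀ g ∈ Q, ∀ x ∈ E, g * x * g⁻¹ ∈ E) →
      σ ∈ Subgroup.normalizer (E : Set Γ) → τ ∈ Subgroup.normalizer (E : Set Γ) →
      ∀ w : W, (∀ e ∈ E, ρ e w = w) → w = 0) :
    ∀ a ∈ Q, ∀ b ∈ Q, a * b = b * a := by
  by_cases hZσ : ∀ z ∈ Q, (∀ x ∈ Q, z * x = x * z) → σ * z * σ⁻¹ = z
  · exact comm_of_sigma_centralizes_center ρ h hfix Q hQ hqk hq2 hq3 hσQ hτQ hfaith hCQ hmin hZσ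
      hIrr
  push Not at hZσ
  obtain ⟨z₀, hz₀Q, hz₀Z, hz₀σ⟩ := hZσ
  obtain ⟨e1, e2, e3, e4, e5, e6⟩ := h.elts
  -- the centre
  set Z := centIn Q Q with hZ
  have hZQ : Z ≤ Q := fun z hz => hz.1
  haveI : IsMulCommutative Z :=
    ⟨⟨fun a b => Subtype.ext (a.2.2 b b.2.1)⟩⟩
  have hZc : ∀ a ∈ Z, ∀ b ∈ Z, a * b = b * a := fun a ha b hb => ha.2 b hb.1
  have hσZ : σ ∈ Subgroup.normalizer (Z : Set Γ) :=
    mem_normalizer_of_conj_mem _ _ (fun x hx => conj_mem_centIn Q Q hσQ hσQ hx)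
  have hτZ : τ ∈ Subgroup.normalizer (Z : Set Γ) :=
    mem_normalizer_of_conj_mem _ _ (fun x hx => conj_mem_centIn Q Q hτQ hτQ hx)
  have hssZ : σ * σ ∈ Subgroup.normalizer (Z : Set Γ) := Subgroup.mul_mem _ hσZ hσZ
  set E := normKer Z hσZ with hE
  have hEZ' : E ≤ Z := fun e he => ((mem_normKer Z hσZ).1 he).1
  have hEQ : E ≤ Q := hEZ'.trans hZQ
  have hEZ : ∀ e ∈ E, ∀ x ∈ Q, e * x = x * e := fun e he x hx => (hEZ' he).2 x hx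
  have hσE : σ ∈ Subgroup.normalizer (E : Set Γ) := by
    apply mem_normalizer_of_conj_mem
    intro e he
    obtain ⟨heZ, hen⟩ := (mem_normKer Z hσZ).1 he
    refine (mem_normKer Z hσZ).2 ⟨conj_mem_of_mem_normalizer' hσZ heZ, ?_⟩
    calc σ * e * σ⁻¹ * (σ * (σ * e * σ⁻¹) * σ⁻¹) * ((σ * σ) * (σ * e * σ⁻¹) * (σ * σ)⁻¹)
        = σ * (e * (σ * e * σ⁻¹) * ((σ * σ) * e * (σ * σ)⁻¹)) * σ⁻¹ := by group
      _ = 1 := by rw [hen]; group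
  have hτE : τ ∈ Subgroup.normalizer (E : Set Γ) := by
    apply mem_normalizer_of_conj_mem
    intro e he
    obtain ⟨heZ, hen⟩ := (mem_normKer Z hσZ).1 he
    refine (mem_normKer Z hσZ).2 ⟨conj_mem_of_mem_normalizer' hτZ heZ, ?_⟩
    have hst : σ * τ = τ * (σ * σ) := by rw [e4]
    have hsst : σ * σ * τ = τ * σ := by rw [e3]
    have h1 : σ * (τ * e * τ⁻¹) * σ⁻¹ = τ * ((σ * σ) * e * (σ * σ)⁻¹) * τ⁻¹ := by
      calc σ * (τ * e * τ⁻¹) * σ⁻¹ = (σ * τ) * e * (σ * τ)⁻¹ := by group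
        _ = (τ * (σ * σ)) * e * (τ * (σ * σ))⁻¹ := by rw [hst]
        _ = _ := by group
    have h2 : (σ * σ) * (τ * e * τ⁻¹) * (σ * σ)⁻¹ = τ * (σ * e * σ⁻¹) * τ⁻¹ := by
      calc (σ * σ) * (τ * e * τ⁻¹) * (σ * σ)⁻¹ = (σ * σ * τ) * e * (σ * σ * τ)⁻¹ := by group
        _ = (τ * σ) * e * (τ * σ)⁻¹ := by rw [hsst]
        _ = _ := by group
    have hb : σ * e * σ⁻¹ ∈ Z := conj_mem_of_mem_normalizer' hσZ heZ
    have hc : (σ * σ) * e * (σ * σ)⁻¹ ∈ Z := conj_mem_of_mem_normalizer' hssZ heZ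
    rw [h1, h2]
    calc τ * e * τ⁻¹ * (τ * ((σ * σ) * e * (σ * σ)⁻¹) * τ⁻¹) * (τ * (σ * e * σ⁻¹) * τ⁻¹)
        = τ * (e * (((σ * σ) * e * (σ * σ)⁻¹) * (σ * e * σ⁻¹))) * τ⁻¹ := by group
      _ = τ * (e * ((σ * e * σ⁻¹) * ((σ * σ) * e * (σ * σ)⁻¹))) * τ⁻¹ := by rw [hZc _ hc _ hb]
      _ = τ * (e * (σ * e * σ⁻¹) * ((σ * σ) * e * (σ * σ)⁻¹)) * τ⁻¹ := by group
      _ = 1 := by rw [hen]; group
  have hEp : IsPGroup q E := hQ.to_le hEQ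
  have hEk := card_cast_ne_zero_of_isPGroup hqk E hEp
  haveI := hasEnoughRootsOfUnity_of_isPGroup (k := k) hqk E hEp
  have hEσ : ∀ e ∈ E, σ * e * σ⁻¹ = e → e = 1 := by
    intro e he heσ
    obtain ⟨heZ, hen⟩ := (mem_normKer Z hσZ).1 he
    have hss : (σ * σ) * e * (σ * σ)⁻¹ = e := by
      calc (σ * σ) * e * (σ * σ)⁻¹ = σ * (σ * e * σ⁻¹) * σ⁻¹ := by group
        _ = e := by rw [heσ, heσ]
    rw [heσ, hss] at hen
    have h3 : e ^ 3 = 1 := by rw [pow_succ, pow_two]; exact hen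
    obtain ⟨n, hn⟩ := hQ ⟨e, hEQ he⟩
    have hn' : e ^ (q ^ n) = 1 := by
      have := congrArg Subtype.val hn
      simpa using this
    have hcop : Nat.Coprime 3 (q ^ n) := by
      apply Nat.Coprime.pow_right
      rw [Nat.coprime_primes Nat.prime_three hq.out]
      exact fun h3 => hq3 h3.symm
    have h9 : orderOf e ∣ 1 := by
      have := Nat.dvd_gcd (orderOf_dvd_of_pow_eq_one h3) (orderOf_dvd_of_pow_eq_one hn')
      rwa [hcop] at this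
    exact orderOf_eq_one_iff.1 (Nat.dvd_one.1 h9)
  have hEne : E ≠ ⊥ := by
    intro hbot
    apply hz₀σ
    have hz₀ : z₀ ∈ Z := ⟨hz₀Q, hz₀Z⟩
    have hb : σ * z₀ * σ⁻¹ ∈ Z := conj_mem_of_mem_normalizer' hσZ hz₀
    have hc : (σ * σ) * z₀ * (σ * σ)⁻¹ ∈ Z := conj_mem_of_mem_normalizer' hssZ hz₀
    have hmem : z₀⁻¹ * (σ * z₀ * σ⁻¹) ∈ E := by
      refine (mem_normKer Z hσZ).2 ⟨Z.mul_mem (Z.inv_mem hz₀) hb, ?_⟩
      have hsss : σ * σ * σ = 1 := by rw [mul_assoc]; exact e1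
      have h4 : (σ * σ) * (σ * z₀ * σ⁻¹) * (σ * σ)⁻¹ = z₀ := by
        calc (σ * σ) * (σ * z₀ * σ⁻¹) * (σ * σ)⁻¹ = (σ * σ * σ) * z₀ * (σ * σ * σ)⁻¹ := by group
          _ = z₀ := by rw [hsss]; group
      -- in the abelian group `Z`
      have := comm_identity_norm (⟨z₀, hz₀⟩ : Z) ⟨_, hb⟩ ⟨_, hc⟩
      have h5 := congrArg Subtype.val this
      simp only [Subgroup.coe_mul, Subgroup.coe_inv, Subgroup.coe_one] at h5
      have hA : σ * (z₀⁻¹ * (σ * z₀ * σ⁻¹)) * σ⁻¹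
          = (σ * z₀ * σ⁻¹)⁻¹ * ((σ * σ) * z₀ * (σ * σ)⁻¹) := by group
      have hB : (σ * σ) * (z₀⁻¹ * (σ * z₀ * σ⁻¹)) * (σ * σ)⁻¹
          = ((σ * σ) * z₀ * (σ * σ)⁻¹)⁻¹ * ((σ * σ) * (σ * z₀ * σ⁻¹) * (σ * σ)⁻¹) := by
        generalize σ * σ = g
        generalize σ * z₀ * σ⁻¹ = y
        group
      rw [hA, hB, h4]
      exact h5
    rw [hbot, Subgroup.mem_bot] at hmem
    calc σ * z₀ * σ⁻¹ = z₀ * (z₀⁻¹ * (σ * z₀ * σ⁻¹)) := by group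
      _ = z₀ := by rw [hmem, mul_one]
  have hEn : ∀ g ∈ Q, ∀ x ∈ E, g * x * g⁻¹ ∈ E := by
    intro g hg x hx
    have : g * x * g⁻¹ = x := by rw [← hEZ x hx g hg]; group
    rw [this]; exact hx
  have hCW := hIrr E hEQ hEne hEn hσE hτE
  exact comm_of_central_fpf ρ h hfix Q E hEQ hEZ hσQ hτQ hσE hτE hEk hEσ hCW hfaith hCQ
    (odd_card_of_isPGroup hq2 Q hQ)

end caseA

end Cfsg.Agent.Lead.S3F
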