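import Cfsg.Agent.Lead.S3fGp

/-!
S4305: a minimal configuration with central derived subgroup has prime power order.
-/

set_option autoImplicit false
set_option linter.style.haveILetI false

namespace Cfsg.Agent.Lead.S3F

open Classical

/-- a finite nilpotent group which is not commutative has a non-commutative Sylow subgroup. -/
theorem exists_sylow_not_comm {G : Type*} [Group G] [Finite G] [hG : Group.IsNilpotent G]
    (hnc : ∃ a b : G, a * b ≠ b * a) :
    ∃ (q : ℕ) (_ : Fact q.Prime) (P : Sylow q G), ∃ a ∈ (P : Subgroup G), ∃ b ∈ (P : Subgroup G),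
      a * b ≠ b * a := by
  obtain ⟨e⟩ := (Group.isNilpotent_of_finite_tfae (G := G)).out 0 4 rfl rfl |>.mp hG
  by_contra hcon
  push Not at hcon
  obtain ⟨a, b, hab⟩ := hnc
  apply hab
  have hcomm : ∀ x y : (∀ p : (Nat.card G).primeFactors, ∀ P : Sylow p G, (↑P : Subgroup G)),
      x * y = y * x := by
    intro x y
    funext p P
    have : Fact (Nat.Prime (p : ℕ)) := ⟨Nat.prime_of_mem_primeFactors p.2⟩
    apply Subtype.ext
    exact hcon (p : ℕ) this P (x p P) (x p P).2 (y p P) (y p P).2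
  have := hcomm (e.symm a) (e.symm b)
  have h2 := congrArg e this
  simpa using h2

variable {Γ : Type*} [Group Γ] [Finite Γ]

/-- A group with central derived subgroup in which all proper normal invariant subgroups are
abelian is abelian or of prime power order. -/
theorem isPGroup_of_central_commutator (H : Subgroup Γ) {σ τ : Γ}
    (hσH : σ ∈ Subgroup.normalizer (H : Set Γ)) (hτH : τ ∈ Subgroup.normalizer (H : Set Γ))
    (hD : ∀ d ∈ ⁅H, H⁆, ∀ x ∈ H, d * x = x * d)
    (hna : ∃ a ∈ H, ∃ b ∈ H, a * b ≠ b * a)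
    (hnorm : ∀ Q : Subgroup Γ, Q ≤ H → Q ≠ H → (∀ g ∈ H, ∀ x ∈ Q, g * x * g⁻¹ ∈ Q) →
      σ ∈ Subgroup.normalizer (Q : Set Γ) → τ ∈ Subgroup.normalizer (Q : Set Γ) →
      ∀ a ∈ Q, ∀ b ∈ Q, a * b = b * a) :
    ∃ (q : ℕ) (_ : Fact q.Prime), IsPGroup q H := by
  -- `H` is nilpotent
  haveI hnil : Group.IsNilpotent H := by
    rw [Subgroup.isNilpotent_iff_lowerCentralSeries]
    refine ⟨2, ?_⟩
    rw [Subgroup.lowerCentralSeries_succ, Subgroup.lowerCentralSeries_succ,
      Subgroup.lowerCentralSeries_zero, Subgroup.commutator_eq_bot_iff_le_centralizer]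
    intro d hd
    rw [Subgroup.mem_centralizer_iff]
    intro x hx
    exact (hD d hd x hx).symm
  have hnc : ∃ a b : H, a * b ≠ b * a := by
    obtain ⟨a, ha, b, hb, hab⟩ := hna
    refine ⟨⟨a, ha⟩, ⟨b, hb⟩, fun h => hab ?_⟩
    exact congrArg Subtype.val h
  obtain ⟨q, hq, P, a, ha, b, hb, hab⟩ := exists_sylow_not_comm hnc
  refine ⟨q, hq, ?_⟩
  haveI : (P : Subgroup H).Normal := inferInstance
  have hchar : (P : Subgroup H).Characteristic := Sylow.characteristic_of_normal P inferInstance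
  set Q : Subgroup Γ := (P : Subgroup H).map H.subtype with hQ
  have hQH : Q ≤ H := Subgroup.map_subtype_le _
  have hQn : ∀ g ∈ H, ∀ x ∈ Q, g * x * g⁻¹ ∈ Q := by
    rintro g hg _ ⟨x, hx, rfl⟩
    refine ⟨⟨g, hg⟩ * x * ⟨g, hg⟩⁻¹, ?_, rfl⟩
    exact (inferInstance : (P : Subgroup H).Normal).conj_mem x hx ⟨g, hg⟩
  have hQchar : ∀ t : Γ, t ∈ Subgroup.normalizer (H : Set Γ) →
      t ∈ Subgroup.normalizer (Q : Set Γ) := by
    intro t ht
    apply mem_normalizer_of_conj_mem
    rintro _ ⟨x, hx, rfl⟩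
    -- conjugation by `t` as an automorphism of `H`
    let φ : H ≃* H := H.normalizerMonoidHom ⟨t, ht⟩
    have h1 : (P : Subgroup H).comap φ.symm.toMonoidHom = (P : Subgroup H) :=
      (Subgroup.characteristic_iff_comap_eq.1 hchar) φ.symm
    have h2 : φ x ∈ (P : Subgroup H) := by
      rw [← h1, Subgroup.mem_comap]
      have : φ.symm.toMonoidHom (φ x) = x := by simp
      rw [this]; exact hx
    refine ⟨φ x, h2, ?_⟩
    rfl
  by_cases hQe : Q = H
  · -- `H` is a `q`-group
    have hPp : IsPGroup q (P : Subgroup H) := P.isPGroup'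
    intro x
    have hx : (x : Γ) ∈ Q := by rw [hQe]; exact x.2
    obtain ⟨y, hy, hyx⟩ := hx
    obtain ⟨n, hn⟩ := hPp ⟨y, hy⟩
    refine ⟨n, ?_⟩
    have h1 : y ^ q ^ n = 1 := by
      have := congrArg Subtype.val hn
      simpa using this
    have h2 : y = x := Subtype.ext hyx
    rw [← h2]; exact h1
  · exfalso
    apply hab
    have h1 := hnorm Q hQH hQe hQn (hQchar σ hσH) (hQchar τ hτH) (a : Γ) ⟨a, ha, rfl⟩ (b : Γ)
      ⟨b, hb, rfl⟩
    exact Subtype.ext h1

end Cfsg.Agent.Lead.S3F
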