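import Cfsg.Agent.Lead.S3fM1
import Cfsg.Agent.Lead.S3fM2
import Cfsg.Agent.Lead.S3fM3
import Cfsg.Agent.Lead.S3fB4

/-!
S4305: the reduction of a minimal configuration to the cases (a) and (b).
-/

set_option autoImplicit false
set_option linter.style.haveILetI false
set_option linter.unusedSectionVars false

namespace Cfsg.Agent.Lead.S3F

open scoped BigOperators IsMulCommutative
open Classical

variable {k : Type*} [Field k] {Γ : Type*} [Group Γ] [Fintype Γ]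
  {W : Type*} [AddCommGroup W] [Module k W] (ρ : Representation k Γ W)

/-- cardinalities prime to the characteristic. -/
theorem roots_of_coprime [IsAlgClosed k] {p : ℕ} (hpk : ∀ n : ℕ, n.Coprime p → (n : k) ≠ 0)
    (E : Subgroup Γ) (hE : (Nat.card E).Coprime p) :
    (Fintype.card E : k) ≠ 0 ∧ HasEnoughRootsOfUnity k (Monoid.exponent E) := by
  refine ⟨?_, ?_⟩
  · rw [← Nat.card_eq_fintype_card]
    exact hpk _ hE
  · have h1 : Monoid.exponent E ∣ Nat.card E := Group.exponent_dvd_nat_card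
    haveI : NeZero ((Monoid.exponent E : ℕ) : k) :=
      ⟨hpk _ (Nat.Coprime.coprime_dvd_left h1 hE)⟩
    infer_instance

section main

variable [IsAlgClosed k] {σ τ : Γ}

/-- **The minimal configuration**: `H` acts faithfully, all proper invariant subgroups have
`p`-group derived subgroups, and `O_p(H) = 1`; then `H` is abelian. -/
theorem comm_of_min_config {p : ℕ} [hp : Fact p.Prime]
    (hpk : ∀ n : ℕ, n.Coprime p → (n : k) ≠ 0)
    (h : S3Rel σ τ) (hfix : NoFix ρ σ τ)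
    (hA : Nat.card (Subgroup.closure ({σ, τ} : Set Γ)) ∣ 6)
    (H : Subgroup Γ)
    (hσH : σ ∈ Subgroup.normalizer (H : Set Γ)) (hτH : τ ∈ Subgroup.normalizer (H : Set Γ))
    (hsolv : Group.IsSolvable H) (hH6 : (Nat.card H).Coprime 6)
    (hCH : ∀ x ∈ H, σ * x * σ⁻¹ = x → τ * x * τ⁻¹ = x → x = 1)
    (hfaith : ∀ x ∈ H, ρ x = 1 → x = 1)
    (hIrr : ∀ E : Subgroup Γ, E ≤ H → E ≠ ⊥ → (∀ g ∈ H, ∀ x ∈ E, g * x * g⁻¹ ∈ E) →
      σ ∈ Subgroup.normalizer (E : Set Γ) → τ ∈ Subgroup.normalizer (E : Set Γ) →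
      ∀ w : W, (∀ e ∈ E, ρ e w = w) → w = 0)
    (hOp : ∀ P : Subgroup Γ, P ≤ H → (∀ g ∈ H, ∀ x ∈ P, g * x * g⁻¹ ∈ P) →
      σ ∈ Subgroup.normalizer (P : Set Γ) → τ ∈ Subgroup.normalizer (P : Set Γ) →
      IsPGroup p P → P = ⊥)
    (hMin : ∀ H₀ : Subgroup Γ, H₀ ≤ H → H₀ ≠ H → σ ∈ Subgroup.normalizer (H₀ : Set Γ) →
      τ ∈ Subgroup.normalizer (H₀ : Set Γ) → IsPGroup p (⁅H₀, H₀⁆ : Subgroup Γ)) :
    ∀ a ∈ H, ∀ b ∈ H, a * b = b * a := by
  by_contra hna
  push Not at hna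
  -- the group `A = ⟨σ, τ⟩`
  set A : Subgroup Γ := Subgroup.closure ({σ, τ} : Set Γ) with hAdef
  have hAle : ∀ X : Subgroup Γ, σ ∈ Subgroup.normalizer (X : Set Γ) →
      τ ∈ Subgroup.normalizer (X : Set Γ) → A ≤ Subgroup.normalizer (X : Set Γ) := by
    intro X h1 h2
    rw [hAdef, Subgroup.closure_le]
    intro g hg
    rcases hg with rfl | rfl
    · exact h1
    · exact h2
  have hcopA : ∀ X : Subgroup Γ, X ≤ H → (Nat.card A).Coprime (Nat.card X) := by
    intro X hX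
    have h1 : (Nat.card X).Coprime 6 :=
      Nat.Coprime.coprime_dvd_left (Subgroup.card_dvd_of_le hX) hH6
    exact Nat.Coprime.coprime_dvd_left hA h1.symm
  have hnormal : ∀ X : Subgroup Γ, (∀ g ∈ H, ∀ x ∈ X, g * x * g⁻¹ ∈ X) →
      ∀ g ∈ H, g ∈ Subgroup.normalizer (X : Set Γ) :=
    fun X hX g hg => mem_normalizer_of_conj_mem X g (hX g hg)
  -- proper normal invariant subgroups are abelian
  have hnorm : ∀ Q : Subgroup Γ, Q ≤ H → Q ≠ H → (∀ g ∈ H, ∀ x ∈ Q, g * x * g⁻¹ ∈ Q) →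
      σ ∈ Subgroup.normalizer (Q : Set Γ) → τ ∈ Subgroup.normalizer (Q : Set Γ) →
      ∀ a ∈ Q, ∀ b ∈ Q, a * b = b * a := by
    intro Q hQH hQne hQn hσQ hτQ a ha b hb
    have hp1 := hMin Q hQH hQne hσQ hτQ
    have hbot := hOp ⁅Q, Q⁆ ((Subgroup.commutator_le_self Q).trans hQH)
      (fun g hg x hx => conj_mem_of_mem_normalizer'
        (mem_normalizer_commutator (hnormal Q hQn g hg) (hnormal Q hQn g hg)) hx)
      (mem_normalizer_commutator hσQ hσQ) (mem_normalizer_commutator hτQ hτQ) hp1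
    have h1 : a * b * a⁻¹ * b⁻¹ ∈ ⁅Q, Q⁆ := by
      have := Subgroup.commutator_mem_commutator ha hb
      rwa [commutatorElement_def] at this
    rw [hbot, Subgroup.mem_bot] at h1
    calc a * b = (a * b * a⁻¹ * b⁻¹) * (b * a) := by group
      _ = b * a := by rw [h1, one_mul]
  -- case (a): `H` of prime power order
  have caseA : ∀ (q : ℕ) [Fact q.Prime], IsPGroup q H → False := by
    intro q hq hHq
    obtain ⟨a, ha, b, hb, hab⟩ := hna
    have hHne : H ≠ ⊥ := by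
      intro hbot
      rw [hbot, Subgroup.mem_bot] at ha hb
      apply hab; rw [ha, hb]
    have hqp : q ≠ p := by
      intro hqp
      subst hqp
      exact hHne (hOp H le_rfl (fun g hg x hx => H.mul_mem (H.mul_mem hg hx) (H.inv_mem hg))
        hσH hτH hHq)
    have hqk : (q : k) ≠ 0 := by
      apply hpk
      rw [Nat.coprime_primes hq.out hp.out]; exact hqp
    -- `q` divides `|H|`
    have hqH : q ∣ Nat.card H := by
      obtain ⟨n, hn⟩ := IsPGroup.iff_card.1 hHq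
      rcases Nat.eq_zero_or_pos n with h0 | hpos
      · exfalso
        rw [h0, pow_zero] at hn
        apply hHne
        exact (Subgroup.card_eq_one).1 hn
      · rw [hn]; exact dvd_pow_self q (Nat.pos_iff_ne_zero.1 hpos)
    have hq6 : q.Coprime 6 := Nat.Coprime.coprime_dvd_left hqH hH6
    have hq2 : q ≠ 2 := by
      rintro rfl
      exact absurd hq6 (by decide)
    have hq3 : q ≠ 3 := by
      rintro rfl
      exact absurd hq6 (by decide)
    have hmin : ∀ Q₀ : Subgroup Γ, Q₀ ≤ H → Q₀ ≠ H → σ ∈ Subgroup.normalizer (Q₀ : Set Γ) →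
        τ ∈ Subgroup.normalizer (Q₀ : Set Γ) → ∀ a ∈ Q₀, ∀ b ∈ Q₀, a * b = b * a := by
      intro Q₀ hQ₀H hQ₀ne hσQ₀ hτQ₀ a ha b hb
      have hp1 := hMin Q₀ hQ₀H hQ₀ne hσQ₀ hτQ₀
      have h1 : a * b * a⁻¹ * b⁻¹ ∈ ⁅Q₀, Q₀⁆ := by
        have := Subgroup.commutator_mem_commutator ha hb
        rwa [commutatorElement_def] at this
      obtain ⟨n, hn⟩ := hp1 ⟨_, h1⟩
      have hn' : (a * b * a⁻¹ * b⁻¹) ^ (p ^ n) = 1 := by
        have := congrArg Subtype.val hn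
        simpa using this
      have hcH : a * b * a⁻¹ * b⁻¹ ∈ H := (Subgroup.commutator_le_self Q₀).trans hQ₀H h1
      obtain ⟨m, hm⟩ := hHq ⟨_, hcH⟩
      have hm' : (a * b * a⁻¹ * b⁻¹) ^ (q ^ m) = 1 := by
        have := congrArg Subtype.val hm
        simpa using this
      have hcop : Nat.Coprime (p ^ n) (q ^ m) := by
        apply Nat.Coprime.pow
        rw [Nat.coprime_primes hp.out hq.out]; exact fun h => hqp h.symm
      have h9 : orderOf (a * b * a⁻¹ * b⁻¹) ∣ 1 := by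
        have := Nat.dvd_gcd (orderOf_dvd_of_pow_eq_one hn') (orderOf_dvd_of_pow_eq_one hm')
        rwa [hcop] at this
      have h2 := orderOf_eq_one_iff.1 (Nat.dvd_one.1 h9)
      calc a * b = (a * b * a⁻¹ * b⁻¹) * (b * a) := by group
        _ = b * a := by rw [h2, one_mul]
    exact hab (comm_of_pgroup ρ h hfix H hHq hqk hq2 hq3 hσH hτH hfaith hCH hmin hIrr a ha b hb)
  -- the derived subgroup
  set D : Subgroup Γ := ⁅H, H⁆ with hDdef
  have hDH : D ≤ H := Subgroup.commutator_le_self H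
  have hHnD : ∀ g ∈ H, g ∈ Subgroup.normalizer (D : Set Γ) := fun g hg =>
    mem_normalizer_commutator (Subgroup.le_normalizer hg) (Subgroup.le_normalizer hg)
  have hDn : ∀ g ∈ H, ∀ x ∈ D, g * x * g⁻¹ ∈ D := fun g hg x hx =>
    conj_mem_of_mem_normalizer' (hHnD g hg) hx
  have hσD : σ ∈ Subgroup.normalizer (D : Set Γ) := mem_normalizer_commutator hσH hσH
  have hτD : τ ∈ Subgroup.normalizer (D : Set Γ) := mem_normalizer_commutator hτH hτH
  have hDne : D ≠ H := by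
    intro hDe
    obtain ⟨a, ha, b, hb, hab⟩ := hna
    haveI : Nontrivial H := by
      refine ⟨⟨⟨a, ha⟩, 1, ?_⟩⟩
      intro h1
      have : a = 1 := congrArg Subtype.val h1
      apply hab
      rw [this]; simp
    have hlt := Group.IsSolvable.commutator_lt_top_of_nontrivial H
    have hmap : (commutator H).map H.subtype = ⁅H, H⁆ := Subgroup.map_subtype_commutator H
    have : (commutator H) = ⊤ := by
      apply Subgroup.map_injective H.subtype_injective
      rw [hmap, ← hDdef, hDe, ← MonoidHom.range_eq_map, H.range_subtype]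
    exact (ne_of_lt hlt) this
  have hDc : ∀ a ∈ D, ∀ b ∈ D, a * b = b * a := hnorm D hDH hDne hDn hσD hτD
  -- `D` has no `p`-torsion
  have hDp : (Nat.card D).Coprime p := by
    rw [Nat.coprime_comm, Nat.Prime.coprime_iff_not_dvd hp.out]
    intro hdvd
    obtain ⟨x, hx⟩ := exists_prime_orderOf_dvd_card' p hdvd
    have hP := hOp (powKer D hDc p) ((powKer_le D hDc p).trans hDH)
      (fun g hg y hy => conj_mem_of_mem_normalizer'
        (mem_normalizer_powKer D hDc p (hHnD g hg)) hy)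
      (mem_normalizer_powKer D hDc p hσD) (mem_normalizer_powKer D hDc p hτD)
      (by
        rintro ⟨y, hy⟩
        refine ⟨1, ?_⟩
        apply Subtype.ext
        rw [pow_one]
        simpa using hy.2)
    have hxm : (x : Γ) ∈ powKer D hDc p := by
      refine ⟨x.2, ?_⟩
      have := pow_orderOf_eq_one x
      rw [hx] at this
      have h2 := congrArg Subtype.val this
      simpa using h2
    rw [hP, Subgroup.mem_bot] at hxm
    have hx1 : x = 1 := Subtype.ext hxm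
    rw [hx1, orderOf_one] at hx
    exact hp.out.one_lt.ne hx
  by_cases hcent : ∀ d ∈ D, ∀ x ∈ H, d * x = x * d
  · -- central derived subgroup
    obtain ⟨q, hq, hHq⟩ := isPGroup_of_central_commutator H hσH hτH hcent hna hnorm
    exact caseA q hHq
  push Not at hcent
  obtain ⟨d₀, hd₀, x₀, hx₀, hdx₀⟩ := hcent
  -- the centraliser of `D`
  have hCne : centIn H D ≠ H := by
    intro hC
    have : x₀ ∈ centIn H D := by rw [hC]; exact hx₀
    exact hdx₀ (this.2 d₀ hd₀).symm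
  obtain ⟨r, hr, hrS⟩ := exists_prime_sylow_not_le H (centIn H D) (fun x hx => hx.1) hCne
  -- the `r`-part and the `r'`-part of `D`
  have hcardD : Nat.card D ≠ 0 := Nat.card_pos.ne'
  have hsplit : Nat.card D = ordProj[r] (Nat.card D) * ordCompl[r] (Nat.card D) :=
    (Nat.ordProj_mul_ordCompl_eq_self _ r).symm
  have hcopD : Nat.Coprime (ordProj[r] (Nat.card D)) (ordCompl[r] (Nat.card D)) :=
    Nat.Coprime.pow_left _ (Nat.coprime_ordCompl hr.out hcardD)
  set Dr := powKer D hDc (ordProj[r] (Nat.card D)) with hDr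
  set N₀ := powKer D hDc (ordCompl[r] (Nat.card D)) with hN₀
  have hDrp : IsPGroup r Dr := by
    rintro ⟨y, hy⟩
    refine ⟨(Nat.card D).factorization r, ?_⟩
    apply Subtype.ext
    simpa using hy.2
  have hAH : A ≤ Subgroup.normalizer (H : Set Γ) := hAle H hσH hτH
  obtain ⟨P, hDrP, hAP⟩ := Cfsg.Agent.Helper1.exists_invariant_sylow_ge (p := r) A H hAH
    (hcopA H le_rfl) (Or.inr hsolv) Dr ((powKer_le D hDc _).trans hDH) hDrp
    (hAle Dr (mem_normalizer_powKer D hDc _ hσD) (mem_normalizer_powKer D hDc _ hτD))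
  set R₀ : Subgroup Γ := (P : Subgroup H).map H.subtype with hR₀
  have hR₀H : R₀ ≤ H := Subgroup.map_subtype_le _
  have hσA : σ ∈ A := Subgroup.subset_closure (by simp)
  have hτA : τ ∈ A := Subgroup.subset_closure (by simp)
  have hσR₀ : σ ∈ Subgroup.normalizer (R₀ : Set Γ) := hAP hσA
  have hτR₀ : τ ∈ Subgroup.normalizer (R₀ : Set Γ) := hAP hτA
  have hR₀p : IsPGroup r R₀ := by
    have h1 : IsPGroup r (P : Subgroup H) := P.isPGroup'
    exact h1.map H.subtype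
  have hR₀C : ¬ R₀ ≤ centIn H D := hrS P
  by_cases hR₀e : R₀ = H
  · exact caseA r (hR₀e ▸ hR₀p)
  -- `R₀` is abelian
  have hR₀c : ∀ a ∈ R₀, ∀ b ∈ R₀, a * b = b * a := by
    intro a ha b hb
    apply comm_eq_one_of_isPGroup R₀ D (hMin R₀ hR₀H hR₀e hσR₀ hτR₀) hDp ha hb
    have := Subgroup.commutator_mem_commutator (hR₀H ha) (hR₀H hb)
    rwa [commutatorElement_def] at this
  -- `R₀` does not centralise `N₀`
  have hRN₀ne : ∃ x ∈ R₀, ∃ n ∈ N₀, x * n ≠ n * x := by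
    by_contra hcon
    push Not at hcon
    apply hR₀C
    intro x hx
    refine ⟨hR₀H hx, fun d hd => ?_⟩
    obtain ⟨a, ha, b, hb, rfl⟩ := exists_mul_of_coprime D hDc hcopD hsplit hd
    have h1 : x * a = a * x := hR₀c x hx a (hDrP ha)
    have h2 : x * b = b * x := hcon x hx b hb
    calc x * (a * b) = (x * a) * b := by group
      _ = a * (x * b) := by rw [h1]; group
      _ = a * b * x := by rw [h2]; group
  -- the subgroup `N`
  have hN₀D : N₀ ≤ D := powKer_le D hDc _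
  haveI : IsMulCommutative N₀ :=
    ⟨⟨fun a b => Subtype.ext (hDc a (hN₀D a.2) b (hN₀D b.2))⟩⟩
  have hHN₀ : ∀ g ∈ H, g ∈ Subgroup.normalizer (N₀ : Set Γ) := fun g hg =>
    mem_normalizer_powKer D hDc _ (hHnD g hg)
  have hR₀N₀ : R₀ ≤ Subgroup.normalizer (N₀ : Set Γ) := fun x hx => hHN₀ x (hR₀H hx)
  have hσN₀ : σ ∈ Subgroup.normalizer (N₀ : Set Γ) := mem_normalizer_powKer D hDc _ hσD
  have hτN₀ : τ ∈ Subgroup.normalizer (N₀ : Set Γ) := mem_normalizer_powKer D hDc _ hτD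
  set N : Subgroup Γ := avgKer N₀ R₀ hR₀N₀ with hNdef
  have hNN₀ : N ≤ N₀ := avgKer_le N₀ R₀ hR₀N₀
  have hND : N ≤ D := hNN₀.trans hN₀D
  have hNH : N ≤ H := hND.trans hDH
  haveI : IsMulCommutative N :=
    ⟨⟨fun a b => Subtype.ext (hDc a (hND a.2) b (hND b.2))⟩⟩
  have hNc : ∀ a ∈ N, ∀ b ∈ N, a * b = b * a := fun a ha b hb => hDc a (hND ha) b (hND hb)
  have hR₀N : R₀ ≤ Subgroup.normalizer (N : Set Γ) := le_normalizer_avgKer N₀ R₀ hR₀N₀
  have hσN : σ ∈ Subgroup.normalizer (N : Set Γ) := mem_normalizer_avgKer N₀ R₀ hR₀N₀ hσN₀ hσR₀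
  have hτN : τ ∈ Subgroup.normalizer (N : Set Γ) := mem_normalizer_avgKer N₀ R₀ hR₀N₀ hτN₀ hτR₀
  -- cardinalities
  have hN₀r : (Nat.card N₀).Coprime r :=
    card_powKer_coprime D hDc _ (Nat.not_dvd_ordCompl hr.out hcardD)
  have hNr : (Nat.card N).Coprime r :=
    Nat.Coprime.coprime_dvd_left (Subgroup.card_dvd_of_le hNN₀) hN₀r
  have hNp : (Nat.card N).Coprime p :=
    Nat.Coprime.coprime_dvd_left (Subgroup.card_dvd_of_le hND) hDp
  have hN6 : (Nat.card N).Coprime 6 :=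
    Nat.Coprime.coprime_dvd_left (Subgroup.card_dvd_of_le hNH) hH6
  have hcardR : ∀ L : Subgroup Γ, L ≤ R₀ → (Nat.card N₀).Coprime (Nat.card L) := by
    intro L hL
    obtain ⟨j, hj⟩ := IsPGroup.iff_card.1 (hR₀p.to_le hL)
    rw [hj]
    exact Nat.Coprime.pow_right _ hN₀r
  -- `R₀` does not centralise `N`
  have hNR₀ne : ∃ x ∈ R₀, ∃ n ∈ N, x * n ≠ n * x := by
    obtain ⟨x, hx, n, hn, hxn⟩ := hRN₀ne
    by_contra hcon
    push Not at hcon
    apply hxn
    have he : n⁻¹ * (x * n * x⁻¹) ∈ N := comm_mem_avgKer N₀ R₀ hR₀N₀ hn hx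
    obtain ⟨heN₀, h1⟩ := (mem_avgKer N₀ R₀ hR₀N₀).1 he
    have h2 := avg_of_fixed N₀ R₀ hR₀N₀ ⟨_, heN₀⟩ (fun l hl => hcon l hl _ he)
    rw [h1] at h2
    have h3 : (n⁻¹ * (x * n * x⁻¹)) ^ Fintype.card R₀ = 1 := by
      have := congrArg Subtype.val h2
      simpa using this.symm
    have h4 : (n⁻¹ * (x * n * x⁻¹)) ^ Nat.card N₀ = 1 := by
      have h5 : (⟨_, heN₀⟩ : N₀) ^ Nat.card N₀ = 1 := pow_card_eq_one'
      have h6 := congrArg Subtype.val h5
      rw [Subgroup.coe_pow, Subgroup.coe_one] at h6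
      exact h6
    have h7 : orderOf (n⁻¹ * (x * n * x⁻¹)) ∣ 1 := by
      have := Nat.dvd_gcd (orderOf_dvd_of_pow_eq_one h4) (orderOf_dvd_of_pow_eq_one h3)
      rwa [← Nat.card_eq_fintype_card, hcardR R₀ le_rfl] at this
    have h8 := orderOf_eq_one_iff.1 (Nat.dvd_one.1 h7)
    calc x * n = n * (n⁻¹ * (x * n * x⁻¹)) * x := by group
      _ = n * x := by rw [h8, mul_one]
  -- commutators between `N` and subgroups with `p`-group derived subgroups
  have hkill : ∀ K : Subgroup Γ, N ≤ K → IsPGroup p (⁅K, K⁆ : Subgroup Γ) →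
      ∀ x ∈ K, x ∈ Subgroup.normalizer (N : Set Γ) → ∀ n ∈ N, x * n = n * x := by
    intro K hNK hK x hx hxN n hn
    apply comm_eq_one_of_isPGroup K D hK hDp hx (hNK hn)
    have h1 : x * n * x⁻¹ ∈ N := conj_mem_of_mem_normalizer' hxN hn
    exact hND (N.mul_mem h1 (N.inv_mem hn))
  -- `H = N R₀`
  have hσsup : ∀ R₁ : Subgroup Γ, σ ∈ Subgroup.normalizer (R₁ : Set Γ) →
      σ ∈ Subgroup.normalizer ((N ⊔ R₁ : Subgroup Γ) : Set Γ) :=
    fun R₁ h1 => mem_normalizer_sup hσN h1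
  have hτsup : ∀ R₁ : Subgroup Γ, τ ∈ Subgroup.normalizer (R₁ : Set Γ) →
      τ ∈ Subgroup.normalizer ((N ⊔ R₁ : Subgroup Γ) : Set Γ) :=
    fun R₁ h1 => mem_normalizer_sup hτN h1
  have hsup : N ⊔ R₀ = H := by
    by_contra hne
    obtain ⟨x, hx, n, hn, hxn⟩ := hNR₀ne
    have hK := hMin (N ⊔ R₀) (sup_le hNH hR₀H) hne (hσsup R₀ hσR₀) (hτsup R₀ hτR₀)
    exact hxn (hkill (N ⊔ R₀) le_sup_left hK x (Subgroup.mem_sup_right hx) (hR₀N hx) n hn)
  have hdisj : N ⊓ R₀ = ⊥ := by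
    rw [← disjoint_iff]
    apply Subgroup.disjoint_of_coprime_natCard
    obtain ⟨j, hj⟩ := IsPGroup.iff_card.1 hR₀p
    rw [hj]
    exact Nat.Coprime.pow_right _ hNr
  have hRmin : ∀ R₁ : Subgroup Γ, R₁ ≤ R₀ → R₁ ≠ R₀ → σ ∈ Subgroup.normalizer (R₁ : Set Γ) →
      τ ∈ Subgroup.normalizer (R₁ : Set Γ) → ∀ x ∈ R₁, ∀ n ∈ N, x * n = n * x := by
    intro R₁ hR₁ hR₁ne hσR₁ hτR₁ x hx n hn
    have hne : N ⊔ R₁ ≠ H := by
      rw [← hsup]
      exact sup_ne_of_ne hR₁ hR₁ne hdisj (hR₁.trans hR₀N)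
    have hK := hMin (N ⊔ R₁) (sup_le hNH (hR₁.trans hR₀H)) hne (hσsup R₁ hσR₁) (hτsup R₁ hτR₁)
    exact hkill (N ⊔ R₁) le_sup_left hK x (Subgroup.mem_sup_right hx) (hR₀N (hR₁ hx)) n hn
  -- the hypotheses of case (b)
  obtain ⟨hNk, hNroots⟩ := roots_of_coprime hpk N hNp
  haveI := hNroots
  have hrH : r ∣ Nat.card H := by
    have hne : R₀ ≠ ⊥ := by
      intro hbot
      obtain ⟨x, hx, n, hn, hxn⟩ := hNR₀ne
      rw [hbot, Subgroup.mem_bot] at hx
      apply hxn; rw [hx]; simp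
    obtain ⟨j, hj⟩ := IsPGroup.iff_card.1 hR₀p
    rcases Nat.eq_zero_or_pos j with h0 | hpos
    · exfalso
      rw [h0, pow_zero] at hj
      exact hne ((Subgroup.card_eq_one).1 hj)
    · have h1 : r ∣ Nat.card R₀ := by rw [hj]; exact dvd_pow_self r (Nat.pos_iff_ne_zero.1 hpos)
      exact h1.trans (Subgroup.card_dvd_of_le hR₀H)
  have hr6 : r.Coprime 6 := Nat.Coprime.coprime_dvd_left hrH hH6
  have hr2 : r ≠ 2 := by
    rintro rfl
    exact absurd hr6 (by decide)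
  have hr3 : r ≠ 3 := by
    rintro rfl
    exact absurd hr6 (by decide)
  have hIrr' : ∀ E : Subgroup Γ, E ≤ N → E ≠ ⊥ → R₀ ≤ Subgroup.normalizer (E : Set Γ) →
      σ ∈ Subgroup.normalizer (E : Set Γ) → τ ∈ Subgroup.normalizer (E : Set Γ) →
      ∀ w : W, (∀ e ∈ E, ρ e w = w) → w = 0 := by
    intro E hEN hEne hR₀E hσE hτE
    apply hIrr E (hEN.trans hNH) hEne _ hσE hτE
    intro g hg e he
    rw [← hsup] at hg
    obtain ⟨n, hn, x, hx, rfl⟩ := Cfsg.Agent.Helper1.mem_sup_of_le_normalizer hR₀N hg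
    have h1 : x * e * x⁻¹ ∈ E := conj_mem_of_mem_normalizer' (hR₀E hx) he
    have h2 : n * (x * e * x⁻¹) = (x * e * x⁻¹) * n := hNc n hn _ (hEN h1)
    have : n * x * e * (n * x)⁻¹ = x * e * x⁻¹ := by
      calc n * x * e * (n * x)⁻¹ = (n * (x * e * x⁻¹)) * n⁻¹ := by group
        _ = x * e * x⁻¹ := by rw [h2]; group
    rw [this]; exact h1
  have hπ : ∀ n : N, avg N R₀ hR₀N n = 1 := fun n =>
    avg_eq_one_of_mem_avgKer N₀ R₀ hR₀N₀ N hNN₀ hR₀N n n.2
  exact false_of_abelian_pair ρ h hfix N R₀ hR₀c hNk hN6 hR₀p hr2 hr3 hNr hσN hτN hσR₀ hτR₀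
    hR₀N (fun n hn => hfaith n (hNH hn)) (fun n hn => hCH n (hNH hn))
    (fun x hx => hCH x (hR₀H hx)) hπ hRmin hNR₀ne hIrr'

end main

end Cfsg.Agent.Lead.S3F
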