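import Cfsg.Agent.Lead.S3fBr1
import Cfsg.Agent.Lead.S3fBr3
import Cfsg.Agent.Lead.S3fM4

/-!
S4305: the inductive step, for a minimal normal subgroup that is normal in the ambient group.
-/

set_option autoImplicit false
set_option linter.style.haveILetI false
set_option linter.unusedSectionVars false

namespace Cfsg.Agent.Lead.S3F

universe u

open scoped commutatorElement

/-- the inductive step. -/
theorem step {Γ : Type u} [Group Γ] [Finite Γ] (G V : Subgroup Γ) [hVn : V.Normal] (σ τ : Γ)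
    (hcfg : Cfg G σ τ) (hVG : V ≤ G) (hVne : V ≠ ⊥)
    (hVmin : ∀ U : Subgroup Γ, U ≤ V → U ≠ ⊥ → (∀ g ∈ G, ∀ x ∈ U, g * x * g⁻¹ ∈ U) →
      (∀ x ∈ U, σ * x * σ⁻¹ ∈ U) → (∀ x ∈ U, τ * x * τ⁻¹ ∈ U) → V ≤ U)
    (IH : ∀ (Γ' : Type u) [Group Γ'] [Finite Γ'] (G' : Subgroup Γ') (σ' τ' : Γ'),
      Nat.card G' < Nat.card G → Cfg G' σ' τ' → Nilp G') :
    Nilp G := by
  classical
  haveI := hcfg.solv
  have hVs : Group.IsSolvable V :=
    Group.isSolvable_of_isSolvable_injective (f := Subgroup.inclusion hVG)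
      (Subgroup.inclusion_injective hVG)
  obtain ⟨p, hp, hpV, hVc, hVp⟩ := elementary_of_minimal V hVs hVne
    (fun U hUn hUV hUne => hVmin U hUV hUne (fun g _ x hx => hUn.conj_mem x hx g)
      (fun x hx => hUn.conj_mem x hx σ) (fun x hx => hUn.conj_mem x hx τ))
  haveI : Fact p.Prime := ⟨hp⟩
  obtain ⟨k, ik1, ik2, W, iW1, iW2, ρ, hpk, hfaith, hfixρ⟩ := exists_rep p V
    (fun a b => Subtype.ext (hVc a a.2 b b.2))
    (fun v => Subtype.ext (by
      rw [Subgroup.coe_pow, Subgroup.coe_one]; exact hVp v v.2))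
  letI : Fintype (MulAut V) := Fintype.ofFinite _
  obtain ⟨φ, hφ⟩ : ∃ φ : Γ →* MulAut V, φ = MulAut.conjNormal := ⟨_, rfl⟩
  have hφa : ∀ (g : Γ) (v : V), ((φ g) v : Γ) = g * v * g⁻¹ := by
    intro g v; rw [hφ, MulAut.conjNormal_apply]
  have hφ1 : ∀ g, φ g = 1 → ∀ v ∈ V, g * v * g⁻¹ = v := by
    intro g hg v hv
    have := hφa g ⟨v, hv⟩
    rw [hg, MulAut.one_apply] at this
    exact this.symm
  have hcfgH := hcfg.map φ
  obtain ⟨H, hH⟩ : ∃ H : Subgroup (MulAut V), H = G.map φ := ⟨_, rfl⟩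
  rw [← hH] at hcfgH
  -- fixed points
  have hfix : NoFix ρ (φ σ) (φ τ) := by
    intro w h1 h2
    refine hfixρ {φ σ, φ τ} ?_ w ?_
    · intro v hv
      have h3 := hv (φ σ) (by simp)
      have h4 := hv (φ τ) (by simp)
      have := hcfg.fpf v (hVG v.2) (by rw [← hφa, h3]) (by rw [← hφa, h4])
      exact Subtype.ext this
    · intro x hx
      rcases hx with rfl | rfl
      · exact h1
      · exact h2
  -- invariant subgroups of automorphisms with nontrivial fixed points are trivial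
  have hminE : ∀ E : Subgroup (MulAut V), (∀ g ∈ H, ∀ x ∈ E, g * x * g⁻¹ ∈ E) →
      φ σ ∈ Subgroup.normalizer (E : Set (MulAut V)) →
      φ τ ∈ Subgroup.normalizer (E : Set (MulAut V)) →
      fixV V (E : Set (MulAut V)) ≠ ⊥ → E = ⊥ := by
    intro E hEn hσE hτE hne
    have hV := hVmin (fixV V (E : Set (MulAut V))) (fixV_le V _) hne ?_ ?_ ?_
    · rw [eq_bot_iff]
      intro e he
      rw [Subgroup.mem_bot]
      exact eq_one_of_le_fixV V _ hV e he
    · intro g hg
      apply conj_mem_fixV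
      intro e he
      have h1 : (φ g)⁻¹ ∈ H := by
        rw [hH]; exact Subgroup.inv_mem _ ⟨g, hg, rfl⟩
      have := hEn _ h1 e he
      rw [inv_inv] at this
      rw [← hφ]; exact this
    · apply conj_mem_fixV
      intro e he
      have := conj_mem_of_mem_normalizer' (Subgroup.inv_mem _ hσE) he
      rw [inv_inv] at this
      rw [← hφ]; exact this
    · apply conj_mem_fixV
      intro e he
      have := conj_mem_of_mem_normalizer' (Subgroup.inv_mem _ hτE) he
      rw [inv_inv] at this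
      rw [← hφ]; exact this
  have hIrr : ∀ E : Subgroup (MulAut V), E ≤ H → E ≠ ⊥ → (∀ g ∈ H, ∀ x ∈ E, g * x * g⁻¹ ∈ E) →
      φ σ ∈ Subgroup.normalizer (E : Set (MulAut V)) →
      φ τ ∈ Subgroup.normalizer (E : Set (MulAut V)) →
      ∀ w : W, (∀ e ∈ E, ρ e w = w) → w = 0 := by
    intro E _ hEne hEn hσE hτE w hw
    refine hfixρ (E : Set (MulAut V)) ?_ w hw
    intro v hv
    by_contra hv1
    apply hEne
    apply hminE E hEn hσE hτE
    intro hbot
    have h1 : (v : Γ) ∈ fixV V (E : Set (MulAut V)) := ⟨v.2, fun e he => hv e he⟩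
    rw [hbot, Subgroup.mem_bot] at h1
    exact hv1 (Subtype.ext h1)
  have hOp : ∀ P : Subgroup (MulAut V), P ≤ H → (∀ g ∈ H, ∀ x ∈ P, g * x * g⁻¹ ∈ P) →
      φ σ ∈ Subgroup.normalizer (P : Set (MulAut V)) →
      φ τ ∈ Subgroup.normalizer (P : Set (MulAut V)) → IsPGroup p P → P = ⊥ := by
    intro P _ hPn hσP hτP hPp
    apply hminE P hPn hσP hτP
    have h1 : (1 : V) ∈ MulAction.fixedPoints P V := fun e => map_one (e : MulAut V)
    obtain ⟨b, hb, hb1⟩ := hPp.exists_fixed_point_of_prime_dvd_card_of_fixed_point V hpV h1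
    intro hbot
    have h2 : (b : Γ) ∈ fixV V (P : Set (MulAut V)) := ⟨b.2, fun e he => hb ⟨e, he⟩⟩
    rw [hbot, Subgroup.mem_bot] at h2
    exact hb1 (Subtype.ext h2.symm)
  have hMin : ∀ H₀ : Subgroup (MulAut V), H₀ ≤ H → H₀ ≠ H →
      φ σ ∈ Subgroup.normalizer (H₀ : Set (MulAut V)) →
      φ τ ∈ Subgroup.normalizer (H₀ : Set (MulAut V)) →
      IsPGroup p (⁅H₀, H₀⁆ : Subgroup (MulAut V)) := by
    intro H₀ hH₀ hne hσ₀ hτ₀
    obtain ⟨G₀, hG₀⟩ : ∃ G₀ : Subgroup Γ, G₀ = G ⊓ H₀.comap φ := ⟨_, rfl⟩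
    have hG₀G : G₀ ≤ G := by rw [hG₀]; exact inf_le_left
    have hmap : G₀.map φ = H₀ := by
      apply le_antisymm
      · rintro _ ⟨g, hg, rfl⟩
        rw [hG₀] at hg
        exact (Subgroup.mem_inf.1 hg).2
      · intro x hx
        have := hH₀ hx
        rw [hH] at this
        obtain ⟨g, hg, rfl⟩ := this
        refine ⟨g, ?_, rfl⟩
        rw [hG₀]
        exact Subgroup.mem_inf.2 ⟨hg, hx⟩
    have hlt : Nat.card G₀ < Nat.card G := by
      by_contra hge
      push Not at hge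
      have := Subgroup.eq_of_le_of_card_ge hG₀G hge
      apply hne
      rw [← hmap, this, hH]
    have hnorm : ∀ a : Γ, a ∈ Subgroup.normalizer (G : Set Γ) →
        φ a ∈ Subgroup.normalizer (H₀ : Set (MulAut V)) →
        a ∈ Subgroup.normalizer (G₀ : Set Γ) := by
      intro a ha ha'
      apply mem_normalizer_of_conj_mem
      intro x hx
      rw [hG₀] at hx ⊢
      replace hx := Subgroup.mem_inf.1 hx
      refine Subgroup.mem_inf.2 ⟨conj_mem_of_mem_normalizer' ha hx.1, ?_⟩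
      rw [Subgroup.mem_comap]
      simp only [map_mul, map_inv]
      exact conj_mem_of_mem_normalizer' ha' hx.2
    have hcfg₀ : Cfg G₀ σ τ := hcfg.sub hG₀G (hnorm σ hcfg.hσ hσ₀) (hnorm τ hcfg.hτ hτ₀)
    have hnil := IH Γ G₀ σ τ hlt hcfg₀
    have hVG₀ : V ≤ G₀ := by
      intro v hv
      rw [hG₀]
      refine Subgroup.mem_inf.2 ⟨hVG hv, ?_⟩
      rw [Subgroup.mem_comap]
      have : φ v = 1 := by
        ext u
        rw [hφa, MulAut.one_apply, hVc v hv u u.2]
        group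
      rw [this]
      exact H₀.one_mem
    have := isPGroup_map_conjNormal V hVc hVp G₀ hVG₀ hnil
    rw [← hφ, Subgroup.map_commutator, hmap] at this
    exact this
  have key := comm_of_min_config ρ hpk hcfgH.rel hfix hcfgH.cardA H hcfgH.hσ hcfgH.hτ
    hcfgH.solv hcfgH.cop hcfgH.fpf (fun x _ => hfaith x) hIrr hOp hMin
  -- the derived subgroup centralizes `V`
  have hKV : ∀ x ∈ (⁅G, G⁆ : Subgroup Γ), ∀ v ∈ V, x * v * x⁻¹ = v := by
    have h1 : (⁅G, G⁆ : Subgroup Γ).map φ = ⊥ := by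
      rw [Subgroup.map_commutator, ← hH, Subgroup.commutator_eq_bot_iff_le_centralizer]
      intro a ha
      rw [Subgroup.mem_centralizer_iff]
      intro b hb
      exact key b hb a ha
    intro x hx
    have h2 : φ x ∈ (⁅G, G⁆ : Subgroup Γ).map φ := ⟨x, hx, rfl⟩
    rw [h1, Subgroup.mem_bot] at h2
    exact hφ1 x h2
  -- the quotient
  obtain ⟨π, hπ⟩ : ∃ π : Γ →* Γ ⧸ V, π = QuotientGroup.mk' V := ⟨_, rfl⟩
  have hcfgQ := hcfg.map π
  have hlt : Nat.card (G.map π) < Nat.card G := by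
    by_contra hge
    push Not at hge
    have hbij := Function.Surjective.bijective_of_nat_card_le
      (π.subgroupMap_surjective G) hge
    obtain ⟨v, hv1⟩ := (Subgroup.ne_bot_iff_exists_ne_one).1 hVne
    have h1 : π.subgroupMap G ⟨v, hVG v.2⟩ = π.subgroupMap G 1 := by
      apply Subtype.ext
      rw [map_one]
      change π (v : Γ) = 1
      rw [hπ, QuotientGroup.mk'_apply, QuotientGroup.eq_one_iff]
      exact v.2
    have h2 := hbij.1 h1
    apply hv1
    have h3 := congrArg Subtype.val h2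
    exact Subtype.ext h3
  obtain ⟨c, hc⟩ := IH (Γ ⧸ V) (G.map π) (π σ) (π τ) hlt hcfgQ
  refine ⟨c + 1, ?_⟩
  have h2 : (⁅G, G⁆ : Subgroup Γ).lowerCentralSeries c ≤ V := by
    have h3 : ((⁅G, G⁆ : Subgroup Γ).lowerCentralSeries c).map π = ⊥ := by
      rw [Subgroup.map_lowerCentralSeries, Subgroup.map_commutator]; exact hc
    have := (Subgroup.map_eq_bot_iff _).1 h3
    rwa [hπ, QuotientGroup.ker_mk'] at this
  rw [Subgroup.lowerCentralSeries_succ, Subgroup.commutator_eq_bot_iff_le_centralizer]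
  intro x hx
  rw [Subgroup.mem_centralizer_iff]
  intro y hy
  have := hKV y hy x (h2 hx)
  calc y * x = (y * x * y⁻¹) * y := by group
    _ = x * y := by rw [this]

end Cfsg.Agent.Lead.S3F
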