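import Cfsg.Agent.Lead.S3fBr4

/-!
S4305: the induction and the translation to an action of the symmetric group of degree 3.
-/

set_option autoImplicit false
set_option linter.style.haveILetI false
set_option linter.unusedSectionVars false

namespace Cfsg.Agent.Lead.S3F

universe u

/-- the induction on the order of `G`. -/
theorem nilp_of_cfg_aux : ∀ n : ℕ, ∀ (Γ : Type u) [Group Γ] [Finite Γ] (G : Subgroup Γ) (σ τ : Γ),
    Nat.card G = n → Cfg G σ τ → Nilp G := by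
  intro n
  induction n using Nat.strong_induction_on with
  | _ n ih =>
    intro Γ _ _ G σ τ hn hcfg
    by_cases hG : G = ⊥
    · refine ⟨0, ?_⟩
      rw [Subgroup.lowerCentralSeries_zero, hG, Subgroup.commutator_bot_left]
    classical
    obtain ⟨𝒮, h𝒮⟩ : ∃ 𝒮 : Set (Subgroup Γ), 𝒮 = {U | U ≤ G ∧ U ≠ ⊥ ∧
        (∀ g ∈ G, ∀ x ∈ U, g * x * g⁻¹ ∈ U) ∧ (∀ x ∈ U, σ * x * σ⁻¹ ∈ U) ∧
        (∀ x ∈ U, τ * x * τ⁻¹ ∈ U)} := ⟨_, rfl⟩
    have hG𝒮 : G ∈ 𝒮 := by
      rw [h𝒮]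
      exact ⟨le_rfl, hG, fun g hg x hx => G.mul_mem (G.mul_mem hg hx) (G.inv_mem hg),
        fun x hx => conj_mem_of_mem_normalizer' hcfg.hσ hx,
        fun x hx => conj_mem_of_mem_normalizer' hcfg.hτ hx⟩
    obtain ⟨V, hV𝒮, hVmin⟩ := WellFounded.has_min
      (measure (fun U : Subgroup Γ => Nat.card U)).wf 𝒮 ⟨G, hG𝒮⟩
    have hVmin' : ∀ U : Subgroup Γ, U ≤ V → U ≠ ⊥ → (∀ g ∈ G, ∀ x ∈ U, g * x * g⁻¹ ∈ U) →
        (∀ x ∈ U, σ * x * σ⁻¹ ∈ U) → (∀ x ∈ U, τ * x * τ⁻¹ ∈ U) → V ≤ U := by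
      intro U hUV hUne h1 h2 h3
      have hU𝒮 : U ∈ 𝒮 := by
        rw [h𝒮] at hV𝒮 ⊢
        exact ⟨hUV.trans hV𝒮.1, hUne, h1, h2, h3⟩
      have h4 : ¬ Nat.card U < Nat.card V := hVmin U hU𝒮
      have heq := Subgroup.eq_of_le_of_card_ge hUV (not_lt.1 h4)
      rw [heq]
    rw [h𝒮] at hV𝒮
    obtain ⟨hVG, hVne, hVGn, hVσ, hVτ⟩ := hV𝒮
    obtain ⟨N, hN⟩ : ∃ N : Subgroup Γ, N = Subgroup.normalizer (V : Set Γ) := ⟨_, rfl⟩
    have hGN : G ≤ N := fun g hg => by
      rw [hN]; exact mem_normalizer_of_conj_mem V g (hVGn g hg)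
    have hσN : σ ∈ N := by rw [hN]; exact mem_normalizer_of_conj_mem V σ hVσ
    have hτN : τ ∈ N := by rw [hN]; exact mem_normalizer_of_conj_mem V τ hVτ
    have hVN : V ≤ N := hVG.trans hGN
    have hcfg₁ := hcfg.comap_subtype N hGN hσN hτN
    haveI : (V.subgroupOf N).Normal := by
      rw [hN]; exact Subgroup.normal_in_normalizer
    apply Nilp.of_subgroupOf hGN
    apply step (G.subgroupOf N) (V.subgroupOf N) ⟨σ, hσN⟩ ⟨τ, hτN⟩ hcfg₁
    · intro x hx
      rw [Subgroup.mem_subgroupOf] at hx ⊢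
      exact hVG hx
    · intro hbot
      obtain ⟨v, hv1⟩ := (Subgroup.ne_bot_iff_exists_ne_one).1 hVne
      have h1 : (⟨v, hVN v.2⟩ : N) ∈ V.subgroupOf N := by
        rw [Subgroup.mem_subgroupOf]; exact v.2
      rw [hbot, Subgroup.mem_bot] at h1
      apply hv1
      apply Subtype.ext
      have h2 : ((⟨v, hVN v.2⟩ : N) : Γ) = ((1 : N) : Γ) := congrArg Subtype.val h1
      exact h2
    · intro U₁ hU₁V hU₁ne h1 h2 h3
      have h4 := hVmin' (U₁.map N.subtype) ?_ ?_ ?_ ?_ ?_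
      · intro x hx
        rw [Subgroup.mem_subgroupOf] at hx
        obtain ⟨u, hu, hux⟩ := h4 hx
        have : u = x := Subtype.ext hux
        rwa [this] at hu
      · rintro _ ⟨u, hu, rfl⟩
        exact Subgroup.mem_subgroupOf.1 (hU₁V hu)
      · rw [Ne, Subgroup.map_eq_bot_iff_of_injective _ N.subtype_injective]
        exact hU₁ne
      · rintro g hg _ ⟨u, hu, rfl⟩
        exact ⟨⟨g, hGN hg⟩ * u * ⟨g, hGN hg⟩⁻¹,
          h1 ⟨g, hGN hg⟩ (Subgroup.mem_subgroupOf.2 hg) u hu, rfl⟩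
      · rintro _ ⟨u, hu, rfl⟩
        exact ⟨⟨σ, hσN⟩ * u * ⟨σ, hσN⟩⁻¹, h2 u hu, rfl⟩
      · rintro _ ⟨u, hu, rfl⟩
        exact ⟨⟨τ, hτN⟩ * u * ⟨τ, hτN⟩⁻¹, h3 u hu, rfl⟩
    · intro Γ' _ _ G' σ' τ' hlt hcfg'
      have hcard : Nat.card (G.subgroupOf N) = n := by
        rw [Nat.card_congr (Subgroup.subgroupOfEquivOfLe hGN).toEquiv, hn]
      exact ih (Nat.card G') (by rw [← hcard]; exact hlt) Γ' G' σ' τ' rfl hcfg'

/-- **The group-level theorem.** -/
theorem nilp_of_cfg {Γ : Type u} [Group Γ] [Finite Γ] (G : Subgroup Γ) (σ τ : Γ)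
    (hcfg : Cfg G σ τ) : Nilp G :=
  nilp_of_cfg_aux _ Γ G σ τ rfl hcfg

/-- **S4305**: a solvable group of order prime to 6 on which the symmetric group of degree 3
acts without fixed points has a nilpotent derived subgroup. -/
theorem nilpotent_commutator_of_perm3 {G : Type u} [Group G] [Finite G] [Group.IsSolvable G]
    [MulDistribMulAction (Equiv.Perm (Fin 3)) G] (hcop : (Nat.card G).Coprime 6)
    (hfpf : ∀ g : G, (∀ a : Equiv.Perm (Fin 3), a • g = g) → g = 1) :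
    Group.IsNilpotent (commutator G) := by
  obtain ⟨φ, hφ⟩ : ∃ φ : Equiv.Perm (Fin 3) →* MulAut G,
      φ = MulDistribMulAction.toMulAut (Equiv.Perm (Fin 3)) G := ⟨_, rfl⟩
  have hφa : ∀ (a : Equiv.Perm (Fin 3)) (x : G), φ a x = a • x := fun a x => by rw [hφ]; rfl
  haveI hfinX : Finite (G ⋊[φ] Equiv.Perm (Fin 3)) :=
    Finite.of_equiv _ (SemidirectProduct.equivProd (φ := φ)).symm
  obtain ⟨s, hs⟩ : ∃ s : Equiv.Perm (Fin 3), s = Equiv.swap 0 1 * Equiv.swap 1 2 := ⟨_, rfl⟩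
  obtain ⟨t, ht⟩ : ∃ t : Equiv.Perm (Fin 3), t = Equiv.swap 0 1 := ⟨_, rfl⟩
  have hrel : S3Rel s t := by
    rw [hs, ht]
    refine ⟨by decide, by decide, by decide⟩
  have hall : ∀ a : Equiv.Perm (Fin 3),
      a = 1 ∨ a = s ∨ a = s * s ∨ a = t ∨ a = s * t ∨ a = s * s * t := by
    rw [hs, ht]
    decide
  have hcard6 : Nat.card (Equiv.Perm (Fin 3)) = 6 := by
    rw [Nat.card_eq_fintype_card, Fintype.card_perm, Fintype.card_fin]
    rfl
  obtain ⟨G₀, hG₀⟩ : ∃ G₀ : Subgroup (G ⋊[φ] Equiv.Perm (Fin 3)),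
      G₀ = (SemidirectProduct.inl : G →* G ⋊[φ] Equiv.Perm (Fin 3)).range := ⟨_, rfl⟩
  have eG : G ≃* G₀ := by
    rw [hG₀]; exact MonoidHom.ofInjective SemidirectProduct.inl_injective
  haveI hG₀n : G₀.Normal := by
    rw [hG₀, SemidirectProduct.range_inl_eq_ker_rightHom]
    exact MonoidHom.normal_ker _
  have hcfg : Cfg G₀ (SemidirectProduct.inr s : G ⋊[φ] Equiv.Perm (Fin 3))
      (SemidirectProduct.inr t) := by
    refine ⟨hrel.map _, ?_, ?_, ?_, ?_, ?_, ?_⟩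
    · apply card_closure_map_dvd
      rw [← hcard6]
      exact Subgroup.card_subgroup_dvd_card _
    · rw [Subgroup.normalizer_eq_top]; exact Subgroup.mem_top _
    · rw [Subgroup.normalizer_eq_top]; exact Subgroup.mem_top _
    · exact Group.isSolvable_of_surjective (f := eG.toMonoidHom) eG.surjective
    · rw [← Nat.card_congr eG.toEquiv]; exact hcop
    · intro x hx h1 h2
      rw [hG₀] at hx
      obtain ⟨g, rfl⟩ := hx
      have hs1 : s • g = g := by
        apply SemidirectProduct.inl_injective (φ := φ)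
        rw [← hφa, SemidirectProduct.inl_aut, map_inv]
        exact h1
      have ht1 : t • g = g := by
        apply SemidirectProduct.inl_injective (φ := φ)
        rw [← hφa, SemidirectProduct.inl_aut, map_inv]
        exact h2
      have hg : g = 1 := by
        apply hfpf
        intro a
        rcases hall a with rfl | rfl | rfl | rfl | rfl | rfl
        · exact one_smul _ g
        · exact hs1
        · rw [mul_smul, hs1, hs1]
        · exact ht1
        · rw [mul_smul, ht1, hs1]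
        · rw [mul_smul, mul_smul, ht1, hs1, hs1]
      rw [hg, map_one]
  obtain ⟨c, hc⟩ := nilp_of_cfg G₀ _ _ hcfg
  have h1 : (commutator G).map (SemidirectProduct.inl : G →* G ⋊[φ] Equiv.Perm (Fin 3))
      = ⁅G₀, G₀⁆ := by
    rw [commutator_def, Subgroup.map_commutator, ← MonoidHom.range_eq_map, ← hG₀]
  rw [← h1, ← Subgroup.map_lowerCentralSeries,
    Subgroup.map_eq_bot_iff_of_injective _ SemidirectProduct.inl_injective] at hc
  exact Subgroup.isNilpotent_of_lowerCentralSeries_eq_bot hc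

end Cfsg.Agent.Lead.S3F
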