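import Cfsg.Agent.Lead.S3fWt

/-!
`S₃`-layer over the weight projections (toolbox for S4305).
-/

set_option autoImplicit false

namespace Cfsg.Agent.Lead.S3F

open scoped BigOperators
open Classical

variable {k : Type*} [Field k] {Γ : Type*} [Group Γ]

/-- `σ, τ` satisfy the relations of the symmetric group of degree 3. -/
structure S3Rel (σ τ : Γ) : Prop where
  s3 : σ ^ 3 = 1
  t2 : τ ^ 2 = 1
  rel : τ * σ * τ⁻¹ = σ⁻¹

namespace S3Rel

variable {σ τ : Γ} (h : S3Rel σ τ)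
include h

theorem tau_inv : τ⁻¹ = τ := by
  have := h.t2
  rw [pow_two] at this
  exact (eq_inv_of_mul_eq_one_left this).symm

theorem sigma_inv : σ⁻¹ = σ * σ := by
  have := h.s3
  rw [pow_succ, pow_two] at this
  exact (eq_inv_of_mul_eq_one_left this).symm ▸ rfl

theorem tau_sigma : τ * σ = σ⁻¹ * τ := by
  have := h.rel
  calc τ * σ = τ * σ * τ⁻¹ * τ := by group
    _ = σ⁻¹ * τ := by rw [this]

theorem sigma_tau : σ * τ = τ * σ⁻¹ := by
  have h1 := h.tau_sigma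
  calc σ * τ = σ * (τ * σ) * σ⁻¹ := by group
    _ = σ * (σ⁻¹ * τ) * σ⁻¹ := by rw [h1]
    _ = τ * σ⁻¹ := by group

/-- `τ σ` is again a reflection. -/
theorem mul_right : S3Rel σ (τ * σ) where
  s3 := h.s3
  t2 := by
    rw [pow_two]
    calc τ * σ * (τ * σ) = τ * (σ * τ) * σ := by group
      _ = τ * (τ * σ⁻¹) * σ := by rw [h.sigma_tau]
      _ = τ * τ := by group
      _ = 1 := by rw [← pow_two, h.t2]
  rel := by
    calc τ * σ * σ * (τ * σ)⁻¹ = τ * σ * τ⁻¹ := by group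
      _ = σ⁻¹ := h.rel

end S3Rel

variable [Fintype Γ] {W : Type*} [AddCommGroup W] [Module k W] (ρ : Representation k Γ W)

/-- the stabiliser of a character. -/
def charStab (E : Subgroup Γ) (χ : E →* kˣ) : Subgroup Γ where
  carrier := {g | ∃ hg : g ∈ Subgroup.normalizer (E : Set Γ), conjChar E g hg χ = χ}
  mul_mem' := by
    rintro a b ⟨ha, ha'⟩ ⟨hb, hb'⟩
    refine ⟨Subgroup.mul_mem _ ha hb, ?_⟩
    rw [conjChar_mul E a b ha hb, hb', ha']
  one_mem' := ⟨Subgroup.one_mem _, conjChar_one E χ⟩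
  inv_mem' := by
    rintro a ⟨ha, ha'⟩
    refine ⟨Subgroup.inv_mem _ ha, ?_⟩
    have h1 := conjChar_mul E a⁻¹ a (Subgroup.inv_mem _ ha) ha χ
    rw [ha'] at h1
    rw [← h1]
    have h2 : a⁻¹ * a = 1 := inv_mul_cancel a
    rw [conjChar_congr E h2, conjChar_one]

omit [Fintype Γ] in
theorem mem_charStab {E : Subgroup Γ} {χ : E →* kˣ} {g : Γ} :
    g ∈ charStab E χ ↔ ∃ hg : g ∈ Subgroup.normalizer (E : Set Γ), conjChar E g hg χ = χ :=
  Iff.rfl

omit [Fintype Γ] in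
theorem mem_charStab_of {E : Subgroup Γ} {χ : E →* kˣ} {g : Γ}
    (hg : g ∈ Subgroup.normalizer (E : Set Γ)) (h : conjChar E g hg χ = χ) :
    g ∈ charStab E χ := ⟨hg, h⟩

omit [Fintype Γ] in
theorem conjChar_ne_of_not_mem {E : Subgroup Γ} {χ : E →* kˣ} {g : Γ}
    (hg : g ∈ Subgroup.normalizer (E : Set Γ)) (h : g ∉ charStab E χ) :
    χ ≠ conjChar E g hg χ := fun h' => h ⟨hg, h'.symm⟩

omit [Fintype Γ] in
/-- the stabiliser of a conjugated character. -/
theorem conj_mem_charStab {E : Subgroup Γ} {χ : E →* kˣ} {a g : Γ} (ha : a ∈ charStab E χ)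
    (hg : g ∈ Subgroup.normalizer (E : Set Γ)) :
    g * a * g⁻¹ ∈ charStab E (conjChar E g hg χ) := by
  obtain ⟨ha1, ha2⟩ := ha
  have hmem : g * a * g⁻¹ ∈ Subgroup.normalizer (E : Set Γ) :=
    Subgroup.mul_mem _ (Subgroup.mul_mem _ hg ha1) (Subgroup.inv_mem _ hg)
  refine ⟨hmem, ?_⟩
  rw [← conjChar_mul E (g * a * g⁻¹) g hmem hg χ]
  have e : g * a * g⁻¹ * g = g * a := by group
  rw [conjChar_congr E e, conjChar_mul E g a hg ha1, ha2]

/-- moving a weight vector by an element outside the stabiliser kills the projection. -/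
theorem wtProj_rho_of_not_mem (E : Subgroup Γ) (hE : (Fintype.card E : k) ≠ 0) (χ : E →* kˣ)
    (g : Γ) (hg : g ∈ Subgroup.normalizer (E : Set Γ)) (hgs : g ∉ charStab E χ)
    (w : W) (hw : w ∈ wtSpace ρ E χ) : wtProj ρ E χ (ρ g w) = 0 := by
  rw [wtProj_apply_of_mem ρ E hE χ _ _ (rho_mem_wtSpace ρ E g hg χ w hw),
    if_neg (conjChar_ne_of_not_mem hg hgs)]

theorem wtProj_of_mem (E : Subgroup Γ) (hE : (Fintype.card E : k) ≠ 0) (χ : E →* kˣ)
    (w : W) (hw : w ∈ wtSpace ρ E χ) : wtProj ρ E χ w = w := by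
  rw [wtProj_apply_of_mem ρ E hE χ χ w hw, if_pos rfl]

omit [Fintype Γ] in
theorem rho_mem_wtSpace_of_mem_charStab (E : Subgroup Γ) (χ : E →* kˣ) (g : Γ)
    (hg : g ∈ charStab E χ) (w : W) (hw : w ∈ wtSpace ρ E χ) : ρ g w ∈ wtSpace ρ E χ := by
  obtain ⟨hg1, hg2⟩ := hg
  have := rho_mem_wtSpace ρ E g hg1 χ w hw
  rwa [hg2] at this

/-! ### the fixed-point-free hypothesis -/

section nofix

omit [Fintype Γ]

/-- `σ, τ` have no common non-zero fixed vector. -/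
def NoFix (σ τ : Γ) : Prop := ∀ w : W, ρ σ w = w → ρ τ w = w → w = 0

theorem rho_rho (a b : Γ) (w : W) : ρ a (ρ b w) = ρ (a * b) w := by
  rw [map_mul]; rfl

variable {σ τ : Γ}

theorem S3Rel.elts (h : S3Rel σ τ) :
    σ * (σ * σ) = 1 ∧ τ * τ = 1 ∧ τ * σ = σ * σ * τ ∧ τ * (σ * σ) = σ * τ ∧
    τ * (σ * τ) = σ * σ ∧ τ * (σ * σ * τ) = σ := by
  have h3 : σ * (σ * σ) = 1 := by
    have := h.s3; rw [pow_succ, pow_two] at this; rw [← mul_assoc]; exact this
  have h2 : τ * τ = 1 := by have := h.t2; rwa [pow_two] at this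
  have hi : σ⁻¹ = σ * σ := h.sigma_inv
  have hts : τ * σ = σ * σ * τ := by rw [h.tau_sigma, hi]
  have hst : σ * τ = τ * (σ * σ) := by rw [h.sigma_tau, hi]
  refine ⟨h3, h2, hts, hst.symm, ?_, ?_⟩
  · calc τ * (σ * τ) = τ * (τ * (σ * σ)) := by rw [hst]
      _ = (τ * τ) * (σ * σ) := by group
      _ = σ * σ := by rw [h2, one_mul]
  · calc τ * (σ * σ * τ) = τ * (τ * σ) := by rw [hts]
      _ = (τ * τ) * σ := by group
      _ = σ := by rw [h2, one_mul]

/-- the norm of any vector vanishes. -/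
theorem norm_apply_eq_zero (h : S3Rel σ τ) (hfix : NoFix ρ σ τ) (w : W) :
    w + ρ σ w + ρ (σ * σ) w + ρ τ w + ρ (σ * τ) w + ρ (σ * σ * τ) w = 0 := by
  obtain ⟨e1, e2, e3, e4, e5, e6⟩ := h.elts
  apply hfix
  · simp only [map_add, rho_rho]
    rw [e1, show σ * (σ * τ) = σ * σ * τ by group,
      show σ * (σ * σ * τ) = (σ * (σ * σ)) * τ by group, e1, one_mul, map_one]
    simp only [Module.End.one_apply]
    abel
  · simp only [map_add, rho_rho]
    rw [e2, e3, e4, e5, e6, map_one]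
    simp only [Module.End.one_apply]
    abel

/-- a `σ`-fixed vector is negated by `τ`. -/
theorem tau_neg_of_sigma_fixed (h : S3Rel σ τ) (hfix : NoFix ρ σ τ) (w : W) (hw : ρ σ w = w) :
    ρ τ w = -w := by
  obtain ⟨e1, e2, e3, e4, e5, e6⟩ := h.elts
  have h1 : ρ σ (w + ρ τ w) = w + ρ τ w := by
    rw [map_add, hw, rho_rho]
    congr 1
    rw [h.sigma_tau, ← rho_rho]
    congr 1
    have : ρ σ⁻¹ (ρ σ w) = w := by rw [rho_rho, inv_mul_cancel, map_one]; rfl
    rw [hw] at this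
    exact this
  have h2 : ρ τ (w + ρ τ w) = w + ρ τ w := by
    rw [map_add, rho_rho, e2, map_one, Module.End.one_apply, add_comm]
  have := hfix _ h1 h2
  exact (neg_eq_of_add_eq_zero_right this).symm

end nofix

/-! ### stabilisers of weights -/

section stab

variable {σ τ : Γ}

/-- a non-zero weight has a non-trivial stabiliser in `⟨σ, τ⟩`. -/
theorem exists_mem_charStab (h : S3Rel σ τ) (hfix : NoFix ρ σ τ) (E : Subgroup Γ)
    (hE : (Fintype.card E : k) ≠ 0)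
    (hσ : σ ∈ Subgroup.normalizer (E : Set Γ)) (hτ : τ ∈ Subgroup.normalizer (E : Set Γ))
    (χ : E →* kˣ) (w : W) (hw : w ∈ wtSpace ρ E χ) (hw0 : w ≠ 0) :
    σ ∈ charStab E χ ∨ τ ∈ charStab E χ ∨ σ * τ ∈ charStab E χ ∨ σ * σ * τ ∈ charStab E χ := by
  by_contra hcon
  push Not at hcon
  obtain ⟨c1, c2, c3, c4⟩ := hcon
  have c5 : σ * σ ∉ charStab E χ := by
    intro h5
    apply c1
    have h6 := Subgroup.mul_mem _ h5 h5
    have e1 := h.elts.1
    have : σ * σ * (σ * σ) = σ := by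
      calc σ * σ * (σ * σ) = (σ * (σ * σ)) * σ := by group
        _ = σ := by rw [e1, one_mul]
    rwa [this] at h6
  have hn := norm_apply_eq_zero ρ h hfix w
  have hn' := congrArg (wtProj ρ E χ) hn
  simp only [map_add, map_zero] at hn'
  rw [wtProj_of_mem ρ E hE χ w hw,
    wtProj_rho_of_not_mem ρ E hE χ σ hσ c1 w hw,
    wtProj_rho_of_not_mem ρ E hE χ (σ * σ) (Subgroup.mul_mem _ hσ hσ) c5 w hw,
    wtProj_rho_of_not_mem ρ E hE χ τ hτ c2 w hw,
    wtProj_rho_of_not_mem ρ E hE χ (σ * τ) (Subgroup.mul_mem _ hσ hτ) c3 w hw,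
    wtProj_rho_of_not_mem ρ E hE χ (σ * σ * τ)
      (Subgroup.mul_mem _ (Subgroup.mul_mem _ hσ hσ) hτ) c4 w hw] at hn'
  simp only [add_zero] at hn'
  exact hw0 hn'

/-- if `σ` fixes a weight and `τ` does not, then `σ` has no fixed vectors of that weight. -/
theorem eq_zero_of_sigma_fixed (h : S3Rel σ τ) (hfix : NoFix ρ σ τ) (E : Subgroup Γ)
    (hE : (Fintype.card E : k) ≠ 0) (hτ : τ ∈ Subgroup.normalizer (E : Set Γ))
    (χ : E →* kˣ) (hτs : τ ∉ charStab E χ)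
    (w : W) (hw : w ∈ wtSpace ρ E χ) (hσw : ρ σ w = w) : w = 0 := by
  have h1 := tau_neg_of_sigma_fixed ρ h hfix w hσw
  have h2 := wtProj_rho_of_not_mem ρ E hE χ τ hτ hτs w hw
  rw [h1, map_neg, wtProj_of_mem ρ E hE χ w hw] at h2
  exact neg_eq_zero.1 h2

/-- if `τ` fixes a weight and `σ` does not, then `τ` acts as `-1` on that weight space. -/
theorem tau_neg_of_mem_charStab (h : S3Rel σ τ) (hfix : NoFix ρ σ τ)
    (E : Subgroup Γ) (hE : (Fintype.card E : k) ≠ 0)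
    (hσ : σ ∈ Subgroup.normalizer (E : Set Γ))
    (χ : E →* kˣ) (hτs : τ ∈ charStab E χ) (hσs : σ ∉ charStab E χ)
    (w : W) (hw : w ∈ wtSpace ρ E χ) : ρ τ w = -w := by
  obtain ⟨e1, e2, e3, e4, e5, e6⟩ := h.elts
  have c5 : σ * σ ∉ charStab E χ := by
    intro h5
    apply hσs
    have h6 := Subgroup.mul_mem _ h5 h5
    have : σ * σ * (σ * σ) = σ := by
      calc σ * σ * (σ * σ) = (σ * (σ * σ)) * σ := by group
        _ = σ := by rw [e1, one_mul]
    rwa [this] at h6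
  set u := w + ρ τ w with hu
  have hu1 : u ∈ wtSpace ρ E χ :=
    Submodule.add_mem _ hw (rho_mem_wtSpace_of_mem_charStab ρ E χ τ hτs w hw)
  have hu2 : ρ τ u = u := by
    rw [hu, map_add, rho_rho, e2, map_one, Module.End.one_apply, add_comm]
  set v := u + ρ σ u + ρ (σ * σ) u with hv
  have hv1 : ρ σ v = v := by
    rw [hv]
    simp only [map_add, rho_rho]
    rw [e1, map_one, Module.End.one_apply]
    abel
  have hv2 : ρ τ v = v := by
    rw [hv]
    simp only [map_add, rho_rho]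
    rw [e3, e4, ← rho_rho ρ (σ * σ) τ, ← rho_rho ρ σ τ, hu2]
    abel
  have hv0 : v = 0 := hfix v hv1 hv2
  have h3 := congrArg (wtProj ρ E χ) hv0
  rw [hv] at h3
  simp only [map_add, map_zero] at h3
  rw [wtProj_of_mem ρ E hE χ u hu1,
    wtProj_rho_of_not_mem ρ E hE χ σ hσ hσs u hu1,
    wtProj_rho_of_not_mem ρ E hE χ (σ * σ) (Subgroup.mul_mem _ hσ hσ) c5 u hu1] at h3
  simp only [add_zero] at h3
  rw [hu] at h3
  exact (neg_eq_of_add_eq_zero_right h3).symm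

end stab

end Cfsg.Agent.Lead.S3F
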