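import Mathlib

/-!
Weight projections for a finite abelian subgroup acting in a representation
(toolbox for S4305).
-/

set_option autoImplicit false

namespace Cfsg.Agent.Lead.S3F

open scoped BigOperators
open Classical

variable {k : Type*} [Field k] {Γ : Type*} [Group Γ] [Fintype Γ]
  {W : Type*} [AddCommGroup W] [Module k W] (ρ : Representation k Γ W)

/-- the weight space of the character `χ` of the subgroup `E`. -/
def wtSpace (E : Subgroup Γ) (χ : E →* kˣ) : Submodule k W where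
  carrier := {w | ∀ e : E, ρ (e : Γ) w = ((χ e : kˣ) : k) • w}
  add_mem' := by
    intro a b ha hb e
    rw [map_add, ha e, hb e, smul_add]
  zero_mem' := by
    intro e
    simp
  smul_mem' := by
    intro c w hw e
    rw [map_smul, hw e, smul_comm]

theorem mem_wtSpace {E : Subgroup Γ} {χ : E →* kˣ} {w : W} :
    w ∈ wtSpace ρ E χ ↔ ∀ e : E, ρ (e : Γ) w = ((χ e : kˣ) : k) • w := Iff.rfl

/-- the weight projection. -/
noncomputable def wtProj (E : Subgroup Γ) (χ : E →* kˣ) : Module.End k W :=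
  ((Fintype.card E : k))⁻¹ • ∑ e : E, (((χ e)⁻¹ : kˣ) : k) • ρ (e : Γ)

/-- the unnormalised weight sum. -/
noncomputable def wtSum (E : Subgroup Γ) (χ : E →* kˣ) : Module.End k W :=
  ∑ e : E, (((χ e)⁻¹ : kˣ) : k) • ρ (e : Γ)

theorem wtProj_eq (E : Subgroup Γ) (χ : E →* kˣ) :
    wtProj ρ E χ = ((Fintype.card E : k))⁻¹ • wtSum ρ E χ := rfl

theorem rho_mul_wtSum (E : Subgroup Γ) (χ : E →* kˣ) (y : E) :
    ρ (y : Γ) * wtSum ρ E χ = ((χ y : kˣ) : k) • wtSum ρ E χ := by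
  unfold wtSum
  rw [Finset.mul_sum, Finset.smul_sum]
  rw [← Equiv.sum_comp (Equiv.mulLeft y⁻¹)]
  apply Finset.sum_congr rfl
  intro e _
  simp only [Equiv.coe_mulLeft]
  rw [mul_smul_comm, smul_smul, ← map_mul]
  have h1 : (y : Γ) * ((y⁻¹ * e : E) : Γ) = (e : Γ) := by simp
  have h2 : (((χ (y⁻¹ * e))⁻¹ : kˣ) : k) = ((χ y : kˣ) : k) * (((χ e)⁻¹ : kˣ) : k) := by
    rw [map_mul, map_inv, mul_inv_rev, inv_inv, Units.val_mul, mul_comm]
  rw [h1, h2]

theorem wtSum_mul_rho (E : Subgroup Γ) (χ : E →* kˣ) (y : E) :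
    wtSum ρ E χ * ρ (y : Γ) = ((χ y : kˣ) : k) • wtSum ρ E χ := by
  unfold wtSum
  rw [Finset.sum_mul, Finset.smul_sum]
  rw [← Equiv.sum_comp (Equiv.mulRight y⁻¹)]
  apply Finset.sum_congr rfl
  intro e _
  simp only [Equiv.coe_mulRight]
  rw [smul_mul_assoc, smul_smul, ← map_mul]
  have h1 : ((e * y⁻¹ : E) : Γ) * (y : Γ) = (e : Γ) := by simp
  have h2 : (((χ (e * y⁻¹))⁻¹ : kˣ) : k) = ((χ y : kˣ) : k) * (((χ e)⁻¹ : kˣ) : k) := by
    rw [map_mul, map_inv, mul_inv_rev, inv_inv, Units.val_mul]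
  rw [h1, h2]

theorem rho_mul_wtProj (E : Subgroup Γ) (χ : E →* kˣ) (y : E) :
    ρ (y : Γ) * wtProj ρ E χ = ((χ y : kˣ) : k) • wtProj ρ E χ := by
  rw [wtProj_eq, mul_smul_comm, rho_mul_wtSum, smul_comm]

theorem wtProj_mul_rho (E : Subgroup Γ) (χ : E →* kˣ) (y : E) :
    wtProj ρ E χ * ρ (y : Γ) = ((χ y : kˣ) : k) • wtProj ρ E χ := by
  rw [wtProj_eq, smul_mul_assoc, wtSum_mul_rho, smul_comm]

theorem wtProj_apply_mem (E : Subgroup Γ) (χ : E →* kˣ) (w : W) :
    wtProj ρ E χ w ∈ wtSpace ρ E χ := by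
  intro e
  have h := congrArg (fun f : Module.End k W => f w) (rho_mul_wtProj ρ E χ e)
  simpa using h

/-- on a weight vector of weight `ψ`, the projection of weight `χ` is `w` or `0`. -/
theorem wtProj_apply_of_mem (E : Subgroup Γ) (hE : (Fintype.card E : k) ≠ 0) (χ ψ : E →* kˣ)
    (w : W) (hw : w ∈ wtSpace ρ E ψ) :
    wtProj ρ E χ w = if χ = ψ then w else 0 := by
  unfold wtProj
  rw [LinearMap.smul_apply, LinearMap.sum_apply]
  have h1 : ∀ e : E, ((((χ e)⁻¹ : kˣ) : k) • ρ (e : Γ)) w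
      = ((((χ⁻¹ * ψ) e : kˣ) : k)) • w := by
    intro e
    rw [LinearMap.smul_apply, hw e, smul_smul]
    congr 1
  rw [Finset.sum_congr rfl (fun e _ => h1 e), ← Finset.sum_smul]
  split_ifs with h
  · subst h
    have : ∀ e : E, ((((χ⁻¹ * χ) e : kˣ) : k)) = 1 := by
      intro e; simp
    rw [Finset.sum_congr rfl (fun e _ => this e)]
    simp only [Finset.sum_const, Finset.card_univ, nsmul_eq_mul, mul_one]
    rw [smul_smul, inv_mul_cancel₀ hE, one_smul]
  · have hne : ((Units.coeHom k).comp (χ⁻¹ * ψ) : E →* k) ≠ 1 := by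
      intro h'
      apply h
      ext e
      have h2 := congrArg (fun f : E →* k => f e) h'
      simp only [MonoidHom.coe_comp, Function.comp_apply, Units.coeHom_apply, MonoidHom.mul_apply,
        MonoidHom.inv_apply, MonoidHom.one_apply] at h2
      have h3 : (χ e)⁻¹ * ψ e = 1 := Units.ext (by simpa using h2)
      have : ψ e = χ e := by
        have := congrArg (fun u => χ e * u) h3
        simpa using this
      rw [this]
    have h0 := sum_hom_units_eq_zero _ hne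
    simp only [MonoidHom.coe_comp, Function.comp_apply, Units.coeHom_apply] at h0
    rw [h0, zero_smul, smul_zero]

theorem wtProj_idem (E : Subgroup Γ) (hE : (Fintype.card E : k) ≠ 0) (χ : E →* kˣ) :
    wtProj ρ E χ * wtProj ρ E χ = wtProj ρ E χ := by
  ext w
  rw [Module.End.mul_apply, wtProj_apply_of_mem ρ E hE χ χ _ (wtProj_apply_mem ρ E χ w), if_pos rfl]

theorem wtProj_orth (E : Subgroup Γ) (hE : (Fintype.card E : k) ≠ 0) (χ ψ : E →* kˣ) (h : χ ≠ ψ) :
    wtProj ρ E χ * wtProj ρ E ψ = 0 := by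
  ext w
  rw [Module.End.mul_apply, wtProj_apply_of_mem ρ E hE χ ψ _ (wtProj_apply_mem ρ E ψ w), if_neg h]
  rfl

/-! ### completeness -/

section complete

variable (E : Subgroup Γ) (hcomm : ∀ a ∈ E, ∀ b ∈ E, a * b = b * a)

/-- dual orthogonality. -/
theorem sum_char_inv_eq_zero [HasEnoughRootsOfUnity k (Monoid.exponent E)]
    (hcomm : ∀ a ∈ E, ∀ b ∈ E, a * b = b * a) [Fintype (E →* kˣ)] (e : E) (he : e ≠ 1) :
    ∑ χ : E →* kˣ, (((χ e)⁻¹ : kˣ) : k) = 0 := by
  letI : CommGroup E :=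
    { (inferInstance : Group E) with
      mul_comm := fun a b => Subtype.ext (hcomm a a.2 b b.2) }
  obtain ⟨φ, hφ⟩ := CommGroup.exists_apply_ne_one_of_hasEnoughRootsOfUnity E k he
  have h1 : ∑ χ : E →* kˣ, (((χ e)⁻¹ : kˣ) : k)
      = (((φ e)⁻¹ : kˣ) : k) * ∑ χ : E →* kˣ, (((χ e)⁻¹ : kˣ) : k) := by
    rw [Finset.mul_sum]
    rw [← Equiv.sum_comp (Equiv.mulLeft φ)]
    apply Finset.sum_congr rfl
    intro χ _
    simp only [Equiv.coe_mulLeft, MonoidHom.mul_apply, mul_inv_rev, Units.val_mul]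
    rw [mul_comm]
  have h2 : (1 - (((φ e)⁻¹ : kˣ) : k)) * ∑ χ : E →* kˣ, (((χ e)⁻¹ : kˣ) : k) = 0 := by
    rw [sub_mul, one_mul, ← h1, sub_self]
  rcases mul_eq_zero.1 h2 with h | h
  · exfalso
    apply hφ
    have h3 : (((φ e)⁻¹ : kˣ) : k) = 1 := (sub_eq_zero.1 h).symm
    have h4 : (φ e)⁻¹ = 1 := Units.ext (by simpa using h3)
    simpa using h4
  · exact h

theorem sum_wtProj [HasEnoughRootsOfUnity k (Monoid.exponent E)]
    (hcomm : ∀ a ∈ E, ∀ b ∈ E, a * b = b * a) (hE : (Fintype.card E : k) ≠ 0)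
    [Fintype (E →* kˣ)] :
    ∑ χ : E →* kˣ, wtProj ρ E χ = 1 := by
  letI : CommGroup E :=
    { (inferInstance : Group E) with
      mul_comm := fun a b => Subtype.ext (hcomm a a.2 b b.2) }
  have hcard : (Fintype.card (E →* kˣ) : k) = (Fintype.card E : k) := by
    have := CommGroup.card_monoidHom_of_hasEnoughRootsOfUnity E k
    rw [Nat.card_eq_fintype_card, Nat.card_eq_fintype_card] at this
    rw [this]
  simp only [wtProj_eq, wtSum]
  rw [← Finset.smul_sum, Finset.sum_comm]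
  have h1 : ∀ e : E, ∑ χ : E →* kˣ, (((χ e)⁻¹ : kˣ) : k) • ρ (e : Γ)
      = if e = 1 then (Fintype.card E : k) • (1 : Module.End k W) else 0 := by
    intro e
    rw [← Finset.sum_smul]
    split_ifs with h
    · subst h
      simp only [map_one, inv_one, Units.val_one, Finset.sum_const, Finset.card_univ,
        nsmul_eq_mul, mul_one, OneMemClass.coe_one]
      rw [hcard]
    · rw [sum_char_inv_eq_zero E hcomm e h, zero_smul]
  rw [Finset.sum_congr rfl (fun e _ => h1 e), Finset.sum_ite_eq' Finset.univ (1 : E)]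
  simp only [Finset.mem_univ, if_true]
  rw [smul_smul, inv_mul_cancel₀ hE, one_smul]

/-- Every vector is the sum of its weight components. -/
theorem exists_wt_decomp [HasEnoughRootsOfUnity k (Monoid.exponent E)]
    (hcomm : ∀ a ∈ E, ∀ b ∈ E, a * b = b * a) (hE : (Fintype.card E : k) ≠ 0) (w : W) :
    ∃ S : Finset (E →* kˣ), w = ∑ χ ∈ S, wtProj ρ E χ w := by
  letI : Fintype (E →* kˣ) := Fintype.ofFinite _
  refine ⟨Finset.univ, ?_⟩
  have h := congrArg (fun f : Module.End k W => f w) (sum_wtProj ρ E hcomm hE)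
  simp only [LinearMap.sum_apply, Module.End.one_apply] at h
  exact h.symm

theorem eq_zero_of_wtProj_eq_zero [HasEnoughRootsOfUnity k (Monoid.exponent E)]
    (hcomm : ∀ a ∈ E, ∀ b ∈ E, a * b = b * a) (hE : (Fintype.card E : k) ≠ 0) (w : W)
    (h : ∀ χ : E →* kˣ, wtProj ρ E χ w = 0) : w = 0 := by
  obtain ⟨S, hS⟩ := exists_wt_decomp ρ E hcomm hE w
  rw [hS]
  exact Finset.sum_eq_zero (fun χ _ => h χ)

end complete

/-! ### conjugation of characters -/

section conj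

omit [Fintype Γ] in
theorem conj_mem_of_mem_normalizer {E : Subgroup Γ} {g : Γ}
    (hg : g ∈ Subgroup.normalizer (E : Set Γ)) (e : E) : g⁻¹ * (e : Γ) * g ∈ E := by
  have h := (Subgroup.mem_normalizer_iff.1 (Subgroup.inv_mem _ hg) (e : Γ)).1 e.2
  simpa using h

/-- the character `e ↦ χ (g⁻¹ e g)`. -/
def conjChar (E : Subgroup Γ) (g : Γ) (hg : g ∈ Subgroup.normalizer (E : Set Γ))
    (χ : E →* kˣ) : E →* kˣ where
  toFun e := χ ⟨g⁻¹ * (e : Γ) * g, conj_mem_of_mem_normalizer hg e⟩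
  map_one' := by
    have : (⟨g⁻¹ * ((1 : E) : Γ) * g, conj_mem_of_mem_normalizer hg 1⟩ : E) = 1 := by
      apply Subtype.ext; simp
    rw [this, map_one]
  map_mul' := by
    intro a b
    have : (⟨g⁻¹ * ((a * b : E) : Γ) * g, conj_mem_of_mem_normalizer hg (a * b)⟩ : E)
        = ⟨g⁻¹ * (a : Γ) * g, conj_mem_of_mem_normalizer hg a⟩
          * ⟨g⁻¹ * (b : Γ) * g, conj_mem_of_mem_normalizer hg b⟩ := by
      apply Subtype.ext
      simp [mul_assoc]
    rw [this, map_mul]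

omit [Fintype Γ] in
theorem conjChar_apply (E : Subgroup Γ) (g : Γ) (hg : g ∈ Subgroup.normalizer (E : Set Γ))
    (χ : E →* kˣ) (e : E) :
    conjChar E g hg χ e = χ ⟨g⁻¹ * (e : Γ) * g, conj_mem_of_mem_normalizer hg e⟩ := rfl

omit [Fintype Γ] in
theorem conjChar_apply' (E : Subgroup Γ) (g : Γ) (hg : g ∈ Subgroup.normalizer (E : Set Γ))
    (χ : E →* kˣ) (e : E) (e' : E) (h : (e' : Γ) = g⁻¹ * (e : Γ) * g) :
    conjChar E g hg χ e = χ e' := by
  rw [conjChar_apply]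
  congr 1
  exact Subtype.ext h.symm

omit [Fintype Γ] in
theorem conjChar_mul (E : Subgroup Γ) (g h : Γ) (hg : g ∈ Subgroup.normalizer (E : Set Γ))
    (hh : h ∈ Subgroup.normalizer (E : Set Γ)) (χ : E →* kˣ) :
    conjChar E (g * h) (Subgroup.mul_mem _ hg hh) χ = conjChar E g hg (conjChar E h hh χ) := by
  ext e
  rw [conjChar_apply, conjChar_apply, conjChar_apply]
  congr 3
  simp [mul_assoc]

omit [Fintype Γ] in
theorem conjChar_one (E : Subgroup Γ) (χ : E →* kˣ) :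
    conjChar E 1 (Subgroup.one_mem _) χ = χ := by
  ext e
  rw [conjChar_apply]
  congr 3
  simp

omit [Fintype Γ] in
theorem conjChar_congr (E : Subgroup Γ) {g h : Γ} (hgh : g = h)
    (hg : g ∈ Subgroup.normalizer (E : Set Γ)) (χ : E →* kˣ) :
    conjChar E g hg χ = conjChar E h (hgh ▸ hg) χ := by
  subst hgh; rfl

omit [Fintype Γ] in
/-- an element centralising `E` fixes every character. -/
theorem conjChar_of_commute (E : Subgroup Γ) (g : Γ) (hg : g ∈ Subgroup.normalizer (E : Set Γ))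
    (hc : ∀ e ∈ E, g * e = e * g) (χ : E →* kˣ) : conjChar E g hg χ = χ := by
  ext e
  rw [conjChar_apply]
  congr 3
  rw [mul_assoc, ← hc e e.2, ← mul_assoc, inv_mul_cancel, one_mul]

omit [Fintype Γ] in
theorem rho_mem_wtSpace (E : Subgroup Γ) (g : Γ) (hg : g ∈ Subgroup.normalizer (E : Set Γ))
    (χ : E →* kˣ) (w : W) (hw : w ∈ wtSpace ρ E χ) :
    ρ g w ∈ wtSpace ρ E (conjChar E g hg χ) := by
  intro e
  have h1 : (e : Γ) * g = g * (g⁻¹ * (e : Γ) * g) := by group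
  have h2 := hw ⟨g⁻¹ * (e : Γ) * g, conj_mem_of_mem_normalizer hg e⟩
  calc ρ (e : Γ) (ρ g w) = (ρ ((e : Γ) * g)) w := by rw [map_mul]; rfl
    _ = ρ g (ρ (g⁻¹ * (e : Γ) * g) w) := by rw [h1, map_mul]; rfl
    _ = ρ g (((χ ⟨g⁻¹ * (e : Γ) * g, conj_mem_of_mem_normalizer hg e⟩ : kˣ) : k) • w) := by
        rw [← h2]
    _ = _ := by rw [map_smul, conjChar_apply]

theorem rho_mul_wtProj_conj (E : Subgroup Γ) (g : Γ) (hg : g ∈ Subgroup.normalizer (E : Set Γ))
    (χ : E →* kˣ) :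
    ρ g * wtProj ρ E χ = wtProj ρ E (conjChar E g hg χ) * ρ g := by
  rw [wtProj_eq, wtProj_eq, mul_smul_comm, smul_mul_assoc]
  congr 1
  unfold wtSum
  rw [Finset.mul_sum, Finset.sum_mul]
  -- reindex by conjugation
  let φ : E ≃ E :=
    { toFun := fun e => ⟨g * (e : Γ) * g⁻¹, by
        have := (Subgroup.mem_normalizer_iff.1 hg (e : Γ)).1 e.2
        exact this⟩
      invFun := fun e => ⟨g⁻¹ * (e : Γ) * g, conj_mem_of_mem_normalizer hg e⟩
      left_inv := fun e => by apply Subtype.ext; simp [mul_assoc]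
      right_inv := fun e => by apply Subtype.ext; simp [mul_assoc] }
  rw [← Equiv.sum_comp φ (fun e => (((conjChar E g hg χ e)⁻¹ : kˣ) : k) • ρ (e : Γ) * ρ g)]
  apply Finset.sum_congr rfl
  intro e _
  rw [mul_smul_comm, smul_mul_assoc, ← map_mul, ← map_mul]
  have h1 : conjChar E g hg χ (φ e) = χ e := by
    apply conjChar_apply'
    show (e : Γ) = g⁻¹ * (g * (e : Γ) * g⁻¹) * g
    group
  have h2 : ((φ e : E) : Γ) * g = g * (e : Γ) := by
    show g * (e : Γ) * g⁻¹ * g = g * (e : Γ)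
    group
  rw [h1, h2]

end conj

end Cfsg.Agent.Lead.S3F
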