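import Mathlib

/-!
# Element orders of `Sp(4, 3)`: the upper bound via Cayley–Hamilton

The characteristic polynomial of a symplectic `4 × 4` matrix is palindromic.  Over the field with
three elements there are nine such polynomials, each dividing one of `X ^ 12 ± 1`, `X ^ 9 ± 1`,
`X ^ 5 ± 1`.
-/

set_option autoImplicit false
set_option linter.unusedSimpArgs false
set_option linter.unusedVariables false

namespace Cfsg.Agent.Lead.S4Spec

open Matrix Polynomial

section poly

variable {F : Type*} [Field F]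

/-- a monic palindromic polynomial of degree 4 -/
noncomputable def pal (a b : F) : F[X] := X ^ 4 + C a * X ^ 3 + C b * X ^ 2 + C a * X + 1

theorem pal_dvd (h3 : (3 : F) = 0) (a b : F) (ha : a = 0 ∨ a = 1 ∨ a = -1)
    (hb : b = 0 ∨ b = 1 ∨ b = -1) :
    pal a b ∣ X ^ 12 - 1 ∨ pal a b ∣ X ^ 12 + 1 ∨ pal a b ∣ X ^ 9 - 1 ∨ pal a b ∣ X ^ 9 + 1 ∨
      pal a b ∣ X ^ 5 - 1 ∨ pal a b ∣ X ^ 5 + 1 := by
  have h3X : (3 : F[X]) = 0 := by
    calc (3 : F[X]) = C (3 : F) := (map_ofNat C 3).symm
      _ = 0 := by rw [h3, map_zero]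
  rcases ha with rfl | rfl | rfl <;> rcases hb with rfl | rfl | rfl
  · -- (0, 0)
    right; left
    refine ⟨1 - X ^ 4 + X ^ 8, ?_⟩
    unfold pal
    simp only [map_zero, map_one, map_neg]
    ring
  · -- (0, 1)
    left
    refine ⟨-1 + X ^ 2 - X ^ 6 + X ^ 8, ?_⟩
    unfold pal
    simp only [map_zero, map_one, map_neg]
    ring
  · -- (0, -1)
    left
    refine ⟨-1 - X ^ 2 + X ^ 6 + X ^ 8, ?_⟩
    unfold pal
    simp only [map_zero, map_one, map_neg]
    ring
  · -- (1, 0)
    right; right; right; left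
    refine ⟨1 - X + X ^ 2 + X ^ 3 - X ^ 4 + X ^ 5, ?_⟩
    unfold pal
    simp only [map_zero, map_one, map_neg]
    linear_combination (-X ^ 3 - X ^ 6) * h3X
  · -- (1, 1)
    right; right; right; right; left
    refine ⟨-1 + X, ?_⟩
    unfold pal
    simp only [map_zero, map_one, map_neg]
    ring
  · -- (1, -1)
    left
    refine ⟨-1 + X + X ^ 2 + X ^ 3 - X ^ 5 - X ^ 6 - X ^ 7 + X ^ 8, ?_⟩
    unfold pal
    simp only [map_zero, map_one, map_neg]
    linear_combination (-X ^ 2 + X ^ 10) * h3X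
  · -- (-1, 0)
    right; right; left
    refine ⟨-1 - X - X ^ 2 + X ^ 3 + X ^ 4 + X ^ 5, ?_⟩
    unfold pal
    simp only [map_zero, map_one, map_neg]
    linear_combination (-X ^ 3 + X ^ 6) * h3X
  · -- (-1, 1)
    right; right; right; right; right
    refine ⟨1 + X, ?_⟩
    unfold pal
    simp only [map_zero, map_one, map_neg]
    ring
  · -- (-1, -1)
    left
    refine ⟨-1 - X + X ^ 2 - X ^ 3 + X ^ 5 - X ^ 6 + X ^ 7 + X ^ 8, ?_⟩
    unfold pal
    simp only [map_zero, map_one, map_neg]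
    linear_combination (-X ^ 2 + X ^ 10) * h3X

theorem aeval_eq_zero_of_dvd {A : Type*} [Ring A] [Algebra F A] (M : A) {p q : F[X]}
    (hM : aeval M p = 0) (h : p ∣ q) : aeval M q = 0 := by
  obtain ⟨r, rfl⟩ := h
  rw [map_mul, hM, zero_mul]

theorem pow_cases_of_aeval {A : Type*} [Ring A] [Algebra F A] (M : A) (h3 : (3 : F) = 0)
    (a b : F) (ha : a = 0 ∨ a = 1 ∨ a = -1) (hb : b = 0 ∨ b = 1 ∨ b = -1)
    (hM : aeval M (pal a b) = 0) :
    M ^ 12 = 1 ∨ M ^ 12 = -1 ∨ M ^ 9 = 1 ∨ M ^ 9 = -1 ∨ M ^ 5 = 1 ∨ M ^ 5 = -1 := by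
  rcases pal_dvd h3 a b ha hb with h | h | h | h | h | h
  · left
    have := aeval_eq_zero_of_dvd M hM h
    simpa [sub_eq_zero] using this
  · right; left
    have := aeval_eq_zero_of_dvd M hM h
    simpa [add_eq_zero_iff_eq_neg] using this
  · right; right; left
    have := aeval_eq_zero_of_dvd M hM h
    simpa [sub_eq_zero] using this
  · right; right; right; left
    have := aeval_eq_zero_of_dvd M hM h
    simpa [add_eq_zero_iff_eq_neg] using this
  · right; right; right; right; left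
    have := aeval_eq_zero_of_dvd M hM h
    simpa [sub_eq_zero] using this
  · right; right; right; right; right
    have := aeval_eq_zero_of_dvd M hM h
    simpa [add_eq_zero_iff_eq_neg] using this

end poly

end Cfsg.Agent.Lead.S4Spec
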