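import Mathlib
import Cfsg.Agent.Lead.S4SpecA

/-!
# Element orders of `Sp(4, 3)`: the characteristic polynomial of a symplectic matrix is palindromic
-/

set_option autoImplicit false
set_option linter.unusedSimpArgs false
set_option linter.unusedVariables false

namespace Cfsg.Agent.Lead.S4Spec

open Matrix Polynomial

variable {F : Type*} [Field F]

theorem charpoly_reverse_of_mem {M : Matrix (Fin 2 ⊕ Fin 2) (Fin 2 ⊕ Fin 2) F}
    (hM : M ∈ symplecticGroup (Fin 2) F) : M.charpoly.reverse = M.charpoly := by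
  have hdet : M.det = 1 := SymplecticGroup.det_eq_one hM
  have hunit : IsUnit M := (Matrix.isUnit_iff_isUnit_det M).mpr (hdet ▸ isUnit_one)
  have h1 := Matrix.charpoly_inv M hunit
  have h2 : M⁻¹ = -J (Fin 2) F * Mᵀ * J (Fin 2) F :=
    SymplecticGroup.inv_eq_symplectic_inv M hM
  have h3 : (M⁻¹).charpoly = M.charpoly := by
    rw [h2, Matrix.charpoly_mul_comm, ← mul_assoc, mul_neg, J_squared, neg_neg, one_mul,
      charpoly_transpose]
  rw [h3, hdet, Ring.inverse_one, map_one, mul_one] at h1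
  have h4 : Fintype.card (Fin 2 ⊕ Fin 2) = 4 := by simp
  rw [h4] at h1
  have h5 : ((-1 : F[X])) ^ 4 = 1 := by norm_num
  rw [h5, one_mul] at h1
  rw [reverse_charpoly, ← h1]

theorem charpoly_eq_pal {M : Matrix (Fin 2 ⊕ Fin 2) (Fin 2 ⊕ Fin 2) F}
    (hM : M ∈ symplecticGroup (Fin 2) F) : ∃ a b : F, M.charpoly = pal a b := by
  set p := M.charpoly with hp
  have hrev : p.reverse = p := charpoly_reverse_of_mem hM
  have hdeg : p.natDegree = 4 := by
    rw [hp, charpoly_natDegree_eq_dim]; simp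
  have hmonic : p.Monic := charpoly_monic M
  have hc4 : p.coeff 4 = 1 := by
    have := hmonic.coeff_natDegree
    rwa [hdeg] at this
  have hcoeff : ∀ n, n ≤ 4 → p.coeff n = p.coeff (4 - n) := by
    intro n hn
    have := Polynomial.coeff_reverse p n
    rw [hrev, hdeg, Polynomial.revAt_le hn] at this
    exact this
  have hc0 : p.coeff 0 = 1 := by rw [hcoeff 0 (by norm_num)]; exact hc4
  have hc1 : p.coeff 1 = p.coeff 3 := hcoeff 1 (by norm_num)
  refine ⟨p.coeff 3, p.coeff 2, ?_⟩
  have hsum := Polynomial.as_sum_range_C_mul_X_pow p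
  rw [hdeg] at hsum
  conv_lhs => rw [hsum]
  simp only [Finset.sum_range_succ, Finset.sum_range_zero, zero_add, hc0, hc1, hc4, map_one,
    pow_zero, mul_one, pow_one, one_mul]
  unfold pal
  ring

/-- the main bound on powers of symplectic `4 × 4` matrices over the field with three elements -/
theorem pow_cases_of_mem [Fintype F] (hF : Fintype.card F = 3)
    {M : Matrix (Fin 2 ⊕ Fin 2) (Fin 2 ⊕ Fin 2) F} (hM : M ∈ symplecticGroup (Fin 2) F) :
    M ^ 12 = 1 ∨ M ^ 12 = -1 ∨ M ^ 9 = 1 ∨ M ^ 9 = -1 ∨ M ^ 5 = 1 ∨ M ^ 5 = -1 := by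
  have h3 : (3 : F) = 0 := by
    have := Nat.cast_card_eq_zero F
    rw [hF] at this
    exact_mod_cast this
  have hcases : ∀ x : F, x = 0 ∨ x = 1 ∨ x = -1 := by
    intro x
    have hx := FiniteField.pow_card x
    rw [hF] at hx
    have : x * (x - 1) * (x + 1) = 0 := by
      have : x * (x - 1) * (x + 1) = x ^ 3 - x := by ring
      rw [this, hx, sub_self]
    rcases mul_eq_zero.mp this with h | h
    · rcases mul_eq_zero.mp h with h | h
      · exact Or.inl h
      · exact Or.inr (Or.inl (sub_eq_zero.mp h))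
    · exact Or.inr (Or.inr (eq_neg_of_add_eq_zero_left h))
  obtain ⟨a, b, hab⟩ := charpoly_eq_pal hM
  have hCH := Matrix.aeval_self_charpoly M
  rw [hab] at hCH
  exact pow_cases_of_aeval M h3 a b (hcases a) (hcases b) hCH

end Cfsg.Agent.Lead.S4Spec
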