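import Mathlib
import Cfsg.Agent.Lead.S4SpecB
import Cfsg.Agent.Lead.SpecSet

/-!
# The set of element orders of `PSp(4, 3)` is `{1, 2, 3, 4, 5, 6, 9, 12}`
-/

set_option autoImplicit false
set_option linter.unusedSimpArgs false
set_option linter.unusedVariables false
set_option linter.style.haveILetI false

namespace Cfsg.Agent.Lead.S4Spec

open Matrix Polynomial

/-- index type of `4 × 4` symplectic matrices -/
abbrev I4 := Fin 2 ⊕ Fin 2

/-- a `4 × 4` matrix over `ZMod 3` from a list of rows -/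
def ofL (l : List (List (ZMod 3))) : Matrix I4 I4 (ZMod 3) :=
  Matrix.of fun i j =>
    let r := match i with | Sum.inl a => a.val | Sum.inr a => 2 + a.val
    let c := match j with | Sum.inl a => a.val | Sum.inr a => 2 + a.val
    (l.getD r []).getD c 0

/-- an element of order 12 -/
def M12 : Matrix I4 I4 (ZMod 3) := ofL [[0,0,1,0],[0,0,0,2],[2,0,2,0],[0,1,0,0]]
/-- an element of order 9 -/
def M9 : Matrix I4 I4 (ZMod 3) := ofL [[2,2,0,0],[0,0,1,2],[0,0,0,2],[2,0,0,0]]
/-- an element of order 5 -/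
def M5 : Matrix I4 I4 (ZMod 3) := ofL [[0,0,1,0],[0,0,0,1],[2,0,1,1],[0,2,1,0]]
/-- a witness of non-centrality -/
def MB : Matrix I4 I4 (ZMod 3) := ofL [[1,0,0,0],[0,1,0,0],[1,1,1,0],[1,1,0,1]]

set_option maxRecDepth 100000 in
theorem M12_mem : M12 * J (Fin 2) (ZMod 3) * M12ᵀ = J (Fin 2) (ZMod 3) := by decide
set_option maxRecDepth 100000 in
theorem M9_mem : M9 * J (Fin 2) (ZMod 3) * M9ᵀ = J (Fin 2) (ZMod 3) := by decide
set_option maxRecDepth 100000 in
theorem M5_mem : M5 * J (Fin 2) (ZMod 3) * M5ᵀ = J (Fin 2) (ZMod 3) := by decide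
set_option maxRecDepth 100000 in
theorem MB_mem : MB * J (Fin 2) (ZMod 3) * MBᵀ = J (Fin 2) (ZMod 3) := by decide

set_option maxRecDepth 100000 in
theorem M12_pow : M12 ^ 12 = 1 := by decide
set_option maxRecDepth 100000 in
theorem M12_six : M12 ^ 6 * MB ≠ MB * M12 ^ 6 := by decide
set_option maxRecDepth 100000 in
theorem M12_four : M12 ^ 4 * MB ≠ MB * M12 ^ 4 := by decide
set_option maxRecDepth 100000 in
theorem M9_pow : M9 ^ 9 = -1 := by decide
set_option maxRecDepth 100000 in
theorem M9_three : M9 ^ 3 * MB ≠ MB * M9 ^ 3 := by decide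
set_option maxRecDepth 100000 in
theorem M5_pow : M5 ^ 5 = -1 := by decide
set_option maxRecDepth 100000 in
theorem M5_one : M5 ^ 1 * MB ≠ MB * M5 ^ 1 := by decide

end Cfsg.Agent.Lead.S4Spec
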