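import Mathlib
import Cfsg.Agent.Lead.S4SpecC

/-!
# The set of element orders of `PSp(4, 3)` is `{1, 2, 3, 4, 5, 6, 9, 12}`: transfer to the quotient
-/

set_option autoImplicit false
set_option linter.unusedSimpArgs false
set_option linter.unusedVariables false
set_option linter.style.haveILetI false

namespace Cfsg.Agent.Lead.S4Spec

open Matrix Polynomial

variable {F : Type*} [Field F]

/-- the symplectic group -/
abbrev Sp4 (F : Type*) [Field F] := Matrix.symplecticGroup (Fin 2) F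

/-- the projective symplectic group -/
abbrev PSp4 (F : Type*) [Field F] := Sp4 F ⧸ Subgroup.center (Sp4 F)

/-- the central element `-1` -/
def negOne : Sp4 F := ⟨-1, SymplecticGroup.neg_mem (one_mem _)⟩

theorem negOne_mem_center : (negOne : Sp4 F) ∈ Subgroup.center (Sp4 F) := by
  rw [Subgroup.mem_center_iff]
  intro g
  apply Subtype.ext
  simp [negOne]

theorem coe_pow' (g : Sp4 F) (n : ℕ) : ((g ^ n : Sp4 F) : Matrix I4 I4 F) = (g : Matrix I4 I4 F) ^ n :=
  SubmonoidClass.coe_pow g n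

theorem mk_pow_eq_one_of_pm (g : Sp4 F) (n : ℕ)
    (h : (g : Matrix I4 I4 F) ^ n = 1 ∨ (g : Matrix I4 I4 F) ^ n = -1) :
    (QuotientGroup.mk g : PSp4 F) ^ n = 1 := by
  rw [← QuotientGroup.mk_pow, QuotientGroup.eq_one_iff]
  rcases h with h | h
  · have : g ^ n = 1 := by
      apply Subtype.ext
      rw [coe_pow', h]; rfl
    rw [this]; exact one_mem _
  · have : g ^ n = negOne := by
      apply Subtype.ext
      rw [coe_pow', h]; rfl
    rw [this]; exact negOne_mem_center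

theorem psp_pow_cases [Fintype F] (hF : Fintype.card F = 3) (x : PSp4 F) :
    x ^ 12 = 1 ∨ x ^ 5 = 1 ∨ x ^ 9 = 1 := by
  obtain ⟨g, rfl⟩ := QuotientGroup.mk_surjective x
  rcases pow_cases_of_mem hF g.2 with h | h | h | h | h | h
  · exact Or.inl (mk_pow_eq_one_of_pm g 12 (Or.inl h))
  · exact Or.inl (mk_pow_eq_one_of_pm g 12 (Or.inr h))
  · exact Or.inr (Or.inr (mk_pow_eq_one_of_pm g 9 (Or.inl h)))
  · exact Or.inr (Or.inr (mk_pow_eq_one_of_pm g 9 (Or.inr h)))
  · exact Or.inr (Or.inl (mk_pow_eq_one_of_pm g 5 (Or.inl h)))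
  · exact Or.inr (Or.inl (mk_pow_eq_one_of_pm g 5 (Or.inr h)))

section transfer

variable (ι : ZMod 3 →+* F)

/-- transfer a symplectic matrix over `ZMod 3` to `F` -/
def lift (M : Matrix I4 I4 (ZMod 3)) (hM : M * J (Fin 2) (ZMod 3) * Mᵀ = J (Fin 2) (ZMod 3)) :
    Sp4 F :=
  ⟨M.map ι, SymplecticGroup.map_mem (SymplecticGroup.mem_iff.mpr hM) ι⟩

theorem lift_pow_coe (M : Matrix I4 I4 (ZMod 3)) (hM : M * J (Fin 2) (ZMod 3) * Mᵀ = J (Fin 2) (ZMod 3)) (n : ℕ) :
    ((lift ι M hM) ^ n : Sp4 F).1 = (M ^ n).map ι := by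
  rw [coe_pow']
  exact (map_pow ι.mapMatrix M n).symm

theorem map_inj : Function.Injective (fun M : Matrix I4 I4 (ZMod 3) => M.map ι) :=
  Matrix.map_injective (RingHom.injective ι)

theorem lift_pow_mk_eq_one (M : Matrix I4 I4 (ZMod 3)) (hM : M * J (Fin 2) (ZMod 3) * Mᵀ = J (Fin 2) (ZMod 3)) (n : ℕ)
    (h : M ^ n = 1 ∨ M ^ n = -1) : (QuotientGroup.mk (lift ι M hM) : PSp4 F) ^ n = 1 := by
  apply mk_pow_eq_one_of_pm
  have e : ((lift ι M hM : Sp4 F) : Matrix I4 I4 F) ^ n = (M ^ n).map ι := by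
    rw [← coe_pow']; exact lift_pow_coe ι M hM n
  rw [e]
  rcases h with h | h
  · left; rw [h]; exact (map_one ι.mapMatrix)
  · right; rw [h]; exact (map_neg ι.mapMatrix 1).trans (by rw [map_one])

theorem lift_pow_mk_ne_one (M B : Matrix I4 I4 (ZMod 3)) (hM : M * J (Fin 2) (ZMod 3) * Mᵀ = J (Fin 2) (ZMod 3))
    (hB : B * J (Fin 2) (ZMod 3) * Bᵀ = J (Fin 2) (ZMod 3)) (n : ℕ)
    (h : M ^ n * B ≠ B * M ^ n) : (QuotientGroup.mk (lift ι M hM) : PSp4 F) ^ n ≠ 1 := by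
  rw [← QuotientGroup.mk_pow, Ne, QuotientGroup.eq_one_iff, Subgroup.mem_center_iff]
  intro hc
  apply h
  have h1 := congrArg Subtype.val (hc (lift ι B hB))
  rw [Submonoid.coe_mul, Submonoid.coe_mul, lift_pow_coe] at h1
  have h2 : (B * M ^ n).map ι = (M ^ n * B).map ι := by
    have e1 : (B * M ^ n).map ι = B.map ι * (M ^ n).map ι := (map_mul ι.mapMatrix _ _)
    have e2 : (M ^ n * B).map ι = (M ^ n).map ι * B.map ι := (map_mul ι.mapMatrix _ _)
    rw [e1, e2]
    exact h1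
  exact (map_inj ι h2).symm

theorem exists_orders (ι : ZMod 3 →+* F) : (∃ x : PSp4 F, orderOf x = 12) ∧ (∃ x : PSp4 F, orderOf x = 5) ∧
    (∃ x : PSp4 F, orderOf x = 9) := by
  refine ⟨⟨QuotientGroup.mk (lift ι M12 M12_mem), ?_⟩, ⟨QuotientGroup.mk (lift ι M5 M5_mem), ?_⟩,
    ⟨QuotientGroup.mk (lift ι M9 M9_mem), ?_⟩⟩
  · apply orderOf_eq_of_pow_and_pow_div_prime (by norm_num)
      (lift_pow_mk_eq_one ι M12 M12_mem 12 (Or.inl M12_pow))
    intro p hp hd
    have hp' : p = 2 ∨ p = 3 := by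
      have h12 : (12 : ℕ) = 2 ^ 2 * 3 := by norm_num
      rw [h12] at hd
      rcases (Nat.Prime.dvd_mul hp).mp hd with h | h
      · left; exact (Nat.prime_dvd_prime_iff_eq hp Nat.prime_two).mp (hp.dvd_of_dvd_pow h)
      · right; exact (Nat.prime_dvd_prime_iff_eq hp Nat.prime_three).mp h
    rcases hp' with rfl | rfl
    · exact lift_pow_mk_ne_one ι M12 MB M12_mem MB_mem 6 M12_six
    · exact lift_pow_mk_ne_one ι M12 MB M12_mem MB_mem 4 M12_four
  · apply orderOf_eq_of_pow_and_pow_div_prime (by norm_num)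
      (lift_pow_mk_eq_one ι M5 M5_mem 5 (Or.inr M5_pow))
    intro p hp hd
    have hp' : p = 5 := (Nat.prime_dvd_prime_iff_eq hp (by norm_num)).mp hd
    subst hp'
    exact lift_pow_mk_ne_one ι M5 MB M5_mem MB_mem 1 M5_one
  · apply orderOf_eq_of_pow_and_pow_div_prime (by norm_num)
      (lift_pow_mk_eq_one ι M9 M9_mem 9 (Or.inr M9_pow))
    intro p hp hd
    have hp' : p = 3 := by
      have h9 : (9 : ℕ) = 3 ^ 2 := by norm_num
      rw [h9] at hd
      exact (Nat.prime_dvd_prime_iff_eq hp Nat.prime_three).mp (hp.dvd_of_dvd_pow hd)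
    subst hp'
    exact lift_pow_mk_ne_one ι M9 MB M9_mem MB_mem 3 M9_three

end transfer

/-- the set of element orders of `PSp(4, 3)` -/
theorem range_orderOf_psp [Fintype F] (hF : Fintype.card F = 3) :
    Set.range (orderOf : PSp4 F → ℕ) = Cfsg.Agent.Lead.IsoSolv.specSet := by
  haveI : Fact (Nat.Prime 3) := ⟨Nat.prime_three⟩
  haveI : CharP F 3 := charP_of_card_eq_prime hF
  obtain ⟨h12, h5, h9⟩ := exists_orders (F := F) (ZMod.castHom (dvd_refl 3) F)
  exact Cfsg.Agent.Lead.IsoSolv.range_orderOf_eq (psp_pow_cases hF) h12 h5 h9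

end Cfsg.Agent.Lead.S4Spec
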