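import Mathlib
import Cfsg.Agent.Lead.SGDefs
import Cfsg.Agent.Lead.SGOrb
import Cfsg.Agent.Lead.SGComm
import Cfsg.Agent.Helper3.ShHHmin
import Cfsg.Agent.Helper3.ShCliffordC

/-!
Shult–Gross (S3793): the linear core `LinQHyp p` for an odd prime `p`, from the prime-power version
of Shult's index lemma (`PPHyp`) and Gross's counting lemma for the exceptional case (`EHyp`).
-/

set_option autoImplicit false
set_option linter.style.haveILetI false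

namespace Cfsg.Agent.Lead.SG

open Cfsg.Agent.Lead.S3F Cfsg.Agent.Lead.Fpq
open Classical

universe u

/-- the prime-power version of Shult's index lemma (interface of `notes/S3793_plan.md` §3). -/
def PPHyp (p : ℕ) : Prop :=
  ∀ (k : Type) [Field k] [IsAlgClosed k] (Γ : Type u) [Group Γ] [Finite Γ] (W : Type u)
    [AddCommGroup W] [Module k W] [Module.Finite k W] (ρ : Representation k Γ W) (q : ℕ),
    q.Prime → q ≠ p → (p : k) ≠ 0 → (q : k) ≠ 0 →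
    ∀ (Q : Subgroup Γ), IsPGroup q Q → ∀ (x : Γ) (e : ℕ), 1 ≤ e → x ^ (p ^ e) = 1 →
    x ∈ Subgroup.normalizer (Q : Set Γ) →
    ∀ (M : Submodule k W), (∀ g ∈ Q, ∀ w ∈ M, ρ g w ∈ M) → (∀ w ∈ M, ρ x w ∈ M) →
    (∀ g ∈ Q, ∀ h ∈ Q, ∃ c : k, ∀ w ∈ M, ρ (g * h * g⁻¹ * h⁻¹) w = c • w) →
    (∀ w ∈ M, ρ x w = w → w = 0) →
    (∀ c ∈ Q, x ^ (p ^ (e - 1)) * c = c * x ^ (p ^ (e - 1)) → ∀ g ∈ Q, c * g = g * c) →
    (∃ g ∈ Q, ∃ w ∈ M, ρ (x ^ (p ^ (e - 1)) * g * (x ^ (p ^ (e - 1)))⁻¹) w ≠ ρ g w) →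
    ∀ (R : Subgroup Γ),
      (∀ g, g ∈ R ↔ g ∈ Q ∧ ∀ h ∈ Q, ∀ w ∈ M, ρ (g * h * g⁻¹ * h⁻¹) w = w) →
    q = 2 ∧ ∃ e' m : ℕ, 1 ≤ e' ∧ e' ≤ e ∧ p ^ e' = 2 ^ m + 1 ∧ R.relIndex Q = 2 ^ (2 * m)

/-- Gross's counting lemma for the exceptional case (interface of `notes/S3793_plan.md` §4). -/
def EHyp (p : ℕ) : Prop :=
  ∀ (Γ : Type u) [Group Γ] [Finite Γ] (n e' m j : ℕ) (Q Z R : Subgroup Γ), IsPGroup 2 Q →
    Z ≤ Q → (∀ z ∈ Z, ∀ g ∈ Q, z * g = g * z) → R ≤ Q →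
    ∀ (s : Γ), s ^ (p ^ n) = 1 → 1 ≤ n → s ∈ Subgroup.normalizer (Q : Set Γ) →
    s ∈ Subgroup.normalizer (Z : Set Γ) →
    (∀ g ∈ Q, s ^ (p ^ (n - 1)) * g * (s ^ (p ^ (n - 1)))⁻¹ * g⁻¹ ∈ Z → g ∈ Z) →
    Z ≠ Q → 1 ≤ e' → j + e' ≤ n → p ^ e' = 2 ^ m + 1 → R.relIndex Q = 2 ^ (2 * m) →
    (∀ g ∈ Q, (∀ i, 1 ≤ i → i < p ^ j → s ^ i * g * (s ^ i)⁻¹ ∈ R) → g ∈ Z) → False

set_option maxHeartbeats 1600000 in
/-- **The linear core**, from the two lemmas. -/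
theorem linQ_of {p : ℕ} (hp : p.Prime) (hp2 : p ≠ 2) (hPP : PPHyp.{u} p) (hE : EHyp.{u} p) :
    LinQHyp.{u} p := by
  intro k _ _ Γ _ _ W _ _ _ ρ q hq hqp hpk hqk Q hQ x n hn hx hxQ hfpfQ hfaith hfix
  haveI : Fintype Γ := Fintype.ofFinite Γ
  haveI : Fact p.Prime := ⟨hp⟩
  haveI : Fact q.Prime := ⟨hq⟩
  obtain ⟨y, hy⟩ : ∃ y, y = x ^ (p ^ (n - 1)) := ⟨_, rfl⟩
  rw [← hy]
  by_contra hcon
  push Not at hcon
  have hyp : y ^ p = 1 := by rw [hy, ← pow_mul, ← pow_succ, Nat.sub_add_cancel hn, hx]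
  have hxy : x * y = y * x := by rw [hy, ← pow_succ', ← pow_succ]
  obtain ⟨Q₁, hQ₁Q, hxQ₁, hncQ₁, hmin, -, c1, c2⟩ :=
    Cfsg.Agent.Helper3.Shult.exists_min_noncentral₂ hq hp hqp Q hQ x y (p ^ (n - 1)) hy hyp hxQ hcon
  have hQ₁p : IsPGroup q Q₁ := hQ.to_le hQ₁Q
  have hpowQ₁ : ∀ i : ℕ, ∀ g ∈ Q₁, x ^ i * g * (x ^ i)⁻¹ ∈ Q₁ :=
    Cfsg.Agent.Helper3.Shult.conj_pow_mem Q₁ x hxQ₁
  have hyQ₁ : ∀ g ∈ Q₁, y * g * y⁻¹ ∈ Q₁ := by rw [hy]; exact hpowQ₁ _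
  have hxQ₁n : x ∈ Subgroup.normalizer (Q₁ : Set Γ) := mem_normalizer_of_conj_mem Q₁ x hxQ₁
  -- the subgroup `Z = C_{Q₁}(y)`
  obtain ⟨Z, hZ⟩ : ∃ Z : Subgroup Γ, ∀ g, g ∈ Z ↔ g ∈ Q₁ ∧ y * g * y⁻¹ = g := by
    refine ⟨Q₁ ⊓ Subgroup.centralizer {y}, fun g => ?_⟩
    rw [Subgroup.mem_inf, Subgroup.mem_centralizer_singleton_iff, mul_inv_eq_iff_eq_mul,
      eq_comm]
  have hZQ₁ : Z ≤ Q₁ := fun g hg => ((hZ g).1 hg).1
  have hZc : ∀ z ∈ Z, ∀ g ∈ Q₁, z * g = g * z :=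
    fun z hz g hg => c2 z ((hZ z).1 hz).1 ((hZ z).1 hz).2 g hg
  have hZcomm : ∀ a ∈ Z, ∀ b ∈ Z, a * b = b * a := fun a ha b hb => hZc a ha b (hZQ₁ hb)
  have hyZ : ∀ z ∈ Z, y * z = z * y := by
    intro z hz
    have := ((hZ z).1 hz).2
    rwa [mul_inv_eq_iff_eq_mul] at this
  have hxZ : ∀ z ∈ Z, x * z * x⁻¹ ∈ Z := by
    intro z hz
    rw [hZ]
    refine ⟨hxQ₁ z (hZQ₁ hz), ?_⟩
    have h1 := ((hZ z).1 hz).2
    calc y * (x * z * x⁻¹) * y⁻¹ = x * (y * z * y⁻¹) * x⁻¹ := by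
          have : y * x = x * y := hxy.symm
          have h2 : y * (x * z * x⁻¹) * y⁻¹ = (y * x) * z * (y * x)⁻¹ := by group
          rw [h2, this]; group
      _ = x * z * x⁻¹ := by rw [h1]
  have hxZn : x ∈ Subgroup.normalizer (Z : Set Γ) := mem_normalizer_of_conj_mem Z x hxZ
  have hpowZn : ∀ i : ℕ, x ^ i ∈ Subgroup.normalizer (Z : Set Γ) :=
    fun i => Subgroup.pow_mem _ hxZn i
  have hZp : IsPGroup q Z := hQ₁p.to_le hZQ₁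
  have hZk : (Fintype.card Z : k) ≠ 0 := card_cast_ne_zero_of_isPGroup hqk Z hZp
  haveI : HasEnoughRootsOfUnity k (Monoid.exponent Z) :=
    hasEnoughRootsOfUnity_of_isPGroup hqk Z hZp
  have hfpfZ : ∀ e ∈ Z, x * e * x⁻¹ = e → e = 1 :=
    fun e he h => hfpfQ e (hQ₁Q (hZQ₁ he)) h
  -- elements of `Q₁` and `y` stabilize every character of `Z`
  have hQ₁stab : ∀ (χ : Z →* kˣ), ∀ g ∈ Q₁, g ∈ charStab Z χ := by
    intro χ g hg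
    have hcg : ∀ e ∈ Z, g * e = e * g := fun e he => (hZc e he g hg).symm
    have hgn : g ∈ Subgroup.normalizer (Z : Set Γ) := by
      apply mem_normalizer_of_conj_mem Z g
      intro z hz
      rw [hcg z hz, mul_inv_cancel_right]
      exact hz
    exact mem_charStab_of hgn (conjChar_of_commute Z g hgn hcg χ)
  have hystab : ∀ (χ : Z →* kˣ), y ∈ charStab Z χ := by
    intro χ
    have hyn : y ∈ Subgroup.normalizer (Z : Set Γ) := by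
      apply mem_normalizer_of_conj_mem Z y
      intro z hz
      rw [hyZ z hz, mul_inv_cancel_right]
      exact hz
    exact mem_charStab_of hyn (conjChar_of_commute Z y hyn hyZ χ)
  -- a weight on which `y` acts non-trivially on `Q₁`
  obtain ⟨g₀, hg₀, hg₀y⟩ := hncQ₁
  have hρne : ρ (y * g₀ * y⁻¹) ≠ ρ g₀ := by
    intro h
    apply hg₀y
    have hmem : g₀⁻¹ * (y * g₀ * y⁻¹) ∈ Q := hQ₁Q (Q₁.mul_mem (Q₁.inv_mem hg₀) (hyQ₁ g₀ hg₀))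
    have h1 : ρ (g₀⁻¹ * (y * g₀ * y⁻¹)) = 1 := by
      rw [map_mul, h, ← map_mul, inv_mul_cancel, map_one]
    have h2 := hfaith _ hmem h1
    calc y * g₀ * y⁻¹ = g₀ * (g₀⁻¹ * (y * g₀ * y⁻¹)) := by group
      _ = g₀ := by rw [h2, mul_one]
  obtain ⟨w, hw⟩ : ∃ w, ρ (y * g₀ * y⁻¹) w ≠ ρ g₀ w := by
    by_contra hno
    push Not at hno
    exact hρne (LinearMap.ext hno)
  obtain ⟨S, hS⟩ := exists_wt_decomp ρ Z hZcomm hZk w
  obtain ⟨χ, -, hχ⟩ : ∃ χ ∈ S, ρ (y * g₀ * y⁻¹) (wtProj ρ Z χ w) ≠ ρ g₀ (wtProj ρ Z χ w) := by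
    by_contra hno
    push Not at hno
    apply hw
    rw [hS, map_sum, map_sum]
    exact Finset.sum_congr rfl hno
  obtain ⟨w₀, hw₀⟩ : ∃ w₀, w₀ = wtProj ρ Z χ w := ⟨_, rfl⟩
  rw [← hw₀] at hχ
  have hw₀M : w₀ ∈ wtSpace ρ Z χ := by rw [hw₀]; exact wtProj_apply_mem ρ Z χ w
  have hw₀0 : w₀ ≠ 0 := by
    intro h
    apply hχ
    rw [h, map_zero, map_zero]
  obtain ⟨M, hM⟩ : ∃ M : Submodule k W, M = wtSpace ρ Z χ := ⟨_, rfl⟩
  -- the stabilizer of the weight in `⟨x⟩`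
  have hymem : x ^ (p ^ (n - 1)) ∈ charStab Z χ := by rw [← hy]; exact hystab χ
  obtain ⟨j, hjn, hjmem, hjout⟩ := exists_min_pow_mem hp (charStab Z χ) x n hx (n - 1) hymem
  obtain ⟨x₁, hx₁⟩ : ∃ x₁, x₁ = x ^ (p ^ j) := ⟨_, rfl⟩
  obtain ⟨e, he⟩ : ∃ e, e = n - j := ⟨_, rfl⟩
  have he1 : 1 ≤ e := by omega
  have hx₁e : x₁ ^ (p ^ e) = 1 := by
    rw [hx₁, ← pow_mul, ← pow_add, he]
    have : j + (n - j) = n := by omega
    rw [this, hx]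
  have hx₁y : x₁ ^ (p ^ (e - 1)) = y := by
    rw [hx₁, ← pow_mul, ← pow_add, he, hy]
    congr 2
    omega
  have hx₁stab : x₁ ∈ charStab Z χ := by rw [hx₁]; exact hjmem
  have hx₁Q₁ : x₁ ∈ Subgroup.normalizer (Q₁ : Set Γ) := by
    rw [hx₁]; exact Subgroup.pow_mem _ hxQ₁n _
  have hMQ : ∀ g ∈ Q₁, ∀ w ∈ M, ρ g w ∈ M := by
    intro g hg w hw
    rw [hM] at hw ⊢
    exact rho_mem_wtSpace_of_mem_charStab ρ Z χ g (hQ₁stab χ g hg) w hw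
  have hMx : ∀ w ∈ M, ρ x₁ w ∈ M := by
    intro w hw
    rw [hM] at hw ⊢
    exact rho_mem_wtSpace_of_mem_charStab ρ Z χ x₁ hx₁stab w hw
  have hMxi : ∀ w ∈ M, ρ x₁⁻¹ w ∈ M := by
    intro w hw
    rw [hM] at hw ⊢
    exact rho_mem_wtSpace_of_mem_charStab ρ Z χ x₁⁻¹ (Subgroup.inv_mem _ hx₁stab) w hw
  have hfixM : ∀ w ∈ M, ρ x₁ w = w → w = 0 := by
    intro w hw hxw
    rw [hM] at hw
    rw [hx₁] at hxw
    exact orb_cyc ρ Z hZk x hxZn hfix χ (p ^ j) (pow_pos hp.pos j) hjout w hw hxw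
  -- commutators of `Q₁` lie in `Z`
  have hcommZ : ∀ g ∈ Q₁, ∀ h ∈ Q₁, g * h * g⁻¹ * h⁻¹ ∈ Z := by
    intro g hg h hh
    rw [hZ]
    exact ⟨Q₁.mul_mem (Q₁.mul_mem (Q₁.mul_mem hg hh) (Q₁.inv_mem hg)) (Q₁.inv_mem hh),
      c1 g hg h hh⟩
  have hZact : ∀ z (hz : z ∈ Z), ∀ w ∈ M, ρ z w = ((χ ⟨z, hz⟩ : kˣ) : k) • w := by
    intro z hz w hw
    rw [hM] at hw
    exact hw ⟨z, hz⟩
  have hsc : ∀ g ∈ Q₁, ∀ h ∈ Q₁, ∃ c : k, ∀ w ∈ M, ρ (g * h * g⁻¹ * h⁻¹) w = c • w :=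
    fun g hg h hh => ⟨_, hZact _ (hcommZ g hg h hh)⟩
  have hCy : ∀ c ∈ Q₁, x₁ ^ (p ^ (e - 1)) * c = c * x₁ ^ (p ^ (e - 1)) →
      ∀ g ∈ Q₁, c * g = g * c := by
    intro c hc hcy
    rw [hx₁y] at hcy
    apply c2 c hc
    rw [mul_inv_eq_iff_eq_mul]; exact hcy
  have hnt : ∃ g ∈ Q₁, ∃ w ∈ M,
      ρ (x₁ ^ (p ^ (e - 1)) * g * (x₁ ^ (p ^ (e - 1)))⁻¹) w ≠ ρ g w := by
    rw [hx₁y]
    exact ⟨g₀, hg₀, w₀, by rw [hM]; exact hw₀M, hχ⟩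
  -- the subgroup `R`
  obtain ⟨R, hRdef⟩ : ∃ R : Subgroup Γ, R = commSub ρ Q₁ M hMQ := ⟨_, rfl⟩
  have hR : ∀ g, g ∈ R ↔ g ∈ Q₁ ∧ ∀ h ∈ Q₁, ∀ w ∈ M, ρ (g * h * g⁻¹ * h⁻¹) w = w := by
    intro g; rw [hRdef]; exact mem_commSub_iff ρ Q₁ M hMQ g
  have hRQ₁ : R ≤ Q₁ := fun g hg => ((hR g).1 hg).1
  obtain ⟨hq2, e', m, he'1, he'e, hpe, hidx⟩ :=
    hPP k Γ W ρ q hq hqp hpk hqk Q₁ hQ₁p x₁ e he1 hx₁e hx₁Q₁ M hMQ hMx hsc hfixM hCy hnt R hR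
  -- `R` is a proper subgroup
  have hm1 : 1 ≤ m := by
    rcases Nat.eq_zero_or_pos m with h0 | h
    · exfalso
      rw [h0, pow_zero] at hpe
      have h3 : 3 ≤ p := by
        have := hp.two_le
        omega
      have h4 : 3 ≤ p ^ e' := le_trans h3 (by
        calc p = p ^ 1 := (pow_one p).symm
          _ ≤ p ^ e' := Nat.pow_le_pow_right hp.pos he'1)
      omega
    · exact h
  have hRne : R ≠ Q₁ := by
    intro h
    rw [h, Subgroup.relIndex_self] at hidx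
    have : 2 ^ 1 ≤ 2 ^ (2 * m) := Nat.pow_le_pow_right (by norm_num) (by omega)
    omega
  -- `R` is stable under conjugation by `x₁`
  have hx₁conj : ∀ g ∈ Q₁, x₁ * g * x₁⁻¹ ∈ Q₁ := by rw [hx₁]; exact hpowQ₁ _
  have hx₁conj' : ∀ g ∈ Q₁, x₁⁻¹ * g * x₁ ∈ Q₁ := by
    intro g hg
    exact conj_mem_of_mem_normalizer hx₁Q₁ ⟨g, hg⟩
  have hRx₁ : ∀ g ∈ R, x₁ * g * x₁⁻¹ ∈ R := by
    intro g hg
    rw [hRdef] at hg ⊢
    exact conj_mem_commSub ρ Q₁ M hMQ x₁ hx₁conj hx₁conj' hMxi g hg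
  have hRx₁pow : ∀ a : ℕ, ∀ g ∈ R, x₁ ^ a * g * (x₁ ^ a)⁻¹ ∈ R :=
    fun a => Cfsg.Agent.Helper3.Shult.conj_pow_mem R x₁ hRx₁ a
  -- an element of `Z` acting trivially on `M` is killed by the weight
  have hχ1 : ∀ z (hz : z ∈ Z), (∀ w ∈ M, ρ z w = w) → χ ⟨z, hz⟩ = 1 := by
    intro z hz h
    have h1 := hZact z hz w₀ (by rw [hM]; exact hw₀M)
    rw [h w₀ (by rw [hM]; exact hw₀M)] at h1
    have h2 : ((1 : k) - ((χ ⟨z, hz⟩ : kˣ) : k)) • w₀ = 0 := by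
      rw [sub_smul, one_smul, ← h1, sub_self]
    rcases smul_eq_zero.1 h2 with h3 | h3
    · apply Units.ext
      rw [Units.val_one]
      exact (sub_eq_zero.1 h3).symm
    · exact absurd h3 hw₀0
  -- the key property for Gross's lemma
  have hint : ∀ g ∈ Q₁, (∀ i, 1 ≤ i → i < p ^ j → x ^ i * g * (x ^ i)⁻¹ ∈ R) → g ∈ Z := by
    intro g hg hi
    -- first `g ∈ R`
    have hgR : g ∈ R := by
      rw [hR]
      refine ⟨hg, ?_⟩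
      intro h hh w hw
      obtain ⟨z, hzdef⟩ : ∃ z, z = g * h * g⁻¹ * h⁻¹ := ⟨_, rfl⟩
      have hz : z ∈ Z := by rw [hzdef]; exact hcommZ g hg h hh
      rw [← hzdef, hZact z hz w hw]
      -- the product over the orbit, for the inverse of `x`
      have hxiZn : x⁻¹ ∈ Subgroup.normalizer (Z : Set Γ) := Subgroup.inv_mem _ hxZn
      have hfpfZ' : ∀ e ∈ Z, x⁻¹ * e * x⁻¹⁻¹ = e → e = 1 := by
        intro e he h
        apply hfpfZ e he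
        rw [inv_inv] at h
        calc x * e * x⁻¹ = x * (x⁻¹ * e * x) * x⁻¹ := by rw [h]
          _ = e := by group
      have hP : conjChar Z (x⁻¹ ^ (p ^ j)) (Subgroup.pow_mem _ hxiZn (p ^ j)) χ = χ := by
        have h1 : x⁻¹ ^ (p ^ j) ∈ charStab Z χ := by
          rw [inv_pow, ← hx₁]; exact Subgroup.inv_mem _ hx₁stab
        obtain ⟨_, h2⟩ := h1
        exact h2
      have hprod := prod_orbit_eq_one (k := k) Z x⁻¹ hxiZn hfpfZ' χ (p ^ j) hP ⟨z, hz⟩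
      rw [Finset.prod_eq_single 0] at hprod
      · have h0 : conjChar Z (x⁻¹ ^ 0) (Subgroup.pow_mem _ hxiZn 0) χ = χ := by
          have e0 : x⁻¹ ^ 0 = 1 := pow_zero _
          rw [conjChar_congr Z e0, conjChar_one]
        rw [h0] at hprod
        rw [hprod, Units.val_one, one_smul]
      · intro i hi' hi0
        rw [Finset.mem_range] at hi'
        have hi1 : 1 ≤ i := by omega
        rw [conjChar_apply]
        -- the conjugate of `z` by `x ^ i` is a commutator with an element of `R`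
        have hgi : x ^ i * g * (x ^ i)⁻¹ ∈ R := hi i hi1 hi'
        have hhi : x ^ i * h * (x ^ i)⁻¹ ∈ Q₁ := hpowQ₁ i h hh
        have e1 : (x⁻¹ ^ i)⁻¹ * z * x⁻¹ ^ i =
            (x ^ i * g * (x ^ i)⁻¹) * (x ^ i * h * (x ^ i)⁻¹) * (x ^ i * g * (x ^ i)⁻¹)⁻¹ *
              (x ^ i * h * (x ^ i)⁻¹)⁻¹ := by
          rw [hzdef, inv_pow, inv_inv]; group
        have hmemZ : (x⁻¹ ^ i)⁻¹ * z * x⁻¹ ^ i ∈ Z := by
          rw [e1]; exact hcommZ _ (hRQ₁ hgi) _ hhi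
        have h5 : (⟨(x⁻¹ ^ i)⁻¹ * ((⟨z, hz⟩ : Z) : Γ) * x⁻¹ ^ i,
            conj_mem_of_mem_normalizer (Subgroup.pow_mem _ hxiZn i) ⟨z, hz⟩⟩ : Z) =
            ⟨(x⁻¹ ^ i)⁻¹ * z * x⁻¹ ^ i, hmemZ⟩ := rfl
        rw [h5]
        apply hχ1
        intro w' hw'
        rw [e1]
        exact ((hR _).1 hgi).2 _ hhi w' hw'
      · intro h0
        exact absurd (Finset.mem_range.2 (pow_pos hp.pos j)) h0
    -- all conjugates of `g` lie in `R`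
    have hall : ∀ i : ℕ, x ^ i * g * (x ^ i)⁻¹ ∈ R := by
      intro i
      have h1 := Nat.div_add_mod i (p ^ j)
      obtain ⟨b, hb⟩ : ∃ b, b = i % p ^ j := ⟨_, rfl⟩
      obtain ⟨a, ha⟩ : ∃ a, a = i / p ^ j := ⟨_, rfl⟩
      rw [← hb, ← ha] at h1
      have hbP : b < p ^ j := by rw [hb]; exact Nat.mod_lt _ (pow_pos hp.pos j)
      have hbR : x ^ b * g * (x ^ b)⁻¹ ∈ R := by
        rcases Nat.eq_zero_or_pos b with h0 | h0
        · rw [h0, pow_zero, inv_one, mul_one, one_mul]; exact hgR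
        · exact hi b h0 hbP
      have e1 : x ^ i * g * (x ^ i)⁻¹ = x₁ ^ a * (x ^ b * g * (x ^ b)⁻¹) * (x₁ ^ a)⁻¹ := by
        rw [hx₁, ← pow_mul, ← h1, pow_add]; group
      rw [e1]
      exact hRx₁pow a _ hbR
    -- the invariant subgroup
    obtain ⟨T, hT⟩ : ∃ T : Subgroup Γ, ∀ t, t ∈ T ↔ t ∈ Q₁ ∧ ∀ i : ℕ, x ^ i * t * (x ^ i)⁻¹ ∈ R := by
      refine ⟨{ carrier := {t | t ∈ Q₁ ∧ ∀ i : ℕ, x ^ i * t * (x ^ i)⁻¹ ∈ R}
                one_mem' := ⟨Q₁.one_mem, fun i => by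
                  rw [mul_one, mul_inv_cancel]; exact R.one_mem⟩
                mul_mem' := by
                  rintro a b ⟨ha, ha'⟩ ⟨hb, hb'⟩
                  refine ⟨Q₁.mul_mem ha hb, fun i => ?_⟩
                  have : x ^ i * (a * b) * (x ^ i)⁻¹ =
                      (x ^ i * a * (x ^ i)⁻¹) * (x ^ i * b * (x ^ i)⁻¹) := by group
                  rw [this]; exact R.mul_mem (ha' i) (hb' i)
                inv_mem' := by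
                  rintro a ⟨ha, ha'⟩
                  refine ⟨Q₁.inv_mem ha, fun i => ?_⟩
                  have : x ^ i * a⁻¹ * (x ^ i)⁻¹ = (x ^ i * a * (x ^ i)⁻¹)⁻¹ := by group
                  rw [this]; exact R.inv_mem (ha' i) }, fun t => Iff.rfl⟩
    have hTQ₁ : T ≤ Q₁ := fun t ht => ((hT t).1 ht).1
    have hTx : ∀ t ∈ T, x * t * x⁻¹ ∈ T := by
      intro t ht
      rw [hT] at ht ⊢
      refine ⟨hxQ₁ t ht.1, fun i => ?_⟩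
      have : x ^ i * (x * t * x⁻¹) * (x ^ i)⁻¹ = x ^ (i + 1) * t * (x ^ (i + 1))⁻¹ := by
        rw [pow_succ]; group
      rw [this]; exact ht.2 (i + 1)
    have hTne : T ≠ Q₁ := by
      intro h
      apply hRne
      apply le_antisymm hRQ₁
      intro t ht
      rw [← h, hT] at ht
      have := ht.2 0
      rwa [pow_zero, inv_one, mul_one, one_mul] at this
    have hgT : g ∈ T := (hT g).2 ⟨hg, hall⟩
    rw [hZ]
    exact ⟨hg, hmin T hTQ₁ hTx hTne g hgT⟩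
  -- the other hypotheses of Gross's lemma
  have htfree : ∀ g ∈ Q₁, x ^ (p ^ (n - 1)) * g * (x ^ (p ^ (n - 1)))⁻¹ * g⁻¹ ∈ Z → g ∈ Z := by
    rw [← hy]
    intro g hg hcomm
    haveI : Finite Z := inferInstance
    have hZy : ∀ z ∈ Z, y * z * y⁻¹ ∈ Z := by
      intro z hz
      rw [hyZ z hz, mul_inv_cancel_right]; exact hz
    have hcop : ¬ p ∣ Nat.card Z := by
      intro hdvd
      obtain ⟨a, ha⟩ := hZp.exists_card_eq
      rw [ha] at hdvd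
      exact hqp ((Nat.prime_dvd_prime_iff_eq hp hq).1 (hp.dvd_of_dvd_pow hdvd)).symm
    obtain ⟨z₁, hz₁, hfixz⟩ :=
      Cfsg.Agent.Helper3.Shult.exists_fixed_in_coset y hyp Z hZy hcop g hcomm
    have hz₁g : z₁ * g ∈ Z := by
      rw [hZ]; exact ⟨Q₁.mul_mem (hZQ₁ hz₁) hg, hfixz⟩
    have : g = z₁⁻¹ * (z₁ * g) := by group
    rw [this]
    exact Z.mul_mem (Z.inv_mem hz₁) hz₁g
  have hZne : Z ≠ Q₁ := by
    intro h
    apply hg₀y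
    have : g₀ ∈ Z := by rw [h]; exact hg₀
    exact ((hZ g₀).1 this).2
  have hQ₁2 : IsPGroup 2 Q₁ := by rw [← hq2]; exact hQ₁p
  have hje : j + e' ≤ n := by omega
  exact hE Γ n e' m j Q₁ Z R hQ₁2 hZQ₁ hZc hRQ₁ x hx hn hxQ₁n hxZn htfree hZne he'1 hje hpe hidx
    hint

end Cfsg.Agent.Lead.SG
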