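import Mathlib
import Cfsg.Agent.Lead.SL2NatA

/-!
Lead: auxiliary lemmas for S3009: fixed points of `p`-groups acting on quotients of elementary abelian groups.
-/

set_option autoImplicit false

namespace Cfsg.Agent.Lead.SL2Nat

theorem inv_mem_of_finite {W : Type*} [AddCommGroup W] [Finite W] (f g : W → W)
    (hgf : ∀ x, g (f x) = x) (hfinj : Function.Injective f) (N : AddSubgroup W)
    (h : ∀ x ∈ N, f x ∈ N) : ∀ x ∈ N, g x ∈ N := by
  intro x hx
  let k : N → N := fun y => ⟨f y, h y y.2⟩
  have hk : Function.Injective k := by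
    intro y z hyz
    have : f y = f z := congrArg Subtype.val hyz
    exact Subtype.ext (hfinj this)
  obtain ⟨y, hy⟩ := Finite.surjective_of_injective hk ⟨x, hx⟩
  have : f y = x := congrArg Subtype.val hy
  rw [← this, hgf]
  exact y.2

/-- A `p`-group acting on a finite elementary abelian `p`-group by automorphisms and stabilizing the proper
subgroup `N` fixes a nonzero element of the quotient. -/
theorem exists_fixed_mod {E : Type*} [AddCommGroup E] [Finite E] (p : ℕ) [hp : Fact p.Prime]
    (hE : ∀ x : E, p • x = 0) {A : Type*} [Group A] (hA : IsPGroup p A) (θ : A → E →+ E)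
    (h1 : ∀ x, θ 1 x = x) (hmul : ∀ a b x, θ (a * b) x = θ a (θ b x))
    (N : AddSubgroup E) (hN : ∀ a x, x ∈ N → θ a x ∈ N) (hne : N ≠ ⊤) :
    ∃ x, x ∉ N ∧ ∀ a, θ a x - x ∈ N := by
  classical
  have hle : ∀ a : A, N ≤ N.comap (θ a) := fun a x hx => hN a x hx
  let act : A → E ⧸ N → E ⧸ N := fun a => QuotientAddGroup.map N N (θ a) (hle a)
  have hact : ∀ a x, act a (QuotientAddGroup.mk x) = QuotientAddGroup.mk (θ a x) := fun a x => rfl
  letI inst : MulAction A (E ⧸ N) :=
    { smul := act
      one_smul := by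
        intro q
        induction q using QuotientAddGroup.induction_on with
        | H x => show act 1 _ = _; rw [hact, h1]
      mul_smul := by
        intro a b q
        induction q using QuotientAddGroup.induction_on with
        | H x => show act (a * b) _ = act a (act b _); rw [hact, hact, hact, hmul] }
  have hsmul : ∀ (a : A) (x : E), a • (QuotientAddGroup.mk x : E ⧸ N) = QuotientAddGroup.mk (θ a x) :=
    fun a x => rfl
  have hmod := hA.card_modEq_card_fixedPoints (E ⧸ N)
  -- `p` divides the order of the quotient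
  obtain ⟨x₀, hx₀⟩ : ∃ x₀ : E, x₀ ∉ N := by
    by_contra hh
    push_neg at hh
    exact hne (eq_top_iff.mpr fun x _ => hh x)
  have hq0 : (QuotientAddGroup.mk x₀ : E ⧸ N) ≠ 0 := by
    intro h
    exact hx₀ ((QuotientAddGroup.eq_zero_iff x₀).mp h)
  have hpdvd : p ∣ Nat.card (E ⧸ N) := by
    have h1 : p • (QuotientAddGroup.mk x₀ : E ⧸ N) = 0 := by
      rw [← QuotientAddGroup.mk_nsmul, hE, QuotientAddGroup.mk_zero]
    have h2 : addOrderOf (QuotientAddGroup.mk x₀ : E ⧸ N) ∣ p := addOrderOf_dvd_of_nsmul_eq_zero h1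
    rcases (Nat.dvd_prime hp.out).mp h2 with h3 | h3
    · exact absurd (AddMonoid.addOrderOf_eq_one_iff.mp h3) hq0
    · rw [← h3]; exact addOrderOf_dvd_natCard _
  have hpfix : p ∣ Nat.card (MulAction.fixedPoints A (E ⧸ N)) := by
    have := (Nat.modEq_zero_iff_dvd.mpr hpdvd)
    exact Nat.modEq_zero_iff_dvd.mp (hmod.symm.trans this)
  -- a nonzero fixed point
  obtain ⟨q, hqfix, hq⟩ : ∃ q : E ⧸ N, q ∈ MulAction.fixedPoints A (E ⧸ N) ∧ q ≠ 0 := by
    by_contra hh
    push_neg at hh
    have hsub : Subsingleton (MulAction.fixedPoints A (E ⧸ N)) := by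
      constructor
      intro a b
      exact Subtype.ext ((hh a a.2).trans (hh b b.2).symm)
    have hne' : Nonempty (MulAction.fixedPoints A (E ⧸ N)) := by
      refine ⟨⟨0, ?_⟩⟩
      intro a
      have := hsmul a 0
      rw [QuotientAddGroup.mk_zero] at this
      rw [this, map_zero, QuotientAddGroup.mk_zero]
    have hc : Nat.card (MulAction.fixedPoints A (E ⧸ N)) = 1 := Nat.card_eq_one_iff_unique.mpr ⟨hsub, hne'⟩
    rw [hc] at hpfix
    exact hp.out.one_lt.ne' (Nat.dvd_one.mp hpfix)
  induction q using QuotientAddGroup.induction_on with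
  | H x =>
    refine ⟨x, ?_, ?_⟩
    · intro hx
      exact hq ((QuotientAddGroup.eq_zero_iff x).mpr hx)
    · intro a
      have h1 := hqfix a
      rw [hsmul] at h1
      have h2 := QuotientAddGroup.eq.mp h1
      have h3 : θ a x - x = -(-(θ a x) + x) := by abel
      rw [h3]
      exact N.neg_mem h2

end Cfsg.Agent.Lead.SL2Nat
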