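import Mathlib
import Cfsg.Agent.Lead.SL2NatB

/-!
Lead: recognition of the natural `SL₂(F)`-module (abstract form, for S3009).
-/

set_option autoImplicit false
set_option maxHeartbeats 1600000

namespace Cfsg.Agent.Lead.SL2Nat

open Matrix Cfsg.Agent.Helper5 Cfsg.Agent.Helper5.SLB

theorem natural_module {F : Type*} [Field F] [Fintype F] {p : ℕ} [hp : Fact p.Prime] [CharP F p]
    {W : Type*} [AddCommGroup W] [Finite W] (hW : ∀ x : W, p • x = 0)
    (act : SpecialLinearGroup (Fin 2) F → W →+ W)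
    (act_one : ∀ x, act 1 x = x) (act_mul : ∀ g h x, act (g * h) x = act g (act h x))
    (hirr : ∀ N : AddSubgroup W, (∀ g x, x ∈ N → act g x ∈ N) → N = ⊥ ∨ N = ⊤)
    (hnt : ∃ g x, act g x ≠ x)
    (hcase : (∀ a x b, act (uMat b) (act (uMat a) x - x) = act (uMat a) x - x) ∨
      Nat.card W ≤ (Nat.card {x : W // ∀ a, act (uMat a) x = x}) ^ 2) :
    ∃ ψ : W ≃+ (Fin 2 → F), ∀ g x, ψ (act g x) = (g : Matrix (Fin 2) (Fin 2) F).mulVec (ψ x) := by
  classical
  have act_inv : ∀ g x, act g⁻¹ (act g x) = x := fun g x => by rw [← act_mul, inv_mul_cancel, act_one]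
  have act_inv' : ∀ g x, act g (act g⁻¹ x) = x := fun g x => by rw [← act_mul, mul_inv_cancel, act_one]
  have act_inj : ∀ g, Function.Injective (act g) := fun g x y h => by
    rw [← act_inv g x, ← act_inv g y, h]
  -- invariance under the generators implies invariance
  have hgen : ∀ N : AddSubgroup W, (∀ a x, x ∈ N → act (uMat a) x ∈ N) →
      (∀ b x, x ∈ N → act (lMat b) x ∈ N) → ∀ g x, x ∈ N → act g x ∈ N := by
    intro N hu hl g
    have hg : g ∈ Subgroup.closure
        ({g : SpecialLinearGroup (Fin 2) F | (∃ a, g = uMat a) ∨ ∃ b, g = lMat b}) := by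
      rw [closure_eq_top]; trivial
    induction hg using Subgroup.closure_induction with
    | mem g hg =>
      rcases hg with ⟨a, rfl⟩ | ⟨b, rfl⟩
      · exact hu a
      · exact hl b
    | one => intro x hx; rwa [act_one]
    | mul g h _ _ ihg ihh => intro x hx; rw [act_mul]; exact ihg _ (ihh _ hx)
    | inv g _ ih =>
      exact inv_mem_of_finite (act g) (act g⁻¹) (act_inv g) (act_inj g) N ih
  -- the fixed point subgroups
  let V₀ : AddSubgroup W :=
    { carrier := {x | ∀ a, act (uMat a) x = x}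
      add_mem' := fun {x y} hx hy a => by rw [map_add, hx a, hy a]
      zero_mem' := fun a => map_zero _
      neg_mem' := fun {x} hx a => by rw [map_neg, hx a] }
  let V₁ : AddSubgroup W :=
    { carrier := {x | ∀ b, act (lMat b) x = x}
      add_mem' := fun {x y} hx hy a => by rw [map_add, hx a, hy a]
      zero_mem' := fun a => map_zero _
      neg_mem' := fun {x} hx a => by rw [map_neg, hx a] }
  have mem_V₀ : ∀ x, x ∈ V₀ ↔ ∀ a, act (uMat a) x = x := fun x => Iff.rfl
  have mem_V₁ : ∀ x, x ∈ V₁ ↔ ∀ b, act (lMat b) x = x := fun x => Iff.rfl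
  -- `w` swaps `V₀` and `V₁`; the torus preserves them
  have w_V₀ : ∀ x, x ∈ V₀ → act wMat x ∈ V₁ := by
    intro x hx b
    rw [← act_mul, l_w, act_mul, hx]
  have w_V₁ : ∀ x, x ∈ V₁ → act wMat x ∈ V₀ := by
    intro x hx a
    rw [← act_mul, u_w, act_mul, hx]
  have h_V₀ : ∀ (t : Fˣ) x, x ∈ V₀ → act (hMat t) x ∈ V₀ := by
    intro t x hx a
    rw [← act_mul, u_h, act_mul, hx]
  have h_V₁ : ∀ (t : Fˣ) x, x ∈ V₁ → act (hMat t) x ∈ V₁ := by
    intro t x hx b
    rw [← act_mul, l_h, act_mul, hx]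
  have winv : (wMat : SpecialLinearGroup (Fin 2) F)⁻¹ = hMat (-1) * wMat := by
    rw [inv_eq_iff_mul_eq_one, ← mul_assoc, w_h, mul_assoc, w_sq, hMat_mul]
    have : ((-1 : Fˣ)⁻¹ * (-1 : Fˣ)) = 1 := by simp
    rw [this, hMat_one]
  have winv_V₀ : ∀ x, x ∈ V₀ → act wMat⁻¹ x ∈ V₁ := by
    intro x hx
    rw [winv, act_mul]
    exact h_V₁ _ _ (w_V₀ x hx)
  have winv_V₁ : ∀ x, x ∈ V₁ → act wMat⁻¹ x ∈ V₀ := by
    intro x hx
    rw [winv, act_mul]
    exact h_V₀ _ _ (w_V₁ x hx)
  -- `V₀ ∩ V₁ = 0`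
  have hfix : ∀ x, x ∈ V₀ → x ∈ V₁ → x = 0 := by
    intro x hx0 hx1
    let N : AddSubgroup W :=
      { carrier := {y | ∀ g, act g y = y}
        add_mem' := fun {y z} hy hz g => by rw [map_add, hy g, hz g]
        zero_mem' := fun g => map_zero _
        neg_mem' := fun {y} hy g => by rw [map_neg, hy g] }
    have hNinv : ∀ g y, y ∈ N → act g y ∈ N := by
      intro g y hy k
      rw [hy g, hy k]
    rcases hirr N hNinv with h | h
    · have hxN : x ∈ N := by
        -- the stabilizer of `x` contains the generators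
        let St : AddSubgroup W :=
          { carrier := {y | ∀ g, act g x = x → True}
            add_mem' := fun _ _ _ _ => trivial
            zero_mem' := fun _ _ => trivial
            neg_mem' := fun _ _ _ => trivial }
        intro g
        have hg : g ∈ Subgroup.closure
            ({g : SpecialLinearGroup (Fin 2) F | (∃ a, g = uMat a) ∨ ∃ b, g = lMat b}) := by
          rw [closure_eq_top]; trivial
        induction hg using Subgroup.closure_induction with
        | mem g hg =>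
          rcases hg with ⟨a, rfl⟩ | ⟨b, rfl⟩
          · exact hx0 a
          · exact hx1 b
        | one => exact act_one x
        | mul g k _ _ ihg ihk => rw [act_mul, ihk, ihg]
        | inv g _ ih =>
          have := act_inv g x
          rwa [ih] at this
      rw [h] at hxN
      exact (AddSubgroup.mem_bot).mp hxN
    · exfalso
      obtain ⟨g, y, hgy⟩ := hnt
      have : y ∈ N := by rw [h]; trivial
      exact hgy (this g)
  -- the second layers
  let Z₀ : AddSubgroup W :=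
    { carrier := {x | x ∈ V₀ ∧ ∀ b, act (lMat b) x - x ∈ V₁}
      add_mem' := fun {x y} hx hy => ⟨V₀.add_mem hx.1 hy.1, fun b => by
        have : act (lMat b) (x + y) - (x + y) = (act (lMat b) x - x) + (act (lMat b) y - y) := by
          rw [map_add]; abel
        rw [this]; exact V₁.add_mem (hx.2 b) (hy.2 b)⟩
      zero_mem' := ⟨V₀.zero_mem, fun b => by rw [map_zero, sub_zero]; exact V₁.zero_mem⟩
      neg_mem' := fun {x} hx => ⟨V₀.neg_mem hx.1, fun b => by
        have : act (lMat b) (-x) - (-x) = -(act (lMat b) x - x) := by rw [map_neg]; abel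
        rw [this]; exact V₁.neg_mem (hx.2 b)⟩ }
  let Z₁ : AddSubgroup W :=
    { carrier := {x | x ∈ V₁ ∧ ∀ a, act (uMat a) x - x ∈ V₀}
      add_mem' := fun {x y} hx hy => ⟨V₁.add_mem hx.1 hy.1, fun b => by
        have : act (uMat b) (x + y) - (x + y) = (act (uMat b) x - x) + (act (uMat b) y - y) := by
          rw [map_add]; abel
        rw [this]; exact V₀.add_mem (hx.2 b) (hy.2 b)⟩
      zero_mem' := ⟨V₁.zero_mem, fun b => by rw [map_zero, sub_zero]; exact V₀.zero_mem⟩
      neg_mem' := fun {x} hx => ⟨V₁.neg_mem hx.1, fun b => by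
        have : act (uMat b) (-x) - (-x) = -(act (uMat b) x - x) := by rw [map_neg]; abel
        rw [this]; exact V₀.neg_mem (hx.2 b)⟩ }
  have mem_Z₀ : ∀ x, x ∈ Z₀ ↔ x ∈ V₀ ∧ ∀ b, act (lMat b) x - x ∈ V₁ := fun x => Iff.rfl
  have mem_Z₁ : ∀ x, x ∈ Z₁ ↔ x ∈ V₁ ∧ ∀ a, act (uMat a) x - x ∈ V₀ := fun x => Iff.rfl
  have w_Z₀ : ∀ x, x ∈ Z₀ → act wMat x ∈ Z₁ := by
    intro x hx
    refine ⟨w_V₀ x hx.1, fun a => ?_⟩
    have : act (uMat a) (act wMat x) - act wMat x = act wMat (act (lMat (-a)) x - x) := by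
      rw [← act_mul, u_w, act_mul, map_sub]
    rw [this]
    exact w_V₁ _ (hx.2 _)
  have w_Z₁ : ∀ x, x ∈ Z₁ → act wMat x ∈ Z₀ := by
    intro x hx
    refine ⟨w_V₁ x hx.1, fun b => ?_⟩
    have : act (lMat b) (act wMat x) - act wMat x = act wMat (act (uMat (-b)) x - x) := by
      rw [← act_mul, l_w, act_mul, map_sub]
    rw [this]
    exact w_V₀ _ (hx.2 _)
  have h_Z₀ : ∀ (t : Fˣ) x, x ∈ Z₀ → act (hMat t) x ∈ Z₀ := by
    intro t x hx
    refine ⟨h_V₀ t x hx.1, fun b => ?_⟩
    have : act (lMat b) (act (hMat t) x) - act (hMat t) x =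
        act (hMat t) (act (lMat ((t : F) ^ 2 * b)) x - x) := by
      rw [← act_mul, l_h, act_mul, map_sub]
    rw [this]
    exact h_V₁ _ _ (hx.2 _)
  have h_Z₁ : ∀ (t : Fˣ) x, x ∈ Z₁ → act (hMat t) x ∈ Z₁ := by
    intro t x hx
    refine ⟨h_V₁ t x hx.1, fun a => ?_⟩
    have : act (uMat a) (act (hMat t) x) - act (hMat t) x =
        act (hMat t) (act (uMat (((t⁻¹ : Fˣ) : F) ^ 2 * a)) x - x) := by
      rw [← act_mul, u_h, act_mul, map_sub]
    rw [this]
    exact h_V₀ _ _ (hx.2 _)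
  -- the key formula
  have hkey : ∀ (t : Fˣ) x, x ∈ Z₀ →
      act (lMat (-((t⁻¹ : Fˣ) : F))) x = x + act (hMat t) (act wMat x) := by
    intro t x hx
    set b : F := -((t⁻¹ : Fˣ) : F) with hb
    set y : W := act (lMat b) x - x with hy
    have hyV₁ : y ∈ V₁ := hx.2 b
    set z : W := act (hMat t) (act wMat x) with hz
    have hzZ₁ : z ∈ Z₁ := h_Z₁ t _ (w_Z₀ x hx)
    have h1 : z = x + act (uMat (t : F)) y := by
      have h2 : z = act (uMat (t : F) * lMat b * uMat (t : F)) x := by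
        rw [hz, hb, key, act_mul]
      rw [h2, act_mul, act_mul, hx.1 (t : F)]
      have h3 : act (lMat b) x = x + y := by rw [hy]; abel
      rw [h3, map_add, hx.1 (t : F)]
    have h4 : y = act (uMat (-(t : F))) z - x := by
      rw [h1, map_add, hx.1, ← act_mul, uMat_mul, neg_add_cancel, uMat_zero, act_one]
      abel
    have h5 : y - z ∈ V₀ := by
      have : y - z = (act (uMat (-(t : F))) z - z) - x := by rw [h4]; abel
      rw [this]
      exact V₀.sub_mem (hzZ₁.2 _) hx.1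
    have h6 : y - z ∈ V₁ := V₁.sub_mem hyV₁ hzZ₁.1
    have h7 : y = z := sub_eq_zero.mp (hfix _ h5 h6)
    rw [← h7, hy]; abel
  -- `M = Z₀ + Z₁` is invariant
  have hMinv : ∀ g x, x ∈ Z₀ ⊔ Z₁ → act g x ∈ Z₀ ⊔ Z₁ := by
    have hl : ∀ b x, x ∈ Z₀ ⊔ Z₁ → act (lMat b) x ∈ Z₀ ⊔ Z₁ := by
      intro b x hx
      obtain ⟨x₀, hx₀, x₁, hx₁, rfl⟩ := AddSubgroup.mem_sup.mp hx
      rw [map_add, hx₁.1 b]
      refine (Z₀ ⊔ Z₁).add_mem ?_ (AddSubgroup.mem_sup_right hx₁)
      by_cases hb : b = 0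
      · rw [hb, lMat_zero, act_one]; exact AddSubgroup.mem_sup_left hx₀
      · have hb' : -b ≠ 0 := neg_ne_zero.mpr hb
        have hk := hkey (Units.mk0 (-b) hb')⁻¹ x₀ hx₀
        have hbb : -((((Units.mk0 (-b) hb')⁻¹)⁻¹ : Fˣ) : F) = b := by simp
        rw [hbb] at hk
        rw [hk]
        exact (Z₀ ⊔ Z₁).add_mem (AddSubgroup.mem_sup_left hx₀)
          (AddSubgroup.mem_sup_right (h_Z₁ _ _ (w_Z₀ x₀ hx₀)))
    have hw : ∀ x, x ∈ Z₀ ⊔ Z₁ → act wMat x ∈ Z₀ ⊔ Z₁ := by
      intro x hx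
      obtain ⟨x₀, hx₀, x₁, hx₁, rfl⟩ := AddSubgroup.mem_sup.mp hx
      rw [map_add]
      exact (Z₀ ⊔ Z₁).add_mem (AddSubgroup.mem_sup_right (w_Z₀ x₀ hx₀))
        (AddSubgroup.mem_sup_left (w_Z₁ x₁ hx₁))
    have hh : ∀ (t : Fˣ) x, x ∈ Z₀ ⊔ Z₁ → act (hMat t) x ∈ Z₀ ⊔ Z₁ := by
      intro t x hx
      obtain ⟨x₀, hx₀, x₁, hx₁, rfl⟩ := AddSubgroup.mem_sup.mp hx
      rw [map_add]
      exact (Z₀ ⊔ Z₁).add_mem (AddSubgroup.mem_sup_left (h_Z₀ t x₀ hx₀))
        (AddSubgroup.mem_sup_right (h_Z₁ t x₁ hx₁))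
    have hwinv : ∀ x, x ∈ Z₀ ⊔ Z₁ → act wMat⁻¹ x ∈ Z₀ ⊔ Z₁ := by
      intro x hx
      rw [winv, act_mul]
      exact hh _ _ (hw x hx)
    have hu : ∀ a x, x ∈ Z₀ ⊔ Z₁ → act (uMat a) x ∈ Z₀ ⊔ Z₁ := by
      intro a x hx
      have h1 : uMat a = wMat * lMat (-a) * wMat⁻¹ := by
        rw [← u_w, mul_inv_cancel_right]
      rw [h1, act_mul, act_mul]
      exact hw _ (hl _ _ (hwinv x hx))
    exact hgen _ hu hl
  -- `Z₀ ≠ 0`
  have hZ₀ne : ∃ x, x ∈ Z₀ ∧ x ≠ 0 := by
    have hpF : IsPGroup p (Multiplicative F) := by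
      obtain ⟨n, -, hn⟩ := FiniteField.card F p
      apply IsPGroup.of_card (n := n)
      rw [Nat.card_eq_fintype_card, Fintype.card_multiplicative, hn]
    rcases hcase with hq | hc
    · -- quadratic case: `Z₀ = V₀ ≠ 0`
      obtain ⟨x, hx, hxa⟩ := exists_fixed_mod p hW hpF (fun a => act (uMat (Multiplicative.toAdd a)))
        (fun x => by simp [uMat_zero, act_one])
        (fun a b x => by rw [toAdd_mul, ← uMat_mul, act_mul])
        ⊥ (fun a x hx => by rw [AddSubgroup.mem_bot] at hx ⊢; rw [hx, map_zero])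
        (by
          intro h
          obtain ⟨g, y, hgy⟩ := hnt
          have h0 : ∀ z : W, z = 0 := fun z => by
            have : z ∈ (⊥ : AddSubgroup W) := by rw [h]; trivial
            exact AddSubgroup.mem_bot.mp this
          exact hgy ((h0 _).trans (h0 _).symm))
      have hxV₀ : x ∈ V₀ := by
        intro a
        have := hxa (Multiplicative.ofAdd a)
        rw [AddSubgroup.mem_bot, sub_eq_zero] at this
        exact this
      refine ⟨x, ⟨hxV₀, fun b => ?_⟩, fun h => hx (by rw [h]; exact AddSubgroup.zero_mem _)⟩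
      -- `[W, U⁻] ≤ V₁` by conjugation with `w`
      have h1 : lMat b = wMat⁻¹ * uMat (-b) * wMat := by
        rw [mul_assoc, u_w, neg_neg, inv_mul_cancel_left]
      have h2 : act (lMat b) x - x = act wMat⁻¹ (act (uMat (-b)) (act wMat x) - act wMat x) := by
        rw [h1, act_mul, act_mul, map_sub, act_inv]
      rw [h2]
      apply winv_V₀
      intro a
      exact hq (-b) (act wMat x) a
    · -- counting case
      have hV₁top : V₁ ≠ ⊤ := by
        intro h
        -- then `V₀ = 0`, so `W = 0`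
        have hV₀ : ∀ x, x ∈ V₀ → x = 0 := fun x hx => hfix x hx (by rw [h]; trivial)
        have hcard : Nat.card {x : W // ∀ a, act (uMat a) x = x} = 1 := by
          rw [Nat.card_eq_one_iff_unique]
          refine ⟨⟨fun a b => Subtype.ext ((hV₀ a a.2).trans (hV₀ b b.2).symm)⟩, ⟨⟨0, fun a => map_zero _⟩⟩⟩
        rw [hcard, one_pow] at hc
        have hsub : Subsingleton W := (Finite.card_le_one_iff_subsingleton).mp hc
        obtain ⟨g, y, hgy⟩ := hnt
        exact hgy (Subsingleton.elim _ _)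
      obtain ⟨x, hx, hxb⟩ := exists_fixed_mod p hW hpF (fun b => act (lMat (Multiplicative.toAdd b)))
        (fun x => by simp [lMat_zero, act_one])
        (fun a b x => by rw [toAdd_mul, ← lMat_mul, act_mul])
        V₁ (fun a x hx => by
          have := hx (Multiplicative.toAdd a)
          rw [this]; exact hx) hV₁top
      -- decompose `x = x₀ + x₁`
      have hdec : ∀ y : W, ∃ y₀ ∈ V₀, ∃ y₁ ∈ V₁, y = y₀ + y₁ := by
        let f : V₀ × V₁ → W := fun q => (q.1 : W) + (q.2 : W)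
        have hf : Function.Injective f := by
          rintro ⟨a, b⟩ ⟨c, d⟩ h
          have h' : (a : W) + b = c + d := h
          have h1 : (a : W) - c = d - b := by
            have : (a : W) - c = (a + b) - (c + b) := by abel
            rw [this, h']; abel
          have h2 : (a : W) - c = 0 :=
            hfix _ (V₀.sub_mem a.2 c.2) (by rw [h1]; exact V₁.sub_mem d.2 b.2)
          have h3 : (d : W) - b = 0 := by rw [← h1, h2]
          exact Prod.ext (Subtype.ext (sub_eq_zero.mp h2)) (Subtype.ext (sub_eq_zero.mp h3).symm)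
        have hcV : Nat.card V₁ = Nat.card V₀ := by
          apply Nat.card_congr
          exact
            { toFun := fun x => ⟨act wMat x, w_V₁ x x.2⟩
              invFun := fun x => ⟨act wMat⁻¹ x, winv_V₀ x x.2⟩
              left_inv := fun x => Subtype.ext (act_inv _ _)
              right_inv := fun x => Subtype.ext (act_inv' _ _) }
        have hcV₀ : Nat.card V₀ = Nat.card {x : W // ∀ a, act (uMat a) x = x} := rfl
        have hcard : Nat.card W ≤ Nat.card (V₀ × V₁) := by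
          rw [Nat.card_prod, hcV, hcV₀, ← sq]; exact hc
        have hsurj : Function.Surjective f :=
          (Function.Injective.bijective_of_nat_card_le hf hcard).2
        intro y
        obtain ⟨⟨a, b⟩, hab⟩ := hsurj y
        exact ⟨a, a.2, b, b.2, hab.symm⟩
      obtain ⟨x₀, hx₀, x₁, hx₁, rfl⟩ := hdec x
      refine ⟨x₀, ⟨hx₀, fun b => ?_⟩, ?_⟩
      · have := hxb (Multiplicative.ofAdd b)
        have h2 : act (lMat b) (x₀ + x₁) - (x₀ + x₁) = act (lMat b) x₀ - x₀ := by
          rw [map_add, hx₁ b]; abel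
        have h3 : act (lMat (Multiplicative.toAdd (Multiplicative.ofAdd b))) (x₀ + x₁) - (x₀ + x₁) =
            act (lMat b) (x₀ + x₁) - (x₀ + x₁) := rfl
        rw [h3, h2] at this
        exact this
      · intro h
        apply hx
        rw [h, zero_add]
        exact hx₁
  -- hence `M = W`, `Z₀ = V₀`, `Z₁ = V₁`
  have hMtop : Z₀ ⊔ Z₁ = ⊤ := by
    rcases hirr _ hMinv with h | h
    · exfalso
      obtain ⟨x, hx, hx0⟩ := hZ₀ne
      have : x ∈ Z₀ ⊔ Z₁ := AddSubgroup.mem_sup_left hx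
      rw [h, AddSubgroup.mem_bot] at this
      exact hx0 this
    · exact h
  have hZV₀ : ∀ x, x ∈ V₀ → x ∈ Z₀ := by
    intro x hx
    have : x ∈ Z₀ ⊔ Z₁ := by rw [hMtop]; trivial
    obtain ⟨z₀, hz₀, z₁, hz₁, rfl⟩ := AddSubgroup.mem_sup.mp this
    have h1 : z₁ = 0 := by
      apply hfix _ _ hz₁.1
      have : z₁ = (z₀ + z₁) - z₀ := by abel
      rw [this]; exact V₀.sub_mem hx hz₀.1
    rw [h1, add_zero]; exact hz₀
  have hZV₁ : ∀ x, x ∈ V₁ → x ∈ Z₁ := by
    intro x hx
    have : x ∈ Z₀ ⊔ Z₁ := by rw [hMtop]; trivial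
    obtain ⟨z₀, hz₀, z₁, hz₁, rfl⟩ := AddSubgroup.mem_sup.mp this
    have h1 : z₀ = 0 := by
      apply hfix _ hz₀.1
      have : z₀ = (z₀ + z₁) - z₁ := by abel
      rw [this]; exact V₁.sub_mem hx hz₁.1
    rw [h1, zero_add]; exact hz₁
  -- the scalar operators
  let mm : F → W → W := fun c z => if hc : c = 0 then 0 else act (hMat (Units.mk0 c hc)⁻¹) z
  let kk : F → W → W := fun c x => if hc : c = 0 then 0 else act (hMat (Units.mk0 c hc)) x
  have mm_zero : ∀ z, mm 0 z = 0 := fun z => by simp [mm]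
  have kk_zero : ∀ z, kk 0 z = 0 := fun z => by simp [kk]
  have mm_ne : ∀ (c : F) (hc : c ≠ 0) z, mm c z = act (hMat (Units.mk0 c hc)⁻¹) z := fun c hc z => by
    simp [mm, hc]
  have kk_ne : ∀ (c : F) (hc : c ≠ 0) z, kk c z = act (hMat (Units.mk0 c hc)) z := fun c hc z => by
    simp [kk, hc]
  have mm_V₁ : ∀ c z, z ∈ V₁ → mm c z ∈ V₁ := by
    intro c z hz
    by_cases hc : c = 0
    · rw [hc, mm_zero]; exact V₁.zero_mem
    · rw [mm_ne c hc]; exact h_V₁ _ _ hz
  have kk_V₀ : ∀ c z, z ∈ V₀ → kk c z ∈ V₀ := by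
    intro c z hz
    by_cases hc : c = 0
    · rw [hc, kk_zero]; exact V₀.zero_mem
    · rw [kk_ne c hc]; exact h_V₀ _ _ hz
  -- `D_b x = l(b)x - x = mm (-b) (w x)` on `V₀`
  have hD : ∀ b x, x ∈ V₀ → act (lMat b) x - x = mm (-b) (act wMat x) := by
    intro b x hx
    by_cases hb : b = 0
    · rw [hb, lMat_zero, act_one, sub_self, neg_zero, mm_zero]
    · have hb' : -b ≠ 0 := neg_ne_zero.mpr hb
      have hk := hkey (Units.mk0 (-b) hb')⁻¹ x (hZV₀ x hx)
      have hbb : -((((Units.mk0 (-b) hb')⁻¹)⁻¹ : Fˣ) : F) = b := by simp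
      rw [hbb] at hk
      rw [hk, mm_ne _ hb']; abel
  have hDadd : ∀ b b' x, x ∈ V₀ →
      act (lMat (b + b')) x - x = (act (lMat b) x - x) + (act (lMat b') x - x) := by
    intro b b' x hx
    have h1 : act (lMat b') x = x + (act (lMat b') x - x) := by abel
    have h2 : act (lMat b) (act (lMat b') x - x) = act (lMat b') x - x := (hZV₀ x hx).2 b' b
    rw [← lMat_mul, act_mul]
    conv_lhs => rw [h1, map_add, h2]
    abel
  -- every element of `V₁` is `w x` with `x ∈ V₀`
  have mm_add : ∀ c c' z, z ∈ V₁ → mm (c + c') z = mm c z + mm c' z := by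
    intro c c' z hz
    have hx : act wMat⁻¹ z ∈ V₀ := winv_V₁ z hz
    have hwz : act wMat (act wMat⁻¹ z) = z := act_inv' _ _
    have h1 := hD (-(c + c')) _ hx
    have h2 := hD (-c) _ hx
    have h3 := hD (-c') _ hx
    rw [neg_neg, hwz] at h1 h2 h3
    rw [← h1, ← h2, ← h3]
    have : -(c + c') = -c + -c' := by ring
    rw [this]
    exact hDadd _ _ _ hx
  have mm_mul : ∀ c c' z, mm c (mm c' z) = mm (c * c') z := by
    intro c c' z
    by_cases hc : c = 0
    · rw [hc, zero_mul, mm_zero, mm_zero]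
    · by_cases hc' : c' = 0
      · rw [hc', mul_zero, mm_zero, mm_ne c hc, map_zero]
      · have hu : (Units.mk0 c hc)⁻¹ * (Units.mk0 c' hc')⁻¹
            = (Units.mk0 (c * c') (mul_ne_zero hc hc'))⁻¹ := by
          ext
          simp [mul_comm]
        rw [mm_ne c hc, mm_ne c' hc', mm_ne (c * c') (mul_ne_zero hc hc'), ← act_mul, hMat_mul, hu]
  have mm_one : ∀ z, mm 1 z = z := by
    intro z
    rw [mm_ne 1 one_ne_zero]
    have : (Units.mk0 (1 : F) one_ne_zero)⁻¹ = 1 := by ext; simp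
    rw [this, hMat_one, act_one]
  have w_kk : ∀ c x, act wMat (kk c x) = mm c (act wMat x) := by
    intro c x
    by_cases hc : c = 0
    · rw [hc, kk_zero, mm_zero, map_zero]
    · rw [kk_ne c hc, mm_ne c hc, ← act_mul, w_h, act_mul]
  have kk_add : ∀ c c' x, x ∈ V₀ → kk (c + c') x = kk c x + kk c' x := by
    intro c c' x hx
    apply act_inj wMat
    rw [map_add, w_kk, w_kk, w_kk, mm_add _ _ _ (w_V₀ x hx)]
  have w_mm : ∀ c x, act wMat (mm c (act wMat x)) = kk (-c) x := by
    intro c x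
    by_cases hc : c = 0
    · rw [hc, mm_zero, neg_zero, kk_zero, map_zero]
    · have hc' : -c ≠ 0 := neg_ne_zero.mpr hc
      rw [mm_ne c hc, kk_ne _ hc', ← act_mul, ← act_mul]
      congr 1
      have h1 : wMat * hMat (Units.mk0 c hc)⁻¹ * wMat = hMat (Units.mk0 c hc) * (wMat * wMat) := by
        rw [w_h, inv_inv, mul_assoc]
      have hu : Units.mk0 c hc * (-1 : Fˣ) = Units.mk0 (-c) hc' := by
        ext
        simp
      rw [h1, w_sq, hMat_mul, hu]
  have mm_lin : ∀ c (z z' : W), mm c (z + z') = mm c z + mm c z' := by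
    intro c z z'
    by_cases hc : c = 0
    · rw [hc, mm_zero, mm_zero, mm_zero, add_zero]
    · rw [mm_ne c hc, mm_ne c hc, mm_ne c hc, map_add]
  -- choose a basis vector
  obtain ⟨x₀, hx₀Z, hx₀ne⟩ := hZ₀ne
  have hx₀ : x₀ ∈ V₀ := hx₀Z.1
  set e₁ : W := act wMat x₀ with he₁
  have he₁V : e₁ ∈ V₁ := w_V₀ x₀ hx₀
  have he₁ne : e₁ ≠ 0 := by
    intro h
    apply hx₀ne
    apply act_inj wMat
    rw [map_zero]; exact h
  let Ψ : (Fin 2 → F) →+ W :=
    { toFun := fun v => kk (v 0) x₀ + mm (-(v 1)) e₁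
      map_zero' := by simp [kk_zero, mm_zero]
      map_add' := by
        intro v v'
        simp only [Pi.add_apply]
        rw [kk_add _ _ _ hx₀, neg_add, mm_add _ _ _ he₁V]
        abel }
  have hΨ : ∀ v, Ψ v = kk (v 0) x₀ + mm (-(v 1)) e₁ := fun v => rfl
  -- equivariance on generators
  have hΨl : ∀ b v, act (lMat b) (Ψ v) = Ψ ((lMat b : Matrix (Fin 2) (Fin 2) F).mulVec v) := by
    intro b v
    rw [lMat_mulVec, hΨ, hΨ, map_add]
    have h1 : act (lMat b) (mm (-(v 1)) e₁) = mm (-(v 1)) e₁ := mm_V₁ _ _ he₁V b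
    have h2 : act (lMat b) (kk (v 0) x₀) = kk (v 0) x₀ + mm (-b) (mm (v 0) e₁) := by
      have := hD b _ (kk_V₀ (v 0) x₀ hx₀)
      rw [w_kk] at this
      rw [← this]; abel
    rw [h1, h2, mm_mul]
    simp only [Matrix.cons_val_zero, Matrix.cons_val_one]
    have h3 : -(b * v 0 + v 1) = -b * v 0 + -(v 1) := by ring
    rw [h3, mm_add _ _ _ he₁V]
    abel
  have hΨw : ∀ v, act wMat (Ψ v) = Ψ ![v 1, -(v 0)] := by
    intro v
    rw [hΨ, hΨ, map_add, w_kk, he₁, w_mm]
    simp only [Matrix.cons_val_zero, Matrix.cons_val_one, neg_neg]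
    abel
  have hΨu : ∀ a v, act (uMat a) (Ψ v) = Ψ ((uMat a : Matrix (Fin 2) (Fin 2) F).mulVec v) := by
    intro a v
    have h1 : Ψ v = act wMat (Ψ ![-(v 1), v 0]) := by
      rw [hΨw]
      congr 1
      ext i
      fin_cases i <;> simp
    rw [h1, ← act_mul, u_w, act_mul, hΨl, hΨw, lMat_mulVec, uMat_mulVec]
    congr 1
    ext i
    fin_cases i <;> simp
    ring
  have hΨg : ∀ g v, act g (Ψ v) = Ψ ((g : Matrix (Fin 2) (Fin 2) F).mulVec v) := by
    intro g
    have hg : g ∈ Subgroup.closure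
        ({g : SpecialLinearGroup (Fin 2) F | (∃ a, g = uMat a) ∨ ∃ b, g = lMat b}) := by
      rw [closure_eq_top]; trivial
    induction hg using Subgroup.closure_induction with
    | mem g hg =>
      rcases hg with ⟨a, rfl⟩ | ⟨b, rfl⟩
      · exact hΨu a
      · exact hΨl b
    | one => intro v; rw [act_one]; congr 1; simp
    | mul g h _ _ ihg ihh =>
      intro v
      rw [act_mul, ihh, ihg, Matrix.mulVec_mulVec]; congr 1
    | inv g _ ih =>
      intro v
      apply act_inj g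
      rw [act_inv', ih, Matrix.mulVec_mulVec]
      congr 1
      have : (g : Matrix (Fin 2) (Fin 2) F) * ((g⁻¹ : SpecialLinearGroup (Fin 2) F) : Matrix (Fin 2) (Fin 2) F) = 1 :=
        congrArg Subtype.val (mul_inv_cancel g)
      rw [this, Matrix.one_mulVec]
  -- bijectivity
  have hΨinj : Function.Injective Ψ := by
    rw [injective_iff_map_eq_zero]
    intro v hv
    rw [hΨ] at hv
    have h1 : kk (v 0) x₀ = -(mm (-(v 1)) e₁) := eq_neg_of_add_eq_zero_left hv
    have h2 : kk (v 0) x₀ = 0 :=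
      hfix _ (kk_V₀ _ _ hx₀) (by rw [h1]; exact V₁.neg_mem (mm_V₁ _ _ he₁V))
    have h3 : mm (-(v 1)) e₁ = 0 := by rw [h2, zero_add] at hv; exact hv
    have h4 : v 0 = 0 := by
      by_contra hne
      rw [kk_ne _ hne] at h2
      apply hx₀ne
      apply act_inj (hMat (Units.mk0 (v 0) hne))
      rw [h2, map_zero]
    have h5 : v 1 = 0 := by
      by_contra hne
      have hne' : -(v 1) ≠ 0 := neg_ne_zero.mpr hne
      rw [mm_ne _ hne'] at h3
      apply he₁ne
      apply act_inj (hMat (Units.mk0 (-(v 1)) hne')⁻¹)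
      rw [h3, map_zero]
    ext i
    fin_cases i
    · exact h4
    · exact h5
  have hΨsurj : Function.Surjective Ψ := by
    have hinv : ∀ g x, x ∈ Ψ.range → act g x ∈ Ψ.range := by
      rintro g _ ⟨v, rfl⟩
      exact ⟨_, (hΨg g v).symm⟩
    rcases hirr _ hinv with h | h
    · exfalso
      have : Ψ ![1, 0] ∈ Ψ.range := ⟨_, rfl⟩
      rw [h, AddSubgroup.mem_bot] at this
      have h2 := hΨinj (this.trans (map_zero Ψ).symm)
      have := congrFun h2 0
      simp at this
    · intro x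
      have : x ∈ Ψ.range := by rw [h]; trivial
      exact this
  let e : (Fin 2 → F) ≃+ W := AddEquiv.ofBijective Ψ ⟨hΨinj, hΨsurj⟩
  refine ⟨e.symm, fun g x => ?_⟩
  apply e.injective
  rw [AddEquiv.apply_symm_apply]
  show act g x = Ψ _
  rw [← hΨg]
  congr 1
  exact (e.apply_symm_apply x).symm

end Cfsg.Agent.Lead.SL2Nat
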