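import Mathlib
import Cfsg.Prelude.Def_Transfer
import Cfsg.Prelude.Def_BaumannBlocks
import Cfsg.Agent.Lead.SL2NatC

/-!
Lead: recognition of the natural `SL₂(F)`-module, concrete form inside an ambient group (for S3009).
-/

set_option autoImplicit false
set_option maxHeartbeats 1600000

namespace Cfsg.Agent.Lead.SL2Nat

open Matrix Cfsg.Agent.Helper5 Cfsg.Agent.Helper5.SLB
open scoped commutatorElement

theorem concrete {X : Type*} [Group X] [Finite X] {p : ℕ} [hp : Fact p.Prime] (G V : Subgroup X)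
    (hV : Cfsg.IsElementaryAbelian p V) (hGV : G ≤ Subgroup.normalizer (V : Set X))
    (F : Type) [Field F] [Fintype F] [CharP F p]
    (e : ↥G ≃* SpecialLinearGroup (Fin 2) F)
    (hirr : ∀ U : Subgroup X, U ≤ V → G ≤ Subgroup.normalizer (U : Set X) → U = ⊥ ∨ U = V)
    (hnt : ⁅V, G⁆ ≠ ⊥)
    (T : Subgroup X) (hT : ∀ a : F, ((e.symm (uMat a) : ↥G) : X) ∈ T)
    (hyp : ⁅⁅V, T⁆, T⁆ = ⊥ ∨
      Nat.card ↥V ≤ Nat.card ↥(V ⊓ Subgroup.centralizer (T : Set X)) ^ 2) :
    Cfsg.ActsAsSL2OnSection F ⊤ G V ⊥ := by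
  classical
  let _ : CommGroup ↥V :=
    { (inferInstance : Group ↥V) with mul_comm := fun a b => hV.1.is_comm.comm a b }
  -- conjugation action
  have hconj : ∀ (g : ↥G) (v : ↥V), (g : X) * v * (g : X)⁻¹ ∈ V := fun g v =>
    ((Subgroup.mem_normalizer_iff.mp (hGV g.2)) v).mp v.2
  let cj : ↥G → ↥V → ↥V := fun g v => ⟨(g : X) * v * (g : X)⁻¹, hconj g v⟩
  have cj_val : ∀ g v, ((cj g v : ↥V) : X) = (g : X) * v * (g : X)⁻¹ := fun g v => rfl
  have cj_one : ∀ v, cj 1 v = v := by
    intro v; apply Subtype.ext; rw [cj_val]; simp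
  have cj_mul : ∀ a b v, cj (a * b) v = cj a (cj b v) := by
    intro a b v; apply Subtype.ext; rw [cj_val, cj_val, cj_val]; simp [mul_assoc]
  have cj_mulV : ∀ a v w, cj a (v * w) = cj a v * cj a w := by
    intro a v w; apply Subtype.ext
    rw [cj_val]; show _ = (cj a v : X) * (cj a w : X)
    rw [cj_val, cj_val]; simp [mul_assoc]
  let act : SpecialLinearGroup (Fin 2) F → Additive ↥V →+ Additive ↥V := fun s =>
    { toFun := fun x => Additive.ofMul (cj (e.symm s) (Additive.toMul x))
      map_zero' := by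
        show Additive.ofMul (cj (e.symm s) 1) = 0
        have : cj (e.symm s) 1 = 1 := by apply Subtype.ext; rw [cj_val]; simp
        rw [this]; rfl
      map_add' := fun x y => by
        show Additive.ofMul (cj (e.symm s) (Additive.toMul x * Additive.toMul y)) = _
        rw [cj_mulV]; rfl }
  have act_def : ∀ s x, act s x = Additive.ofMul (cj (e.symm s) (Additive.toMul x)) := fun s x => rfl
  have hW : ∀ x : Additive ↥V, p • x = 0 := by
    intro x
    have h1 : (Additive.toMul x) ^ p = 1 := by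
      apply Subtype.ext
      rw [Subgroup.coe_pow]
      exact hV.2 _ (Additive.toMul x).2
    show Additive.ofMul ((Additive.toMul x) ^ p) = 0
    rw [h1]; rfl
  have act_one : ∀ x, act 1 x = x := by
    intro x; rw [act_def, map_one, cj_one]; rfl
  have act_mul : ∀ g h x, act (g * h) x = act g (act h x) := by
    intro g h x; rw [act_def, act_def, act_def, map_mul, cj_mul]; rfl
  -- irreducibility
  have hirr' : ∀ N : AddSubgroup (Additive ↥V), (∀ g x, x ∈ N → act g x ∈ N) → N = ⊥ ∨ N = ⊤ := by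
    intro N hN
    let U : Subgroup X :=
      { carrier := {x | ∃ h : x ∈ V, Additive.ofMul (⟨x, h⟩ : ↥V) ∈ N}
        one_mem' := ⟨V.one_mem, N.zero_mem⟩
        mul_mem' := by
          rintro a b ⟨ha, ha'⟩ ⟨hb, hb'⟩
          exact ⟨V.mul_mem ha hb, N.add_mem ha' hb'⟩
        inv_mem' := by
          rintro a ⟨ha, ha'⟩
          exact ⟨V.inv_mem ha, N.neg_mem ha'⟩ }
    have mem_U : ∀ x, x ∈ U ↔ ∃ h : x ∈ V, Additive.ofMul (⟨x, h⟩ : ↥V) ∈ N := fun x => Iff.rfl
    have hUV : U ≤ V := fun x hx => hx.1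
    have hfw : ∀ g : X, ∀ hg : g ∈ G, ∀ h, h ∈ U → g * h * g⁻¹ ∈ U := by
      rintro g hg h ⟨hh, hh'⟩
      refine ⟨hconj ⟨g, hg⟩ ⟨h, hh⟩, ?_⟩
      have := hN (e ⟨g, hg⟩) _ hh'
      rw [act_def, MulEquiv.symm_apply_apply] at this
      exact this
    have hGU : G ≤ Subgroup.normalizer (U : Set X) := by
      intro g hg
      rw [Subgroup.mem_normalizer_iff]
      intro h
      refine ⟨hfw g hg h, fun hh => ?_⟩
      have := hfw g⁻¹ (G.inv_mem hg) _ hh
      simpa [mul_assoc] using this
    rcases hirr U hUV hGU with h | h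
    · left
      rw [eq_bot_iff]
      intro x hx
      have hxU : ((Additive.toMul x : ↥V) : X) ∈ U := ⟨(Additive.toMul x).2, hx⟩
      rw [h, Subgroup.mem_bot] at hxU
      rw [AddSubgroup.mem_bot]
      have : Additive.toMul x = 1 := Subtype.ext hxU
      show Additive.ofMul (Additive.toMul x) = 0
      rw [this]; rfl
    · right
      rw [eq_top_iff]
      intro x _
      have hxU : ((Additive.toMul x : ↥V) : X) ∈ U := by rw [h]; exact (Additive.toMul x).2
      obtain ⟨_, hx⟩ := hxU
      exact hx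
  -- nontriviality
  have hnt' : ∃ g x, act g x ≠ x := by
    by_contra hcon
    push Not at hcon
    apply hnt
    rw [Subgroup.commutator_eq_bot_iff_le_centralizer]
    intro v hv
    rw [Subgroup.mem_centralizer_iff]
    intro g hg
    have := hcon (e ⟨g, hg⟩) (Additive.ofMul ⟨v, hv⟩)
    rw [act_def, MulEquiv.symm_apply_apply] at this
    have h2 : cj ⟨g, hg⟩ ⟨v, hv⟩ = ⟨v, hv⟩ := this
    have h3 := congrArg Subtype.val h2
    rw [cj_val] at h3
    simp only at h3
    rw [mul_inv_eq_iff_eq_mul] at h3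
    exact h3
  -- fixed points of the root elements
  have hfixT : ∀ (a : F) (z : X) (hz : z ∈ V), (∀ t ∈ T, t * z = z * t) →
      act (uMat a) (Additive.ofMul ⟨z, hz⟩) = Additive.ofMul ⟨z, hz⟩ := by
    intro a z hz hcen
    rw [act_def]
    congr 1
    apply Subtype.ext
    rw [cj_val]
    show ((e.symm (uMat a) : ↥G) : X) * z * ((e.symm (uMat a) : ↥G) : X)⁻¹ = z
    rw [hcen _ (hT a)]; simp
  have hcase : (∀ a x b, act (uMat b) (act (uMat a) x - x) = act (uMat a) x - x) ∨
      Nat.card (Additive ↥V) ≤ (Nat.card {x : Additive ↥V // ∀ a, act (uMat a) x = x}) ^ 2 := by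
    rcases hyp with h | h
    · left
      intro a x b
      have hVT : ∀ (v : ↥V), ((cj (e.symm (uMat a)) v * v⁻¹ : ↥V) : X) ∈ ⁅V, T⁆ := by
        intro v
        have h1 : ⁅(v : X), ((e.symm (uMat a) : ↥G) : X)⁆ ∈ ⁅V, T⁆ :=
          Subgroup.commutator_mem_commutator v.2 (hT a)
        have h2 := (⁅V, T⁆).inv_mem h1
        have h3 : ((cj (e.symm (uMat a)) v * v⁻¹ : ↥V) : X)
            = ⁅(v : X), ((e.symm (uMat a) : ↥G) : X)⁆⁻¹ := by
          rw [Subgroup.coe_mul, cj_val, commutatorElement_def]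
          simp [mul_assoc]
        rw [h3]; exact h2
      have hx : act (uMat a) x - x
          = Additive.ofMul (cj (e.symm (uMat a)) (Additive.toMul x) * (Additive.toMul x)⁻¹) := by
        rw [sub_eq_add_neg]; rfl
      rw [hx]
      set c : ↥V := cj (e.symm (uMat a)) (Additive.toMul x) * (Additive.toMul x)⁻¹ with hc
      have hcm : ∀ t ∈ T, t * (c : X) = (c : X) * t := by
        intro t ht
        have h1 : ⁅(c : X), t⁆ ∈ ⁅⁅V, T⁆, T⁆ :=
          Subgroup.commutator_mem_commutator (hVT _) ht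
        rw [h, Subgroup.mem_bot, commutatorElement_eq_one_iff_mul_comm] at h1
        exact h1.symm
      exact hfixT b (c : X) c.2 hcm
    · right
      have h1 : Nat.card (Additive ↥V) = Nat.card ↥V := rfl
      rw [h1]
      refine h.trans (Nat.pow_le_pow_left ?_ 2)
      let f : ↥(V ⊓ Subgroup.centralizer (T : Set X)) →
          {x : Additive ↥V // ∀ a, act (uMat a) x = x} := fun z =>
        ⟨Additive.ofMul ⟨z.1, z.2.1⟩, fun a => hfixT a z.1 z.2.1 (fun t ht =>
          (Subgroup.mem_centralizer_iff.mp z.2.2 t ht))⟩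
      have hf : Function.Injective f := by
        intro z z' hzz
        have := congrArg (fun y : {x : Additive ↥V // ∀ a, act (uMat a) x = x} =>
          ((Additive.toMul y.1 : ↥V) : X)) hzz
        exact Subtype.ext this
      exact Nat.card_le_card_of_injective f hf
  obtain ⟨ψ, hψ⟩ := natural_module (p := p) hW act act_one act_mul hirr' hnt' hcase
  refine ⟨hGV, bot_le, e.toMonoidHom,
    { toFun := fun v => Multiplicative.ofAdd (ψ (Additive.ofMul v))
      map_one' := by
        show Multiplicative.ofAdd (ψ 0) = 1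
        rw [map_zero]; rfl
      map_mul' := fun a b => by
        show Multiplicative.ofAdd (ψ (Additive.ofMul a + Additive.ofMul b)) = _
        rw [map_add]; rfl }, ?_, ?_, ?_, ?_⟩
  · exact MonoidHom.range_eq_top.mpr e.surjective
  · intro m
    refine ⟨Additive.toMul (ψ.symm (Multiplicative.toAdd m)), ?_⟩
    show Multiplicative.ofAdd (ψ (ψ.symm (Multiplicative.toAdd m))) = m
    rw [AddEquiv.apply_symm_apply]; rfl
  · intro u
    show Multiplicative.ofAdd (ψ (Additive.ofMul u)) = 1 ↔ _
    rw [Subgroup.mem_bot]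
    constructor
    · intro h
      have h1 : ψ (Additive.ofMul u) = 0 := h
      have h2 : Additive.ofMul u = 0 := by
        apply ψ.injective; rw [h1, map_zero]
      have h3 : u = 1 := h2
      rw [h3]; rfl
    · intro h
      have h3 : u = 1 := Subtype.ext h
      rw [h3]
      show Multiplicative.ofAdd (ψ 0) = 1
      rw [map_zero]; rfl
  · intro g u
    refine ⟨cj g u, rfl, ?_⟩
    show ψ (Additive.ofMul (cj g u)) = _
    have : Additive.ofMul (cj g u) = act (e g) (Additive.ofMul u) := by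
      rw [act_def, MulEquiv.symm_apply_apply]; rfl
    rw [this, hψ]
    rfl

end Cfsg.Agent.Lead.SL2Nat
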