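import Mathlib
import Cfsg.Agent.Lead.JWCfgA

set_option autoImplicit false

/-!
# The configuration `(Ĵ, ŵ)` in `SL_3(F)`, `F` a field of characteristic not two

`Ĵ = diag(J, 1)` with `J = [[0,-1],[1,0]]`, `ŵ = diag(1,-1,-1)`.
-/

namespace Cfsg.Agent.Lead.SL3Two

open Matrix Cfsg.Agent.Lead.JW

variable {F : Type*} [Field F]

/-- `Ĵ` -/
def Jh : Matrix.SpecialLinearGroup (Fin 3) F :=
  ⟨!![0, -1, 0; 1, 0, 0; 0, 0, 1], by simp [Matrix.det_fin_three]⟩

/-- `ŵ` -/
def wh : Matrix.SpecialLinearGroup (Fin 3) F :=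
  ⟨!![1, 0, 0; 0, -1, 0; 0, 0, -1], by simp [Matrix.det_fin_three]⟩

/-- `z = Ĵ²` -/
def zh : Matrix.SpecialLinearGroup (Fin 3) F :=
  ⟨!![-1, 0, 0; 0, -1, 0; 0, 0, 1], by simp [Matrix.det_fin_three]⟩

theorem Jh_val : (Jh : Matrix.SpecialLinearGroup (Fin 3) F).1 = !![0, -1, 0; 1, 0, 0; 0, 0, 1] :=
  rfl

theorem wh_val : (wh : Matrix.SpecialLinearGroup (Fin 3) F).1 = !![1, 0, 0; 0, -1, 0; 0, 0, -1] :=
  rfl

theorem zh_val : (zh : Matrix.SpecialLinearGroup (Fin 3) F).1 = !![-1, 0, 0; 0, -1, 0; 0, 0, 1] :=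
  rfl

theorem Jh_mul_Jh : (Jh : Matrix.SpecialLinearGroup (Fin 3) F) * Jh = zh := by
  apply Subtype.ext
  rw [Matrix.SpecialLinearGroup.coe_mul, Jh_val, zh_val]
  ext i j
  fin_cases i <;> fin_cases j <;> simp [Matrix.mul_apply, Fin.sum_univ_three]

theorem wh_mul_wh : (wh : Matrix.SpecialLinearGroup (Fin 3) F) * wh = 1 := by
  apply Subtype.ext
  rw [Matrix.SpecialLinearGroup.coe_mul, wh_val]
  ext i j
  fin_cases i <;> fin_cases j <;> simp [Matrix.mul_apply, Fin.sum_univ_three]

theorem zh_mul_zh : (zh : Matrix.SpecialLinearGroup (Fin 3) F) * zh = 1 := by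
  apply Subtype.ext
  rw [Matrix.SpecialLinearGroup.coe_mul, zh_val]
  ext i j
  fin_cases i <;> fin_cases j <;> simp [Matrix.mul_apply, Fin.sum_univ_three]

theorem wJwJ : (wh : Matrix.SpecialLinearGroup (Fin 3) F) * Jh * wh * Jh = 1 := by
  apply Subtype.ext
  rw [Matrix.SpecialLinearGroup.coe_mul, Matrix.SpecialLinearGroup.coe_mul,
    Matrix.SpecialLinearGroup.coe_mul, wh_val, Jh_val]
  ext i j
  fin_cases i <;> fin_cases j <;> simp [Matrix.mul_apply, Fin.sum_univ_three]

/-- entries of a matrix commuting with `z` -/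
theorem entries_of_comm_zh (h2 : (2 : F) ≠ 0) (g : Matrix.SpecialLinearGroup (Fin 3) F)
    (h : Commute g zh) : g.1 0 2 = 0 ∧ g.1 1 2 = 0 ∧ g.1 2 0 = 0 ∧ g.1 2 1 = 0 := by
  have e := congrArg Subtype.val h.eq
  rw [Matrix.SpecialLinearGroup.coe_mul, Matrix.SpecialLinearGroup.coe_mul, zh_val] at e
  have e02 := congrFun (congrFun e 0) 2
  have e12 := congrFun (congrFun e 1) 2
  have e20 := congrFun (congrFun e 2) 0
  have e21 := congrFun (congrFun e 2) 1
  simp [Matrix.mul_apply, Fin.sum_univ_three] at e02 e12 e20 e21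
  have key : ∀ a : F, a = -a → a = 0 := by
    intro a ha
    have : 2 * a = 0 := by linear_combination ha
    rcases mul_eq_zero.mp this with h | h
    · exact absurd h h2
    · exact h
  exact ⟨key _ e02, key _ e12, key _ e20.symm, key _ e21.symm⟩

theorem comm_zh_of_entries (g : Matrix.SpecialLinearGroup (Fin 3) F)
    (h02 : g.1 0 2 = 0) (h12 : g.1 1 2 = 0) (h20 : g.1 2 0 = 0) (h21 : g.1 2 1 = 0) :
    Commute g zh := by
  apply Subtype.ext
  rw [Matrix.SpecialLinearGroup.coe_mul, Matrix.SpecialLinearGroup.coe_mul, zh_val]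
  ext i j
  fin_cases i <;> fin_cases j <;> simp [Matrix.mul_apply, Fin.sum_univ_three, h02, h12, h20, h21]

/-- entries of a matrix commuting with `Ĵ` -/
theorem entries_of_comm_Jh (h2 : (2 : F) ≠ 0) (g : Matrix.SpecialLinearGroup (Fin 3) F)
    (h : Commute g Jh) : g.1 0 2 = 0 ∧ g.1 1 2 = 0 ∧ g.1 2 0 = 0 ∧ g.1 2 1 = 0 ∧
      g.1 1 1 = g.1 0 0 ∧ g.1 0 1 = - g.1 1 0 := by
  have hz : Commute g zh := by
    rw [← Jh_mul_Jh]
    exact h.mul_right h
  obtain ⟨h02, h12, h20, h21⟩ := entries_of_comm_zh h2 g hz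
  have e := congrArg Subtype.val h.eq
  rw [Matrix.SpecialLinearGroup.coe_mul, Matrix.SpecialLinearGroup.coe_mul, Jh_val] at e
  have e00 := congrFun (congrFun e 0) 0
  have e10 := congrFun (congrFun e 1) 0
  simp [Matrix.mul_apply, Fin.sum_univ_three] at e00 e10
  exact ⟨h02, h12, h20, h21, e10, e00⟩

theorem comm_Jh_of_entries (g : Matrix.SpecialLinearGroup (Fin 3) F)
    (h02 : g.1 0 2 = 0) (h12 : g.1 1 2 = 0) (h20 : g.1 2 0 = 0) (h21 : g.1 2 1 = 0)
    (h11 : g.1 1 1 = g.1 0 0) (h01 : g.1 0 1 = - g.1 1 0) :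
    Commute g Jh := by
  apply Subtype.ext
  rw [Matrix.SpecialLinearGroup.coe_mul, Matrix.SpecialLinearGroup.coe_mul, Jh_val]
  ext i j
  fin_cases i <;> fin_cases j <;>
    simp [Matrix.mul_apply, Fin.sum_univ_three, h02, h12, h20, h21, h11, h01]

/-- entries of a matrix commuting with `ŵ` -/
theorem entries_of_comm_wh (h2 : (2 : F) ≠ 0) (g : Matrix.SpecialLinearGroup (Fin 3) F)
    (h : Commute g wh) : g.1 0 1 = 0 ∧ g.1 1 0 = 0 ∧ g.1 0 2 = 0 ∧ g.1 2 0 = 0 := by
  have e := congrArg Subtype.val h.eq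
  rw [Matrix.SpecialLinearGroup.coe_mul, Matrix.SpecialLinearGroup.coe_mul, wh_val] at e
  have e01 := congrFun (congrFun e 0) 1
  have e10 := congrFun (congrFun e 1) 0
  have e02 := congrFun (congrFun e 0) 2
  have e20 := congrFun (congrFun e 2) 0
  simp [Matrix.mul_apply, Fin.sum_univ_three] at e01 e10 e02 e20
  have key : ∀ a : F, a = -a → a = 0 := by
    intro a ha
    have : 2 * a = 0 := by linear_combination ha
    rcases mul_eq_zero.mp this with h | h
    · exact absurd h h2
    · exact h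
  exact ⟨key _ e01.symm, key _ e10, key _ e02.symm, key _ e20⟩

theorem comm_wh_of_entries (g : Matrix.SpecialLinearGroup (Fin 3) F)
    (h01 : g.1 0 1 = 0) (h10 : g.1 1 0 = 0) (h02 : g.1 0 2 = 0) (h20 : g.1 2 0 = 0) :
    Commute g wh := by
  apply Subtype.ext
  rw [Matrix.SpecialLinearGroup.coe_mul, Matrix.SpecialLinearGroup.coe_mul, wh_val]
  ext i j
  fin_cases i <;> fin_cases j <;> simp [Matrix.mul_apply, Fin.sum_univ_three, h01, h10, h02, h20]

/-- the determinant of a block diagonal matrix -/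
theorem det_block (g : Matrix.SpecialLinearGroup (Fin 3) F)
    (h02 : g.1 0 2 = 0) (h12 : g.1 1 2 = 0) (h20 : g.1 2 0 = 0) (h21 : g.1 2 1 = 0) :
    (g.1 0 0 * g.1 1 1 - g.1 0 1 * g.1 1 0) * g.1 2 2 = 1 := by
  have h := g.2
  rw [Matrix.det_fin_three, h02, h12, h20, h21] at h
  linear_combination h

/-- the configuration in `SL_3(F)` -/
theorem cfg (h2 : (2 : F) ≠ 0) : Cfg (Jh : Matrix.SpecialLinearGroup (Fin 3) F) wh where
  w_sq := wh_mul_wh
  w_j := by
    have hinv : (wh : Matrix.SpecialLinearGroup (Fin 3) F)⁻¹ = wh :=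
      inv_eq_of_mul_eq_one_right wh_mul_wh
    rw [hinv]
    exact eq_inv_of_mul_eq_one_left wJwJ
  j_four := by rw [Jh_mul_Jh]; exact zh_mul_zh
  j_sq_ne := by
    rw [Jh_mul_Jh]
    intro h
    have e := congrFun (congrFun (congrArg Subtype.val h) 0) 0
    rw [zh_val] at e
    have e' : (-1 : F) = 1 := by simpa using e
    apply h2
    linear_combination -e'
  comm := by
    intro x y hx hy
    obtain ⟨x02, x12, x20, x21, x11, x01⟩ := entries_of_comm_Jh h2 x hx
    obtain ⟨y02, y12, y20, y21, y11, y01⟩ := entries_of_comm_Jh h2 y hy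
    apply Subtype.ext
    rw [Matrix.SpecialLinearGroup.coe_mul, Matrix.SpecialLinearGroup.coe_mul]
    ext i j
    fin_cases i <;> fin_cases j <;>
      simp [Matrix.mul_apply, Fin.sum_univ_three, x02, x12, x20, x21, x11, x01,
        y02, y12, y20, y21, y11, y01] <;> ring
  cent := by
    intro x g hx hxw hg
    rw [Jh_mul_Jh] at hg
    obtain ⟨x02, x12, x20, x21, x11, x01⟩ := entries_of_comm_Jh h2 x hx
    obtain ⟨x01', x10, -, -⟩ := entries_of_comm_wh h2 x hxw
    obtain ⟨g02, g12, g20, g21⟩ := entries_of_comm_zh h2 g hg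
    apply Subtype.ext
    rw [Matrix.SpecialLinearGroup.coe_mul, Matrix.SpecialLinearGroup.coe_mul]
    ext i j
    fin_cases i <;> fin_cases j <;>
      simp [Matrix.mul_apply, Fin.sum_univ_three, x02, x12, x20, x21, x11, x01', x10,
        g02, g12, g20, g21] <;> ring
  h3 := by
    intro y g hy hyw hg hgy
    rw [Jh_mul_Jh] at hg
    obtain ⟨y02, y12, y20, y21, y11, y01⟩ := entries_of_comm_Jh h2 y hy
    obtain ⟨g02, g12, g20, g21⟩ := entries_of_comm_zh h2 g hg
    have y10 : y.1 1 0 ≠ 0 := by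
      intro h
      apply hyw
      apply comm_wh_of_entries y _ h y02 y20
      rw [y01, h, neg_zero]
    have e := congrArg Subtype.val hgy.eq
    rw [Matrix.SpecialLinearGroup.coe_mul, Matrix.SpecialLinearGroup.coe_mul] at e
    have e00 := congrFun (congrFun e 0) 0
    have e01 := congrFun (congrFun e 0) 1
    simp only [Matrix.mul_apply, Fin.sum_univ_three, y02, y12, y20, y21, y11, y01,
      g02, g12, g20, g21] at e00 e01
    have k1 : y.1 1 0 * (g.1 0 1 + g.1 1 0) = 0 := by linear_combination e00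
    have k2 : y.1 1 0 * (g.1 1 1 - g.1 0 0) = 0 := by linear_combination e01
    have k1' : g.1 0 1 + g.1 1 0 = 0 := (mul_eq_zero.mp k1).resolve_left y10
    have k2' : g.1 1 1 - g.1 0 0 = 0 := (mul_eq_zero.mp k2).resolve_left y10
    apply comm_Jh_of_entries g g02 g12 g20 g21
    · linear_combination k2'
    · linear_combination k1'
  h4 := by
    intro x hx hxx
    rw [Jh_mul_Jh] at hxx
    obtain ⟨x02, x12, x20, x21, x11, x01⟩ := entries_of_comm_Jh h2 x hx
    have hdet := det_block x x02 x12 x20 x21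
    rw [x11, x01] at hdet
    have e := congrArg Subtype.val hxx
    rw [Matrix.SpecialLinearGroup.coe_mul, zh_val] at e
    have e00 := congrFun (congrFun e 0) 0
    have e10 := congrFun (congrFun e 1) 0
    simp [Matrix.mul_apply, Fin.sum_univ_three, x02, x12, x20, x21, x11, x01] at e00 e10
    have k : 2 * (x.1 0 0 * x.1 1 0) = 0 := by linear_combination e10
    rcases mul_eq_zero.mp ((mul_eq_zero.mp k).resolve_left h2) with h0 | h0
    · -- `x 0 0 = 0`
      have hb : x.1 1 0 * x.1 1 0 = 1 := by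
        rw [h0] at e00
        linear_combination -e00
      have h22 : x.1 2 2 = 1 := by
        rw [h0] at hdet
        have : x.1 1 0 * x.1 1 0 * x.1 2 2 = 1 := by linear_combination hdet
        rw [hb, one_mul] at this
        exact this
      have hb' : (x.1 1 0 - 1) * (x.1 1 0 + 1) = 0 := by linear_combination hb
      rcases mul_eq_zero.mp hb' with h1 | h1
      · left
        have h10 : x.1 1 0 = 1 := by linear_combination h1
        apply Subtype.ext
        rw [Jh_val]
        ext i j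
        fin_cases i <;> fin_cases j <;> simp [x02, x12, x20, x21, x11, x01, h0, h10, h22]
      · right; left
        have h10 : x.1 1 0 = -1 := by linear_combination h1
        apply eq_inv_of_mul_eq_one_left
        apply Subtype.ext
        rw [Matrix.SpecialLinearGroup.coe_mul, Jh_val]
        ext i j
        fin_cases i <;> fin_cases j <;>
          simp [Matrix.mul_apply, Fin.sum_univ_three, x02, x12, x20, x21, x11, x01, h0, h10, h22]
    · right; right
      apply comm_wh_of_entries x _ h0 x02 x20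
      rw [x01, h0, neg_zero]
  h5 := by
    intro x hx hxw hxx
    obtain ⟨x02, x12, x20, x21, x11, x01⟩ := entries_of_comm_Jh h2 x hx
    obtain ⟨x01', x10, -, -⟩ := entries_of_comm_wh h2 x hxw
    have hdet := det_block x x02 x12 x20 x21
    rw [x11, x01', x10] at hdet
    have e := congrArg Subtype.val hxx
    rw [Matrix.SpecialLinearGroup.coe_mul] at e
    have e00 := congrFun (congrFun e 0) 0
    simp [Matrix.mul_apply, Fin.sum_univ_three, x02, x12, x20, x21, x11, x01', x10] at e00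
    have h22 : x.1 2 2 = 1 := by
      have : x.1 0 0 * x.1 0 0 * x.1 2 2 = 1 := by linear_combination hdet
      rw [e00, one_mul] at this
      exact this
    have hb' : (x.1 0 0 - 1) * (x.1 0 0 + 1) = 0 := by linear_combination e00
    rcases mul_eq_zero.mp hb' with h1 | h1
    · left
      have h00 : x.1 0 0 = 1 := by linear_combination h1
      apply Subtype.ext
      ext i j
      fin_cases i <;> fin_cases j <;> simp [x02, x12, x20, x21, x11, x01', x10, h00, h22]
    · right
      have h00 : x.1 0 0 = -1 := by linear_combination h1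
      rw [Jh_mul_Jh]
      apply Subtype.ext
      rw [zh_val]
      ext i j
      fin_cases i <;> fin_cases j <;> simp [x02, x12, x20, x21, x11, x01', x10, h00, h22]

/-- the element `diag(1 + J, 1/2)` -/
def y0 (h2 : (2 : F) ≠ 0) : Matrix.SpecialLinearGroup (Fin 3) F :=
  ⟨!![1, -1, 0; 1, 1, 0; 0, 0, 2⁻¹], by
    rw [Matrix.det_fin_three]
    simp
    field_simp
    ring⟩

theorem y0_val (h2 : (2 : F) ≠ 0) : (y0 h2).1 = !![1, -1, 0; 1, 1, 0; 0, 0, 2⁻¹] := rfl

theorem y0_comm (h2 : (2 : F) ≠ 0) : Commute (y0 h2) Jh := by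
  apply comm_Jh_of_entries <;> simp [y0_val]

theorem y0_sq_not_comm (h2 : (2 : F) ≠ 0) : ¬ Commute (y0 h2 * y0 h2) wh := by
  intro h
  obtain ⟨-, h10, -, -⟩ := entries_of_comm_wh h2 _ h
  rw [Matrix.SpecialLinearGroup.coe_mul, y0_val] at h10
  simp [Matrix.mul_apply, Fin.sum_univ_three] at h10
  apply h2
  linear_combination h10

theorem y0_four_comm (h2 : (2 : F) ≠ 0) :
    Commute ((y0 h2 * y0 h2) * (y0 h2 * y0 h2)) wh := by
  apply comm_wh_of_entries <;>
  · rw [Matrix.SpecialLinearGroup.coe_mul, Matrix.SpecialLinearGroup.coe_mul, y0_val]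
    simp [Matrix.mul_apply, Fin.sum_univ_three]

/-- existence of a `2`-element of `C` whose square is not a scalar -/
theorem exists_y [Finite F] (h2 : (2 : F) ≠ 0) :
    ∃ y : Matrix.SpecialLinearGroup (Fin 3) F, IsC2 Jh y ∧ ¬ Commute (y * y) wh :=
  (cfg h2).exists_y (y0 h2) (y0_comm h2) (y0_sq_not_comm h2) (y0_four_comm h2)

end Cfsg.Agent.Lead.SL3Two
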