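import Mathlib
import Cfsg.Agent.Lead.SL3TwoA

set_option autoImplicit false

/-!
# Strongly closed subgroups of the Sylow `2`-subgroup of `SL_3(F)`, `|F|` odd
-/

namespace Cfsg.Agent.Lead.SL3Two

open Matrix Cfsg.Agent.Lead.JW

variable {F : Type*} [Field F]

/-- determinant of an explicit `3 × 3` matrix -/
theorem det_of3 (a b c d e f g h i : F) :
    Matrix.det !![a, b, c; d, e, f; g, h, i] =
      a * e * i - a * f * h - b * d * i + b * f * g + c * d * h - c * e * g := by
  rw [Matrix.det_fin_three]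
  simp

/-- the cyclic permutation matrix -/
def sig : Matrix.SpecialLinearGroup (Fin 3) F :=
  ⟨!![0, 0, 1; 1, 0, 0; 0, 1, 0], by simp [Matrix.det_fin_three]⟩

theorem sig_val : (sig : Matrix.SpecialLinearGroup (Fin 3) F).1 = !![0, 0, 1; 1, 0, 0; 0, 1, 0] :=
  rfl

theorem sig_zh : (sig : Matrix.SpecialLinearGroup (Fin 3) F) * zh = wh * sig := by
  apply Subtype.ext
  rw [Matrix.SpecialLinearGroup.coe_mul, Matrix.SpecialLinearGroup.coe_mul, sig_val, zh_val, wh_val]
  ext i j
  fin_cases i <;> fin_cases j <;> simp [Matrix.mul_apply, Fin.sum_univ_three]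

/-- the `(2,2)` entry of a power of a block diagonal matrix -/
theorem pow_entry22 (x : Matrix.SpecialLinearGroup (Fin 3) F)
    (x02 : x.1 0 2 = 0) (x12 : x.1 1 2 = 0) (m : ℕ) : (x ^ m).1 2 2 = (x.1 2 2) ^ m := by
  induction m with
  | zero => simp
  | succ m ih =>
    rw [pow_succ, Matrix.SpecialLinearGroup.coe_mul, Matrix.mul_apply, Fin.sum_univ_three, x02, x12,
      ih, pow_succ]
    ring

/-- a `2`-power root of unity is `±1` when `-1` is not a square -/
theorem eq_one_or_neg_one_of_pow (hns : ∀ r : F, r * r ≠ -1) (k : ℕ) :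
    ∀ n : F, n ^ 2 ^ k = 1 → n = 1 ∨ n = -1 := by
  induction k with
  | zero =>
    intro n hn
    left
    simpa using hn
  | succ k ih =>
    intro n hn
    have h1 : (n * n) ^ 2 ^ k = 1 := by
      rw [← pow_two, ← pow_mul, ← pow_succ']
      exact hn
    rcases ih _ h1 with h | h
    · have : (n - 1) * (n + 1) = 0 := by linear_combination h
      rcases mul_eq_zero.mp this with h' | h'
      · left; linear_combination h'
      · right; linear_combination h'
    · exact absurd h (hns n)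

section Closed

variable [Finite F] (h2 : (2 : F) ≠ 0)

/-- transport of membership along a conjugation -/
theorem conj_mem_T (T : Subgroup (Matrix.SpecialLinearGroup (Fin 3) F))
    (hcl : ∀ x ∈ T, ∀ g : Matrix.SpecialLinearGroup (Fin 3) F,
      g * x * g⁻¹ ∈ (cfg h2).S0 → g * x * g⁻¹ ∈ T)
    {x g y : Matrix.SpecialLinearGroup (Fin 3) F} (hx : x ∈ T) (h : g * x = y * g)
    (hy : y ∈ (cfg h2).S0) : y ∈ T := by
  have e : y = g * x * g⁻¹ := by rw [h]; group
  rw [e] at hy ⊢
  exact hcl x hx g hy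

/-- `x ŵ ∈ S0` for `x ∈ C₂` -/
theorem mul_wh_mem_S0 {x : Matrix.SpecialLinearGroup (Fin 3) F} (hx : x ∈ (cfg h2).C2) :
    x * wh ∈ (cfg h2).S0 := by
  right
  have : x * wh * wh = x := by rw [mul_assoc, wh_mul_wh, mul_one]
  rw [this]; exact hx

variable (T : Subgroup (Matrix.SpecialLinearGroup (Fin 3) F)) (hTS : T ≤ (cfg h2).S0)
  (hcl : ∀ x ∈ T, ∀ g : Matrix.SpecialLinearGroup (Fin 3) F,
    g * x * g⁻¹ ∈ (cfg h2).S0 → g * x * g⁻¹ ∈ T) (hbot : T ≠ ⊥)

include hTS hcl hbot

theorem zh_mem_T : zh ∈ T := by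
  have := (cfg h2).z_mem_of_normal T hTS (fun x hx s hs => hcl x hx s
    (Subgroup.mul_mem _ (Subgroup.mul_mem _ hs (hTS hx)) (Subgroup.inv_mem _ hs))) hbot
  rwa [Jh_mul_Jh] at this

theorem wh_mem_T : wh ∈ T :=
  conj_mem_T h2 T hcl (zh_mem_T h2 T hTS hcl hbot) sig_zh (cfg h2).w_mem_S0

/-- norm one elements of `C₂` lie in `T` -/
theorem normOne_mem_T {x : Matrix.SpecialLinearGroup (Fin 3) F} (hx : x ∈ (cfg h2).C2)
    (hn : x.1 0 0 * x.1 0 0 + x.1 1 0 * x.1 1 0 = 1) : x ∈ T := by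
  obtain ⟨x02, x12, x20, x21, x11, x01⟩ := entries_of_comm_Jh h2 x hx.1
  have hdet := det_block x x02 x12 x20 x21
  rw [x11, x01] at hdet
  have x22 : x.1 2 2 = 1 := by
    have : (x.1 0 0 * x.1 0 0 + x.1 1 0 * x.1 1 0) * x.1 2 2 = 1 := by linear_combination hdet
    rwa [hn, one_mul] at this
  by_cases ha : x.1 0 0 = -1
  · -- `x = z`
    have hb : x.1 1 0 = 0 := by
      have : x.1 1 0 * x.1 1 0 = 0 := by rw [ha] at hn; linear_combination hn
      exact mul_self_eq_zero.mp this
    have : x = zh := by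
      apply Subtype.ext
      rw [zh_val]
      ext i j
      fin_cases i <;> fin_cases j <;> simp [x02, x12, x20, x21, x11, x01, ha, hb, x22]
    rw [this]
    exact zh_mem_T h2 T hTS hcl hbot
  · have hne : 2 + 2 * x.1 0 0 ≠ 0 := by
      intro h
      apply ha
      have : 2 * (x.1 0 0 + 1) = 0 := by linear_combination h
      have := (mul_eq_zero.mp this).resolve_left h2
      linear_combination this
    let yy : Matrix.SpecialLinearGroup (Fin 3) F :=
      ⟨!![1 + x.1 0 0, - x.1 1 0, 0; x.1 1 0, 1 + x.1 0 0, 0; 0, 0, (2 + 2 * x.1 0 0)⁻¹], by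
        have e1 : (1 + x.1 0 0) * (1 + x.1 0 0) + x.1 1 0 * x.1 1 0 = 2 + 2 * x.1 0 0 := by
          linear_combination hn
        have key : ((1 + x.1 0 0) * (1 + x.1 0 0) + x.1 1 0 * x.1 1 0) * (2 + 2 * x.1 0 0)⁻¹ = 1 := by
          rw [e1]; exact mul_inv_cancel₀ hne
        rw [det_of3]
        linear_combination key⟩
    have hyy : yy.1 = !![1 + x.1 0 0, - x.1 1 0, 0; x.1 1 0, 1 + x.1 0 0, 0;
        0, 0, (2 + 2 * x.1 0 0)⁻¹] := rfl
    have hconj : yy * wh = (x * wh) * yy := by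
      apply Subtype.ext
      rw [Matrix.SpecialLinearGroup.coe_mul, Matrix.SpecialLinearGroup.coe_mul,
        Matrix.SpecialLinearGroup.coe_mul, hyy, wh_val]
      ext i j
      fin_cases i <;> fin_cases j <;>
        simp [Matrix.mul_apply, Fin.sum_univ_three, x02, x12, x20, x21, x11, x01, x22] <;>
        first | ring1 | linear_combination hn | linear_combination -hn
    have h1 : x * wh ∈ T :=
      conj_mem_T h2 T hcl (wh_mem_T h2 T hTS hcl hbot) hconj (mul_wh_mem_S0 h2 hx)
    have h2' : x = (x * wh) * wh := by rw [mul_assoc, wh_mul_wh, mul_one]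
    rw [h2']
    exact T.mul_mem h1 (wh_mem_T h2 T hTS hcl hbot)

theorem Jh_mem_T : Jh ∈ T := by
  apply normOne_mem_T h2 T hTS hcl hbot (cfg h2).j_isC2
  simp [Jh_val]

/-- the case where `-1` is not a square -/
theorem C2_le_T_of_nonsquare (hns : ∀ r : F, r * r ≠ -1) : (cfg h2).C2 ≤ T := by
  intro x hx
  obtain ⟨x02, x12, x20, x21, x11, x01⟩ := entries_of_comm_Jh h2 x hx.1
  have hdet := det_block x x02 x12 x20 x21
  rw [x11, x01] at hdet
  have hdet' : (x.1 0 0 * x.1 0 0 + x.1 1 0 * x.1 1 0) * x.1 2 2 = 1 := by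
    linear_combination hdet
  obtain ⟨k, hk⟩ := hx.2
  have h22 : (x.1 2 2) ^ 2 ^ k = 1 := by
    rw [← pow_entry22 x x02 x12, hk]
    simp
  have hn : (x.1 0 0 * x.1 0 0 + x.1 1 0 * x.1 1 0) ^ 2 ^ k = 1 := by
    have := congrArg (fun t => t ^ 2 ^ k) hdet'
    simp only [mul_pow, h22, mul_one, one_pow] at this
    exact this
  rcases eq_one_or_neg_one_of_pow hns k _ hn with h | h
  · exact normOne_mem_T h2 T hTS hcl hbot hx h
  · have x22 : x.1 2 2 = -1 := by
      rw [h] at hdet'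
      linear_combination -hdet'
    have hb : x.1 1 0 ≠ 0 := by
      intro hb
      rw [hb] at h
      apply hns (x.1 0 0)
      linear_combination h
    let PP : Matrix.SpecialLinearGroup (Fin 3) F :=
      ⟨!![1, x.1 0 0, 0; 0, x.1 1 0, 0; 0, 0, (x.1 1 0)⁻¹], by
        have key : x.1 1 0 * (x.1 1 0)⁻¹ = 1 := mul_inv_cancel₀ hb
        rw [det_of3]
        linear_combination key⟩
    have hPP : PP.1 = !![1, x.1 0 0, 0; 0, x.1 1 0, 0; 0, 0, (x.1 1 0)⁻¹] := rfl
    have hconj : PP * Jh = (x * wh) * PP := by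
      apply Subtype.ext
      rw [Matrix.SpecialLinearGroup.coe_mul, Matrix.SpecialLinearGroup.coe_mul,
        Matrix.SpecialLinearGroup.coe_mul, hPP, wh_val, Jh_val]
      ext i j
      fin_cases i <;> fin_cases j <;>
        simp [Matrix.mul_apply, Fin.sum_univ_three, x02, x12, x20, x21, x11, x01, x22] <;>
        first | ring1 | linear_combination h | linear_combination -h
    have h1 : x * wh ∈ T :=
      conj_mem_T h2 T hcl (Jh_mem_T h2 T hTS hcl hbot) hconj (mul_wh_mem_S0 h2 hx)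
    have h2' : x = (x * wh) * wh := by rw [mul_assoc, wh_mul_wh, mul_one]
    rw [h2']
    exact T.mul_mem h1 (wh_mem_T h2 T hTS hcl hbot)

end Closed

end Cfsg.Agent.Lead.SL3Two
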