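import Mathlib
import Cfsg.Agent.Lead.SL3TwoB

set_option autoImplicit false

/-!
# Strongly closed subgroups of the Sylow `2`-subgroup of `SL_3(F)`: the split case `i² = -1`
-/

namespace Cfsg.Agent.Lead.SL3Two

open Matrix Cfsg.Agent.Lead.JW

variable {F : Type*} [Field F]

/-- the diagonal matrix `diag(c, d, (cd)⁻¹)` -/
def Dg (c d : Fˣ) : Matrix.SpecialLinearGroup (Fin 3) F :=
  ⟨!![(c : F), 0, 0; 0, (d : F), 0; 0, 0, ((c : F) * (d : F))⁻¹], by
    have key : ((c : F) * (d : F)) * ((c : F) * (d : F))⁻¹ = 1 :=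
      mul_inv_cancel₀ (mul_ne_zero c.ne_zero d.ne_zero)
    rw [det_of3]
    linear_combination key⟩

theorem Dg_val (c d : Fˣ) :
    (Dg c d).1 = !![(c : F), 0, 0; 0, (d : F), 0; 0, 0, ((c : F) * (d : F))⁻¹] := rfl

/-- `diag` as a homomorphism -/
def DgHom : Fˣ × Fˣ →* Matrix.SpecialLinearGroup (Fin 3) F where
  toFun p := Dg p.1 p.2
  map_one' := by
    apply Subtype.ext
    rw [Dg_val]
    ext i j
    fin_cases i <;> fin_cases j <;> simp
  map_mul' := by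
    rintro ⟨c, d⟩ ⟨c', d'⟩
    apply Subtype.ext
    rw [Matrix.SpecialLinearGroup.coe_mul, Dg_val, Dg_val, Dg_val]
    ext i j
    fin_cases i <;> fin_cases j <;> simp [Matrix.mul_apply, Fin.sum_univ_three]
    ring

theorem DgHom_apply (c d : Fˣ) : DgHom (c, d) = Dg c d := rfl

theorem DgHom_eq_one {p : Fˣ × Fˣ} (h : DgHom p = 1) : p = 1 := by
  obtain ⟨c, d⟩ := p
  rw [DgHom_apply] at h
  have e := congrArg Subtype.val h
  rw [Dg_val] at e
  have e00 := congrFun (congrFun e 0) 0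
  have e11 := congrFun (congrFun e 1) 1
  simp at e00 e11
  rw [Prod.mk_eq_one]
  exact ⟨e00, e11⟩

theorem sig_Dg (c d : Fˣ) : sig * Dg c d = Dg (c * d)⁻¹ c * sig := by
  apply Subtype.ext
  rw [Matrix.SpecialLinearGroup.coe_mul, Matrix.SpecialLinearGroup.coe_mul, Dg_val, Dg_val, sig_val]
  ext i j
  fin_cases i <;> fin_cases j <;> simp [Matrix.mul_apply, Fin.sum_univ_three]

/-- the monomial matrix corresponding to `ŵ` in the eigenbasis -/
def om : Matrix.SpecialLinearGroup (Fin 3) F :=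
  ⟨!![0, 1, 0; 1, 0, 0; 0, 0, -1], by simp [Matrix.det_fin_three]⟩

theorem om_val : (om : Matrix.SpecialLinearGroup (Fin 3) F).1 = !![0, 1, 0; 1, 0, 0; 0, 0, -1] :=
  rfl

theorem om_Dg (c d : Fˣ) : om * Dg c d = Dg d c * om := by
  apply Subtype.ext
  rw [Matrix.SpecialLinearGroup.coe_mul, Matrix.SpecialLinearGroup.coe_mul, Dg_val, Dg_val, om_val]
  ext i j
  fin_cases i <;> fin_cases j <;> simp [Matrix.mul_apply, Fin.sum_univ_three, mul_comm]

section Split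

variable (h2 : (2 : F) ≠ 0) (i : F) (hi : i * i = -1)

include h2 hi in
theorem two_i_ne : 2 * i ≠ 0 := by
  apply mul_ne_zero h2
  intro h
  rw [h, mul_zero] at hi
  have : (1 : F) = 0 := by linear_combination hi
  exact one_ne_zero this

/-- the eigenbasis matrix -/
def Ph : Matrix.SpecialLinearGroup (Fin 3) F :=
  ⟨!![1, 1, 0; -i, i, 0; 0, 0, (2 * i)⁻¹], by
    have key : (2 * i) * (2 * i)⁻¹ = 1 := mul_inv_cancel₀ (two_i_ne h2 i hi)
    rw [det_of3]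
    linear_combination key⟩

theorem Ph_val : (Ph h2 i hi).1 = !![1, 1, 0; -i, i, 0; 0, 0, (2 * i)⁻¹] := rfl

theorem wh_Ph : wh * Ph h2 i hi = Ph h2 i hi * om := by
  apply Subtype.ext
  rw [Matrix.SpecialLinearGroup.coe_mul, Matrix.SpecialLinearGroup.coe_mul, Ph_val, wh_val, om_val]
  ext i j
  fin_cases i <;> fin_cases j <;> simp [Matrix.mul_apply, Fin.sum_univ_three]

/-- the torus parametrization -/
def dl : Fˣ × Fˣ →* Matrix.SpecialLinearGroup (Fin 3) F :=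
  (MulAut.conj (Ph h2 i hi)).toMonoidHom.comp DgHom

theorem dl_apply (p : Fˣ × Fˣ) : dl h2 i hi p = Ph h2 i hi * DgHom p * (Ph h2 i hi)⁻¹ := rfl

theorem dl_eq_one {p : Fˣ × Fˣ} (h : dl h2 i hi p = 1) : p = 1 := by
  apply DgHom_eq_one
  rw [dl_apply] at h
  calc DgHom p = (Ph h2 i hi)⁻¹ * (Ph h2 i hi * DgHom p * (Ph h2 i hi)⁻¹) * Ph h2 i hi := by group
    _ = 1 := by rw [h]; group

theorem dl_comm (p q : Fˣ × Fˣ) : Commute (dl h2 i hi p) (dl h2 i hi q) :=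
  (Commute.all p q).map (dl h2 i hi)

/-- every element of `C` is in the image of `dl` -/
theorem exists_dl (x : Matrix.SpecialLinearGroup (Fin 3) F) (hx : Commute x Jh) :
    ∃ p : Fˣ × Fˣ, x = dl h2 i hi p := by
  obtain ⟨x02, x12, x20, x21, x11, x01⟩ := entries_of_comm_Jh h2 x hx
  have hdet := det_block x x02 x12 x20 x21
  rw [x11, x01] at hdet
  have hcd : (x.1 0 0 + i * x.1 1 0) * (x.1 0 0 - i * x.1 1 0) * x.1 2 2 = 1 := by
    linear_combination hdet - (x.1 1 0 * x.1 1 0 * x.1 2 2) * hi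
  have hc : x.1 0 0 + i * x.1 1 0 ≠ 0 := by
    intro h
    rw [h, zero_mul, zero_mul] at hcd
    exact zero_ne_one hcd
  have hd : x.1 0 0 - i * x.1 1 0 ≠ 0 := by
    intro h
    rw [h, mul_zero, zero_mul] at hcd
    exact zero_ne_one hcd
  have h22 : x.1 2 2 = ((x.1 0 0 + i * x.1 1 0) * (x.1 0 0 - i * x.1 1 0))⁻¹ :=
    eq_inv_of_mul_eq_one_right hcd
  refine ⟨(Units.mk0 _ hc, Units.mk0 _ hd), ?_⟩
  rw [dl_apply, DgHom_apply]
  have key : x * Ph h2 i hi = Ph h2 i hi * Dg (Units.mk0 _ hc) (Units.mk0 _ hd) := by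
    apply Subtype.ext
    rw [Matrix.SpecialLinearGroup.coe_mul, Matrix.SpecialLinearGroup.coe_mul, Ph_val, Dg_val]
    ext a b
    fin_cases a <;> fin_cases b <;>
      simp [Matrix.mul_apply, Fin.sum_univ_three, x02, x12, x20, x21, x11, x01, h22] <;>
      first | ring1 | linear_combination (x.1 1 0) * hi | linear_combination -(x.1 1 0) * hi
  calc x = x * Ph h2 i hi * (Ph h2 i hi)⁻¹ := by group
    _ = _ := by rw [key]

theorem wh_dl (c d : Fˣ) : wh * dl h2 i hi (c, d) * wh = dl h2 i hi (d, c) := by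
  rw [dl_apply, dl_apply, DgHom_apply, DgHom_apply]
  have h1 : wh * Ph h2 i hi = Ph h2 i hi * om := wh_Ph h2 i hi
  have h2' : (Ph h2 i hi)⁻¹ * wh = om⁻¹ * (Ph h2 i hi)⁻¹ := by
    have hw : (wh : Matrix.SpecialLinearGroup (Fin 3) F)⁻¹ = wh :=
      inv_eq_of_mul_eq_one_right wh_mul_wh
    calc (Ph h2 i hi)⁻¹ * wh = (wh * Ph h2 i hi)⁻¹ := by rw [_root_.mul_inv_rev, hw]
      _ = om⁻¹ * (Ph h2 i hi)⁻¹ := by rw [h1, _root_.mul_inv_rev]
  calc wh * (Ph h2 i hi * Dg c d * (Ph h2 i hi)⁻¹) * wh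
      = (wh * Ph h2 i hi) * Dg c d * ((Ph h2 i hi)⁻¹ * wh) := by group
    _ = Ph h2 i hi * (om * Dg c d) * om⁻¹ * (Ph h2 i hi)⁻¹ := by rw [h1, h2']; group
    _ = Ph h2 i hi * Dg d c * (Ph h2 i hi)⁻¹ := by rw [om_Dg]; group

theorem sig_dl (c d : Fˣ) :
    (Ph h2 i hi * sig * (Ph h2 i hi)⁻¹) * dl h2 i hi (c, d) =
      dl h2 i hi ((c * d)⁻¹, c) * (Ph h2 i hi * sig * (Ph h2 i hi)⁻¹) := by
  rw [dl_apply, dl_apply, DgHom_apply, DgHom_apply]
  calc Ph h2 i hi * sig * (Ph h2 i hi)⁻¹ * (Ph h2 i hi * Dg c d * (Ph h2 i hi)⁻¹)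
      = Ph h2 i hi * (sig * Dg c d) * (Ph h2 i hi)⁻¹ := by group
    _ = Ph h2 i hi * Dg (c * d)⁻¹ c * (Ph h2 i hi)⁻¹ *
        (Ph h2 i hi * sig * (Ph h2 i hi)⁻¹) := by rw [sig_Dg]; group

end Split

end Cfsg.Agent.Lead.SL3Two
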