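import Mathlib
import Cfsg.Prelude.Def_FusionSystem
import Cfsg.Agent.Lead.SimpleCritD
import Cfsg.Agent.Lead.SpFusM

set_option autoImplicit false

/-!
A variant of the simplicity criterion in which the normalizer of the Sylow subgroup `S` is only
required to be generated by the centralizer of `S` together with elements lying in subgroups
generated by `p`-elements of normalizers of centric fully normalized subgroups.
-/

namespace Cfsg.Agent.Lead.SimpCrit

open Cfsg Cfsg.FusionSystem Cfsg.Agent.Lead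

/-- The simplicity criterion, generating form with centralizer. -/
theorem mainC {G : Type*} [Group G] [Finite G] (p : ℕ) [Fact p.Prime] (S : Sylow p G)
    (hS1 : (S : Subgroup G) ≠ ⊥)
    (ha : ∀ T : Subgroup G, (groupFusionSystem (S : Subgroup G)).StronglyClosed T →
      T = ⊥ ∨ T = (S : Subgroup G))
    (hb : Subgroup.normalizer ((S : Subgroup G) : Set G) ≤
      Subgroup.centralizer ((S : Subgroup G) : Set G) ⊔
      Subgroup.closure {m : G | m ∈ Subgroup.normalizer ((S : Subgroup G) : Set G) ∧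
        ∃ R : Subgroup G, (groupFusionSystem (S : Subgroup G)).IsFullyNormalized R ∧
          (groupFusionSystem (S : Subgroup G)).IsCentric R ∧
          m ∈ Subgroup.closure {g : G | g ∈ Subgroup.normalizer (R : Set G) ∧
            ∃ k : ℕ, orderOf g = p ^ k}}) :
    (groupFusionSystem (S : Subgroup G)).IsSimple p := by
  have hF : (groupFusionSystem (S : Subgroup G)).IsSaturated p := Cfsg.Agent.S5076.result p S
  have hS : IsPGroup p (S : Subgroup G) := S.isPGroup'
  refine ⟨hF, hS1, ?_⟩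
  intro T E hE
  obtain ⟨⟨hEsat, -, hinv⟩, -⟩ := hE
  rcases ha T hinv.2.1 with hT | hT
  · exact Or.inl hT
  right
  subst hT
  refine ⟨rfl, ?_⟩
  set F := groupFusionSystem (S : Subgroup G) with hFdef
  have hle : E ≤ F := hinv.1
  -- the subgroup of `N_G(S)` inducing elements of `Aut_E(S)`
  have hgen : Subgroup.closure {m : G | m ∈ Subgroup.normalizer ((S : Subgroup G) : Set G) ∧
        ∃ R : Subgroup G, F.IsFullyNormalized R ∧ F.IsCentric R ∧
          m ∈ Subgroup.closure {g : G | g ∈ Subgroup.normalizer (R : Set G) ∧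
            ∃ k : ℕ, orderOf g = p ^ k}} ≤
      ((E.autGroup (S : Subgroup G)).comap (conjAutHom (S : Subgroup G))).map
        (Subgroup.normalizer ((S : Subgroup G) : Set G)).subtype := by
    rw [Subgroup.closure_le]
    rintro m ⟨hmN, R, hRfn, hRc, hmK⟩
    refine ⟨⟨m, hmN⟩, ?_, rfl⟩
    rw [SetLike.mem_coe, Subgroup.mem_comap, Fusion.mem_autGroup_iff E le_rfl]
    have hRS : R ≤ (S : Subgroup G) := hRfn.1
    have hψ : (S : Subgroup G).subtype.comp (conjAutHom (S : Subgroup G) ⟨m, hmN⟩).toMonoidHom ∈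
        F.Hom (S : Subgroup G) :=
      ⟨le_rfl, fun x => (conjAutHom (S : Subgroup G) ⟨m, hmN⟩ x).2, m, fun x => rfl⟩
    have hKle : Subgroup.closure {g : G | g ∈ Subgroup.normalizer (R : Set G) ∧
        ∃ k : ℕ, orderOf g = p ^ k} ≤
        ((E.autGroup R).comap (conjAutHom R)).map (Subgroup.normalizer (R : Set G)).subtype := by
      rw [Subgroup.closure_le]
      rintro g' ⟨hg'N, k, hk⟩
      refine ⟨⟨g', hg'N⟩, ?_, rfl⟩
      rw [SetLike.mem_coe, Subgroup.mem_comap]
      apply pElement_mem p hS F hF E hinv hRfn _ _ k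
      · rw [← map_pow]
        have : (⟨g', hg'N⟩ : Subgroup.normalizer (R : Set G)) ^ p ^ k = 1 := by
          apply Subtype.ext
          show g' ^ p ^ k = 1
          rw [← hk]; exact pow_orderOf_eq_one g'
        rw [this, map_one]
      · rw [Fusion.mem_autGroup_iff F hRS]
        refine ⟨hRS, fun x => hRS (conjAutHom R ⟨g', hg'N⟩ x).2, g', fun x => rfl⟩
    obtain ⟨n, hn, hng⟩ := hKle hmK
    rw [SetLike.mem_coe, Subgroup.mem_comap, Fusion.mem_autGroup_iff E hRS] at hn
    apply Fusion.mem_of_restrict_centric_mem p hS F hF E hEsat hle (S : Subgroup G) _ hψ _ R hRS hRc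
      _ rfl
    convert hn using 1
    ext x
    show m * x * m⁻¹ = n.1 * x * n.1⁻¹
    have : n.1 = m := hng
    rw [this]
  -- the centralizer also induces elements of `Aut_E(S)`, namely the identity
  have hcen : Subgroup.centralizer ((S : Subgroup G) : Set G) ≤
      ((E.autGroup (S : Subgroup G)).comap (conjAutHom (S : Subgroup G))).map
        (Subgroup.normalizer ((S : Subgroup G) : Set G)).subtype := by
    intro c hc
    have hcN : c ∈ Subgroup.normalizer ((S : Subgroup G) : Set G) :=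
      Subgroup.centralizer_le_normalizer _ hc
    refine ⟨⟨c, hcN⟩, ?_, rfl⟩
    rw [SetLike.mem_coe, Subgroup.mem_comap]
    have h1 : conjAutHom (S : Subgroup G) ⟨c, hcN⟩ = 1 := by
      ext x
      show c * (x : G) * c⁻¹ = x
      have := Subgroup.mem_centralizer_iff.mp hc x x.2
      rw [← this]; group
    rw [h1]
    exact Subgroup.one_mem _
  -- key: `Aut_F(S) ≤ Aut_E(S)`
  have key : F.autGroup (S : Subgroup G) ≤ E.autGroup (S : Subgroup G) := by
    rw [hFdef, Cfsg.Agent.S5076.autGroup_groupFusionSystem (S : Subgroup G) (S : Subgroup G) le_rfl]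
    unfold autInducedBy
    rw [Subgroup.closure_le]
    rintro α ⟨g, -, hgα⟩
    have hgN : g ∈ Subgroup.normalizer ((S : Subgroup G) : Set G) :=
      mem_normalizer_of_conj_eq_aut _ α g hgα
    obtain ⟨n, hn, hng⟩ := (sup_le hcen hgen) (hb hgN)
    rw [SetLike.mem_coe, Subgroup.mem_comap] at hn
    have : conjAutHom (S : Subgroup G) n = α := by
      ext x
      rw [hgα]
      have : n.1 = g := hng
      rw [← this]
      rfl
    rw [← this]
    exact hn
  intro P
  apply Set.Subset.antisymm (hle P)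
  intro φ hφ
  have hP : P ≤ (S : Subgroup G) := Fusion.src_le F hφ
  obtain ⟨α, hα, φ₀, hφ₀, hv⟩ := hinv.2.2.2 P hP φ hφ
  have hα' := (Fusion.mem_autGroup_iff E le_rfl α).mp (key hα)
  have hφ₀S : ∀ x : P, φ₀ x ∈ (S : Subgroup G) := fun x => Fusion.map_mem E hφ₀ x
  have hc := E.comp_mem hφ₀ hα' hφ₀S
  convert hc using 1
  ext x
  exact hv x (hφ₀S x)

variable {G : Type*} [Group G]

/-- The group-theoretic hypotheses of the simplicity criterion with centralizer. -/
def CritC (p : ℕ) (S : Subgroup G) : Prop :=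
  (∀ T : Subgroup G, T ≤ S → (∀ x ∈ T, ∀ g : G, g * x * g⁻¹ ∈ S → g * x * g⁻¹ ∈ T) →
    T = ⊥ ∨ T = S) ∧
  Subgroup.normalizer (S : Set G) ≤ Subgroup.centralizer (S : Set G) ⊔
    Subgroup.closure {m : G | m ∈ Subgroup.normalizer (S : Set G) ∧
      ∃ R : Subgroup G, R ≤ S ∧ S ≤ Subgroup.normalizer (R : Set G) ∧
        S ⊓ Subgroup.centralizer (R : Set G) ≤ R ∧
        m ∈ Subgroup.closure {g : G | g ∈ Subgroup.normalizer (R : Set G) ∧
          ∃ k : ℕ, orderOf g = p ^ k}}

/-- The simplest instance: strongly closed subgroups are trivial and `N_G(S) = S C_G(S)`. -/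
theorem critC_of_normalizer_le {p : ℕ} [Fact p.Prime] {S : Subgroup G} (hSp : IsPGroup p S)
    (ha : ∀ T : Subgroup G, T ≤ S → (∀ x ∈ T, ∀ g : G, g * x * g⁻¹ ∈ S → g * x * g⁻¹ ∈ T) →
      T = ⊥ ∨ T = S)
    (hb : Subgroup.normalizer (S : Set G) ≤ Subgroup.centralizer (S : Set G) ⊔ S) :
    CritC p S := by
  refine ⟨ha, hb.trans (sup_le_sup_left ?_ _)⟩
  intro s hs
  apply Subgroup.subset_closure
  refine ⟨Subgroup.le_normalizer hs, S, le_rfl, Subgroup.le_normalizer, inf_le_left, ?_⟩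
  apply Subgroup.subset_closure
  refine ⟨Subgroup.le_normalizer hs, ?_⟩
  obtain ⟨k, hk⟩ := (IsPGroup.iff_orderOf.mp hSp) ⟨s, hs⟩
  refine ⟨k, ?_⟩
  rw [← hk]
  exact (Subgroup.orderOf_mk s hs).symm

/-- Lemma A: the group-theoretic criterion. -/
theorem critC [Finite G] (p : ℕ) [Fact p.Prime] (S : Sylow p G)
    (hS1 : (S : Subgroup G) ≠ ⊥) (h : CritC p (S : Subgroup G)) :
    (groupFusionSystem (S : Subgroup G)).IsSimple p := by
  obtain ⟨ha, hb⟩ := h
  apply mainC p S hS1
  · intro T hT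
    apply ha T hT.1
    intro x hxT g hgx
    have hle : Subgroup.zpowers x ≤ T := Subgroup.zpowers_le.mpr hxT
    have hφ : conjHom (Subgroup.zpowers x) g ∈
        (groupFusionSystem (S : Subgroup G)).Hom (Subgroup.zpowers x) := by
      refine ⟨hle.trans hT.1, ?_, g, fun y => rfl⟩
      rintro ⟨y, hy⟩
      obtain ⟨i, rfl⟩ := Subgroup.mem_zpowers_iff.mp hy
      show g * x ^ i * g⁻¹ ∈ (S : Subgroup G)
      rw [← conj_zpow]
      exact Subgroup.zpow_mem _ hgx i
    exact hT.2 (Subgroup.zpowers x) hle _ hφ ⟨x, Subgroup.mem_zpowers x⟩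
  · refine hb.trans (sup_le_sup_left (Subgroup.closure_mono ?_) _)
    rintro m ⟨hmN, R, hRS, hSR, hC, hm⟩
    exact ⟨hmN, R, isFullyNormalized_of_normal _ R hRS hSR, isCentric_of_normal p S R hRS hSR hC,
      hm⟩

/-- Lemma B: the criterion is invariant under automorphisms. -/
theorem CritC.map {p : ℕ} {S : Subgroup G} (h : CritC p S) (β : MulAut G) :
    CritC p (S.map β.toMonoidHom) := by
  obtain ⟨ha, hb⟩ := h
  have hβ : ∀ x : G, β (β⁻¹ x) = x := fun x => β.apply_symm_apply x
  have hβ' : ∀ x : G, β⁻¹ (β x) = x := fun x => β.symm_apply_apply x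
  have hmem : ∀ (H : Subgroup G) (x : G), x ∈ H.map β.toMonoidHom ↔ β⁻¹ x ∈ H := by
    intro H x
    constructor
    · rintro ⟨y, hy, rfl⟩
      show β⁻¹ (β y) ∈ H
      rw [hβ']; exact hy
    · intro hx
      exact ⟨β⁻¹ x, hx, hβ x⟩
  have hnorm : ∀ H : Subgroup G, Subgroup.normalizer ((H.map β.toMonoidHom : Subgroup G) : Set G) =
      (Subgroup.normalizer (H : Set G)).map β.toMonoidHom := fun H =>
    (Subgroup.map_equiv_normalizer_eq H β).symm
  constructor
  · intro T' hT'S hcl
    have h1 := ha (T'.map (β⁻¹).toMonoidHom) ?_ ?_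
    · rcases h1 with h1 | h1
      · left
        rw [eq_bot_iff]
        intro x hx
        have : β⁻¹ x ∈ T'.map (β⁻¹).toMonoidHom := ⟨x, hx, rfl⟩
        rw [h1, Subgroup.mem_bot] at this
        rw [Subgroup.mem_bot]
        have h2 := congrArg β this
        rwa [hβ, map_one] at h2
      · right
        apply le_antisymm hT'S
        rintro _ ⟨s, hs, rfl⟩
        rw [← h1] at hs
        obtain ⟨t, ht, rfl⟩ := hs
        show β (β⁻¹ t) ∈ T'
        rw [hβ]; exact ht
    · rintro _ ⟨t, ht, rfl⟩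
      exact (hmem S t).mp (hT'S ht)
    · rintro _ ⟨t, ht, rfl⟩ g hg
      refine ⟨β (g * β⁻¹ t * g⁻¹), ?_, hβ' _⟩
      have e : β (g * β⁻¹ t * g⁻¹) = β g * t * (β g)⁻¹ := by
        rw [map_mul, map_mul, map_inv]
        show β g * β (β⁻¹ t) * (β g)⁻¹ = _
        rw [hβ]
      rw [e]
      apply hcl t ht
      rw [← e]
      exact ⟨_, hg, rfl⟩
  · rw [hnorm]
    rintro _ ⟨m, hm, rfl⟩
    have h1 := hb hm
    have h2 : β m ∈ (Subgroup.centralizer (S : Set G) ⊔
      Subgroup.closure {m : G | m ∈ Subgroup.normalizer (S : Set G) ∧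
      ∃ R : Subgroup G, R ≤ S ∧ S ≤ Subgroup.normalizer (R : Set G) ∧
        S ⊓ Subgroup.centralizer (R : Set G) ≤ R ∧
        m ∈ Subgroup.closure {g : G | g ∈ Subgroup.normalizer (R : Set G) ∧
          ∃ k : ℕ, orderOf g = p ^ k}}).map β.toMonoidHom := ⟨m, h1, rfl⟩
    rw [Subgroup.map_sup, MonoidHom.map_closure] at h2
    refine sup_le_sup ?_ (Subgroup.closure_mono ?_) h2
    · rintro _ ⟨c, hc, rfl⟩
      apply Subgroup.mem_centralizer_iff.mpr
      rintro _ ⟨s, hs, rfl⟩
      have := Subgroup.mem_centralizer_iff.mp hc s hs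
      show β s * β c = β c * β s
      rw [← map_mul, ← map_mul, this]
    rintro _ ⟨m₁, ⟨hm₁N, R, hRS, hSR, hC, hm₁⟩, rfl⟩
    refine ⟨⟨m₁, hm₁N, rfl⟩, R.map β.toMonoidHom, Subgroup.map_mono hRS, ?_, ?_, ?_⟩
    · rw [hnorm]
      exact Subgroup.map_mono hSR
    · rintro x ⟨hxS, hxC⟩
      have hxS' := (hmem S x).mp hxS
      apply (hmem R x).mpr
      apply hC
      refine ⟨hxS', ?_⟩
      apply Subgroup.mem_centralizer_iff.mpr
      intro r hr
      have := Subgroup.mem_centralizer_iff.mp hxC (β r) ⟨r, hr, rfl⟩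
      have h3 : (β⁻¹ : MulAut G) (β r * x) = (β⁻¹ : MulAut G) (x * β r) := by rw [this]
      rw [map_mul, map_mul, hβ'] at h3
      exact h3
    · have h3 : β m₁ ∈ (Subgroup.closure {g : G | g ∈ Subgroup.normalizer (R : Set G) ∧
          ∃ k : ℕ, orderOf g = p ^ k}).map β.toMonoidHom := ⟨m₁, hm₁, rfl⟩
      rw [MonoidHom.map_closure] at h3
      refine Subgroup.closure_mono ?_ h3
      rintro _ ⟨g, ⟨hgN, k, hk⟩, rfl⟩
      refine ⟨?_, k, ?_⟩
      · rw [hnorm]
        exact ⟨g, hgN, rfl⟩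
      · show orderOf (β g) = p ^ k
        rw [MulEquiv.orderOf_eq]
        exact hk

/-- If the criterion holds for one Sylow subgroup, the fusion system on every Sylow subgroup is
simple. -/
theorem critC_all [Finite G] (p : ℕ) [Fact p.Prime] (S₀ : Sylow p G)
    (hS1 : (S₀ : Subgroup G) ≠ ⊥) (h : CritC p (S₀ : Subgroup G)) (S : Sylow p G) :
    (groupFusionSystem (S : Subgroup G)).IsSimple p := by
  obtain ⟨g, hg⟩ := MulAction.exists_smul_eq G S₀ S
  have h1 : (S : Subgroup G) = (S₀ : Subgroup G).map (MulAut.conj g).toMonoidHom := by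
    rw [← hg, Sylow.coe_subgroup_smul]
    rfl
  apply critC p S
  · rw [h1]
    intro hbot
    apply hS1
    rw [eq_bot_iff]
    intro x hx
    have : MulAut.conj g x ∈ (S₀ : Subgroup G).map (MulAut.conj g).toMonoidHom := ⟨x, hx, rfl⟩
    rw [hbot, Subgroup.mem_bot] at this
    rw [Subgroup.mem_bot]
    exact (MulAut.conj g).map_eq_one_iff.mp this
  · rw [h1]
    exact h.map (MulAut.conj g)

/-- the criterion with centralizer passes to the quotient by a central `p'`-subgroup -/
theorem critC_quotient [Finite G] {p : ℕ} [Fact p.Prime] {S : Subgroup G} (hSp : IsPGroup p S)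
    (h : CritC p S) (Z : Subgroup G) [Z.Normal] (hZc : Z ≤ Subgroup.center G)
    (hZp : ∀ z ∈ Z, ∀ k : ℕ, z ^ p ^ k = 1 → z = 1) :
    CritC p (S.map (QuotientGroup.mk' Z)) := by
  have hp : p.Prime := Fact.out
  obtain ⟨ha, hb⟩ := h
  set π := QuotientGroup.mk' Z with hπ
  have hker : ∀ x : G, π x = 1 → x ∈ Z := by
    intro x hx
    rwa [hπ, QuotientGroup.mk'_apply, QuotientGroup.eq_one_iff] at hx
  -- elements of `S ∩ Z` are trivial
  have hSZ : ∀ x ∈ S, x ∈ Z → x = 1 := by
    intro x hxS hxZ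
    obtain ⟨k, hk⟩ := hSp ⟨x, hxS⟩
    have hk' : x ^ p ^ k = 1 := by
      have := congrArg Subtype.val hk
      simpa using this
    exact hZp x hxZ k hk'
  -- lifting membership in the image of `S` for `p`-elements
  have hlift : ∀ x : G, (∃ k : ℕ, x ^ p ^ k = 1) → π x ∈ S.map π → x ∈ S := by
    rintro x ⟨k, hk⟩ ⟨s, hs, hsx⟩
    have hz : s⁻¹ * x ∈ Z := by
      apply hker
      rw [map_mul, map_inv, hsx, inv_mul_cancel]
    obtain ⟨j, hj⟩ := hSp ⟨s, hs⟩
    have hj' : s ^ p ^ j = 1 := by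
      have := congrArg Subtype.val hj
      simpa using this
    have hcomm : Commute s⁻¹ x := by
      have h1 := Subgroup.mem_center_iff.mp (hZc hz) s
      have h2 : x = s⁻¹ * x * s := by
        rw [← h1]; group
      show s⁻¹ * x = x * s⁻¹
      calc s⁻¹ * x = s⁻¹ * x * s * s⁻¹ := by group
        _ = x * s⁻¹ := by rw [← h2]
    have hpow : (s⁻¹ * x) ^ p ^ (j + k) = 1 := by
      rw [hcomm.mul_pow, inv_pow, pow_add, pow_mul, hj', one_pow, inv_one, one_mul,
        mul_comm (p ^ j), pow_mul, hk, one_pow]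
    have h1 := hZp _ hz _ hpow
    have : x = s := by
      have := congrArg (fun y => s * y) h1
      simpa using this
    rw [this]
    exact hs
  refine ⟨?_, ?_⟩
  · -- strongly closed subgroups
    intro Tb hTb hcl
    set T := S ⊓ Tb.comap π with hT
    have hTS : T ≤ S := inf_le_left
    have hTcl : ∀ x ∈ T, ∀ g : G, g * x * g⁻¹ ∈ S → g * x * g⁻¹ ∈ T := by
      intro x hx g hg
      refine ⟨hg, ?_⟩
      show π (g * x * g⁻¹) ∈ Tb
      have h1 := hcl (π x) hx.2 (π g) (by
        rw [← map_inv, ← map_mul, ← map_mul]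
        exact ⟨_, hg, rfl⟩)
      rwa [← map_inv, ← map_mul, ← map_mul] at h1
    have hTb_eq : Tb = T.map π := by
      apply le_antisymm
      · intro t ht
        obtain ⟨s, hs, rfl⟩ := hTb ht
        exact ⟨s, ⟨hs, ht⟩, rfl⟩
      · rintro _ ⟨s, hs, rfl⟩
        exact hs.2
    rcases ha T hTS hTcl with h1 | h1
    · left
      rw [hTb_eq, h1, Subgroup.map_bot]
    · right
      rw [hTb_eq, h1]
  · -- the normaliser
    intro nb hnb
    obtain ⟨n, rfl⟩ := QuotientGroup.mk'_surjective Z nb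
    have hnN : n ∈ Subgroup.normalizer (S : Set G) := by
      haveI : Finite S := inferInstance
      apply Cfsg.Agent.Lead.mem_normalizer_of_conj_mem_of_finite
      intro s hs
      apply hlift
      · obtain ⟨k, hk⟩ := hSp ⟨s, hs⟩
        have hk' : s ^ p ^ k = 1 := by
          have := congrArg Subtype.val hk
          simpa using this
        refine ⟨k, ?_⟩
        rw [conj_pow, hk']
        group
      · rw [map_mul, map_mul, map_inv]
        have := (Subgroup.mem_normalizer_iff.mp hnb (π s)).mp ⟨s, hs, rfl⟩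
        exact this
    have h1 := hb hnN
    have h2 : π n ∈ (Subgroup.centralizer (S : Set G) ⊔
      Subgroup.closure {m : G | m ∈ Subgroup.normalizer (S : Set G) ∧
      ∃ R : Subgroup G, R ≤ S ∧ S ≤ Subgroup.normalizer (R : Set G) ∧
        S ⊓ Subgroup.centralizer (R : Set G) ≤ R ∧
        m ∈ Subgroup.closure {g : G | g ∈ Subgroup.normalizer (R : Set G) ∧
          ∃ k : ℕ, orderOf g = p ^ k}}).map π := ⟨n, h1, rfl⟩
    rw [Subgroup.map_sup, MonoidHom.map_closure] at h2
    refine sup_le_sup ?_ (Subgroup.closure_mono ?_) h2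
    · rintro _ ⟨c, hc, rfl⟩
      apply Subgroup.mem_centralizer_iff.mpr
      rintro _ ⟨s, hs, rfl⟩
      have := Subgroup.mem_centralizer_iff.mp hc s hs
      show π s * π c = π c * π s
      rw [← map_mul, ← map_mul, this]
    rintro _ ⟨m, ⟨hmN, R, hRS, hSR, hC, hm⟩, rfl⟩
    refine ⟨Subgroup.le_normalizer_map π ⟨m, hmN, rfl⟩, R.map π, Subgroup.map_mono hRS,
      (Subgroup.map_mono hSR).trans (Subgroup.le_normalizer_map π), ?_, ?_⟩
    · rintro _ ⟨⟨s, hs, rfl⟩, hc⟩
      refine ⟨s, hC (Subgroup.mem_inf.mpr ⟨hs, Subgroup.mem_centralizer_iff.mpr ?_⟩), rfl⟩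
      intro r hr
      have h3 := Subgroup.mem_centralizer_iff.mp hc (π r) ⟨r, hr, rfl⟩
      have h4 : (r * s) * (s * r)⁻¹ ∈ Z := by
        apply hker
        rw [map_mul, map_inv, map_mul, map_mul, h3, mul_inv_cancel]
      have h5 : (r * s) * (s * r)⁻¹ ∈ S :=
        S.mul_mem (S.mul_mem (hRS hr) hs) (S.inv_mem (S.mul_mem hs (hRS hr)))
      have h6 := hSZ _ h5 h4
      exact mul_inv_eq_one.mp h6
    · have h3 : π m ∈ (Subgroup.closure {g : G | g ∈ Subgroup.normalizer (R : Set G) ∧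
          ∃ k : ℕ, orderOf g = p ^ k}).map π := ⟨m, hm, rfl⟩
      rw [MonoidHom.map_closure] at h3
      refine Subgroup.closure_mono ?_ h3
      rintro _ ⟨g, ⟨hgN, k, hk⟩, rfl⟩
      refine ⟨Subgroup.le_normalizer_map π ⟨g, hgN, rfl⟩, ?_⟩
      have h4 : orderOf (π g) ∣ p ^ k := by
        rw [← hk]
        exact orderOf_map_dvd π g
      obtain ⟨j, -, hj⟩ := (Nat.dvd_prime_pow hp).mp h4
      exact ⟨j, hj⟩

end Cfsg.Agent.Lead.SimpCrit
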