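import Mathlib
import Cfsg.Agent.Lead.SL3TwoC
import Cfsg.Agent.Lead.SimpleCritF

set_option autoImplicit false

/-!
# The `2`-fusion system of `PSL_3(F)`, `|F|` odd, is simple
-/

namespace Cfsg.Agent.Lead.SL3Two

open Matrix Cfsg Cfsg.Agent.Lead.JW Cfsg.Agent.Lead.SimpCrit

variable {F : Type*} [Field F]

theorem mul_wh_val (x : Matrix.SpecialLinearGroup (Fin 3) F) :
    (x * wh).1 = !![x.1 0 0, -x.1 0 1, -x.1 0 2; x.1 1 0, -x.1 1 1, -x.1 1 2;
      x.1 2 0, -x.1 2 1, -x.1 2 2] := by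
  rw [Matrix.SpecialLinearGroup.coe_mul, wh_val]
  ext i j
  fin_cases i <;> fin_cases j <;> simp [Matrix.mul_apply, Fin.sum_univ_three]

section Closed

variable [Finite F] (h2 : (2 : F) ≠ 0)
  (T : Subgroup (Matrix.SpecialLinearGroup (Fin 3) F)) (hTS : T ≤ (cfg h2).S0)
  (hcl : ∀ x ∈ T, ∀ g : Matrix.SpecialLinearGroup (Fin 3) F,
    g * x * g⁻¹ ∈ (cfg h2).S0 → g * x * g⁻¹ ∈ T) (hbot : T ≠ ⊥)

include hTS hcl hbot

/-- norm one elements, in the form `x x̄ = 1` -/
theorem normOne_mem_T' {x : Matrix.SpecialLinearGroup (Fin 3) F} (hx : x ∈ (cfg h2).C2)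
    (h : x * (wh * x * wh) = 1) : x ∈ T := by
  apply normOne_mem_T h2 T hTS hcl hbot hx
  obtain ⟨x02, x12, x20, x21, x11, x01⟩ := entries_of_comm_Jh h2 x hx.1
  have h' : (x * wh) * (x * wh) = 1 := by
    rw [← h]; group
  have e := congrFun (congrFun (congrArg Subtype.val h') 0) 0
  rw [Matrix.SpecialLinearGroup.coe_mul, mul_wh_val] at e
  simp [Matrix.mul_apply, Fin.sum_univ_three, x01, x02] at e
  linear_combination e

/-- the split case -/
theorem C2_le_T_of_split (i : F) (hi : i * i = -1) : (cfg h2).C2 ≤ T := by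
  intro x hx
  obtain ⟨⟨c, d⟩, hxp⟩ := exists_dl h2 i hi x hx.1
  obtain ⟨p₀, hJ⟩ := exists_dl h2 i hi Jh (Commute.refl _)
  obtain ⟨k, hk⟩ := hx.2
  have hcd : (c, d) ^ 2 ^ k = 1 := by
    apply dl_eq_one h2 i hi
    rw [map_pow, ← hxp, hk]
  rw [Prod.pow_mk, Prod.mk_eq_one] at hcd
  obtain ⟨hc, hd⟩ := hcd
  have hC2 : ∀ p : Fˣ × Fˣ, p ^ 2 ^ k = 1 → dl h2 i hi p ∈ (cfg h2).C2 := by
    intro p hp
    refine ⟨?_, k, ?_⟩
    · rw [hJ]; exact dl_comm h2 i hi _ _
    · rw [← map_pow, hp, map_one]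
  have key1 : ∀ e : Fˣ, e ^ 2 ^ k = 1 → dl h2 i hi (e, e⁻¹) ∈ T := by
    intro e he
    apply normOne_mem_T' h2 T hTS hcl hbot
    · apply hC2
      rw [Prod.pow_mk, inv_pow, he, inv_one]
      rfl
    · rw [wh_dl, ← map_mul, Prod.mk_mul_mk, mul_inv_cancel, inv_mul_cancel]
      exact map_one _
  have key2 : ∀ e : Fˣ, e ^ 2 ^ k = 1 → dl h2 i hi (1, e) ∈ T := by
    intro e he
    have h1 := key1 e he
    have h3 := sig_dl h2 i hi e e⁻¹
    rw [mul_inv_cancel, inv_one] at h3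
    apply conj_mem_T h2 T hcl h1 h3
    apply (cfg h2).C2_le_S0
    apply hC2
    rw [Prod.pow_mk, one_pow, he]
    rfl
  rw [hxp]
  have e1 : ((c, d) : Fˣ × Fˣ) = (c, c⁻¹) * (1, c * d) := by
    rw [Prod.mk_mul_mk, mul_one, inv_mul_cancel_left]
  rw [e1, map_mul]
  exact T.mul_mem (key1 c hc) (key2 (c * d) (by rw [mul_pow, hc, hd, one_mul]))

omit hbot in
/-- strongly closed subgroups of `S0` are trivial -/
theorem closed_trivial : T = ⊥ ∨ T = (cfg h2).S0 := by
  by_cases hbot : T = ⊥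
  · exact Or.inl hbot
  right
  apply le_antisymm hTS
  have hC : (cfg h2).C2 ≤ T := by
    by_cases hsq : ∃ i : F, i * i = -1
    · obtain ⟨i, hi⟩ := hsq
      exact C2_le_T_of_split h2 T hTS hcl hbot i hi
    · apply C2_le_T_of_nonsquare h2 T hTS hcl hbot
      intro r hr
      exact hsq ⟨r, hr⟩
  intro x hx
  rcases hx with hx | hx
  · exact hC hx
  · have e : x = (x * wh) * wh := by rw [mul_assoc, wh_mul_wh, mul_one]
    rw [e]
    exact T.mul_mem (hC hx) (wh_mem_T h2 T hTS hcl hbot)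

end Closed

/-- the simplicity criterion for `S0` in `SL_3(F)` -/
theorem critC_S0 [Finite F] (h2 : (2 : F) ≠ 0) : CritC 2 (cfg h2).S0 := by
  haveI : Fact (Nat.Prime 2) := ⟨Nat.prime_two⟩
  apply critC_of_normalizer_le (cfg h2).isPGroup_S0
  · intro T hTS hcl
    exact closed_trivial h2 T hTS hcl
  · exact (cfg h2).normalizer_le (exists_y h2)

theorem wh_ne_one (h2 : (2 : F) ≠ 0) : (wh : Matrix.SpecialLinearGroup (Fin 3) F) ≠ 1 := by
  intro h
  have e := congrFun (congrFun (congrArg Subtype.val h) 1) 1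
  rw [wh_val] at e
  have e' : (-1 : F) = 1 := by simpa using e
  apply h2
  linear_combination -e'

/-- central elements of `2`-power order in `SL_3(F)` are trivial -/
theorem center_two_element (z : Matrix.SpecialLinearGroup (Fin 3) F)
    (hz : z ∈ Subgroup.center (Matrix.SpecialLinearGroup (Fin 3) F)) (k : ℕ)
    (hk : z ^ 2 ^ k = 1) : z = 1 := by
  obtain ⟨r, hr, hrz⟩ := Matrix.SpecialLinearGroup.mem_center_iff.mp hz
  rw [Fintype.card_fin] at hr
  have hzk : (z.1 0 0) ^ 2 ^ k = 1 := by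
    have h1 : (z ^ 2 ^ k).1 = z.1 ^ 2 ^ k := rfl
    have h2 : (z ^ 2 ^ k).1 0 0 = 1 := by rw [hk]; simp
    rw [h1, ← hrz] at h2
    rw [← hrz]
    simp only [Matrix.scalar_apply, Matrix.diagonal_pow, Matrix.diagonal_apply_eq] at h2 ⊢
    exact h2
  have hr00 : z.1 0 0 = r := by
    rw [← hrz]; simp
  rw [hr00] at hzk
  have hcop : Nat.gcd 3 (2 ^ k) = 1 := by
    apply Nat.Coprime.pow_right
    decide
  have h1 : r ^ Nat.gcd 3 (2 ^ k) = 1 := pow_gcd_eq_one.mpr ⟨hr, hzk⟩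
  rw [hcop, pow_one] at h1
  apply Subtype.ext
  rw [← hrz, h1]
  simp

/-- the `2`-fusion system of `PSL_3(F)`, `|F|` odd, is simple -/
theorem main [Fintype F] (hodd : Fintype.card F % 2 = 1)
    (S : Sylow 2 (Matrix.ProjectiveSpecialLinearGroup (Fin 3) F)) :
    (groupFusionSystem (S : Subgroup (Matrix.ProjectiveSpecialLinearGroup (Fin 3) F))).IsSimple
      2 := by
  haveI : Fact (Nat.Prime 2) := ⟨Nat.prime_two⟩
  have h2 : (2 : F) ≠ 0 := by
    intro h
    have hchar : ringChar F = 2 := by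
      have hdvd : ringChar F ∣ 2 := by
        apply ringChar.dvd
        exact_mod_cast h
      rcases (Nat.dvd_prime Nat.prime_two).mp hdvd with h1 | h1
      · exact absurd h1 CharP.ringChar_ne_one
      · exact h1
    have := FiniteField.even_card_of_char_two hchar
    omega
  obtain ⟨P₀, hP₀⟩ := (cfg h2).exists_sylow (exists_y h2)
  have hsurj : Function.Surjective
      (QuotientGroup.mk' (Subgroup.center (Matrix.SpecialLinearGroup (Fin 3) F))) :=
    QuotientGroup.mk'_surjective _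
  apply critC_all 2 (P₀.mapSurjective hsurj) _ _ S
  · rw [Sylow.coe_mapSurjective, hP₀]
    intro hbot
    have h1 : QuotientGroup.mk' (Subgroup.center (Matrix.SpecialLinearGroup (Fin 3) F)) wh ∈
        (cfg h2).S0.map (QuotientGroup.mk' (Subgroup.center (Matrix.SpecialLinearGroup (Fin 3) F))) :=
      ⟨_, (cfg h2).w_mem_S0, rfl⟩
    rw [hbot, Subgroup.mem_bot, QuotientGroup.mk'_apply, QuotientGroup.eq_one_iff] at h1
    exact wh_ne_one h2 (center_two_element wh h1 1 (by rw [pow_one, pow_two]; exact wh_mul_wh))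
  · rw [Sylow.coe_mapSurjective, hP₀]
    exact critC_quotient (cfg h2).isPGroup_S0 (critC_S0 h2) _ le_rfl
      (fun z hz k hk => center_two_element z hz k hk)

end Cfsg.Agent.Lead.SL3Two
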