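import Mathlib
import Cfsg.Prelude.Def_GeometricClasses

set_option autoImplicit false

/-! # Decomposition stabilisers in `SL_n(F)`, part A: the weight of a vector -/

namespace Cfsg.Agent.Lead.SLDecomp

open Matrix Cfsg Cfsg.Geo

variable {F : Type*} [Field F] {n t : ℕ}

/-- the sum of the members other than the `i`-th -/
def EE (D : Fin t → Submodule F (Fin n → F)) (i : Fin t) : Submodule F (Fin n → F) :=
  ⨆ j, ⨆ (_ : j ≠ i), D j

theorem le_EE (D : Fin t → Submodule F (Fin n → F)) {i j : Fin t} (h : j ≠ i) : D j ≤ EE D i :=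
  le_iSup₂_of_le j h le_rfl

theorem mem_EE_sum {D : Fin t → Submodule F (Fin n → F)} (hind : iSupIndep D)
    (c : Fin t → (Fin n → F)) (hc : ∀ j, c j ∈ D j) (i : Fin t) :
    (∑ j, c j) ∈ EE D i ↔ c i = 0 := by
  classical
  have h1 : ∑ j ∈ Finset.univ.erase i, c j ∈ EE D i :=
    Submodule.sum_mem _ (fun j hj => le_EE D (Finset.ne_of_mem_erase hj) (hc j))
  have h2 : ∑ j, c j = c i + ∑ j ∈ Finset.univ.erase i, c j :=
    (Finset.add_sum_erase _ _ (Finset.mem_univ i)).symm
  constructor
  · intro h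
    rw [h2] at h
    have h3 : c i ∈ EE D i := by
      have := Submodule.sub_mem _ h h1
      rwa [add_sub_cancel_right] at this
    exact (Submodule.disjoint_def.1 (hind i)) (c i) (hc i) h3
  · intro h
    rw [h2, h, zero_add]
    exact h1

/-- the support of a vector: the members in which it has a non-zero component -/
noncomputable def supp (D : Fin t → Submodule F (Fin n → F)) (x : Fin n → F) : Finset (Fin t) := by
  classical
  exact Finset.univ.filter (fun i => x ∉ EE D i)

theorem mem_supp (D : Fin t → Submodule F (Fin n → F)) (x : Fin n → F) (i : Fin t) :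
    i ∈ supp D x ↔ x ∉ EE D i := by
  unfold supp
  simp

/-- the weight of a vector, as an element of the field -/
noncomputable def wtF (D : Fin t → Submodule F (Fin n → F)) (x : Fin n → F) : F :=
  ((supp D x).card : F)

theorem supp_sum {D : Fin t → Submodule F (Fin n → F)} (hind : iSupIndep D)
    (c : Fin t → (Fin n → F)) (hc : ∀ j, c j ∈ D j) [DecidablePred fun i => c i ≠ 0] :
    supp D (∑ j, c j) = Finset.univ.filter (fun i => c i ≠ 0) := by
  ext i
  rw [mem_supp, mem_EE_sum hind c hc, Finset.mem_filter]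
  simp

theorem exists_components {D : Fin t → Submodule F (Fin n → F)} (htop : iSup D = ⊤)
    (x : Fin n → F) : ∃ c : Fin t → (Fin n → F), (∀ i, c i ∈ D i) ∧ ∑ i, c i = x := by
  have hx : x ∈ iSup D := by rw [htop]; trivial
  obtain ⟨f, hf, hsum⟩ := (Submodule.mem_iSup_iff_exists_finsupp D x).1 hx
  refine ⟨fun i => f i, hf, ?_⟩
  rw [← hsum, Finsupp.sum_fintype]
  intro i; rfl

theorem supp_of_mem {D : Fin t → Submodule F (Fin n → F)} (hind : iSupIndep D) (j : Fin t)
    (y : Fin n → F) (hy : y ∈ D j) : supp D y ⊆ {j} := by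
  intro i hi
  rw [mem_supp] at hi
  rw [Finset.mem_singleton]
  by_contra hij
  exact hi (le_EE D (Ne.symm hij) hy)

theorem mulVec_injective (g : Matrix.GeneralLinearGroup (Fin n) F) :
    Function.Injective (fun x => (g : Matrix (Fin n) (Fin n) F) *ᵥ x) := by
  intro x y hxy
  have := congrArg (fun z => ((g⁻¹ : Matrix.GeneralLinearGroup (Fin n) F) :
    Matrix (Fin n) (Fin n) F) *ᵥ z) hxy
  simp only [mulVec_mulVec, ← Units.val_mul, inv_mul_cancel, Units.val_one, one_mulVec] at this
  exact this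

theorem map_EE {D : Fin t → Submodule F (Fin n → F)} (g : Matrix.GeneralLinearGroup (Fin n) F)
    (σ : Equiv.Perm (Fin t))
    (hσ : ∀ i, (D i).map (Matrix.toLin' (g : Matrix (Fin n) (Fin n) F)) = D (σ i)) (i : Fin t) :
    (EE D i).map (Matrix.toLin' (g : Matrix (Fin n) (Fin n) F)) = EE D (σ i) := by
  unfold EE
  rw [Submodule.map_iSup]
  simp only [Submodule.map_iSup, hσ]
  apply le_antisymm
  · apply iSup₂_le
    intro j hj
    exact le_iSup₂_of_le (σ j) (fun h => hj (σ.injective h)) le_rfl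
  · apply iSup₂_le
    intro j hj
    refine le_iSup₂_of_le (σ.symm j) (fun h => hj ?_) ?_
    · rw [← h, Equiv.apply_symm_apply]
    · rw [Equiv.apply_symm_apply]

/-- the decomposition stabiliser preserves the weight -/
theorem wtF_stab {D : Fin t → Submodule F (Fin n → F)} (g : Matrix.GeneralLinearGroup (Fin n) F)
    (hg : g ∈ decompositionStabilizer D) (x : Fin n → F) :
    wtF D ((g : Matrix (Fin n) (Fin n) F) *ᵥ x) = wtF D x := by
  obtain ⟨σ, hσ⟩ := hg
  unfold wtF
  congr 1
  have : supp D ((g : Matrix (Fin n) (Fin n) F) *ᵥ x) = (supp D x).map σ.toEmbedding := by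
    ext i
    rw [Finset.mem_map_equiv, mem_supp, mem_supp]
    have h1 := map_EE g σ hσ (σ.symm i)
    rw [Equiv.apply_symm_apply] at h1
    rw [← h1]
    constructor
    · intro h hx
      exact h ⟨x, hx, Matrix.toLin'_apply _ _⟩
    · rintro h ⟨y, hy, hyx⟩
      rw [Matrix.toLin'_apply] at hyx
      have := mulVec_injective g hyx
      rw [← this] at h
      exact h hy
  rw [this, Finset.card_map]

/-- the subgroup of `SL_n` preserving the weight modulo the characteristic -/
def KK (D : Fin t → Submodule F (Fin n → F)) : Subgroup (Matrix.GeneralLinearGroup (Fin n) F) where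
  carrier := {g | g ∈ specialLinear (Fin n) F ∧
    ∀ v, wtF D ((g : Matrix (Fin n) (Fin n) F) *ᵥ v) = wtF D v}
  mul_mem' := by
    rintro a b ⟨ha, ha'⟩ ⟨hb, hb'⟩
    refine ⟨mul_mem ha hb, fun v => ?_⟩
    rw [Units.val_mul, ← mulVec_mulVec, ha', hb']
  one_mem' := ⟨one_mem _, fun v => by simp⟩
  inv_mem' := by
    rintro a ⟨ha, ha'⟩
    refine ⟨inv_mem ha, fun v => ?_⟩
    have := ha' (((a⁻¹ : Matrix.GeneralLinearGroup (Fin n) F) :
      Matrix (Fin n) (Fin n) F) *ᵥ v)
    rw [mulVec_mulVec, ← Units.val_mul, mul_inv_cancel, Units.val_one, one_mulVec] at this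
    exact this.symm

theorem mem_KK {D : Fin t → Submodule F (Fin n → F)} (g : Matrix.GeneralLinearGroup (Fin n) F) :
    g ∈ KK D ↔ g ∈ specialLinear (Fin n) F ∧
      ∀ v, wtF D ((g : Matrix (Fin n) (Fin n) F) *ᵥ v) = wtF D v := Iff.rfl

theorem stab_le (D : Fin t → Submodule F (Fin n → F)) :
    decompositionStabilizer D ⊓ specialLinear (Fin n) F ≤ KK D := by
  rintro g ⟨hg1, hg2⟩
  exact ⟨hg2, fun v => wtF_stab g hg1 v⟩

theorem KK_le (D : Fin t → Submodule F (Fin n → F)) : KK D ≤ specialLinear (Fin n) F :=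
  fun _ hg => hg.1

/-- the general linear element attached to a transvection-like map `x ↦ x + φ x • u` -/
noncomputable def tvGL (φ : Module.Dual F (Fin n → F)) (u : Fin n → F) (h : 1 + φ u ≠ 0) :
    Matrix.GeneralLinearGroup (Fin n) F :=
  Matrix.GeneralLinearGroup.mkOfDetNeZero (LinearMap.toMatrix' (LinearMap.transvection φ u))
    (by rw [LinearMap.det_toMatrix', LinearMap.transvection.det]; exact h)

theorem tvGL_coe (φ : Module.Dual F (Fin n → F)) (u : Fin n → F) (h : 1 + φ u ≠ 0) :
    ((tvGL φ u h : Matrix.GeneralLinearGroup (Fin n) F) : Matrix (Fin n) (Fin n) F) =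
      LinearMap.toMatrix' (LinearMap.transvection φ u) := rfl

theorem tvGL_mulVec (φ : Module.Dual F (Fin n → F)) (u : Fin n → F) (h : 1 + φ u ≠ 0)
    (x : Fin n → F) :
    ((tvGL φ u h : Matrix.GeneralLinearGroup (Fin n) F) : Matrix (Fin n) (Fin n) F) *ᵥ x =
      x + φ x • u := by
  rw [tvGL_coe, LinearMap.toMatrix'_mulVec, LinearMap.transvection.apply]

theorem tvGL_det (φ : Module.Dual F (Fin n → F)) (u : Fin n → F) (h : 1 + φ u ≠ 0) :
    ((tvGL φ u h : Matrix.GeneralLinearGroup (Fin n) F) : Matrix (Fin n) (Fin n) F).det =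
      1 + φ u := by
  rw [tvGL_coe, LinearMap.det_toMatrix', LinearMap.transvection.det]

theorem mem_specialLinear_iff (g : Matrix.GeneralLinearGroup (Fin n) F) :
    g ∈ specialLinear (Fin n) F ↔ (g : Matrix (Fin n) (Fin n) F).det = 1 := by
  unfold specialLinear
  rw [MonoidHom.mem_ker, Units.ext_iff]
  rfl

end Cfsg.Agent.Lead.SLDecomp
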