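import Mathlib
import Cfsg.Agent.Lead.SLDecompA

set_option autoImplicit false

/-! # Decomposition stabilisers in `SL_n(F)`, part B: coordinates -/

namespace Cfsg.Agent.Lead.SLDecomp

open Matrix Cfsg Cfsg.Geo

variable {F : Type*} [Field F] {n t m : ℕ} {D : Fin t → Submodule F (Fin n → F)}

theorem isInternal (hD : IsMDecomposition m D) : DirectSum.IsInternal D :=
  DirectSum.isInternal_submodule_of_iSupIndep_of_iSup_eq_top hD.indep hD.iSup_eq_top

/-- the collected basis of an `m`-decomposition -/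
noncomputable def cb (hD : IsMDecomposition m D) :
    Module.Basis (Σ _ : Fin t, Fin m) F (Fin n → F) :=
  (isInternal hD).collectedBasis
    (fun i => Module.finBasisOfFinrankEq F (D i) (hD.finrank_eq i))

theorem cb_mem (hD : IsMDecomposition m D) (p : Σ _ : Fin t, Fin m) : cb hD p ∈ D p.1 :=
  (isInternal hD).collectedBasis_mem _ p

theorem cb_repr_of_mem_ne (hD : IsMDecomposition m D) {x : Fin n → F} {i j : Fin t} (hij : i ≠ j)
    (k : Fin m) (hx : x ∈ D i) : (cb hD).repr x ⟨j, k⟩ = 0 :=
  (isInternal hD).collectedBasis_repr_of_mem_ne _ hij hx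

/-- the support in coordinates -/
theorem mem_supp_iff (hD : IsMDecomposition m D) (x : Fin n → F) (i : Fin t) :
    i ∈ supp D x ↔ ∃ k, (cb hD).repr x ⟨i, k⟩ ≠ 0 := by
  classical
  obtain ⟨c, hc, rfl⟩ := exists_components hD.iSup_eq_top x
  rw [supp_sum hD.indep c hc, Finset.mem_filter]
  simp only [Finset.mem_univ, true_and]
  have h1 : ∀ k, (cb hD).repr (∑ j, c j) ⟨i, k⟩ = (cb hD).repr (c i) ⟨i, k⟩ := by
    intro k
    rw [map_sum, Finsupp.finset_sum_apply, Finset.sum_eq_single i]
    · intro j _ hj; exact cb_repr_of_mem_ne hD hj k (hc j)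
    · intro h; exact absurd (Finset.mem_univ i) h
  constructor
  · intro hne
    by_contra hall
    push Not at hall
    apply hne
    apply (cb hD).repr.injective
    rw [map_zero]
    ext ⟨j, k⟩
    by_cases hij : i = j
    · subst hij; rw [← h1 k, hall k]; rfl
    · rw [cb_repr_of_mem_ne hD hij k (hc i)]; rfl
  · rintro ⟨k, hk⟩ h0
    rw [h1 k, h0, map_zero] at hk
    exact hk rfl

theorem wtF_eq (hD : IsMDecomposition m D) (x : Fin n → F)
    [DecidablePred fun i : Fin t => ∃ k, (cb hD).repr x ⟨i, k⟩ ≠ 0] :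
    wtF D x = ∑ i : Fin t, if (∃ k, (cb hD).repr x ⟨i, k⟩ ≠ 0) then (1 : F) else 0 := by
  classical
  unfold wtF
  have : supp D x = Finset.univ.filter (fun i : Fin t => ∃ k, (cb hD).repr x ⟨i, k⟩ ≠ 0) := by
    ext i
    rw [mem_supp_iff hD, Finset.mem_filter]
    simp
  rw [this, Finset.card_filter, Nat.cast_sum]
  apply Finset.sum_congr rfl
  intro i _
  split_ifs <;> simp

/-- a sum of coordinate functionals -/
noncomputable def phiS (hD : IsMDecomposition m D) (S : Finset (Σ _ : Fin t, Fin m)) :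
    Module.Dual F (Fin n → F) := ∑ p ∈ S, (cb hD).coord p

/-- a sum of basis vectors -/
noncomputable def uS (hD : IsMDecomposition m D) (S : Finset (Σ _ : Fin t, Fin m)) :
    Fin n → F := ∑ p ∈ S, cb hD p

theorem phiS_apply (hD : IsMDecomposition m D) (S : Finset (Σ _ : Fin t, Fin m)) (x : Fin n → F) :
    phiS hD S x = ∑ p ∈ S, (cb hD).repr x p := by
  unfold phiS
  rw [LinearMap.sum_apply]
  rfl

theorem repr_uS (hD : IsMDecomposition m D) (S : Finset (Σ _ : Fin t, Fin m))
    (p : Σ _ : Fin t, Fin m) : (cb hD).repr (uS hD S) p = if p ∈ S then 1 else 0 := by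
  classical
  unfold uS
  rw [map_sum, Finsupp.finset_sum_apply]
  simp only [Module.Basis.repr_self, Finsupp.single_apply]
  rw [Finset.sum_ite_eq' S p]

theorem phiS_uS (hD : IsMDecomposition m D) (S S' : Finset (Σ _ : Fin t, Fin m)) :
    phiS hD S (uS hD S') = ((S ∩ S').card : F) := by
  rw [phiS_apply]
  simp only [repr_uS]
  rw [Finset.sum_boole, Finset.filter_mem_eq_inter]

theorem repr_tv (hD : IsMDecomposition m D) (S S' : Finset (Σ _ : Fin t, Fin m)) (x : Fin n → F)
    (p : Σ _ : Fin t, Fin m) :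
    (cb hD).repr (x + phiS hD S x • uS hD S') p =
      (cb hD).repr x p + (if p ∈ S' then phiS hD S x else 0) := by
  rw [map_add, map_smul, Finsupp.add_apply, Finsupp.smul_apply, repr_uS, smul_eq_mul]
  split_ifs <;> simp

end Cfsg.Agent.Lead.SLDecomp
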