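import Mathlib
import Cfsg.Agent.Lead.SLDecompB

set_option autoImplicit false

/-! # Decomposition stabilisers in `SL_n(F)`, part C: decompositions into lines -/

namespace Cfsg.Agent.Lead.SLDecomp

open Matrix Cfsg Cfsg.Geo

variable {F : Type*} [Field F] [Fintype F] {n t : ℕ} {D : Fin t → Submodule F (Fin n → F)}

/-- the coordinate of a vector along the `i`-th line -/
noncomputable def xi (hD : IsMDecomposition 1 D) (x : Fin n → F) (i : Fin t) : F :=
  (cb hD).repr x ⟨i, 0⟩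

theorem ind_eq_pow (a : F) [Decidable (a ≠ 0)] :
    (if a ≠ 0 then (1 : F) else 0) = a ^ (Fintype.card F - 1) := by
  by_cases h : a = 0
  · rw [if_neg (not_not.2 h), h, zero_pow]
    have := Fintype.one_lt_card (α := F)
    omega
  · rw [if_pos h, FiniteField.pow_card_sub_one_eq_one a h]

theorem wtF_m1 (hD : IsMDecomposition 1 D) (x : Fin n → F) :
    wtF D x = ∑ i, (xi hD x i) ^ (Fintype.card F - 1) := by
  classical
  rw [wtF_eq hD]
  apply Finset.sum_congr rfl
  intro i _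
  rw [← ind_eq_pow]
  have : (∃ k, (cb hD).repr x ⟨i, k⟩ ≠ 0) ↔ xi hD x i ≠ 0 := by
    unfold xi
    constructor
    · rintro ⟨k, hk⟩
      have : k = 0 := Subsingleton.elim _ _
      rw [this] at hk; exact hk
    · intro h; exact ⟨0, h⟩
  by_cases h : xi hD x i ≠ 0
  · rw [if_pos h, if_pos (this.2 h)]
  · rw [if_neg h, if_neg (fun h' => h (this.1 h'))]

/-- the index pairs attached to a set of lines -/
def SI (I : Finset (Fin t)) : Finset (Σ _ : Fin t, Fin 1) :=
  I.map ⟨fun i => ⟨i, 0⟩, fun i j h => by simpa using h⟩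

theorem mem_SI (I : Finset (Fin t)) (p : Σ _ : Fin t, Fin 1) : p ∈ SI I ↔ p.1 ∈ I := by
  unfold SI
  rw [Finset.mem_map]
  constructor
  · rintro ⟨i, hi, rfl⟩; exact hi
  · intro h
    refine ⟨p.1, h, ?_⟩
    obtain ⟨i, k⟩ := p
    have : k = 0 := Subsingleton.elim _ _
    subst this; rfl

theorem card_SI (I : Finset (Fin t)) : (SI I).card = I.card := by
  unfold SI; rw [Finset.card_map]

/-- the sum of the coordinates along `I` -/
noncomputable def cI (hD : IsMDecomposition 1 D) (I : Finset (Fin t)) (x : Fin n → F) : F :=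
  ∑ i ∈ I, xi hD x i

theorem phiS_SI (hD : IsMDecomposition 1 D) (I : Finset (Fin t)) (x : Fin n → F) :
    phiS hD (SI I) x = cI hD I x := by
  rw [phiS_apply]
  unfold SI cI xi
  rw [Finset.sum_map]
  rfl

theorem phiS_uS_SI (hD : IsMDecomposition 1 D) (I : Finset (Fin t)) :
    phiS hD (SI I) (uS hD (SI I)) = (I.card : F) := by
  rw [phiS_uS, Finset.inter_self, card_SI]

theorem xi_tv (hD : IsMDecomposition 1 D) (I : Finset (Fin t)) (x : Fin n → F) (j : Fin t) :
    xi hD (x + phiS hD (SI I) x • uS hD (SI I)) j =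
      xi hD x j + (if j ∈ I then cI hD I x else 0) := by
  classical
  unfold xi
  rw [repr_tv, phiS_SI]
  by_cases h : j ∈ I
  · rw [if_pos h, if_pos ((mem_SI I _).2 h)]
  · rw [if_neg h, if_neg (fun h' => h ((mem_SI I _).1 h'))]

theorem sum_split (f : F → F) (ξ : Fin t → F) (I : Finset (Fin t)) (c : F) :
    ∑ j, f (ξ j + (if j ∈ I then c else 0)) =
      ∑ j, f (ξ j) + ∑ j ∈ I, (f (ξ j + c) - f (ξ j)) := by
  classical
  have h1 : ∀ j, f (ξ j + (if j ∈ I then c else 0)) =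
      f (ξ j) + (if j ∈ I then (f (ξ j + c) - f (ξ j)) else 0) := by
    intro j
    by_cases h : j ∈ I
    · rw [if_pos h, if_pos h]; ring
    · rw [if_neg h, if_neg h, add_zero, add_zero]
  simp only [h1]
  rw [Finset.sum_add_distrib, Finset.sum_ite_mem, Finset.univ_inter]

theorem wtF_tv (hD : IsMDecomposition 1 D) (I : Finset (Fin t)) (x : Fin n → F) :
    wtF D (x + phiS hD (SI I) x • uS hD (SI I)) = wtF D x +
      ∑ j ∈ I, ((xi hD x j + cI hD I x) ^ (Fintype.card F - 1) -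
        (xi hD x j) ^ (Fintype.card F - 1)) := by
  rw [wtF_m1 hD, wtF_m1 hD]
  simp only [xi_tv]
  exact sum_split (fun a => a ^ (Fintype.card F - 1)) (xi hD x) I (cI hD I x)

theorem two_eq_zero_of_card (h : Fintype.card F = 2 ∨ Fintype.card F = 4) : (2 : F) = 0 := by
  have h0 := FiniteField.cast_card_eq_zero F
  rcases h with h | h
  · rw [h] at h0; exact_mod_cast h0
  · rw [h] at h0
    have h4 : (2 : F) ^ 2 = 0 := by
      have : ((4 : ℕ) : F) = 4 := by norm_num
      rw [this] at h0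
      linear_combination h0
    exact pow_eq_zero_iff (two_ne_zero) |>.1 h4

theorem three_eq_zero_of_card (h : Fintype.card F = 3) : (3 : F) = 0 := by
  have h0 := FiniteField.cast_card_eq_zero F
  rw [h] at h0; exact_mod_cast h0

theorem sum_sq_char2 (h2 : (2 : F) = 0) (ξ : Fin t → F) (I : Finset (Fin t)) :
    ∑ j ∈ I, (ξ j) ^ 2 = (∑ j ∈ I, ξ j) ^ 2 := by
  classical
  induction I using Finset.induction_on with
  | empty => simp
  | insert a s ha ih =>
    rw [Finset.sum_insert ha, Finset.sum_insert ha, ih]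
    linear_combination (-(ξ a) * ∑ j ∈ s, ξ j) * h2

/-- the weight change vanishes: field with two elements -/
theorem poly2 (hq : Fintype.card F = 2) (ξ : Fin t → F) (I : Finset (Fin t))
    (hI : (I.card : F) = 0) :
    ∑ j ∈ I, ((ξ j + ∑ i ∈ I, ξ i) ^ (Fintype.card F - 1) - (ξ j) ^ (Fintype.card F - 1)) = 0 := by
  rw [hq]
  simp only [Nat.add_one_sub_one, pow_one, add_sub_cancel_left]
  rw [Finset.sum_const, nsmul_eq_mul, hI, zero_mul]

/-- the weight change vanishes: field with three elements -/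
theorem poly3 (hq : Fintype.card F = 3) (ξ : Fin t → F) (I : Finset (Fin t))
    (hI : (I.card : F) = 1) :
    ∑ j ∈ I, ((ξ j + ∑ i ∈ I, ξ i) ^ (Fintype.card F - 1) - (ξ j) ^ (Fintype.card F - 1)) = 0 := by
  rw [hq]
  have h3 := three_eq_zero_of_card hq
  have h1 : ∀ j, (ξ j + ∑ i ∈ I, ξ i) ^ (3 - 1) - (ξ j) ^ (3 - 1) =
      2 * (∑ i ∈ I, ξ i) * ξ j + (∑ i ∈ I, ξ i) ^ 2 := by
    intro j; ring
  simp only [h1]
  rw [Finset.sum_add_distrib, ← Finset.mul_sum, Finset.sum_const, nsmul_eq_mul, hI]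
  linear_combination ((∑ i ∈ I, ξ i) ^ 2) * h3

/-- the weight change vanishes: field with four elements -/
theorem poly4 (hq : Fintype.card F = 4) (ξ : Fin t → F) (I : Finset (Fin t))
    (hI : (I.card : F) = 0) :
    ∑ j ∈ I, ((ξ j + ∑ i ∈ I, ξ i) ^ (Fintype.card F - 1) - (ξ j) ^ (Fintype.card F - 1)) = 0 := by
  rw [hq]
  have h2 := two_eq_zero_of_card (Or.inr hq)
  have h1 : ∀ j, (ξ j + ∑ i ∈ I, ξ i) ^ (4 - 1) - (ξ j) ^ (4 - 1) =
      3 * (∑ i ∈ I, ξ i) * (ξ j) ^ 2 + 3 * (∑ i ∈ I, ξ i) ^ 2 * ξ j + (∑ i ∈ I, ξ i) ^ 3 := by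
    intro j; ring
  simp only [h1]
  rw [Finset.sum_add_distrib, Finset.sum_add_distrib, ← Finset.mul_sum, ← Finset.mul_sum,
    Finset.sum_const, nsmul_eq_mul, hI, sum_sq_char2 h2]
  linear_combination (3 * (∑ i ∈ I, ξ i) ^ 3) * h2

end Cfsg.Agent.Lead.SLDecomp
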