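import Mathlib
import Cfsg.Agent.Lead.SLDecompC

set_option autoImplicit false

/-! # Decomposition stabilisers in `SL_n(F)`, part D: the elements for decompositions into lines -/

namespace Cfsg.Agent.Lead.SLDecomp

open Matrix Cfsg Cfsg.Geo

section general

variable {F : Type*} [Field F] {n t m : ℕ} {D : Fin t → Submodule F (Fin n → F)}

/-- an element sending a vector of a member to a vector with at least two non-zero components
is not in the decomposition stabiliser -/
theorem not_stab (hD : IsMDecomposition m D) (g : Matrix.GeneralLinearGroup (Fin n) F) (i0 : Fin t)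
    (y : Fin n → F) (hy : y ∈ D i0) (J : Finset (Fin t)) (hJ : 2 ≤ J.card)
    (hne : ∀ j ∈ J, ∃ k, (cb hD).repr ((g : Matrix (Fin n) (Fin n) F) *ᵥ y) ⟨j, k⟩ ≠ 0) :
    g ∉ decompositionStabilizer D := by
  rintro ⟨σ, hσ⟩
  have hgy : (g : Matrix (Fin n) (Fin n) F) *ᵥ y ∈ D (σ i0) := by
    rw [← hσ i0]
    exact ⟨y, hy, Matrix.toLin'_apply _ _⟩
  have h1 := supp_of_mem hD.indep (σ i0) _ hgy
  have h2 : J ⊆ supp D ((g : Matrix (Fin n) (Fin n) F) *ᵥ y) := by
    intro j hj
    rw [mem_supp_iff hD]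
    exact hne j hj
  have h3 := Finset.card_le_card (h2.trans h1)
  rw [Finset.card_singleton] at h3
  omega

end general

variable {F : Type*} [Field F] [Fintype F] {n t : ℕ} {D : Fin t → Submodule F (Fin n → F)}

/-- the element attached to a set of lines -/
noncomputable def gI (hD : IsMDecomposition 1 D) (I : Finset (Fin t))
    (h : (1 : F) + (I.card : F) ≠ 0) : Matrix.GeneralLinearGroup (Fin n) F :=
  tvGL (phiS hD (SI I)) (uS hD (SI I)) (by rw [phiS_uS_SI]; exact h)

theorem gI_mulVec (hD : IsMDecomposition 1 D) (I : Finset (Fin t))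
    (h : (1 : F) + (I.card : F) ≠ 0) (x : Fin n → F) :
    ((gI hD I h : Matrix.GeneralLinearGroup (Fin n) F) : Matrix (Fin n) (Fin n) F) *ᵥ x =
      x + phiS hD (SI I) x • uS hD (SI I) := tvGL_mulVec _ _ _ x

theorem gI_det (hD : IsMDecomposition 1 D) (I : Finset (Fin t))
    (h : (1 : F) + (I.card : F) ≠ 0) :
    ((gI hD I h : Matrix.GeneralLinearGroup (Fin n) F) : Matrix (Fin n) (Fin n) F).det =
      1 + (I.card : F) := by
  unfold gI
  rw [tvGL_det, phiS_uS_SI]

theorem gI_wtF (hD : IsMDecomposition 1 D) (I : Finset (Fin t))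
    (h : (1 : F) + (I.card : F) ≠ 0)
    (hpoly : ∀ ξ : Fin t → F, ∑ j ∈ I, ((ξ j + ∑ i ∈ I, ξ i) ^ (Fintype.card F - 1) -
      (ξ j) ^ (Fintype.card F - 1)) = 0) (x : Fin n → F) :
    wtF D (((gI hD I h : Matrix.GeneralLinearGroup (Fin n) F) :
      Matrix (Fin n) (Fin n) F) *ᵥ x) = wtF D x := by
  rw [gI_mulVec, wtF_tv]
  unfold cI
  rw [hpoly (xi hD x), add_zero]

theorem xi_cb (hD : IsMDecomposition 1 D) (i0 j : Fin t) :
    xi hD (cb hD ⟨i0, 0⟩) j = if j = i0 then 1 else 0 := by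
  classical
  unfold xi
  rw [Module.Basis.repr_self, Finsupp.single_apply]
  by_cases h : j = i0
  · subst h; rw [if_pos rfl, if_pos rfl]
  · rw [if_neg h, if_neg]
    intro h'
    apply h
    have := congrArg Sigma.fst h'
    exact this.symm

theorem cI_cb (hD : IsMDecomposition 1 D) (I : Finset (Fin t)) (i0 : Fin t) :
    cI hD I (cb hD ⟨i0, 0⟩) = if i0 ∈ I then 1 else 0 := by
  classical
  unfold cI
  simp only [xi_cb]
  rw [Finset.sum_ite_eq' I i0]

theorem gI_cb_of_notMem (hD : IsMDecomposition 1 D) (I : Finset (Fin t))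
    (h : (1 : F) + (I.card : F) ≠ 0) (i0 : Fin t) (hi : i0 ∉ I) :
    ((gI hD I h : Matrix.GeneralLinearGroup (Fin n) F) : Matrix (Fin n) (Fin n) F) *ᵥ
      (cb hD ⟨i0, 0⟩) = cb hD ⟨i0, 0⟩ := by
  rw [gI_mulVec, phiS_SI, cI_cb, if_neg hi, zero_smul, add_zero]

theorem xi_gI_cb (hD : IsMDecomposition 1 D) (I : Finset (Fin t))
    (h : (1 : F) + (I.card : F) ≠ 0) (i0 : Fin t) (hi : i0 ∈ I) (j : Fin t) (hj : j ∈ I)
    (hji : j ≠ i0) :
    xi hD (((gI hD I h : Matrix.GeneralLinearGroup (Fin n) F) : Matrix (Fin n) (Fin n) F) *ᵥ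
      (cb hD ⟨i0, 0⟩)) j = 1 := by
  rw [gI_mulVec, xi_tv, xi_cb, cI_cb, if_neg hji, if_pos hj, if_pos hi, zero_add]

theorem card_cases : Fintype.card F ≤ 4 →
    Fintype.card F = 2 ∨ Fintype.card F = 3 ∨ Fintype.card F = 4 := by
  intro h
  have := Fintype.one_lt_card (α := F)
  omega

/-- an element preserving the weight modulo the characteristic and not stabilising the
decomposition -/
theorem exists_elt_m1 (hD : IsMDecomposition 1 D) (hq : Fintype.card F ≤ 4) (ht : 5 ≤ t) :
    ∃ g ∈ KK D, g ∉ decompositionStabilizer D := by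
  classical
  obtain ⟨I, -, hI⟩ : ∃ I ⊆ (Finset.univ : Finset (Fin t)), I.card = 4 :=
    Finset.exists_subset_card_eq (by rw [Finset.card_univ, Fintype.card_fin]; omega)
  obtain ⟨i0, hi0⟩ : I.Nonempty := Finset.card_pos.1 (by omega)
  obtain ⟨i4, -, hi4⟩ : ∃ e ∈ (Finset.univ : Finset (Fin t)), e ∉ I :=
    Finset.exists_mem_notMem_of_card_lt_card
      (by rw [Finset.card_univ, Fintype.card_fin]; omega)
  have hJ : 2 ≤ (I.erase i0).card := by rw [Finset.card_erase_of_mem hi0]; omega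
  rcases card_cases hq with h2 | h3 | h4
  · -- two elements
    have h20 := two_eq_zero_of_card (Or.inl h2)
    have hc : ((I.card : ℕ) : F) = 0 := by
      rw [hI]; push_cast; linear_combination 2 * h20
    have hne : (1 : F) + (I.card : F) ≠ 0 := by rw [hc, add_zero]; exact one_ne_zero
    refine ⟨gI hD I hne, ⟨?_, ?_⟩, ?_⟩
    · rw [mem_specialLinear_iff, gI_det, hc, add_zero]
    · exact gI_wtF hD I hne (fun ξ => poly2 h2 ξ I hc)
    · apply not_stab hD _ i0 (cb hD ⟨i0, 0⟩) (cb_mem hD ⟨i0, 0⟩) (I.erase i0) hJ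
      intro j hj
      refine ⟨0, ?_⟩
      have := xi_gI_cb hD I hne i0 hi0 j (Finset.mem_of_mem_erase hj) (Finset.ne_of_mem_erase hj)
      unfold xi at this
      rw [this]; exact one_ne_zero
  · -- three elements
    have h30 := three_eq_zero_of_card h3
    have hc : ((I.card : ℕ) : F) = 1 := by
      rw [hI]; push_cast; linear_combination h30
    have hne : (1 : F) + (I.card : F) ≠ 0 := by
      rw [hc]
      intro h
      have : (1 : F) = 0 := by linear_combination h30 - h
      exact one_ne_zero this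
    have hc1 : ((({i4} : Finset (Fin t)).card : ℕ) : F) = 1 := by
      rw [Finset.card_singleton]; push_cast; rfl
    have hne1 : (1 : F) + (({i4} : Finset (Fin t)).card : F) ≠ 0 := by
      rw [hc1]
      intro h
      have : (1 : F) = 0 := by linear_combination h30 - h
      exact one_ne_zero this
    refine ⟨gI hD I hne * gI hD {i4} hne1, ⟨?_, ?_⟩, ?_⟩
    · rw [mem_specialLinear_iff, Units.val_mul, Matrix.det_mul, gI_det, gI_det, hc, hc1]
      linear_combination h30
    · intro x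
      rw [Units.val_mul, ← mulVec_mulVec, gI_wtF hD I hne (fun ξ => poly3 h3 ξ I hc),
        gI_wtF hD {i4} hne1 (fun ξ => poly3 h3 ξ {i4} hc1)]
    · apply not_stab hD _ i0 (cb hD ⟨i0, 0⟩) (cb_mem hD ⟨i0, 0⟩) (I.erase i0) hJ
      intro j hj
      refine ⟨0, ?_⟩
      have hi04 : i0 ∉ ({i4} : Finset (Fin t)) := by
        rw [Finset.mem_singleton]; rintro rfl; exact hi4 hi0
      rw [Units.val_mul, ← mulVec_mulVec, gI_cb_of_notMem hD {i4} hne1 i0 hi04]
      have := xi_gI_cb hD I hne i0 hi0 j (Finset.mem_of_mem_erase hj) (Finset.ne_of_mem_erase hj)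
      unfold xi at this
      rw [this]; exact one_ne_zero
  · -- four elements
    have h20 := two_eq_zero_of_card (Or.inr h4)
    have hc : ((I.card : ℕ) : F) = 0 := by
      rw [hI]; push_cast; linear_combination 2 * h20
    have hne : (1 : F) + (I.card : F) ≠ 0 := by rw [hc, add_zero]; exact one_ne_zero
    refine ⟨gI hD I hne, ⟨?_, ?_⟩, ?_⟩
    · rw [mem_specialLinear_iff, gI_det, hc, add_zero]
    · exact gI_wtF hD I hne (fun ξ => poly4 h4 ξ I hc)
    · apply not_stab hD _ i0 (cb hD ⟨i0, 0⟩) (cb_mem hD ⟨i0, 0⟩) (I.erase i0) hJ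
      intro j hj
      refine ⟨0, ?_⟩
      have := xi_gI_cb hD I hne i0 hi0 j (Finset.mem_of_mem_erase hj) (Finset.ne_of_mem_erase hj)
      unfold xi at this
      rw [this]; exact one_ne_zero

end Cfsg.Agent.Lead.SLDecomp
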