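import Mathlib
import Cfsg.Agent.Lead.SLDecompD

set_option autoImplicit false

/-! # Decomposition stabilisers in `SL_n(F)`, part E: planes over the field with two elements,
and the final statement -/

namespace Cfsg.Agent.Lead.SLDecomp

open Matrix Cfsg Cfsg.Geo

section general

variable {F : Type*} [Field F] {n t m : ℕ} {D : Fin t → Submodule F (Fin n → F)}

theorem dim_eq (hD : IsMDecomposition m D) : n = t * m := by
  classical
  have e := LinearEquiv.ofBijective (DirectSum.coeLinearMap D) (isInternal hD)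
  have h1 := e.finrank_eq
  rw [Module.finrank_directSum] at h1
  simp only [hD.finrank_eq, Finset.sum_const, Finset.card_univ, Fintype.card_fin,
    smul_eq_mul] at h1
  rw [Module.finrank_fintype_fun_eq_card, Fintype.card_fin] at h1
  omega

theorem supp_cb (hD : IsMDecomposition m D) (p : Σ _ : Fin t, Fin m) :
    supp D (cb hD p) = {p.1} := by
  classical
  ext i
  rw [mem_supp_iff hD, Finset.mem_singleton]
  simp only [Module.Basis.repr_self, Finsupp.single_apply]
  constructor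
  · rintro ⟨k, hk⟩
    by_contra hne
    apply hk
    rw [if_neg]
    intro h
    apply hne
    have := congrArg Sigma.fst h
    exact this.symm
  · rintro rfl
    refine ⟨p.2, ?_⟩
    rw [if_pos rfl]
    exact one_ne_zero

theorem supp_cb_add (hD : IsMDecomposition m D) (p0 p1 : Σ _ : Fin t, Fin m) (h : p0.1 ≠ p1.1) :
    supp D (cb hD p0 + cb hD p1) = {p0.1, p1.1} := by
  classical
  ext i
  rw [mem_supp_iff hD, Finset.mem_insert, Finset.mem_singleton]
  simp only [map_add, Finsupp.add_apply, Module.Basis.repr_self, Finsupp.single_apply]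
  constructor
  · rintro ⟨k, hk⟩
    by_contra hne
    push Not at hne
    apply hk
    rw [if_neg, if_neg, add_zero]
    · intro h'
      apply hne.2
      have := congrArg Sigma.fst h'
      exact this.symm
    · intro h'
      apply hne.1
      have := congrArg Sigma.fst h'
      exact this.symm
  · rintro (rfl | rfl)
    · refine ⟨p0.2, ?_⟩
      rw [if_pos rfl, if_neg, add_zero]
      · exact one_ne_zero
      · intro h'
        apply h
        have := congrArg Sigma.fst h'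
        exact this.symm
    · refine ⟨p1.2, ?_⟩
      rw [if_pos rfl, if_neg, zero_add]
      · exact one_ne_zero
      · intro h'
        apply h
        have := congrArg Sigma.fst h'
        exact this

/-- an element of `SL_n` that does not preserve the weight -/
theorem exists_not_mem_KK (hD : IsMDecomposition m D) (ht : 2 ≤ t) :
    ∃ g ∈ specialLinear (Fin n) F, g ∉ KK D := by
  classical
  have hm := hD.pos
  let p0 : Σ _ : Fin t, Fin m := ⟨⟨0, by omega⟩, ⟨0, hm⟩⟩
  let p1 : Σ _ : Fin t, Fin m := ⟨⟨1, by omega⟩, ⟨0, hm⟩⟩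
  have h01 : p0.1 ≠ p1.1 := by
    intro h
    have := congrArg Fin.val h
    simp [p0, p1] at this
  have hp : p0 ≠ p1 := fun h => h01 (congrArg Sigma.fst h)
  have hφu : phiS hD {p0} (uS hD {p1}) = 0 := by
    rw [phiS_uS]
    have : ({p0} : Finset (Σ _ : Fin t, Fin m)) ∩ {p1} = ∅ := by
      rw [Finset.singleton_inter_of_notMem]
      rw [Finset.mem_singleton]; exact hp
    rw [this, Finset.card_empty, Nat.cast_zero]
  have hne : (1 : F) + phiS hD {p0} (uS hD {p1}) ≠ 0 := by
    rw [hφu, add_zero]; exact one_ne_zero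
  refine ⟨tvGL (phiS hD {p0}) (uS hD {p1}) hne, ?_, ?_⟩
  · rw [mem_specialLinear_iff, tvGL_det, hφu, add_zero]
  · rintro ⟨_, hw⟩
    have h1 := hw (cb hD p0)
    rw [tvGL_mulVec, phiS_apply, Finset.sum_singleton, Module.Basis.repr_self,
      Finsupp.single_eq_same, one_smul] at h1
    unfold uS wtF at h1
    rw [Finset.sum_singleton, supp_cb_add hD p0 p1 h01, supp_cb hD p0, Finset.card_pair h01,
      Finset.card_singleton] at h1
    have : (1 : F) = 0 := by
      push_cast at h1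
      linear_combination h1
    exact one_ne_zero this

end general

variable {F : Type*} [Field F] [Fintype F] {n t : ℕ} {D : Fin t → Submodule F (Fin n → F)}

theorem eq_zero_or_one (hq : Fintype.card F = 2) (a : F) : a = 0 ∨ a = 1 := by
  by_cases h : a = 0
  · exact Or.inl h
  · right
    have := FiniteField.pow_card_sub_one_eq_one a h
    rw [hq] at this
    simpa using this

theorem ind_m2 (hq : Fintype.card F = 2) (a b : F) [Decidable (a ≠ 0 ∨ b ≠ 0)] :
    (if (a ≠ 0 ∨ b ≠ 0) then (1 : F) else 0) = a + b + a * b := by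
  have h2 := two_eq_zero_of_card (Or.inl hq)
  rcases eq_zero_or_one hq a with ha | ha <;> rcases eq_zero_or_one hq b with hb | hb
  · rw [if_neg (by rw [ha, hb]; simp), ha, hb]; ring
  · rw [if_pos (Or.inr (by rw [hb]; exact one_ne_zero)), ha, hb]; ring
  · rw [if_pos (Or.inl (by rw [ha]; exact one_ne_zero)), ha, hb]; ring
  · rw [if_pos (Or.inl (by rw [ha]; exact one_ne_zero)), ha, hb]
    linear_combination -h2

theorem wtF_m2 (hq : Fintype.card F = 2) (hD : IsMDecomposition 2 D) (x : Fin n → F) :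
    wtF D x = ∑ i : Fin t, ((cb hD).repr x ⟨i, 0⟩ + (cb hD).repr x ⟨i, 1⟩ +
      (cb hD).repr x ⟨i, 0⟩ * (cb hD).repr x ⟨i, 1⟩) := by
  classical
  rw [wtF_eq hD]
  apply Finset.sum_congr rfl
  intro i _
  rw [← ind_m2 hq]
  have : (∃ k, (cb hD).repr x ⟨i, k⟩ ≠ 0) ↔
      ((cb hD).repr x ⟨i, 0⟩ ≠ 0 ∨ (cb hD).repr x ⟨i, 1⟩ ≠ 0) := Fin.exists_fin_two
  by_cases h : (∃ k, (cb hD).repr x ⟨i, k⟩ ≠ 0)
  · rw [if_pos h, if_pos (this.1 h)]
  · rw [if_neg h, if_neg (fun h' => h (this.2 h'))]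

/-- the index pairs `(i, k)` for `i` in a set of planes -/
def SIk (I : Finset (Fin t)) (k : Fin 2) : Finset (Σ _ : Fin t, Fin 2) :=
  I.map ⟨fun i => ⟨i, k⟩, fun i j h => by simpa using h⟩

theorem mem_SIk (I : Finset (Fin t)) (k : Fin 2) (p : Σ _ : Fin t, Fin 2) :
    p ∈ SIk I k ↔ p.1 ∈ I ∧ p.2 = k := by
  unfold SIk
  rw [Finset.mem_map]
  constructor
  · rintro ⟨i, hi, rfl⟩; exact ⟨hi, rfl⟩
  · rintro ⟨h, rfl⟩
    exact ⟨p.1, h, rfl⟩

theorem phiS_SIk (hD : IsMDecomposition 2 D) (I : Finset (Fin t)) (k : Fin 2) (x : Fin n → F) :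
    phiS hD (SIk I k) x = ∑ i ∈ I, (cb hD).repr x ⟨i, k⟩ := by
  rw [phiS_apply]
  unfold SIk
  rw [Finset.sum_map]
  rfl

theorem phiS_uS_SIk (hD : IsMDecomposition 2 D) (I : Finset (Fin t)) :
    phiS hD (SIk I 1) (uS hD (SIk I 0)) = 0 := by
  classical
  rw [phiS_uS]
  have : SIk I 1 ∩ SIk I 0 = ∅ := by
    ext p
    rw [Finset.mem_inter, mem_SIk, mem_SIk]
    constructor
    · rintro ⟨⟨_, h1⟩, ⟨_, h0⟩⟩
      rw [h1] at h0
      exact absurd h0 (by decide)
    · intro h; exact absurd h (Finset.notMem_empty p)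
  rw [this, Finset.card_empty, Nat.cast_zero]

/-- the element attached to a set of planes -/
noncomputable def hI (hD : IsMDecomposition 2 D) (I : Finset (Fin t)) :
    Matrix.GeneralLinearGroup (Fin n) F :=
  tvGL (phiS hD (SIk I 1)) (uS hD (SIk I 0))
    (by rw [phiS_uS_SIk, add_zero]; exact one_ne_zero)

theorem hI_mulVec (hD : IsMDecomposition 2 D) (I : Finset (Fin t)) (x : Fin n → F) :
    ((hI hD I : Matrix.GeneralLinearGroup (Fin n) F) : Matrix (Fin n) (Fin n) F) *ᵥ x =
      x + phiS hD (SIk I 1) x • uS hD (SIk I 0) := tvGL_mulVec _ _ _ x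

theorem hI_det (hD : IsMDecomposition 2 D) (I : Finset (Fin t)) :
    ((hI hD I : Matrix.GeneralLinearGroup (Fin n) F) : Matrix (Fin n) (Fin n) F).det = 1 := by
  unfold hI
  rw [tvGL_det, phiS_uS_SIk, add_zero]

theorem repr_hI_zero (hD : IsMDecomposition 2 D) (I : Finset (Fin t)) (x : Fin n → F) (j : Fin t) :
    (cb hD).repr (x + phiS hD (SIk I 1) x • uS hD (SIk I 0)) ⟨j, 0⟩ =
      (cb hD).repr x ⟨j, 0⟩ + (if j ∈ I then ∑ i ∈ I, (cb hD).repr x ⟨i, 1⟩ else 0) := by
  classical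
  rw [repr_tv, phiS_SIk]
  by_cases h : j ∈ I
  · rw [if_pos h, if_pos ((mem_SIk I 0 _).2 ⟨h, rfl⟩)]
  · rw [if_neg h, if_neg (fun h' => h ((mem_SIk I 0 _).1 h').1)]

theorem repr_hI_one (hD : IsMDecomposition 2 D) (I : Finset (Fin t)) (x : Fin n → F) (j : Fin t) :
    (cb hD).repr (x + phiS hD (SIk I 1) x • uS hD (SIk I 0)) ⟨j, 1⟩ =
      (cb hD).repr x ⟨j, 1⟩ := by
  classical
  rw [repr_tv, if_neg, add_zero]
  intro h'
  have : (1 : Fin 2) = 0 := ((mem_SIk I 0 _).1 h').2
  exact absurd this (by decide)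

theorem hI_wtF (hq : Fintype.card F = 2) (hD : IsMDecomposition 2 D) (I : Finset (Fin t))
    (hc : (I.card : F) = 1) (x : Fin n → F) :
    wtF D (((hI hD I : Matrix.GeneralLinearGroup (Fin n) F) :
      Matrix (Fin n) (Fin n) F) *ᵥ x) = wtF D x := by
  classical
  have h2 := two_eq_zero_of_card (Or.inl hq)
  rw [hI_mulVec, wtF_m2 hq hD, wtF_m2 hq hD]
  simp only [repr_hI_zero, repr_hI_one]
  obtain ⟨c, hc'⟩ : ∃ c, c = ∑ i ∈ I, (cb hD).repr x ⟨i, 1⟩ := ⟨_, rfl⟩
  rw [← hc']
  have h1 : ∀ j : Fin t, ((cb hD).repr x ⟨j, 0⟩ + (if j ∈ I then c else 0)) +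
      (cb hD).repr x ⟨j, 1⟩ + ((cb hD).repr x ⟨j, 0⟩ + (if j ∈ I then c else 0)) *
      (cb hD).repr x ⟨j, 1⟩ = ((cb hD).repr x ⟨j, 0⟩ + (cb hD).repr x ⟨j, 1⟩ +
      (cb hD).repr x ⟨j, 0⟩ * (cb hD).repr x ⟨j, 1⟩) +
      (if j ∈ I then (c + c * (cb hD).repr x ⟨j, 1⟩) else 0) := by
    intro j
    by_cases h : j ∈ I
    · rw [if_pos h, if_pos h]; ring
    · rw [if_neg h, if_neg h]; ring
  simp only [h1]
  have h3 : ∑ i ∈ I, (c + c * (cb hD).repr x ⟨i, 1⟩) = c + c * c := by
    rw [Finset.sum_add_distrib, ← Finset.mul_sum, ← hc', Finset.sum_const, nsmul_eq_mul, hc,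
      one_mul]
  rw [Finset.sum_add_distrib, Finset.sum_ite_mem, Finset.univ_inter, h3]
  rcases eq_zero_or_one hq c with h0 | h0
  · rw [h0]; ring
  · rw [h0]; linear_combination h2

/-- an element preserving the weight modulo two and not stabilising the decomposition -/
theorem exists_elt_m2 (hq : Fintype.card F = 2) (hD : IsMDecomposition 2 D) (ht : 3 ≤ t) :
    ∃ g ∈ KK D, g ∉ decompositionStabilizer D := by
  classical
  have h2 := two_eq_zero_of_card (Or.inl hq)
  obtain ⟨I, -, hI3⟩ : ∃ I ⊆ (Finset.univ : Finset (Fin t)), I.card = 3 :=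
    Finset.exists_subset_card_eq (by rw [Finset.card_univ, Fintype.card_fin]; omega)
  obtain ⟨i0, hi0⟩ : I.Nonempty := Finset.card_pos.1 (by omega)
  have hc : ((I.card : ℕ) : F) = 1 := by
    rw [hI3]; push_cast; linear_combination h2
  refine ⟨hI hD I, ⟨?_, ?_⟩, ?_⟩
  · rw [mem_specialLinear_iff, hI_det]
  · exact hI_wtF hq hD I hc
  · apply not_stab hD _ i0 (cb hD ⟨i0, 1⟩) (cb_mem hD ⟨i0, 1⟩) I (by omega)
    intro j hj
    refine ⟨0, ?_⟩
    rw [hI_mulVec, repr_hI_zero, if_pos hj]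
    simp only [Module.Basis.repr_self, Finsupp.single_apply]
    rw [if_neg, zero_add, Finset.sum_eq_single i0]
    · rw [if_pos rfl]; exact one_ne_zero
    · intro b _ hb
      rw [if_neg]
      intro h'
      apply hb
      have := congrArg Sigma.fst h'
      exact this.symm
    · intro h; exact absurd hi0 h
    · intro h'
      have := congrArg Sigma.snd h'
      simp at this

theorem s5635 {m : ℕ} (hn : 13 ≤ n) (hD : IsMDecomposition m D)
    (h : (m = 1 ∧ Fintype.card F ≤ 4) ∨ (m = 2 ∧ Fintype.card F = 2)) :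
    ∃ K : Subgroup (Matrix.GeneralLinearGroup (Fin n) F),
      decompositionStabilizer D ⊓ specialLinear (Fin n) F < K ∧
        K < specialLinear (Fin n) F := by
  have hdim := dim_eq hD
  have ht : 7 ≤ t := by
    rcases h with ⟨rfl, _⟩ | ⟨rfl, _⟩ <;> omega
  obtain ⟨g, hgK, hgS⟩ : ∃ g ∈ KK D, g ∉ decompositionStabilizer D := by
    rcases h with ⟨rfl, hq⟩ | ⟨rfl, hq⟩
    · exact exists_elt_m1 hD hq (by omega)
    · exact exists_elt_m2 hq hD (by omega)
  obtain ⟨g', hg'S, hg'K⟩ := exists_not_mem_KK hD (by omega)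
  refine ⟨KK D, ?_, ?_⟩
  · rw [SetLike.lt_iff_le_and_exists]
    exact ⟨stab_le D, g, hgK, fun h' => hgS h'.1⟩
  · rw [SetLike.lt_iff_le_and_exists]
    exact ⟨KK_le D, g', hg'S, hg'K⟩

end Cfsg.Agent.Lead.SLDecomp
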