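import Mathlib
import Cfsg.Agent.Lead.JWCfgB
import Cfsg.Agent.Lead.SL3TwoD
import Cfsg.Agent.Helper8.SU3IConj

set_option autoImplicit false

/-!
# The configuration `(Ĵ, ŵ)` in `SU_3(q) ≤ SL_3(F)`, `|F| = q²`, `q` odd
-/

namespace Cfsg.Agent.Lead.SU3Two

open Matrix Cfsg Cfsg.Agent.Lead.JW Cfsg.Agent.Lead.SL3Two
open Cfsg.Agent.Helper7.Herm Cfsg.Agent.Helper8.GUOrder Cfsg.Agent.Helper8.SUCenter

variable {F : Type*} [Field F] [Fintype F] {q : ℕ}

theorem q_ne_zero (hK : Fintype.card F = q ^ 2) : q ≠ 0 := by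
  have := two_le_q hK; omega

theorem two_pow_q (hK : Fintype.card F = q ^ 2) : (2 : F) ^ q = 2 := by
  have h := add_pow_q hK (1 : F) 1
  rw [one_pow] at h
  have e : (1 : F) + 1 = 2 := by norm_num
  rw [e] at h
  exact h

theorem two_ne_zero_of_odd (hK : Fintype.card F = q ^ 2) (hodd : q % 2 = 1) : (2 : F) ≠ 0 := by
  intro h
  have hchar : ringChar F = 2 := by
    have hdvd : ringChar F ∣ 2 := by
      apply ringChar.dvd
      exact_mod_cast h
    rcases (Nat.dvd_prime Nat.prime_two).mp hdvd with h1 | h1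
    · exact absurd h1 CharP.ringChar_ne_one
    · exact h1
  have h1 := FiniteField.even_card_of_char_two hchar
  rw [hK, Nat.pow_mod, hodd] at h1
  norm_num at h1

theorem Jh_mem (hK : Fintype.card F = q ^ 2) :
    (Jh : Matrix.SpecialLinearGroup (Fin 3) F) ∈ SU 3 F q := by
  rw [mem_SU_iff hK, Jh_val]
  have hq0 := q_ne_zero hK
  have hneg := neg_one_pow_q hK
  ext i j
  fin_cases i <;> fin_cases j <;>
    simp [Matrix.mul_apply, Fin.sum_univ_three, Matrix.transpose_apply, hq0, hneg]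

theorem wh_mem (hK : Fintype.card F = q ^ 2) :
    (wh : Matrix.SpecialLinearGroup (Fin 3) F) ∈ SU 3 F q := by
  rw [mem_SU_iff hK, wh_val]
  have hq0 := q_ne_zero hK
  have hneg := neg_one_pow_q hK
  ext i j
  fin_cases i <;> fin_cases j <;>
    simp [Matrix.mul_apply, Fin.sum_univ_three, Matrix.transpose_apply, hq0, hneg]

theorem sig_mem (hK : Fintype.card F = q ^ 2) :
    (sig : Matrix.SpecialLinearGroup (Fin 3) F) ∈ SU 3 F q := by
  rw [mem_SU_iff hK, sig_val]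
  have hq0 := q_ne_zero hK
  ext i j
  fin_cases i <;> fin_cases j <;>
    simp [Matrix.mul_apply, Fin.sum_univ_three, Matrix.transpose_apply, hq0]

/-- `Ĵ` as an element of `SU_3` -/
def jU (hK : Fintype.card F = q ^ 2) : SU 3 F q := ⟨Jh, Jh_mem hK⟩

/-- `ŵ` as an element of `SU_3` -/
def wU (hK : Fintype.card F = q ^ 2) : SU 3 F q := ⟨wh, wh_mem hK⟩

/-- the configuration in `SU_3` -/
theorem cfgU (hK : Fintype.card F = q ^ 2) (h2 : (2 : F) ≠ 0) : Cfg (jU hK) (wU hK) :=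
  (cfg h2).subgroup (SU 3 F q) (Jh_mem hK) (wh_mem hK)

/-- all involutions of `SU_3(q)` are conjugate to `Ĵ²` -/
theorem inv_conj (hK : Fintype.card F = q ^ 2) (h2 : (2 : F) ≠ 0) (t : SU 3 F q) (ht : t ≠ 1)
    (htt : t * t = 1) : ∃ g : SU 3 F q, g * (jU hK * jU hK) * g⁻¹ = t := by
  have hz1 : jU hK * jU hK ≠ 1 := (cfgU hK h2).j_sq_ne
  have hzz : (jU hK * jU hK) * (jU hK * jU hK) = 1 := (cfgU hK h2).j_four
  obtain ⟨g₁, hg₁⟩ := Cfsg.Agent.Helper8.SU3I.exists_conj_T0 hK h2 (jU hK * jU hK) hz1 hzz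
  obtain ⟨g₂, hg₂⟩ := Cfsg.Agent.Helper8.SU3I.exists_conj_T0 hK h2 t ht htt
  refine ⟨g₂ * g₁⁻¹, ?_⟩
  rw [← hg₂, ← hg₁]
  group

/-- a scalar of norm `1/2` -/
theorem exists_lam (hK : Fintype.card F = q ^ 2) (h2 : (2 : F) ≠ 0) :
    ∃ l : F, l * l ^ q = 2⁻¹ := by
  apply exists_norm hK (inv_ne_zero h2)
  rw [inv_pow, two_pow_q hK]

/-- a block diagonal matrix -/
def blk (a b c d e : F) : Matrix (Fin 3) (Fin 3) F := !![a, b, 0; c, d, 0; 0, 0, e]

omit [Fintype F] in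
theorem blk_det (a b c d e : F) : (blk a b c d e).det = (a * d - b * c) * e := by
  unfold blk
  rw [det_of3]
  ring

theorem blk_unitary (hK : Fintype.card F = q ^ 2) {a b c d e : F}
    (h00 : a * a ^ q + c * c ^ q = 1) (h01 : a * b ^ q + c * d ^ q = 0)
    (h10 : b * a ^ q + d * c ^ q = 0) (h11 : b * b ^ q + d * d ^ q = 1) (h22 : e * e ^ q = 1) :
    (blk a b c d e)ᵀ * (blk a b c d e).map (· ^ q) = 1 := by
  have hq0 := q_ne_zero hK
  unfold blk
  ext i j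
  fin_cases i <;> fin_cases j <;>
    simp [Matrix.mul_apply, Fin.sum_univ_three, Matrix.transpose_apply, hq0] <;>
    assumption

/-- a block diagonal element of `SU_3` -/
def blkSU (hK : Fintype.card F = q ^ 2) (a b c d e : F) (hdet : (a * d - b * c) * e = 1)
    (h00 : a * a ^ q + c * c ^ q = 1) (h01 : a * b ^ q + c * d ^ q = 0)
    (h10 : b * a ^ q + d * c ^ q = 0) (h11 : b * b ^ q + d * d ^ q = 1) (h22 : e * e ^ q = 1) :
    SU 3 F q :=
  ⟨⟨blk a b c d e, by rw [blk_det]; exact hdet⟩,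
    (mem_SU_iff hK _).mpr (blk_unitary hK h00 h01 h10 h11 h22)⟩

theorem blkSU_val (hK : Fintype.card F = q ^ 2) (a b c d e : F) (hdet : (a * d - b * c) * e = 1)
    (h00 : a * a ^ q + c * c ^ q = 1) (h01 : a * b ^ q + c * d ^ q = 0)
    (h10 : b * a ^ q + d * c ^ q = 0) (h11 : b * b ^ q + d * d ^ q = 1) (h22 : e * e ^ q = 1) :
    (blkSU hK a b c d e hdet h00 h01 h10 h11 h22).1.1 = !![a, b, 0; c, d, 0; 0, 0, e] := rfl

theorem lam_ne_zero (h2 : (2 : F) ≠ 0) {l : F} (hl : l * l ^ q = 2⁻¹) : l ≠ 0 := by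
  intro h
  rw [h, zero_mul] at hl
  exact inv_ne_zero h2 hl.symm

theorem two_lam (h2 : (2 : F) ≠ 0) {l : F} (hl : l * l ^ q = 2⁻¹) :
    l * l ^ q + l * l ^ q = 1 := by
  have h22 : (2 : F) * 2⁻¹ = 1 := mul_inv_cancel₀ h2
  rw [hl]
  linear_combination h22

/-- the element `diag(l (1 + J), (2 l²)⁻¹)` of `SU_3` -/
def y0U (hK : Fintype.card F = q ^ 2) (h2 : (2 : F) ≠ 0) (l : F) (hl : l * l ^ q = 2⁻¹) :
    SU 3 F q :=
  blkSU hK l (-l) l l (2 * (l * l))⁻¹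
    (by
      have hl0 := lam_ne_zero h2 hl
      have key : (2 * (l * l)) * (2 * (l * l))⁻¹ = 1 :=
        mul_inv_cancel₀ (mul_ne_zero h2 (mul_ne_zero hl0 hl0))
      linear_combination key)
    (two_lam h2 hl)
    (by rw [neg_pow_q hK]; ring)
    (by ring)
    (by rw [neg_pow_q hK]; linear_combination two_lam h2 hl)
    (by
      have h22 : (2 : F) * 2⁻¹ = 1 := mul_inv_cancel₀ h2
      rw [inv_pow, mul_pow, mul_pow, two_pow_q hK, ← mul_inv]
      have : 2 * (l * l) * (2 * (l ^ q * l ^ q)) = 4 * (l * l ^ q) * (l * l ^ q) := by ring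
      rw [this, hl]
      have : (4 : F) * 2⁻¹ * 2⁻¹ = 1 := by linear_combination (2 * 2⁻¹ + 1) * h22
      rw [this, inv_one])

theorem y0U_val (hK : Fintype.card F = q ^ 2) (h2 : (2 : F) ≠ 0) (l : F)
    (hl : l * l ^ q = 2⁻¹) :
    (y0U hK h2 l hl).1.1 = !![l, -l, 0; l, l, 0; 0, 0, (2 * (l * l))⁻¹] := rfl

theorem y0U_comm (hK : Fintype.card F = q ^ 2) (h2 : (2 : F) ≠ 0) (l : F)
    (hl : l * l ^ q = 2⁻¹) : Commute (y0U hK h2 l hl) (jU hK) := by
  apply Subtype.ext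
  apply (comm_Jh_of_entries (y0U hK h2 l hl).1 _ _ _ _ _ _).eq <;> simp [y0U_val]

theorem y0U_sq_not_comm (hK : Fintype.card F = q ^ 2) (h2 : (2 : F) ≠ 0) (l : F)
    (hl : l * l ^ q = 2⁻¹) : ¬ Commute (y0U hK h2 l hl * y0U hK h2 l hl) (wU hK) := by
  intro h
  have h' : Commute ((y0U hK h2 l hl).1 * (y0U hK h2 l hl).1) wh := congrArg Subtype.val h.eq
  obtain ⟨-, h10, -, -⟩ := entries_of_comm_wh h2 _ h'
  rw [Matrix.SpecialLinearGroup.coe_mul, y0U_val] at h10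
  simp [Matrix.mul_apply, Fin.sum_univ_three] at h10
  have hl0 := lam_ne_zero h2 hl
  have : 2 * (l * l) = 0 := by linear_combination h10
  rcases mul_eq_zero.mp this with h3 | h3
  · exact h2 h3
  · exact hl0 (mul_self_eq_zero.mp h3)

theorem y0U_four_comm (hK : Fintype.card F = q ^ 2) (h2 : (2 : F) ≠ 0) (l : F)
    (hl : l * l ^ q = 2⁻¹) :
    Commute ((y0U hK h2 l hl * y0U hK h2 l hl) * (y0U hK h2 l hl * y0U hK h2 l hl)) (wU hK) := by
  apply Subtype.ext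
  apply (comm_wh_of_entries (((y0U hK h2 l hl).1 * (y0U hK h2 l hl).1) *
    ((y0U hK h2 l hl).1 * (y0U hK h2 l hl).1)) _ _ _ _).eq <;>
  · rw [Matrix.SpecialLinearGroup.coe_mul, Matrix.SpecialLinearGroup.coe_mul, y0U_val]
    simp [Matrix.mul_apply, Fin.sum_univ_three]
    try ring

/-- existence of a `2`-element of `C` whose square is not a scalar -/
theorem exists_yU (hK : Fintype.card F = q ^ 2) (h2 : (2 : F) ≠ 0) :
    ∃ y : SU 3 F q, IsC2 (jU hK) y ∧ ¬ Commute (y * y) (wU hK) := by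
  obtain ⟨l, hl⟩ := exists_lam hK h2
  exact (cfgU hK h2).exists_y (y0U hK h2 l hl) (y0U_comm hK h2 l hl) (y0U_sq_not_comm hK h2 l hl)
    (y0U_four_comm hK h2 l hl)

end Cfsg.Agent.Lead.SU3Two
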