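import Mathlib
import Cfsg.Agent.Lead.SU3TwoA

set_option autoImplicit false

/-!
# `SU_3(q)`: entries of elements of the torus; the case `q ≡ 1 (mod 4)`
-/

namespace Cfsg.Agent.Lead.SU3Two

open Matrix Cfsg Cfsg.Agent.Lead.JW Cfsg.Agent.Lead.SL3Two
open Cfsg.Agent.Helper7.Herm Cfsg.Agent.Helper8.GUOrder Cfsg.Agent.Helper8.SUCenter

variable {F : Type*} [Field F] [Fintype F] {q : ℕ}

/-- unitarity relations for an element of `SU_3` commuting with `Ĵ` -/
theorem unit_entries (hK : Fintype.card F = q ^ 2) (h2 : (2 : F) ≠ 0) (x : SU 3 F q)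
    (hx : Commute x.1 Jh) :
    x.1.1 0 0 * x.1.1 0 0 ^ q + x.1.1 1 0 * x.1.1 1 0 ^ q = 1 ∧
    x.1.1 1 0 * x.1.1 0 0 ^ q = x.1.1 0 0 * x.1.1 1 0 ^ q ∧
    x.1.1 2 2 * x.1.1 2 2 ^ q = 1 ∧
    (x.1.1 0 0 * x.1.1 0 0 + x.1.1 1 0 * x.1.1 1 0) * x.1.1 2 2 = 1 := by
  obtain ⟨x02, x12, x20, x21, x11, x01⟩ := entries_of_comm_Jh h2 x.1 hx
  have hdet := det_block x.1 x02 x12 x20 x21
  rw [x11, x01] at hdet
  have hq0 := q_ne_zero hK
  have hU := (mem_SU_iff hK x.1).mp x.2
  have e00 := congrFun (congrFun hU 0) 0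
  have e01 := congrFun (congrFun hU 0) 1
  have e22 := congrFun (congrFun hU 2) 2
  simp [Matrix.mul_apply, Fin.sum_univ_three, Matrix.transpose_apply, x02, x12, x20, x21, x11, x01,
    hq0, neg_pow_q hK] at e00 e01 e22
  refine ⟨e00, ?_, e22, ?_⟩
  · linear_combination e01
  · linear_combination hdet

/-- conjugates of the entries in terms of the norm -/
theorem conj_entries {a b : F} (h1 : a * a ^ q + b * b ^ q = 1) (h2' : b * a ^ q = a * b ^ q) :
    a ^ q * (a * a + b * b) = a ∧ b ^ q * (a * a + b * b) = b := by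
  constructor
  · linear_combination a * h1 + b * h2'
  · linear_combination b * h1 - a * h2'

/-- norm one in terms of entries -/
theorem normOne_of_entries (h2 : (2 : F) ≠ 0) (x : Matrix.SpecialLinearGroup (Fin 3) F)
    (hx : Commute x Jh) (hn : x.1 0 0 * x.1 0 0 + x.1 1 0 * x.1 1 0 = 1) :
    x * (wh * x * wh) = 1 := by
  obtain ⟨x02, x12, x20, x21, x11, x01⟩ := entries_of_comm_Jh h2 x hx
  have hdet := det_block x x02 x12 x20 x21
  rw [x11, x01] at hdet
  have x22 : x.1 2 2 = 1 := by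
    have : (x.1 0 0 * x.1 0 0 + x.1 1 0 * x.1 1 0) * x.1 2 2 = 1 := by linear_combination hdet
    rwa [hn, one_mul] at this
  have h' : (x * wh) * (x * wh) = 1 := by
    apply Subtype.ext
    rw [Matrix.SpecialLinearGroup.coe_mul, mul_wh_val]
    ext i j
    fin_cases i <;> fin_cases j <;>
      simp [Matrix.mul_apply, Fin.sum_univ_three, x02, x12, x20, x21, x11, x01, x22] <;>
      first | ring1 | linear_combination hn | linear_combination -hn
  rw [← h']
  group

section CaseA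

variable (hK : Fintype.card F = q ^ 2) (h2 : (2 : F) ≠ 0)

include hK h2

/-- the norm of a `2`-element of the torus is `±1` when `q ≡ 1 (mod 4)` -/
theorem norm_pm_one (hq4 : q % 4 = 1) (x : SU 3 F q) (hx : Commute x.1 Jh) (k : ℕ)
    (hk : x ^ 2 ^ k = 1) :
    x.1.1 0 0 * x.1.1 0 0 + x.1.1 1 0 * x.1.1 1 0 = 1 ∨
    x.1.1 0 0 * x.1.1 0 0 + x.1.1 1 0 * x.1.1 1 0 = -1 := by
  obtain ⟨x02, x12, x20, x21, x11, x01⟩ := entries_of_comm_Jh h2 x.1 hx
  obtain ⟨-, -, hee, hne⟩ := unit_entries hK h2 x hx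
  set n := x.1.1 0 0 * x.1.1 0 0 + x.1.1 1 0 * x.1.1 1 0 with hn
  have h22 : (x.1.1 2 2) ^ 2 ^ k = 1 := by
    have h1 : (x.1 ^ 2 ^ k) = 1 := congrArg Subtype.val hk
    rw [← pow_entry22 x.1 x02 x12, h1]
    simp
  have hnk : n ^ 2 ^ k = 1 := by
    have := congrArg (fun t => t ^ 2 ^ k) hne
    simp only [mul_pow, h22, mul_one, one_pow] at this
    exact this
  have hnq : n * n ^ q = 1 := by
    have h3 : (n * x.1.1 2 2) * (n * x.1.1 2 2) ^ q = 1 := by rw [hne, one_pow, one_mul]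
    rw [mul_pow] at h3
    have h4 : n * n ^ q * (x.1.1 2 2 * x.1.1 2 2 ^ q) = 1 := by linear_combination h3
    rwa [hee, mul_one] at h4
  have hnq' : n ^ (q + 1) = 1 := by rw [pow_succ']; exact hnq
  obtain ⟨m, hm⟩ : ∃ m, q + 1 = 2 * (2 * m + 1) := ⟨q / 4, by omega⟩
  have h5 : (n * n) ^ (2 * m + 1) = 1 := by
    rw [← pow_two, ← pow_mul, ← hm]; exact hnq'
  have h6 : (n * n) ^ 2 ^ k = 1 := by
    rw [mul_pow, hnk, one_mul]
  have hcop : Nat.gcd (2 * m + 1) (2 ^ k) = 1 := by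
    apply Nat.Coprime.pow_right
    rw [Nat.coprime_comm, Nat.Prime.coprime_iff_not_dvd Nat.prime_two]
    omega
  have h7 : (n * n) ^ Nat.gcd (2 * m + 1) (2 ^ k) = 1 := pow_gcd_eq_one.mpr ⟨h5, h6⟩
  rw [hcop, pow_one] at h7
  have : (n - 1) * (n + 1) = 0 := by linear_combination h7
  rcases mul_eq_zero.mp this with h | h
  · left; linear_combination h
  · right; linear_combination h

/-- the quaternion conjugator -/
theorem exists_conj_of_norm_neg_one (x : SU 3 F q) (hx : Commute x.1 Jh)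
    (hn : x.1.1 0 0 * x.1.1 0 0 + x.1.1 1 0 * x.1.1 1 0 = -1) :
    ∃ g : SU 3 F q, g * jU hK * g⁻¹ = x * wU hK := by
  obtain ⟨x02, x12, x20, x21, x11, x01⟩ := entries_of_comm_Jh h2 x.1 hx
  obtain ⟨hab, hba, hee, hne⟩ := unit_entries hK h2 x hx
  obtain ⟨ha, hb⟩ := conj_entries hab hba
  rw [hn] at ha hb hne
  set a := x.1.1 0 0 with hadef
  set b := x.1.1 1 0 with hbdef
  have haq : a ^ q = -a := by linear_combination -ha
  have hbq : b ^ q = -b := by linear_combination -hb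
  have x22 : x.1.1 2 2 = -1 := by linear_combination -hne
  set t : F := 2⁻¹ with htdef
  have ht : 2 * t = 1 := mul_inv_cancel₀ h2
  have htq : t ^ q = t := by rw [htdef, inv_pow, two_pow_q hK]
  have hn' : a * a + b * b = -1 := hn
  let g : SU 3 F q := blkSU hK (t * (1 + a - b)) (t * (-1 + a + b)) (t * (1 + a + b))
    (t * (1 - a + b)) 1
    (by linear_combination (-2 * t * t) * hn' + (2 * t + 1) * ht)
    (by
      simp only [mul_pow, add_pow_q hK, sub_pow_q hK, neg_pow_q hK, one_pow, htq, haq, hbq]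
      linear_combination (-2 * t * t) * hn' + (2 * t + 1) * ht)
    (by
      simp only [mul_pow, add_pow_q hK, sub_pow_q hK, neg_pow_q hK, one_pow, htq, haq, hbq]
      ring)
    (by
      simp only [mul_pow, add_pow_q hK, sub_pow_q hK, neg_pow_q hK, one_pow, htq, haq, hbq]
      ring)
    (by
      simp only [mul_pow, add_pow_q hK, sub_pow_q hK, neg_pow_q hK, one_pow, htq, haq, hbq]
      linear_combination (-2 * t * t) * hn' + (2 * t + 1) * ht)
    (by rw [one_pow, one_mul])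
  refine ⟨g, ?_⟩
  have key : g * jU hK = (x * wU hK) * g := by
    apply Subtype.ext
    apply Subtype.ext
    show g.1.1 * Jh.1 = (x.1 * wh).1 * g.1.1
    rw [mul_wh_val, Jh_val, blkSU_val]
    ext i j
    fin_cases i <;> fin_cases j <;>
      simp [Matrix.mul_apply, Fin.sum_univ_three, x02, x12, x20, x21, x11, x01, x22,
        ← hadef, ← hbdef] <;>
      first | ring1 | linear_combination t * hn' | linear_combination -t * hn'
  rw [key]
  group

end CaseA

end Cfsg.Agent.Lead.SU3Two
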