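import Mathlib
import Cfsg.Agent.Lead.SU3TwoB

set_option autoImplicit false

/-!
# `SU_3(q)`: the case `q ≡ 3 (mod 4)`
-/

namespace Cfsg.Agent.Lead.SU3Two

open Matrix Cfsg Cfsg.Agent.Lead.JW Cfsg.Agent.Lead.SL3Two
open Cfsg.Agent.Helper7.Herm Cfsg.Agent.Helper8.GUOrder Cfsg.Agent.Helper8.SUCenter

section General

variable {F : Type*} [Field F]

/-- the torus parametrization attached to a base change matrix `P` -/
def dlP (P : Matrix.SpecialLinearGroup (Fin 3) F) :
    Fˣ × Fˣ →* Matrix.SpecialLinearGroup (Fin 3) F :=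
  (MulAut.conj P).toMonoidHom.comp DgHom

theorem dlP_apply (P : Matrix.SpecialLinearGroup (Fin 3) F) (p : Fˣ × Fˣ) :
    dlP P p = P * DgHom p * P⁻¹ := rfl

theorem dlP_eq_one (P : Matrix.SpecialLinearGroup (Fin 3) F) {p : Fˣ × Fˣ}
    (h : dlP P p = 1) : p = 1 := by
  apply DgHom_eq_one
  rw [dlP_apply] at h
  calc DgHom p = P⁻¹ * (P * DgHom p * P⁻¹) * P := by group
    _ = 1 := by rw [h]; group

theorem dlP_comm (P : Matrix.SpecialLinearGroup (Fin 3) F) (p r : Fˣ × Fˣ) :
    Commute (dlP P p) (dlP P r) :=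
  (Commute.all p r).map (dlP P)

theorem wh_dlP (P : Matrix.SpecialLinearGroup (Fin 3) F) (h1 : wh * P = P * om) (c d : Fˣ) :
    wh * dlP P (c, d) * wh = dlP P (d, c) := by
  rw [dlP_apply, dlP_apply, DgHom_apply, DgHom_apply]
  have h2' : P⁻¹ * wh = om⁻¹ * P⁻¹ := by
    have hw : (wh : Matrix.SpecialLinearGroup (Fin 3) F)⁻¹ = wh :=
      inv_eq_of_mul_eq_one_right wh_mul_wh
    calc P⁻¹ * wh = (wh * P)⁻¹ := by rw [_root_.mul_inv_rev, hw]
      _ = om⁻¹ * P⁻¹ := by rw [h1, _root_.mul_inv_rev]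
  calc wh * (P * Dg c d * P⁻¹) * wh
      = (wh * P) * Dg c d * (P⁻¹ * wh) := by group
    _ = P * (om * Dg c d) * om⁻¹ * P⁻¹ := by rw [h1, h2']; group
    _ = P * Dg d c * P⁻¹ := by rw [om_Dg]; group

theorem sig_dlP (P : Matrix.SpecialLinearGroup (Fin 3) F) (c d : Fˣ) :
    (P * sig * P⁻¹) * dlP P (c, d) * (P * sig * P⁻¹)⁻¹ = dlP P ((c * d)⁻¹, c) := by
  rw [dlP_apply, dlP_apply, DgHom_apply, DgHom_apply]
  have h1 : sig * Dg c d = Dg (c * d)⁻¹ c * sig := sig_Dg c d
  calc P * sig * P⁻¹ * (P * Dg c d * P⁻¹) * (P * sig * P⁻¹)⁻¹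
      = P * (sig * Dg c d) * sig⁻¹ * P⁻¹ := by group
    _ = P * Dg (c * d)⁻¹ c * P⁻¹ := by rw [h1]; group

end General

variable {F : Type*} [Field F] [Fintype F] {q : ℕ}

theorem Dg_mem (hK : Fintype.card F = q ^ 2) (c d : Fˣ) (hc : (c : F) * (c : F) ^ q = 1)
    (hd : (d : F) * (d : F) ^ q = 1) : Dg c d ∈ SU 3 F q := by
  rw [mem_SU_iff hK]
  have hq0 := q_ne_zero hK
  have e : (Dg c d).1 = blk (c : F) 0 0 (d : F) ((c : F) * (d : F))⁻¹ := rfl
  rw [e]
  apply blk_unitary hK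
  · rw [zero_pow hq0, mul_zero, add_zero]; exact hc
  · rw [zero_pow hq0, mul_zero, zero_mul, add_zero]
  · rw [zero_pow hq0, mul_zero, zero_mul, add_zero]
  · rw [zero_pow hq0, mul_zero, zero_add]; exact hd
  · rw [inv_pow, ← mul_inv, mul_pow]
    have : (c : F) * (d : F) * ((c : F) ^ q * (d : F) ^ q) =
        ((c : F) * (c : F) ^ q) * ((d : F) * (d : F) ^ q) := by ring
    rw [this, hc, hd, one_mul, inv_one]

section CaseB

variable (hK : Fintype.card F = q ^ 2) (h2 : (2 : F) ≠ 0) (i : F) (hi : i * i = -1)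
  (hiq : i ^ q = -i) (l : F) (hl : l * l ^ q = 2⁻¹)

/-- the unitary eigenbasis matrix -/
def PhU : SU 3 F q :=
  blkSU hK l l (-i * l) (i * l) (2 * i * (l * l))⁻¹
    (by
      have hl0 := lam_ne_zero h2 hl
      have hi0 : i ≠ 0 := by
        intro h
        rw [h, mul_zero] at hi
        have : (1 : F) = 0 := by linear_combination hi
        exact one_ne_zero this
      have key : (2 * i * (l * l)) * (2 * i * (l * l))⁻¹ = 1 :=
        mul_inv_cancel₀ (mul_ne_zero (mul_ne_zero h2 hi0) (mul_ne_zero hl0 hl0))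
      linear_combination key)
    (by
      simp only [mul_pow, neg_pow_q hK, hiq]
      linear_combination two_lam h2 hl - (l * l ^ q) * hi)
    (by
      simp only [mul_pow, neg_pow_q hK, hiq]
      linear_combination (l * l ^ q) * hi)
    (by
      simp only [mul_pow, neg_pow_q hK, hiq]
      linear_combination (l * l ^ q) * hi)
    (by
      simp only [mul_pow, neg_pow_q hK, hiq]
      linear_combination two_lam h2 hl - (l * l ^ q) * hi)
    (by
      rw [inv_pow, ← mul_inv]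
      have hs2 := two_lam h2 hl
      have : 2 * i * (l * l) * (2 * i * (l * l)) ^ q = 1 := by
        simp only [mul_pow, two_pow_q hK, hiq]
        linear_combination (-4 * (l * l ^ q) * (l * l ^ q)) * hi + (2 * (l * l ^ q) + 1) * hs2
      rw [this, inv_one])

theorem PhU_val : (PhU hK h2 i hi hiq l hl).1.1 =
    !![l, l, 0; -i * l, i * l, 0; 0, 0, (2 * i * (l * l))⁻¹] := rfl

theorem wh_PhU : wh * (PhU hK h2 i hi hiq l hl).1 = (PhU hK h2 i hi hiq l hl).1 * om := by
  apply Subtype.ext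
  rw [Matrix.SpecialLinearGroup.coe_mul, Matrix.SpecialLinearGroup.coe_mul, PhU_val, wh_val, om_val]
  ext a b
  fin_cases a <;> fin_cases b <;> simp [Matrix.mul_apply, Fin.sum_univ_three]

/-- every element of the torus of `SU_3` is `dlP` of a pair of norm one scalars -/
theorem exists_dlU (x : SU 3 F q) (hx : Commute x.1 Jh) :
    ∃ c d : Fˣ, (c : F) * (c : F) ^ q = 1 ∧ (d : F) * (d : F) ^ q = 1 ∧
      x.1 = dlP (PhU hK h2 i hi hiq l hl).1 (c, d) := by
  obtain ⟨x02, x12, x20, x21, x11, x01⟩ := entries_of_comm_Jh h2 x.1 hx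
  obtain ⟨hab, hba, hee, hne⟩ := unit_entries hK h2 x hx
  set a := x.1.1 0 0 with hadef
  set b := x.1.1 1 0 with hbdef
  have hcd : (a + i * b) * (a - i * b) * x.1.1 2 2 = 1 := by
    linear_combination hne - (b * b * x.1.1 2 2) * hi
  have hc : a + i * b ≠ 0 := by
    intro h
    rw [h, zero_mul, zero_mul] at hcd
    exact zero_ne_one hcd
  have hd : a - i * b ≠ 0 := by
    intro h
    rw [h, mul_zero, zero_mul] at hcd
    exact zero_ne_one hcd
  have h22 : x.1.1 2 2 = ((a + i * b) * (a - i * b))⁻¹ := eq_inv_of_mul_eq_one_right hcd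
  refine ⟨Units.mk0 _ hc, Units.mk0 _ hd, ?_, ?_, ?_⟩
  · rw [Units.val_mk0]
    simp only [add_pow_q hK, mul_pow, hiq]
    linear_combination hab + i * hba - (b * b ^ q) * hi
  · rw [Units.val_mk0]
    simp only [sub_pow_q hK, mul_pow, hiq]
    linear_combination hab - i * hba - (b * b ^ q) * hi
  · rw [dlP_apply, DgHom_apply]
    have key : x.1 * (PhU hK h2 i hi hiq l hl).1 =
        (PhU hK h2 i hi hiq l hl).1 * Dg (Units.mk0 _ hc) (Units.mk0 _ hd) := by
      apply Subtype.ext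
      rw [Matrix.SpecialLinearGroup.coe_mul, Matrix.SpecialLinearGroup.coe_mul, PhU_val, Dg_val]
      ext r s
      fin_cases r <;> fin_cases s <;>
        simp [Matrix.mul_apply, Fin.sum_univ_three, x02, x12, x20, x21, x11, x01, h22,
          ← hadef, ← hbdef] <;>
        first | ring1 | linear_combination (l * b) * hi | linear_combination -(l * b) * hi
    calc x.1 = x.1 * (PhU hK h2 i hi hiq l hl).1 * ((PhU hK h2 i hi hiq l hl).1)⁻¹ := by group
      _ = _ := by rw [key]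

end CaseB

end Cfsg.Agent.Lead.SU3Two
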