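import Mathlib
import Cfsg.Agent.Lead.SU3TwoC

set_option autoImplicit false

/-!
# The `2`-fusion system of `PSU_3(q)`, `q` odd, is simple
-/

namespace Cfsg.Agent.Lead.SU3Two

open Matrix Cfsg Cfsg.Agent.Lead.JW Cfsg.Agent.Lead.SL3Two Cfsg.Agent.Lead.SimpCrit
open Cfsg.Agent.Helper7.Herm Cfsg.Agent.Helper8.GUOrder Cfsg.Agent.Helper8.SUCenter

variable {F : Type*} [Field F] [Fintype F] {q : ℕ}

theorem mem_C2U (hK : Fintype.card F = q ^ 2) (h2 : (2 : F) ≠ 0) (x : SU 3 F q) :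
    x ∈ (cfgU hK h2).C2 ↔ x.1 ∈ (cfg h2).C2 :=
  (cfg h2).mem_C2_subgroup (SU 3 F q) (Jh_mem hK) (wh_mem hK) x

section CaseB

variable (hK : Fintype.card F = q ^ 2) (h2 : (2 : F) ≠ 0) (i : F) (hi : i * i = -1)
  (hiq : i ^ q = -i) (l : F) (hl : l * l ^ q = 2⁻¹)

theorem dlU_mem (c d : Fˣ) (hc : (c : F) * (c : F) ^ q = 1) (hd : (d : F) * (d : F) ^ q = 1) :
    dlP (PhU hK h2 i hi hiq l hl).1 (c, d) ∈ SU 3 F q := by
  rw [dlP_apply, DgHom_apply]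
  exact Subgroup.mul_mem _ (Subgroup.mul_mem _ (PhU hK h2 i hi hiq l hl).2 (Dg_mem hK c d hc hd))
    (Subgroup.inv_mem _ (PhU hK h2 i hi hiq l hl).2)

omit [Fintype F] in
theorem inv_norm {e : Fˣ} (he : (e : F) * (e : F) ^ q = 1) :
    ((e⁻¹ : Fˣ) : F) * ((e⁻¹ : Fˣ) : F) ^ q = 1 := by
  rw [Units.val_inv_eq_inv_val, inv_pow, ← mul_inv, he, inv_one]

include hi hiq hl in
/-- the case `q ≡ 3 (mod 4)`: decomposition of the elements of `C₂` -/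
theorem caseB (x : SU 3 F q) (hx : x ∈ (cfgU hK h2).C2) :
    ∃ x₁ x₃ g : SU 3 F q, x₁ ∈ (cfgU hK h2).C2 ∧ x₁ * (wU hK * x₁ * wU hK) = 1 ∧
      x₃ ∈ (cfgU hK h2).C2 ∧ x₃ * (wU hK * x₃ * wU hK) = 1 ∧ x = x₁ * (g * x₃ * g⁻¹) := by
  have hxSL := (mem_C2U hK h2 x).mp hx
  set P := PhU hK h2 i hi hiq l hl with hP
  obtain ⟨c, d, hc, hd, hxcd⟩ := exists_dlU hK h2 i hi hiq l hl x hxSL.1
  obtain ⟨c₀, d₀, -, -, hJ⟩ := exists_dlU hK h2 i hi hiq l hl (jU hK) (Commute.refl _)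
  have hJ' : Jh = dlP P.1 (c₀, d₀) := hJ
  obtain ⟨k, hk⟩ := hxSL.2
  have hcdk : (c, d) ^ 2 ^ k = 1 := by
    apply dlP_eq_one P.1
    rw [map_pow, ← hxcd, hk]
  rw [Prod.pow_mk, Prod.mk_eq_one] at hcdk
  obtain ⟨hck, hdk⟩ := hcdk
  -- the norm one elements
  have hN : ∀ e : Fˣ, (e : F) * (e : F) ^ q = 1 → e ^ 2 ^ k = 1 →
      ∃ y : SU 3 F q, y.1 = dlP P.1 (e, e⁻¹) ∧ y ∈ (cfgU hK h2).C2 ∧
        y * (wU hK * y * wU hK) = 1 := by
    intro e he hek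
    refine ⟨⟨dlP P.1 (e, e⁻¹), dlU_mem hK h2 i hi hiq l hl e e⁻¹ he (inv_norm he)⟩, rfl, ?_, ?_⟩
    · rw [mem_C2U hK h2]
      refine ⟨?_, k, ?_⟩
      · rw [hJ']; exact dlP_comm P.1 _ _
      · show dlP P.1 (e, e⁻¹) ^ 2 ^ k = 1
        rw [← map_pow, Prod.pow_mk, inv_pow, hek, inv_one]
        exact map_one _
    · apply Subtype.ext
      show dlP P.1 (e, e⁻¹) * (wh * dlP P.1 (e, e⁻¹) * wh) = 1
      rw [wh_dlP P.1 (wh_PhU hK h2 i hi hiq l hl), ← map_mul, Prod.mk_mul_mk, mul_inv_cancel,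
        inv_mul_cancel]
      exact map_one _
  have hcd : ((c * d : Fˣ) : F) * ((c * d : Fˣ) : F) ^ q = 1 := by
    rw [Units.val_mul, mul_pow]
    have : (c : F) * (d : F) * ((c : F) ^ q * (d : F) ^ q) =
        ((c : F) * (c : F) ^ q) * ((d : F) * (d : F) ^ q) := by ring
    rw [this, hc, hd, one_mul]
  obtain ⟨x₁, hx₁v, hx₁C, hx₁n⟩ := hN c hc hck
  obtain ⟨x₃, hx₃v, hx₃C, hx₃n⟩ := hN (c * d) hcd (by rw [mul_pow, hck, hdk, one_mul])
  refine ⟨x₁, x₃, P * ⟨sig, sig_mem hK⟩ * P⁻¹, hx₁C, hx₁n, hx₃C, hx₃n, ?_⟩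
  apply Subtype.ext
  show x.1 = x₁.1 * ((P.1 * sig * P.1⁻¹) * x₃.1 * (P.1 * sig * P.1⁻¹)⁻¹)
  rw [hx₃v, sig_dlP, hx₁v, hxcd, ← map_mul, Prod.mk_mul_mk, mul_inv_cancel, inv_one, mul_one,
    inv_mul_cancel_left]

end CaseB

/-- a square root of `-1` which is inverted by the Frobenius, when `q ≡ 3 (mod 4)` -/
theorem exists_i (hK : Fintype.card F = q ^ 2) (hq4 : q % 4 = 3) :
    ∃ i : F, i * i = -1 ∧ i ^ q = -i := by
  have hsq : IsSquare (-1 : F) := by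
    rw [FiniteField.isSquare_neg_one_iff, hK]
    have : q ^ 2 % 4 = 1 := by
      rw [Nat.pow_mod, hq4]
    omega
  obtain ⟨i, hi⟩ := hsq
  refine ⟨i, hi.symm, ?_⟩
  obtain ⟨t, ht⟩ : ∃ t, q = 2 * (2 * t + 1) + 1 := ⟨q / 4, by omega⟩
  rw [ht, pow_succ, pow_mul, pow_two, ← hi, Odd.neg_one_pow ⟨t, rfl⟩]
  ring

/-- strongly closed subgroups of `S0` in `SU_3(q)` are trivial -/
theorem closed_trivialU (hK : Fintype.card F = q ^ 2) (hodd : q % 2 = 1) (h2 : (2 : F) ≠ 0)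
    (T : Subgroup (SU 3 F q)) (hTS : T ≤ (cfgU hK h2).S0)
    (hcl : ∀ x ∈ T, ∀ g : SU 3 F q, g * x * g⁻¹ ∈ (cfgU hK h2).S0 → g * x * g⁻¹ ∈ T) :
    T = ⊥ ∨ T = (cfgU hK h2).S0 := by
  apply (cfgU hK h2).closed_of_inv (inv_conj hK h2) _ T hTS hcl
  intro x hx
  have hxSL := (mem_C2U hK h2 x).mp hx
  have hq4 : q % 4 = 1 ∨ q % 4 = 3 := by omega
  rcases hq4 with hq4 | hq4
  · obtain ⟨k, hk⟩ := hx.2
    rcases norm_pm_one hK h2 hq4 x hxSL.1 k hk with hn | hn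
    · left
      apply Subtype.ext
      exact normOne_of_entries h2 x.1 hxSL.1 hn
    · right; left
      exact exists_conj_of_norm_neg_one hK h2 x hxSL.1 hn
  · right; right
    obtain ⟨i, hi, hiq⟩ := exists_i hK hq4
    obtain ⟨l, hl⟩ := exists_lam hK h2
    exact caseB hK h2 i hi hiq l hl x hx

/-- the simplicity criterion for `S0` in `SU_3(q)` -/
theorem critC_S0U (hK : Fintype.card F = q ^ 2) (hodd : q % 2 = 1) (h2 : (2 : F) ≠ 0) :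
    CritC 2 (cfgU hK h2).S0 := by
  haveI : Fact (Nat.Prime 2) := ⟨Nat.prime_two⟩
  apply critC_of_normalizer_le (cfgU hK h2).isPGroup_S0
  · intro T hTS hcl
    exact closed_trivialU hK hodd h2 T hTS hcl
  · exact (cfgU hK h2).normalizer_le (exists_yU hK h2)

/-- central elements of `2`-power order in `SU_3(q)` are trivial -/
theorem center_two_elementU (hK : Fintype.card F = q ^ 2) (z : SU 3 F q)
    (hz : z ∈ Subgroup.center (SU 3 F q)) (k : ℕ) (hk : z ^ 2 ^ k = 1) : z = 1 := by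
  have h1 : orderOf z ∣ Nat.card (Subgroup.center (SU 3 F q)) :=
    Subgroup.orderOf_dvd_natCard _ hz
  rw [card_center hK (by norm_num)] at h1
  have h3 : orderOf z ∣ 3 := h1.trans (Nat.gcd_dvd_left 3 (q + 1))
  have h4 : orderOf z ∣ 2 ^ k := orderOf_dvd_of_pow_eq_one hk
  have h5 : orderOf z ∣ Nat.gcd 3 (2 ^ k) := Nat.dvd_gcd h3 h4
  have hcop : Nat.gcd 3 (2 ^ k) = 1 := by
    apply Nat.Coprime.pow_right
    decide
  rw [hcop, Nat.dvd_one] at h5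
  exact orderOf_eq_one_iff.mp h5

/-- the `2`-fusion system of `PSU_3(q)`, `q` odd, is simple -/
theorem main (hK : Fintype.card F = q ^ 2) (hodd : q % 2 = 1) (S : Sylow 2 (Cfsg.PSU 3 F q)) :
    (groupFusionSystem (S : Subgroup (Cfsg.PSU 3 F q))).IsSimple 2 := by
  haveI : Fact (Nat.Prime 2) := ⟨Nat.prime_two⟩
  have h2 : (2 : F) ≠ 0 := two_ne_zero_of_odd hK hodd
  obtain ⟨P₀, hP₀⟩ := (cfgU hK h2).exists_sylow (exists_yU hK h2)
  have hsurj : Function.Surjective (QuotientGroup.mk' (Subgroup.center (SU 3 F q))) :=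
    QuotientGroup.mk'_surjective _
  apply critC_all 2 (P₀.mapSurjective hsurj) _ _ S
  · rw [Sylow.coe_mapSurjective, hP₀]
    intro hbot
    have h1 : QuotientGroup.mk' (Subgroup.center (SU 3 F q)) (wU hK) ∈
        (cfgU hK h2).S0.map (QuotientGroup.mk' (Subgroup.center (SU 3 F q))) :=
      ⟨_, (cfgU hK h2).w_mem_S0, rfl⟩
    rw [hbot, Subgroup.mem_bot, QuotientGroup.mk'_apply, QuotientGroup.eq_one_iff] at h1
    exact (cfgU hK h2).w_ne_one (center_two_elementU hK (wU hK) h1 1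
      (by rw [pow_one, pow_two]; exact (cfgU hK h2).w_sq))
  · rw [Sylow.coe_mapSurjective, hP₀]
    exact critC_quotient (cfgU hK h2).isPGroup_S0 (critC_S0U hK hodd h2) _ le_rfl
      (fun z hz k hk => center_two_elementU hK z hz k hk)

end Cfsg.Agent.Lead.SU3Two
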