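import Cfsg.Agent.Lead.SU6FieldG
import Cfsg.Agent.Helper3.SU6FldM1
import Cfsg.Agent.Helper3.SU6FldM2
import Cfsg.Agent.Helper3.SU6Final

/-!
# S5802, the degree-three field at `q = 2`: the normaliser of a degree-three field in `SU_6(2)` is not maximal
(lead; matrix glue M1, M2, M3 by helper3)
-/

set_option autoImplicit false

namespace Cfsg.Agent.Lead.SU6Field

open Cfsg Cfsg.Geo Matrix

variable {F : Type*} [Field F] [Fintype F]

/-- slot B of `Helper3.SU6.final6U` -/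
theorem fieldStmt (hF : Fintype.card F = 4) : Cfsg.Agent.Helper3.SU6.FieldStmt F := by
  intro K hK hadj
  obtain ⟨S, h1, ⟨b, hb0, hb, hbS⟩, ⟨s, p, hs, hp, hps⟩⟩ := matrix_main hF K hK hadj
  have hF' : Fintype.card F = 2 ^ 2 := by rw [hF]; norm_num
  exact Cfsg.Agent.Helper3.SU6Fld.sandwich hF'
    (subalgebraNormalizer K ⊓ (GU 6 F 2 ⊓ specialLinear (Fin 6) F)) S
    (fun g hg x hx => h1 g hg.1 hg.2.1 hg.2.2 x hx) b hb hbS
    (fun τ hτ hH =>
      Cfsg.Agent.Helper3.SU6Fld.transv_not_mem_normalizer (by norm_num) K hK b hb0 τ hτ hH.1)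
    s p hs hp hps

end Cfsg.Agent.Lead.SU6Field
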