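import Cfsg.Agent.Lead.SU6FieldA

/-!
# S5802, the degree-three field at `q = 2` (lead), abstract part B

The `σ`-fixed structure `V₀` of a hyperbolic frame, and the image of `V₀` under a semilinear isometry.
-/

set_option autoImplicit false
set_option linter.unusedSectionVars false
set_option linter.unusedVariables false

namespace Cfsg.Agent.Lead.SU6Field

open Cfsg.Agent.Lead.FieldQuad

variable {F K V : Type*} [Field F] [Field K] [Algebra F K] [AddCommGroup V] [Module F V] [Module K V]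
  [IsScalarTower F K V]

/-- a hyperbolic frame -/
structure Frame (β : V → V → K) (v₁ v₂ : V) : Prop where
  b11 : β v₁ v₁ = 0
  b22 : β v₂ v₂ = 0
  b12 : β v₁ v₂ = 1
  rep : ∀ v, v = β v v₂ • v₁ + β v v₁ • v₂

/-- the fixed structure -/
def V0 (σ : K → K) (β : V → V → K) (v₁ v₂ : V) : Set V :=
  {v | σ (β v v₁) = β v v₁ ∧ σ (β v v₂) = β v v₂}

namespace Frame

variable {σ : K → K} {h : V → V → F} {θ : K →ₗ[F] F} {β : V → V → K} {v₁ v₂ : V}
  (H : Herm σ h) (B : KForm σ h θ β) (Fr : Frame β v₁ v₂)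
include H B Fr

theorem b21 : β v₂ v₁ = 1 := by rw [B.symm H v₁ v₂, Fr.b12, H.σ_one]

theorem coord1 (a b : K) : β (a • v₁ + b • v₂) v₂ = a := by
  rw [B.add_left H, B.smul_left H, B.smul_left H, Fr.b12, Fr.b22]
  ring

theorem coord2 (a b : K) : β (a • v₁ + b • v₂) v₁ = b := by
  rw [B.add_left H, B.smul_left H, B.smul_left H, Fr.b11, Fr.b21 H B]
  ring

/-- the form in coordinates -/
theorem beta_eq (u v : V) : β u v = β u v₂ * σ (β v v₁) + β u v₁ * σ (β v v₂) := by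
  conv_lhs => rw [Fr.rep u]
  rw [B.add_left H, B.smul_left H, B.smul_left H, B.symm H v v₁, B.symm H v v₂]

theorem mem_V0_of_coords {a b : K} (ha : σ a = a) (hb : σ b = b) : a • v₁ + b • v₂ ∈ V0 σ β v₁ v₂ := by
  refine ⟨?_, ?_⟩
  · rw [Fr.coord2 H B, hb]
  · rw [Fr.coord1 H B, ha]

theorem zero_mem : (0 : V) ∈ V0 σ β v₁ v₂ := by
  refine ⟨?_, ?_⟩ <;> rw [B.zero_left H, H.σ_zero]

theorem add_mem {u v : V} (hu : u ∈ V0 σ β v₁ v₂) (hv : v ∈ V0 σ β v₁ v₂) : u + v ∈ V0 σ β v₁ v₂ := by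
  refine ⟨?_, ?_⟩
  · rw [B.add_left H, H.σ_add, hu.1, hv.1]
  · rw [B.add_left H, H.σ_add, hu.2, hv.2]

theorem smul_mem {k : K} (hk : σ k = k) {v : V} (hv : v ∈ V0 σ β v₁ v₂) : k • v ∈ V0 σ β v₁ v₂ := by
  refine ⟨?_, ?_⟩
  · rw [B.smul_left H, H.σ_mul, hk, hv.1]
  · rw [B.smul_left H, H.σ_mul, hk, hv.2]

/-- on `V₀` the `K`-form takes fixed values -/
theorem beta_fixed {u v : V} (hu : u ∈ V0 σ β v₁ v₂) (hv : v ∈ V0 σ β v₁ v₂) : σ (β u v) = β u v := by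
  rw [Fr.beta_eq H B u v, H.σ_add, H.σ_mul, H.σ_mul, H.σ_σ, H.σ_σ, hu.1, hu.2, hv.1, hv.2]

theorem beta_self {u : V} (hu : u ∈ V0 σ β v₁ v₂) : β u u = 0 := by
  rw [Fr.beta_eq H B u u, hu.1, hu.2, mul_comm]
  exact H.add_selfK _

theorem h_sq {u v : V} (hu : u ∈ V0 σ β v₁ v₂) (hv : v ∈ V0 σ β v₁ v₂) : h u v ^ 2 = h u v := by
  rw [B.h_eq H, ← B.θ_σ, Fr.beta_fixed H B hu hv]

theorem h_self {u : V} (hu : u ∈ V0 σ β v₁ v₂) : h u u = 0 := by
  rw [B.h_eq H, Fr.beta_self H B hu, map_zero]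

/-- the quotient lemma: `x σ(y)` fixed and `y ≠ 0` gives `x = y r` with `r` fixed -/
theorem quot_fixed {x y : K} (hy : y ≠ 0) (hxy : σ (x * σ y) = x * σ y) : ∃ r : K, σ r = r ∧ x = y * r := by
  have hσy : σ y ≠ 0 := fun h0 => hy (H.σ_inj (by rw [h0, H.σ_zero]))
  have hn : σ (y * σ y) = y * σ y := by rw [H.σ_mul, H.σ_σ, mul_comm]
  have hn0 : y * σ y ≠ 0 := mul_ne_zero hy hσy
  refine ⟨x * σ y * (y * σ y)⁻¹, ?_, ?_⟩
  · rw [H.σ_mul, hxy, B.σ_inv H hn]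
  · field_simp

/-- fixed elements: a functional vanishing on them vanishes -/
theorem theta_fixed_ne (ω : F) (hω : ω ^ 2 + ω + 1 = 0) : ∃ m : K, σ m = m ∧ θ m ≠ 0 := by
  by_contra hcon
  push Not at hcon
  apply B.θ_ne
  ext k
  -- k = p + ω q with p, q fixed
  set w : K := algebraMap F K ω with hw
  have hwσ : σ w = w ^ 2 := by rw [hw, H.σ_alg, map_pow]
  have hw2 : w ^ 2 + w + 1 = 0 := by
    rw [hw, ← map_pow, ← map_add, ← map_one (algebraMap F K), ← map_add, hω, map_zero]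
  have hw3 : w ^ 3 = 1 := by
    have : w ^ 3 - 1 = (w - 1) * (w ^ 2 + w + 1) := by ring
    rw [hw2, mul_zero] at this
    exact sub_eq_zero.mp this
  have hw2σ : σ (w ^ 2) = w := by
    rw [pow_two, H.σ_mul, hwσ, ← pow_two, ← pow_mul]
    have : w ^ (2 * 2) = w ^ 3 * w := by ring
    rw [this, hw3, one_mul]
  have hww : w ^ 2 + w = 1 := by
    have h1 : w ^ 2 + w = -1 := eq_neg_of_add_eq_zero_left hw2
    have h2 : (-1 : K) = 1 := neg_eq_of_add_eq_zero_left (H.add_selfK 1)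
    rw [h1, h2]
  set q : K := k + σ k with hq
  set p : K := w ^ 2 * k + w * σ k with hp
  have hqσ : σ q = q := by rw [hq, H.σ_add, H.σ_σ, add_comm]
  have hpσ : σ p = p := by
    rw [hp, H.σ_add, H.σ_mul, H.σ_mul, hw2σ, hwσ, H.σ_σ, add_comm]
  have hk : k = p + w * q := by
    rw [hp, hq]
    have : w ^ 2 * k + w * σ k + w * (k + σ k) = (w ^ 2 + w) * k + (w * σ k + w * σ k) := by ring
    rw [this, hww, one_mul, H.add_selfK, add_zero]
  rw [hk, map_add, hcon p hpσ, zero_add, hw, ← Algebra.smul_def, map_smul, hcon q hqσ, smul_zero]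
  rfl

/-- **the image of `V₀` under a semilinear isometry** -/
theorem image_V0 (ω : F) (hω : ω ^ 2 + ω + 1 = 0) (g : V → V) (α : K ≃+* K)
    (g_add : ∀ u v, g (u + v) = g u + g v) (g_smul : ∀ (k : K) v, g (k • v) = α k • g v)
    (g_h : ∀ u v, h (g u) (g v) = h u v) (hασ : ∀ k, σ (α k) = α (σ k)) :
    ∃ a : K, a ≠ 0 ∧ ∀ v ∈ V0 σ β v₁ v₂, ∃ v' ∈ V0 σ β v₁ v₂, g v = a • v' := by
  -- pairing of images
  have hpair : ∀ (x y : V) (l : K), θ (l * β (g x) (g y)) = θ (α.symm l * β x y) := by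
    intro x y l
    rw [← B.spec, ← B.spec]
    have : l • g x = g (α.symm l • x) := by rw [g_smul, RingEquiv.apply_symm_apply]
    rw [this, g_h]
  have hiso : ∀ x : V, β x x = 0 → β (g x) (g x) = 0 := by
    intro x hx
    apply eq_of_forall_theta B.θ_ne
    intro l
    rw [hpair, hx, mul_zero, mul_zero]
  have hασ' : ∀ k, σ (α.symm k) = α.symm (σ k) := by
    intro k
    apply α.injective
    rw [← hασ, RingEquiv.apply_symm_apply, RingEquiv.apply_symm_apply]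
  set w₁ := g v₁ with hw₁
  set w₂ := g v₂ with hw₂
  set e : K := β w₁ w₂ with he
  have hθe : ∀ l, θ (l * e) = θ (α.symm l) := by
    intro l
    rw [he, hpair, Fr.b12, mul_one]
  -- e is fixed
  have heσ : σ e = e := by
    by_contra hne
    set f : K := e + σ e with hf
    have hfσ : σ f = f := by rw [hf, H.σ_add, H.σ_σ, add_comm]
    have hf0 : f ≠ 0 := by
      intro h0
      apply hne
      rw [hf] at h0
      have := eq_neg_of_add_eq_zero_right h0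
      rw [this]
      exact neg_eq_of_add_eq_zero_left (H.add_selfK e)
    obtain ⟨m, hm, hm0⟩ := Fr.theta_fixed_ne H B ω hω
    apply hm0
    have hl : σ (m * f⁻¹) = m * f⁻¹ := by rw [H.σ_mul, hm, B.σ_inv H hfσ]
    set l := m * f⁻¹ with hl'
    have h1 : θ (l * e) ^ 2 = θ (l * e) := by
      rw [hθe, ← B.θ_σ, hασ', hl]
    have h2 : θ (l * σ e) = θ (l * e) := by
      rw [← h1, ← B.θ_σ, H.σ_mul, hl]
    have h3 : θ (l * f) = 0 := by
      rw [hf, mul_add, map_add, h2]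
      exact H.add_self _
    rw [hl', mul_assoc, inv_mul_cancel₀ hf0, mul_one] at h3
    exact h3
  have he0 : e ≠ 0 := by
    intro h0
    apply B.θ_ne
    ext k
    have := hθe (α k)
    rw [h0, mul_zero, map_zero, RingEquiv.symm_apply_apply] at this
    rw [← this]
    rfl
  -- coordinates
  set a₁ := β w₁ v₂ with ha₁
  set a₂ := β w₁ v₁ with ha₂
  set b₁ := β w₂ v₂ with hb₁
  set b₂ := β w₂ v₁ with hb₂
  have e11 : a₁ * σ a₂ + a₂ * σ a₁ = 0 := by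
    have := Fr.beta_eq H B w₁ w₁
    rw [hiso v₁ Fr.b11] at this
    exact this.symm
  have e22 : b₁ * σ b₂ + b₂ * σ b₁ = 0 := by
    have := Fr.beta_eq H B w₂ w₂
    rw [hiso v₂ Fr.b22] at this
    exact this.symm
  have e12 : a₁ * σ b₂ + a₂ * σ b₁ = e := (Fr.beta_eq H B w₁ w₂).symm
  have fix_of : ∀ x y : K, x * σ y + y * σ x = 0 → σ (y * σ x) = y * σ x := by
    intro x y hxy
    rw [H.σ_mul, H.σ_σ, mul_comm]
    have := eq_neg_of_add_eq_zero_left hxy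
    rw [this]
    exact neg_eq_of_add_eq_zero_left (H.add_selfK _)
  -- column 1
  obtain ⟨a, ha0, s₁, s₂, hs₁, hs₂, has₁, has₂⟩ : ∃ a : K, a ≠ 0 ∧ ∃ s₁ s₂ : K, σ s₁ = s₁ ∧ σ s₂ = s₂ ∧
      a₁ = a * s₁ ∧ a₂ = a * s₂ := by
    by_cases h1 : a₁ = 0
    · have h2 : a₂ ≠ 0 := by
        intro h2
        apply he0
        rw [← e12, h1, h2, zero_mul, zero_mul, add_zero]
      exact ⟨a₂, h2, 0, 1, H.σ_zero, H.σ_one, by rw [h1, mul_zero], by rw [mul_one]⟩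
    · obtain ⟨r, hr, hr'⟩ := Fr.quot_fixed H B h1 (fix_of a₁ a₂ e11)
      exact ⟨a₁, h1, 1, r, H.σ_one, hr, by rw [mul_one], hr'⟩
  obtain ⟨b, hb0, t₁, t₂, ht₁, ht₂, hbt₁, hbt₂⟩ : ∃ b : K, b ≠ 0 ∧ ∃ t₁ t₂ : K, σ t₁ = t₁ ∧ σ t₂ = t₂ ∧
      b₁ = b * t₁ ∧ b₂ = b * t₂ := by
    by_cases h1 : b₁ = 0
    · have h2 : b₂ ≠ 0 := by
        intro h2
        apply he0
        rw [← e12, h1, h2, H.σ_zero, mul_zero, mul_zero, add_zero]
      exact ⟨b₂, h2, 0, 1, H.σ_zero, H.σ_one, by rw [h1, mul_zero], by rw [mul_one]⟩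
    · obtain ⟨r, hr, hr'⟩ := Fr.quot_fixed H B h1 (fix_of b₁ b₂ e22)
      exact ⟨b₁, h1, 1, r, H.σ_one, hr, by rw [mul_one], hr'⟩
  -- b = a r
  set n : K := s₁ * t₂ + s₂ * t₁ with hn
  have hnσ : σ n = n := by rw [hn, H.σ_add, H.σ_mul, H.σ_mul, hs₁, hs₂, ht₁, ht₂]
  have hen : a * σ b * n = e := by
    rw [← e12, has₁, has₂, hbt₁, hbt₂, H.σ_mul, H.σ_mul, ht₁, ht₂, hn]
    ring
  have hn0 : n ≠ 0 := by
    intro h0
    apply he0
    rw [← hen, h0, mul_zero]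
  have habσ : σ (a * σ b) = a * σ b := by
    have : a * σ b = e * n⁻¹ := by rw [← hen, mul_assoc, mul_inv_cancel₀ hn0, mul_one]
    rw [this, H.σ_mul, heσ, B.σ_inv H hnσ]
  have hbaσ : σ (b * σ a) = b * σ a := by
    rw [H.σ_mul, H.σ_σ, mul_comm, ← habσ, H.σ_mul, H.σ_σ, mul_comm]
  obtain ⟨r, hr, hbr⟩ := Fr.quot_fixed H B ha0 hbaσ
  refine ⟨a, ha0, ?_⟩
  intro v hv
  refine ⟨(α (β v v₂) * s₁ + α (β v v₁) * (r * t₁)) • v₁ + (α (β v v₂) * s₂ + α (β v v₁) * (r * t₂)) • v₂,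
    ?_, ?_⟩
  · apply Fr.mem_V0_of_coords H B
    · rw [H.σ_add, H.σ_mul, H.σ_mul, H.σ_mul, hασ, hασ, hv.1, hv.2, hs₁, hr, ht₁]
    · rw [H.σ_add, H.σ_mul, H.σ_mul, H.σ_mul, hασ, hασ, hv.1, hv.2, hs₂, hr, ht₂]
  · conv_lhs => rw [Fr.rep v]
    rw [g_add, g_smul, g_smul, ← hw₁, ← hw₂, Fr.rep w₁, Fr.rep w₂, ← ha₁, ← ha₂, ← hb₁, ← hb₂, has₁, has₂, hbt₁,
      hbt₂, hbr]
    module

end Frame

end Cfsg.Agent.Lead.SU6Field
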