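import Cfsg.Agent.Lead.SU6FieldB

/-!
# S5802, the degree-three field at `q = 2` (lead), abstract part C

The semilinear involution `J` fixing `V₀`, the decomposition `V = V₀ ⊕ ω V₀`, the set `S = F V₀`.
-/

set_option autoImplicit false
set_option linter.unusedSectionVars false
set_option linter.unusedVariables false

namespace Cfsg.Agent.Lead.SU6Field

open Cfsg.Agent.Lead.FieldQuad

variable {F K V : Type*} [Field F] [Field K] [Algebra F K] [AddCommGroup V] [Module F V] [Module K V]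
  [IsScalarTower F K V]

/-- the semilinear involution -/
def JJ (σ : K → K) (β : V → V → K) (v₁ v₂ : V) (v : V) : V := σ (β v v₂) • v₁ + σ (β v v₁) • v₂

/-- the set `F V₀` -/
def SS (σ : K → K) (β : V → V → K) (v₁ v₂ : V) : Set V := {x | ∃ (c : F) (v : V), v ∈ V0 σ β v₁ v₂ ∧ x = c • v}

namespace Frame

variable {σ : K → K} {h : V → V → F} {θ : K →ₗ[F] F} {β : V → V → K} {v₁ v₂ : V}
  (H : Herm σ h) (B : KForm σ h θ β) (Fr : Frame β v₁ v₂)
include H B Fr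

theorem JJ_add (u v : V) : JJ σ β v₁ v₂ (u + v) = JJ σ β v₁ v₂ u + JJ σ β v₁ v₂ v := by
  unfold JJ
  rw [B.add_left H, B.add_left H, H.σ_add, H.σ_add, add_smul, add_smul]
  abel

theorem JJ_smul (c : F) (v : V) : JJ σ β v₁ v₂ (c • v) = (c ^ 2) • JJ σ β v₁ v₂ v := by
  unfold JJ
  have e : ∀ u : V, β (c • v) u = c • β v u := by
    intro u
    rw [← algebraMap_smul K c v, B.smul_left H, Algebra.smul_def]
  rw [e, e, H.σ_smul, H.σ_smul, smul_add, smul_assoc, smul_assoc]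

theorem JJ_JJ (v : V) : JJ σ β v₁ v₂ (JJ σ β v₁ v₂ v) = v := by
  unfold JJ
  rw [Fr.coord1 H B, Fr.coord2 H B, H.σ_σ, H.σ_σ]
  exact (Fr.rep v).symm

theorem JJ_eq_iff (v : V) : JJ σ β v₁ v₂ v = v ↔ v ∈ V0 σ β v₁ v₂ := by
  constructor
  · intro hv
    refine ⟨?_, ?_⟩
    · have : β (JJ σ β v₁ v₂ v) v₁ = β v v₁ := by rw [hv]
      unfold JJ at this
      rw [Fr.coord2 H B] at this
      exact this
    · have : β (JJ σ β v₁ v₂ v) v₂ = β v v₂ := by rw [hv]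
      unfold JJ at this
      rw [Fr.coord1 H B] at this
      exact this
  · intro hv
    unfold JJ
    rw [hv.1, hv.2]
    exact (Fr.rep v).symm

/-- the decomposition `v = p + ω q` -/
theorem exists_decomp (ω : F) (hω : ω ^ 2 + ω + 1 = 0) (v : V) :
    ∃ p ∈ V0 σ β v₁ v₂, ∃ q ∈ V0 σ β v₁ v₂, v = p + ω • q := by
  have hω3 : ω ^ 3 = 1 := by
    have : ω ^ 3 - 1 = (ω - 1) * (ω ^ 2 + ω + 1) := by ring
    rw [hω, mul_zero] at this
    exact sub_eq_zero.mp this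
  have hωω : ω ^ 2 + ω = 1 := by
    have h1 : ω ^ 2 + ω = -1 := eq_neg_of_add_eq_zero_left hω
    have h2 : (-1 : F) = 1 := neg_eq_of_add_eq_zero_left (H.add_self 1)
    rw [h1, h2]
  have h4 : ω ^ 4 = ω := H.pow4 ω
  refine ⟨(ω ^ 2) • v + ω • JJ σ β v₁ v₂ v, ?_, v + JJ σ β v₁ v₂ v, ?_, ?_⟩
  · rw [← Fr.JJ_eq_iff H B, Fr.JJ_add H B, Fr.JJ_smul H B, Fr.JJ_smul H B, Fr.JJ_JJ H B, ← pow_mul, h4, add_comm]
  · rw [← Fr.JJ_eq_iff H B, Fr.JJ_add H B, Fr.JJ_JJ H B, add_comm]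
  · have e : (ω ^ 2) • v + ω • JJ σ β v₁ v₂ v + ω • (v + JJ σ β v₁ v₂ v)
        = (ω ^ 2 + ω) • v + (2 : F) • (ω • JJ σ β v₁ v₂ v) := by
      rw [smul_add, add_smul, two_smul]; abel
    rw [e, hωω, one_smul, H.two, zero_smul, add_zero]

/-- uniqueness of the decomposition -/
theorem decomp_unique (ω : F) (hω : ω ^ 2 + ω + 1 = 0) {p q p' q' : V} (hp : p ∈ V0 σ β v₁ v₂)
    (hq : q ∈ V0 σ β v₁ v₂) (hp' : p' ∈ V0 σ β v₁ v₂) (hq' : q' ∈ V0 σ β v₁ v₂)
    (he : p + ω • q = p' + ω • q') : p = p' ∧ q = q' := by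
  have hωω : ω ^ 2 + ω = 1 := by
    have h1 : ω ^ 2 + ω = -1 := eq_neg_of_add_eq_zero_left hω
    have h2 : (-1 : F) = 1 := neg_eq_of_add_eq_zero_left (H.add_self 1)
    rw [h1, h2]
  have hJ := congrArg (JJ σ β v₁ v₂) he
  rw [Fr.JJ_add H B, Fr.JJ_add H B, Fr.JJ_smul H B, Fr.JJ_smul H B, (Fr.JJ_eq_iff H B p).mpr hp,
    (Fr.JJ_eq_iff H B q).mpr hq, (Fr.JJ_eq_iff H B p').mpr hp', (Fr.JJ_eq_iff H B q').mpr hq'] at hJ
  -- add the two equations
  have hsum : (p + ω • q) + (p + (ω ^ 2) • q) = (p' + ω • q') + (p' + (ω ^ 2) • q') := by rw [he, hJ]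
  have e1 : ∀ x y : V, (x + ω • y) + (x + (ω ^ 2) • y) = y := by
    intro x y
    have : (x + ω • y) + (x + (ω ^ 2) • y) = (2 : F) • x + (ω ^ 2 + ω) • y := by
      rw [two_smul, add_smul]; abel
    rw [this, H.two, zero_smul, zero_add, hωω, one_smul]
  rw [e1, e1] at hsum
  refine ⟨?_, hsum⟩
  rw [hsum] at he
  exact add_right_cancel he

/-- every scalar is `0`, `1`, `ω` or `ω²` -/
theorem scalar_cases (ω : F) (hω : ω ^ 2 + ω + 1 = 0) (c : F) : c = 0 ∨ c = 1 ∨ c = ω ∨ c = ω ^ 2 := by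
  have h4 := H.pow4 c
  have hm1 : (-1 : F) = 1 := neg_eq_of_add_eq_zero_left (H.add_self 1)
  have hω3 : ω ^ 3 = 1 := by
    have : ω ^ 3 - 1 = (ω - 1) * (ω ^ 2 + ω + 1) := by ring
    rw [hω, mul_zero] at this
    exact sub_eq_zero.mp this
  have hωω : ω ^ 2 + ω = 1 := by
    have h1 : ω ^ 2 + ω = -1 := eq_neg_of_add_eq_zero_left hω
    rw [h1, hm1]
  have e : c * (c - 1) * ((c - ω) * (c - ω ^ 2)) = 0 := by
    have : c * (c - 1) * ((c - ω) * (c - ω ^ 2)) = c * (c - 1) * (c ^ 2 - (ω ^ 2 + ω) * c + ω ^ 3) := by ring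
    rw [this, hωω, hω3]
    have : c * (c - 1) * (c ^ 2 - 1 * c + 1) = c ^ 4 - 2 * c ^ 3 + 2 * c ^ 2 - c := by ring
    rw [this, h4, H.two]
    ring
  rcases mul_eq_zero.mp e with h1 | h1
  · rcases mul_eq_zero.mp h1 with h2 | h2
    · exact Or.inl h2
    · exact Or.inr (Or.inl (sub_eq_zero.mp h2))
  · rcases mul_eq_zero.mp h1 with h2 | h2
    · exact Or.inr (Or.inr (Or.inl (sub_eq_zero.mp h2)))
    · exact Or.inr (Or.inr (Or.inr (sub_eq_zero.mp h2)))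

/-- membership in `S` in terms of the decomposition -/
theorem mem_SS_cases (ω : F) (hω : ω ^ 2 + ω + 1 = 0) {p q : V} (hp : p ∈ V0 σ β v₁ v₂)
    (hq : q ∈ V0 σ β v₁ v₂) (hS : p + ω • q ∈ SS (F := F) σ β v₁ v₂) : q = 0 ∨ p = 0 ∨ p = q := by
  obtain ⟨c, v, hv, hcv⟩ := hS
  have h0 := Fr.zero_mem H B
  have hωω : ω ^ 2 = 1 + ω := by
    have h1 : ω ^ 2 + ω = -1 := eq_neg_of_add_eq_zero_left hω
    have h2 : (-1 : F) = 1 := neg_eq_of_add_eq_zero_left (H.add_self 1)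
    rw [h2] at h1
    have : ω ^ 2 = 1 - ω := eq_sub_of_add_eq h1
    rw [this, sub_eq_add_neg]
    congr 1
    exact neg_eq_of_add_eq_zero_left (H.add_self ω)
  rcases Fr.scalar_cases H B ω hω c with hc | hc | hc | hc
  · -- x = 0
    have : p + ω • q = 0 + ω • (0 : V) := by rw [hcv, hc, zero_smul, smul_zero, add_zero]
    exact Or.inr (Or.inl (Fr.decomp_unique H B ω hω hp hq h0 h0 this).1)
  · have : p + ω • q = v + ω • (0 : V) := by rw [hcv, hc, one_smul, smul_zero, add_zero]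
    exact Or.inl (Fr.decomp_unique H B ω hω hp hq hv h0 this).2
  · have : p + ω • q = 0 + ω • v := by rw [hcv, hc, zero_add]
    exact Or.inr (Or.inl (Fr.decomp_unique H B ω hω hp hq h0 hv this).1)
  · have : p + ω • q = v + ω • v := by rw [hcv, hc, hωω, add_smul, one_smul]
    obtain ⟨e1, e2⟩ := Fr.decomp_unique H B ω hω hp hq hv hv this
    exact Or.inr (Or.inr (by rw [e1, e2]))

end Frame

end Cfsg.Agent.Lead.SU6Field
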