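import Cfsg.Agent.Lead.SU6FieldC

/-!
# S5802, the degree-three field at `q = 2` (lead), abstract part D

The set `S = F V₀` is stable under `F* K₀*`, under the transvections with centre in `V₀`, and is moved by an explicit
transvection.
-/

set_option autoImplicit false
set_option linter.unusedSectionVars false
set_option linter.unusedVariables false

namespace Cfsg.Agent.Lead.SU6Field

open Cfsg.Agent.Lead.FieldQuad

variable {F K V : Type*} [Field F] [Field K] [Algebra F K] [AddCommGroup V] [Module F V] [Module K V]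
  [IsScalarTower F K V]

namespace Frame

variable {σ : K → K} {h : V → V → F} {θ : K →ₗ[F] F} {β : V → V → K} {v₁ v₂ : V}
  (H : Herm σ h) (B : KForm σ h θ β) (Fr : Frame β v₁ v₂)
include H B Fr

theorem mem_SS_of_mem_V0 {v : V} (hv : v ∈ V0 σ β v₁ v₂) : v ∈ SS (F := F) σ β v₁ v₂ :=
  ⟨1, v, hv, (one_smul F v).symm⟩

theorem smul_mem_SS (c : F) {x : V} (hx : x ∈ SS (F := F) σ β v₁ v₂) : c • x ∈ SS (F := F) σ β v₁ v₂ := by
  obtain ⟨c', v, hv, rfl⟩ := hx
  exact ⟨c * c', v, hv, by rw [mul_smul]⟩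

/-- (C5) `F* K₀*` preserves `S` -/
theorem smulK_mem_SS (c₀ : F) {k₀ : K} (hk₀ : σ k₀ = k₀) {x : V} (hx : x ∈ SS (F := F) σ β v₁ v₂) :
    (algebraMap F K c₀ * k₀) • x ∈ SS (F := F) σ β v₁ v₂ := by
  obtain ⟨c', v, hv, rfl⟩ := hx
  refine ⟨c₀ * c', k₀ • v, Fr.smul_mem H B hk₀ hv, ?_⟩
  rw [mul_smul, algebraMap_smul, mul_smul, smul_comm k₀ c' v]

/-- an element with `x ^ 2 = x` is `0` or `1` -/
theorem zero_or_one {x : F} (hx : x ^ 2 = x) : x = 0 ∨ x = 1 := by
  have : x * (x - 1) = 0 := by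
    have e : x * (x - 1) = x ^ 2 - x := by ring
    rw [e, hx, sub_self]
  rcases mul_eq_zero.mp this with h0 | h0
  · exact Or.inl h0
  · exact Or.inr (sub_eq_zero.mp h0)

/-- (C6) a transvection with centre in `V₀` preserves `S` -/
theorem transv_mem_SS {b : V} (hb : b ∈ V0 σ β v₁ v₂) {x : V} (hx : x ∈ SS (F := F) σ β v₁ v₂) :
    x + h x b • b ∈ SS (F := F) σ β v₁ v₂ := by
  obtain ⟨c, v, hv, rfl⟩ := hx
  refine ⟨c, v + h v b • b, ?_, ?_⟩
  · rcases zero_or_one H B Fr (Fr.h_sq H B hv hb) with h0 | h0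
    · rw [h0, zero_smul, add_zero]; exact hv
    · rw [h0, one_smul]; exact Fr.add_mem H B hv hb
  · rw [H.smul_left, smul_add, mul_smul]

/-- `1 + ω² = ω`, `ω³ = 1` and the like -/
theorem omega_facts (ω : F) (hω : ω ^ 2 + ω + 1 = 0) :
    ω ^ 2 = 1 + ω ∧ ω ^ 3 = 1 ∧ (1 : F) + ω ^ 2 = ω ∧ ω ≠ 0 := by
  have hm1 : (-1 : F) = 1 := neg_eq_of_add_eq_zero_left (H.add_self 1)
  have hω3 : ω ^ 3 = 1 := by
    have : ω ^ 3 - 1 = (ω - 1) * (ω ^ 2 + ω + 1) := by ring
    rw [hω, mul_zero] at this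
    exact sub_eq_zero.mp this
  have h2 : ω ^ 2 = 1 + ω := by
    have h1 : ω ^ 2 + ω = -1 := eq_neg_of_add_eq_zero_left hω
    rw [hm1] at h1
    have : ω ^ 2 = 1 - ω := eq_sub_of_add_eq h1
    rw [this, sub_eq_add_neg]
    congr 1
    exact neg_eq_of_add_eq_zero_left (H.add_self ω)
  refine ⟨h2, hω3, ?_, ?_⟩
  · rw [h2, ← add_assoc, H.add_self, zero_add]
  · intro h0
    rw [h0] at hω
    simp at hω

/-- every element is `p + ω q` with `p`, `q` fixed -/
theorem exists_fixed_decomp (ω : F) (hω : ω ^ 2 + ω + 1 = 0) (k : K) :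
    ∃ p q : K, σ p = p ∧ σ q = q ∧ k = p + algebraMap F K ω * q := by
  set w : K := algebraMap F K ω with hw
  have hwσ : σ w = w ^ 2 := by rw [hw, H.σ_alg, map_pow]
  have hw2 : w ^ 2 + w + 1 = 0 := by
    rw [hw, ← map_pow, ← map_add, ← map_one (algebraMap F K), ← map_add, hω, map_zero]
  have hw3 : w ^ 3 = 1 := by
    have : w ^ 3 - 1 = (w - 1) * (w ^ 2 + w + 1) := by ring
    rw [hw2, mul_zero] at this
    exact sub_eq_zero.mp this
  have hw2σ : σ (w ^ 2) = w := by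
    rw [pow_two, H.σ_mul, hwσ, ← pow_two, ← pow_mul]
    have : w ^ (2 * 2) = w ^ 3 * w := by ring
    rw [this, hw3, one_mul]
  have hww : w ^ 2 + w = 1 := by
    have h1 : w ^ 2 + w = -1 := eq_neg_of_add_eq_zero_left hw2
    have h2 : (-1 : K) = 1 := neg_eq_of_add_eq_zero_left (H.add_selfK 1)
    rw [h1, h2]
  refine ⟨w ^ 2 * k + w * σ k, k + σ k, ?_, ?_, ?_⟩
  · rw [H.σ_add, H.σ_mul, H.σ_mul, hw2σ, hwσ, H.σ_σ, add_comm]
  · rw [H.σ_add, H.σ_σ, add_comm]
  · have : w ^ 2 * k + w * σ k + w * (k + σ k) = (w ^ 2 + w) * k + (w * σ k + w * σ k) := by ring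
    rw [this, hww, one_mul, H.add_selfK, add_zero]

/-- a fixed element outside `{0, 1}` -/
theorem exists_rho (ω : F) (hω : ω ^ 2 + ω + 1 = 0) (k : K) (hk : ∀ c : F, algebraMap F K c ≠ k) :
    ∃ ρ : K, σ ρ = ρ ∧ ρ ≠ 0 ∧ ρ ≠ 1 := by
  by_contra hcon
  push Not at hcon
  obtain ⟨p, q, hp, hq, hkpq⟩ := exists_fixed_decomp H B Fr ω hω k
  have key : ∀ x : K, σ x = x → ∃ a : F, x = algebraMap F K a := by
    intro x hx
    by_cases h0 : x = 0
    · exact ⟨0, by rw [h0, map_zero]⟩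
    · exact ⟨1, by rw [hcon x hx h0, map_one]⟩
  obtain ⟨a, ha⟩ := key p hp
  obtain ⟨b, hb⟩ := key q hq
  apply hk (a + ω * b)
  rw [hkpq, ha, hb, map_add, map_mul]

/-- a fixed element of trace one -/
theorem exists_t (ω : F) (hω : ω ^ 2 + ω + 1 = 0) : ∃ t : K, σ t = t ∧ θ t = 1 := by
  obtain ⟨m, hm, hθm⟩ := Fr.theta_fixed_ne H B ω hω
  refine ⟨m, hm, ?_⟩
  have : θ m ^ 2 = θ m := by rw [← B.θ_σ, hm]
  rcases zero_or_one H B Fr this with h0 | h0
  · exact absurd h0 hθm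
  · exact h0

/-- (C7) **a transvection moving `S`** -/
theorem exists_witness (ω : F) (hω : ω ^ 2 + ω + 1 = 0) (k : K) (hk : ∀ c : F, algebraMap F K c ≠ k) :
    ∃ s p : V, h s s = 0 ∧ p ∈ V0 σ β v₁ v₂ ∧ p + h p s • s ∉ SS (F := F) σ β v₁ v₂ := by
  obtain ⟨ρ, hρ, hρ0, hρ1⟩ := exists_rho H B Fr ω hω k hk
  obtain ⟨t, ht, hθt⟩ := exists_t H B Fr ω hω
  obtain ⟨hω2, hω3, hω1, hω0⟩ := omega_facts H B Fr ω hω
  set w : K := algebraMap F K ω with hw
  have hwσ : σ w = w ^ 2 := by rw [hw, H.σ_alg, map_pow]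
  have hw2 : w ^ 2 = 1 + w := by rw [hw, ← map_pow, hω2, map_add, map_one]
  have hσ0 : σ (0 : K) = 0 := H.σ_zero
  have hσ1 : σ (1 : K) = 1 := H.σ_one
  have hσ1ρ : σ (1 + ρ) = 1 + ρ := by rw [H.σ_add, hσ1, hρ]
  refine ⟨(1 + w * ρ) • v₁, t • v₂, ?_, ?_, ?_⟩
  · rw [B.h_eq H, B.smul_left H, B.smul_right H, Fr.b11, mul_zero, mul_zero, map_zero]
  · have : t • v₂ = (0 : K) • v₁ + t • v₂ := by rw [zero_smul, zero_add]
    rw [this]
    exact Fr.mem_V0_of_coords H B hσ0 ht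
  · -- the value of the form
    set y : F := θ (t * ρ) with hy
    have hy2 : y ^ 2 = y := by rw [hy, ← B.θ_σ, H.σ_mul, ht, hρ]
    have hval : h (t • v₂) ((1 + w * ρ) • v₁) = 1 + ω ^ 2 * y := by
      rw [B.h_eq H, B.smul_left H, B.smul_right H, Fr.b21 H B, mul_one, H.σ_add, H.σ_mul, hσ1, hwσ, hρ]
      have e : t * (1 + w ^ 2 * ρ) = t + (ω ^ 2) • (t * ρ) := by
        rw [Algebra.smul_def, map_pow, ← hw]; ring
      rw [e, map_add, map_smul, hθt, smul_eq_mul]
    rw [hval]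
    intro hS
    rcases zero_or_one H B Fr hy2 with hy0 | hy1
    · -- y = 0
      have e : t • v₂ + (1 + ω ^ 2 * y) • (1 + w * ρ) • v₁
          = ((1 : K) • v₁ + t • v₂) + ω • (ρ • v₁ + (0 : K) • v₂) := by
        rw [hy0, mul_zero, add_zero, one_smul, ← algebraMap_smul K ω (ρ • v₁ + (0 : K) • v₂), ← hw,
          add_smul, zero_smul, add_zero, one_smul, mul_smul]
        abel
      rw [e] at hS
      rcases Fr.mem_SS_cases H B ω hω (Fr.mem_V0_of_coords H B hσ1 ht) (Fr.mem_V0_of_coords H B hρ hσ0) hS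
        with hc | hc | hc
      · have := congrArg (fun v => β v v₂) hc
        rw [Fr.coord1 H B, B.zero_left H] at this
        exact hρ0 this
      · have := congrArg (fun v => β v v₂) hc
        rw [Fr.coord1 H B, B.zero_left H] at this
        exact one_ne_zero this
      · have := congrArg (fun v => β v v₂) hc
        rw [Fr.coord1 H B, Fr.coord1 H B] at this
        exact hρ1 this.symm
    · -- y = 1
      have e : t • v₂ + (1 + ω ^ 2 * y) • (1 + w * ρ) • v₁
          = (ρ • v₁ + t • v₂) + ω • ((1 + ρ) • v₁ + (0 : K) • v₂) := by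
        rw [hy1, mul_one, hω1, ← algebraMap_smul K ω ((1 + ρ) • v₁ + (0 : K) • v₂),
          ← algebraMap_smul K ω ((1 + w * ρ) • v₁), ← hw, zero_smul, add_zero, smul_smul, smul_smul]
        have e2 : w * (1 + w * ρ) = ρ + w * (1 + ρ) := by
          have : w * (1 + w * ρ) = w + w ^ 2 * ρ := by ring
          rw [this, hw2]; ring
        rw [e2, add_smul]
        abel
      rw [e] at hS
      rcases Fr.mem_SS_cases H B ω hω (Fr.mem_V0_of_coords H B hρ ht) (Fr.mem_V0_of_coords H B hσ1ρ hσ0) hS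
        with hc | hc | hc
      · have := congrArg (fun v => β v v₂) hc
        rw [Fr.coord1 H B, B.zero_left H] at this
        apply hρ1
        have h2 : ρ = -1 := eq_neg_of_add_eq_zero_right this
        rw [h2]
        exact neg_eq_of_add_eq_zero_left (H.add_selfK 1)
      · have := congrArg (fun v => β v v₂) hc
        rw [Fr.coord1 H B, B.zero_left H] at this
        exact hρ0 this
      · have := congrArg (fun v => β v v₂) hc
        rw [Fr.coord1 H B, Fr.coord1 H B] at this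
        have : (1 : K) = 0 := by
          have h3 : ρ + 0 = ρ + 1 := by rw [add_zero, add_comm]; exact this
          exact (add_left_cancel h3).symm
        exact one_ne_zero this

end Frame

end Cfsg.Agent.Lead.SU6Field
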