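import Cfsg.Agent.Lead.SU6FieldD
import Cfsg.Agent.Helper3.SU6FldA

/-!
# S5802, the degree-three field at `q = 2` (lead), abstract part E

The determinant step: a linear map of determinant one mapping `V₀` into `a • V₀` has `a ∈ F* K₀*`.
-/

set_option autoImplicit false
set_option linter.unusedSectionVars false
set_option linter.unusedVariables false

namespace Cfsg.Agent.Lead.SU6Field

open Cfsg.Agent.Lead.FieldQuad

variable {F K V : Type*} [Field F] [Field K] [Algebra F K] [AddCommGroup V] [Module F V] [Module K V]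
  [IsScalarTower F K V]

/-- multiplication by an element of `K` as an `F`-linear map -/
noncomputable def mulK (a : K) : V →ₗ[F] V := (a • (LinearMap.id : V →ₗ[K] V)).restrictScalars F

theorem mulK_apply (a : K) (v : V) : mulK (F := F) a v = a • v := rfl

theorem det_mulK [FiniteDimensional F K] [Module.Free K V] (a : K) :
    LinearMap.det (mulK (F := F) (V := V) a) = Algebra.norm F (a ^ Module.finrank K V) := by
  unfold mulK
  rw [LinearMap.det_restrictScalars, LinearMap.det_smul, LinearMap.det_id, mul_one]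

namespace Frame

variable {σ : K → K} {h : V → V → F} {θ : K →ₗ[F] F} {β : V → V → K} {v₁ v₂ : V}
  (H : Herm σ h) (B : KForm σ h θ β) (Fr : Frame β v₁ v₂)
include H B Fr

/-- `J` as an additive map -/
noncomputable def Jhom : V →+ V where
  toFun := JJ σ β v₁ v₂
  map_zero' := by
    unfold JJ
    rw [B.zero_left H, B.zero_left H, H.σ_zero, zero_smul, zero_smul, add_zero]
  map_add' := Fr.JJ_add H B

theorem Jhom_apply (v : V) : Jhom H B Fr v = JJ σ β v₁ v₂ v := rfl

/-- `V₀` spans -/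
theorem span_V0 (ω : F) (hω : ω ^ 2 + ω + 1 = 0) : ⊤ ≤ Submodule.span F (V0 σ β v₁ v₂) := by
  intro v _
  obtain ⟨p, hp, q, hq, rfl⟩ := Fr.exists_decomp H B ω hω v
  exact Submodule.add_mem _ (Submodule.subset_span hp) (Submodule.smul_mem _ _ (Submodule.subset_span hq))

/-- coordinates of `J v` in a basis inside `V₀` -/
theorem repr_JJ {ι : Type*} [Fintype ι] (b : Module.Basis ι F V) (hb : ∀ i, b i ∈ V0 σ β v₁ v₂) (v : V) (i : ι) :
    b.repr (JJ σ β v₁ v₂ v) i = (b.repr v i) ^ 2 := by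
  have e1 : JJ σ β v₁ v₂ v = ∑ j, ((b.repr v j) ^ 2) • b j := by
    conv_lhs => rw [← b.sum_repr v]
    rw [← Jhom_apply H B Fr, map_sum]
    refine Finset.sum_congr rfl (fun j _ => ?_)
    rw [Jhom_apply, Fr.JJ_smul H B, (Fr.JJ_eq_iff H B (b j)).mpr (hb j)]
  rw [e1, b.repr_sum_self]

/-- a linear map preserving `V₀` has determinant in the prime field -/
theorem det_sq_of_preserves [Module.Finite F V] (ω : F) (hω : ω ^ 2 + ω + 1 = 0) (f : V →ₗ[F] V)
    (hf : ∀ v ∈ V0 σ β v₁ v₂, f v ∈ V0 σ β v₁ v₂) : LinearMap.det f ^ 2 = LinearMap.det f := by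
  classical
  set b := Module.Basis.ofSpan (span_V0 H B Fr ω hω) with hbdef
  have hb : ∀ i, b i ∈ V0 σ β v₁ v₂ := fun i =>
    Module.Basis.ofSpan_subset (span_V0 H B Fr ω hω) ⟨i, rfl⟩
  haveI : Finite _ := Module.Finite.finite_basis b
  letI := Fintype.ofFinite ((linearIndepOn_empty F id).extend (Set.empty_subset (V0 σ β v₁ v₂)))
  haveI : CharP F 2 := CharTwo.of_one_ne_zero_of_two_eq_zero one_ne_zero H.two
  have hM : ∀ i j, (LinearMap.toMatrix b b f i j) ^ 2 = LinearMap.toMatrix b b f i j := by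
    intro i j
    rw [LinearMap.toMatrix_apply, ← repr_JJ H B Fr b hb, (Fr.JJ_eq_iff H B _).mpr (hf _ (hb j))]
  rw [← LinearMap.det_toMatrix b f]
  have e := RingHom.map_det (frobenius F 2) (LinearMap.toMatrix b b f)
  rw [frobenius_def] at e
  rw [e]
  congr 1
  ext i j
  rw [RingHom.mapMatrix_apply, Matrix.map_apply, frobenius_def, hM]

/-- (D2) **the determinant step** -/
theorem coset_of_det [Finite K] (hK : Nat.card K = 64) (hF : Nat.card F = 4) (hd : Module.finrank K V = 2)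
    (ω : F) (hω : ω ^ 2 + ω + 1 = 0) (g : V →ₗ[F] V) (hdet : LinearMap.det g = 1) (a : K) (ha : a ≠ 0)
    (hg : ∀ v ∈ V0 σ β v₁ v₂, ∃ v' ∈ V0 σ β v₁ v₂, g v = a • v') :
    ∃ (c₀ : F) (k₀ : K), σ k₀ = k₀ ∧ a = algebraMap F K c₀ * k₀ := by
  haveI : FiniteDimensional F K := Module.Finite.of_finite
  haveI : Module.Finite K V := Module.finite_of_finrank_pos (by rw [hd]; norm_num)
  haveI : Module.Finite F V := Module.Finite.trans K V
  set f : V →ₗ[F] V := mulK a⁻¹ ∘ₗ g with hf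
  have hfV : ∀ v ∈ V0 σ β v₁ v₂, f v ∈ V0 σ β v₁ v₂ := by
    intro v hv
    obtain ⟨v', hv', e⟩ := hg v hv
    rw [hf, LinearMap.comp_apply, mulK_apply, e, smul_smul, inv_mul_cancel₀ ha, one_smul]
    exact hv'
  have hgf : g = mulK a ∘ₗ f := by
    ext v
    rw [hf, LinearMap.comp_apply, LinearMap.comp_apply, mulK_apply, mulK_apply, smul_smul,
      mul_inv_cancel₀ ha, one_smul]
  have hdf := det_sq_of_preserves H B Fr ω hω f hfV
  have h1 : LinearMap.det (mulK (F := F) (V := V) a) * LinearMap.det f = 1 := by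
    rw [← LinearMap.det_comp, ← hgf, hdet]
  have hf1 : LinearMap.det f = 1 := by
    rcases zero_or_one H B Fr hdf with h0 | h0
    · rw [h0, mul_zero] at h1
      exact absurd h1 zero_ne_one
    · exact h0
  rw [hf1, mul_one, det_mulK, hd] at h1
  have h2 := FiniteField.algebraMap_norm_eq_pow (K := F) (K' := K) (x := a ^ 2)
  rw [h1, map_one, hK, hF] at h2
  have h42 : a ^ 42 = 1 := by
    rw [h2, ← pow_mul]
  have h63 := Cfsg.Agent.Helper3.SU6Fld.pow_63 hK ha
  have h21 : a ^ 21 = 1 := by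
    have : a ^ 63 = a ^ 42 * a ^ 21 := by rw [← pow_add]
    rw [h63, h42, one_mul] at this
    exact this.symm
  -- σ is the eighth power
  obtain ⟨hω2, hω3, hω1, hω0⟩ := omega_facts H B Fr ω hω
  let σe : K ≃+* K :=
    { toFun := σ, invFun := σ, left_inv := H.σ_σ, right_inv := H.σ_σ, map_mul' := H.σ_mul, map_add' := H.σ_add }
  have hσ8 : ∀ x, σ x = x ^ 8 := by
    refine Cfsg.Agent.Helper3.SU6Fld.sigma_eq_pow64 hK σe H.σ_σ ⟨algebraMap F K ω, ?_⟩
    change σ (algebraMap F K ω) ≠ algebraMap F K ω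
    rw [H.σ_alg]
    intro he
    have := (algebraMap F K).injective he
    rw [hω2] at this
    have h0 : (1 : F) = 0 := by
      have : (1 : F) + ω = 0 + ω := by rw [zero_add]; exact this
      exact add_right_cancel this
    exact one_ne_zero h0
  set w : K := algebraMap F K ω with hw
  have hw2 : w ^ 2 + w + 1 = 0 := by
    rw [hw, ← map_pow, ← map_add, ← map_one (algebraMap F K), ← map_add, hω, map_zero]
  have hc3 : (a ^ 7) ^ 3 = 1 := by rw [← pow_mul]; exact h21
  have hk8 : σ (a ^ 15) = a ^ 15 := by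
    rw [hσ8, ← pow_mul]
    have : a ^ (15 * 8) = (a ^ 21) ^ 5 * a ^ 15 := by rw [← pow_mul, ← pow_add]
    rw [this, h21, one_pow, one_mul]
  have hsplit : a = a ^ 7 * a ^ 15 := by
    have : a ^ 7 * a ^ 15 = a ^ 21 * a := by rw [← pow_add, ← pow_succ]
    rw [this, h21, one_mul]
  rcases Cfsg.Agent.Helper3.SU6Fld.cube_root_cases hw2 hc3 with hc | hc | hc
  · exact ⟨1, a ^ 15, hk8, by rw [map_one, ← hc]; exact hsplit⟩
  · exact ⟨ω, a ^ 15, hk8, by rw [← hw, ← hc]; exact hsplit⟩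
  · exact ⟨ω ^ 2, a ^ 15, hk8, by rw [map_pow, ← hw, ← hc]; exact hsplit⟩

/-- a determinant-one semilinear isometry preserves `S` -/
theorem isometry_mem_SS [Finite K] (hK : Nat.card K = 64) (hF : Nat.card F = 4) (hd : Module.finrank K V = 2)
    (ω : F) (hω : ω ^ 2 + ω + 1 = 0) (g : V →ₗ[F] V) (hdet : LinearMap.det g = 1) (α : K ≃+* K)
    (g_smul : ∀ (k : K) v, g (k • v) = α k • g v) (g_h : ∀ u v, h (g u) (g v) = h u v)
    (hασ : ∀ k, σ (α k) = α (σ k)) {x : V} (hx : x ∈ SS (F := F) σ β v₁ v₂) :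
    g x ∈ SS (F := F) σ β v₁ v₂ := by
  obtain ⟨a, ha, hga⟩ := Fr.image_V0 H B ω hω g α (fun u v => map_add g u v) g_smul g_h hασ
  obtain ⟨c₀, k₀, hk₀, hak⟩ := coset_of_det H B Fr hK hF hd ω hω g hdet a ha hga
  obtain ⟨c, v, hv, rfl⟩ := hx
  obtain ⟨v', hv', e⟩ := hga v hv
  rw [map_smul, e, hak]
  exact smul_mem_SS H B Fr c (smulK_mem_SS H B Fr c₀ hk₀ (mem_SS_of_mem_V0 H B Fr hv'))

end Frame

end Cfsg.Agent.Lead.SU6Field
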