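import Cfsg.Agent.Lead.SU6FieldE

/-!
# S5802, the degree-three field at `q = 2` (lead), abstract part F: the abstract main statement
-/

set_option autoImplicit false
set_option linter.unusedSectionVars false
set_option linter.unusedVariables false
set_option linter.style.haveILetI false

namespace Cfsg.Agent.Lead.SU6Field

open Cfsg.Agent.Lead.FieldQuad

variable {F K V : Type*} [Field F] [Field K] [Algebra F K] [AddCommGroup V] [Module F V] [Module K V]
  [IsScalarTower F K V]

/-- **the abstract main statement**: a set stable under the determinant-one semilinear isometries and under a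
transvection, and moved by another transvection -/
theorem abstract_main [Finite K] (hK : Nat.card K = 64) (hF : Nat.card F = 4) (hd : Module.finrank K V = 2)
    {σ : K → K} {h : V → V → F} (H : Herm σ h) (ω : F) (hω : ω ^ 2 + ω + 1 = 0) :
    ∃ S : Set V,
      (∀ g : V →ₗ[F] V, LinearMap.det g = 1 → ∀ α : K ≃+* K, (∀ (k : K) v, g (k • v) = α k • g v) →
        (∀ u v, h (g u) (g v) = h u v) → (∀ k, σ (α k) = α (σ k)) → ∀ x ∈ S, g x ∈ S) ∧
      (∃ b : V, b ≠ 0 ∧ h b b = 0 ∧ ∀ x ∈ S, x + h x b • b ∈ S) ∧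
      (∃ s p : V, h s s = 0 ∧ p ∈ S ∧ p + h p s • s ∉ S) := by
  haveI : FiniteDimensional F K := Module.Finite.of_finite
  haveI : Nontrivial V := Module.nontrivial_of_finrank_pos (R := K) (by rw [hd]; norm_num)
  obtain ⟨θ, β, x₁, B, hx₁⟩ := H.exists_kform ω hω
  obtain ⟨v₁, v₂, b11, b22, b12, rep⟩ := B.exists_hyperbolic H hd ω hω x₁ hx₁
  have Fr : Frame β v₁ v₂ := ⟨b11, b22, b12, rep⟩
  -- an element outside the scalars
  obtain ⟨k, hk⟩ : ∃ k : K, ∀ c : F, algebraMap F K c ≠ k := by
    by_contra hcon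
    push Not at hcon
    have hsurj : Function.Surjective (algebraMap F K) := hcon
    haveI : Finite F := Nat.finite_of_card_ne_zero (by rw [hF]; norm_num)
    have := Nat.card_le_card_of_surjective _ hsurj
    rw [hK, hF] at this
    omega
  refine ⟨SS (F := F) σ β v₁ v₂, ?_, ?_, ?_⟩
  · intro g hdet α g_smul g_h hασ x hx
    exact Fr.isometry_mem_SS H B hK hF hd ω hω g hdet α g_smul g_h hασ hx
  · have hv₁ : v₁ ∈ V0 σ β v₁ v₂ := by
      have e : (1 : K) • v₁ + (0 : K) • v₂ = v₁ := by rw [one_smul, zero_smul, add_zero]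
      have := Fr.mem_V0_of_coords H B H.σ_one H.σ_zero
      rwa [e] at this
    refine ⟨v₁, ?_, Fr.h_self H B hv₁, fun x hx => Fr.transv_mem_SS H B hv₁ hx⟩
    intro h0
    rw [h0, B.zero_left H] at b12
    exact zero_ne_one b12
  · obtain ⟨s, p, hs, hp, hps⟩ := Fr.exists_witness H B ω hω k hk
    exact ⟨s, p, hs, Fr.mem_SS_of_mem_V0 H B hp, hps⟩

end Cfsg.Agent.Lead.SU6Field
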