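import Mathlib
import Cfsg.Prelude.Def_GeometricClasses
import Cfsg.Agent.Helper8.GUOrder
import Cfsg.Agent.Lead.SLDecompE

set_option autoImplicit false

/-! # Decompositions of the unitary space over the field with four elements into non-degenerate
planes, part A: the geometry of a plane -/

namespace Cfsg.Agent.Lead.SUDecomp

open Matrix Cfsg Cfsg.Geo Cfsg.Agent.Helper7.Herm Cfsg.Agent.Helper8.GUOrder

variable {F : Type*} [Field F] [Fintype F] {n t : ℕ}

theorem card_sq (hF : Fintype.card F = 4) : Fintype.card F = 2 ^ 2 := by rw [hF]; norm_num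

theorem two_eq_zero (hF : Fintype.card F = 4) : (2 : F) = 0 :=
  Cfsg.Agent.Lead.SLDecomp.two_eq_zero_of_card (Or.inr hF)

theorem add_self_eq_zero' (hF : Fintype.card F = 4) (a : F) : a + a = 0 := by
  linear_combination a * two_eq_zero hF

theorem vadd_self (hF : Fintype.card F = 4) (v : Fin n → F) : v + v = 0 := by
  ext i; exact add_self_eq_zero' hF (v i)

theorem pow_three (hF : Fintype.card F = 4) (a : F) (ha : a ≠ 0) : a ^ 3 = 1 := by
  have := FiniteField.pow_card_sub_one_eq_one a ha
  rw [hF] at this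
  exact this

/-- the norm of a vector is `0` or `1` -/
theorem herm_self (hF : Fintype.card F = 4) (v : Fin n → F) :
    hermForm n F 2 v v = 0 ∨ hermForm n F 2 v v = 1 := by
  have h := hermForm_swap (card_sq hF) v v
  have h2 : hermForm n F 2 v v * (hermForm n F 2 v v - 1) = 0 := by
    linear_combination -h
  rcases mul_eq_zero.1 h2 with h3 | h3
  · exact Or.inl h3
  · exact Or.inr (sub_eq_zero.1 h3)

theorem herm_zero_right (v : Fin n → F) : hermForm n F 2 v 0 = 0 := by
  unfold hermForm; simp

theorem herm_zero_left (v : Fin n → F) : hermForm n F 2 0 v = 0 := by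
  unfold hermForm; simp

theorem herm_swap_zero (hF : Fintype.card F = 4) (u v : Fin n → F) (h : hermForm n F 2 u v = 0) :
    hermForm n F 2 v u = 0 := by
  rw [hermForm_swap (card_sq hF), h]; ring

/-- a non-degenerate plane contains a vector of norm one -/
theorem exists_aniso (hF : Fintype.card F = 4) (W : Submodule F (Fin n → F))
    (hdim : Module.finrank F W = 2) (hW : IsNondegenerateOn (hermForm n F 2) W) :
    ∃ v ∈ W, hermForm n F 2 v v = 1 := by
  by_contra hcon
  push Not at hcon
  have hall : ∀ v ∈ W, hermForm n F 2 v v = 0 := fun v hv =>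
    (herm_self hF v).resolve_right (hcon v hv)
  have hpos : 0 < Module.finrank F W := by rw [hdim]; norm_num
  obtain ⟨w, hw⟩ := Module.finrank_pos_iff_exists_ne_zero.1 hpos
  have hw0 : (w : Fin n → F) ≠ 0 := fun h0 => hw (Subtype.ext h0)
  obtain ⟨⟨x, hx, hxne⟩, _⟩ := hW w w.2 hw0
  obtain ⟨μ, hμ⟩ := exists_not_fixed (card_sq hF)
  have hK := card_sq hF
  obtain ⟨a, ha⟩ : ∃ a, a = hermForm n F 2 x (w : Fin n → F) := ⟨_, rfl⟩
  have key := hall ((μ * a⁻¹) • x + (w : Fin n → F))
    (W.add_mem (W.smul_mem _ hx) w.2)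
  rw [hermForm_add_left, hermForm_add_right hK, hermForm_add_right hK, hermForm_smul_left,
    hermForm_smul_left, hermForm_smul_right, hermForm_smul_right, hall x hx, hall w w.2,
    hermForm_swap hK (w : Fin n → F) x, ← ha] at key
  have ha0 : a ≠ 0 := by rw [ha]; exact hxne
  apply hμ
  have h2 := two_eq_zero hF
  have : μ ^ 2 - μ = 0 := by
    have e1 : μ * a⁻¹ * a = μ := by field_simp
    have e2 : (μ * a⁻¹) ^ 2 * a ^ 2 = μ ^ 2 := by field_simp
    linear_combination key - e1 - e2 - μ * h2
  exact sub_eq_zero.1 this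

/-- in a non-degenerate plane, two vectors of norm one are proportional or orthogonal -/
theorem aniso_class (hF : Fintype.card F = 4) (W : Submodule F (Fin n → F))
    (hdim : Module.finrank F W = 2) (hW : IsNondegenerateOn (hermForm n F 2) W)
    (x v : Fin n → F) (hx : x ∈ W) (hv : v ∈ W) (hxx : hermForm n F 2 x x = 1)
    (hvv : hermForm n F 2 v v = 1) :
    hermForm n F 2 v x = 0 ∨ v = hermForm n F 2 v x • x := by
  have hK := card_sq hF
  obtain ⟨a, ha⟩ : ∃ a, a = hermForm n F 2 v x := ⟨_, rfl⟩
  rw [← ha]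
  by_cases ha0 : a = 0
  · exact Or.inl ha0
  right
  obtain ⟨w, hwdef⟩ : ∃ w, w = v - a • x := ⟨_, rfl⟩
  have hwW : w ∈ W := by rw [hwdef]; exact W.sub_mem hv (W.smul_mem _ hx)
  have hwx : hermForm n F 2 w x = 0 := by
    rw [hwdef, hermForm_sub_left, hermForm_smul_left, hxx, ← ha]; ring
  have hxw : hermForm n F 2 x w = 0 := herm_swap_zero hF _ _ hwx
  have hww : hermForm n F 2 w w = 0 := by
    have h1 : hermForm n F 2 w w = hermForm n F 2 w v - a ^ 2 * hermForm n F 2 w x := by
      conv_lhs => rw [hwdef]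
      rw [hermForm_sub_right hK, hermForm_smul_right, ← hwdef]
    rw [h1, hwx, mul_zero, sub_zero, hwdef, hermForm_sub_left, hermForm_smul_left, hvv,
      hermForm_swap hK x v, ← ha]
    have := pow_three hF a ha0
    linear_combination -this
  by_contra hne
  have hw0 : w ≠ 0 := by
    intro h0
    apply hne
    rw [hwdef] at h0
    exact sub_eq_zero.1 h0
  -- `x, w` is a basis of `W`
  have hli : LinearIndependent F ![x, w] := by
    rw [LinearIndependent.pair_iff]
    intro α β hαβ
    have h1 := congrArg (fun z => hermForm n F 2 z x) hαβ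
    simp only [hermForm_add_left, hermForm_smul_left, hxx, hwx, herm_zero_left, mul_one, mul_zero,
      add_zero] at h1
    refine ⟨h1, ?_⟩
    rw [h1, zero_smul, zero_add] at hαβ
    rcases smul_eq_zero.1 hαβ with h | h
    · exact h
    · exact absurd h hw0
  have hspan_le : Submodule.span F (Set.range ![x, w]) ≤ W := by
    rw [Submodule.span_le]
    rintro _ ⟨i, rfl⟩
    fin_cases i
    · exact hx
    · exact hwW
  have hfr : Module.finrank F (Submodule.span F (Set.range ![x, w])) = 2 := by
    rw [finrank_span_eq_card hli]; simp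
  have hspan : Submodule.span F (Set.range ![x, w]) = W :=
    Submodule.eq_of_le_of_finrank_eq hspan_le (by rw [hfr, hdim])
  obtain ⟨⟨z, hz, hzne⟩, _⟩ := hW w hwW hw0
  rw [← hspan] at hz
  have hrange : Set.range ![x, w] = {x, w} := by
    ext z
    simp only [Set.mem_range, Set.mem_insert_iff, Set.mem_singleton_iff]
    constructor
    · rintro ⟨i, rfl⟩
      fin_cases i
      · left; rfl
      · right; rfl
    · rintro (rfl | rfl)
      · exact ⟨0, rfl⟩
      · exact ⟨1, rfl⟩
  rw [hrange, Submodule.mem_span_pair] at hz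
  obtain ⟨α, β, rfl⟩ := hz
  apply hzne
  rw [hermForm_add_left, hermForm_smul_left, hermForm_smul_left, hxw, hww]; ring

end Cfsg.Agent.Lead.SUDecomp
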