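import Mathlib
import Cfsg.Agent.Lead.SUDecompA

set_option autoImplicit false

/-! # Decompositions of the unitary space over the field with four elements into non-degenerate
planes, part B: the intermediate subgroup -/

namespace Cfsg.Agent.Lead.SUDecomp

open Matrix Cfsg Cfsg.Geo Cfsg.Agent.Helper7.Herm Cfsg.Agent.Helper8.GUOrder

variable {F : Type*} [Field F] [Fintype F] {n t : ℕ}

/-- the unitary transvection attached to an isotropic vector, as an element of `GL` -/
noncomputable def tu (hF : Fintype.card F = 4) (u : Fin n → F) (hu : hermForm n F 2 u u = 0) :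
    Matrix.GeneralLinearGroup (Fin n) F :=
  TG (q := 2) u 1 (by rw [hu]; linear_combination two_eq_zero hF)

theorem tu_mulVec (hF : Fintype.card F = 4) (u : Fin n → F) (hu : hermForm n F 2 u u = 0)
    (x : Fin n → F) :
    ((tu hF u hu : Matrix.GeneralLinearGroup (Fin n) F) : Matrix (Fin n) (Fin n) F) *ᵥ x =
      x + hermForm n F 2 x u • u := by
  show unitaryTransvection n 2 u 1 *ᵥ x = _
  rw [unitaryTransvection_mulVec, one_mul]

theorem tu_mem_GU (hF : Fintype.card F = 4) (u : Fin n → F) (hu : hermForm n F 2 u u = 0) :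
    tu hF u hu ∈ GU n F 2 := TG_mem (card_sq hF) _ _ _

theorem tu_det (hF : Fintype.card F = 4) (u : Fin n → F) (hu : hermForm n F 2 u u = 0) :
    ((tu hF u hu : Matrix.GeneralLinearGroup (Fin n) F) : Matrix (Fin n) (Fin n) F).det = 1 := by
  show (unitaryTransvection n 2 u 1).det = 1
  unfold unitaryTransvection
  rw [← Matrix.smul_vecMulVec, Matrix.vecMulVec_eq (Fin 1),
    Matrix.det_one_add_replicateCol_mul_replicateRow, dotProduct_smul, dotProduct_comm]
  rw [hermForm_eq_dot] at hu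
  rw [hu, smul_zero, add_zero]

theorem tu_mem_SL (hF : Fintype.card F = 4) (u : Fin n → F) (hu : hermForm n F 2 u u = 0) :
    tu hF u hu ∈ specialLinear (Fin n) F := by
  rw [Cfsg.Agent.Lead.SLDecomp.mem_specialLinear_iff]
  exact tu_det hF u hu

theorem tu_sq (hF : Fintype.card F = 4) (u : Fin n → F) (hu : hermForm n F 2 u u = 0)
    (x : Fin n → F) :
    ((tu hF u hu : Matrix.GeneralLinearGroup (Fin n) F) : Matrix (Fin n) (Fin n) F) *ᵥ
      (((tu hF u hu : Matrix.GeneralLinearGroup (Fin n) F) : Matrix (Fin n) (Fin n) F) *ᵥ x) = x := by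
  rw [tu_mulVec, tu_mulVec, hermForm_add_left, hermForm_smul_left, hu, mul_zero, add_zero, add_assoc,
    ← add_smul, add_self_eq_zero' hF, zero_smul, add_zero]

variable {D : Fin t → Submodule F (Fin n → F)}

/-- the vectors of norm one in the planes -/
def XX (D : Fin t → Submodule F (Fin n → F)) : Set (Fin n → F) :=
  {v | ∃ i, v ∈ D i ∧ hermForm n F 2 v v ≠ 0}

/-- the intermediate subgroup -/
def KK (D : Fin t → Submodule F (Fin n → F)) : Subgroup (Matrix.GeneralLinearGroup (Fin n) F) :=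
  stabilizing (glToMat (Fin n) F) (XX D) ⊓ (GU n F 2 ⊓ specialLinear (Fin n) F)

theorem mem_stabilizing_iff (S : Set (Fin n → F)) (g : Matrix.GeneralLinearGroup (Fin n) F) :
    g ∈ stabilizing (glToMat (Fin n) F) S ↔
      ∀ v, v ∈ S ↔ (g : Matrix (Fin n) (Fin n) F) *ᵥ v ∈ S := Iff.rfl

theorem mem_GU_iff' (g : Matrix.GeneralLinearGroup (Fin n) F) :
    g ∈ GU n F 2 ↔ ∀ u v, hermForm n F 2 ((g : Matrix (Fin n) (Fin n) F) *ᵥ u)
      ((g : Matrix (Fin n) (Fin n) F) *ᵥ v) = hermForm n F 2 u v := Iff.rfl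

theorem stab_le (D : Fin t → Submodule F (Fin n → F)) :
    decompositionStabilizer D ⊓ (GU n F 2 ⊓ specialLinear (Fin n) F) ≤ KK D := by
  rintro g ⟨⟨σ, hσ⟩, hg⟩
  have hgU := (mem_GU_iff' g).1 hg.1
  refine ⟨(mem_stabilizing_iff _ _).2 ?_, hg⟩
  intro v
  constructor
  · rintro ⟨i, hvi, hne⟩
    refine ⟨σ i, ?_, ?_⟩
    · rw [← hσ i]; exact ⟨v, hvi, Matrix.toLin'_apply _ _⟩
    · rw [hgU]; exact hne
  · rintro ⟨j, hgv, hne⟩
    have h1 := hσ (σ.symm j)
    rw [Equiv.apply_symm_apply] at h1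
    rw [← h1] at hgv
    obtain ⟨v', hv', hv'eq⟩ := hgv
    rw [Matrix.toLin'_apply] at hv'eq
    have := Cfsg.Agent.Lead.SLDecomp.mulVec_injective g hv'eq
    subst this
    rw [hgU] at hne
    exact ⟨σ.symm j, hv', hne⟩

theorem KK_le (D : Fin t → Submodule F (Fin n → F)) :
    KK D ≤ GU n F 2 ⊓ specialLinear (Fin n) F := fun _ h => h.2

theorem norm_eq_one (hF : Fintype.card F = 4) (v : Fin n → F) (h : hermForm n F 2 v v ≠ 0) :
    hermForm n F 2 v v = 1 := (herm_self hF v).resolve_left h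

/-- the swap of two vectors of norm one in different planes: the case of a vector of the first
plane -/
theorem swap_maps_aux (hF : Fintype.card F = 4)
    (hD : IsNondegenerateMDecomposition (hermForm n F 2) 2 D) (i0 i1 : Fin t) (h01 : i0 ≠ i1)
    (x y : Fin n → F) (hx : x ∈ D i0) (hy : y ∈ D i1) (hxx : hermForm n F 2 x x = 1)
    (hyy : hermForm n F 2 y y = 1) (v : Fin n → F) (hv : v ∈ D i0)
    (hvv : hermForm n F 2 v v ≠ 0) :
    v + hermForm n F 2 v (x + y) • (x + y) ∈ XX D := by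
  have hK := card_sq hF
  have hvy : hermForm n F 2 v y = 0 := hD.orthogonal i0 i1 h01 v hv y hy
  rcases aniso_class hF (D i0) (hD.decomp.finrank_eq i0) (hD.nondegenerate i0) x v hx hv hxx
    (norm_eq_one hF v hvv) with h | h
  · rw [hermForm_add_right hK, h, hvy, add_zero, zero_smul, add_zero]
    exact ⟨i0, hv, hvv⟩
  · obtain ⟨a, ha⟩ : ∃ a, a = hermForm n F 2 v x := ⟨_, rfl⟩
    rw [← ha] at h
    have h2 : v + hermForm n F 2 v (x + y) • (x + y) = a • y := by
      rw [hermForm_add_right hK, hvy, add_zero, ← ha, h, smul_add, ← add_assoc, ← add_smul,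
        add_self_eq_zero' hF, zero_smul, zero_add]
    rw [h2]
    refine ⟨i1, (D i1).smul_mem _ hy, ?_⟩
    rw [hermForm_smul_left, hermForm_smul_right, hyy]
    rw [h, hermForm_smul_left, hermForm_smul_right, hxx] at hvv
    exact hvv

theorem swap_maps (hF : Fintype.card F = 4)
    (hD : IsNondegenerateMDecomposition (hermForm n F 2) 2 D) (i0 i1 : Fin t) (h01 : i0 ≠ i1)
    (x y : Fin n → F) (hx : x ∈ D i0) (hy : y ∈ D i1) (hxx : hermForm n F 2 x x = 1)
    (hyy : hermForm n F 2 y y = 1) (v : Fin n → F) (hv : v ∈ XX D) :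
    v + hermForm n F 2 v (x + y) • (x + y) ∈ XX D := by
  have hK := card_sq hF
  obtain ⟨i, hvi, hvv⟩ := hv
  by_cases hi0 : i = i0
  · subst hi0
    exact swap_maps_aux hF hD i i1 h01 x y hx hy hxx hyy v hvi hvv
  by_cases hi1 : i = i1
  · subst hi1
    rw [add_comm x y]
    exact swap_maps_aux hF hD i i0 (Ne.symm h01) y x hy hx hyy hxx v hvi hvv
  · rw [hermForm_add_right hK, hD.orthogonal i i0 hi0 v hvi x hx,
      hD.orthogonal i i1 hi1 v hvi y hy, add_zero, zero_smul, add_zero]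
    exact ⟨i, hvi, hvv⟩

theorem norm_add (hF : Fintype.card F = 4)
    (hD : IsNondegenerateMDecomposition (hermForm n F 2) 2 D) (i0 i1 : Fin t) (h01 : i0 ≠ i1)
    (x y : Fin n → F) (hx : x ∈ D i0) (hy : y ∈ D i1) (hxx : hermForm n F 2 x x = 1)
    (hyy : hermForm n F 2 y y = 1) : hermForm n F 2 (x + y) (x + y) = 0 := by
  rw [hermForm_add_left, hermForm_add_right (card_sq hF), hermForm_add_right (card_sq hF), hxx, hyy,
    hD.orthogonal i0 i1 h01 x hx y hy, hD.orthogonal i1 i0 (Ne.symm h01) y hy x hx]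
  linear_combination two_eq_zero hF

/-- the swap lies in the intermediate subgroup -/
theorem swap_mem_KK (hF : Fintype.card F = 4)
    (hD : IsNondegenerateMDecomposition (hermForm n F 2) 2 D) (i0 i1 : Fin t) (h01 : i0 ≠ i1)
    (x y : Fin n → F) (hx : x ∈ D i0) (hy : y ∈ D i1) (hxx : hermForm n F 2 x x = 1)
    (hyy : hermForm n F 2 y y = 1) :
    tu hF (x + y) (norm_add hF hD i0 i1 h01 x y hx hy hxx hyy) ∈ KK D := by
  refine ⟨(mem_stabilizing_iff _ _).2 ?_, tu_mem_GU hF _ _, tu_mem_SL hF _ _⟩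
  intro v
  constructor
  · intro hv
    rw [tu_mulVec]
    exact swap_maps hF hD i0 i1 h01 x y hx hy hxx hyy v hv
  · intro hv
    have := swap_maps hF hD i0 i1 h01 x y hx hy hxx hyy _ hv
    rw [← tu_mulVec hF (x + y) (norm_add hF hD i0 i1 h01 x y hx hy hxx hyy), tu_sq] at this
    exact this

/-- the swap does not stabilise the decomposition -/
theorem swap_not_stab (hF : Fintype.card F = 4)
    (hD : IsNondegenerateMDecomposition (hermForm n F 2) 2 D) (i0 i1 : Fin t) (h01 : i0 ≠ i1)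
    (x y : Fin n → F) (hx : x ∈ D i0) (hy : y ∈ D i1) (hxx : hermForm n F 2 x x = 1)
    (hyy : hermForm n F 2 y y = 1) :
    tu hF (x + y) (norm_add hF hD i0 i1 h01 x y hx hy hxx hyy) ∉ decompositionStabilizer D := by
  have hK := card_sq hF
  rintro ⟨σ, hσ⟩
  have hxy : hermForm n F 2 x y = 0 := hD.orthogonal i0 i1 h01 x hx y hy
  -- the image of `x` is `y`
  have h1 : y ∈ D (σ i0) := by
    rw [← hσ i0]
    refine ⟨x, hx, ?_⟩
    rw [Matrix.toLin'_apply, tu_mulVec, hermForm_add_right hK, hxx, hxy, add_zero, one_smul,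
      ← add_assoc, vadd_self hF, zero_add]
  have hσ0 : σ i0 = i1 := by
    by_contra hne
    have := hD.orthogonal (σ i0) i1 hne y h1 y hy
    rw [hyy] at this
    exact one_ne_zero this
  -- a non-zero vector of the first plane orthogonal to `x`
  have hlt : Submodule.span F {x} < D i0 := by
    refine lt_of_le_of_ne ((Submodule.span_singleton_le_iff_mem x (D i0)).2 hx) ?_
    intro heq
    have h2 := hD.decomp.finrank_eq i0
    rw [← heq] at h2
    have h3 := finrank_span_singleton (K := F) (v := x) (by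
      rintro rfl
      rw [herm_zero_left] at hxx
      exact zero_ne_one hxx)
    omega
  obtain ⟨z, hz, hzx⟩ := SetLike.exists_of_lt hlt
  obtain ⟨w, hwdef⟩ : ∃ w, w = z - hermForm n F 2 z x • x := ⟨_, rfl⟩
  have hwW : w ∈ D i0 := by rw [hwdef]; exact (D i0).sub_mem hz ((D i0).smul_mem _ hx)
  have hw0 : w ≠ 0 := by
    intro h0
    apply hzx
    rw [hwdef] at h0
    rw [sub_eq_zero.1 h0]
    exact Submodule.smul_mem _ _ (Submodule.mem_span_singleton_self x)
  have hwx : hermForm n F 2 w x = 0 := by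
    rw [hwdef, hermForm_sub_left, hermForm_smul_left, hxx]; ring
  have hwy : hermForm n F 2 w y = 0 := hD.orthogonal i0 i1 h01 w hwW y hy
  have h2 : w ∈ D i1 := by
    rw [← hσ0, ← hσ i0]
    refine ⟨w, hwW, ?_⟩
    rw [Matrix.toLin'_apply, tu_mulVec, hermForm_add_right hK, hwx, hwy, add_zero, zero_smul,
      add_zero]
  obtain ⟨⟨z', hz', hz'ne⟩, _⟩ := hD.nondegenerate i0 w hwW hw0
  exact hz'ne (hD.orthogonal i0 i1 h01 z' hz' w h2)

end Cfsg.Agent.Lead.SUDecomp
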