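import Mathlib
import Cfsg.Agent.Lead.SUDecompB

set_option autoImplicit false

/-! # Decompositions of the unitary space over the field with four elements into non-degenerate
planes, part C: the final statement -/

namespace Cfsg.Agent.Lead.SUDecomp

open Matrix Cfsg Cfsg.Geo Cfsg.Agent.Helper7.Herm Cfsg.Agent.Helper8.GUOrder

variable {F : Type*} [Field F] [Fintype F] {n t : ℕ} {D : Fin t → Submodule F (Fin n → F)}

theorem herm_add_add (hF : Fintype.card F = 4) (a b : Fin n → F) :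
    hermForm n F 2 (a + b) (a + b) = hermForm n F 2 a a + hermForm n F 2 a b +
      hermForm n F 2 b a + hermForm n F 2 b b := by
  rw [hermForm_add_left, hermForm_add_right (card_sq hF), hermForm_add_right (card_sq hF)]
  ring

theorem norm_four (hF : Fintype.card F = 4)
    (hD : IsNondegenerateMDecomposition (hermForm n F 2) 2 D) (i0 i1 i2 i3 : Fin t)
    (h01 : i0 ≠ i1) (h02 : i0 ≠ i2) (h03 : i0 ≠ i3) (h12 : i1 ≠ i2) (h13 : i1 ≠ i3)
    (h23 : i2 ≠ i3) (x0 x1 x2 x3 : Fin n → F) (hx0 : x0 ∈ D i0) (hx1 : x1 ∈ D i1)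
    (hx2 : x2 ∈ D i2) (hx3 : x3 ∈ D i3) (n0 : hermForm n F 2 x0 x0 = 1)
    (n1 : hermForm n F 2 x1 x1 = 1) (n2 : hermForm n F 2 x2 x2 = 1)
    (n3 : hermForm n F 2 x3 x3 = 1) :
    hermForm n F 2 (x0 + x1 + (x2 + x3)) (x0 + x1 + (x2 + x3)) = 0 := by
  have hK := card_sq hF
  have ha := norm_add hF hD i0 i1 h01 x0 x1 hx0 hx1 n0 n1
  have hb := norm_add hF hD i2 i3 h23 x2 x3 hx2 hx3 n2 n3
  have hab : hermForm n F 2 (x0 + x1) (x2 + x3) = 0 := by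
    rw [hermForm_add_left, hermForm_add_right hK, hermForm_add_right hK,
      hD.orthogonal i0 i2 h02 x0 hx0 x2 hx2, hD.orthogonal i0 i3 h03 x0 hx0 x3 hx3,
      hD.orthogonal i1 i2 h12 x1 hx1 x2 hx2, hD.orthogonal i1 i3 h13 x1 hx1 x3 hx3]
    ring
  have hba := herm_swap_zero hF _ _ hab
  rw [herm_add_add hF, ha, hb, hab, hba]
  ring

/-- an element of `SU` outside the intermediate subgroup -/
theorem four_not_mem_KK (hF : Fintype.card F = 4)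
    (hD : IsNondegenerateMDecomposition (hermForm n F 2) 2 D) (i0 i1 i2 i3 : Fin t)
    (h01 : i0 ≠ i1) (h02 : i0 ≠ i2) (h03 : i0 ≠ i3) (h12 : i1 ≠ i2) (h13 : i1 ≠ i3)
    (h23 : i2 ≠ i3) (x0 x1 x2 x3 : Fin n → F) (hx0 : x0 ∈ D i0) (hx1 : x1 ∈ D i1)
    (hx2 : x2 ∈ D i2) (hx3 : x3 ∈ D i3) (n0 : hermForm n F 2 x0 x0 = 1)
    (n1 : hermForm n F 2 x1 x1 = 1) (n2 : hermForm n F 2 x2 x2 = 1)
    (n3 : hermForm n F 2 x3 x3 = 1) :
    tu hF (x0 + x1 + (x2 + x3)) (norm_four hF hD i0 i1 i2 i3 h01 h02 h03 h12 h13 h23 x0 x1 x2 x3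
      hx0 hx1 hx2 hx3 n0 n1 n2 n3) ∉ KK D := by
  have hK := card_sq hF
  rintro ⟨hst', _⟩
  have hst := (mem_stabilizing_iff _ _).1 hst'
  have hx0X : x0 ∈ XX D := ⟨i0, hx0, by rw [n0]; exact one_ne_zero⟩
  obtain ⟨j, hzj, _⟩ := (hst x0).1 hx0X
  rw [tu_mulVec] at hzj
  have h0u : hermForm n F 2 x0 (x0 + x1 + (x2 + x3)) = 1 := by
    rw [hermForm_add_right hK, hermForm_add_right hK, hermForm_add_right hK, n0,
      hD.orthogonal i0 i1 h01 x0 hx0 x1 hx1, hD.orthogonal i0 i2 h02 x0 hx0 x2 hx2,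
      hD.orthogonal i0 i3 h03 x0 hx0 x3 hx3]
    ring
  rw [h0u, one_smul] at hzj
  have key : ∀ (k : Fin t) (e : Fin n → F), k ≠ j → e ∈ D k →
      hermForm n F 2 (x0 + (x0 + x1 + (x2 + x3))) e = 1 → False := by
    intro k e hk he h1
    have := hD.orthogonal j k (Ne.symm hk) _ hzj e he
    rw [h1] at this
    exact one_ne_zero this
  by_cases hk : i1 = j
  · apply key i2 x2 (by rw [← hk]; exact h12.symm) hx2
    rw [hermForm_add_left, hermForm_add_left, hermForm_add_left, hermForm_add_left,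
      hD.orthogonal i0 i2 h02 x0 hx0 x2 hx2, hD.orthogonal i1 i2 h12 x1 hx1 x2 hx2, n2,
      hD.orthogonal i3 i2 h23.symm x3 hx3 x2 hx2]
    ring
  · apply key i1 x1 hk hx1
    rw [hermForm_add_left, hermForm_add_left, hermForm_add_left, hermForm_add_left,
      hD.orthogonal i0 i1 h01 x0 hx0 x1 hx1, n1, hD.orthogonal i2 i1 h12.symm x2 hx2 x1 hx1,
      hD.orthogonal i3 i1 h13.symm x3 hx3 x1 hx1]
    ring

theorem s5656 (hF : Fintype.card F = 4) (hn : 13 ≤ n)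
    (hD : IsNondegenerateMDecomposition (hermForm n F 2) 2 D) :
    ∃ K : Subgroup (Matrix.GeneralLinearGroup (Fin n) F),
      decompositionStabilizer D ⊓ (GU n F 2 ⊓ specialLinear (Fin n) F) < K ∧
        K < (GU n F 2 ⊓ specialLinear (Fin n) F) := by
  have hdim := Cfsg.Agent.Lead.SLDecomp.dim_eq hD.decomp
  have ht : 7 ≤ t := by omega
  have ex : ∀ i : Fin t, ∃ v ∈ D i, hermForm n F 2 v v = 1 := fun i =>
    exists_aniso hF (D i) (hD.decomp.finrank_eq i) (hD.nondegenerate i)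
  obtain ⟨x0, hx0, n0⟩ := ex ⟨0, by omega⟩
  obtain ⟨x1, hx1, n1⟩ := ex ⟨1, by omega⟩
  obtain ⟨x2, hx2, n2⟩ := ex ⟨2, by omega⟩
  obtain ⟨x3, hx3, n3⟩ := ex ⟨3, by omega⟩
  have h01 : (⟨0, by omega⟩ : Fin t) ≠ ⟨1, by omega⟩ := by
    intro h; simp [Fin.ext_iff] at h
  have h02 : (⟨0, by omega⟩ : Fin t) ≠ ⟨2, by omega⟩ := by
    intro h; simp [Fin.ext_iff] at h
  have h03 : (⟨0, by omega⟩ : Fin t) ≠ ⟨3, by omega⟩ := by
    intro h; simp [Fin.ext_iff] at h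
  have h12 : (⟨1, by omega⟩ : Fin t) ≠ ⟨2, by omega⟩ := by
    intro h; simp [Fin.ext_iff] at h
  have h13 : (⟨1, by omega⟩ : Fin t) ≠ ⟨3, by omega⟩ := by
    intro h; simp [Fin.ext_iff] at h
  have h23 : (⟨2, by omega⟩ : Fin t) ≠ ⟨3, by omega⟩ := by
    intro h; simp [Fin.ext_iff] at h
  refine ⟨KK D, ?_, ?_⟩
  · rw [SetLike.lt_iff_le_and_exists]
    refine ⟨stab_le D, _, swap_mem_KK hF hD _ _ h01 x0 x1 hx0 hx1 n0 n1, ?_⟩
    intro h
    exact swap_not_stab hF hD _ _ h01 x0 x1 hx0 hx1 n0 n1 h.1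
  · rw [SetLike.lt_iff_le_and_exists]
    refine ⟨KK_le D, _, ⟨tu_mem_GU hF _ _, tu_mem_SL hF _ _⟩,
      four_not_mem_KK hF hD _ _ _ _ h01 h02 h03 h12 h13 h23 x0 x1 x2 x3 hx0 hx1 hx2 hx3
        n0 n1 n2 n3⟩

end Cfsg.Agent.Lead.SUDecomp
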