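import Mathlib
import Cfsg.Agent.Helper8.AutSUq
import Cfsg.Agent.Helper7.SUSimpB

set_option autoImplicit false
set_option linter.unusedSectionVars false

/-! # The `p`-fusion system of `PSU_n(q)`, part A: the block embedding `SU_k → SU_{k+2}` (lead) -/

namespace Cfsg.Agent.Lead.SUFus

open Matrix Cfsg Cfsg.Agent.Helper7.Herm Cfsg.Agent.Helper8.GUOrder Cfsg.Agent.Helper8.SURoot
  Cfsg.Agent.Helper8.AutSU

variable {F : Type*} [Field F] [Fintype F] {q k N : ℕ} [hF : Fact (Fintype.card F = q ^ 2)]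

/-- the index equivalence `Fin 2 ⊕ Fin k ≃ Fin (k + 2)` -/
def eIdx (k : ℕ) : Fin 2 ⊕ Fin k ≃ Fin (k + 2) :=
  finSumFinEquiv.trans (finCongr (add_comm 2 k))

theorem eIdx_inr (i : Fin k) : eIdx k (Sum.inr i) = i.succ.succ := by
  apply Fin.ext
  simp [eIdx]

theorem eIdx_inl_zero : eIdx k (Sum.inl 0) = 0 := by
  apply Fin.ext
  simp [eIdx]

theorem eIdx_inl_one : eIdx k (Sum.inl 1) = 1 := by
  apply Fin.ext
  simp [eIdx]

/-- the block matrix `diag(1, 1, A)` -/
def blk (A : Matrix (Fin k) (Fin k) F) : Matrix (Fin (k + 2)) (Fin (k + 2)) F :=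
  Matrix.reindex (eIdx k) (eIdx k) (Matrix.fromBlocks (1 : Matrix (Fin 2) (Fin 2) F) 0 0 A)

theorem blk_mulVec (A : Matrix (Fin k) (Fin k) F) (v : Fin (k + 2) → F) :
    blk A *ᵥ v = (Fin.cons (v 0) (Fin.cons (v 1) (A *ᵥ wp v)) : Fin (k + 2) → F) := by
  unfold blk
  rw [Matrix.reindex_apply, Matrix.submatrix_mulVec_equiv, Matrix.fromBlocks_mulVec]
  simp only [Equiv.symm_symm, zero_mulVec, add_zero, zero_add, one_mulVec]
  have hwp : (v ∘ ⇑(eIdx k)) ∘ Sum.inr = wp v := by
    funext i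
    simp only [Function.comp_apply, eIdx_inr, wp]
  rw [hwp]
  funext i
  obtain ⟨s, rfl⟩ := (eIdx k).surjective i
  simp only [Function.comp_apply, Equiv.symm_apply_apply]
  rcases s with s | s
  · fin_cases s
    · show v (eIdx k (Sum.inl 0)) = _
      rw [eIdx_inl_zero]; rfl
    · show v (eIdx k (Sum.inl 1)) = _
      rw [eIdx_inl_one]; rfl
  · rw [eIdx_inr]
    simp

theorem wp_cons2 (a b : F) (w : Fin k → F) :
    wp (Fin.cons a (Fin.cons b w) : Fin (k + 2) → F) = w := by
  funext i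
  simp [wp]

theorem wp_blk_mulVec (A : Matrix (Fin k) (Fin k) F) (v : Fin (k + 2) → F) :
    wp (blk A *ᵥ v) = A *ᵥ wp v := by
  rw [blk_mulVec, wp_cons2]

theorem blk_mulVec_iw (A : Matrix (Fin k) (Fin k) F) (w : Fin k → F) :
    blk A *ᵥ iw w = iw (A *ᵥ w) := by
  rw [blk_mulVec, wp_iw]
  rfl

theorem blk_mulVec_of_wp (A : Matrix (Fin k) (Fin k) F) {v : Fin (k + 2) → F} (h : wp v = 0) :
    blk A *ᵥ v = v := by
  rw [blk_mulVec, h, mulVec_zero]
  conv_rhs => rw [cons2_eta v, h]

theorem blk_mul (A B : Matrix (Fin k) (Fin k) F) : blk (A * B) = blk A * blk B := by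
  unfold blk
  rw [Matrix.reindex_apply, Matrix.reindex_apply, Matrix.reindex_apply,
    Matrix.submatrix_mul_equiv, Matrix.fromBlocks_multiply]
  simp

theorem blk_one : blk (1 : Matrix (Fin k) (Fin k) F) = 1 := by
  unfold blk
  rw [Matrix.fromBlocks_one, Matrix.reindex_apply, Matrix.submatrix_one_equiv]

theorem det_blk (A : Matrix (Fin k) (Fin k) F) : (blk A).det = A.det := by
  unfold blk
  rw [Matrix.det_reindex_self, Matrix.det_fromBlocks_zero₂₁, det_one, one_mul]

theorem form_blk {A : Matrix (Fin k) (Fin k) F}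
    (hA : ∀ u v, hermForm k F q (A *ᵥ u) (A *ᵥ v) = hermForm k F q u v) (u v : Fin (k + 2) → F) :
    hermForm (k + 2) F q (blk A *ᵥ u) (blk A *ᵥ v) = hermForm (k + 2) F q u v := by
  rw [blk_mulVec, blk_mulVec, h_cons2, hA]
  conv_rhs => rw [cons2_eta u, cons2_eta v, h_cons2]

/-- the block embedding `SU_k → SU_{k+2}` -/
def iota : SU k F q →* SU (k + 2) F q where
  toFun A := mkS (blk (mt A)) (by rw [det_blk]; exact A.1.2) (form_blk (herm_mt A))
  map_one' := by
    apply Subtype.ext
    apply Subtype.ext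
    show blk (mt (1 : SU k F q)) = 1
    rw [mt_one, blk_one]
  map_mul' A B := by
    apply Subtype.ext
    apply Subtype.ext
    show blk (mt (A * B)) = blk (mt A) * blk (mt B)
    rw [mt_mul, blk_mul]

theorem mt_iota (A : SU k F q) : mt (iota A) = blk (mt A) := rfl

theorem iota_iw (A : SU k F q) (w : Fin k → F) : mt (iota A) *ᵥ iw w = iw (mt A *ᵥ w) := by
  rw [mt_iota, blk_mulVec_iw]

theorem iota_of_wp (A : SU k F q) {v : Fin (k + 2) → F} (h : wp v = 0) :
    mt (iota A) *ᵥ v = v := by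
  rw [mt_iota, blk_mulVec_of_wp _ h]

theorem iota_injective : Function.Injective (iota : SU k F q →* SU (k + 2) F q) := by
  intro A B h
  apply ext_mulVec
  intro w
  have h1 : mt (iota A) *ᵥ iw w = mt (iota B) *ᵥ iw w := by rw [h]
  rw [iota_iw, iota_iw] at h1
  exact iw_injective h1

namespace FrameX

variable (fr : Frame F q k)

theorem iota_e (A : SU k F q) : mt (iota A) *ᵥ fr.e = fr.e := iota_of_wp A fr.wpe

theorem iota_f (A : SU k F q) : mt (iota A) *ᵥ fr.f = fr.f := iota_of_wp A fr.wpf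

theorem iota_mem_Lv (A : SU k F q) : iota A ∈ fr.Lv :=
  ⟨⟨1, by rw [iota_e, one_smul]⟩, ⟨1, by rw [iota_f, one_smul]⟩⟩

theorem iota_mem_Bv (A : SU k F q) : iota A ∈ fr.Bv := fr.Lv_le_Bv (iota_mem_Lv fr A)

theorem lt_iota (A : SU k F q) : fr.lt (iota A) = 1 := fr.lt_of_fix (iota_e fr A)

theorem lact_iota (A : SU k F q) (w : Fin k → F) : lact (iota A) w = mt A *ᵥ w := by
  unfold lact
  rw [iota_iw, wp_iw]

/-- every Levi element fixing `e` is in the image of the block embedding -/
theorem exists_iota_of_Lv {l : SU (k + 2) F q} (hl : l ∈ fr.Lv) (h1 : fr.lt l = 1) :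
    ∃ A : SU k F q, l = iota A := by
  -- the matrix of `lact l`
  set M : Matrix (Fin k) (Fin k) F := Matrix.of fun i j => lact l (Pi.single j 1) i with hM
  have hMv : ∀ w : Fin k → F, M *ᵥ w = lact l w := by
    intro w
    conv_rhs => rw [pi_eq_sum_single w]
    have hsum : lact l (∑ j, w j • (Pi.single j (1 : F) : Fin k → F)) =
        ∑ j, w j • lact l (Pi.single j (1 : F)) := by
      unfold lact
      rw [show iw (∑ j, w j • (Pi.single j (1 : F) : Fin k → F)) =
        ∑ j, w j • iw (Pi.single j (1 : F)) from ?_]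
      · rw [mulVec_sum]
        simp only [mulVec_smul]
        funext i
        simp [wp, Finset.sum_apply]
      · have : ∀ s : Finset (Fin k), iw (∑ j ∈ s, w j • (Pi.single j (1 : F) : Fin k → F)) =
            ∑ j ∈ s, w j • iw (Pi.single j (1 : F)) := by
          intro s
          induction s using Finset.induction_on with
          | empty => simp [iw_zero]
          | insert a s ha ih => rw [Finset.sum_insert ha, Finset.sum_insert ha, iw_add, iw_smul, ih]
        exact this _
    rw [hsum]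
    funext i
    simp only [mulVec, dotProduct, hM, Matrix.of_apply, Finset.sum_apply, Pi.smul_apply,
      smul_eq_mul]
    apply Finset.sum_congr rfl
    intro j _
    ring
  have hform : ∀ u v, hermForm k F q (M *ᵥ u) (M *ᵥ v) = hermForm k F q u v := by
    intro u v
    rw [hMv, hMv, fr.lact_form hl]
  have heq : mt l = blk M := by
    apply fr.ext_mat
    · rw [fr.lt_spec hl.1, h1, one_smul, blk_mulVec_of_wp _ fr.wpe]
    · rw [fr.lt_spec' hl, h1, one_pow, inv_one, one_smul, blk_mulVec_of_wp _ fr.wpf]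
    · intro w
      rw [fr.lact_spec hl, blk_mulVec_iw, hMv]
  have hdet : M.det = 1 := by
    rw [← det_blk, ← heq]
    exact l.1.2
  refine ⟨mkS M hdet hform, ?_⟩
  apply Subtype.ext
  apply Subtype.ext
  exact heq

end FrameX

end Cfsg.Agent.Lead.SUFus
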