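import Mathlib
import Cfsg.Agent.Lead.SUFusA

set_option autoImplicit false
set_option linter.unusedSectionVars false

/-! # The `p`-fusion system of `PSU_n(q)`, part B: radicals of isotropic points (lead) -/

namespace Cfsg.Agent.Lead.SUFus

open Matrix Cfsg Cfsg.Agent.Helper7.Herm Cfsg.Agent.Helper8.GUOrder Cfsg.Agent.Helper8.SURoot
  Cfsg.Agent.Helper8.AutSU

variable {F : Type*} [Field F] [Fintype F] {q k N : ℕ} [hF : Fact (Fintype.card F = q ^ 2)]

/-- the unipotent radical of the stabiliser of the point `⟨v⟩`, defined intrinsically -/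
def Rad (q : ℕ) (v : Fin N → F) : Subgroup (SU N F q) where
  carrier := {u | mt u *ᵥ v = v ∧ ∀ x, hermForm N F q x v = 0 → ∃ c : F, mt u *ᵥ x = x + c • v}
  mul_mem' := by
    rintro u u' ⟨h1, h2⟩ ⟨h1', h2'⟩
    refine ⟨by rw [mt_mul_mulVec, h1', h1], fun x hx => ?_⟩
    obtain ⟨c', hc'⟩ := h2' x hx
    obtain ⟨c, hc⟩ := h2 x hx
    refine ⟨c + c', ?_⟩
    rw [mt_mul_mulVec, hc', mulVec_add, mulVec_smul, h1, hc]
    module
  one_mem' := ⟨mt_one_mulVec v, fun x _ => ⟨0, by rw [mt_one_mulVec, zero_smul, add_zero]⟩⟩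
  inv_mem' := by
    rintro u ⟨h1, h2⟩
    have hv : mt u⁻¹ *ᵥ v = v := by
      have := congrArg (fun y => mt u⁻¹ *ᵥ y) h1
      beta_reduce at this
      rw [mt_inv_mulVec'] at this
      exact this.symm
    refine ⟨hv, fun x hx => ?_⟩
    obtain ⟨c, hc⟩ := h2 x hx
    refine ⟨-c, ?_⟩
    have := congrArg (fun y => mt u⁻¹ *ᵥ y) hc
    beta_reduce at this
    rw [mt_inv_mulVec', mulVec_add, mulVec_smul, hv] at this
    have h3 : mt u⁻¹ *ᵥ x = x - c • v := eq_sub_of_add_eq this.symm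
    rw [h3]
    module

theorem mem_Rad {v : Fin N → F} {u : SU N F q} :
    u ∈ Rad q v ↔ mt u *ᵥ v = v ∧ ∀ x, hermForm N F q x v = 0 → ∃ c : F, mt u *ᵥ x = x + c • v :=
  Iff.rfl

theorem Rad_conj {v : Fin N → F} {u : SU N F q} (hu : u ∈ Rad q v) (g : SU N F q) :
    g * u * g⁻¹ ∈ Rad q (mt g *ᵥ v) := by
  obtain ⟨h1, h2⟩ := hu
  refine ⟨by rw [mt_mul_mulVec, mt_mul_mulVec, mt_inv_mulVec', h1], fun x hx => ?_⟩
  have hx' : hermForm N F q (mt g⁻¹ *ᵥ x) v = 0 := by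
    rw [← herm_mt g, mt_inv_mulVec]
    exact hx
  obtain ⟨c, hc⟩ := h2 _ hx'
  refine ⟨c, ?_⟩
  rw [mt_mul_mulVec, mt_mul_mulVec, hc, mulVec_add, mulVec_smul, mt_inv_mulVec]

theorem Rad_smul_le {v : Fin N → F} {a : F} (ha : a ≠ 0) : Rad q v ≤ Rad q (a • v) := by
  rintro u ⟨h1, h2⟩
  refine ⟨by rw [mulVec_smul, h1], fun x hx => ?_⟩
  have hx' : hermForm N F q x v = 0 := by
    rw [hermForm_smul_right] at hx
    rcases mul_eq_zero.mp hx with h | h
    · exact absurd h (pow_ne_zero q ha)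
    · exact h
  obtain ⟨c, hc⟩ := h2 x hx'
  refine ⟨c * a⁻¹, ?_⟩
  rw [hc, smul_smul, mul_assoc, inv_mul_cancel₀ ha, mul_one]

theorem Rad_smul {v : Fin N → F} {a : F} (ha : a ≠ 0) : Rad q (a • v) = Rad q v := by
  apply le_antisymm
  · have := Rad_smul_le (q := q) (v := a • v) (inv_ne_zero ha)
    rwa [smul_smul, inv_mul_cancel₀ ha, one_smul] at this
  · exact Rad_smul_le ha

/-- an element of some radical of an isotropic point -/
def IsRadEl (u : SU N F q) : Prop :=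
  ∃ v : Fin N → F, v ≠ 0 ∧ hermForm N F q v v = 0 ∧ u ∈ Rad q v

theorem IsRadEl.conj {u : SU N F q} (hu : IsRadEl u) (g : SU N F q) : IsRadEl (g * u * g⁻¹) := by
  obtain ⟨v, hv0, hv, huv⟩ := hu
  exact ⟨mt g *ᵥ v, mulVec_ne_zero' g hv0, by rw [herm_mt, hv], Rad_conj huv g⟩

namespace FrameX

variable (fr : Frame F q k)

theorem Rad_e : Rad q fr.e = fr.Qv := by
  ext u
  constructor
  · rintro ⟨h1, h2⟩
    rw [fr.mem_Qv_iff]
    refine ⟨fr.mem_Bv_of_fix h1, fr.lt_of_fix h1, fun w => ?_⟩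
    obtain ⟨c, hc⟩ := h2 (iw w) (fr.hwe w)
    unfold lact
    rw [hc, wp_add, fr.wp_e_smul, add_zero, wp_iw]
  · rintro ⟨w, a, ha, rfl⟩
    refine ⟨fr.sg_e ha, fun x hx => ?_⟩
    refine ⟨-hermForm (k + 2) F q x (iw w), ?_⟩
    rw [fr.sg_mulVec, hx, zero_smul, add_zero]
    module

theorem iota_mem_Rad {x : Fin k → F} {u : SU k F q} (hu : u ∈ Rad q x) :
    iota u ∈ Rad q (iw x : Fin (k + 2) → F) := by
  obtain ⟨fr⟩ := exists_frame (F := F) (q := q) k
  obtain ⟨h1, h2⟩ := hu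
  refine ⟨by rw [iota_iw, h1], fun y hy => ?_⟩
  have hy' : hermForm k F q (wp y) x = 0 := by
    have := fr.dec y
    rw [this] at hy
    simpa [hermForm_add_left, hermForm_smul_left, fr.hew, fr.hfw, h_iw] using hy
  obtain ⟨c, hc⟩ := h2 _ hy'
  refine ⟨c, ?_⟩
  conv_lhs => rw [fr.dec y]
  rw [mulVec_add, mulVec_add, mulVec_smul, mulVec_smul, iota_e fr, iota_f fr, iota_iw, hc, iw_add,
    iw_smul]
  conv_rhs => rw [fr.dec y]
  module

theorem IsRadEl.iota {u : SU k F q} (hu : IsRadEl u) : IsRadEl (iota u : SU (k + 2) F q) := by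
  obtain ⟨x, hx0, hx, hux⟩ := hu
  refine ⟨iw x, fun h => hx0 (iw_injective (h.trans iw_zero.symm)), by rw [h_iw, hx],
    iota_mem_Rad hux⟩

/-- conjugating a Siegel element by a block element -/
theorem conj_sgt_iota (A : SU k F q) {w : Fin k → F} {a : F} (h : Val q w a) :
    iota A * fr.sgt w a * (iota A)⁻¹ = fr.sgt (mt A *ᵥ w) a := by
  rw [fr.conj_sgt (iota_mem_Lv fr A) h, lt_iota, lact_iota, one_pow, one_smul, one_mul, one_mul]

theorem Val_iota (A : SU k F q) {w : Fin k → F} {a : F} (h : Val q w a) :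
    Val q (mt A *ᵥ w) a := by
  unfold Val at h ⊢
  rw [herm_mt]
  exact h

/-- an element fixing `e` is a Siegel element times a block element -/
theorem exists_sgt_iota {g : SU (k + 2) F q} (hg : mt g *ᵥ fr.e = fr.e) :
    ∃ (w : Fin k → F) (a : F) (A : SU k F q), Val q w a ∧ g = fr.sgt w a * iota A := by
  obtain ⟨w, a, ha, l, hl, rfl⟩ := fr.Bv_decomp (fr.mem_Bv_of_fix hg)
  have h1 : fr.lt l = 1 := by
    have := fr.lt_of_fix hg
    rw [fr.lt_mul (fr.sg_mem_Bv ha) (fr.Lv_le_Bv hl), fr.lt_sg, one_mul] at this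
    exact this
  obtain ⟨A, rfl⟩ := exists_iota_of_Lv fr hl h1
  exact ⟨w, a, A, ha, by rw [fr.sgt_eq ha]⟩

theorem iota_TU {x : Fin k → F} (hx : hermForm k F q x x = 0) {s : F} (hs : s ^ q + s = 0) :
    iota (TU q x s) = TU q (iw x : Fin (k + 2) → F) s := by
  obtain ⟨fr⟩ := exists_frame (F := F) (q := q) k
  apply fr.ext_su
  · rw [iota_e fr, fr.TU_iw_e hx hs]
  · rw [iota_f fr, fr.TU_iw_f hx hs]
  · intro w
    rw [iota_iw, Frame.TU_iw_iw hx hs, TU_mulVec hx hs]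

end FrameX

end Cfsg.Agent.Lead.SUFus
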