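import Mathlib
import Cfsg.Agent.Lead.SUFusB
import Cfsg.Agent.Helper8.AutSUp

set_option autoImplicit false
set_option linter.unusedSectionVars false

/-! # The `p`-fusion system of `PSU_n(q)`, part C: structure of the Sylow `p`-subgroups (lead) -/

namespace Cfsg.Agent.Lead.SUFus

open Matrix Cfsg Cfsg.Agent.Helper7.Herm Cfsg.Agent.Helper8.GUOrder Cfsg.Agent.Helper8.SURoot
  Cfsg.Agent.Helper8.AutSU

open scoped Pointwise

variable {F : Type*} [Field F] [Fintype F] {q k N : ℕ} [hF : Fact (Fintype.card F = q ^ 2)]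

theorem iw_fin_zero (w : Fin 0 → F) : (iw w : Fin (0 + 2) → F) = 0 := by
  have : w = 0 := Subsingleton.elim _ _
  rw [this, iw_zero]

namespace FrameX

variable (fr : Frame F q k)

theorem Bv_le_normalizer_Qv : fr.Bv ≤ Subgroup.normalizer (fr.Qv : Set (SU (k + 2) F q)) := by
  intro g hg
  rw [Subgroup.mem_normalizer_iff]
  intro u
  constructor
  · intro hu
    exact fr.conj_mem_Qv hg hu
  · intro hu
    have := fr.conj_mem_Qv (fr.Bv.inv_mem hg) hu
    have h2 : g⁻¹ * (g * u * g⁻¹) * g⁻¹⁻¹ = u := by group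
    rwa [h2] at this

/-- vectors fixed by the unipotent radical (all `k`) -/
theorem fixed_Qv' {v : Fin (k + 2) → F} (h : ∀ u ∈ fr.Qv, mt u *ᵥ v = v) :
    v = hermForm (k + 2) F q v fr.f • fr.e := by
  rcases Nat.eq_zero_or_pos k with hk | hk
  · subst hk
    obtain ⟨ε, hε0, hε⟩ := exists_tz_ne_zero (F := F) (q := q)
    have h1 := h _ (fr.TU_e_mem_Qv hε)
    rw [TU_mulVec fr.he hε] at h1
    have h2 : (ε * hermForm (0 + 2) F q v fr.e) • fr.e = 0 := by
      have := congrArg (fun y => y - v) h1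
      simpa using this
    have h3 : hermForm (0 + 2) F q v fr.e = 0 := by
      rcases smul_eq_zero.mp h2 with h3 | h3
      · rcases mul_eq_zero.mp h3 with h4 | h4
        · exact absurd h4 hε0
        · exact h4
      · exact absurd h3 fr.e_ne_zero
    have h4 := fr.dec v
    rw [h3, zero_smul, add_zero, iw_fin_zero, add_zero] at h4
    exact h4
  · exact fr.fixed_Qv hk h

/-- a Sylow subgroup containing the unipotent radical fixes the vector `e` (all `k`) -/
theorem sylow_fix' (p : ℕ) [Fact p.Prime] [CharP F p] (P : Sylow p (SU (k + 2) F q))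
    (hQ : fr.Qv ≤ P) {g : SU (k + 2) F q} (hg : g ∈ P) : mt g *ᵥ fr.e = fr.e := by
  obtain ⟨v, hv⟩ := P.isPGroup'.nonempty_fixed_point_of_prime_not_dvd_card (Iso (k + 2) F q)
    (not_dvd_card_Iso p k)
  rw [MulAction.mem_fixedPoints] at hv
  have h1 : ∀ u ∈ (P : Subgroup (SU (k + 2) F q)), mt u *ᵥ v.1 = v.1 := by
    intro u hu
    have := hv ⟨u, hu⟩
    exact congrArg Subtype.val this
  have h2 := fixed_Qv' fr (fun u hu => h1 u (hQ hu))
  have hc : hermForm (k + 2) F q v.1 fr.f ≠ 0 := by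
    intro h0
    rw [h0, zero_smul] at h2
    exact v.2.1 h2
  have h3 := h1 g hg
  rw [h2, mulVec_smul] at h3
  have h4 := congrArg (fun x => (hermForm (k + 2) F q v.1 fr.f)⁻¹ • x) h3
  beta_reduce at h4
  rw [smul_smul, smul_smul, inv_mul_cancel₀ hc, one_smul, one_smul] at h4
  exact h4

/-- decomposition of the elements of a Sylow subgroup containing the unipotent radical -/
theorem sylow_decomp (p : ℕ) [Fact p.Prime] [CharP F p] (P : Sylow p (SU (k + 2) F q))
    (hQ : fr.Qv ≤ P) {g : SU (k + 2) F q} (hg : g ∈ P) :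
    ∃ (w : Fin k → F) (a : F) (A : SU k F q), Val q w a ∧ g = fr.sgt w a * iota A ∧
      iota A ∈ (P : Subgroup (SU (k + 2) F q)) := by
  obtain ⟨w, a, A, ha, rfl⟩ := exists_sgt_iota fr (sylow_fix' fr p P hQ hg)
  refine ⟨w, a, A, ha, rfl, ?_⟩
  have h1 : fr.sgt w a ∈ (P : Subgroup (SU (k + 2) F q)) := hQ (fr.sgt_mem_Qv ha)
  have h2 := (P : Subgroup (SU (k + 2) F q)).mul_mem ((P : Subgroup (SU (k + 2) F q)).inv_mem h1) hg
  rwa [inv_mul_cancel_left] at h2

theorem isPGroup_Qv_sup (p : ℕ) [Fact p.Prime] [CharP F p] {H : Subgroup (SU k F q)}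
    (hH : IsPGroup p H) : IsPGroup p (fr.Qv ⊔ H.map iota : Subgroup (SU (k + 2) F q)) := by
  apply IsPGroup.to_sup_of_normal_left' (fr.isPGroup_Qv p) (hH.map iota)
  rintro _ ⟨A, _, rfl⟩
  exact Bv_le_normalizer_Qv fr (iota_mem_Bv fr A)

/-- the Sylow subgroup of the Levi factor -/
def leviSylow (p : ℕ) [Fact p.Prime] [CharP F p] (P : Sylow p (SU (k + 2) F q))
    (hQ : fr.Qv ≤ P) : Sylow p (SU k F q) where
  toSubgroup := (P : Subgroup (SU (k + 2) F q)).comap iota
  isPGroup' := P.isPGroup'.comap_of_injective iota iota_injective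
  is_maximal' := by
    intro Q' hQ' hle
    have hR := isPGroup_Qv_sup fr p hQ'
    have hPR : (P : Subgroup (SU (k + 2) F q)) ≤ fr.Qv ⊔ Q'.map iota := by
      intro g hg
      obtain ⟨w, a, A, ha, rfl, hA⟩ := sylow_decomp fr p P hQ hg
      exact Subgroup.mul_mem _ (Subgroup.mem_sup_left (fr.sgt_mem_Qv ha))
        (Subgroup.mem_sup_right ⟨A, hle hA, rfl⟩)
    have hEq := P.is_maximal' hR hPR
    apply le_antisymm _ hle
    intro A hA
    show iota A ∈ (P : Subgroup (SU (k + 2) F q))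
    have : iota A ∈ (fr.Qv ⊔ Q'.map iota : Subgroup (SU (k + 2) F q)) :=
      Subgroup.mem_sup_right ⟨A, hA, rfl⟩
    rw [hEq] at this
    exact this

theorem mem_leviSylow (p : ℕ) [Fact p.Prime] [CharP F p] (P : Sylow p (SU (k + 2) F q))
    (hQ : fr.Qv ≤ P) (A : SU k F q) :
    A ∈ leviSylow fr p P hQ ↔ iota A ∈ (P : Subgroup (SU (k + 2) F q)) := Iff.rfl

end FrameX

/-- groups `SU_0` and `SU_1` are trivial -/
theorem eq_one_of_le_one (hN : N ≤ 1) (g : SU N F q) : g = 1 := by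
  apply Subtype.ext
  apply Subtype.ext
  show mt g = 1
  have hN' : N = 0 ∨ N = 1 := by omega
  rcases hN' with rfl | rfl
  · exact Subsingleton.elim _ _
  · ext i j
    have hi : i = 0 := Subsingleton.elim _ _
    have hj : j = 0 := Subsingleton.elim _ _
    subst hi hj
    have := g.1.2
    rw [Matrix.det_fin_one] at this
    rw [Matrix.one_apply_eq]
    exact this

/-- every Sylow `p`-subgroup of `SU_N(q)` is generated by its radical elements -/
theorem sylow_le_closure_radEl (p : ℕ) [Fact p.Prime] [CharP F p] :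
    ∀ (N : ℕ) (P : Sylow p (SU N F q)),
      (P : Subgroup (SU N F q)) ≤ Subgroup.closure {u | u ∈ (P : Subgroup (SU N F q)) ∧ IsRadEl u} := by
  have hstep : ∀ k : ℕ, (∀ P : Sylow p (SU k F q),
      (P : Subgroup (SU k F q)) ≤ Subgroup.closure {u | u ∈ (P : Subgroup (SU k F q)) ∧ IsRadEl u}) →
      ∀ P : Sylow p (SU (k + 2) F q),
      (P : Subgroup (SU (k + 2) F q)) ≤
        Subgroup.closure {u | u ∈ (P : Subgroup (SU (k + 2) F q)) ∧ IsRadEl u} := by
    intro k ih P
    obtain ⟨fr⟩ := exists_frame (F := F) (q := q) k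
    obtain ⟨P₀, hQ⟩ := (fr.isPGroup_Qv p).exists_le_sylow
    -- the statement for `P₀`
    have h0 : (P₀ : Subgroup (SU (k + 2) F q)) ≤
        Subgroup.closure {u | u ∈ (P₀ : Subgroup (SU (k + 2) F q)) ∧ IsRadEl u} := by
      intro g hg
      obtain ⟨w, a, A, ha, rfl, hA⟩ := FrameX.sylow_decomp fr p P₀ hQ hg
      apply Subgroup.mul_mem
      · apply Subgroup.subset_closure
        refine ⟨hQ (fr.sgt_mem_Qv ha), fr.e, fr.e_ne_zero, fr.he, ?_⟩
        rw [FrameX.Rad_e]
        exact fr.sgt_mem_Qv ha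
      · have hA' : A ∈ (FrameX.leviSylow fr p P₀ hQ : Subgroup (SU k F q)) := hA
        have h1 := ih (FrameX.leviSylow fr p P₀ hQ) hA'
        have h2 : iota A ∈ (Subgroup.closure {u | u ∈ (FrameX.leviSylow fr p P₀ hQ :
            Subgroup (SU k F q)) ∧ IsRadEl u}).map (iota : SU k F q →* SU (k + 2) F q) :=
          ⟨A, h1, rfl⟩
        rw [MonoidHom.map_closure] at h2
        refine Subgroup.closure_mono ?_ h2
        rintro _ ⟨u, ⟨hu1, hu2⟩, rfl⟩
        exact ⟨hu1, FrameX.IsRadEl.iota hu2⟩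
    -- transport to `P`
    obtain ⟨g, hg⟩ := MulAction.exists_smul_eq (SU (k + 2) F q) P₀ P
    intro x hx
    have hx' : g⁻¹ * x * g ∈ (P₀ : Subgroup (SU (k + 2) F q)) := by
      rw [← hg] at hx
      exact (mem_conj_sylow P₀ g x).mp hx
    have h1 := h0 hx'
    have h2 : MulAut.conj g (g⁻¹ * x * g) ∈ (Subgroup.closure {u | u ∈
        (P₀ : Subgroup (SU (k + 2) F q)) ∧ IsRadEl u}).map (MulAut.conj g).toMonoidHom :=
      ⟨_, h1, rfl⟩
    rw [MonoidHom.map_closure] at h2
    have h3 : MulAut.conj g (g⁻¹ * x * g) = x := by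
      rw [MulAut.conj_apply]; group
    rw [h3] at h2
    refine Subgroup.closure_mono ?_ h2
    rintro _ ⟨u, ⟨hu1, hu2⟩, rfl⟩
    refine ⟨?_, ?_⟩
    · rw [← hg]
      apply (mem_conj_sylow P₀ g _).mpr
      show g⁻¹ * (MulAut.conj g u) * g ∈ _
      rw [MulAut.conj_apply]
      have : g⁻¹ * (g * u * g⁻¹) * g = u := by group
      rw [this]
      exact hu1
    · show IsRadEl (MulAut.conj g u)
      rw [MulAut.conj_apply]
      exact hu2.conj g
  have hbase : ∀ N : ℕ, N ≤ 1 → ∀ P : Sylow p (SU N F q),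
      (P : Subgroup (SU N F q)) ≤ Subgroup.closure {u | u ∈ (P : Subgroup (SU N F q)) ∧ IsRadEl u} := by
    intro N hN P x _
    rw [eq_one_of_le_one hN x]
    exact Subgroup.one_mem _
  have hboth : ∀ N : ℕ, (∀ P : Sylow p (SU N F q),
      (P : Subgroup (SU N F q)) ≤ Subgroup.closure {u | u ∈ (P : Subgroup (SU N F q)) ∧ IsRadEl u}) ∧
      (∀ P : Sylow p (SU (N + 1) F q),
      (P : Subgroup (SU (N + 1) F q)) ≤
        Subgroup.closure {u | u ∈ (P : Subgroup (SU (N + 1) F q)) ∧ IsRadEl u}) := by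
    intro N
    induction N with
    | zero => exact ⟨hbase 0 (by omega), hbase 1 (by omega)⟩
    | succ n ih => exact ⟨ih.2, hstep n ih.1⟩
  exact fun N => (hboth N).1

end Cfsg.Agent.Lead.SUFus
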