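import Mathlib
import Cfsg.Agent.Lead.SUFusC
import Cfsg.Agent.Helper5.PGroupCenter

set_option autoImplicit false
set_option linter.unusedSectionVars false

/-! # The `p`-fusion system of `PSU_n(q)`, part D: strongly closed subgroups (lead) -/

namespace Cfsg.Agent.Lead.SUFus

open Matrix Cfsg Cfsg.Agent.Helper7.Herm Cfsg.Agent.Helper8.GUOrder Cfsg.Agent.Helper8.SURoot
  Cfsg.Agent.Helper8.AutSU Cfsg.Agent.Helper7.SUSimp

variable {F : Type*} [Field F] [Fintype F] {q k N m : ℕ} [hF : Fact (Fintype.card F = q ^ 2)]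

/-- strong closure in `S` with respect to the ambient group -/
def SC {G : Type*} [Group G] (S T : Subgroup G) : Prop :=
  T ≤ S ∧ ∀ x ∈ T, ∀ g : G, g * x * g⁻¹ ∈ S → g * x * g⁻¹ ∈ T

theorem SC.normal {G : Type*} [Group G] {S T : Subgroup G} (h : SC S T) {x s : G} (hx : x ∈ T)
    (hs : s ∈ S) : s * x * s⁻¹ ∈ T :=
  h.2 x hx s (S.mul_mem (S.mul_mem hs (h.1 hx)) (S.inv_mem hs))

theorem tz_div {s s₀ : F} (hs : s ^ q + s = 0) (hs₀ : s₀ ^ q + s₀ = 0) (_h0 : s₀ ≠ 0) :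
    (s / s₀) ^ q = s / s₀ := by
  have h1 : s ^ q = -s := by linear_combination hs
  have h2 : s₀ ^ q = -s₀ := by linear_combination hs₀
  rw [div_pow, h1, h2, neg_div_neg_eq]

namespace FrameX

variable (fr : Frame F q k)

/-- step 1: the whole root group of `e` lies in `T` -/
theorem TU_e_mem_of_SC (hk : 1 ≤ k) {S T : Subgroup (SU (k + 2) F q)} (hT : SC S T)
    (hQ : fr.Qv ≤ S) {s₀ : F} (hs₀ : s₀ ^ q + s₀ = 0) (h0 : s₀ ≠ 0) (hx : TU q fr.e s₀ ∈ T)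
    {s : F} (hs : s ^ q + s = 0) : TU q fr.e s ∈ T := by
  by_cases hs0 : s = 0
  · rw [hs0, TU_zero _ fr.he]
    exact T.one_mem
  have hc : (s / s₀) ^ q = s / s₀ := tz_div hs hs₀ h0
  have hc0 : s / s₀ ≠ 0 := div_ne_zero hs0 h0
  obtain ⟨t, ht⟩ := exists_norm hF.out hc0 hc
  have ht0 : t ≠ 0 := by
    rintro rfl
    rw [zero_mul] at ht
    exact hc0 ht.symm
  have h1 := conj_TU (fr.dg ht0 ⟨0, hk⟩) fr.he hs₀
  rw [fr.dg_e, TU_smul fr.he hs₀, ht] at h1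
  have h2 : s₀ * (s / s₀) = s := by field_simp
  rw [h2] at h1
  rw [← h1]
  apply hT.2 _ hx
  rw [h1]
  exact hQ (fr.TU_e_mem_Qv hs)

/-- step 2: every transvection of `S` lies in `T` -/
theorem TU_mem_of_SC {S T : Subgroup (SU (k + 2) F q)} (hT : SC S T)
    (hX : ∀ s : F, s ^ q + s = 0 → TU q fr.e s ∈ T) {v : Fin (k + 2) → F} (hv0 : v ≠ 0)
    (hv : hermForm (k + 2) F q v v = 0) {s : F} (hs : s ^ q + s = 0) (hS : TU q v s ∈ S) :
    TU q v s ∈ T := by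
  obtain ⟨g, c, hc0, hg⟩ := exists_SU_point fr.e_ne_zero fr.he hv0 hv
  have hfix : ((c * c ^ q)⁻¹) ^ q = (c * c ^ q)⁻¹ := by rw [inv_pow, norm_fixed]
  have hs' : (s * (c * c ^ q)⁻¹) ^ q + s * (c * c ^ q)⁻¹ = 0 := tz_mul_fixed hs hfix
  have h1 := conj_TU g fr.he hs'
  rw [hg, TU_smul hv hs'] at h1
  have hcc : c * c ^ q ≠ 0 := mul_ne_zero hc0 (pow_ne_zero q hc0)
  have h2 : s * (c * c ^ q)⁻¹ * (c * c ^ q) = s := by field_simp
  rw [h2] at h1
  rw [← h1]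
  apply hT.2 _ (hX _ hs')
  rw [h1]
  exact hS

end FrameX

/-- the set of parameters of Siegel elements lying in `T` -/
def W0 (fr : Frame F q k) (T : Subgroup (SU (k + 2) F q)) : Set (Fin k → F) :=
  {w | ∀ a, Val q w a → fr.sgt w a ∈ T}

namespace FrameX

variable (fr : Frame F q k)

theorem W0_of_one {T : Subgroup (SU (k + 2) F q)}
    (hX : ∀ s : F, s ^ q + s = 0 → TU q fr.e s ∈ T) {w : Fin k → F} {b : F} (hb : Val q w b)
    (h : fr.sgt w b ∈ T) : w ∈ W0 fr T := by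
  intro a ha
  have hd := Val_diff hb ha
  have := fr.sgt_mul_TU hb hd
  rw [show b + (a - b) = a by ring] at this
  rw [← this]
  exact T.mul_mem h (hX _ hd)

theorem W0_add {T : Subgroup (SU (k + 2) F q)}
    (hX : ∀ s : F, s ^ q + s = 0 → TU q fr.e s ∈ T) {w w' : Fin k → F} (hw : w ∈ W0 fr T)
    (hw' : w' ∈ W0 fr T) : w + w' ∈ W0 fr T := by
  obtain ⟨a, ha⟩ := exists_Val (q := q) w
  obtain ⟨a', ha'⟩ := exists_Val (q := q) w'
  apply W0_of_one fr hX (Val_add ha ha')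
  rw [← fr.sgt_mul ha ha']
  exact T.mul_mem (hw a ha) (hw' a' ha')

theorem W0_zero {T : Subgroup (SU (k + 2) F q)} (hX : ∀ s : F, s ^ q + s = 0 → TU q fr.e s ∈ T) :
    (0 : Fin k → F) ∈ W0 fr T := by
  intro a ha
  rw [fr.sgt_zero_left (Val_zero_iff.mp ha)]
  exact hX _ (Val_zero_iff.mp ha)

theorem W0_iota {S T : Subgroup (SU (k + 2) F q)} (hT : SC S T) (hQ : fr.Qv ≤ S)
    (A : SU k F q) {w : Fin k → F} (hw : w ∈ W0 fr T) : mt A *ᵥ w ∈ W0 fr T := by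
  intro a ha
  have ha' : Val q w a := by
    unfold Val at ha ⊢
    rwa [herm_mt] at ha
  rw [← conj_sgt_iota fr A ha']
  apply hT.2 _ (hw a ha')
  rw [conj_sgt_iota fr A ha']
  exact hQ (fr.sgt_mem_Qv ha)

/-- step 3: commutators with a transvection of the Levi factor -/
theorem W0_smul_of_TU {S T : Subgroup (SU (k + 2) F q)} (hT : SC S T) (hQ : fr.Qv ≤ S)
    (hX : ∀ s : F, s ^ q + s = 0 → TU q fr.e s ∈ T) {x : Fin k → F} (hx0 : x ≠ 0)
    (hx : hermForm k F q x x = 0)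
    (hxT : ∀ s : F, s ^ q + s = 0 → TU q (iw x : Fin (k + 2) → F) s ∈ T) (lam : F) :
    lam • x ∈ W0 fr T := by
  obtain ⟨ε, hε0, hε⟩ := exists_tz_ne_zero (F := F) (q := q)
  obtain ⟨w₁, hw₁⟩ := exists_herm_eq_one (q := q) hx0
  set w' : Fin k → F := (lam / ε) • w₁ with hw'
  obtain ⟨a', ha'⟩ := exists_Val (q := q) w'
  have ht := hxT ε hε
  have hu : fr.sgt w' a' ∈ S := hQ (fr.sgt_mem_Qv ha')
  -- the commutator lies in `T`
  have hcomm : TU q (iw x : Fin (k + 2) → F) ε * fr.sgt w' a' *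
      (TU q (iw x : Fin (k + 2) → F) ε)⁻¹ * (fr.sgt w' a')⁻¹ ∈ T := by
    have h1 : fr.sgt w' a' * (TU q (iw x : Fin (k + 2) → F) ε)⁻¹ * (fr.sgt w' a')⁻¹ ∈ T :=
      hT.normal (T.inv_mem ht) hu
    have := T.mul_mem ht h1
    have e : TU q (iw x : Fin (k + 2) → F) ε * (fr.sgt w' a' *
        (TU q (iw x : Fin (k + 2) → F) ε)⁻¹ * (fr.sgt w' a')⁻¹) =
        TU q (iw x : Fin (k + 2) → F) ε * fr.sgt w' a' *
        (TU q (iw x : Fin (k + 2) → F) ε)⁻¹ * (fr.sgt w' a')⁻¹ := by group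
    rwa [e] at this
  have hconj := fr.conj_sgt (fr.TU_iw_mem_Lv hx hε) ha'
  rw [fr.lt_TU_iw hx hε, Frame.lact_TU_iw hx hε, one_pow, one_smul, one_mul, one_mul] at hconj
  have hval1 : Val q (w' + (ε * hermForm k F q w' x) • x) a' := by
    have := fr.Val_conj (fr.TU_iw_mem_Lv hx hε) ha'
    rwa [fr.lt_TU_iw hx hε, Frame.lact_TU_iw hx hε, one_pow, one_smul, one_mul, one_mul] at this
  rw [hconj, fr.sgt_inv ha', fr.sgt_mul hval1 (Val_neg ha')] at hcomm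
  have hlam : ε * hermForm k F q w' x = lam := by
    rw [hw', hermForm_smul_left, hw₁, mul_one]
    field_simp
  rw [hlam] at hcomm hval1
  have hvec : w' + lam • x + -w' = lam • x := by abel
  have hval2 := Val_add hval1 (Val_neg ha')
  rw [hvec] at hcomm hval2
  exact W0_of_one fr hX hval2 hcomm

end FrameX

end Cfsg.Agent.Lead.SUFus
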