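import Mathlib
import Cfsg.Agent.Lead.SUFusD

set_option autoImplicit false
set_option linter.unusedSectionVars false

/-! # The `p`-fusion system of `PSU_n(q)`, part E: no proper strongly closed subgroups (lead) -/

namespace Cfsg.Agent.Lead.SUFus

open Matrix Cfsg Cfsg.Agent.Helper7.Herm Cfsg.Agent.Helper8.GUOrder Cfsg.Agent.Helper8.SURoot
  Cfsg.Agent.Helper8.AutSU Cfsg.Agent.Helper7.SUSimp Cfsg.Agent.Helper8.AutSLn

variable {F : Type*} [Field F] [Fintype F] {q k N m : ℕ} [hF : Fact (Fintype.card F = q ^ 2)]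

theorem SC.le_normalizer {G : Type*} [Group G] {S T : Subgroup G} (h : SC S T) :
    S ≤ Subgroup.normalizer (T : Set G) := by
  intro s hs
  rw [Subgroup.mem_normalizer_iff]
  intro x
  constructor
  · intro hx
    exact h.normal hx hs
  · intro hx
    have := h.normal hx (S.inv_mem hs)
    have e : s⁻¹ * (s * x * s⁻¹) * s⁻¹⁻¹ = x := by group
    rwa [e] at this

/-- every isotropic vector of `F^{m+2}` is a parameter in `W0` -/
theorem W0_isotropic (fr : Frame F q (m + 2)) (fr' : Frame F q m)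
    {S T : Subgroup (SU (m + 2 + 2) F q)} (hT : SC S T) (hQ : fr.Qv ≤ S)
    (hX : ∀ s : F, s ^ q + s = 0 → TU q fr.e s ∈ T)
    (hW : ∀ lam : F, lam • fr'.e ∈ W0 fr T) {y : Fin (m + 2) → F}
    (hy : hermForm (m + 2) F q y y = 0) : y ∈ W0 fr T := by
  by_cases hy0 : y = 0
  · rw [hy0]
    exact FrameX.W0_zero fr hX
  obtain ⟨A, c, hc0, hA⟩ := exists_SU_point fr'.e_ne_zero fr'.he hy0 hy
  have := FrameX.W0_iota fr hT hQ A (hW c⁻¹)
  rwa [mulVec_smul, hA, smul_smul, inv_mul_cancel₀ hc0, one_smul] at this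

theorem W0_all (fr : Frame F q (m + 2)) (fr' : Frame F q m)
    {S T : Subgroup (SU (m + 2 + 2) F q)} (hT : SC S T) (hQ : fr.Qv ≤ S)
    (hX : ∀ s : F, s ^ q + s = 0 → TU q fr.e s ∈ T)
    (hW : ∀ lam : F, lam • fr'.e ∈ W0 fr T) (w : Fin (m + 2) → F) : w ∈ W0 fr T := by
  have hiso := fun {y : Fin (m + 2) → F} (hy : hermForm (m + 2) F q y y = 0) =>
    W0_isotropic fr fr' hT hQ hX hW hy
  obtain ⟨b, hb⟩ := exists_Val (q := q) (wp w)
  set α := hermForm (m + 2) F q w fr'.f with hα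
  set β := hermForm (m + 2) F q w fr'.e with hβ
  have hdec := fr'.dec w
  rw [← hα, ← hβ] at hdec
  have h1 : hermForm (m + 2) F q (fr'.f + iw (wp w) + b • fr'.e) (fr'.f + iw (wp w) + b • fr'.e)
      = 0 := by
    simp only [hermForm_add_left, h_add_right, hermForm_smul_left, hermForm_smul_right, fr'.he,
      fr'.hf, fr'.hef, fr'.hfe, fr'.hwe, fr'.hwf, fr'.hew, fr'.hfw, h_iw]
    unfold Val at hb
    linear_combination hb
  have h2 : hermForm (m + 2) F q ((α - b) • fr'.e) ((α - b) • fr'.e) = 0 := by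
    rw [hermForm_smul_left, hermForm_smul_right, fr'.he]; ring
  have h3 : hermForm (m + 2) F q ((β - 1) • fr'.f) ((β - 1) • fr'.f) = 0 := by
    rw [hermForm_smul_left, hermForm_smul_right, fr'.hf]; ring
  have hsum : w = (fr'.f + iw (wp w) + b • fr'.e) + (α - b) • fr'.e + (β - 1) • fr'.f := by
    conv_lhs => rw [hdec]
    module
  rw [hsum]
  exact FrameX.W0_add fr hX (FrameX.W0_add fr hX (hiso h1) (hiso h2)) (hiso h3)

/-- a Sylow `p`-subgroup of `SU_{m+4}(q)` containing the two unipotent radicals has no proper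
nontrivial strongly closed subgroup -/
theorem stronglyClosed_eq (p : ℕ) [Fact p.Prime] [CharP F p] (fr : Frame F q (m + 2))
    (fr' : Frame F q m) (S : Sylow p (SU (m + 2 + 2) F q)) (hQ : fr.Qv ≤ S)
    (hQ' : (fr'.Qv).map iota ≤ (S : Subgroup (SU (m + 2 + 2) F q)))
    (T : Subgroup (SU (m + 2 + 2) F q)) (hT : SC (S : Subgroup (SU (m + 2 + 2) F q)) T) :
    T = ⊥ ∨ T = S := by
  by_cases hbot : T = ⊥
  · exact Or.inl hbot
  right
  have hp : p.Prime := Fact.out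
  obtain ⟨x, hxT, hxo, hxc⟩ := Cfsg.Agent.Helper5.exists_orderOf_eq_prime_central
    (S : Subgroup (SU (m + 2 + 2) F q)) T S.isPGroup' hT.1 hbot hT.le_normalizer
  have hxZ : x ∈ ZZ (S : Subgroup (SU (m + 2 + 2) F q)) := mem_ZZ.mpr ⟨hT.1 hxT, hxc⟩
  rw [fr.ZZ_sylow p (by omega) S hQ] at hxZ
  obtain ⟨s₀, hs₀, rfl⟩ := (mem_RG_iff fr.e_ne_zero fr.he x).mp hxZ
  have hs₀0 : s₀ ≠ 0 := by
    rintro rfl
    rw [TU_zero _ fr.he, orderOf_one] at hxo
    exact hp.one_lt.ne hxo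
  have hX : ∀ s : F, s ^ q + s = 0 → TU q fr.e s ∈ T := fun s hs =>
    FrameX.TU_e_mem_of_SC fr (by omega) hT hQ hs₀ hs₀0 hxT hs
  have hiw0 : (iw fr'.e : Fin (m + 2 + 2) → F) ≠ 0 := fun h =>
    fr'.e_ne_zero (iw_injective (h.trans iw_zero.symm))
  have hiwh : hermForm (m + 2 + 2) F q (iw fr'.e) (iw fr'.e) = 0 := by rw [h_iw, fr'.he]
  have hxT' : ∀ s : F, s ^ q + s = 0 → TU q (iw fr'.e : Fin (m + 2 + 2) → F) s ∈ T := by
    intro s hs
    apply FrameX.TU_mem_of_SC fr hT hX hiw0 hiwh hs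
    rw [← FrameX.iota_TU fr'.he hs]
    exact hQ' ⟨_, fr'.TU_e_mem_Qv hs, rfl⟩
  have hW : ∀ lam : F, lam • fr'.e ∈ W0 fr T := fun lam =>
    FrameX.W0_smul_of_TU fr hT hQ hX fr'.e_ne_zero fr'.he hxT' lam
  have hall := W0_all fr fr' hT hQ hX hW
  have hQT : fr.Qv ≤ T := by
    intro g hg
    obtain ⟨w, a, ha, rfl⟩ := fr.mem_Qv_iff'.mp hg
    exact hall w a ha
  have hrad : ∀ u, u ∈ (S : Subgroup (SU (m + 2 + 2) F q)) → IsRadEl u → u ∈ T := by
    rintro u huS ⟨v, hv0, hv, huv⟩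
    obtain ⟨g, c, hc0, hg⟩ := exists_SU_point fr.e_ne_zero fr.he hv0 hv
    have h1 := Rad_conj huv g⁻¹
    have h2 : mt g⁻¹ *ᵥ v = c⁻¹ • fr.e := by
      have := congrArg (fun y => c⁻¹ • (mt g⁻¹ *ᵥ y)) hg
      beta_reduce at this
      rw [mt_inv_mulVec', mulVec_smul, smul_smul, inv_mul_cancel₀ hc0, one_smul] at this
      exact this.symm
    rw [h2, Rad_smul (inv_ne_zero hc0), FrameX.Rad_e, inv_inv] at h1
    have h3 := hT.2 _ (hQT h1) g
    have e : g * (g⁻¹ * u * g) * g⁻¹ = u := by group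
    rw [e] at h3
    exact h3 huS
  apply le_antisymm hT.1
  refine (sylow_le_closure_radEl p (m + 2 + 2) S).trans ?_
  rw [Subgroup.closure_le]
  rintro u ⟨hu1, hu2⟩
  exact hrad u hu1 hu2

end Cfsg.Agent.Lead.SUFus
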