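import Mathlib
import Cfsg.Agent.Lead.SUFusC

set_option autoImplicit false
set_option linter.unusedSectionVars false

/-! # The `p`-fusion system of `PSU_n(q)`, part F: Eichler elements (lead) -/

namespace Cfsg.Agent.Lead.SUFus

open Matrix Cfsg Cfsg.Agent.Helper7.Herm Cfsg.Agent.Helper8.GUOrder Cfsg.Agent.Helper8.SURoot
  Cfsg.Agent.Helper8.AutSU

variable {F : Type*} [Field F] [Fintype F] {q k N m : ℕ} [hF : Fact (Fintype.card F = q ^ 2)]

/-- the matrix of `v ↦ v + c h(v,u) w - c^q h(v,w) u` -/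
def EicM (q : ℕ) (u w : Fin N → F) (c : F) : Matrix (Fin N) (Fin N) F :=
  Rm q (c • w) u * Rm q (-(c ^ q) • u) w

theorem EicM_mulVec {u w : Fin N → F} (hu : hermForm N F q u u = 0) (c : F) (v : Fin N → F) :
    EicM q u w c *ᵥ v =
      v + (c * hermForm N F q v u) • w - (c ^ q * hermForm N F q v w) • u := by
  unfold EicM
  rw [← mulVec_mulVec, Rm_mulVec, Rm_mulVec, hermForm_add_left, hermForm_smul_left,
    hermForm_smul_left, hu]
  module

theorem det_EicM {u w : Fin N → F} (huw : hermForm N F q u w = 0) (c : F) :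
    (EicM q u w c).det = 1 := by
  unfold EicM
  rw [det_mul, det_Rm, det_Rm, hermForm_smul_left, hermForm_smul_left, huw,
    h_eq_zero_of_swap huw]
  ring

theorem form_EicM {u w : Fin N → F} (hu : hermForm N F q u u = 0) (hw : hermForm N F q w w = 0)
    (huw : hermForm N F q u w = 0) (c : F) (x y : Fin N → F) :
    hermForm N F q (EicM q u w c *ᵥ x) (EicM q u w c *ᵥ y) = hermForm N F q x y := by
  have hwu : hermForm N F q w u = 0 := h_eq_zero_of_swap huw
  rw [EicM_mulVec hu, EicM_mulVec hu]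
  simp only [hermForm_add_left, h_add_right, hermForm_smul_left, hermForm_smul_right,
    hermForm_sub_left, h_sub_right, hu, hw, huw, hwu, mul_pow, bb]
  rw [h_swap u y, h_swap w y]
  ring

/-- the Eichler element `v ↦ v + c h(v,u) w - c^q h(v,w) u` -/
def Eic {u w : Fin N → F} (hu : hermForm N F q u u = 0) (hw : hermForm N F q w w = 0)
    (huw : hermForm N F q u w = 0) (c : F) : SU N F q :=
  mkS (EicM q u w c) (det_EicM huw c) (form_EicM hu hw huw c)

theorem Eic_mulVec {u w : Fin N → F} (hu : hermForm N F q u u = 0)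
    (hw : hermForm N F q w w = 0) (huw : hermForm N F q u w = 0) (c : F) (v : Fin N → F) :
    mt (Eic hu hw huw c) *ᵥ v =
      v + (c * hermForm N F q v u) • w - (c ^ q * hermForm N F q v w) • u :=
  EicM_mulVec hu c v

theorem Eic_mul {u w : Fin N → F} (hu : hermForm N F q u u = 0)
    (hw : hermForm N F q w w = 0) (huw : hermForm N F q u w = 0) (c c' : F) :
    Eic hu hw huw c * Eic hu hw huw c' = Eic hu hw huw (c + c') := by
  have hwu : hermForm N F q w u = 0 := h_eq_zero_of_swap huw
  apply ext_mulVec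
  intro v
  rw [mt_mul_mulVec, Eic_mulVec, Eic_mulVec, Eic_mulVec]
  simp only [hermForm_add_left, hermForm_sub_left, hermForm_smul_left, hu, hw, huw, hwu, b_add]
  module

theorem Eic_zero {u w : Fin N → F} (hu : hermForm N F q u u = 0)
    (hw : hermForm N F q w w = 0) (huw : hermForm N F q u w = 0) :
    Eic hu hw huw (0 : F) = 1 := by
  apply ext_mulVec
  intro v
  rw [Eic_mulVec, mt_one_mulVec, b_zero]
  module

theorem Eic_pow {u w : Fin N → F} (hu : hermForm N F q u u = 0)
    (hw : hermForm N F q w w = 0) (huw : hermForm N F q u w = 0) (c : F) (n : ℕ) :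
    Eic hu hw huw c ^ n = Eic hu hw huw ((n : F) * c) := by
  induction n with
  | zero => rw [pow_zero, Nat.cast_zero, zero_mul, Eic_zero]
  | succ n ih =>
    rw [pow_succ, ih, Eic_mul]
    congr 1
    push_cast
    ring

theorem Eic_pow_char (p : ℕ) [CharP F p] {u w : Fin N → F} (hu : hermForm N F q u u = 0)
    (hw : hermForm N F q w w = 0) (huw : hermForm N F q u w = 0) (c : F) :
    Eic hu hw huw c ^ p = 1 := by
  rw [Eic_pow, CharP.cast_eq_zero, zero_mul, Eic_zero]

theorem exists_orderOf_of_pow_prime {G : Type*} [Group G] (p : ℕ) [Fact p.Prime] {g : G}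
    (h : g ^ p = 1) : ∃ j : ℕ, orderOf g = p ^ j := by
  have hp : p.Prime := Fact.out
  have hd : orderOf g ∣ p ^ 1 := by
    rw [pow_one]
    exact orderOf_dvd_of_pow_eq_one h
  obtain ⟨j, _, hj⟩ := (Nat.dvd_prime_pow hp).mp hd
  exact ⟨j, hj⟩

theorem orderOf_Eic (p : ℕ) [Fact p.Prime] [CharP F p] {u w : Fin N → F}
    (hu : hermForm N F q u u = 0) (hw : hermForm N F q w w = 0)
    (huw : hermForm N F q u w = 0) (c : F) : ∃ j : ℕ, orderOf (Eic hu hw huw c) = p ^ j :=
  exists_orderOf_of_pow_prime p (Eic_pow_char p hu hw huw c)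

end Cfsg.Agent.Lead.SUFus
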