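import Mathlib
import Cfsg.Agent.Lead.SUFusF

set_option autoImplicit false
set_option linter.unusedSectionVars false

/-! # The `p`-fusion system of `PSU_n(q)`, part G: two nested frames, the `SL_2(q²)` root elements
and its torus (lead) -/

namespace Cfsg.Agent.Lead.SUFus.Two

open Matrix Cfsg Cfsg.Agent.Helper7.Herm Cfsg.Agent.Helper8.GUOrder Cfsg.Agent.Helper8.SURoot
  Cfsg.Agent.Helper8.AutSU

variable {F : Type*} [Field F] [Fintype F] {q m : ℕ} [hF : Fact (Fintype.card F = q ^ 2)]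

variable (fr : Frame F q (m + 2)) (fr' : Frame F q m)

/-- the second isotropic vector -/
def e2 : Fin (m + 2 + 2) → F := iw fr'.e

/-- the partner of the second isotropic vector -/
def f2 : Fin (m + 2 + 2) → F := iw fr'.f

theorem e2_e2 : hermForm (m + 2 + 2) F q (e2 fr') (e2 fr') = 0 := by
  unfold e2; rw [h_iw, fr'.he]

theorem f2_f2 : hermForm (m + 2 + 2) F q (f2 fr') (f2 fr') = 0 := by
  unfold f2; rw [h_iw, fr'.hf]

theorem e2_f2 : hermForm (m + 2 + 2) F q (e2 fr') (f2 fr') = 1 := by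
  unfold e2 f2; rw [h_iw, fr'.hef]

theorem f2_e2 : hermForm (m + 2 + 2) F q (f2 fr') (e2 fr') = 1 := by
  unfold e2 f2; rw [h_iw, fr'.hfe]

theorem e2_e : hermForm (m + 2 + 2) F q (e2 fr') fr.e = 0 := fr.hwe _

theorem e2_f : hermForm (m + 2 + 2) F q (e2 fr') fr.f = 0 := fr.hwf _

theorem f2_e : hermForm (m + 2 + 2) F q (f2 fr') fr.e = 0 := fr.hwe _

theorem f2_f : hermForm (m + 2 + 2) F q (f2 fr') fr.f = 0 := fr.hwf _

theorem e_e2 : hermForm (m + 2 + 2) F q fr.e (e2 fr') = 0 := fr.hew _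

theorem f_e2 : hermForm (m + 2 + 2) F q fr.f (e2 fr') = 0 := fr.hfw _

theorem e_f2 : hermForm (m + 2 + 2) F q fr.e (f2 fr') = 0 := fr.hew _

theorem f_f2 : hermForm (m + 2 + 2) F q fr.f (f2 fr') = 0 := fr.hfw _

theorem ii_e (y : Fin m → F) : hermForm (m + 2 + 2) F q (iw (iw y)) fr.e = 0 := fr.hwe _

theorem ii_f (y : Fin m → F) : hermForm (m + 2 + 2) F q (iw (iw y)) fr.f = 0 := fr.hwf _

theorem ii_e2 (y : Fin m → F) : hermForm (m + 2 + 2) F q (iw (iw y)) (e2 fr') = 0 := by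
  unfold e2; rw [h_iw, fr'.hwe]

theorem ii_f2 (y : Fin m → F) : hermForm (m + 2 + 2) F q (iw (iw y)) (f2 fr') = 0 := by
  unfold f2; rw [h_iw, fr'.hwf]

/-- a vector in the coordinates of the two frames -/
def vec (a b a' b' : F) (y : Fin m → F) : Fin (m + 2 + 2) → F :=
  a • fr.e + b • fr.f + a' • e2 fr' + b' • f2 fr' + iw (iw y)

theorem vec_e (a b a' b' : F) (y : Fin m → F) :
    hermForm (m + 2 + 2) F q (vec fr fr' a b a' b' y) fr.e = b := by
  unfold vec
  simp only [hermForm_add_left, hermForm_smul_left, fr.he, fr.hfe, e2_e, f2_e, ii_e]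
  ring

theorem vec_f (a b a' b' : F) (y : Fin m → F) :
    hermForm (m + 2 + 2) F q (vec fr fr' a b a' b' y) fr.f = a := by
  unfold vec
  simp only [hermForm_add_left, hermForm_smul_left, fr.hf, fr.hef, e2_f, f2_f, ii_f]
  ring

theorem vec_e2 (a b a' b' : F) (y : Fin m → F) :
    hermForm (m + 2 + 2) F q (vec fr fr' a b a' b' y) (e2 fr') = b' := by
  unfold vec
  simp only [hermForm_add_left, hermForm_smul_left, e_e2, f_e2, e2_e2, f2_e2, ii_e2]
  ring

theorem vec_f2 (a b a' b' : F) (y : Fin m → F) :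
    hermForm (m + 2 + 2) F q (vec fr fr' a b a' b' y) (f2 fr') = a' := by
  unfold vec
  simp only [hermForm_add_left, hermForm_smul_left, e_f2, f_f2, e2_f2, f2_f2, ii_f2]
  ring

theorem iw_eq_vec (w : Fin (m + 2) → F) :
    (iw w : Fin (m + 2 + 2) → F) =
      vec fr fr' 0 0 (hermForm (m + 2) F q w fr'.f) (hermForm (m + 2) F q w fr'.e) (wp w) := by
  unfold vec e2 f2
  conv_lhs => rw [fr'.dec w]
  rw [iw_add, iw_add, iw_smul, iw_smul]
  module

theorem eq_vec (v : Fin (m + 2 + 2) → F) :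
    v = vec fr fr' (hermForm (m + 2 + 2) F q v fr.f) (hermForm (m + 2 + 2) F q v fr.e)
      (hermForm (m + 2) F q (wp v) fr'.f) (hermForm (m + 2) F q (wp v) fr'.e) (wp (wp v)) := by
  conv_lhs => rw [fr.dec v, iw_eq_vec fr fr' (wp v)]
  unfold vec
  module

theorem vec_e_eq : vec fr fr' 1 0 0 0 0 = fr.e := by
  unfold vec
  rw [iw_zero, iw_zero]
  module

theorem vec_f_eq : vec fr fr' 0 1 0 0 0 = fr.f := by
  unfold vec
  rw [iw_zero, iw_zero]
  module

/-- the root element `e' ↦ e' + c e`, `f ↦ f - c^q f'` -/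
def xp (c : F) : SU (m + 2 + 2) F q := Eic (f2_f2 fr') fr.he (f2_e fr fr') c

/-- the root element `e ↦ e + c e'`, `f' ↦ f' - c^q f` -/
def xm (c : F) : SU (m + 2 + 2) F q := Eic fr.hf (e2_e2 fr') (f_e2 fr fr') c

theorem xp_vec (c a b a' b' : F) (y : Fin m → F) :
    mt (xp fr fr' c) *ᵥ vec fr fr' a b a' b' y = vec fr fr' (a + c * a') b a' (b' - c ^ q * b) y := by
  unfold xp
  rw [Eic_mulVec, vec_f2, vec_e]
  unfold vec
  module

theorem xm_vec (c a b a' b' : F) (y : Fin m → F) :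
    mt (xm fr fr' c) *ᵥ vec fr fr' a b a' b' y = vec fr fr' a (b - c ^ q * b') (a' + c * a) b' y := by
  unfold xm
  rw [Eic_mulVec, vec_f, vec_e2]
  unfold vec
  module

/-- the torus element of `SL_2(q²)` as a product of root elements -/
def del (t : F) : SU (m + 2 + 2) F q :=
  xp fr fr' t * xm fr fr' (-t⁻¹) * xp fr fr' t *
    (xp fr fr' (-1) * xm fr fr' 1 * xp fr fr' (-1))

theorem del_vec {t : F} (ht : t ≠ 0) (a b a' b' : F) (y : Fin m → F) :
    mt (del fr fr' t) *ᵥ vec fr fr' a b a' b' y =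
      vec fr fr' (t * a) ((t ^ q)⁻¹ * b) (t⁻¹ * a') (t ^ q * b') y := by
  have htq : t ^ q ≠ 0 := pow_ne_zero q ht
  unfold del
  rw [mt_mul_mulVec, mt_mul_mulVec, mt_mul_mulVec, mt_mul_mulVec, mt_mul_mulVec,
    xp_vec, xm_vec, xp_vec, xp_vec, xm_vec, xp_vec]
  simp only [b_neg, b_one, b_inv]
  congr 1
  · field_simp
    ring
  · field_simp
    ring
  · field_simp
    ring
  · field_simp
    ring

end Cfsg.Agent.Lead.SUFus.Two
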