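import Mathlib
import Cfsg.Agent.Lead.SUFusG

set_option autoImplicit false
set_option linter.unusedSectionVars false

/-! # The `p`-fusion system of `PSU_n(q)`, part H: the radical of an isotropic line (lead) -/

namespace Cfsg.Agent.Lead.SUFus

open Matrix Cfsg Cfsg.Agent.Helper7.Herm Cfsg.Agent.Helper8.GUOrder Cfsg.Agent.Helper8.SURoot
  Cfsg.Agent.Helper8.AutSU

variable {F : Type*} [Field F] [Fintype F] {q k N m : ℕ} [hF : Fact (Fintype.card F = q ^ 2)]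

/-- the unipotent radical of the stabiliser of the line `⟨a, b⟩`, defined intrinsically -/
def Rad2 (q : ℕ) (a b : Fin N → F) : Subgroup (SU N F q) where
  carrier := {g | mt g *ᵥ a = a ∧ mt g *ᵥ b = b ∧
    ∀ x, hermForm N F q x a = 0 → hermForm N F q x b = 0 →
      ∃ α β : F, mt g *ᵥ x = x + α • a + β • b}
  mul_mem' := by
    rintro g g' ⟨h1, h2, h3⟩ ⟨h1', h2', h3'⟩
    refine ⟨by rw [mt_mul_mulVec, h1', h1], by rw [mt_mul_mulVec, h2', h2], fun x hxa hxb => ?_⟩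
    obtain ⟨α', β', h'⟩ := h3' x hxa hxb
    obtain ⟨α, β, h⟩ := h3 x hxa hxb
    refine ⟨α + α', β + β', ?_⟩
    rw [mt_mul_mulVec, h', mulVec_add, mulVec_add, mulVec_smul, mulVec_smul, h1, h2, h]
    module
  one_mem' := ⟨mt_one_mulVec a, mt_one_mulVec b, fun x _ _ =>
    ⟨0, 0, by rw [mt_one_mulVec, zero_smul, zero_smul, add_zero, add_zero]⟩⟩
  inv_mem' := by
    rintro g ⟨h1, h2, h3⟩
    have ha : mt g⁻¹ *ᵥ a = a := by
      have := congrArg (fun y => mt g⁻¹ *ᵥ y) h1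
      beta_reduce at this
      rw [mt_inv_mulVec'] at this
      exact this.symm
    have hb : mt g⁻¹ *ᵥ b = b := by
      have := congrArg (fun y => mt g⁻¹ *ᵥ y) h2
      beta_reduce at this
      rw [mt_inv_mulVec'] at this
      exact this.symm
    refine ⟨ha, hb, fun x hxa hxb => ?_⟩
    obtain ⟨α, β, h⟩ := h3 x hxa hxb
    refine ⟨-α, -β, ?_⟩
    have := congrArg (fun y => mt g⁻¹ *ᵥ y) h
    beta_reduce at this
    rw [mt_inv_mulVec', mulVec_add, mulVec_add, mulVec_smul, mulVec_smul, ha, hb] at this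
    have h4 : mt g⁻¹ *ᵥ x = x - α • a - β • b := by
      rw [eq_sub_iff_add_eq, eq_sub_iff_add_eq, add_right_comm]; exact this.symm
    rw [h4]
    module

/-- `g` maps `a` and `b` into their span -/
def StabW (a b : Fin N → F) (g : SU N F q) : Prop :=
  (∃ α β : F, mt g *ᵥ a = α • a + β • b) ∧ (∃ γ δ : F, mt g *ᵥ b = γ • a + δ • b)

theorem conj_mem_Rad2 {a b : Fin N → F} {g r : SU N F q} (hg : StabW a b g)
    (hg' : StabW a b g⁻¹) (hr : r ∈ Rad2 q a b) : g * r * g⁻¹ ∈ Rad2 q a b := by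
  obtain ⟨⟨α, β, hga⟩, ⟨γ, δ, hgb⟩⟩ := hg
  obtain ⟨⟨α', β', hga'⟩, ⟨γ', δ', hgb'⟩⟩ := hg'
  obtain ⟨h1, h2, h3⟩ := hr
  refine ⟨?_, ?_, fun x hxa hxb => ?_⟩
  · rw [mt_mul_mulVec, mt_mul_mulVec, hga', mulVec_add, mulVec_smul, mulVec_smul, h1, h2, ← hga',
      mt_inv_mulVec]
  · rw [mt_mul_mulVec, mt_mul_mulVec, hgb', mulVec_add, mulVec_smul, mulVec_smul, h1, h2, ← hgb',
      mt_inv_mulVec]
  · have hya : hermForm N F q (mt g⁻¹ *ᵥ x) a = 0 := by
      rw [← herm_mt g, mt_inv_mulVec, hga, h_add_right, hermForm_smul_right, hermForm_smul_right,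
        hxa, hxb]
      ring
    have hyb : hermForm N F q (mt g⁻¹ *ᵥ x) b = 0 := by
      rw [← herm_mt g, mt_inv_mulVec, hgb, h_add_right, hermForm_smul_right, hermForm_smul_right,
        hxa, hxb]
      ring
    obtain ⟨α₁, β₁, h⟩ := h3 _ hya hyb
    refine ⟨α₁ * α + β₁ * γ, α₁ * β + β₁ * δ, ?_⟩
    rw [mt_mul_mulVec, mt_mul_mulVec, h, mulVec_add, mulVec_add, mulVec_smul, mulVec_smul,
      mt_inv_mulVec, hga, hgb]
    module

theorem mem_normalizer_Rad2 {a b : Fin N → F} {g : SU N F q} (hg : StabW a b g)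
    (hg' : StabW a b g⁻¹) : g ∈ Subgroup.normalizer (Rad2 q a b : Set (SU N F q)) := by
  rw [Subgroup.mem_normalizer_iff]
  intro r
  constructor
  · intro hr
    exact conj_mem_Rad2 hg hg' hr
  · intro hr
    have hg'' : StabW a b g⁻¹⁻¹ := by rwa [inv_inv]
    have := conj_mem_Rad2 hg' hg'' hr
    have e : g⁻¹ * (g * r * g⁻¹) * g⁻¹⁻¹ = r := by group
    rwa [e] at this

namespace Two

variable (fr : Frame F q (m + 2)) (fr' : Frame F q m)

theorem e2_eq_vec : e2 fr' = vec fr fr' 0 0 1 0 0 := by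
  unfold vec
  rw [iw_zero, iw_zero]
  module

theorem xp_e (c : F) : mt (xp fr fr' c) *ᵥ fr.e = fr.e := by
  conv_lhs => rw [← vec_e_eq fr fr', xp_vec]
  simp only [mul_zero, add_zero, sub_zero]
  rw [vec_e_eq]

theorem xp_e2 (c : F) : mt (xp fr fr' c) *ᵥ e2 fr' = c • fr.e + e2 fr' := by
  conv_lhs => rw [e2_eq_vec fr fr', xp_vec]
  unfold vec
  rw [iw_zero, iw_zero]
  module

theorem xm_e (c : F) : mt (xm fr fr' c) *ᵥ fr.e = fr.e + c • e2 fr' := by
  conv_lhs => rw [← vec_e_eq fr fr', xm_vec]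
  unfold vec
  rw [iw_zero, iw_zero]
  module

theorem xm_e2 (c : F) : mt (xm fr fr' c) *ᵥ e2 fr' = e2 fr' := by
  conv_lhs => rw [e2_eq_vec fr fr', xm_vec]
  simp only [mul_zero, add_zero, sub_zero]
  rw [← e2_eq_vec]

theorem xp_inv (c : F) : (xp fr fr' c)⁻¹ = xp fr fr' (-c) := by
  rw [inv_eq_iff_mul_eq_one]
  unfold xp
  rw [Eic_mul, add_neg_cancel, Eic_zero]

theorem xm_inv (c : F) : (xm fr fr' c)⁻¹ = xm fr fr' (-c) := by
  rw [inv_eq_iff_mul_eq_one]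
  unfold xm
  rw [Eic_mul, add_neg_cancel, Eic_zero]

theorem stabW_xp (c : F) : StabW fr.e (e2 fr') (xp fr fr' c) :=
  ⟨⟨1, 0, by rw [xp_e, one_smul, zero_smul, add_zero]⟩, ⟨c, 1, by rw [xp_e2, one_smul]⟩⟩

theorem stabW_xm (c : F) : StabW fr.e (e2 fr') (xm fr fr' c) :=
  ⟨⟨1, c, by rw [xm_e, one_smul]⟩, ⟨0, 1, by rw [xm_e2, one_smul, zero_smul, zero_add]⟩⟩

theorem xp_mem_normalizer (c : F) :
    xp fr fr' c ∈ Subgroup.normalizer (Rad2 q fr.e (e2 fr') : Set (SU (m + 2 + 2) F q)) :=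
  mem_normalizer_Rad2 (stabW_xp fr fr' c) (by rw [xp_inv]; exact stabW_xp fr fr' (-c))

theorem xm_mem_normalizer (c : F) :
    xm fr fr' c ∈ Subgroup.normalizer (Rad2 q fr.e (e2 fr') : Set (SU (m + 2 + 2) F q)) :=
  mem_normalizer_Rad2 (stabW_xm fr fr' c) (by rw [xm_inv]; exact stabW_xm fr fr' (-c))

theorem orderOf_xp (p : ℕ) [Fact p.Prime] [CharP F p] (c : F) :
    ∃ j : ℕ, orderOf (xp fr fr' c) = p ^ j := orderOf_Eic p _ _ _ c

theorem orderOf_xm (p : ℕ) [Fact p.Prime] [CharP F p] (c : F) :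
    ∃ j : ℕ, orderOf (xm fr fr' c) = p ^ j := orderOf_Eic p _ _ _ c

/-- the torus element lies in the subgroup generated by the `p`-elements normalizing `Rad2` -/
theorem del_mem_closure (p : ℕ) [Fact p.Prime] [CharP F p] (t : F) :
    del fr fr' t ∈ Subgroup.closure {g : SU (m + 2 + 2) F q |
      g ∈ Subgroup.normalizer (Rad2 q fr.e (e2 fr') : Set (SU (m + 2 + 2) F q)) ∧
        ∃ j : ℕ, orderOf g = p ^ j} := by
  have hp : ∀ c, xp fr fr' c ∈ Subgroup.closure {g : SU (m + 2 + 2) F q |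
      g ∈ Subgroup.normalizer (Rad2 q fr.e (e2 fr') : Set (SU (m + 2 + 2) F q)) ∧
        ∃ j : ℕ, orderOf g = p ^ j} := fun c =>
    Subgroup.subset_closure ⟨xp_mem_normalizer fr fr' c, orderOf_xp fr fr' p c⟩
  have hm : ∀ c, xm fr fr' c ∈ Subgroup.closure {g : SU (m + 2 + 2) F q |
      g ∈ Subgroup.normalizer (Rad2 q fr.e (e2 fr') : Set (SU (m + 2 + 2) F q)) ∧
        ∃ j : ℕ, orderOf g = p ^ j} := fun c =>
    Subgroup.subset_closure ⟨xm_mem_normalizer fr fr' c, orderOf_xm fr fr' p c⟩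
  unfold del
  exact Subgroup.mul_mem _ (Subgroup.mul_mem _ (Subgroup.mul_mem _ (hp _) (hm _)) (hp _))
    (Subgroup.mul_mem _ (Subgroup.mul_mem _ (hp _) (hm _)) (hp _))

/-- the action of the torus element on `F^{m+2}` -/
def Dt (t : F) (w : Fin (m + 2) → F) : Fin (m + 2) → F :=
  (t⁻¹ * hermForm (m + 2) F q w fr'.f) • fr'.e + (t ^ q * hermForm (m + 2) F q w fr'.e) • fr'.f +
    iw (wp w)

theorem del_e {t : F} (ht : t ≠ 0) : mt (del fr fr' t) *ᵥ fr.e = t • fr.e := by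
  conv_lhs => rw [← vec_e_eq fr fr', del_vec fr fr' ht]
  unfold vec
  rw [iw_zero, iw_zero]
  module

theorem del_f {t : F} (ht : t ≠ 0) : mt (del fr fr' t) *ᵥ fr.f = (t ^ q)⁻¹ • fr.f := by
  conv_lhs => rw [← vec_f_eq fr fr', del_vec fr fr' ht]
  unfold vec
  rw [iw_zero, iw_zero]
  module

theorem del_iw {t : F} (ht : t ≠ 0) (w : Fin (m + 2) → F) :
    mt (del fr fr' t) *ᵥ iw w = iw (Dt fr' t w) := by
  conv_lhs => rw [iw_eq_vec fr fr' w, del_vec fr fr' ht]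
  unfold vec Dt e2 f2
  rw [iw_add, iw_add, iw_smul, iw_smul]
  module

theorem del_mem_Lv {t : F} (ht : t ≠ 0) : del fr fr' t ∈ fr.Lv :=
  ⟨⟨t, del_e fr fr' ht⟩, ⟨(t ^ q)⁻¹, del_f fr fr' ht⟩⟩

theorem lt_del {t : F} (ht : t ≠ 0) : fr.lt (del fr fr' t) = t := by
  unfold Frame.lt
  rw [del_e fr fr' ht, hermForm_smul_left, fr.hef, mul_one]

theorem lact_del {t : F} (ht : t ≠ 0) (w : Fin (m + 2) → F) :
    lact (del fr fr' t) w = Dt fr' t w := by
  unfold lact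
  rw [del_iw fr fr' ht, wp_iw]

end Two

end Cfsg.Agent.Lead.SUFus
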