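import Mathlib
import Cfsg.Agent.Lead.SUFusH

set_option autoImplicit false
set_option linter.unusedSectionVars false

/-! # The `p`-fusion system of `PSU_n(q)`, part I: the radical of the isotropic line is normal and
self-centralizing in the Sylow subgroup (lead) -/

namespace Cfsg.Agent.Lead.SUFus.Two

open Matrix Cfsg Cfsg.Agent.Helper7.Herm Cfsg.Agent.Helper8.GUOrder Cfsg.Agent.Helper8.SURoot
  Cfsg.Agent.Helper8.AutSU

variable {F : Type*} [Field F] [Fintype F] {q m : ℕ} [hF : Fact (Fintype.card F = q ^ 2)]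

variable (fr : Frame F q (m + 2)) (fr' : Frame F q m)

theorem sgt_iw {w : Fin (m + 2) → F} {a : F} (ha : Val q w a) (x : Fin (m + 2) → F) :
    mt (fr.sgt w a) *ᵥ iw x = iw x - hermForm (m + 2) F q x w • fr.e := by
  rw [fr.sgt_eq ha, fr.sg_iw]

theorem sgt_e {w : Fin (m + 2) → F} {a : F} (ha : Val q w a) :
    mt (fr.sgt w a) *ᵥ fr.e = fr.e := by
  rw [fr.sgt_eq ha, fr.sg_e]

theorem wp_sub_smul_e (x : Fin (m + 2) → F) (c : F) :
    wp (iw x - c • fr.e : Fin (m + 2 + 2) → F) = x := by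
  rw [sub_eq_add_neg, ← neg_smul, wp_add, fr.wp_e_smul, add_zero, wp_iw]

/-- the Levi Sylow subgroup contains the second unipotent radical -/
theorem Qv'_le_leviSylow (p : ℕ) [Fact p.Prime] [CharP F p] (S : Sylow p (SU (m + 2 + 2) F q))
    (hQ : fr.Qv ≤ S) (hQ' : (fr'.Qv).map iota ≤ (S : Subgroup (SU (m + 2 + 2) F q))) :
    fr'.Qv ≤ (FrameX.leviSylow fr p S hQ : Subgroup (SU (m + 2) F q)) := by
  intro A hA
  exact hQ' ⟨A, hA, rfl⟩

/-- the action of an element of `S` on `e'` -/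
theorem S_e2 (p : ℕ) [Fact p.Prime] [CharP F p] (S : Sylow p (SU (m + 2 + 2) F q))
    (hQ : fr.Qv ≤ S) (hQ' : (fr'.Qv).map iota ≤ (S : Subgroup (SU (m + 2 + 2) F q)))
    {g : SU (m + 2 + 2) F q} (hg : g ∈ S) :
    ∃ c : F, mt g *ᵥ e2 fr' = e2 fr' - c • fr.e := by
  obtain ⟨w, a, A, ha, rfl, hA⟩ := FrameX.sylow_decomp fr p S hQ hg
  have hA' : A ∈ (FrameX.leviSylow fr p S hQ : Subgroup (SU (m + 2) F q)) := hA
  have hfix := FrameX.sylow_fix' fr' p (FrameX.leviSylow fr p S hQ)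
    (Qv'_le_leviSylow fr fr' p S hQ hQ') hA'
  refine ⟨hermForm (m + 2) F q fr'.e w, ?_⟩
  unfold e2
  rw [mt_mul_mulVec, iota_iw, hfix, sgt_iw fr ha]

theorem stabW_of_mem (p : ℕ) [Fact p.Prime] [CharP F p] (S : Sylow p (SU (m + 2 + 2) F q))
    (hQ : fr.Qv ≤ S) (hQ' : (fr'.Qv).map iota ≤ (S : Subgroup (SU (m + 2 + 2) F q)))
    {g : SU (m + 2 + 2) F q} (hg : g ∈ S) : StabW fr.e (e2 fr') g := by
  obtain ⟨c, hc⟩ := S_e2 fr fr' p S hQ hQ' hg
  refine ⟨⟨1, 0, ?_⟩, ⟨-c, 1, ?_⟩⟩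
  · rw [FrameX.sylow_fix' fr p S hQ hg, one_smul, zero_smul, add_zero]
  · rw [hc]; module

/-- `S` normalizes the radical of the isotropic line -/
theorem S_le_normalizer_Rad2 (p : ℕ) [Fact p.Prime] [CharP F p]
    (S : Sylow p (SU (m + 2 + 2) F q)) (hQ : fr.Qv ≤ S)
    (hQ' : (fr'.Qv).map iota ≤ (S : Subgroup (SU (m + 2 + 2) F q))) :
    (S : Subgroup (SU (m + 2 + 2) F q)) ≤
      Subgroup.normalizer (Rad2 q fr.e (e2 fr') : Set (SU (m + 2 + 2) F q)) := by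
  intro g hg
  exact mem_normalizer_Rad2 (stabW_of_mem fr fr' p S hQ hQ' hg)
    (stabW_of_mem fr fr' p S hQ hQ' (Subgroup.inv_mem _ hg))

/-- the radical of the isotropic line lies in `S` -/
theorem Rad2_le_S (p : ℕ) [Fact p.Prime] [CharP F p] (S : Sylow p (SU (m + 2 + 2) F q))
    (hQ : fr.Qv ≤ S) (hQ' : (fr'.Qv).map iota ≤ (S : Subgroup (SU (m + 2 + 2) F q))) :
    Rad2 q fr.e (e2 fr') ≤ (S : Subgroup (SU (m + 2 + 2) F q)) := by
  rintro g ⟨h1, h2, h3⟩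
  obtain ⟨w, a, A, ha, rfl⟩ := FrameX.exists_sgt_iota fr h1
  have hA : A ∈ Rad q fr'.e := by
    constructor
    · have := h2
      unfold e2 at this
      rw [mt_mul_mulVec, iota_iw, sgt_iw fr ha] at this
      have := congrArg wp this
      rwa [wp_sub_smul_e, wp_iw] at this
    · intro x hx
      have hxe : hermForm (m + 2 + 2) F q (iw x) fr.e = 0 := fr.hwe x
      have hxe2 : hermForm (m + 2 + 2) F q (iw x) (e2 fr') = 0 := by
        unfold e2; rw [h_iw, hx]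
      obtain ⟨α, β, h⟩ := h3 _ hxe hxe2
      refine ⟨β, ?_⟩
      rw [mt_mul_mulVec, iota_iw, sgt_iw fr ha] at h
      have := congrArg wp h
      unfold e2 at this
      rwa [wp_sub_smul_e, wp_add, wp_add, fr.wp_e_smul, add_zero, wp_iw, wp_smul, wp_iw] at this
  rw [FrameX.Rad_e] at hA
  exact Subgroup.mul_mem _ (hQ (fr.sgt_mem_Qv ha)) (hQ' ⟨A, hA, rfl⟩)

/-- Siegel elements in the radical of the isotropic line -/
theorem sgt_mem_Rad2 {w : Fin (m + 2) → F} {a : F} (ha : Val q w a)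
    (hw : hermForm (m + 2) F q fr'.e w = 0) : fr.sgt w a ∈ Rad2 q fr.e (e2 fr') := by
  refine ⟨sgt_e fr ha, ?_, fun x hxe _ => ?_⟩
  · unfold e2
    rw [sgt_iw fr ha, hw, zero_smul, sub_zero]
  · refine ⟨-hermForm (m + 2 + 2) F q x (iw w), 0, ?_⟩
    rw [fr.sgt_eq ha, fr.sg_mulVec, hxe]
    module

end Cfsg.Agent.Lead.SUFus.Two
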