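import Mathlib
import Cfsg.Agent.Lead.SUFusI

set_option autoImplicit false
set_option linter.unusedSectionVars false

/-! # The `p`-fusion system of `PSU_n(q)`, part J: the radical of the isotropic line is
self-centralizing (lead) -/

namespace Cfsg.Agent.Lead.SUFus.Two

open Matrix Cfsg Cfsg.Agent.Helper7.Herm Cfsg.Agent.Helper8.GUOrder Cfsg.Agent.Helper8.SURoot
  Cfsg.Agent.Helper8.AutSU

variable {F : Type*} [Field F] [Fintype F] {q m : ℕ} [hF : Fact (Fintype.card F = q ^ 2)]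

variable (fr : Frame F q (m + 2)) (fr' : Frame F q m)

theorem centralizer_Rad2_le (p : ℕ) [Fact p.Prime] [CharP F p]
    (S : Sylow p (SU (m + 2 + 2) F q)) (hQ : fr.Qv ≤ S)
    (hQ' : (fr'.Qv).map iota ≤ (S : Subgroup (SU (m + 2 + 2) F q))) :
    (S : Subgroup (SU (m + 2 + 2) F q)) ⊓
      Subgroup.centralizer (Rad2 q fr.e (e2 fr') : Set (SU (m + 2 + 2) F q)) ≤
      Rad2 q fr.e (e2 fr') := by
  rintro g ⟨hgS, hgC⟩
  obtain ⟨w₀, a₀, A, ha₀, rfl, hA⟩ := FrameX.sylow_decomp fr p S hQ hgS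
  have hA' : A ∈ (FrameX.leviSylow fr p S hQ : Subgroup (SU (m + 2) F q)) := hA
  have hfixA := FrameX.sylow_fix' fr' p (FrameX.leviSylow fr p S hQ)
    (Qv'_le_leviSylow fr fr' p S hQ hQ') hA'
  have hgf : mt (fr.sgt w₀ a₀ * iota A) *ᵥ fr.f = fr.f + iw w₀ + a₀ • fr.e := by
    rw [mt_mul_mulVec, FrameX.iota_f, fr.sgt_f ha₀]
  have hge : mt (fr.sgt w₀ a₀ * iota A) *ᵥ fr.e = fr.e := by
    rw [mt_mul_mulVec, FrameX.iota_e, sgt_e fr ha₀]
  have hgiw : ∀ w : Fin (m + 2) → F, mt (fr.sgt w₀ a₀ * iota A) *ᵥ iw w =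
      iw (mt A *ᵥ w) - hermForm (m + 2) F q (mt A *ᵥ w) w₀ • fr.e := by
    intro w
    rw [mt_mul_mulVec, iota_iw, sgt_iw fr ha₀]
  generalize fr.sgt w₀ a₀ * iota A = g at hgC hgf hge hgiw ⊢
  -- the key consequence of commutation
  have key : ∀ w : Fin (m + 2) → F, hermForm (m + 2) F q fr'.e w = 0 →
      mt A *ᵥ w = w ∧ hermForm (m + 2) F q w w₀ = hermForm (m + 2) F q w₀ w := by
    intro w hw
    obtain ⟨a, ha⟩ := exists_Val (q := q) w
    have hr := sgt_mem_Rad2 fr fr' ha hw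
    have hcomm := Subgroup.mem_centralizer_iff.mp hgC _ hr
    have h1 := congrArg (fun y : SU (m + 2 + 2) F q => mt y *ᵥ fr.f) hcomm
    beta_reduce at h1
    rw [mt_mul_mulVec, mt_mul_mulVec, hgf, fr.sgt_f ha, mulVec_add, mulVec_add, mulVec_add,
      mulVec_add, mulVec_smul, mulVec_smul, fr.sgt_f ha, sgt_iw fr ha, sgt_e fr ha, hgf, hgiw,
      hge] at h1
    have hAw : mt A *ᵥ w = w := by
      have h2 := congrArg wp h1
      simp only [wp_add, wp_sub_smul_e fr, fr.wpf, fr.wp_e_smul, wp_iw, zero_add, add_zero] at h2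
      have h4 := congrArg (fun y => y - w₀) h2
      simp only [add_sub_cancel_right, add_sub_cancel_left] at h4
      exact h4.symm
    refine ⟨hAw, ?_⟩
    rw [hAw] at h1
    have h2 := congrArg (fun y => hermForm (m + 2 + 2) F q y fr.f) h1
    simp only [hermForm_add_left, hermForm_sub_left, hermForm_smul_left, fr.hf, fr.hef, fr.hwf]
      at h2
    linear_combination h2
  have key2 : ∀ w : Fin (m + 2) → F, hermForm (m + 2) F q fr'.e w = 0 →
      hermForm (m + 2) F q w w₀ = 0 := by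
    intro w hw
    obtain ⟨c, hc⟩ := exists_not_fixed (K := F) hF.out
    have h1 := (key w hw).2
    have hw' : hermForm (m + 2) F q fr'.e (c • w) = 0 := by
      rw [hermForm_smul_right, hw, mul_zero]
    have h2 := (key (c • w) hw').2
    rw [hermForm_smul_left, hermForm_smul_right, ← h1] at h2
    have h3 : (c - c ^ q) * hermForm (m + 2) F q w w₀ = 0 := by linear_combination h2
    rcases mul_eq_zero.mp h3 with h | h
    · exact absurd (by linear_combination -h) hc
    · exact h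
  refine ⟨hge, ?_, fun x hxe hxe2 => ?_⟩
  · unfold e2
    rw [hgiw, hfixA, h_eq_zero_of_swap (key2 fr'.e fr'.he) |> fun h => h_eq_zero_of_swap h,
      zero_smul, sub_zero]
  · refine ⟨0, 0, ?_⟩
    have hdec := fr.dec x
    rw [hxe, zero_smul, add_zero] at hdec
    have hwx : hermForm (m + 2) F q fr'.e (wp x) = 0 := by
      apply h_eq_zero_of_swap
      have h1 := hxe2
      unfold e2 at h1
      rw [hdec, hermForm_add_left, hermForm_smul_left, fr.hew, mul_zero, zero_add, h_iw] at h1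
      exact h1
    conv_lhs => rw [hdec]
    rw [mulVec_add, mulVec_smul, hge, hgiw, (key _ hwx).1, key2 _ hwx]
    simp only [zero_smul, sub_zero, add_zero]
    exact hdec.symm

end Cfsg.Agent.Lead.SUFus.Two
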