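import Mathlib
import Cfsg.Agent.Lead.SUFusJ

set_option autoImplicit false
set_option linter.unusedSectionVars false

/-! # The `p`-fusion system of `PSU_n(q)`, part K: the torus element normalizes the Sylow
subgroup (lead) -/

namespace Cfsg.Agent.Lead.SUFus

open Matrix Cfsg Cfsg.Agent.Helper7.Herm Cfsg.Agent.Helper8.GUOrder Cfsg.Agent.Helper8.SURoot
  Cfsg.Agent.Helper8.AutSU

variable {F : Type*} [Field F] [Fintype F] {q k m : ℕ} [hF : Fact (Fintype.card F = q ^ 2)]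

namespace FrameX

variable (fr : Frame F q k)

theorem lt_one : fr.lt (1 : SU (k + 2) F q) = 1 := fr.lt_of_fix (mt_one_mulVec _)

theorem lt_inv {l : SU (k + 2) F q} (hl : l ∈ fr.Bv) : fr.lt l * fr.lt l⁻¹ = 1 := by
  rw [← fr.lt_mul hl (fr.Bv.inv_mem hl), mul_inv_cancel, lt_one]

theorem lact_inv_left {l : SU (k + 2) F q} (hl : l ∈ fr.Lv) (w : Fin k → F) :
    lact l (lact l⁻¹ w) = w := by
  rw [← fr.lact_mul (fr.Lv.inv_mem hl), mul_inv_cancel, Frame.lact_one]

theorem lact_inv_right {l : SU (k + 2) F q} (hl : l ∈ fr.Lv) (w : Fin k → F) :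
    lact l⁻¹ (lact l w) = w := by
  rw [← fr.lact_mul hl, inv_mul_cancel, Frame.lact_one]

/-- conjugating a block element by a Levi element -/
theorem conj_iota {l : SU (k + 2) F q} (hl : l ∈ fr.Lv) (A : SU k F q) :
    ∃ A' : SU k F q, l * iota A * l⁻¹ = iota A' ∧
      ∀ w, mt A' *ᵥ w = lact l (mt A *ᵥ lact l⁻¹ w) := by
  have hl' := fr.Lv.inv_mem hl
  have hX : l * iota A * l⁻¹ ∈ fr.Lv := fr.Lv.mul_mem (fr.Lv.mul_mem hl (iota_mem_Lv fr A)) hl'
  have h1 : fr.lt (l * iota A * l⁻¹) = 1 := by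
    rw [fr.lt_mul (fr.Bv.mul_mem (fr.Lv_le_Bv hl) (iota_mem_Bv fr A)) (fr.Lv_le_Bv hl'),
      fr.lt_mul (fr.Lv_le_Bv hl) (iota_mem_Bv fr A), lt_iota, mul_one, lt_inv fr (fr.Lv_le_Bv hl)]
  obtain ⟨A', hA'⟩ := exists_iota_of_Lv fr hX h1
  refine ⟨A', hA', fun w => ?_⟩
  rw [← lact_iota A' w, ← hA', mul_assoc, fr.lact_mul (fr.Lv.mul_mem (iota_mem_Lv fr A) hl'),
    fr.lact_mul hl', lact_iota]

end FrameX

namespace Two

variable (fr : Frame F q (m + 2)) (fr' : Frame F q m)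

theorem Dt_e {t : F} (ht : t ≠ 0) : Dt fr' t (t • fr'.e) = fr'.e := by
  unfold Dt
  rw [hermForm_smul_left, hermForm_smul_left, fr'.hef, fr'.he, wp_smul, fr'.wpe, smul_zero,
    iw_zero, mul_zero, mul_zero, zero_smul, add_zero, add_zero, mul_one, inv_mul_cancel₀ ht,
    one_smul]

theorem Dt_e' (t : F) : Dt fr' t fr'.e = t⁻¹ • fr'.e := by
  unfold Dt
  rw [fr'.hef, fr'.he, fr'.wpe, iw_zero, mul_zero, zero_smul, add_zero, add_zero, mul_one]

/-- the torus element commutes with the block elements of the second level -/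
theorem Dt_iota (t : F) (B : SU m F q) (v : Fin (m + 2) → F) :
    Dt fr' t (mt (iota B) *ᵥ v) = mt (iota B) *ᵥ Dt fr' t v := by
  unfold Dt
  have h1 : hermForm (m + 2) F q (mt (iota B) *ᵥ v) fr'.f = hermForm (m + 2) F q v fr'.f := by
    conv_lhs => rw [← FrameX.iota_f fr' B, herm_mt]
  have h2 : hermForm (m + 2) F q (mt (iota B) *ᵥ v) fr'.e = hermForm (m + 2) F q v fr'.e := by
    conv_lhs => rw [← FrameX.iota_e fr' B, herm_mt]
  rw [h1, h2, mulVec_add, mulVec_add, mulVec_smul, mulVec_smul, FrameX.iota_e, FrameX.iota_f,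
    iota_iw, mt_iota, wp_blk_mulVec]

/-- the torus element normalizes the image of the second unipotent radical -/
theorem del_conj_iota_Qv' {t : F} (ht : t ≠ 0) {u' : SU (m + 2) F q} (hu' : u' ∈ fr'.Qv) :
    del fr fr' t * iota u' * (del fr fr' t)⁻¹ ∈ (fr'.Qv).map iota := by
  have hl := del_mem_Lv fr fr' ht
  obtain ⟨A', hA', hact⟩ := FrameX.conj_iota fr hl u'
  rw [hA']
  refine ⟨A', ?_, rfl⟩
  rw [← FrameX.Rad_e] at hu' ⊢
  obtain ⟨h1, h2⟩ := hu'
  -- `E = lact δ⁻¹`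
  have hE : ∀ w, lact (del fr fr' t) (lact (del fr fr' t)⁻¹ w) = w :=
    FrameX.lact_inv_left fr hl
  have hE' : ∀ w, lact (del fr fr' t)⁻¹ (lact (del fr fr' t) w) = w :=
    FrameX.lact_inv_right fr hl
  have hEe : lact (del fr fr' t)⁻¹ fr'.e = t • fr'.e := by
    have := hE' (t • fr'.e)
    rwa [lact_del fr fr' ht, Dt_e fr' ht] at this
  constructor
  · rw [hact, hEe, mulVec_smul, h1, lact_del fr fr' ht, Dt_e fr' ht]
  · intro x hx
    have hx' : hermForm (m + 2) F q (lact (del fr fr' t)⁻¹ x) fr'.e = 0 := by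
      have h3 := fr.lact_form hl (lact (del fr fr' t)⁻¹ x) (t • fr'.e)
      rw [hE, lact_del fr fr' ht (t • fr'.e), Dt_e fr' ht, hx, hermForm_smul_right] at h3
      rcases mul_eq_zero.mp h3.symm with h | h
      · exact absurd h (pow_ne_zero q ht)
      · exact h
    obtain ⟨c, hc⟩ := h2 _ hx'
    refine ⟨c * t⁻¹, ?_⟩
    rw [hact, hc, Frame.lact_add, Frame.lact_smul, hE, lact_del fr fr' ht fr'.e, Dt_e', smul_smul]

/-- the torus element centralizes the block elements of the second level -/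
theorem del_conj_iota_iota {t : F} (ht : t ≠ 0) (B : SU m F q) :
    del fr fr' t * iota (iota B) * (del fr fr' t)⁻¹ = iota (iota B) := by
  have hl := del_mem_Lv fr fr' ht
  obtain ⟨A', hA', hact⟩ := FrameX.conj_iota fr hl (iota B)
  rw [hA']
  congr 1
  apply ext_mulVec
  intro w
  rw [hact, lact_del fr fr' ht, Dt_iota, ← lact_del fr fr' ht, FrameX.lact_inv_left fr hl]

/-- the torus element normalizes the Sylow subgroup -/
theorem del_mem_normalizer (p : ℕ) [Fact p.Prime] [CharP F p]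
    (S : Sylow p (SU (m + 2 + 2) F q)) (hQ : fr.Qv ≤ S)
    (hQ' : (fr'.Qv).map iota ≤ (S : Subgroup (SU (m + 2 + 2) F q))) {t : F} (ht : t ≠ 0) :
    del fr fr' t ∈ Subgroup.normalizer ((S : Subgroup (SU (m + 2 + 2) F q)) : Set _) := by
  apply Subgroup.mem_normalizer_fintype
  intro g hg
  have hl := del_mem_Lv fr fr' ht
  obtain ⟨w, a, A, ha, rfl, hA⟩ := FrameX.sylow_decomp fr p S hQ hg
  have hA' : A ∈ (FrameX.leviSylow fr p S hQ : Subgroup (SU (m + 2) F q)) := hA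
  obtain ⟨w', a', B, ha', rfl, hB⟩ := FrameX.sylow_decomp fr' p (FrameX.leviSylow fr p S hQ)
    (Qv'_le_leviSylow fr fr' p S hQ hQ') hA'
  have hB' : iota (iota B) ∈ (S : Subgroup (SU (m + 2 + 2) F q)) := hB
  have e : del fr fr' t * (fr.sgt w a * iota (fr'.sgt w' a' * iota B)) * (del fr fr' t)⁻¹ =
      (del fr fr' t * fr.sgt w a * (del fr fr' t)⁻¹) *
      (del fr fr' t * iota (fr'.sgt w' a') * (del fr fr' t)⁻¹) *
      (del fr fr' t * iota (iota B) * (del fr fr' t)⁻¹) := by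
    rw [map_mul]; group
  show del fr fr' t * (fr.sgt w a * iota (fr'.sgt w' a' * iota B)) * (del fr fr' t)⁻¹ ∈
    (S : Subgroup (SU (m + 2 + 2) F q))
  rw [e, del_conj_iota_iota fr fr' ht]
  refine Subgroup.mul_mem _ (Subgroup.mul_mem _ ?_ ?_) hB'
  · exact hQ (fr.conj_mem_Qv (fr.Lv_le_Bv hl) (fr.sgt_mem_Qv ha))
  · exact hQ' (del_conj_iota_Qv' fr fr' ht (fr'.sgt_mem_Qv ha'))

end Two

end Cfsg.Agent.Lead.SUFus
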