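import Mathlib
import Cfsg.Agent.Lead.SUFusK
import Cfsg.Agent.Lead.SUFusE
import Cfsg.Agent.Lead.SimpleCritD
import Cfsg.Agent.Helper7.SUGenH

set_option autoImplicit false
set_option linter.unusedSectionVars false

/-! # The `p`-fusion system of `PSU_n(q)`, part L: the simplicity criterion for `SU_{m+4}(q)`
(lead) -/

namespace Cfsg.Agent.Lead.SUFus

open Matrix Cfsg Cfsg.Agent.Helper7.Herm Cfsg.Agent.Helper8.GUOrder Cfsg.Agent.Helper8.SURoot
  Cfsg.Agent.Helper8.AutSU Cfsg.Agent.Lead.SimpCrit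

variable {F : Type*} [Field F] [Fintype F] {q k m : ℕ} [hF : Fact (Fintype.card F = q ^ 2)]

/-- the subgroup generated by the `p`-elements -/
def Np (p N : ℕ) (F : Type*) [Field F] (q : ℕ) : Subgroup (SU N F q) :=
  Subgroup.closure {g | ∃ j : ℕ, orderOf g = p ^ j}

theorem exists_orderOf_of_pow_prime_pow {G : Type*} [Group G] (p : ℕ) [Fact p.Prime] {g : G}
    {n : ℕ} (h : g ^ p ^ n = 1) : ∃ j : ℕ, orderOf g = p ^ j := by
  have hp : p.Prime := Fact.out
  obtain ⟨j, _, hj⟩ := (Nat.dvd_prime_pow hp).mp (orderOf_dvd_of_pow_eq_one h)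
  exact ⟨j, hj⟩

namespace FrameX

variable (fr : Frame F q k)

/-- the normalizer of a Sylow subgroup containing the unipotent radical stabilizes `⟨e⟩` -/
theorem normalizer_le_Bv (p : ℕ) [Fact p.Prime] [CharP F p] (P : Sylow p (SU (k + 2) F q))
    (hQ : fr.Qv ≤ P) :
    Subgroup.normalizer ((P : Subgroup (SU (k + 2) F q)) : Set (SU (k + 2) F q)) ≤ fr.Bv := by
  intro x hx
  have hx' := Subgroup.inv_mem _ hx
  have hfix : ∀ u ∈ fr.Qv, mt u *ᵥ (mt x *ᵥ fr.e) = mt x *ᵥ fr.e := by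
    intro u hu
    have h1 : x⁻¹ * u * x⁻¹⁻¹ ∈ (P : Subgroup (SU (k + 2) F q)) :=
      (Subgroup.mem_normalizer_iff.mp hx' u).mp (hQ hu)
    have h2 := sylow_fix' fr p P hQ h1
    rw [inv_inv, mt_mul_mulVec, mt_mul_mulVec] at h2
    have h3 := congrArg (fun y => mt x *ᵥ y) h2
    beta_reduce at h3
    rwa [mt_inv_mulVec] at h3
  exact ⟨_, fixed_Qv' fr hfix⟩

theorem S_le_normalizer_Qv (p : ℕ) [Fact p.Prime] [CharP F p] (P : Sylow p (SU (k + 2) F q))
    (hQ : fr.Qv ≤ P) :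
    (P : Subgroup (SU (k + 2) F q)) ≤ Subgroup.normalizer (fr.Qv : Set (SU (k + 2) F q)) :=
  fun _ hg => Bv_le_normalizer_Qv fr (fr.mem_Bv_of_fix (sylow_fix' fr p P hQ hg))

theorem centralizer_Qv_le (p : ℕ) [Fact p.Prime] [CharP F p] (P : Sylow p (SU (k + 2) F q))
    (hQ : fr.Qv ≤ P) :
    (P : Subgroup (SU (k + 2) F q)) ⊓ Subgroup.centralizer (fr.Qv : Set (SU (k + 2) F q)) ≤
      fr.Qv := by
  rintro g ⟨hg, hc⟩
  have h1 := sylow_fix' fr p P hQ hg
  exact fr.RG_e_le_Qv (fr.centralizer_Qv (fr.mem_Bv_of_fix h1) (fr.lt_of_fix h1)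
    (fun u hu => (Subgroup.mem_centralizer_iff.mp hc u hu).symm))

/-- block elements generated by `p`-elements lie in the subgroup generated by the `p`-elements
normalizing the unipotent radical -/
theorem iota_mem_closure (p : ℕ) {A : SU k F q} (hA : A ∈ Np p k F q) :
    iota A ∈ Subgroup.closure {g : SU (k + 2) F q |
      g ∈ Subgroup.normalizer (fr.Qv : Set (SU (k + 2) F q)) ∧ ∃ j : ℕ, orderOf g = p ^ j} := by
  have h1 : iota A ∈ (Np p k F q).map (iota : SU k F q →* SU (k + 2) F q) := ⟨A, hA, rfl⟩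
  unfold Np at h1
  rw [MonoidHom.map_closure] at h1
  refine Subgroup.closure_mono ?_ h1
  rintro _ ⟨B, ⟨j, hj⟩, rfl⟩
  refine ⟨Bv_le_normalizer_Qv fr (iota_mem_Bv fr B), j, ?_⟩
  rw [orderOf_injective iota iota_injective B, hj]

theorem sgt_mem_closure (p : ℕ) [Fact p.Prime] [CharP F p] {w : Fin k → F} {a : F}
    (ha : Val q w a) :
    fr.sgt w a ∈ Subgroup.closure {g : SU (k + 2) F q |
      g ∈ Subgroup.normalizer (fr.Qv : Set (SU (k + 2) F q)) ∧ ∃ j : ℕ, orderOf g = p ^ j} :=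
  Subgroup.subset_closure ⟨Subgroup.le_normalizer (fr.sgt_mem_Qv ha),
    exists_orderOf_of_pow_prime_pow p (fr.sgt_pow_char_sq p ha)⟩

end FrameX

/-- transvections are generated by `p`-elements -/
theorem Tsub_le_Np (p : ℕ) [Fact p.Prime] [CharP F p] (N : ℕ) :
    Cfsg.Agent.Helper7.SUGen.Tsub N F q ≤ Np p N F q := by
  unfold Cfsg.Agent.Helper7.SUGen.Tsub Np
  apply Subgroup.closure_mono
  rintro _ ⟨v, s, hv, hs, rfl⟩
  exact exists_orderOf_of_pow_prime p (TU_pow_char p hv hs)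

namespace Two

variable (fr : Frame F q (m + 2)) (fr' : Frame F q m)

/-- the simplicity criterion for `SU_{m+4}(q)` -/
theorem crit_SU (p : ℕ) [Fact p.Prime] [CharP F p] (S : Sylow p (SU (m + 2 + 2) F q))
    (hQ : fr.Qv ≤ S) (hQ' : (fr'.Qv).map iota ≤ (S : Subgroup (SU (m + 2 + 2) F q)))
    (hgen : ∀ A : SU (m + 2) F q,
      A ∈ Subgroup.normalizer ((FrameX.leviSylow fr p S hQ : Subgroup (SU (m + 2) F q)) :
        Set (SU (m + 2) F q)) → A ∈ Np p (m + 2) F q) :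
    Crit p (S : Subgroup (SU (m + 2 + 2) F q)) := by
  refine ⟨fun T hT hcl => stronglyClosed_eq p fr fr' S hQ hQ' T ⟨hT, hcl⟩, ?_⟩
  intro x hx
  have hxB := FrameX.normalizer_le_Bv fr p S hQ hx
  have ht0 := fr.lt_ne_zero hxB
  set t := fr.lt x with ht
  have hδN := del_mem_normalizer fr fr' p S hQ hQ' ht0
  have hδe := del_e fr fr' ht0
  -- `y = x δ⁻¹` fixes `e`
  have hye : mt (x * (del fr fr' t)⁻¹) *ᵥ fr.e = fr.e := by
    have h1 : mt (del fr fr' t)⁻¹ *ᵥ fr.e = t⁻¹ • fr.e := by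
      have := congrArg (fun y => t⁻¹ • (mt (del fr fr' t)⁻¹ *ᵥ y)) hδe
      beta_reduce at this
      rw [mt_inv_mulVec', mulVec_smul, smul_smul, inv_mul_cancel₀ ht0, one_smul] at this
      exact this.symm
    rw [mt_mul_mulVec, h1, mulVec_smul, fr.lt_spec hxB, ← ht, smul_smul, inv_mul_cancel₀ ht0,
      one_smul]
  have hyN : x * (del fr fr' t)⁻¹ ∈ Subgroup.normalizer
      ((S : Subgroup (SU (m + 2 + 2) F q)) : Set (SU (m + 2 + 2) F q)) :=
    Subgroup.mul_mem _ hx (Subgroup.inv_mem _ hδN)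
  obtain ⟨w, a, A, ha, hyeq⟩ := FrameX.exists_sgt_iota fr hye
  -- `iota A` normalizes `S`
  have hAN : iota A ∈ Subgroup.normalizer
      ((S : Subgroup (SU (m + 2 + 2) F q)) : Set (SU (m + 2 + 2) F q)) := by
    have h1 : iota A = (fr.sgt w a)⁻¹ * (x * (del fr fr' t)⁻¹) := by
      rw [hyeq, inv_mul_cancel_left]
    rw [h1]
    exact Subgroup.mul_mem _ (Subgroup.inv_mem _ (Subgroup.le_normalizer
      (hQ (fr.sgt_mem_Qv ha)))) hyN
  have hAN' : A ∈ Subgroup.normalizer ((FrameX.leviSylow fr p S hQ : Subgroup (SU (m + 2) F q)) :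
      Set (SU (m + 2) F q)) := by
    apply Subgroup.mem_normalizer_fintype
    intro B hB
    show iota (A * B * A⁻¹) ∈ (S : Subgroup (SU (m + 2 + 2) F q))
    rw [map_mul, map_mul, map_inv]
    exact (Subgroup.mem_normalizer_iff.mp hAN (iota B)).mp hB
  have hA := hgen A hAN'
  have hx2 : x = (x * (del fr fr' t)⁻¹) * del fr fr' t := by group
  rw [hx2]
  apply Subgroup.mul_mem
  · apply Subgroup.subset_closure
    refine ⟨hyN, fr.Qv, hQ, FrameX.S_le_normalizer_Qv fr p S hQ, FrameX.centralizer_Qv_le fr p S hQ,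
      ?_⟩
    rw [hyeq]
    exact Subgroup.mul_mem _ (FrameX.sgt_mem_closure fr p ha) (FrameX.iota_mem_closure fr p hA)
  · apply Subgroup.subset_closure
    exact ⟨hδN, Rad2 q fr.e (e2 fr'), Rad2_le_S fr fr' p S hQ hQ',
      S_le_normalizer_Rad2 fr fr' p S hQ hQ', centralizer_Rad2_le fr fr' p S hQ hQ',
      del_mem_closure fr fr' p t⟩

end Two

end Cfsg.Agent.Lead.SUFus
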