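import Mathlib
import Cfsg.Agent.Lead.SUFusL
import Cfsg.Agent.Helper7.SUGenG

set_option autoImplicit false
set_option linter.unusedSectionVars false

/-! # The `p`-fusion system of `PSU_n(q)`, part M: the special case `SU_3(2)` (lead) -/

namespace Cfsg.Agent.Lead.SUFus.Sp32

open Matrix Cfsg Cfsg.Agent.Helper7.Herm Cfsg.Agent.Helper8.GUOrder Cfsg.Agent.Helper8.SURoot
  Cfsg.Agent.Helper8.AutSU Cfsg.Agent.Helper7.SUGen

variable {F : Type*} [Field F] [Fintype F] [hF : Fact (Fintype.card F = 2 ^ 2)]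

theorem hv1 : hermForm 3 F 2 (![1, 1, 0] : Fin 3 → F) ![1, 1, 0] = 0 := by
  have h2 := two_eq_zero_of_card (F := F)
  simp [hermForm, Fin.sum_univ_three]; grind

theorem hv2 : hermForm 3 F 2 (![0, 1, 1] : Fin 3 → F) ![0, 1, 1] = 0 := by
  have h2 := two_eq_zero_of_card (F := F)
  simp [hermForm, Fin.sum_univ_three]; grind

theorem hv3 {ω : F} (hω : ω ^ 2 + ω + 1 = 0) :
    hermForm 3 F 2 (![0, 1, ω] : Fin 3 → F) ![0, 1, ω] = 0 := by
  have h2 := two_eq_zero_of_card (F := F)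
  have h3 : ω ^ 3 = 1 := by linear_combination (ω - 1) * hω
  simp [hermForm, Fin.sum_univ_three]
  linear_combination h3 + h2

theorem T1_mulVec (x : Fin 3 → F) :
    mt (TU 2 (![1, 1, 0] : Fin 3 → F) 1) *ᵥ x = ![x 1, x 0, x 2] := by
  have h2 := two_eq_zero_of_card (F := F)
  rw [TU_mulVec hv1 one_skew]
  funext i
  fin_cases i
  · simp [hermForm, Fin.sum_univ_three]; linear_combination x 0 * h2
  · simp [hermForm, Fin.sum_univ_three]; linear_combination x 1 * h2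
  · simp [hermForm, Fin.sum_univ_three]

theorem T2_mulVec (x : Fin 3 → F) :
    mt (TU 2 (![0, 1, 1] : Fin 3 → F) 1) *ᵥ x = ![x 0, x 2, x 1] := by
  have h2 := two_eq_zero_of_card (F := F)
  rw [TU_mulVec hv2 one_skew]
  funext i
  fin_cases i
  · simp [hermForm, Fin.sum_univ_three]
  · simp [hermForm, Fin.sum_univ_three]; linear_combination x 1 * h2
  · simp [hermForm, Fin.sum_univ_three]; linear_combination x 2 * h2

theorem T3_mulVec {ω : F} (hω : ω ^ 2 + ω + 1 = 0) (x : Fin 3 → F) :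
    mt (TU 2 (![0, 1, ω] : Fin 3 → F) 1) *ᵥ x = ![x 0, ω ^ 2 * x 2, ω * x 1] := by
  have h2 := two_eq_zero_of_card (F := F)
  have h3 : ω ^ 3 = 1 := by linear_combination (ω - 1) * hω
  rw [TU_mulVec (hv3 hω) one_skew]
  funext i
  fin_cases i
  · simp [hermForm, Fin.sum_univ_three]
  · simp [hermForm, Fin.sum_univ_three]; linear_combination x 1 * h2
  · simp [hermForm, Fin.sum_univ_three]; linear_combination x 2 * h2 + x 2 * h3

/-- the element `c = T₂ T₃ T₁` -/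
noncomputable def cc (ω : F) : SU 3 F 2 :=
  TU 2 (![0, 1, 1] : Fin 3 → F) 1 * TU 2 (![0, 1, ω] : Fin 3 → F) 1 *
    TU 2 (![1, 1, 0] : Fin 3 → F) 1

theorem cc_mulVec {ω : F} (hω : ω ^ 2 + ω + 1 = 0) (x : Fin 3 → F) :
    mt (cc ω) *ᵥ x = ![x 1, ω * x 0, ω ^ 2 * x 2] := by
  unfold cc
  rw [mt_mul_mulVec, mt_mul_mulVec, T1_mulVec, T3_mulVec hω, T2_mulVec]
  simp

theorem cc_sq_mulVec {ω : F} (hω : ω ^ 2 + ω + 1 = 0) (x : Fin 3 → F) :
    mt (cc ω * cc ω) *ᵥ x = ω • x := by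
  have h3 : ω ^ 3 = 1 := by linear_combination (ω - 1) * hω
  rw [mt_mul_mulVec, cc_mulVec hω, cc_mulVec hω]
  funext i
  fin_cases i
  · simp
  · simp
  · simp; linear_combination (ω * x 2) * h3

theorem cc_mem_Tsub {ω : F} (hω : ω ^ 2 + ω + 1 = 0) : cc ω ∈ Tsub 3 F 2 := by
  unfold cc
  exact Subgroup.mul_mem _ (Subgroup.mul_mem _ (TU_mem_Tsub hv2 one_skew)
    (TU_mem_Tsub (hv3 hω) one_skew)) (TU_mem_Tsub hv1 one_skew)

/-- every nonzero scalar is realised by an element of the transvection subgroup -/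
theorem exists_scalar_mem_Tsub {t : F} (ht : t ≠ 0) :
    ∃ z ∈ Tsub 3 F 2, ∀ x : Fin 3 → F, mt z *ᵥ x = t • x := by
  obtain ⟨ω, hω⟩ := exists_omega (F := F)
  have h2 := two_eq_zero_of_card (F := F)
  have h3 := cube_eq_one ht
  have hfac : (t - 1) * ((t - ω) * (t - ω ^ 2)) = 0 := by
    linear_combination h3 + (t - 1) * (-t + ω - 1) * hω
  rcases mul_eq_zero.mp hfac with h | h
  · refine ⟨1, Subgroup.one_mem _, fun x => ?_⟩
    rw [mt_one_mulVec, show t = 1 by linear_combination h, one_smul]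
  rcases mul_eq_zero.mp h with h | h
  · refine ⟨cc ω * cc ω, Subgroup.mul_mem _ (cc_mem_Tsub hω) (cc_mem_Tsub hω), fun x => ?_⟩
    rw [cc_sq_mulVec hω, show t = ω by linear_combination h]
  · refine ⟨cc ω * cc ω * (cc ω * cc ω), Subgroup.mul_mem _
      (Subgroup.mul_mem _ (cc_mem_Tsub hω) (cc_mem_Tsub hω))
      (Subgroup.mul_mem _ (cc_mem_Tsub hω) (cc_mem_Tsub hω)), fun x => ?_⟩
    rw [mt_mul_mulVec, cc_sq_mulVec hω, cc_sq_mulVec hω, smul_smul,
      show t = ω ^ 2 by linear_combination h, pow_two]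

end Cfsg.Agent.Lead.SUFus.Sp32
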