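import Mathlib
import Cfsg.Agent.Lead.SUFusM
import Cfsg.Agent.Lead.SpFusM

set_option autoImplicit false
set_option linter.unusedSectionVars false

/-! # The `p`-fusion system of `PSU_n(q)`, part N: the main theorem (lead) -/

namespace Cfsg.Agent.Lead.SUFus

open Matrix Cfsg Cfsg.Agent.Helper7.Herm Cfsg.Agent.Helper8.GUOrder Cfsg.Agent.Helper8.SURoot
  Cfsg.Agent.Helper8.AutSU Cfsg.Agent.Lead.SimpCrit Cfsg.Agent.Helper7.SUGen

variable {F : Type*} [Field F] [Fintype F] {q k m : ℕ}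

namespace FrameX

variable [hF : Fact (Fintype.card F = q ^ 2)] (fr : Frame F q k)

theorem scalar_mem_Lv {z : SU (k + 2) F q} {ζ : F} (h : ∀ x : Fin (k + 2) → F, mt z *ᵥ x = ζ • x) :
    z ∈ fr.Lv ∧ fr.lt z = ζ := by
  refine ⟨⟨⟨ζ, h _⟩, ⟨ζ, h _⟩⟩, ?_⟩
  unfold Frame.lt
  rw [h, hermForm_smul_left, fr.hef, mul_one]

end FrameX

namespace Sp32

variable [hF : Fact (Fintype.card F = 2 ^ 2)]

/-- in `SU_3(2)` the Levi complement of the point stabiliser lies in the transvection subgroup -/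
theorem Lv_le_Tsub (fr' : Frame F 2 1) {l : SU (1 + 2) F 2} (hl : l ∈ fr'.Lv) :
    l ∈ Tsub (1 + 2) F 2 := by
  have ht := fr'.lt_ne_zero hl.1
  obtain ⟨z, hzT, hz⟩ := exists_scalar_mem_Tsub (F := F) ht
  obtain ⟨hzL, hzlt⟩ := FrameX.scalar_mem_Lv fr' hz
  have hzinv : fr'.lt z⁻¹ = (fr'.lt l)⁻¹ := by
    have := FrameX.lt_inv fr' (fr'.Lv_le_Bv hzL)
    rw [hzlt] at this
    exact eq_inv_of_mul_eq_one_right this
  have hl₁ : l * z⁻¹ ∈ fr'.Lv := fr'.Lv.mul_mem hl (fr'.Lv.inv_mem hzL)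
  have h1 : fr'.lt (l * z⁻¹) = 1 := by
    rw [fr'.lt_mul hl.1 (fr'.Lv_le_Bv (fr'.Lv.inv_mem hzL)), hzinv, mul_inv_cancel₀ ht]
  obtain ⟨B, hB⟩ := FrameX.exists_iota_of_Lv fr' hl₁ h1
  rw [eq_one_of_le_one (by omega) B, map_one] at hB
  have : l = z := by
    have := congrArg (fun y => y * z) hB
    simpa using this
  rw [this]
  exact hzT

theorem hgen_32 (p : ℕ) [Fact p.Prime] [CharP F p] (fr' : Frame F 2 1)
    (P : Sylow p (SU (1 + 2) F 2)) (hQ : fr'.Qv ≤ P) (A : SU (1 + 2) F 2)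
    (hA : A ∈ Subgroup.normalizer ((P : Subgroup (SU (1 + 2) F 2)) : Set (SU (1 + 2) F 2))) :
    A ∈ Np p (1 + 2) F 2 := by
  have hAB := FrameX.normalizer_le_Bv fr' p P hQ hA
  obtain ⟨w, a, ha, l, hl, rfl⟩ := fr'.Bv_decomp hAB
  apply Subgroup.mul_mem
  · exact Subgroup.subset_closure (exists_orderOf_of_pow_prime_pow p (fr'.sg_pow_char_sq p ha))
  · exact Tsub_le_Np p (1 + 2) (Lv_le_Tsub fr' hl)

end Sp32

section Main

variable [hF : Fact (Fintype.card F = q ^ 2)]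

/-- a Sylow `p`-subgroup of `SU_{m+4}(q)` satisfying the simplicity criterion -/
theorem crit_exists (p : ℕ) [Fact p.Prime] [CharP F p] (m : ℕ) :
    ∃ S : Sylow p (SU (m + 2 + 2) F q), (S : Subgroup (SU (m + 2 + 2) F q)) ≠ ⊥ ∧
      Crit p (S : Subgroup (SU (m + 2 + 2) F q)) := by
  obtain ⟨fr⟩ := exists_frame (F := F) (q := q) (m + 2)
  obtain ⟨fr'⟩ := exists_frame (F := F) (q := q) m
  obtain ⟨S, hS⟩ := (FrameX.isPGroup_Qv_sup fr p (fr'.isPGroup_Qv p)).exists_le_sylow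
  have hQ : fr.Qv ≤ S := le_sup_left.trans hS
  have hQ' : (fr'.Qv).map iota ≤ (S : Subgroup (SU (m + 2 + 2) F q)) := le_sup_right.trans hS
  refine ⟨S, ?_, ?_⟩
  · intro hbot
    obtain ⟨ε, hε0, hε⟩ := exists_tz_ne_zero (F := F) (q := q)
    have h1 : TU q fr.e ε ∈ (S : Subgroup (SU (m + 2 + 2) F q)) := hQ (fr.TU_e_mem_Qv hε)
    rw [hbot, Subgroup.mem_bot, TU_eq_one_iff fr.e_ne_zero fr.he hε] at h1
    exact hε0 h1
  · apply Two.crit_SU fr fr' p S hQ hQ'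
    by_cases h32 : m + 2 = 3 ∧ q = 2
    · obtain ⟨hm, rfl⟩ := h32
      obtain rfl : m = 1 := by omega
      intro A hA
      exact Sp32.hgen_32 p fr' (FrameX.leviSylow fr p S hQ) (Two.Qv'_le_leviSylow fr fr' p S hQ hQ')
        A hA
    · intro A _
      apply Tsub_le_Np p (m + 2)
      rw [Tsub_eq_top (m + 2) (by omega) h32]
      exact Subgroup.mem_top _

end Main

/-- **S5172**: the `p`-fusion system of `PSU_n(q)`, `n ≥ 4`, in defining characteristic is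
simple. -/
theorem main {K : Type*} [Field K] [Fintype K] (p q : ℕ) [Fact p.Prime] [CharP K p]
    (hK : Fintype.card K = q ^ 2) (n : ℕ) (hn : 4 ≤ n) (S : Sylow p (Cfsg.PSU n K q)) :
    (Cfsg.groupFusionSystem (S : Subgroup (Cfsg.PSU n K q))).IsSimple p := by
  obtain ⟨m, rfl⟩ : ∃ m, n = m + 2 + 2 := ⟨n - 4, by omega⟩
  have : Fact (Fintype.card K = q ^ 2) := ⟨hK⟩
  obtain ⟨S₀, hne, hcrit⟩ := crit_exists (F := K) (q := q) p m
  have hsurj : Function.Surjective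
      (QuotientGroup.mk' (Subgroup.center (SU (m + 2 + 2) K q))) :=
    QuotientGroup.mk'_surjective _
  have hZp : ∀ z ∈ Subgroup.center (SU (m + 2 + 2) K q), ∀ j : ℕ, z ^ p ^ j = 1 → z = 1 := by
    intro z hz j hj
    have h1 : pr z = pr (1 : SU (m + 2 + 2) K q) := by
      rw [map_one]
      exact pr_eq_one_iff.mpr hz
    exact eq_of_pr_eq p (by omega) h1 hj (show (1 : SU (m + 2 + 2) K q) ^ p ^ 0 = 1 by simp)
  apply crit_all p (S₀.mapSurjective hsurj) _ _ S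
  · rw [Sylow.coe_mapSurjective]
    intro hbot
    apply hne
    rw [eq_bot_iff]
    intro x hx
    have h1 : QuotientGroup.mk' (Subgroup.center (SU (m + 2 + 2) K q)) x ∈
        (S₀ : Subgroup (SU (m + 2 + 2) K q)).map
          (QuotientGroup.mk' (Subgroup.center (SU (m + 2 + 2) K q))) := ⟨x, hx, rfl⟩
    rw [hbot, Subgroup.mem_bot, QuotientGroup.mk'_apply, QuotientGroup.eq_one_iff] at h1
    obtain ⟨j, hj⟩ := S₀.isPGroup' ⟨x, hx⟩
    have hj' : x ^ p ^ j = 1 := by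
      have := congrArg Subtype.val hj
      simpa using this
    rw [Subgroup.mem_bot]
    exact hZp x h1 j hj'
  · rw [Sylow.coe_mapSurjective]
    exact Cfsg.Agent.Lead.SpFus.crit_quotient S₀.isPGroup' hcrit _ le_rfl hZp

end Cfsg.Agent.Lead.SUFus
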