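import Mathlib
import Cfsg.Prelude.Def_CaseTheorems
import Cfsg.Agent.Helper5.PGroupCenter
import Cfsg.Agent.Helper1.Basic
import Cfsg.Agent.Helper1.Card
import Cfsg.Agent.Lead.CycSC5
import Cfsg.Agent.Lead.SecRankFour

set_option autoImplicit false

/-!
A non-abelian subgroup with centre of order 2, normal in the centralizer of its centre, inside a
2-group of sectional rank at most 4.
-/

namespace Cfsg.Agent.Lead.SecRankFourB

open scoped commutatorElement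

section general

variable {G : Type*} [Group G] [Finite G]

/-- The rank bound in concrete form: if all squares of `H` lie in `N₀`, then `|H| ≤ |N₀| · 2^k`. -/
theorem rank_bound {k : ℕ} (hr : Cfsg.SectionalPRankLE 2 k G) (H N₀ : Subgroup G)
    (hsq : ∀ h ∈ H, h ^ 2 ∈ N₀) : Nat.card H ≤ Nat.card N₀ * 2 ^ k := by
  obtain ⟨N, hN⟩ : ∃ N : Subgroup ↥H, N = Subgroup.normalClosure (Set.range fun h : ↥H => h ^ 2) :=
    ⟨_, rfl⟩
  haveI hNn : N.Normal := by rw [hN]; infer_instance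
  have hq2 : ∀ q : ↥H ⧸ N, q * q = 1 := by
    intro q
    obtain ⟨h, rfl⟩ := QuotientGroup.mk_surjective q
    rw [← QuotientGroup.mk_mul, QuotientGroup.eq_one_iff, hN, ← pow_two]
    exact Subgroup.subset_normalClosure ⟨h, rfl⟩
  have hqinv : ∀ q : ↥H ⧸ N, q⁻¹ = q := fun q => inv_eq_of_mul_eq_one_right (hq2 q)
  have hqc : ∀ q r : ↥H ⧸ N, q * r = r * q := by
    intro q r
    calc q * r = (q * r)⁻¹ := (hqinv _).symm
      _ = r⁻¹ * q⁻¹ := mul_inv_rev q r
      _ = r * q := by rw [hqinv, hqinv]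
  haveI hTc : IsMulCommutative (⊤ : Subgroup (↥H ⧸ N)) := ⟨⟨fun a b => Subtype.ext (hqc a b)⟩⟩
  have hrank := hr H N (⊤ : Subgroup (↥H ⧸ N)) hTc (fun a _ => by rw [pow_two]; exact hq2 a)
  rw [Subgroup.card_top, ← Subgroup.index_eq_card] at hrank
  have hNle : N.map H.subtype ≤ N₀ := by
    rw [Subgroup.map_le_iff_le_comap, hN, Subgroup.normalClosure]
    rw [Subgroup.closure_le]
    intro x hx
    obtain ⟨y, ⟨h, rfl⟩, hconj⟩ := Group.mem_conjugatesOfSet_iff.1 hx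
    obtain ⟨g, hg⟩ := isConj_iff.1 hconj
    have hx' : x = (g * h * g⁻¹) ^ 2 := by
      rw [← hg, conj_pow]
    rw [hx']
    show ((H.subtype ((g * h * g⁻¹) ^ 2)) : G) ∈ N₀
    rw [map_pow]
    exact hsq _ (g * h * g⁻¹).2
  have hcardN : Nat.card N ≤ Nat.card N₀ := by
    rw [← Subgroup.card_map_of_injective H.subtype_injective]
    exact Subgroup.card_le_of_le hNle
  have hidx := N.card_mul_index
  calc Nat.card H = Nat.card N * N.index := hidx.symm
    _ ≤ Nat.card N₀ * 2 ^ k := Nat.mul_le_mul hcardN hrank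

/-- Sectional rank from the concrete bound. -/
theorem sectional_of_concrete (k : ℕ)
    (h : ∀ (H N : Subgroup G), N ≤ H → (∀ x ∈ H, x ^ 2 ∈ N) →
      Nat.card H ≤ Nat.card N * 2 ^ k) : Cfsg.SectionalPRankLE 2 k G := by
  intro H N _ A _ hexp
  obtain ⟨H', hH'⟩ : ∃ H' : Subgroup ↥H, H' = A.comap (QuotientGroup.mk' N) := ⟨_, rfl⟩
  have hNH' : N ≤ H' := by
    intro n hn
    rw [hH', Subgroup.mem_comap]
    have : (QuotientGroup.mk' N) n = 1 := (QuotientGroup.eq_one_iff n).2 hn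
    rw [this]; exact A.one_mem
  have hsq : ∀ x ∈ H'.map H.subtype, x ^ 2 ∈ N.map H.subtype := by
    intro x hx
    obtain ⟨u, hu, rfl⟩ := Subgroup.mem_map.1 hx
    rw [hH', Subgroup.mem_comap] at hu
    have h1 := hexp _ hu
    rw [← map_pow] at h1
    have h2 : u ^ 2 ∈ N := (QuotientGroup.eq_one_iff (u ^ 2)).1 h1
    exact ⟨u ^ 2, h2, by rw [map_pow]⟩
  have hb := h (H'.map H.subtype) (N.map H.subtype) (Subgroup.map_mono hNH') hsq
  rw [Subgroup.card_map_of_injective H.subtype_injective,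
    Subgroup.card_map_of_injective H.subtype_injective] at hb
  have hrel : N.relIndex H' = Nat.card A := by
    have hker : N = (⊥ : Subgroup (↥H ⧸ N)).comap (QuotientGroup.mk' N) := by
      ext u
      rw [Subgroup.mem_comap, Subgroup.mem_bot]
      exact (QuotientGroup.eq_one_iff u).symm
    have h1 : ((⊥ : Subgroup (↥H ⧸ N)).comap (QuotientGroup.mk' N)).relIndex H'
        = (⊥ : Subgroup (↥H ⧸ N)).relIndex (H'.map (QuotientGroup.mk' N)) :=
      Subgroup.relIndex_comap _ _ _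
    rw [← hker] at h1
    rw [h1, hH', Subgroup.map_comap_eq_self_of_surjective (QuotientGroup.mk'_surjective N),
      Subgroup.relIndex_bot_left]
  have hcard : N.relIndex H' * Nat.card N = Nat.card H' :=
    Cfsg.Agent.Helper1.relIndex_mul_card_of_le hNH'
  rw [hrel] at hcard
  rw [← hcard] at hb
  have hNpos : 0 < Nat.card N := Nat.card_pos
  have : Nat.card A * Nat.card N ≤ 2 ^ k * Nat.card N := by rw [mul_comm (2 ^ k)]; exact hb
  exact Nat.le_of_mul_le_mul_right this hNpos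

end general

variable {S : Type*} [Group S] [Finite S]

/-- The conjugate subgroup `g P g⁻¹`. -/
def cj (g : S) (P : Subgroup S) : Subgroup S := P.map (MulAut.conj g).toMonoidHom

theorem mem_cj {g y : S} {P : Subgroup S} : y ∈ cj g P ↔ g⁻¹ * y * g ∈ P := by
  unfold cj
  rw [Subgroup.mem_map]
  constructor
  · rintro ⟨x, hx, rfl⟩
    have : g⁻¹ * ((MulAut.conj g).toMonoidHom x) * g = x := by
      simp [MulAut.conj_apply, mul_assoc]
    rw [this]; exact hx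
  · intro h
    refine ⟨g⁻¹ * y * g, h, ?_⟩
    simp [MulAut.conj_apply, mul_assoc]

theorem conj_mem_cj {g p : S} {P : Subgroup S} (hp : p ∈ P) : g * p * g⁻¹ ∈ cj g P := by
  rw [mem_cj]
  have : g⁻¹ * (g * p * g⁻¹) * g = p := by group
  rw [this]; exact hp

theorem card_cj (g : S) (P : Subgroup S) : Nat.card (cj g P) = Nat.card P :=
  Subgroup.card_map_of_injective (MulAut.conj g).injective

theorem cj_mono (g : S) {K P : Subgroup S} (h : K ≤ P) : cj g K ≤ cj g P := Subgroup.map_mono h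

/-- The data carried by the subgroup `P`. -/
structure Good (P : Subgroup S) (z : S) : Prop where
  zmem : z ∈ P
  zne : z ≠ 1
  zc : ∀ y ∈ P, z * y = y * z
  zu : ∀ x ∈ P, (∀ y ∈ P, x * y = y * x) → x = 1 ∨ x = z
  na : ∃ a ∈ P, ∃ b ∈ P, a * b ≠ b * a
  hK : ∃ K : Subgroup S, K ≤ P ∧ (∀ x ∈ P, x ^ 2 ∈ K) ∧
      (∀ c ∈ P, (∀ y ∈ P, c * y = y * c) → c ∈ K) ∧ Nat.card K * 4 = Nat.card P

theorem Good.sq {P : Subgroup S} {z : S} (h : Good P z) : z * z = 1 := by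
  have hc : ∀ y ∈ P, (z * z) * y = y * (z * z) := by
    intro y hy
    rw [mul_assoc, h.zc y hy, ← mul_assoc, h.zc y hy, mul_assoc]
  rcases h.zu (z * z) (P.mul_mem h.zmem h.zmem) hc with h1 | h1
  · exact h1
  · exfalso
    apply h.zne
    have : z * z = z * 1 := by rw [mul_one]; exact h1
    exact mul_left_cancel this

theorem Good.inv {P : Subgroup S} {z : S} (h : Good P z) : z⁻¹ = z :=
  inv_eq_of_mul_eq_one_right h.sq

theorem Good.order {P : Subgroup S} {z : S} (h : Good P z) : orderOf z = 2 := by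
  haveI : Fact (Nat.Prime 2) := ⟨Nat.prime_two⟩
  apply orderOf_eq_prime
  · rw [pow_two]; exact h.sq
  · exact h.zne

theorem Good.conj {P : Subgroup S} {z : S} (h : Good P z) (g : S) :
    Good (cj g P) (g * z * g⁻¹) := by
  refine ⟨conj_mem_cj h.zmem, ?_, ?_, ?_, ?_, ?_⟩
  · intro h1
    apply h.zne
    have : z = g⁻¹ * (g * z * g⁻¹) * g := by group
    rw [this, h1]; group
  · intro y hy
    have e := h.zc _ (mem_cj.1 hy)
    calc (g * z * g⁻¹) * y = g * (z * (g⁻¹ * y * g)) * g⁻¹ := by group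
      _ = g * ((g⁻¹ * y * g) * z) * g⁻¹ := by rw [e]
      _ = y * (g * z * g⁻¹) := by group
  · intro x hx hxc
    have hx' := mem_cj.1 hx
    have hc' : ∀ y ∈ P, (g⁻¹ * x * g) * y = y * (g⁻¹ * x * g) := by
      intro y hy
      have e := hxc _ (conj_mem_cj (g := g) hy)
      calc (g⁻¹ * x * g) * y = g⁻¹ * (x * (g * y * g⁻¹)) * g := by group
        _ = g⁻¹ * ((g * y * g⁻¹) * x) * g := by rw [e]
        _ = y * (g⁻¹ * x * g) := by group
    rcases h.zu _ hx' hc' with h1 | h1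
    · left
      have : x = g * (g⁻¹ * x * g) * g⁻¹ := by group
      rw [this, h1]; group
    · right
      have : x = g * (g⁻¹ * x * g) * g⁻¹ := by group
      rw [this, h1]
  · obtain ⟨a, ha, b, hb, hab⟩ := h.na
    refine ⟨g * a * g⁻¹, conj_mem_cj ha, g * b * g⁻¹, conj_mem_cj hb, ?_⟩
    intro e
    apply hab
    have e1 : g * (a * b) * g⁻¹ = g * (b * a) * g⁻¹ := by
      calc g * (a * b) * g⁻¹ = (g * a * g⁻¹) * (g * b * g⁻¹) := by group
        _ = (g * b * g⁻¹) * (g * a * g⁻¹) := e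
        _ = g * (b * a) * g⁻¹ := by group
    exact mul_left_cancel (mul_right_cancel e1)
  · obtain ⟨K, hK, hsq, hcen, hcard⟩ := h.hK
    refine ⟨cj g K, cj_mono g hK, ?_, ?_, ?_⟩
    · intro x hx
      rw [mem_cj]
      have : g⁻¹ * x ^ 2 * g = (g⁻¹ * x * g) ^ 2 := by
        rw [pow_two, pow_two]; group
      rw [this]
      exact hsq _ (mem_cj.1 hx)
    · intro c hc hcc
      rw [mem_cj]
      apply hcen _ (mem_cj.1 hc)
      intro y hy
      have e := hcc _ (conj_mem_cj (g := g) hy)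
      calc (g⁻¹ * c * g) * y = g⁻¹ * (c * (g * y * g⁻¹)) * g := by group
        _ = g⁻¹ * ((g * y * g⁻¹) * c) * g := by rw [e]
        _ = y * (g⁻¹ * c * g) := by group
    · rw [card_cj, card_cj]; exact hcard

theorem good_of (P : Subgroup S) (h2 : IsPGroup 2 S) (hP : ¬ IsMulCommutative ↥P)
    (hZP : Nat.card ↥(Subgroup.center ↥P) = 2) : ∃ z, Good P z := by
  obtain ⟨z₀, hz₀, huniq⟩ := (Nat.card_eq_two_iff' (1 : Subgroup.center ↥P)).1 hZP
  have hzc0 : ∀ g : ↥P, g * (z₀ : ↥P) = (z₀ : ↥P) * g := Subgroup.mem_center_iff.1 z₀.2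
  refine ⟨((z₀ : ↥P) : S), ⟨(z₀ : ↥P).2, ?_, ?_, ?_, ?_, ?_⟩⟩
  · intro h
    apply hz₀
    apply Subtype.ext
    apply Subtype.ext
    exact h
  · intro y hy
    have := hzc0 ⟨y, hy⟩
    exact (congrArg Subtype.val this).symm
  · intro x hx hxc
    have hxZ := Cfsg.Agent.Lead.SecRankFour.mem_center_sub P hx hxc
    by_cases h1 : x = 1
    · left; exact h1
    · right
      have hne : (⟨⟨x, hx⟩, hxZ⟩ : Subgroup.center ↥P) ≠ 1 := by
        intro h
        apply h1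
        have := congrArg (fun c : Subgroup.center ↥P => ((c : ↥P) : S)) h
        simpa using this
      have := huniq _ hne
      have := congrArg (fun c : Subgroup.center ↥P => ((c : ↥P) : S)) this
      simpa using this
  · by_contra hcon
    push Not at hcon
    exact hP ⟨⟨fun a b => Subtype.ext (hcon a a.2 b b.2)⟩⟩
  · exact Cfsg.Agent.Lead.SecRankFour.exists_K P h2 hP hZP

theorem mem_sup_of_commute (P Q : Subgroup S) (hc : ∀ a ∈ P, ∀ b ∈ Q, a * b = b * a) {u : S}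
    (hu : u ∈ P ⊔ Q) : ∃ a ∈ P, ∃ b ∈ Q, a * b = u := by
  have hLE : P ≤ Subgroup.normalizer (Q : Set S) := by
    refine le_trans ?_ (Subgroup.centralizer_le_normalizer (Q : Set S))
    intro a ha
    rw [Subgroup.mem_centralizer_iff]
    intro b hb
    exact (hc a ha b hb).symm
  have : u ∈ ((P ⊔ Q : Subgroup S) : Set S) := hu
  rw [Subgroup.coe_mul_of_left_le_normalizer_right P Q hLE] at this
  exact Set.mem_mul.1 this

theorem le_normalizer_of_commute (P Q : Subgroup S) (hc : ∀ a ∈ P, ∀ b ∈ Q, a * b = b * a) :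
    Q ≤ Subgroup.normalizer (P : Set S) := by
  refine le_trans ?_ (Subgroup.centralizer_le_normalizer (P : Set S))
  intro b hb
  rw [Subgroup.mem_centralizer_iff]
  intro a ha
  exact hc a ha b hb

theorem card_sup_le (P Q : Subgroup S) (hc : ∀ a ∈ P, ∀ b ∈ Q, a * b = b * a) :
    Nat.card (P ⊔ Q : Subgroup S) ≤ Nat.card P * Nat.card Q := by
  have h := Cfsg.Agent.Helper1.card_sup_mul_card_inf (le_normalizer_of_commute P Q hc)
  have hpos : 0 < Nat.card (P ⊓ Q : Subgroup S) := Nat.card_pos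
  calc Nat.card (P ⊔ Q : Subgroup S) = Nat.card (P ⊔ Q : Subgroup S) * 1 := (mul_one _).symm
    _ ≤ Nat.card (P ⊔ Q : Subgroup S) * Nat.card (P ⊓ Q : Subgroup S) :=
        Nat.mul_le_mul_left _ hpos
    _ = Nat.card P * Nat.card Q := h

theorem card_sup_eq (P Q : Subgroup S) (hc : ∀ a ∈ P, ∀ b ∈ Q, a * b = b * a)
    (hd : ∀ x, x ∈ P → x ∈ Q → x = 1) :
    Nat.card (P ⊔ Q : Subgroup S) = Nat.card P * Nat.card Q := by
  have h := Cfsg.Agent.Helper1.card_sup_mul_card_inf (le_normalizer_of_commute P Q hc)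
  have hinf : P ⊓ Q = ⊥ := by
    rw [eq_bot_iff]
    intro x hx
    rw [Subgroup.mem_bot]
    exact hd x hx.1 hx.2
  rw [hinf, Subgroup.card_bot, mul_one] at h
  exact h

/-- Two subgroups normal in `R` with different central involutions commute and meet trivially. -/
theorem pair (h2 : IsPGroup 2 S) (R P Q : Subgroup S) (hPR : P ≤ R) (hQR : Q ≤ R)
    (hPn : ∀ r ∈ R, ∀ x ∈ P, r * x * r⁻¹ ∈ P) (hQn : ∀ r ∈ R, ∀ x ∈ Q, r * x * r⁻¹ ∈ Q)
    {z w : S} (hz : Good P z) (hw : Good Q w) (hzw : z ≠ w) :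
    (∀ x, x ∈ P → x ∈ Q → x = 1) ∧ (∀ a ∈ P, ∀ b ∈ Q, a * b = b * a) := by
  haveI : Fact (Nat.Prime 2) := ⟨Nat.prime_two⟩
  have hdisj : ∀ x, x ∈ P → x ∈ Q → x = 1 := by
    by_contra hcon
    push Not at hcon
    obtain ⟨x₀, hx₀P, hx₀Q, hx₀⟩ := hcon
    obtain ⟨M, hM⟩ : ∃ M : Subgroup ↥R, M = (P ⊓ Q).subgroupOf R := ⟨_, rfl⟩
    haveI : M.Normal := by
      constructor
      intro n hn g
      rw [hM, Subgroup.mem_subgroupOf] at hn ⊢
      exact ⟨hPn g g.2 n hn.1, hQn g g.2 n hn.2⟩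
    have hM1 : M ≠ ⊥ := by
      intro h
      have : (⟨x₀, hPR hx₀P⟩ : ↥R) ∈ M := by
        rw [hM, Subgroup.mem_subgroupOf]; exact ⟨hx₀P, hx₀Q⟩
      rw [h, Subgroup.mem_bot] at this
      exact hx₀ (congrArg Subtype.val this)
    obtain ⟨x, hxM, hx1, hxc⟩ :=
      Cfsg.Agent.Helper5.exists_ne_one_mem_center_of_normal (h2.to_subgroup R) M hM1
    rw [hM, Subgroup.mem_subgroupOf] at hxM
    have hcP : ∀ y ∈ P, (x : S) * y = y * x := by
      intro y hy
      have := hxc ⟨y, hPR hy⟩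
      exact (congrArg Subtype.val this).symm
    have hcQ : ∀ y ∈ Q, (x : S) * y = y * x := by
      intro y hy
      have := hxc ⟨y, hQR hy⟩
      exact (congrArg Subtype.val this).symm
    have hx1' : (x : S) ≠ 1 := fun h => hx1 (Subtype.ext h)
    rcases hz.zu x hxM.1 hcP with h | h
    · exact hx1' h
    · rcases hw.zu x hxM.2 hcQ with h' | h'
      · exact hx1' h'
      · exact hzw (h.symm.trans h')
  refine ⟨hdisj, ?_⟩
  intro a ha b hb
  have hcP : a * b * a⁻¹ * b⁻¹ ∈ P := by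
    have : a * b * a⁻¹ * b⁻¹ = a * (b * a⁻¹ * b⁻¹) := by group
    rw [this]
    exact P.mul_mem ha (hPn b (hQR hb) a⁻¹ (P.inv_mem ha))
  have hcQ : a * b * a⁻¹ * b⁻¹ ∈ Q :=
    Q.mul_mem (hQn a (hPR ha) b hb) (Q.inv_mem hb)
  have h1 := hdisj _ hcP hcQ
  have h3 : a * b = (a * b * a⁻¹ * b⁻¹) * (b * a) := by group
  rw [h3, h1, one_mul]

/-- Three such subgroups cannot exist when the sectional rank is at most 4. -/
theorem three (h2 : IsPGroup 2 S) (hr : Cfsg.SectionalPRankLE 2 4 S) (R P₁ P₂ P₃ : Subgroup S)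
    (h1R : P₁ ≤ R) (h2R : P₂ ≤ R) (h3R : P₃ ≤ R)
    (n1 : ∀ r ∈ R, ∀ x ∈ P₁, r * x * r⁻¹ ∈ P₁) (n2 : ∀ r ∈ R, ∀ x ∈ P₂, r * x * r⁻¹ ∈ P₂)
    (n3 : ∀ r ∈ R, ∀ x ∈ P₃, r * x * r⁻¹ ∈ P₃)
    {z₁ z₂ z₃ : S} (g1 : Good P₁ z₁) (g2 : Good P₂ z₂) (g3 : Good P₃ z₃)
    (h12 : z₁ ≠ z₂) (h13 : z₁ ≠ z₃) (h23 : z₂ ≠ z₃) : False := by
  obtain ⟨d12, c12⟩ := pair h2 R P₁ P₂ h1R h2R n1 n2 g1 g2 h12
  obtain ⟨d13, c13⟩ := pair h2 R P₁ P₃ h1R h3R n1 n3 g1 g3 h13
  obtain ⟨d23, c23⟩ := pair h2 R P₂ P₃ h2R h3R n2 n3 g2 g3 h23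
  obtain ⟨K₁, hK₁, sq₁, cen₁, card₁⟩ := g1.hK
  obtain ⟨K₂, hK₂, sq₂, cen₂, card₂⟩ := g2.hK
  obtain ⟨K₃, hK₃, sq₃, cen₃, card₃⟩ := g3.hK
  have c12_3 : ∀ u ∈ P₁ ⊔ P₂, ∀ c ∈ P₃, u * c = c * u := by
    intro u hu c hc
    obtain ⟨a, ha, b, hb, rfl⟩ := mem_sup_of_commute P₁ P₂ c12 hu
    rw [mul_assoc, c23 b hb c hc, ← mul_assoc, c13 a ha c hc, mul_assoc]
  have hsq : ∀ h ∈ P₁ ⊔ P₂ ⊔ P₃, h ^ 2 ∈ K₁ ⊔ K₂ ⊔ K₃ := by
    intro h hh
    obtain ⟨u, hu, c, hc, rfl⟩ := mem_sup_of_commute (P₁ ⊔ P₂) P₃ c12_3 hh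
    obtain ⟨a, ha, b, hb, rfl⟩ := mem_sup_of_commute P₁ P₂ c12 hu
    have e1 : Commute (a * b) c := c12_3 _ hu c hc
    have e2 : Commute a b := c12 a ha b hb
    rw [e1.mul_pow, e2.mul_pow]
    exact Subgroup.mul_mem _ (Subgroup.mem_sup_left (Subgroup.mul_mem _
      (Subgroup.mem_sup_left (sq₁ a ha)) (Subgroup.mem_sup_right (sq₂ b hb))))
      (Subgroup.mem_sup_right (sq₃ c hc))
  have rb := rank_bound hr (P₁ ⊔ P₂ ⊔ P₃) (K₁ ⊔ K₂ ⊔ K₃) hsq
  have hN : Nat.card (K₁ ⊔ K₂ ⊔ K₃ : Subgroup S) ≤ Nat.card K₁ * Nat.card K₂ * Nat.card K₃ := by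
    have e1 : Nat.card (K₁ ⊔ K₂ : Subgroup S) ≤ Nat.card K₁ * Nat.card K₂ :=
      card_sup_le K₁ K₂ (fun a ha b hb => c12 a (hK₁ ha) b (hK₂ hb))
    have e2 : Nat.card (K₁ ⊔ K₂ ⊔ K₃ : Subgroup S) ≤ Nat.card (K₁ ⊔ K₂ : Subgroup S) * Nat.card K₃ :=
      card_sup_le (K₁ ⊔ K₂) K₃ (fun u hu c hc =>
        c12_3 u (sup_le_sup hK₁ hK₂ hu) c (hK₃ hc))
    exact le_trans e2 (Nat.mul_le_mul_right _ e1)
  have hH12 : Nat.card (P₁ ⊔ P₂ : Subgroup S) = Nat.card P₁ * Nat.card P₂ :=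
    card_sup_eq P₁ P₂ c12 d12
  have hH := Cfsg.Agent.Helper1.card_sup_mul_card_inf
    (le_normalizer_of_commute (P₁ ⊔ P₂) P₃ c12_3)
  have hinf : Nat.card ((P₁ ⊔ P₂) ⊓ P₃ : Subgroup S) ≤ 2 := by
    have hle : (P₁ ⊔ P₂) ⊓ P₃ ≤ Subgroup.zpowers z₃ := by
      intro x hx
      have hxc : ∀ y ∈ P₃, x * y = y * x := fun y hy => c12_3 x hx.1 y hy
      rcases g3.zu x hx.2 hxc with h | h
      · rw [h]; exact Subgroup.one_mem _
      · rw [h]; exact Subgroup.mem_zpowers _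
    have := Subgroup.card_le_of_le hle
    rw [Nat.card_zpowers, g3.order] at this
    exact this
  rw [hH12] at hH
  have hk : Nat.card P₁ * Nat.card P₂ * Nat.card P₃
      = 64 * (Nat.card K₁ * Nat.card K₂ * Nat.card K₃) := by
    rw [← card₁, ← card₂, ← card₃]; ring
  rw [hk] at hH
  have hpos : 0 < Nat.card K₁ * Nat.card K₂ * Nat.card K₃ :=
    Nat.mul_pos (Nat.mul_pos Nat.card_pos Nat.card_pos) Nat.card_pos
  have h5 : Nat.card (P₁ ⊔ P₂ ⊔ P₃ : Subgroup S) * Nat.card ((P₁ ⊔ P₂) ⊓ P₃ : Subgroup S)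
      ≤ Nat.card (P₁ ⊔ P₂ ⊔ P₃ : Subgroup S) * 2 := Nat.mul_le_mul_left _ hinf
  have h6 : (2 : ℕ) ^ 4 = 16 := by norm_num
  rw [h6] at rb
  omega

/-- The main theorem. -/
theorem main (h2 : IsPGroup 2 S) (hr : Cfsg.SectionalPRankLE 2 4 S)
    (P : Subgroup S) (hP : ¬ IsMulCommutative ↥P)
    (hZP : Nat.card ↥(Subgroup.center ↥P) = 2)
    (S₀ : Subgroup S)
    (hS₀ : S₀ = Subgroup.centralizer (((Subgroup.center ↥P).map P.subtype : Subgroup S) : Set S))
    (hPn : ∀ s ∈ S₀, ∀ x ∈ P, s * x * s⁻¹ ∈ P) :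
    S₀ = ⊤ ∨ (Cfsg.SectionalPRankLE 2 2 ↥P ∧ S₀.index = 2) := by
  haveI : Fact (Nat.Prime 2) := ⟨Nat.prime_two⟩
  obtain ⟨z, gz⟩ := good_of P h2 hP hZP
  have hS₀mem : ∀ s, s ∈ S₀ ↔ z * s = s * z := by
    intro s
    rw [hS₀, Subgroup.mem_centralizer_iff]
    constructor
    · intro h
      exact h z ⟨⟨z, gz.zmem⟩, Cfsg.Agent.Lead.SecRankFour.mem_center_sub P gz.zmem gz.zc, rfl⟩
    · intro h y hy
      obtain ⟨c, hc, rfl⟩ := hy
      have hcc : ∀ y' ∈ P, (c : S) * y' = y' * c := by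
        intro y' hy'
        have := (Subgroup.mem_center_iff.1 hc) ⟨y', hy'⟩
        exact (congrArg Subtype.val this).symm
      rcases gz.zu c c.2 hcc with h1 | h1
      · show (c : S) * s = s * (c : S)
        rw [h1, one_mul, mul_one]
      · show (c : S) * s = s * (c : S)
        rw [h1]; exact h
  have hPS₀ : P ≤ S₀ := fun p hp => (hS₀mem p).2 (gz.zc p hp)
  by_cases hS₀top : S₀ = ⊤
  · left; exact hS₀top
  right
  haveI : Group.IsNilpotent S := h2.isNilpotent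
  have hnc : S₀ < Subgroup.normalizer (S₀ : Set S) :=
    normalizerCondition_of_isNilpotent S₀ (lt_top_iff_ne_top.2 hS₀top)
  obtain ⟨t, htT, htS₀⟩ := SetLike.exists_of_lt hnc
  obtain ⟨T, hT⟩ : ∃ T : Subgroup S, T = Subgroup.normalizer (S₀ : Set S) := ⟨_, rfl⟩
  rw [← hT] at htT
  have hS₀T : S₀ ≤ T := by rw [hT]; exact Subgroup.le_normalizer
  have hTn : ∀ y ∈ T, ∀ s, s ∈ S₀ ↔ y * s * y⁻¹ ∈ S₀ := by
    intro y hy s
    rw [hT] at hy
    exact Subgroup.mem_normalizer_iff.1 hy s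
  have hTn' : ∀ y ∈ T, ∀ s, s ∈ S₀ ↔ y⁻¹ * s * y ∈ S₀ := by
    intro y hy s
    have := hTn y⁻¹ (T.inv_mem hy) s
    rwa [inv_inv] at this
  -- conjugates of P by elements of T
  have hcjle : ∀ y ∈ T, cj y P ≤ S₀ := by
    intro y hy x hx
    have h1 : y⁻¹ * x * y ∈ S₀ := hPS₀ (mem_cj.1 hx)
    exact (hTn' y hy x).2 h1
  have hcjn : ∀ y ∈ T, ∀ s ∈ S₀, ∀ x ∈ cj y P, s * x * s⁻¹ ∈ cj y P := by
    intro y hy s hs x hx
    rw [mem_cj]
    have h1 : y⁻¹ * s * y ∈ S₀ := (hTn' y hy s).1 hs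
    have h3 := hPn _ h1 _ (mem_cj.1 hx)
    have : y⁻¹ * (s * x * s⁻¹) * y = (y⁻¹ * s * y) * (y⁻¹ * x * y) * (y⁻¹ * s * y)⁻¹ := by group
    rw [this]; exact h3
  have hzt : z ≠ t * z * t⁻¹ := by
    intro h
    apply htS₀
    rw [hS₀mem]
    have : t * z = (t * z * t⁻¹) * t := by group
    rw [← h] at this
    exact this.symm
  have hconj_ne : ∀ y, y ∉ S₀ → z ≠ y * z * y⁻¹ := by
    intro y hy h
    apply hy
    rw [hS₀mem]
    have : y * z = (y * z * y⁻¹) * y := by group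
    rw [← h] at this
    exact this.symm
  -- all elements of T outside S₀ move z to the same conjugate
  have hF7 : ∀ y ∈ T, y ∉ S₀ → y * z * y⁻¹ = t * z * t⁻¹ := by
    intro y hy hyS
    by_contra hne
    exact three h2 hr S₀ P (cj t P) (cj y P) hPS₀ (hcjle t htT) (hcjle y hy) hPn
      (hcjn t htT) (hcjn y hy) gz (gz.conj t) (gz.conj y) hzt (hconj_ne y hyS)
      (fun h => hne h.symm)
  obtain ⟨z', hz'⟩ : ∃ z', z' = t * z * t⁻¹ := ⟨_, rfl⟩
  rw [← hz'] at hF7 hzt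
  have hact1 : ∀ s ∈ S₀, s * z * s⁻¹ = z := by
    intro s hs
    have := (hS₀mem s).1 hs
    rw [← this]; group
  have hact1' : ∀ s ∈ S₀, s * z' * s⁻¹ = z' := by
    intro s hs
    have h1 : t⁻¹ * s * t ∈ S₀ := (hTn' t htT s).1 hs
    have h3 := hact1 _ h1
    have : s * z' * s⁻¹ = t * ((t⁻¹ * s * t) * z * (t⁻¹ * s * t)⁻¹) * t⁻¹ := by
      rw [hz']; group
    rw [this, h3, hz']
  have hodd : ∀ y ∈ T, y ∉ S₀ → y * z * y⁻¹ = z' ∧ y * z' * y⁻¹ = z := by
    intro y hy hyS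
    refine ⟨hF7 y hy hyS, ?_⟩
    have hyi : y⁻¹ ∉ S₀ := fun h => hyS (by simpa using S₀.inv_mem h)
    have := hF7 y⁻¹ (T.inv_mem hy) hyi
    rw [inv_inv] at this
    rw [← this]; group
  have hidx2 : ∀ y ∈ T, ∀ y' ∈ T, y ∉ S₀ → y' ∉ S₀ → y * y' ∈ S₀ := by
    intro y hy y' hy' hyS hyS'
    rw [hS₀mem]
    have h1 := (hodd y' hy' hyS').1
    have h3 := (hodd y hy hyS).2
    have : (y * y') * z * (y * y')⁻¹ = y * (y' * z * y'⁻¹) * y⁻¹ := by group
    rw [h1, h3] at this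
    have e : (y * y') * z = ((y * y') * z * (y * y')⁻¹) * (y * y') := by group
    rw [this] at e
    exact e.symm
  have hcomm : ∀ a ∈ T, ∀ b ∈ T, a * b * a⁻¹ * b⁻¹ ∈ S₀ := by
    intro a ha b hb
    have key : ∀ u ∈ T, ∀ v ∈ T, (u * v ∈ S₀ ↔ (u ∈ S₀ ↔ v ∈ S₀)) := by
      intro u hu v hv
      by_cases h1 : u ∈ S₀ <;> by_cases h3 : v ∈ S₀
      · simp [h1, h3, S₀.mul_mem h1 h3]
      · have : u * v ∉ S₀ := by
          intro h
          apply h3
          have e : v = u⁻¹ * (u * v) := by group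
          rw [e]; exact S₀.mul_mem (S₀.inv_mem h1) h
        simp [h1, h3, this]
      · have : u * v ∉ S₀ := by
          intro h
          apply h1
          have e : u = (u * v) * v⁻¹ := by group
          rw [e]; exact S₀.mul_mem h (S₀.inv_mem h3)
        simp [h1, h3, this]
      · simp [h1, h3, hidx2 u hu v hv h1 h3]
    have e : a * b * a⁻¹ * b⁻¹ = (a * b) * (a⁻¹ * b⁻¹) := by group
    rw [e, key (a * b) (T.mul_mem ha hb) (a⁻¹ * b⁻¹) (T.mul_mem (T.inv_mem ha) (T.inv_mem hb)),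
      key a ha b hb, key a⁻¹ (T.inv_mem ha) b⁻¹ (T.inv_mem hb), inv_mem_iff, inv_mem_iff]
  -- P and its conjugate by t
  obtain ⟨dPt, cPt⟩ := pair h2 S₀ P (cj t P) hPS₀ (hcjle t htT) hPn (hcjn t htT) gz (gz.conj t)
    (by rw [← hz']; exact hzt)
  have hcjT : ∀ y ∈ T, y ∉ S₀ → ∀ p ∈ P, y * p * y⁻¹ ∈ cj t P := by
    intro y hy hyS p hp
    have hti : t⁻¹ ∉ S₀ := fun h => htS₀ (by simpa using S₀.inv_mem h)
    have hs : t⁻¹ * y ∈ S₀ := hidx2 t⁻¹ (T.inv_mem htT) y hy hti hyS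
    rw [mem_cj]
    have : t⁻¹ * (y * p * y⁻¹) * t = (t⁻¹ * y) * p * (t⁻¹ * y)⁻¹ := by group
    rw [this]
    exact hPn _ hs p hp
  -- sectional rank of P
  have hrank : Cfsg.SectionalPRankLE 2 2 ↥P := by
    apply sectional_of_concrete
    intro H N hNH hsqH
    obtain ⟨H₁, hH₁⟩ : ∃ H₁ : Subgroup S, H₁ = H.map P.subtype := ⟨_, rfl⟩
    obtain ⟨N₁, hN₁⟩ : ∃ N₁ : Subgroup S, N₁ = N.map P.subtype := ⟨_, rfl⟩
    have hH₁P : H₁ ≤ P := by rw [hH₁]; exact Subgroup.map_subtype_le _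
    have hN₁P : N₁ ≤ P := by rw [hN₁]; exact Subgroup.map_subtype_le _
    have hsq1 : ∀ x ∈ H₁, x ^ 2 ∈ N₁ := by
      intro x hx
      rw [hH₁] at hx
      obtain ⟨u, hu, rfl⟩ := Subgroup.mem_map.1 hx
      rw [hN₁]
      exact ⟨u ^ 2, hsqH u hu, by rw [map_pow]⟩
    have hcH : ∀ a ∈ H₁, ∀ b ∈ cj t H₁, a * b = b * a := fun a ha b hb =>
      cPt a (hH₁P ha) b (cj_mono t hH₁P hb)
    have hcN : ∀ a ∈ N₁, ∀ b ∈ cj t N₁, a * b = b * a := fun a ha b hb =>
      cPt a (hN₁P ha) b (cj_mono t hN₁P hb)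
    have hsq2 : ∀ h ∈ H₁ ⊔ cj t H₁, h ^ 2 ∈ N₁ ⊔ cj t N₁ := by
      intro h hh
      obtain ⟨a, ha, b, hb, rfl⟩ := mem_sup_of_commute H₁ (cj t H₁) hcH hh
      have e : Commute a b := hcH a ha b hb
      rw [e.mul_pow]
      refine Subgroup.mul_mem _ (Subgroup.mem_sup_left (hsq1 a ha)) (Subgroup.mem_sup_right ?_)
      rw [mem_cj]
      have : t⁻¹ * b ^ 2 * t = (t⁻¹ * b * t) ^ 2 := by
        rw [pow_two, pow_two]; group
      rw [this]
      exact hsq1 _ (mem_cj.1 hb)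
    have rb := rank_bound hr (H₁ ⊔ cj t H₁) (N₁ ⊔ cj t N₁) hsq2
    have e1 : Nat.card (H₁ ⊔ cj t H₁ : Subgroup S) = Nat.card H₁ * Nat.card (cj t H₁) :=
      card_sup_eq H₁ (cj t H₁) hcH
        (fun x hx hx' => dPt x (hH₁P hx) (cj_mono t hH₁P hx'))
    have e2 : Nat.card (N₁ ⊔ cj t N₁ : Subgroup S) ≤ Nat.card N₁ * Nat.card (cj t N₁) :=
      card_sup_le N₁ (cj t N₁) hcN
    rw [e1, card_cj] at rb
    rw [card_cj] at e2
    have hcH1 : Nat.card H₁ = Nat.card H := by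
      rw [hH₁]; exact Subgroup.card_map_of_injective P.subtype_injective
    have hcN1 : Nat.card N₁ = Nat.card N := by
      rw [hN₁]; exact Subgroup.card_map_of_injective P.subtype_injective
    rw [hcH1] at rb
    rw [hcN1] at e2
    have h6 : (2 : ℕ) ^ 4 = 16 := by norm_num
    have h7 : (2 : ℕ) ^ 2 = 4 := by norm_num
    rw [h6] at rb
    rw [h7]
    have h8 : Nat.card H * Nat.card H ≤ (Nat.card N * 4) * (Nat.card N * 4) := by
      calc Nat.card H * Nat.card H ≤ Nat.card (N₁ ⊔ cj t N₁ : Subgroup S) * 16 := rb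
        _ ≤ (Nat.card N * Nat.card N) * 16 := Nat.mul_le_mul_right _ e2
        _ = (Nat.card N * 4) * (Nat.card N * 4) := by ring
    exact Nat.mul_self_le_mul_self_iff.1 h8
  -- T is everything
  have hTtop : T = ⊤ := by
    by_contra hTne
    have hncT : T < Subgroup.normalizer (T : Set S) :=
      normalizerCondition_of_isNilpotent T (lt_top_iff_ne_top.2 hTne)
    obtain ⟨y₀, hy₀N, hy₀T⟩ := SetLike.exists_of_lt hncT
    obtain ⟨k, hk1, hk2⟩ := Cfsg.Agent.Lead.CycSC.exists_pow_not_mem h2 T hy₀T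
    obtain ⟨x, hx⟩ : ∃ x, x = y₀ ^ (2 ^ k) := ⟨_, rfl⟩
    rw [← hx] at hk1 hk2
    have hxN : x ∈ Subgroup.normalizer (T : Set S) := by rw [hx]; exact Subgroup.pow_mem _ hy₀N _
    have hxT : ∀ g, g ∈ T ↔ x * g * x⁻¹ ∈ T := fun g => Subgroup.mem_normalizer_iff.1 hxN g
    have hxT' : ∀ g, g ∈ T ↔ x⁻¹ * g * x ∈ T := by
      intro g
      have := Subgroup.mem_normalizer_iff.1 (Subgroup.inv_mem _ hxN) g
      rwa [inv_inv] at this
    have hPT : P ≤ T := le_trans hPS₀ hS₀T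
    have hzT : z ∈ T := hPT gz.zmem
    have hxS₀ : x ∉ S₀ := fun h => hk1 (hS₀T h)
    by_cases hy : x * z * x⁻¹ ∈ S₀
    · -- Case A
      have hyz : z * (x * z * x⁻¹) = (x * z * x⁻¹) * z := (hS₀mem _).1 hy
      by_cases hA : ∀ p ∈ P, x * p * x⁻¹ ∈ S₀
      · -- A1
        obtain ⟨R, hR⟩ : ∃ R : Subgroup S, R = S₀ ⊓ cj x⁻¹ S₀ := ⟨_, rfl⟩
        have hmemR : ∀ r, r ∈ R ↔ r ∈ S₀ ∧ x * r * x⁻¹ ∈ S₀ := by
          intro r
          rw [hR, Subgroup.mem_inf, mem_cj, inv_inv]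
        have hx2 : x * x ∈ T := by rw [← pow_two]; exact hk2
        have h1R : P ≤ R := fun p hp => (hmemR p).2 ⟨hPS₀ hp, hA p hp⟩
        have h2R : cj t P ≤ R := by
          intro q hq
          refine (hmemR q).2 ⟨hcjle t htT hq, ?_⟩
          have h1 : x * (t⁻¹ * q * t) * x⁻¹ ∈ S₀ := hA _ (mem_cj.1 hq)
          have h3 : x * t * x⁻¹ ∈ T := (hxT t).1 htT
          have h4 := (hTn _ h3 _).1 h1
          have : x * q * x⁻¹ = (x * t * x⁻¹) * (x * (t⁻¹ * q * t) * x⁻¹) * (x * t * x⁻¹)⁻¹ := by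
            group
          rw [this]; exact h4
        have h3R : cj x⁻¹ P ≤ R := by
          intro q hq
          have hq' : x * q * x⁻¹ ∈ P := by
            have := mem_cj.1 hq
            rwa [inv_inv] at this
          refine (hmemR q).2 ⟨?_, hPS₀ hq'⟩
          have h1 : x * (x * q * x⁻¹) * x⁻¹ ∈ S₀ := hA _ hq'
          have h4 := (hTn' _ hx2 _).1 h1
          have : q = (x * x)⁻¹ * (x * (x * q * x⁻¹) * x⁻¹) * (x * x) := by group
          rw [this]; exact h4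
        have n1 : ∀ r ∈ R, ∀ p ∈ P, r * p * r⁻¹ ∈ P := fun r hr' p hp =>
          hPn r ((hmemR r).1 hr').1 p hp
        have n2 : ∀ r ∈ R, ∀ q ∈ cj t P, r * q * r⁻¹ ∈ cj t P := fun r hr' q hq =>
          hcjn t htT r ((hmemR r).1 hr').1 q hq
        have n3 : ∀ r ∈ R, ∀ q ∈ cj x⁻¹ P, r * q * r⁻¹ ∈ cj x⁻¹ P := by
          intro r hr' q hq
          have hq' : x * q * x⁻¹ ∈ P := by
            have := mem_cj.1 hq
            rwa [inv_inv] at this
          rw [mem_cj, inv_inv]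
          have h3 := hPn _ ((hmemR r).1 hr').2 _ hq'
          have : x * (r * q * r⁻¹) * x⁻¹ = (x * r * x⁻¹) * (x * q * x⁻¹) * (x * r * x⁻¹)⁻¹ := by
            group
          rw [this]; exact h3
        have g3 := gz.conj x⁻¹
        rw [inv_inv] at g3
        have hz3 : z ≠ x⁻¹ * z * x := by
          intro h
          apply hxS₀
          rw [hS₀mem]
          have e : z * x = x * (x⁻¹ * z * x) := by group
          rw [← h] at e
          exact e
        have hz'3 : t * z * t⁻¹ ≠ x⁻¹ * z * x := by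
          intro h
          apply hk1
          have hxt : x * t ∈ S₀ := by
            rw [hS₀mem]
            have e : (x * t) * z = x * (t * z * t⁻¹) * t := by group
            rw [h] at e
            rw [e]; group
          have e : x = (x * t) * t⁻¹ := by group
          rw [e]; exact T.mul_mem (hS₀T hxt) (T.inv_mem htT)
        exact three h2 hr R P (cj t P) (cj x⁻¹ P) h1R h2R h3R n1 n2 n3 gz (gz.conj t) g3
          (by rw [← hz']; exact hzt) hz3 hz'3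
      · -- A2
        push Not at hA
        obtain ⟨p, hp, hu⟩ := hA
        obtain ⟨u, hudef⟩ : ∃ u, u = x * p * x⁻¹ := ⟨_, rfl⟩
        rw [← hudef] at hu
        have huT : u ∈ T := by rw [hudef]; exact (hxT p).1 (hPT hp)
        have huz := (hodd u huT hu).1
        have hs : x⁻¹ * z * x ∈ S₀ := by
          rw [hS₀mem]
          have e1 : z * (x⁻¹ * z * x) = x⁻¹ * ((x * z * x⁻¹) * z) * x := by group
          have e2 : (x⁻¹ * z * x) * z = x⁻¹ * (z * (x * z * x⁻¹)) * x := by group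
          rw [e1, e2, hyz]
        obtain ⟨q, hq⟩ : ∃ q, q = (x⁻¹ * z * x) * p * (x⁻¹ * z * x)⁻¹ * p⁻¹ := ⟨_, rfl⟩
        have hqP : q ∈ P := by
          rw [hq]; exact P.mul_mem (hPn _ hs p hp) (P.inv_mem hp)
        have hqw : x * q * x⁻¹ = z * z' := by
          have e1 : x * q * x⁻¹ = z * (u * z⁻¹ * u⁻¹) := by
            rw [hq, hudef]; group
          have e2 : u * z⁻¹ * u⁻¹ = (u * z * u⁻¹)⁻¹ := by group
          rw [e1, e2, huz]
          have hz'inv : z'⁻¹ = z' := by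
            rw [hz']
            exact (gz.conj t).inv
          rw [hz'inv]
        -- z z' is central in T
        have hwT : ∀ g ∈ T, g * (z * z') * g⁻¹ = z * z' := by
          intro g hg
          have e : g * (z * z') * g⁻¹ = (g * z * g⁻¹) * (g * z' * g⁻¹) := by group
          by_cases hgS : g ∈ S₀
          · rw [e, hact1 g hgS, hact1' g hgS]
          · rw [e, (hodd g hg hgS).1, (hodd g hg hgS).2]
            have hz'S : z' ∈ S₀ := by
              rw [hz']; exact hcjle t htT (conj_mem_cj gz.zmem)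
            exact ((hS₀mem z').1 hz'S).symm
        have hqc : ∀ g ∈ T, q * g = g * q := by
          intro g hg
          have h1 := hwT _ ((hxT g).1 hg)
          rw [← hqw] at h1
          have e1 : (x * g * x⁻¹) * (x * q * x⁻¹) * (x * g * x⁻¹)⁻¹ = x * (g * q * g⁻¹) * x⁻¹ := by
            group
          rw [e1] at h1
          have h3 : g * q * g⁻¹ = q := mul_left_cancel (mul_right_cancel h1)
          have e2 : g * q = (g * q * g⁻¹) * g := by group
          rw [e2, h3]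
        rcases gz.zu q hqP (fun y hy => hqc y (hPT hy)) with h1 | h1
        · rw [h1] at hqw
          have e : z * z' = 1 := by rw [← hqw]; group
          apply hzt
          have e3 : z' = z⁻¹ := (inv_eq_of_mul_eq_one_right e).symm
          rw [e3, gz.inv]
        · apply htS₀
          rw [hS₀mem, ← h1]
          exact hqc t htT
    · -- Case B
      obtain ⟨a, ha, b, hb, hab⟩ := gz.na
      obtain ⟨c, hc⟩ : ∃ c, c = a * b * a⁻¹ * b⁻¹ := ⟨_, rfl⟩
      have hcP : c ∈ P := by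
        rw [hc]; exact P.mul_mem (P.mul_mem (P.mul_mem ha hb) (P.inv_mem ha)) (P.inv_mem hb)
      have hc1 : c ≠ 1 := by
        intro h
        apply hab
        have e : a * b = (a * b * a⁻¹ * b⁻¹) * (b * a) := by group
        rw [e, ← hc, h, one_mul]
      have hyT : x * z * x⁻¹ ∈ T := (hxT z).1 hzT
      have h1 : x⁻¹ * c * x ∈ S₀ := by
        have := hcomm _ ((hxT' a).1 (hPT ha)) _ ((hxT' b).1 (hPT hb))
        have e : (x⁻¹ * a * x) * (x⁻¹ * b * x) * (x⁻¹ * a * x)⁻¹ * (x⁻¹ * b * x)⁻¹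
            = x⁻¹ * c * x := by rw [hc]; group
        rwa [e] at this
      have h3 : z * (x⁻¹ * c * x) = (x⁻¹ * c * x) * z := (hS₀mem _).1 h1
      have h4 : (x * z * x⁻¹) * c * (x * z * x⁻¹)⁻¹ = c := by
        have e : (x * z * x⁻¹) * c * (x * z * x⁻¹)⁻¹ = x * (z * (x⁻¹ * c * x)) * z⁻¹ * x⁻¹ := by
          group
        rw [e, h3]; group
      have h5 := hcjT _ hyT hy c hcP
      rw [h4] at h5
      exact hc1 (dPt c hcP h5)
  -- index
  constructor
  · exact hrank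
  · rw [Subgroup.index_eq_two_iff]
    refine ⟨t, fun b => ?_⟩
    have hbT : b ∈ T := by rw [hTtop]; exact Subgroup.mem_top b
    by_cases hb : b ∈ S₀
    · right
      refine ⟨hb, ?_⟩
      intro h
      apply htS₀
      have e : t = b⁻¹ * (b * t) := by group
      rw [e]; exact S₀.mul_mem (S₀.inv_mem hb) h
    · left
      exact ⟨hidx2 b hbT t htT hb htS₀, hb⟩

end Cfsg.Agent.Lead.SecRankFourB
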