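import Mathlib
import Cfsg.Prelude.Def_CaseTheorems
import Cfsg.Agent.Lead.MaximalClass2
import Cfsg.Agent.Lead.CycSC5
import Cfsg.Agent.Helper1.MaxClassKlein
import Cfsg.Agent.S4399
import Cfsg.Agent.Lead.SylowLemmas

set_option autoImplicit false

/-!
A `2`-group of sectional rank at most 2 containing `D₈` or `Q₈` has maximal class.
-/

namespace Cfsg.Agent.Lead.SecRankTwo

/-- the facts about `D₈` and `Q₈` that are used -/
def Q8F (D : Type*) [Group D] (d : D) : Prop :=
  d ≠ 1 ∧ d * d = 1 ∧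
    (∀ x y : D, (x * y * x⁻¹ * y⁻¹ = 1 ∨ x * y * x⁻¹ * y⁻¹ = d) ∧ (x * x = 1 ∨ x * x = d)) ∧
    (∀ x : D, (∀ y, x * y = y * x) → (x = 1 ∨ x = d)) ∧ (∀ x : D, x * d = d * x) ∧
    Nat.card D = 8 ∧ ∃ x y : D, x * y ≠ y * x

theorem q8f_dihedral : Q8F (DihedralGroup 4) (DihedralGroup.r 2) := by
  refine ⟨by decide, by decide, by decide, by decide, by decide, ?_, by decide⟩
  rw [Nat.card_eq_fintype_card, DihedralGroup.card]

theorem q8f_quaternion : Q8F (QuaternionGroup 2) (QuaternionGroup.a 2) := by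
  refine ⟨by decide, by decide, by decide, by decide, by decide, ?_, by decide⟩
  rw [Nat.card_eq_fintype_card, QuaternionGroup.card]

theorem Q8F.transport {D D' : Type*} [Group D] [Group D'] {d : D} (h : Q8F D d) (e : D' ≃* D) :
    Q8F D' (e.symm d) := by
  obtain ⟨h1, h2, h3, h4, h5, h6, x, y, hxy⟩ := h
  refine ⟨?_, ?_, ?_, ?_, ?_, ?_, e.symm x, e.symm y, ?_⟩
  · intro h
    apply h1
    have := congrArg e h
    simpa using this
  · rw [← map_mul, h2, map_one]
  · intro x y
    have := h3 (e x) (e y)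
    constructor
    · rcases this.1 with h | h
      · left
        apply e.injective
        simpa using h
      · right
        apply e.injective
        simpa using h
    · rcases this.2 with h | h
      · left
        apply e.injective
        simpa using h
      · right
        apply e.injective
        simpa using h
  · intro x hx
    have := h4 (e x) (fun y => by
      have := hx (e.symm y)
      have h' := congrArg e this
      simpa using h')
    rcases this with h | h
    · left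
      apply e.injective
      simpa using h
    · right
      apply e.injective
      simpa using h
  · intro x
    apply e.injective
    have := h5 (e x)
    simpa using this
  · rw [Nat.card_congr e.toEquiv, h6]
  · intro h
    apply hxy
    have := congrArg e h
    simpa using this

variable {S : Type*} [Group S] [Finite S]

theorem cent_le (h2 : IsPGroup 2 S) (hr : Cfsg.SectionalPRankLE 2 2 S) (B : Subgroup S) (d : B)
    (hF : Q8F ↥B d) : Subgroup.centralizer (B : Set S) ≤ B := by
  haveI : Fact (Nat.Prime 2) := ⟨Nat.prime_two⟩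
  obtain ⟨hd1, hdd, hcs, hcen, hdc, hcard, -⟩ := hF
  obtain ⟨z, hz⟩ : ∃ z : S, z = (d : S) := ⟨_, rfl⟩
  have hzB : z ∈ B := by rw [hz]; exact d.2
  have hz1 : z ≠ 1 := by
    intro h
    apply hd1
    apply Subtype.ext
    rw [← hz, h]; rfl
  have hzz : z * z = 1 := by
    have := congrArg Subtype.val hdd
    rw [hz]; exact this
  have hzc : ∀ x ∈ B, x * z = z * x := by
    intro x hx
    have := congrArg Subtype.val (hdc ⟨x, hx⟩)
    rw [hz]; exact this
  have hcomm : ∀ x ∈ B, ∀ y ∈ B, x * y * x⁻¹ * y⁻¹ = 1 ∨ x * y * x⁻¹ * y⁻¹ = z := by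
    intro x hx y hy
    rcases (hcs ⟨x, hx⟩ ⟨y, hy⟩).1 with h | h
    · left; exact congrArg Subtype.val h
    · right; rw [hz]; exact congrArg Subtype.val h
  have hsq : ∀ x ∈ B, x * x = 1 ∨ x * x = z := by
    intro x hx
    rcases (hcs ⟨x, hx⟩ ⟨x, hx⟩).2 with h | h
    · left; exact congrArg Subtype.val h
    · right; rw [hz]; exact congrArg Subtype.val h
  have hcenter : ∀ x ∈ B, (∀ y ∈ B, x * y = y * x) → x = 1 ∨ x = z := by
    intro x hx hall
    rcases hcen ⟨x, hx⟩ (fun y => Subtype.ext (hall y y.2)) with h | h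
    · left; exact congrArg Subtype.val h
    · right; rw [hz]; exact congrArg Subtype.val h
  obtain ⟨Z, hZ⟩ : ∃ Z : Subgroup S, Z = Subgroup.zpowers z := ⟨_, rfl⟩
  have hZmem : ∀ w, w ∈ Z ↔ w = 1 ∨ w = z := by
    intro w
    rw [hZ]
    constructor
    · intro hw
      obtain ⟨k, rfl⟩ := Subgroup.mem_zpowers_iff.mp hw
      rcases Int.even_or_odd' k with ⟨j, rfl | rfl⟩
      · left
        rw [zpow_mul, zpow_two, hzz, one_zpow]
      · right
        rw [zpow_add, zpow_mul, zpow_two, hzz, one_zpow, one_mul, zpow_one]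
    · rintro (rfl | rfl)
      · exact Subgroup.one_mem _
      · exact Subgroup.mem_zpowers _
  have hZB : Z ≤ B := by
    rw [hZ, Subgroup.zpowers_le]; exact hzB
  have hZcard : Nat.card Z = 2 := by
    rw [hZ, Nat.card_zpowers]
    exact orderOf_eq_prime (by rw [pow_two]; exact hzz) hz1
  by_contra hle
  obtain ⟨c₀, hc₀C, hc₀B⟩ := SetLike.not_le_iff_exists.mp hle
  have hc₀Z : c₀ ∉ Z := fun h => hc₀B (hZB h)
  obtain ⟨k, hk1, hk2⟩ := Cfsg.Agent.Lead.CycSC.exists_pow_not_mem h2 Z hc₀Z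
  obtain ⟨c, hc⟩ : ∃ c, c = c₀ ^ (2 ^ k) := ⟨_, rfl⟩
  rw [← hc] at hk1 hk2
  have hcC : c ∈ Subgroup.centralizer (B : Set S) := by
    rw [hc]; exact Subgroup.pow_mem _ hc₀C _
  have hcB' : ∀ x ∈ B, x * c = c * x := fun x hx => Subgroup.mem_centralizer_iff.mp hcC x hx
  have hcB : c ∉ B := by
    intro h
    apply hk1
    rw [hZmem]
    exact hcenter c h (fun y hy => (hcB' y hy).symm)
  have hcc : c * c ∈ Z := by rw [← pow_two]; exact hk2
  -- the subgroup `H = ⟨B, c⟩`
  obtain ⟨H, hH⟩ : ∃ H : Subgroup S, H = Subgroup.closure ((B : Set S) ∪ {c}) := ⟨_, rfl⟩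
  have hBH : B ≤ H := by
    rw [hH]
    exact fun x hx => Subgroup.subset_closure (Or.inl hx)
  have hcH : c ∈ H := by
    rw [hH]
    exact Subgroup.subset_closure (Or.inr rfl)
  have hzH : ∀ x ∈ H, x * z = z * x := by
    intro x hx
    have h1 : H ≤ Subgroup.centralizer ({z} : Set S) := by
      rw [hH, Subgroup.closure_le]
      rintro y (hy | hy)
      · rw [SetLike.mem_coe, Subgroup.mem_centralizer_singleton_iff]
        exact hzc y hy
      · rw [Set.mem_singleton_iff] at hy
        rw [SetLike.mem_coe, Subgroup.mem_centralizer_singleton_iff, hy]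
        exact (hcB' z hzB).symm
    have := h1 hx
    rwa [Subgroup.mem_centralizer_singleton_iff] at this
  have hNn : (Z.subgroupOf H).Normal := by
    refine ⟨fun n hn g => ?_⟩
    rw [Subgroup.mem_subgroupOf] at hn ⊢
    rw [hZmem] at hn ⊢
    rcases hn with h | h
    · left
      show (g : S) * (n : S) * (g : S)⁻¹ = 1
      rw [h]; group
    · right
      show (g : S) * (n : S) * (g : S)⁻¹ = z
      rw [h, hzH g g.2]; group
  -- generators
  obtain ⟨gens, hgens⟩ : ∃ gens : Set H, gens = (Subtype.val : H → S) ⁻¹' ((B : Set S) ∪ {c}) :=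
    ⟨_, rfl⟩
  have hgtop : Subgroup.closure gens = ⊤ := by
    subst hH
    rw [hgens]
    exact Subgroup.closure_closure_coe_preimage
  have hmemN : ∀ x : H, (QuotientGroup.mk x : H ⧸ Z.subgroupOf H) = 1 ↔ (x : S) ∈ Z := by
    intro x
    rw [QuotientGroup.eq_one_iff, Subgroup.mem_subgroupOf]
  have hgsq : ∀ g ∈ gens, (g : S) * (g : S) ∈ Z := by
    intro g hg
    rw [hgens] at hg
    rcases hg with hg | hg
    · rw [hZmem]; exact hsq _ hg
    · rw [Set.mem_singleton_iff] at hg
      rw [hg]; exact hcc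
  have hgcomm : ∀ g ∈ gens, ∀ g' ∈ gens,
      (g : S) * (g' : S) * (g : S)⁻¹ * (g' : S)⁻¹ ∈ Z := by
    intro g hg g' hg'
    rw [hgens] at hg hg'
    rcases hg with hg | hg
    · rcases hg' with hg' | hg'
      · rw [hZmem]; exact hcomm _ hg _ hg'
      · rw [Set.mem_singleton_iff] at hg'
        rw [hg', hcB' _ hg]
        have : c * (g : S) * (g : S)⁻¹ * c⁻¹ = 1 := by group
        rw [this]; exact Z.one_mem
    · rw [Set.mem_singleton_iff] at hg
      rcases hg' with hg' | hg'
      · rw [hg, ← hcB' _ hg']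
        have : (g' : S) * c * c⁻¹ * (g' : S)⁻¹ = 1 := by group
        rw [this]; exact Z.one_mem
      · rw [Set.mem_singleton_iff] at hg'
        rw [hg, hg']
        have : c * c * c⁻¹ * c⁻¹ = 1 := by group
        rw [this]; exact Z.one_mem
  -- the quotient is generated by commuting involutions
  have htop : (⊤ : Subgroup (H ⧸ Z.subgroupOf H)) =
      Subgroup.closure ((QuotientGroup.mk' (Z.subgroupOf H)) '' gens) := by
    rw [← MonoidHom.map_closure, hgtop, ← MonoidHom.range_eq_map,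
      MonoidHom.range_eq_top.mpr (QuotientGroup.mk'_surjective _)]
  have hQcomm : ∀ x ∈ (QuotientGroup.mk' (Z.subgroupOf H)) '' gens,
      ∀ y ∈ (QuotientGroup.mk' (Z.subgroupOf H)) '' gens, x * y = y * x := by
    rintro _ ⟨g, hg, rfl⟩ _ ⟨g', hg', rfl⟩
    rw [QuotientGroup.mk'_apply, QuotientGroup.mk'_apply]
    have h1 := (hmemN (g * g' * g⁻¹ * g'⁻¹)).mpr (hgcomm g hg g' hg')
    have h2 : (QuotientGroup.mk (g * g' * g⁻¹ * g'⁻¹) : H ⧸ Z.subgroupOf H) =
        (QuotientGroup.mk g) * (QuotientGroup.mk g') * (QuotientGroup.mk g)⁻¹ *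
          (QuotientGroup.mk g')⁻¹ := rfl
    rw [h2] at h1
    have h3 := congrArg (fun t => t * ((QuotientGroup.mk g' : H ⧸ Z.subgroupOf H) *
      (QuotientGroup.mk g))) h1
    simpa [mul_assoc] using h3
  have hcommtop : IsMulCommutative ↥(⊤ : Subgroup (H ⧸ Z.subgroupOf H)) := by
    rw [htop]
    exact Subgroup.isMulCommutative_closure hQcomm
  have hexptop : ∀ q ∈ (⊤ : Subgroup (H ⧸ Z.subgroupOf H)), q ^ 2 = 1 := by
    intro q hq
    rw [htop] at hq
    have hcl : IsMulCommutative ↥(Subgroup.closure ((QuotientGroup.mk' (Z.subgroupOf H)) '' gens)) :=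
      Subgroup.isMulCommutative_closure hQcomm
    induction hq using Subgroup.closure_induction with
    | mem x hx =>
      obtain ⟨g, hg, rfl⟩ := hx
      rw [QuotientGroup.mk'_apply, pow_two]
      exact (hmemN (g * g)).mpr (hgsq g hg)
    | one => simp
    | mul x y hx hy hx2 hy2 =>
      have hxy : x * y = y * x :=
        congrArg Subtype.val (mul_comm' (⟨x, hx⟩ : ↥(Subgroup.closure
          ((QuotientGroup.mk' (Z.subgroupOf H)) '' gens))) ⟨y, hy⟩)
      have hc : Commute x y := hxy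
      rw [hc.mul_pow, hx2, hy2, one_mul]
    | inv x _ hx2 =>
      rw [inv_pow, hx2, inv_one]
  have hle4 := hr H (Z.subgroupOf H) ⊤ hcommtop hexptop
  -- cardinality
  have hcardH : 16 ≤ Nat.card H := by
    have hdvd : Nat.card B ∣ Nat.card H := Subgroup.card_dvd_of_le hBH
    rw [hcard] at hdvd
    obtain ⟨m, hm⟩ := hdvd
    have hne : Nat.card H ≠ 8 := by
      intro h8
      apply hcB
      have : B = H := Subgroup.eq_of_le_of_card_ge hBH (by rw [h8, hcard])
      rw [this]; exact hcH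
    have hpos : 0 < Nat.card H := Nat.card_pos
    rcases m with _ | _ | m
    · omega
    · omega
    · omega
  have hcardQ : Nat.card H = Nat.card (H ⧸ Z.subgroupOf H) * 2 := by
    rw [Subgroup.card_eq_card_quotient_mul_card_subgroup (Z.subgroupOf H)]
    congr 1
    rw [Cfsg.Agent.Lead.card_subgroupOf_of_le (hZB.trans hBH), hZcard]
  rw [Subgroup.card_top] at hle4
  omega

theorem main (h2 : IsPGroup 2 S) (hr : Cfsg.SectionalPRankLE 2 2 S)
    (hsub : ∃ H : Subgroup S, Nonempty (↥H ≃* DihedralGroup 4) ∨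
      Nonempty (↥H ≃* QuaternionGroup 2)) :
    ((∃ k : ℕ, Nonempty (S ≃* DihedralGroup (2 ^ (k + 2)))) ∨
      (∃ k : ℕ, Nat.card S = 2 ^ (k + 4) ∧ ∃ a b : S, orderOf a = 2 ^ (k + 3) ∧ orderOf b = 2 ∧
        b * a * b⁻¹ = a ^ (2 ^ (k + 2) - 1)) ∨
      (∃ k : ℕ, Nonempty (S ≃* QuaternionGroup (2 ^ (k + 1))))) := by
  haveI : Fact (Nat.Prime 2) := ⟨Nat.prime_two⟩
  obtain ⟨B, hB⟩ := hsub
  obtain ⟨d, hF⟩ : ∃ d : B, Q8F ↥B d := by
    rcases hB with ⟨⟨e⟩⟩ | ⟨⟨e⟩⟩
    · exact ⟨_, q8f_dihedral.transport e⟩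
    · exact ⟨_, q8f_quaternion.transport e⟩
  have hcent := cent_le h2 hr B d hF
  obtain ⟨n, hn⟩ := IsPGroup.iff_card.1 h2
  have hBcard : Nat.card B = 2 ^ 3 := by rw [hF.2.2.2.2.2.1]; norm_num
  have hBna : ¬ IsMulCommutative ↥B := by
    intro hc
    obtain ⟨x, y, hxy⟩ := hF.2.2.2.2.2.2
    exact hxy (mul_comm' x y)
  have hclass := Cfsg.Agent.Lead.nilpotencyClass_of_self_centralizing_cube (p := 2) n hn B hBcard
    hBna hcent
  have hn3 : 3 ≤ n := by
    have hdvd : Nat.card B ∣ Nat.card S := Subgroup.card_subgroup_dvd_card B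
    rw [hBcard, hn] at hdvd
    exact (Nat.pow_dvd_pow_iff_le_right (by norm_num)).mp hdvd
  have hK := Cfsg.Agent.Helper1.maxClass_kleinFour n hn3 hn hclass
  rw [Cfsg.Agent.Helper1.isKleinFour_abelianization_iff] at hK
  obtain ⟨hidx, hsq⟩ := hK
  have hab : Nat.card (Abelianization S) = 4 := by
    rw [← hidx, Subgroup.index_eq_card]
    rfl
  have hexp : ∀ x : Abelianization S, x ^ 2 = 1 := by
    intro x
    obtain ⟨g, rfl⟩ := QuotientGroup.mk_surjective (s := commutator S) x
    have h1 : ((QuotientGroup.mk g : S ⧸ commutator S)) ^ 2 = 1 := by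
      rw [← QuotientGroup.mk_pow]
      exact (QuotientGroup.eq_one_iff _).mpr (hsq g)
    exact h1
  rcases Cfsg.Agent.S4399.result h2 hab hexp with h4 | h
  · exfalso
    rw [hn] at h4
    have : (2 : ℕ) ^ 3 ≤ 2 ^ n := Nat.pow_le_pow_right (by norm_num) hn3
    omega
  · exact h

end Cfsg.Agent.Lead.SecRankTwo
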