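import Mathlib
import Cfsg.Prelude.Def_FusionReduction
import Cfsg.Agent.Lead.InvolvesLemmas

set_option autoImplicit false

namespace Cfsg.Agent.Lead

open Cfsg Cfsg.FusionSystem

universe u

theorem Fusion.isSectionFree_of_not_involves {Ω : Type u} [Group Ω] {S : Subgroup Ω} [Finite S]
    (p : ℕ) [Fact p.Prime]
    (F : Cfsg.FusionSystem S) (H : Type*) [Group H] (Q : Subgroup H)
    (hQ : IsPGroup p Q) (hfree : ¬ Cfsg.Involves (↥Q) (↥S)) : F.IsSectionFree p H := by
  intro Q' _ _ N _ L _ ι hmodel hinv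
  obtain ⟨hfin, ⟨hιinj, -⟩, ⟨T, hT⟩, -⟩ := hmodel
  apply hfree
  -- `Q` is involved in `L`
  obtain ⟨K, f, hf⟩ := exists_maps_of_involves hinv
  have h1 : Cfsg.Involves (↥Q) L := by
    refine involves_of_maps (K.subtype.comp (Q.comap f).subtype)
      ((Subgroup.subtype_injective _).comp (Subgroup.subtype_injective _))
      ((f.comp (Q.comap f).subtype).codRestrict Q (fun x => x.2)) ?_
    intro q
    obtain ⟨k, hk⟩ := hf q
    refine ⟨⟨k, ?_⟩, Subtype.ext hk⟩
    rw [Subgroup.mem_comap, hk]
    exact q.2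
  have h2 := involves_sylow_of_isPGroup p hQ T h1
  obtain ⟨K', f', hf'⟩ := exists_maps_of_involves h2
  set e := MonoidHom.ofInjective hιinj with he
  refine involves_of_maps
    ((Subgroup.inclusion (inf_le_left : normalizerIn S Q' ≤ S)).comp
      (e.symm.toMonoidHom.comp ((MulEquiv.subgroupCongr hT).toMonoidHom.comp K'.subtype)))
    ?_ f' hf'
  have hle : normalizerIn S Q' ≤ S := inf_le_left
  have h3 : Function.Injective (e.symm.toMonoidHom.comp
      ((MulEquiv.subgroupCongr hT).toMonoidHom.comp K'.subtype)) :=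
    e.symm.injective.comp ((MulEquiv.subgroupCongr hT).injective.comp
      (Subgroup.subtype_injective _))
  exact (Subgroup.inclusion_injective hle).comp h3

end Cfsg.Agent.Lead
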