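import Mathlib
import Cfsg.Agent.Lead.MaximalClass
import Cfsg.Agent.Lead.FourConnected
import Cfsg.Agent.Helper2.CentFour
import Cfsg.Agent.Helper2.KleinSylow
import Cfsg.Agent.Helper1.MaxClass2Group
import Cfsg.Agent.Helper1.MaxClassBasic
import Cfsg.Agent.Helper4.CyclicCentA
import Cfsg.Agent.S0016

set_option autoImplicit false

/-!
Non-abelian `2`-groups in which every non-cyclic subgroup contains its centralizer are exactly the
`2`-groups of maximal class.
-/

namespace Cfsg.Agent.Lead.SelfCentNC

universe u

variable {G : Type u} [Group G]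

/-! ### the centralizer of `xa 0` in a generalized quaternion group -/

theorem zmod_double_eq_zero {N : ℕ} [NeZero N] (i : ZMod (2 * N)) (h : i + i = 0) :
    i = 0 ∨ i = (N : ZMod (2 * N)) := by
  have hN : N ≠ 0 := NeZero.ne N
  haveI : NeZero (2 * N) := ⟨by omega⟩
  have h1 : ((i.val + i.val : ℕ) : ZMod (2 * N)) = 0 := by
    rw [Nat.cast_add, ZMod.natCast_zmod_val]
    exact h
  rw [ZMod.natCast_eq_zero_iff] at h1
  have h2 : i.val < 2 * N := ZMod.val_lt i
  obtain ⟨c, hc⟩ := h1
  have h3 : c = 0 ∨ c = 1 := by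
    rcases c with _ | _ | c
    · left; rfl
    · right; rfl
    · exfalso
      have : 2 * N * (c + 1 + 1) ≥ 2 * N * 2 := Nat.mul_le_mul_left _ (by omega)
      omega
  rcases h3 with rfl | rfl
  · left
    have : i.val = 0 := by omega
    exact (ZMod.val_eq_zero i).mp this
  · right
    have : i.val = N := by omega
    have h4 := ZMod.natCast_zmod_val i
    rw [this] at h4
    exact h4.symm

theorem quaternion_centralizer_card {N : ℕ} [NeZero N] :
    Nat.card (Subgroup.centralizer ({QuaternionGroup.xa (0 : ZMod (2 * N))} :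
      Set (QuaternionGroup N))) ≤ 4 := by
  classical
  have hsub : ((Subgroup.centralizer ({QuaternionGroup.xa (0 : ZMod (2 * N))} :
      Set (QuaternionGroup N)) : Subgroup (QuaternionGroup N)) : Set (QuaternionGroup N)) ⊆
      (({QuaternionGroup.a 0, QuaternionGroup.a (N : ZMod (2 * N)), QuaternionGroup.xa 0,
        QuaternionGroup.xa (N : ZMod (2 * N))} : Finset (QuaternionGroup N)) :
          Set (QuaternionGroup N)) := by
    intro g hg
    rw [SetLike.mem_coe, Subgroup.mem_centralizer_singleton_iff] at hg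
    simp only [Finset.coe_insert, Finset.coe_singleton, Set.mem_insert_iff,
      Set.mem_singleton_iff]
    rcases g with i | i
    · rw [QuaternionGroup.a_mul_xa, QuaternionGroup.xa_mul_a] at hg
      have h1 : (0 : ZMod (2 * N)) - i = 0 + i := QuaternionGroup.xa.inj hg
      have h2 : i + i = 0 := by
        have := congrArg (fun t => t + i) h1
        simp only [zero_sub, neg_add_cancel, zero_add] at this
        exact this.symm
      rcases zmod_double_eq_zero i h2 with h | h
      · left; rw [h]
      · right; left; rw [h]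
    · rw [QuaternionGroup.xa_mul_xa, QuaternionGroup.xa_mul_xa] at hg
      have h1 : (N : ZMod (2 * N)) + 0 - i = (N : ZMod (2 * N)) + i - 0 :=
        QuaternionGroup.a.inj hg
      have h2 : i + i = 0 := by
        have := congrArg (fun t => t + i - (N : ZMod (2 * N))) h1
        simp only [add_zero, sub_zero] at this
        have e1 : (N : ZMod (2 * N)) - i + i - (N : ZMod (2 * N)) = 0 := by ring
        have e2 : (N : ZMod (2 * N)) + i + i - (N : ZMod (2 * N)) = i + i := by ring
        rw [e1, e2] at this
        exact this.symm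
      rcases zmod_double_eq_zero i h2 with h | h
      · right; right; left; rw [h]
      · right; right; right; rw [h]
  have hcard : Nat.card (Subgroup.centralizer ({QuaternionGroup.xa (0 : ZMod (2 * N))} :
      Set (QuaternionGroup N))) = ((Subgroup.centralizer ({QuaternionGroup.xa (0 : ZMod (2 * N))} :
      Set (QuaternionGroup N)) : Subgroup (QuaternionGroup N)) : Set (QuaternionGroup N)).ncard :=
    Nat.card_coe_set_eq _
  rw [hcard]
  calc _ ≤ (({QuaternionGroup.a 0, QuaternionGroup.a (N : ZMod (2 * N)), QuaternionGroup.xa 0,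
        QuaternionGroup.xa (N : ZMod (2 * N))} : Finset (QuaternionGroup N)) :
          Set (QuaternionGroup N)).ncard := Set.ncard_le_ncard hsub (Finset.finite_toSet _)
    _ = _ := Set.ncard_coe_finset _
    _ ≤ 4 := Finset.card_le_four

/-- the nilpotency class is an isomorphism invariant -/
theorem nilpotencyClass_congr {H : Type*} [Group H] (e : G ≃* H) [Group.IsNilpotent G] :
    Group.nilpotencyClass H = Group.nilpotencyClass G := by
  haveI : Group.IsNilpotent H := Group.nilpotent_of_surjective e.toMonoidHom e.surjective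
  apply le_antisymm
  · exact Group.nilpotencyClass_le_of_surjective e.toMonoidHom e.surjective
  · exact Group.nilpotencyClass_le_of_surjective e.symm.toMonoidHom e.symm.surjective

theorem class_of_quaternion [Finite G] (n k : ℕ) (hG : Nat.card G = 2 ^ n) (hn : 3 ≤ n)
    (e : G ≃* QuaternionGroup (2 ^ k)) : Group.nilpotencyClass G = n - 1 := by
  haveI : Fact (Nat.Prime 2) := ⟨Nat.prime_two⟩
  haveI : NeZero (2 ^ k) := ⟨pow_ne_zero _ (by norm_num)⟩
  haveI : Group.IsNilpotent G := (IsPGroup.of_card hG).isNilpotent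
  have hQ : Nat.card (QuaternionGroup (2 ^ k)) = 2 ^ n := by
    rw [← Nat.card_congr e.toEquiv, hG]
  have h1 := Cfsg.Agent.Helper2.CentFour.maxClass_of_centralizer_le_four n hn
    (QuaternionGroup (2 ^ k)) hQ ⟨_, quaternion_centralizer_card⟩
  rw [← nilpotencyClass_congr e, h1]

/-! ### class and the lower central series -/

theorem lcs_ne_bot_iff [Finite G] (n : ℕ) (hn : 2 ≤ n) (hG : Nat.card G = 2 ^ n) :
    (⊤ : Subgroup G).lowerCentralSeries (n - 2) ≠ ⊥ ↔ Group.nilpotencyClass G = n - 1 := by
  haveI : Fact (Nat.Prime 2) := ⟨Nat.prime_two⟩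
  haveI : Group.IsNilpotent G := (IsPGroup.of_card hG).isNilpotent
  have h1 := Cfsg.Agent.Helper1.nilpotencyClass_le_pred (p := 2) n G hG hn
  rw [Ne, lowerCentralSeries_eq_bot_iff_nilpotencyClass_le]
  omega

theorem three_le_of_not_comm [Finite G] (hna : ¬ IsMulCommutative G) (n : ℕ)
    (hG : Nat.card G = 2 ^ n) : 3 ≤ n := by
  haveI : Fact (Nat.Prime 2) := ⟨Nat.prime_two⟩
  by_contra hlt
  apply hna
  have hn : n ≤ 2 := by omega
  rcases Nat.lt_or_ge n 2 with h | h
  · haveI : IsCyclic G := Cfsg.Agent.Helper1.isCyclic_of_card_le_prime (p := 2) hG (by omega)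
    exact IsCyclic.isMulCommutative
  · have : n = 2 := by omega
    subst this
    exact IsPGroup.isMulCommutative_of_card_eq_prime_sq hG

/-! ### the forward direction -/

theorem exists_central_involution [Finite G] (n : ℕ) (hn : 1 ≤ n) (hG : Nat.card G = 2 ^ n) :
    ∃ z : G, z ∈ Subgroup.center G ∧ z ≠ 1 ∧ z * z = 1 := by
  haveI : Fact (Nat.Prime 2) := ⟨Nat.prime_two⟩
  have hGp : IsPGroup 2 G := IsPGroup.of_card hG
  haveI : Nontrivial G := by
    rw [← Finite.one_lt_card_iff_nontrivial, hG]
    exact Nat.one_lt_pow (by omega) (by norm_num)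
  haveI hcn : Nontrivial (Subgroup.center G) := hGp.center_nontrivial
  have hcp : IsPGroup 2 (Subgroup.center G) := hGp.to_subgroup _
  obtain ⟨k, hk⟩ := IsPGroup.iff_card.1 hcp
  have hk0 : k ≠ 0 := by
    rintro rfl
    rw [pow_zero] at hk
    have := (Finite.one_lt_card_iff_nontrivial (α := Subgroup.center G)).2 hcn
    omega
  have hdvd : 2 ∣ Nat.card (Subgroup.center G) := by
    rw [hk]; exact dvd_pow_self 2 hk0
  obtain ⟨z, hz⟩ := exists_prime_orderOf_dvd_card' 2 hdvd
  refine ⟨z, z.2, ?_, ?_⟩
  · intro h
    have h1 : z = 1 := Subtype.ext h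
    rw [h1, orderOf_one] at hz
    norm_num at hz
  · have := pow_orderOf_eq_one z
    rw [hz, pow_two] at this
    exact congrArg Subtype.val this

theorem exists_gen_of_card_two (A : Subgroup G) (hA : Nat.card A = 2) :
    ∃ s : G, s ∈ A ∧ s ≠ 1 ∧ s * s = 1 ∧ A = Subgroup.zpowers s := by
  haveI : Fact (Nat.Prime 2) := ⟨Nat.prime_two⟩
  haveI : Finite A := Nat.finite_of_card_ne_zero (by omega)
  haveI : Nontrivial A := by
    rw [← Finite.one_lt_card_iff_nontrivial, hA]
    norm_num
  obtain ⟨s, hs⟩ := exists_ne (1 : A)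
  have hord : orderOf s = 2 := by
    have h1 : orderOf s ∣ 2 := hA ▸ orderOf_dvd_natCard s
    rcases (Nat.dvd_prime Nat.prime_two).mp h1 with h | h
    · exact absurd (orderOf_eq_one_iff.mp h) hs
    · exact h
  have hs2 : (s : G) * (s : G) = 1 := by
    have := pow_orderOf_eq_one s
    rw [hord, pow_two] at this
    exact congrArg Subtype.val this
  refine ⟨s, s.2, fun h => hs (Subtype.ext h), hs2, ?_⟩
  symm
  apply Subgroup.eq_of_le_of_card_ge
  · rw [Subgroup.zpowers_le]; exact s.2
  · rw [hA, Nat.card_zpowers]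
    have : orderOf (s : G) = orderOf s := Subgroup.orderOf_coe s
    rw [this, hord]

theorem forward [Finite G] (hna : ¬ IsMulCommutative G) (n : ℕ) (hG : Nat.card G = 2 ^ n)
    (hstar : ∀ H : Subgroup G, ¬ IsCyclic ↥H → Subgroup.centralizer (H : Set G) ≤ H) :
    Group.nilpotencyClass G = n - 1 := by
  haveI : Fact (Nat.Prime 2) := ⟨Nat.prime_two⟩
  have hn3 : 3 ≤ n := three_le_of_not_comm hna n hG
  have hGp : IsPGroup 2 G := IsPGroup.of_card hG
  by_cases huniq : ∀ A B : Subgroup G, Nat.card A = 2 → Nat.card B = 2 → A = B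
  · rcases Cfsg.Agent.S0016.result 2 hGp huniq with hc | ⟨-, k, ⟨e⟩⟩
    · exact absurd IsCyclic.isMulCommutative hna
    · exact class_of_quaternion n k hG hn3 e
  · push Not at huniq
    obtain ⟨A, B, hA, hB, hAB⟩ := huniq
    obtain ⟨z, hzc, hz1, hzz⟩ := exists_central_involution n (by omega) hG
    obtain ⟨s, -, hs1, hss, hAs⟩ := exists_gen_of_card_two A hA
    obtain ⟨t, -, ht1, htt, hBt⟩ := exists_gen_of_card_two B hB
    have hst : s ≠ t := by
      intro h
      apply hAB
      rw [hAs, hBt, h]
    obtain ⟨u, hu1, huu, huz⟩ : ∃ u : G, u ≠ 1 ∧ u * u = 1 ∧ z ≠ u := by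
      by_cases h : z = s
      · exact ⟨t, ht1, htt, fun h' => hst (h.symm.trans h')⟩
      · exact ⟨s, hs1, hss, h⟩
    have hzu : z * u = u * z := (Subgroup.mem_center_iff.mp hzc u).symm
    have hK := fourOf_isKleinFour z u hzz huu hzu hz1 hu1 huz
    have hnc : ¬ IsCyclic ↥(fourOf z u hzz huu hzu) := by
      intro hc
      have := hK
      exact IsKleinFour.not_isCyclic (G := ↥(fourOf z u hzz huu hzu)) hc
    have hle := hstar _ hnc
    have hcent : Subgroup.centralizer ((fourOf z u hzz huu hzu : Subgroup G) : Set G) =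
        fourOf z u hzz huu hzu := by
      apply le_antisymm hle
      intro x hx
      rw [Subgroup.mem_centralizer_iff]
      intro y hy
      exact Cfsg.Agent.Helper2.klein_comm _ hK hy hx
    have hcard : Nat.card ↥(fourOf z u hzz huu hzu) = 2 ^ 2 := hK.card_four
    exact nilpotencyClass_of_self_centralizing_sq (p := 2) n G hG _ hcard hcent

/-! ### the backward direction -/

theorem backward [Finite G] (hna : ¬ IsMulCommutative G) (n : ℕ) (hG : Nat.card G = 2 ^ n)
    (hcl : Group.nilpotencyClass G = n - 1) (H : Subgroup G) (hH : ¬ IsCyclic ↥H) :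
    Subgroup.centralizer (H : Set G) ≤ H := by
  haveI : Fact (Nat.Prime 2) := ⟨Nat.prime_two⟩
  have hn3 : 3 ≤ n := three_le_of_not_comm hna n hG
  have hGp : IsPGroup 2 G := IsPGroup.of_card hG
  obtain ⟨C, hCc, hCi⟩ := Cfsg.Agent.Helper1.exists_cyclic_index_two n hn3 G hG hcl
  obtain ⟨hZcard, -, -⟩ := Cfsg.Agent.Helper1.maxClass_center (p := 2) n hn3 hG hcl
  -- elements of `C` commute
  have hCcomm : ∀ c ∈ C, ∀ c' ∈ C, c * c' = c' * c := by
    intro c hc c' hc'
    haveI := hCc
    haveI : IsMulCommutative C := IsCyclic.isMulCommutative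
    exact congrArg Subtype.val (mul_comm' (⟨c, hc⟩ : C) ⟨c', hc'⟩)
  -- the centre is `{1, z}`
  obtain ⟨z, hzZ, hz1, hzz, hZz⟩ := exists_gen_of_card_two (Subgroup.center G) hZcard
  have hZmem : ∀ w ∈ Subgroup.center G, w = 1 ∨ w = z := by
    intro w hw
    rw [hZz] at hw
    obtain ⟨k, rfl⟩ := Subgroup.mem_zpowers_iff.mp hw
    rcases Int.even_or_odd' k with ⟨j, rfl | rfl⟩
    · left
      rw [zpow_mul, zpow_two, hzz, one_zpow]
    · right
      rw [zpow_add, zpow_mul, zpow_two, hzz, one_zpow, one_mul, zpow_one]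
  -- key: an element of `C` commuting with some `y ∉ C` is central
  have key1 : ∀ y, y ∉ C → ∀ c ∈ C, c * y = y * c → c ∈ Subgroup.center G := by
    intro y hy c hc hcy
    rw [Subgroup.mem_center_iff]
    intro g
    by_cases hg : g ∈ C
    · exact hCcomm g hg c hc
    · have h1 : g * y⁻¹ ∈ C := by
        rw [Subgroup.mul_mem_iff_of_index_two hCi]
        constructor
        · intro h; exact absurd h hg
        · intro h; exact absurd (C.inv_mem_iff.mp h) hy
      have h2 := hCcomm _ h1 c hc
      calc g * c = g * y⁻¹ * y * c := by group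
        _ = g * y⁻¹ * (c * y) := by rw [hcy]; group
        _ = (g * y⁻¹ * c) * y := by group
        _ = (c * (g * y⁻¹)) * y := by rw [h2]
        _ = c * g := by group
  -- `z ∈ C`
  have hzC : z ∈ C := by
    by_contra hz
    apply hna
    constructor
    constructor
    intro a b
    have hcz : ∀ c ∈ C, c ∈ Subgroup.center G := by
      intro c hc
      exact key1 z hz c hc (Subgroup.mem_center_iff.mp hzZ c)
    have hall : ∀ g : G, g ∈ Subgroup.center G := by
      intro g
      by_cases hg : g ∈ C
      · exact hcz g hg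
      · have h1 : g * z⁻¹ ∈ C := by
          rw [Subgroup.mul_mem_iff_of_index_two hCi]
          constructor
          · intro h; exact absurd h hg
          · intro h; exact absurd (C.inv_mem_iff.mp h) hz
        have : g = g * z⁻¹ * z := by group
        rw [this]
        exact Subgroup.mul_mem _ (hcz _ h1) hzZ
    exact Subgroup.mem_center_iff.mp (hall b) a
  intro x hx
  rw [Subgroup.mem_centralizer_iff] at hx
  -- some `y ∈ H` lies outside `C`
  obtain ⟨y, hyH, hyC⟩ : ∃ y ∈ H, y ∉ C := by
    by_contra hno
    push Not at hno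
    apply hH
    haveI := hCc
    exact Subgroup.isCyclic_of_le (show H ≤ C from hno)
  have hxy : y * x = x * y := hx y hyH
  -- `x ∈ Z(G)` or `x y⁻¹ ∈ Z(G)`
  have hcase : x ∈ Subgroup.center G ∨ x * y⁻¹ ∈ Subgroup.center G := by
    by_cases hxC : x ∈ C
    · left
      exact key1 y hyC x hxC hxy.symm
    · right
      have h1 : x * y⁻¹ ∈ C := by
        rw [Subgroup.mul_mem_iff_of_index_two hCi]
        constructor
        · intro h; exact absurd h hxC
        · intro h; exact absurd (C.inv_mem_iff.mp h) hyC
      apply key1 y hyC _ h1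
      calc x * y⁻¹ * y = y * y⁻¹ * x := by group
        _ = y * (y⁻¹ * x) := by group
        _ = y * (x * y⁻¹) := by
          congr 1
          calc y⁻¹ * x = y⁻¹ * (x * y) * y⁻¹ := by group
            _ = y⁻¹ * (y * x) * y⁻¹ := by rw [hxy]
            _ = x * y⁻¹ := by group
  by_cases hzH : z ∈ H
  · rcases hcase with h | h
    · rcases hZmem x h with rfl | rfl
      · exact H.one_mem
      · exact hzH
    · have hx' : x = x * y⁻¹ * y := by group
      rw [hx']
      rcases hZmem _ h with h' | h'
      · rw [h', one_mul]; exact hyH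
      · rw [h']; exact H.mul_mem hzH hyH
  · exfalso
    -- `H ∩ C = 1`
    have hHC : ∀ h ∈ H, h ∈ C → h = 1 := by
      intro h hhH hhC
      by_contra hne
      -- an involution in `zpowers h`
      have hhp : IsPGroup 2 (Subgroup.zpowers h) := hGp.to_subgroup _
      obtain ⟨k, hk⟩ := IsPGroup.iff_card.1 hhp
      have hk0 : k ≠ 0 := by
        rintro rfl
        rw [pow_zero, Nat.card_zpowers] at hk
        exact hne (orderOf_eq_one_iff.mp hk)
      have hdvd : 2 ∣ Nat.card (Subgroup.zpowers h) := by
        rw [hk]; exact dvd_pow_self 2 hk0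
      obtain ⟨u, hu⟩ := exists_prime_orderOf_dvd_card' 2 hdvd
      have huH : (u : G) ∈ H := by
        have : Subgroup.zpowers h ≤ H := by rw [Subgroup.zpowers_le]; exact hhH
        exact this u.2
      have huC : (u : G) ∈ C := by
        have : Subgroup.zpowers h ≤ C := by rw [Subgroup.zpowers_le]; exact hhC
        exact this u.2
      have hu1 : (u : G) ≠ 1 := by
        intro h'
        have h1 : u = 1 := Subtype.ext h'
        rw [h1, orderOf_one] at hu
        norm_num at hu
      have hu2 : (u : G) ^ 2 = 1 := by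
        have := pow_orderOf_eq_one u
        rw [hu] at this
        exact congrArg Subtype.val this
      haveI := hCc
      have hmem := Cfsg.Agent.Helper4.mem_zpowers_of_isCyclic_of_pow_prime (G := ↥C)
        Nat.prime_two (⟨z, hzC⟩ : C) ⟨(u : G), huC⟩
        (Subtype.ext (by rw [pow_two]; exact hzz)) (Subtype.ext hu2)
        (fun h' => hu1 (congrArg Subtype.val h'))
      obtain ⟨j, hj⟩ := Subgroup.mem_zpowers_iff.mp hmem
      have hj' : (u : G) ^ j = z := by
        have := congrArg Subtype.val hj
        simpa using this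
      apply hzH
      rw [← hj']
      exact H.zpow_mem huH j
    apply hH
    have hle : H ≤ Subgroup.zpowers y := by
      intro h hhH
      by_cases hhC : h ∈ C
      · rw [hHC h hhH hhC]
        exact Subgroup.one_mem _
      · have h1 : h * y⁻¹ ∈ C := by
          rw [Subgroup.mul_mem_iff_of_index_two hCi]
          constructor
          · intro h'; exact absurd h' hhC
          · intro h'; exact absurd (C.inv_mem_iff.mp h') hyC
        have h2 := hHC _ (H.mul_mem hhH (H.inv_mem hyH)) h1
        have : h = y := by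
          calc h = h * y⁻¹ * y := by group
            _ = y := by rw [h2, one_mul]
        rw [this]
        exact Subgroup.mem_zpowers y
    exact Subgroup.isCyclic_of_le hle

theorem main [Finite G] (hna : ¬ IsMulCommutative G) (n : ℕ) (hG : Nat.card G = 2 ^ n) :
    (∀ H : Subgroup G, ¬ IsCyclic ↥H → Subgroup.centralizer (H : Set G) ≤ H) ↔
      (⊤ : Subgroup G).lowerCentralSeries (n - 2) ≠ ⊥ := by
  have hn3 : 3 ≤ n := three_le_of_not_comm hna n hG
  rw [lcs_ne_bot_iff n (by omega) hG]
  constructor
  · intro h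
    exact forward hna n hG h
  · intro h H hH
    exact backward hna n hG h H hH

end Cfsg.Agent.Lead.SelfCentNC
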