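import Mathlib
import Cfsg.Prelude.Def_Local
import Cfsg.Agent.Lead.SelfCentP2

/-!
Groups with a self-centralizing element `x` of prime order `p`: normal subgroups of order `1 + np`.
-/

set_option autoImplicit false

namespace Cfsg.Agent.Lead.SelfCentP3

open scoped Pointwise commutatorElement

universe u

section
variable {G : Type u} [Group G] [Finite G] (p : ℕ) [hp : Fact p.Prime] (x : G) (hx : orderOf x = p)
  (hC : Subgroup.centralizer ({x} : Set G) = Subgroup.zpowers x)

include hx hC in
theorem factorization_eq_one : (Nat.card G).factorization p = 1 := by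
  obtain ⟨P, hP⟩ := S4496.exists_sylow p x hx hC
  have hPcard : Nat.card (P : Subgroup G) = p := by rw [hP]; exact S4496.card_zpowers p x hx
  have h2 := P.card_eq_multiplicity
  rw [hPcard] at h2
  have h5 : p ^ 1 = p ^ (Nat.card G).factorization p := by rw [pow_one]; exact h2
  exact (Nat.pow_right_injective hp.out.two_le h5).symm

include hx hC in
theorem count_subgroups : Nat.card {H : Subgroup G // Nat.card H = p} =
    (Subgroup.normalizer ((Subgroup.zpowers x : Subgroup G) : Set G)).index := by
  obtain ⟨P, hP⟩ := S4496.exists_sylow p x hx hC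
  have hfac := factorization_eq_one p x hx hC
  let e : {H : Subgroup G // Nat.card H = p} ≃ Sylow p G :=
    { toFun := fun H => Sylow.ofCard H.1 (by rw [H.2, hfac, pow_one])
      invFun := fun Q => ⟨Q, by rw [Q.card_eq_multiplicity, hfac, pow_one]⟩
      left_inv := fun H => by
        apply Subtype.ext
        exact Sylow.coe_ofCard (p := p) H.1 (by rw [H.2, hfac, pow_one])
      right_inv := fun Q => by
        apply Sylow.ext
        exact Sylow.coe_ofCard (p := p) (Q : Subgroup G)
          (by rw [Q.card_eq_multiplicity, hfac, pow_one]) }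
  rw [Nat.card_congr e, Sylow.card_eq_index_normalizer P, ← hP]
  rfl

include hx in
theorem card_normalizer : Nat.card (Subgroup.normalizer ((Subgroup.zpowers x : Subgroup G) : Set G)) =
    p * (Subgroup.zpowers x).relIndex
      (Subgroup.normalizer ((Subgroup.zpowers x : Subgroup G) : Set G)) := by
  have h1 := Subgroup.card_mul_index ((Subgroup.zpowers x).subgroupOf
    (Subgroup.normalizer ((Subgroup.zpowers x : Subgroup G) : Set G)))
  rw [Helper1.card_subgroupOf_of_le Subgroup.le_normalizer, S4496.card_zpowers p x hx] at h1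
  exact h1.symm

include hx hC in
theorem inf_normalizer_eq_bot (S : Subgroup G) [hS : S.Normal] (hnd : ¬ p ∣ Nat.card S) :
    Subgroup.normalizer ((Subgroup.zpowers x : Subgroup G) : Set G) ⊓ S = ⊥ := by
  have hbot := S4496.inf_eq_bot p x hx S hnd
  rw [eq_bot_iff]
  intro s hs
  obtain ⟨hsN, hsS⟩ := Subgroup.mem_inf.1 hs
  have h1 : s * x * s⁻¹ ∈ Subgroup.zpowers x :=
    (Subgroup.mem_normalizer_iff.1 hsN x).1 (Subgroup.mem_zpowers x)
  have h2 : s * x * s⁻¹ * x⁻¹ ∈ S ⊓ Subgroup.zpowers x := by
    refine Subgroup.mem_inf.2 ⟨?_, Subgroup.mul_mem _ h1 (Subgroup.inv_mem _ (Subgroup.mem_zpowers x))⟩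
    have h3 : x * s⁻¹ * x⁻¹ ∈ S := hS.conj_mem _ (S.inv_mem hsS) x
    have e : s * x * s⁻¹ * x⁻¹ = s * (x * s⁻¹ * x⁻¹) := by group
    rw [e]; exact S.mul_mem hsS h3
  rw [hbot, Subgroup.mem_bot] at h2
  have h4 : s * x = x * s := by
    have := congrArg (· * x * s) h2
    simpa [mul_assoc] using this
  have h5 : s ∈ S ⊓ Subgroup.zpowers x :=
    Subgroup.mem_inf.2 ⟨hsS, S4496.mem_zpowers_of_commute x hC h4⟩
  rw [hbot] at h5
  exact h5

include hx hC in
theorem card_sup_normalizer (S : Subgroup G) [hS : S.Normal] (hnd : ¬ p ∣ Nat.card S) :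
    Nat.card ↥(S ⊔ Subgroup.normalizer ((Subgroup.zpowers x : Subgroup G) : Set G)) =
      Nat.card (Subgroup.normalizer ((Subgroup.zpowers x : Subgroup G) : Set G)) * Nat.card S := by
  apply Helper1.card_sup_of_le_normalizer
  · rw [Subgroup.normalizer_eq_top S]; exact le_top
  · exact inf_normalizer_eq_bot p x hx hC S hnd

include hx hC in
theorem card_eq : Nat.card G =
    p * (Subgroup.zpowers x).relIndex
      (Subgroup.normalizer ((Subgroup.zpowers x : Subgroup G) : Set G)) *
    (Subgroup.normalizer ((Subgroup.zpowers x : Subgroup G) : Set G)).index := by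
  rw [← card_normalizer p x hx, Subgroup.card_mul_index]

include hx hC in
theorem case_eq (he : (Subgroup.zpowers x).relIndex
      (Subgroup.normalizer ((Subgroup.zpowers x : Subgroup G) : Set G)) = 1) :
    Nat.card (commutator G) =
        (Subgroup.normalizer ((Subgroup.zpowers x : Subgroup G) : Set G)).index ∧
      IsCyclic (G ⧸ commutator G) ∧ (commutator G).index = p := by
  have hidx := SelfCentP.index_commutator_of_relIndex_eq_one p x hx hC he
  refine ⟨?_, ?_, hidx⟩
  · have h1 := Subgroup.card_mul_index (commutator G)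
    rw [hidx, card_eq p x hx hC, he, mul_one, mul_comm] at h1
    exact Nat.eq_of_mul_eq_mul_left hp.out.pos h1
  · apply isCyclic_of_prime_card (p := p)
    rw [← Subgroup.index_eq_card, hidx]

include hx hC in
theorem commutator_le_sup (he : (Subgroup.zpowers x).relIndex
      (Subgroup.normalizer ((Subgroup.zpowers x : Subgroup G) : Set G)) ≠ 1) :
    commutator G ≤ Subgroup.zpowers x ⊔ ⁅commutator G, commutator G⁆ := by
  have hPD := SelfCentP.zpowers_le_commutator p x hx hC he
  have hxD : x ∈ commutator G := hPD (Subgroup.mem_zpowers x)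
  have hL : commutator G ≤ Subgroup.normalClosure ({x} : Set G) := by
    apply S4496.commutator_le_of_dvd p x hx hC
    have := Subgroup.orderOf_dvd_natCard _
      (Subgroup.subset_normalClosure (Set.mem_singleton x) : x ∈ Subgroup.normalClosure {x})
    rwa [hx] at this
  refine hL.trans ?_
  unfold Subgroup.normalClosure
  rw [Subgroup.closure_le]
  intro w hw
  rw [Group.mem_conjugatesOfSet_iff] at hw
  obtain ⟨a, ha, haw⟩ := hw
  rw [Set.mem_singleton_iff] at ha
  subst ha
  rw [isConj_iff] at haw
  obtain ⟨c, rfl⟩ := haw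
  have hcD : c * a * c⁻¹ ∈ commutator G :=
    (inferInstance : (commutator G).Normal).conj_mem _ hxD c
  have hw : orderOf (⟨c * a * c⁻¹, hcD⟩ : ↥(commutator G)) = p := by
    rw [← Subgroup.orderOf_coe]
    change orderOf (c * a * c⁻¹) = p
    rw [← hx]
    have := MulEquiv.orderOf_eq (MulAut.conj c) a
    simpa using this
  obtain ⟨d, hd⟩ := SelfCentP2.exists_conj_mem p a hx hC hxD _ hw
  have h1 : c * a * c⁻¹ = ((d⁻¹ * ⟨c * a * c⁻¹, hcD⟩ * d : ↥(commutator G)) : G) *
      ⁅(((d⁻¹ * ⟨c * a * c⁻¹, hcD⟩ * d : ↥(commutator G)) : G))⁻¹, (d : G)⁆ := by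
    rw [commutatorElement_def]
    simp only [Subgroup.coe_mul, Subgroup.coe_inv]
    group
  rw [h1]
  refine Subgroup.mul_mem _ (Subgroup.mem_sup_left hd) (Subgroup.mem_sup_right ?_)
  exact Subgroup.commutator_mem_commutator (Subgroup.inv_mem _ (hPD hd)) d.2

include hx hC in
theorem case_ne (he : (Subgroup.zpowers x).relIndex
      (Subgroup.normalizer ((Subgroup.zpowers x : Subgroup G) : Set G)) ≠ 1)
    (hD2 : ⁅commutator G, commutator G⁆ ≠ commutator G) :
    Nat.card ↥⁅commutator G, commutator G⁆ =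
        (Subgroup.normalizer ((Subgroup.zpowers x : Subgroup G) : Set G)).index ∧
      Nat.card (commutator G) =
        p * (Subgroup.normalizer ((Subgroup.zpowers x : Subgroup G) : Set G)).index := by
  have hPD := SelfCentP.zpowers_le_commutator p x hx hC he
  have hD2le : ⁅commutator G, commutator G⁆ ≤ commutator G := Subgroup.commutator_le_left _ _
  have hnd : ¬ p ∣ Nat.card ↥⁅commutator G, commutator G⁆ := by
    intro hdvd
    exact hD2 (le_antisymm hD2le (S4496.commutator_le_of_dvd p x hx hC _ hdvd))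
  have hle := commutator_le_sup p x hx hC he
  have htop : ⁅commutator G, commutator G⁆ ⊔
      Subgroup.normalizer ((Subgroup.zpowers x : Subgroup G) : Set G) = ⊤ := by
    rw [eq_top_iff, ← SelfCentP.normalizer_sup_commutator p x hx hC hPD]
    apply sup_le le_sup_right
    refine hle.trans (sup_le ?_ le_sup_left)
    exact Subgroup.le_normalizer.trans le_sup_right
  have hcard := card_sup_normalizer p x hx hC _ hnd
  rw [htop, Subgroup.card_top, ← Subgroup.card_mul_index
    (Subgroup.normalizer ((Subgroup.zpowers x : Subgroup G) : Set G))] at hcard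
  have h1 : Nat.card ↥⁅commutator G, commutator G⁆ =
      (Subgroup.normalizer ((Subgroup.zpowers x : Subgroup G) : Set G)).index :=
    (Nat.eq_of_mul_eq_mul_left Nat.card_pos hcard).symm
  refine ⟨h1, ?_⟩
  have heq : commutator G = ⁅commutator G, commutator G⁆ ⊔ Subgroup.zpowers x := by
    apply le_antisymm
    · rw [sup_comm]; exact hle
    · exact sup_le hD2le hPD
  have h2 : Nat.card ↥(⁅commutator G, commutator G⁆ ⊔ Subgroup.zpowers x) =
      Nat.card (Subgroup.zpowers x) * Nat.card ↥⁅commutator G, commutator G⁆ := by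
    apply Helper1.card_sup_of_le_normalizer
    · rw [Subgroup.normalizer_eq_top ⁅commutator G, commutator G⁆]; exact le_top
    · rw [inf_comm]; exact S4496.inf_eq_bot p x hx _ hnd
  rw [← heq, S4496.card_zpowers p x hx, h1] at h2
  exact h2

include hx hC in
theorem normal_imp (S : Subgroup G) [hS : S.Normal] (hnd : ¬ p ∣ Nat.card S)
    (hcard : Nat.card S = (Subgroup.normalizer ((Subgroup.zpowers x : Subgroup G) : Set G)).index)
    (he : (Subgroup.zpowers x).relIndex
      (Subgroup.normalizer ((Subgroup.zpowers x : Subgroup G) : Set G)) ≠ 1) :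
    ⁅commutator G, commutator G⁆ ≠ commutator G := by
  have hPD := SelfCentP.zpowers_le_commutator p x hx hC he
  have hq : ∀ s ∈ S, QuotientGroup.mk' S s = 1 := fun s hs => (QuotientGroup.eq_one_iff s).2 hs
  have htop : S ⊔ Subgroup.normalizer ((Subgroup.zpowers x : Subgroup G) : Set G) = ⊤ := by
    rw [← Subgroup.card_eq_iff_eq_top, card_sup_normalizer p x hx hC S hnd, hcard,
      Subgroup.card_mul_index]
  -- `G' ≤ S ⊔ ⟨x⟩`
  have hDle : commutator G ≤ S ⊔ Subgroup.zpowers x := by
    rw [commutator_eq_closure, Subgroup.closure_le]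
    rintro _ ⟨a, b, rfl⟩
    have ha : a ∈ S ⊔ Subgroup.normalizer ((Subgroup.zpowers x : Subgroup G) : Set G) := by
      rw [htop]; exact Subgroup.mem_top a
    have hb : b ∈ S ⊔ Subgroup.normalizer ((Subgroup.zpowers x : Subgroup G) : Set G) := by
      rw [htop]; exact Subgroup.mem_top b
    rw [← SetLike.mem_coe, Subgroup.normal_mul, Set.mem_mul] at ha hb
    obtain ⟨s₁, hs₁, n₁, hn₁, rfl⟩ := ha
    obtain ⟨s₂, hs₂, n₂, hn₂, rfl⟩ := hb
    have h1 : (QuotientGroup.mk' S) ⁅s₁ * n₁, s₂ * n₂⁆ = (QuotientGroup.mk' S) ⁅n₁, n₂⁆ := by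
      rw [map_commutatorElement, map_commutatorElement, map_mul, map_mul,
        hq s₁ hs₁, hq s₂ hs₂, one_mul, one_mul]
    have h2 : ⁅n₁, n₂⁆⁻¹ * ⁅s₁ * n₁, s₂ * n₂⁆ ∈ S := by
      have := QuotientGroup.eq.1 h1.symm
      exact this
    have h3 : ⁅n₁, n₂⁆ ∈ Subgroup.zpowers x := by
      have := S4496.comm_mem_zpowers x hC (Subgroup.inv_mem _ hn₁) (Subgroup.inv_mem _ hn₂)
      rw [commutatorElement_def]
      simpa using this
    have h4 : ⁅s₁ * n₁, s₂ * n₂⁆ = ⁅n₁, n₂⁆ * (⁅n₁, n₂⁆⁻¹ * ⁅s₁ * n₁, s₂ * n₂⁆) := by group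
    rw [SetLike.mem_coe, h4]
    exact Subgroup.mul_mem _ (Subgroup.mem_sup_right h3) (Subgroup.mem_sup_left h2)
  -- `G'' ≤ S`
  have hD2le : ⁅commutator G, commutator G⁆ ≤ S := by
    rw [Subgroup.commutator_le]
    intro a ha b hb
    have ha' := hDle ha
    have hb' := hDle hb
    rw [← SetLike.mem_coe, Subgroup.normal_mul, Set.mem_mul] at ha' hb'
    obtain ⟨s₁, hs₁, n₁, hn₁, rfl⟩ := ha'
    obtain ⟨s₂, hs₂, n₂, hn₂, rfl⟩ := hb'
    have hcomm : ⁅n₁, n₂⁆ = 1 := by
      rw [commutatorElement_eq_one_iff_commute]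
      obtain ⟨k, rfl⟩ := Subgroup.mem_zpowers_iff.1 hn₁
      obtain ⟨j, rfl⟩ := Subgroup.mem_zpowers_iff.1 hn₂
      exact (Commute.refl x).zpow_zpow k j
    have h1 : (QuotientGroup.mk' S) ⁅s₁ * n₁, s₂ * n₂⁆ = 1 := by
      rw [map_commutatorElement, map_mul, map_mul,
        hq s₁ hs₁, hq s₂ hs₂, one_mul, one_mul,
        ← map_commutatorElement, hcomm, map_one]
    exact (QuotientGroup.eq_one_iff _).1 h1
  intro heq
  apply hnd
  have hxD2 : x ∈ ⁅commutator G, commutator G⁆ := by
    rw [heq]; exact hPD (Subgroup.mem_zpowers x)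
  have hxS : x ∈ S := hD2le hxD2
  have := Subgroup.orderOf_dvd_natCard _ hxS
  rwa [hx] at this

include hx hC in
theorem s4509 (t : ℕ)
    (ht : Nat.card {C : ConjClasses G // ∃ g ∈ C.carrier, orderOf g = p} = t) (n : ℕ)
    (hn : Nat.card {H : Subgroup G // Nat.card H = p} = 1 + n * p) :
    ((∃ S : Subgroup G, S.Normal ∧ Nat.card S = 1 + n * p) ↔
      (t = p - 1 ∨ (t < p - 1 ∧ derivedSeries G 2 ≠ derivedSeries G 1))) ∧
    (t = p - 1 → Nat.card (commutator G) = 1 + n * p ∧ IsCyclic (G ⧸ commutator G) ∧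
      (commutator G).index = p) ∧
    (t < p - 1 → derivedSeries G 2 ≠ derivedSeries G 1 →
      Nat.card (derivedSeries G 2) = 1 + n * p ∧ Nat.card (commutator G) = p * (1 + n * p)) := by
  have hcount := SelfCentP.count p x hx hC
  rw [ht] at hcount
  have hp1 : 1 ≤ p - 1 := by have := hp.out.two_le; omega
  rw [count_subgroups p x hx hC] at hn
  have hd1 : derivedSeries G 1 = commutator G := derivedSeries_one G
  have hd2 : derivedSeries G 2 = ⁅commutator G, commutator G⁆ := by
    rw [show (2 : ℕ) = 1 + 1 from rfl, derivedSeries_succ, hd1]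
  rw [hd1, hd2]
  -- `t = p - 1` iff `e = 1`
  have he_of_eq : t = p - 1 → (Subgroup.zpowers x).relIndex
      (Subgroup.normalizer ((Subgroup.zpowers x : Subgroup G) : Set G)) = 1 := by
    intro hteq
    rw [hteq] at hcount
    have h2 : (p - 1) * (Subgroup.zpowers x).relIndex
      (Subgroup.normalizer ((Subgroup.zpowers x : Subgroup G) : Set G)) = (p - 1) * 1 := by
      rw [mul_one]; exact hcount
    exact Nat.eq_of_mul_eq_mul_left hp1 h2
  have he_of_lt : t < p - 1 → (Subgroup.zpowers x).relIndex
      (Subgroup.normalizer ((Subgroup.zpowers x : Subgroup G) : Set G)) ≠ 1 := by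
    intro hlt he
    rw [he, mul_one] at hcount
    omega
  have hcase1 : t = p - 1 → Nat.card (commutator G) = 1 + n * p ∧ IsCyclic (G ⧸ commutator G) ∧
      (commutator G).index = p := by
    intro hteq
    have := case_eq p x hx hC (he_of_eq hteq)
    rw [hn] at this
    exact this
  have hcase2 : t < p - 1 → ⁅commutator G, commutator G⁆ ≠ commutator G →
      Nat.card ↥⁅commutator G, commutator G⁆ = 1 + n * p ∧
        Nat.card (commutator G) = p * (1 + n * p) := by
    intro hlt hne
    have := case_ne p x hx hC (he_of_lt hlt) hne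
    rw [hn] at this
    exact this
  refine ⟨⟨?_, ?_⟩, hcase1, hcase2⟩
  · rintro ⟨S, hSn, hScard⟩
    by_cases hteq : t = p - 1
    · exact Or.inl hteq
    · right
      have hne : (Subgroup.zpowers x).relIndex
          (Subgroup.normalizer ((Subgroup.zpowers x : Subgroup G) : Set G)) ≠ 1 := by
        intro he
        rw [he, mul_one] at hcount
        exact hteq hcount
      have hlt : t < p - 1 := by
        have hepos : 2 ≤ (Subgroup.zpowers x).relIndex
            (Subgroup.normalizer ((Subgroup.zpowers x : Subgroup G) : Set G)) := by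
          rcases Nat.lt_or_ge ((Subgroup.zpowers x).relIndex
            (Subgroup.normalizer ((Subgroup.zpowers x : Subgroup G) : Set G))) 2 with h | h
          · interval_cases hh : (Subgroup.zpowers x).relIndex
              (Subgroup.normalizer ((Subgroup.zpowers x : Subgroup G) : Set G))
            · rw [mul_zero] at hcount; omega
            · exact absurd rfl hne
          · exact h
        nlinarith
      refine ⟨hlt, ?_⟩
      have hnd : ¬ p ∣ Nat.card S := by
        rw [hScard]
        intro hdvd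
        have h1 : p ∣ n * p := Dvd.intro_left n rfl
        have h2 : p ∣ 1 := (Nat.dvd_add_left h1).1 hdvd
        exact hp.out.one_lt.ne' (Nat.dvd_one.1 h2)
      haveI := hSn
      exact normal_imp p x hx hC S hnd (by rw [hScard, hn]) hne
  · rintro (hteq | ⟨hlt, hne⟩)
    · exact ⟨commutator G, inferInstance, (hcase1 hteq).1⟩
    · exact ⟨⁅commutator G, commutator G⁆, inferInstance, (hcase2 hlt hne).1⟩

end

end Cfsg.Agent.Lead.SelfCentP3
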