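import Mathlib

set_option autoImplicit false

/-! Self-dual modules: general lemmas on bilinear forms invariant under a representation. -/

namespace Cfsg.Agent.Lead.SelfDual

variable {F : Type*} [Field F] {G : Type*} [Group G] {V : Type*} [AddCommGroup V] [Module F V]

/-- The right orthogonal complement `{v | ∀ x ∈ X, B x v = 0}`. -/
def rperp (B : LinearMap.BilinForm F V) (X : Submodule F V) : Submodule F V where
  carrier := {v | ∀ x ∈ X, B x v = 0}
  add_mem' := by
    intro a b ha hb x hx
    rw [map_add, ha x hx, hb x hx, add_zero]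
  zero_mem' := by
    intro x _
    rw [map_zero]
  smul_mem' := by
    intro c a ha x hx
    rw [map_smul, ha x hx, smul_zero]

lemma mem_rperp {B : LinearMap.BilinForm F V} {X : Submodule F V} {v : V} :
    v ∈ rperp B X ↔ ∀ x ∈ X, B x v = 0 := Iff.rfl

lemma isCompl_rperp [FiniteDimensional F V] (B : LinearMap.BilinForm F V) (X : Submodule F V)
    (hsep : ∀ x ∈ X, (∀ x' ∈ X, B x' x = 0) → x = 0) : IsCompl X (rperp B X) := by
  refine ⟨?_, ?_⟩
  · rw [Submodule.disjoint_def]
    intro v hv hv'
    exact hsep v hv (fun x' hx' => hv' x' hx')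
  · rw [codisjoint_iff, eq_top_iff]
    intro v _
    have hB' : (B.flip.restrict X).Nondegenerate := by
      apply LinearMap.BilinForm.Nondegenerate.ofSeparatingLeft
      intro x hx
      have : (x : V) = 0 := hsep x x.2 (fun x' hx' => by
        have := hx ⟨x', hx'⟩
        simpa using this)
      exact Subtype.ext this
    have hx₀ : ∀ x' : X, (B.flip.restrict X) (((B.flip.restrict X).toDual hB').symm
        ((B.flip v).comp X.subtype)) x' = ((B.flip v).comp X.subtype) x' :=
      fun x' => LinearMap.BilinForm.apply_toDual_symm_apply _ _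
    obtain ⟨x₀, hx₀'⟩ : ∃ x₀ : X, ∀ x' : X, B x' x₀ = B x' v := by
      refine ⟨((B.flip.restrict X).toDual hB').symm ((B.flip v).comp X.subtype), fun x' => ?_⟩
      have := hx₀ x'
      simpa using this
    have hmem : v - x₀ ∈ rperp B X := by
      intro x hx
      have := hx₀' ⟨x, hx⟩
      rw [map_sub, this, sub_self]
    have hv : v = x₀ + (v - x₀) := by abel
    rw [hv]
    exact Submodule.add_mem_sup x₀.2 hmem

lemma rsep_rperp (B : LinearMap.BilinForm F V) (X : Submodule F V)
    (hB : ∀ v, (∀ v', B v' v = 0) → v = 0) (hc : X ⊔ rperp B X = ⊤) :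
    ∀ y ∈ rperp B X, (∀ y' ∈ rperp B X, B y' y = 0) → y = 0 := by
  intro y hy h
  apply hB
  intro v'
  have : v' ∈ X ⊔ rperp B X := by rw [hc]; trivial
  obtain ⟨x, hx, y', hy', rfl⟩ := Submodule.mem_sup.mp this
  rw [map_add, LinearMap.add_apply, hy x hx, h y' hy', add_zero]

lemma rperp_invariant (ρ : Representation F G V) (B : LinearMap.BilinForm F V)
    (hinv : ∀ g x y, B (ρ g x) (ρ g y) = B x y) (X : Submodule F V)
    (hX : ∀ g, ∀ x ∈ X, ρ g x ∈ X) : ∀ g, ∀ y ∈ rperp B X, ρ g y ∈ rperp B X := by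
  intro g y hy x hx
  have h1 := hinv g (ρ g⁻¹ x) y
  rw [Representation.self_inv_apply] at h1
  rw [h1]
  exact hy _ (hX g⁻¹ x hx)

/-- Maschke's theorem in the form needed here. -/
lemma exists_invariant_compl [Finite G] (ρ : Representation F G V) (hcard : (Nat.card G : F) ≠ 0)
    (X : Submodule F V) (hX : ∀ g, ∀ x ∈ X, ρ g x ∈ X) :
    ∃ C : Submodule F V, IsCompl X C ∧ ∀ g, ∀ c ∈ C, ρ g c ∈ C := by
  haveI : NeZero (Nat.card G : F) := ⟨hcard⟩
  obtain ⟨τ, hτ⟩ := exists_isCompl
    (Subrepresentation.mk X (fun g v hv => hX g v hv) : Subrepresentation ρ)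
  refine ⟨τ.toSubmodule, ⟨?_, ?_⟩, fun g c hc => τ.apply_mem_toSubmodule g hc⟩
  · rw [disjoint_iff]
    have h2 := congrArg Subrepresentation.toSubmodule hτ.inf_eq_bot
    exact h2
  · rw [codisjoint_iff]
    have h2 := congrArg Subrepresentation.toSubmodule hτ.sup_eq_top
    exact h2

/-- The sum over the group of the translates of a vector is fixed. -/
lemma sum_fixed [Fintype G] (ρ : Representation F G V) (x : V) (h : G) :
    ρ h (∑ g : G, ρ g x) = ∑ g : G, ρ g x := by
  rw [map_sum]
  exact Fintype.sum_equiv (Equiv.mulLeft h) _ _ (fun g => by simp [map_mul])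

/-- In characteristic 2, with `|G|` odd and no fixed vectors, an invariant form which is
symmetric on an invariant subspace is alternating there. -/
lemma alt_of_symm [Fintype G] (ρ : Representation F G V) (B : LinearMap.BilinForm F V)
    (h2 : (2 : F) = 0) (hcard : (Fintype.card G : F) ≠ 0)
    (hinv : ∀ g x y, B (ρ g x) (ρ g y) = B x y)
    (hfix : ∀ v, (∀ g, ρ g v = v) → v = 0)
    (X : Submodule F V) (hX : ∀ g, ∀ x ∈ X, ρ g x ∈ X) (hsym : ∀ x ∈ X, ∀ y, B x y = B y x) :
    ∀ x ∈ X, B x x = 0 := by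
  classical
  intro x hx
  have hsum : ∑ g : G, ρ g x = 0 := hfix _ (fun h => sum_fixed ρ x h)
  have hq : ∀ (s : Finset G), B (∑ g ∈ s, ρ g x) (∑ g ∈ s, ρ g x)
      = ∑ g ∈ s, B (ρ g x) (ρ g x) := by
    intro s
    induction s using Finset.induction_on with
    | empty => simp
    | insert a s ha ih =>
      rw [Finset.sum_insert ha, Finset.sum_insert ha]
      simp only [map_add, LinearMap.add_apply]
      rw [ih]
      have h1 : B (∑ g ∈ s, ρ g x) (ρ a x) = B (ρ a x) (∑ g ∈ s, ρ g x) :=
        (hsym _ (hX a x hx) _).symm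
      rw [h1]
      have : B (ρ a x) (∑ g ∈ s, ρ g x) + B (ρ a x) (∑ g ∈ s, ρ g x) = 0 := by
        rw [← two_mul, h2, zero_mul]
      linear_combination this
  have h3 := hq Finset.univ
  rw [hsum] at h3
  simp only [map_zero, LinearMap.zero_apply, hinv, Finset.sum_const, Finset.card_univ,
    nsmul_eq_mul] at h3
  rcases mul_eq_zero.mp h3.symm with h | h
  · exact absurd h hcard
  · exact h

end Cfsg.Agent.Lead.SelfDual
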