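import Mathlib
import Cfsg.Agent.Lead.SelfDualA

set_option autoImplicit false

/-! Self-dual modules: gluing of alternating forms. -/

namespace Cfsg.Agent.Lead.SelfDual

variable {F : Type*} [Field F] {G : Type*} [Group G] {V : Type*} [AddCommGroup V] [Module F V]

/-- The restriction of a representation to an invariant subspace. -/
def subRep (ρ : Representation F G V) (Y : Submodule F V) (hY : ∀ g, ∀ y ∈ Y, ρ g y ∈ Y) :
    Representation F G Y :=
  (Subrepresentation.mk Y (fun g v hv => hY g v hv) : Subrepresentation ρ).toRepresentation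

lemma subRep_apply (ρ : Representation F G V) (Y : Submodule F V)
    (hY : ∀ g, ∀ y ∈ Y, ρ g y ∈ Y) (g : G) (y : Y) :
    ((subRep ρ Y hY g y : Y) : V) = ρ g y := rfl

/-- `A` is alternating, invariant and left separating on the subspace `X`. -/
def IsGood (ρ : Representation F G V) (X : Submodule F V) (A : LinearMap.BilinForm F V) : Prop :=
  (∀ x ∈ X, A x x = 0) ∧ (∀ g, ∀ x ∈ X, ∀ x' ∈ X, A (ρ g x) (ρ g x') = A x x') ∧
  (∀ x ∈ X, (∀ x' ∈ X, A x x' = 0) → x = 0)

/-- The projection onto `X` along `Y` as an endomorphism. -/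
noncomputable def proj (X Y : Submodule F V) (hc : IsCompl X Y) : V →ₗ[F] V :=
  X.projection Y hc

lemma proj_mem (X Y : Submodule F V) (hc : IsCompl X Y) (v : V) : proj X Y hc v ∈ X :=
  Submodule.projection_apply_mem hc v

lemma proj_left (X Y : Submodule F V) (hc : IsCompl X Y) (x : V) (hx : x ∈ X) :
    proj X Y hc x = x :=
  Submodule.projection_apply_of_mem_left hc hx

lemma proj_right (X Y : Submodule F V) (hc : IsCompl X Y) (y : V) (hy : y ∈ Y) :
    proj X Y hc y = 0 :=
  Submodule.projection_apply_of_mem_right hc hy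

lemma proj_add (X Y : Submodule F V) (hc : IsCompl X Y) (v : V) :
    proj X Y hc v + proj Y X hc.symm v = v :=
  Submodule.projection_add_projection_eq_self hc v

lemma proj_equivariant (ρ : Representation F G V) (X Y : Submodule F V) (hc : IsCompl X Y)
    (hX : ∀ g, ∀ x ∈ X, ρ g x ∈ X) (hY : ∀ g, ∀ y ∈ Y, ρ g y ∈ Y) (g : G) (v : V) :
    proj X Y hc (ρ g v) = ρ g (proj X Y hc v) := by
  conv_lhs => rw [← proj_add X Y hc v, map_add, map_add,
    proj_left X Y hc _ (hX g _ (proj_mem X Y hc v)),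
    proj_right X Y hc _ (hY g _ (proj_mem Y X hc.symm v)), add_zero]

lemma lift_form (ρ : Representation F G V) (X Y : Submodule F V) (hc : IsCompl X Y)
    (hY : ∀ g, ∀ y ∈ Y, ρ g y ∈ Y) (A : LinearMap.BilinForm F Y) (halt : ∀ y, A y y = 0)
    (hinv : ∀ g y y', A (subRep ρ Y hY g y) (subRep ρ Y hY g y') = A y y')
    (hsep : ∀ y, (∀ y', A y y' = 0) → y = 0) :
    ∃ A₂ : LinearMap.BilinForm F V, (∀ v, A₂ v v = 0) ∧ IsGood ρ Y A₂ := by
  have hπ : ∀ y (hy : y ∈ Y), Submodule.projectionOnto Y X hc.symm y = ⟨y, hy⟩ :=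
    fun y hy => Submodule.projectionOnto_apply_left hc.symm ⟨y, hy⟩
  refine ⟨A.comp (Submodule.projectionOnto Y X hc.symm)
    (Submodule.projectionOnto Y X hc.symm), fun v => ?_, fun y _ => ?_, ?_, ?_⟩
  · rw [LinearMap.BilinForm.comp_apply]; exact halt _
  · rw [LinearMap.BilinForm.comp_apply]; exact halt _
  · intro g y hy y' hy'
    rw [LinearMap.BilinForm.comp_apply, LinearMap.BilinForm.comp_apply, hπ _ (hY g y hy),
      hπ _ (hY g y' hy'), hπ y hy, hπ y' hy']
    exact hinv g ⟨y, hy⟩ ⟨y', hy'⟩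
  · intro y hy h
    have : (⟨y, hy⟩ : Y) = 0 := hsep _ (fun y' => by
      have := h y' y'.2
      rw [LinearMap.BilinForm.comp_apply, hπ y hy, hπ y' y'.2] at this
      exact this)
    exact congrArg Subtype.val this

lemma glue (ρ : Representation F G V) (X Y : Submodule F V) (hc : IsCompl X Y)
    (hX : ∀ g, ∀ x ∈ X, ρ g x ∈ X) (hY : ∀ g, ∀ y ∈ Y, ρ g y ∈ Y)
    (A₁ A₂ : LinearMap.BilinForm F V) (h₁ : IsGood ρ X A₁) (h₂ : IsGood ρ Y A₂) :
    ∃ A : LinearMap.BilinForm F V, (∀ v, A v v = 0) ∧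
      (∀ g v v', A (ρ g v) (ρ g v') = A v v') ∧ (∀ v, (∀ v', A v v' = 0) → v = 0) := by
  refine ⟨A₁.comp (proj X Y hc) (proj X Y hc) + A₂.comp (proj Y X hc.symm) (proj Y X hc.symm),
    ?_, ?_, ?_⟩
  · intro v
    simp only [LinearMap.add_apply, LinearMap.BilinForm.comp_apply]
    rw [h₁.1 _ (proj_mem X Y hc v), h₂.1 _ (proj_mem Y X hc.symm v), add_zero]
  · intro g v v'
    simp only [LinearMap.add_apply, LinearMap.BilinForm.comp_apply]
    rw [proj_equivariant ρ X Y hc hX hY, proj_equivariant ρ X Y hc hX hY,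
      proj_equivariant ρ Y X hc.symm hY hX, proj_equivariant ρ Y X hc.symm hY hX,
      h₁.2.1 g _ (proj_mem X Y hc v) _ (proj_mem X Y hc v'),
      h₂.2.1 g _ (proj_mem Y X hc.symm v) _ (proj_mem Y X hc.symm v')]
  · intro v hv
    have h1 : proj X Y hc v = 0 := h₁.2.2 _ (proj_mem X Y hc v) (fun x' hx' => by
      have := hv x'
      simp only [LinearMap.add_apply, LinearMap.BilinForm.comp_apply] at this
      rw [proj_left X Y hc x' hx', proj_right Y X hc.symm x' hx', map_zero, add_zero] at this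
      exact this)
    have h2 : proj Y X hc.symm v = 0 := h₂.2.2 _ (proj_mem Y X hc.symm v) (fun y' hy' => by
      have := hv y'
      simp only [LinearMap.add_apply, LinearMap.BilinForm.comp_apply] at this
      rw [proj_left Y X hc.symm y' hy', proj_right X Y hc y' hy', map_zero, zero_add] at this
      exact this)
    rw [← proj_add X Y hc v, h1, h2, add_zero]

end Cfsg.Agent.Lead.SelfDual
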