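import Mathlib
import Cfsg.Agent.Lead.SelfDualB

set_option autoImplicit false

/-! Self-dual modules in characteristic 2 without fixed vectors carry an invariant
nondegenerate alternating form. -/

namespace Cfsg.Agent.Lead.SelfDual

universe u

variable {F : Type*} [Field F] {G : Type*} [Group G]

/-- The hyperbolic case: a totally isotropic invariant subspace `H` of symmetric vectors. -/
lemma hyperbolic_piece [Finite G] (h2 : (2 : F) = 0) (hcard : (Nat.card G : F) ≠ 0)
    {V : Type u} [AddCommGroup V] [Module F V] [FiniteDimensional F V]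
    (ρ : Representation F G V) (B : LinearMap.BilinForm F V)
    (hrs : ∀ v, (∀ v', B v' v = 0) → v = 0) (hls : ∀ v, (∀ v', B v v' = 0) → v = 0)
    (hinv : ∀ g x y, B (ρ g x) (ρ g y) = B x y)
    (H : Submodule F V) (hHne : H ≠ ⊥) (hHinv : ∀ g, ∀ x ∈ H, ρ g x ∈ H)
    (hHsym : ∀ x ∈ H, ∀ y, B x y = B y x) (hHiso : ∀ x ∈ H, ∀ y ∈ H, B x y = 0) :
    ∃ X : Submodule F V, X ≠ ⊥ ∧ (∀ g, ∀ x ∈ X, ρ g x ∈ X) ∧
      (∀ x ∈ X, (∀ x' ∈ X, B x' x = 0) → x = 0) ∧ ∃ A₁ : LinearMap.BilinForm F V,
        IsGood ρ X A₁ := by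
  obtain ⟨C, hHC, hCinv⟩ := exists_invariant_compl ρ hcard H hHinv
  have hMinv := rperp_invariant ρ B hinv H hHinv
  have hHM : H ≤ rperp B H := fun x hx y hy => hHiso y hy x hx
  have hMCinv : ∀ g, ∀ x ∈ rperp B H ⊓ C, ρ g x ∈ rperp B H ⊓ C :=
    fun g x hx => ⟨hMinv g x hx.1, hCinv g x hx.2⟩
  obtain ⟨C', hC', hC'inv⟩ := exists_invariant_compl ρ hcard (rperp B H ⊓ C) hMCinv
  -- K := C' ⊓ C
  have hKinv : ∀ g, ∀ x ∈ C' ⊓ C, ρ g x ∈ C' ⊓ C :=
    fun g x hx => ⟨hC'inv g x hx.1, hCinv g x hx.2⟩
  have hKM : ∀ k ∈ C' ⊓ C, k ∈ rperp B H → k = 0 := by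
    intro k hk hkM
    have : k ∈ (rperp B H ⊓ C) ⊓ C' := ⟨⟨hkM, hk.2⟩, hk.1⟩
    rw [hC'.inf_eq_bot] at this
    simpa using this
  have hMK : ∀ v : V, ∃ m ∈ rperp B H, ∃ k ∈ C' ⊓ C, v = m + k := by
    intro v
    have hv : v ∈ H ⊔ C := by rw [hHC.sup_eq_top]; trivial
    obtain ⟨h, hh, c, hc, rfl⟩ := Submodule.mem_sup.mp hv
    have hcsup : c ∈ (rperp B H ⊓ C) ⊔ C' := by rw [hC'.sup_eq_top]; trivial
    obtain ⟨a, ha, c', hc', rfl⟩ := Submodule.mem_sup.mp hcsup
    refine ⟨h + a, Submodule.add_mem _ (hHM hh) ha.1, c', ⟨hc', ?_⟩, by abel⟩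
    have : c' = (a + c') - a := by abel
    rw [this]
    exact Submodule.sub_mem _ hc ha.2
  have hXinv : ∀ g, ∀ x ∈ H ⊔ (C' ⊓ C), ρ g x ∈ H ⊔ (C' ⊓ C) := by
    intro g x hx
    obtain ⟨h, hh, k, hk, rfl⟩ := Submodule.mem_sup.mp hx
    rw [map_add]
    exact Submodule.add_mem_sup (hHinv g h hh) (hKinv g k hk)
  refine ⟨H ⊔ (C' ⊓ C), ?_, hXinv, ?_, ?_⟩
  · intro h
    apply hHne
    rw [eq_bot_iff, ← h]
    exact le_sup_left
  · intro x hx hx0
    obtain ⟨h₀, hh₀, k₀, hk₀, rfl⟩ := Submodule.mem_sup.mp hx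
    have hk₀0 : k₀ = 0 := by
      apply hKM k₀ hk₀
      intro h hh
      have := hx0 h (Submodule.mem_sup_left hh)
      rw [map_add, hHiso h hh h₀ hh₀, zero_add] at this
      exact this
    subst hk₀0
    rw [add_zero] at hx0 ⊢
    apply hrs
    intro v
    obtain ⟨m, hm, k, hk, rfl⟩ := hMK v
    rw [map_add, LinearMap.add_apply, hx0 k (Submodule.mem_sup_right hk), add_zero,
      ← hHsym h₀ hh₀ m]
    exact hm h₀ hh₀
  · -- the hyperbolic form
    have hπeq := proj_equivariant ρ H C hHC hHinv hCinv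
    refine ⟨B.comp (proj H C hHC) LinearMap.id + (B.comp (proj H C hHC) LinearMap.id).flip,
      ?_, ?_, ?_⟩
    · intro x _
      simp only [LinearMap.add_apply, LinearMap.BilinForm.comp_apply, LinearMap.BilinForm.flip_apply,
        LinearMap.id_apply]
      rw [← two_mul, h2, zero_mul]
    · intro g x _ x' _
      simp only [LinearMap.add_apply, LinearMap.BilinForm.comp_apply, LinearMap.BilinForm.flip_apply,
        LinearMap.id_apply]
      rw [hπeq, hπeq, hinv, hinv]
    · intro x hx hx0
      obtain ⟨h, hh, k, hk, rfl⟩ := Submodule.mem_sup.mp hx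
      have hπ : proj H C hHC (h + k) = h := by
        rw [map_add, proj_left H C hHC h hh, proj_right H C hHC k hk.2, add_zero]
      have hh0 : h = 0 := by
        apply hls
        intro v
        obtain ⟨m, hm, k', hk', rfl⟩ := hMK v
        have := hx0 k' (Submodule.mem_sup_right hk')
        simp only [LinearMap.add_apply, LinearMap.BilinForm.comp_apply, LinearMap.BilinForm.flip_apply,
          LinearMap.id_apply] at this
        rw [hπ, proj_right H C hHC k' hk'.2, map_zero, LinearMap.zero_apply, add_zero] at this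
        rw [map_add, this, add_zero]
        exact hm h hh
      subst hh0
      rw [zero_add] at hπ hx0 ⊢
      apply hKM k hk
      intro h' hh'
      have := hx0 h' (Submodule.mem_sup_left hh')
      simp only [LinearMap.add_apply, LinearMap.BilinForm.comp_apply, LinearMap.BilinForm.flip_apply,
        LinearMap.id_apply] at this
      rw [hπ, map_zero, LinearMap.zero_apply, zero_add, proj_left H C hHC h' hh'] at this
      exact this

theorem exists_alt [Finite G] (h2 : (2 : F) = 0) (hcard : (Nat.card G : F) ≠ 0) (n : ℕ) :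
    ∀ (V : Type u) [AddCommGroup V] [Module F V] [FiniteDimensional F V]
      (ρ : Representation F G V) (B : LinearMap.BilinForm F V),
      Module.finrank F V = n →
      (∀ v, (∀ v', B v' v = 0) → v = 0) →
      (∀ g x y, B (ρ g x) (ρ g y) = B x y) →
      (∀ v, (∀ g, ρ g v = v) → v = 0) →
      ∃ A : LinearMap.BilinForm F V, (∀ v, A v v = 0) ∧
        (∀ g v v', A (ρ g v) (ρ g v') = A v v') ∧ (∀ v, (∀ v', A v v' = 0) → v = 0) := by
  induction n using Nat.strong_induction_on with
  | _ n ih =>
  intro V _ _ _ ρ B hn hrs hinv hfix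
  classical
  haveI := Fintype.ofFinite G
  have hcard' : (Fintype.card G : F) ≠ 0 := by rwa [← Nat.card_eq_fintype_card]
  have hnd : B.Nondegenerate := LinearMap.BilinForm.Nondegenerate.ofSeparatingRight hrs
  have hls : ∀ v, (∀ v', B v v' = 0) → v = 0 := hnd.1
  have hneg : ∀ a : F, -a = a := by
    intro a
    have : a + a = 0 := by rw [← two_mul, h2, zero_mul]
    linear_combination -this
  -- the subspace of symmetric vectors
  have hR : ∀ x, x ∈ LinearMap.ker (B - B.flip) ↔ ∀ y, B x y = B y x := by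
    intro x
    rw [LinearMap.mem_ker]
    constructor
    · intro h y
      have := LinearMap.congr_fun h y
      simpa [sub_eq_zero] using this
    · intro h
      ext y
      simp [h y]
  have hRinv : ∀ g, ∀ x ∈ LinearMap.ker (B - B.flip), ρ g x ∈ LinearMap.ker (B - B.flip) := by
    intro g x hx
    rw [hR] at hx ⊢
    intro y
    have h1 := hinv g x (ρ g⁻¹ y)
    have h3 := hinv g (ρ g⁻¹ y) x
    rw [Representation.self_inv_apply] at h1 h3
    rw [h1, h3, hx]
  by_cases hRbot : LinearMap.ker (B - B.flip) = ⊥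
  · refine ⟨B + B.flip, ?_, ?_, ?_⟩
    · intro v
      simp only [LinearMap.add_apply, LinearMap.BilinForm.flip_apply]
      rw [← two_mul, h2, zero_mul]
    · intro g v v'
      simp only [LinearMap.add_apply, LinearMap.BilinForm.flip_apply, hinv]
    · intro v hv
      have : v ∈ LinearMap.ker (B - B.flip) := by
        rw [hR]
        intro y
        have := hv y
        simp only [LinearMap.add_apply, LinearMap.BilinForm.flip_apply] at this
        rw [← hneg (B y v)]
        linear_combination this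
      rw [hRbot] at this
      simpa using this
  · have key : ∃ X : Submodule F V, X ≠ ⊥ ∧ (∀ g, ∀ x ∈ X, ρ g x ∈ X) ∧
        (∀ x ∈ X, (∀ x' ∈ X, B x' x = 0) → x = 0) ∧ ∃ A₁ : LinearMap.BilinForm F V,
          IsGood ρ X A₁ := by
      by_cases hR₀ : LinearMap.ker (B - B.flip) ⊓ rperp B (LinearMap.ker (B - B.flip)) = ⊥
      · refine ⟨LinearMap.ker (B - B.flip), hRbot, hRinv, ?_, B, ?_, ?_, ?_⟩
        · intro x hx h
          have : x ∈ LinearMap.ker (B - B.flip) ⊓ rperp B (LinearMap.ker (B - B.flip)) :=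
            ⟨hx, h⟩
          rw [hR₀] at this
          simpa using this
        · exact alt_of_symm ρ B h2 hcard' hinv hfix _ hRinv (fun x hx => (hR x).mp hx)
        · intro g x _ x' _
          exact hinv g x x'
        · intro x hx h
          have : x ∈ LinearMap.ker (B - B.flip) ⊓ rperp B (LinearMap.ker (B - B.flip)) :=
            ⟨hx, fun x' hx' => by rw [← (hR x).mp hx x']; exact h x' hx'⟩
          rw [hR₀] at this
          simpa using this
      · refine hyperbolic_piece h2 hcard ρ B hrs hls hinv _ hR₀ ?_ ?_ ?_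
        · intro g x hx
          exact ⟨hRinv g x hx.1, rperp_invariant ρ B hinv _ hRinv g x hx.2⟩
        · intro x hx
          exact (hR x).mp hx.1
        · intro x hx y hy
          exact hy.2 x hx.1
    obtain ⟨X, hXne, hXinv, hXsep, A₁, hA₁⟩ := key
    have hc := isCompl_rperp B X hXsep
    have hYinv := rperp_invariant ρ B hinv X hXinv
    have hYsep := rsep_rperp B X hrs hc.sup_eq_top
    have hlt : Module.finrank F (rperp B X) < n := by
      have h1 := Submodule.finrank_add_eq_of_isCompl hc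
      have hXpos : 0 < Module.finrank F X := by
        rw [Module.finrank_pos_iff]
        exact (Submodule.nontrivial_iff_ne_bot).mpr hXne
      omega
    obtain ⟨AY, hAY1, hAY2, hAY3⟩ := ih _ hlt (rperp B X) (subRep ρ _ hYinv)
      (B.restrict (rperp B X)) rfl
      (by
        intro y hy
        have : (y : V) = 0 := hYsep y y.2 (fun y' hy' => by
          have := hy ⟨y', hy'⟩
          simpa using this)
        exact Subtype.ext this)
      (by
        intro g x y
        simp only [LinearMap.BilinForm.restrict_apply, LinearMap.domRestrict_apply, subRep_apply]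
        exact hinv g x y)
      (by
        intro y hy
        have : (y : V) = 0 := hfix y (fun g => by
          have := congrArg Subtype.val (hy g)
          rwa [subRep_apply] at this)
        exact Subtype.ext this)
    obtain ⟨A₂, -, hA₂⟩ := lift_form ρ X (rperp B X) hc hYinv AY hAY1 hAY2 hAY3
    exact glue ρ X (rperp B X) hc hXinv hYinv A₁ A₂ hA₁ hA₂

end Cfsg.Agent.Lead.SelfDual
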