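import Mathlib
import Cfsg.Agent.Lead.SelfDualC

set_option autoImplicit false

/-! Self-dual modules: odd characteristic via the Fitting decomposition of the asymmetry. -/

namespace Cfsg.Agent.Lead.SelfDual

variable {F : Type*} [Field F] {G : Type*} [Group G]

theorem case_odd (h2 : (2 : F) ≠ 0) {V : Type*} [AddCommGroup V] [Module F V]
    [FiniteDimensional F V] (ρ : Representation F G V) (B : LinearMap.BilinForm F V)
    (hB : B.Nondegenerate) (hBinv : ∀ g x y, B (ρ g x) (ρ g y) = B x y) :
    ∃ U W : Submodule F V, IsCompl U W ∧ (∀ g, ∀ u ∈ U, ρ g u ∈ U) ∧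
      (∀ g, ∀ w ∈ W, ρ g w ∈ W) ∧
      (∃ A : LinearMap.BilinForm F V, (∀ x, A x x = 0) ∧
        (∀ g, ∀ x ∈ U, ∀ y ∈ U, A (ρ g x) (ρ g y) = A x y) ∧
        (∀ x ∈ U, (∀ y ∈ U, A x y = 0) → x = 0)) ∧
      (∃ S : LinearMap.BilinForm F V, (∀ x y, S x y = S y x) ∧
        (∀ g, ∀ x ∈ W, ∀ y ∈ W, S (ρ g x) (ρ g y) = S x y) ∧
        (∀ x ∈ W, (∀ y ∈ W, S x y = 0) → x = 0)) := by
  obtain ⟨T, hT⟩ : ∃ T : Module.End F V, ∀ x y, B y (T x) = B x y :=
    ⟨B.symmCompOfNondegenerate B.flip hB.flip, fun x y => by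
      have := LinearMap.BilinForm.symmCompOfNondegenerate_left_apply B hB.flip y x
      rw [LinearMap.BilinForm.flip_apply] at this
      exact this⟩
  have hTT : ∀ x y, B (T x) (T y) = B x y := fun x y => by rw [hT y (T x), hT x y]
  have hTρ : ∀ g x, T (ρ g x) = ρ g (T x) := by
    intro g x
    have : T (ρ g x) - ρ g (T x) = 0 := hB.2 _ (fun y => by
      rw [map_sub, hT, sub_eq_zero]
      have h1 := hBinv g (ρ g⁻¹ y) (T x)
      rw [Representation.self_inv_apply] at h1
      rw [h1, hT, ← hBinv g x (ρ g⁻¹ y), Representation.self_inv_apply])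
    exact sub_eq_zero.mp this
  have hTinj : Function.Injective T := by
    rw [← LinearMap.ker_eq_bot, LinearMap.ker_eq_bot']
    intro x hx
    apply hB.1
    intro y
    rw [← hT x y, hx, map_zero]
  have hTsurj : Function.Surjective T := LinearMap.injective_iff_surjective.mp hTinj
  obtain ⟨D, hD⟩ : ∃ D : Module.End F V, D = T - 1 := ⟨_, rfl⟩
  have hDx : ∀ x, D x = T x - x := by
    intro x
    rw [hD, LinearMap.sub_apply, Module.End.one_apply]
  obtain ⟨N, hN1, hN⟩ : ∃ N, 1 ≤ N ∧
      IsCompl (LinearMap.ker (D ^ N)) (LinearMap.range (D ^ N)) :=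
    ((Filter.eventually_ge_atTop 1).and
      (LinearMap.eventually_isCompl_ker_pow_range_pow D)).exists
  have hDρ : ∀ g x, D (ρ g x) = ρ g (D x) := by
    intro g x
    rw [hDx, hDx, hTρ, map_sub]
  have hDnρ : ∀ n g x, (D ^ n) (ρ g x) = ρ g ((D ^ n) x) := by
    intro n
    induction n with
    | zero => intro g x; simp
    | succ n ih =>
      intro g x
      rw [pow_succ', Module.End.mul_apply, Module.End.mul_apply, ih, hDρ]
  have hTD : ∀ x, T (D x) = D (T x) := by
    intro x
    rw [hDx, hDx, map_sub]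
  have hTDn : ∀ n x, T ((D ^ n) x) = (D ^ n) (T x) := by
    intro n
    induction n with
    | zero => intro x; simp
    | succ n ih =>
      intro x
      rw [pow_succ', Module.End.mul_apply, Module.End.mul_apply, hTD, ih]
  have hkey : ∀ x y, B (D x) (T y) = - B x (D y) := by
    intro x y
    rw [hDx, hDx, map_sub, LinearMap.sub_apply, hTT, map_sub]
    ring
  -- orthogonality
  have horth1 : ∀ n x y, (D ^ n) y = 0 → B ((D ^ n) x) y = 0 := by
    intro n
    induction n with
    | zero =>
      intro x y hy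
      have : y = 0 := by simpa using hy
      rw [this, map_zero]
    | succ n ih =>
      intro x y hy
      obtain ⟨y', rfl⟩ := hTsurj y
      have hy' : (D ^ (n + 1)) y' = 0 := by
        apply hTinj
        rw [hTDn, hy, map_zero]
      rw [pow_succ', Module.End.mul_apply, hkey, neg_eq_zero]
      apply ih
      rw [← Module.End.mul_apply, ← pow_succ]
      exact hy'
  have horth2 : ∀ n x y, (D ^ n) y = 0 → B y ((D ^ n) x) = 0 := by
    intro n x y hy
    rw [← hT y ((D ^ n) x)]
    apply horth1
    rw [← hTDn, hy, map_zero]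
  have hdecomp : ∀ v : V, ∃ k, (D ^ N) k = 0 ∧ ∃ r, v = k + (D ^ N) r := by
    intro v
    have hv : v ∈ LinearMap.ker (D ^ N) ⊔ LinearMap.range (D ^ N) := by
      rw [hN.sup_eq_top]; trivial
    obtain ⟨k, hk, r, ⟨r', rfl⟩, rfl⟩ := Submodule.mem_sup.mp hv
    exact ⟨k, LinearMap.mem_ker.mp hk, r', rfl⟩
  -- D is surjective on the range
  have hDsurj : ∀ r, ∃ r', D ((D ^ N) r') = (D ^ N) r := by
    have hRinv : ∀ v ∈ LinearMap.range (D ^ N), D v ∈ LinearMap.range (D ^ N) := by
      rintro _ ⟨v, rfl⟩
      refine ⟨D v, ?_⟩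
      rw [← Module.End.mul_apply, ← pow_succ, pow_succ', Module.End.mul_apply]
    have hinj : Function.Injective (D.restrict hRinv) := by
      rw [← LinearMap.ker_eq_bot, LinearMap.ker_eq_bot']
      intro r hr
      have hr' : D (r : V) = 0 := by
        have := congrArg Subtype.val hr
        simpa using this
      have hgen : ∀ v : V, D v = 0 → (D ^ N) v = 0 := by
        intro v hv
        have hpow : D ^ N = D ^ (N - 1) * D := by
          rw [← pow_succ]
          congr 1
          omega
        rw [hpow, Module.End.mul_apply, hv, map_zero]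
      have hrK : (r : V) ∈ LinearMap.ker (D ^ N) := by
        rw [LinearMap.mem_ker]
        exact hgen _ hr'
      have : (r : V) ∈ LinearMap.ker (D ^ N) ⊓ LinearMap.range (D ^ N) := ⟨hrK, r.2⟩
      rw [hN.inf_eq_bot] at this
      exact Subtype.ext (by simpa using this)
    have hsurj : Function.Surjective (D.restrict hRinv) :=
      LinearMap.injective_iff_surjective.mp hinj
    intro r
    obtain ⟨⟨r₁, ⟨r', rfl⟩⟩, hr₁⟩ := hsurj ⟨(D ^ N) r, LinearMap.mem_range_self _ r⟩
    refine ⟨r', ?_⟩
    have := congrArg Subtype.val hr₁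
    simpa using this
  -- T + 1 is surjective on the kernel
  have hEsurj : ∀ k, (D ^ N) k = 0 → ∃ k', (D ^ N) k' = 0 ∧ T k' + k' = k := by
    have hKinv : ∀ v ∈ LinearMap.ker (D ^ N), (T + 1) v ∈ LinearMap.ker (D ^ N) := by
      intro v hv
      rw [LinearMap.mem_ker] at hv ⊢
      rw [LinearMap.add_apply, Module.End.one_apply, map_add, ← hTDn, hv, map_zero, add_zero]
    have hinj : Function.Injective ((T + 1 : Module.End F V).restrict hKinv) := by
      rw [← LinearMap.ker_eq_bot, LinearMap.ker_eq_bot']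
      intro k hk
      have hk' : T (k : V) + k = 0 := by
        have := congrArg Subtype.val hk
        simpa using this
      have hDk : D (k : V) = (-2 : F) • (k : V) := by
        rw [hDx]
        have : T (k : V) = - (k : V) := eq_neg_of_add_eq_zero_left hk'
        rw [this]
        module
      have hDnk : ∀ n, (D ^ n) (k : V) = ((-2 : F) ^ n) • (k : V) := by
        intro n
        induction n with
        | zero => simp
        | succ n ih =>
          rw [pow_succ, Module.End.mul_apply, hDk, map_smul, ih, smul_smul, pow_succ']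
      have h0 : ((-2 : F) ^ N) • (k : V) = 0 := by
        rw [← hDnk N]
        exact LinearMap.mem_ker.mp k.2
      have hne : ((-2 : F) ^ N) ≠ 0 := pow_ne_zero _ (neg_ne_zero.mpr h2)
      exact Subtype.ext ((smul_eq_zero.mp h0).resolve_left hne)
    have hsurj : Function.Surjective ((T + 1 : Module.End F V).restrict hKinv) :=
      LinearMap.injective_iff_surjective.mp hinj
    intro k hk
    obtain ⟨⟨k', hk'⟩, hk₁⟩ := hsurj ⟨k, LinearMap.mem_ker.mpr hk⟩
    refine ⟨k', LinearMap.mem_ker.mp hk', ?_⟩
    have := congrArg Subtype.val hk₁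
    simpa using this
  refine ⟨LinearMap.range (D ^ N), LinearMap.ker (D ^ N), hN.symm, ?_, ?_, ?_, ?_⟩
  · rintro g _ ⟨v, rfl⟩
    exact ⟨ρ g v, hDnρ N g v⟩
  · intro g w hw
    rw [LinearMap.mem_ker] at hw ⊢
    rw [hDnρ, hw, map_zero]
  · refine ⟨B - B.flip, ?_, ?_, ?_⟩
    · intro x
      simp
    · intro g x _ y _
      simp [hBinv]
    · rintro _ ⟨x, rfl⟩ hx
      apply hB.1
      intro v
      obtain ⟨k, hk, r, rfl⟩ := hdecomp v
      rw [map_add, horth1 N x k hk, zero_add]
      obtain ⟨r', hr'⟩ := hDsurj r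
      rw [← hr', hDx, map_sub, hT]
      have := hx _ (LinearMap.mem_range_self (D ^ N) r')
      simp only [LinearMap.sub_apply, LinearMap.BilinForm.flip_apply] at this
      linear_combination -this
  · refine ⟨B + B.flip, ?_, ?_, ?_⟩
    · intro x y
      simp [add_comm]
    · intro g x _ y _
      simp [hBinv]
    · intro x hx hx0
      rw [LinearMap.mem_ker] at hx
      apply hB.1
      intro v
      obtain ⟨k, hk, r, rfl⟩ := hdecomp v
      rw [map_add, horth2 N r x hx, add_zero]
      obtain ⟨k', hk', rfl⟩ := hEsurj k hk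
      rw [map_add, hT]
      have := hx0 k' (LinearMap.mem_ker.mpr hk')
      simp only [LinearMap.add_apply, LinearMap.BilinForm.flip_apply] at this
      linear_combination this

end Cfsg.Agent.Lead.SelfDual
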