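import Mathlib
import Cfsg.Agent.Lead.SelfDualD

set_option autoImplicit false

/-! Self-dual modules: characteristic two. -/

namespace Cfsg.Agent.Lead.SelfDual

variable {F : Type*} [Field F] {G : Type*} [Group G]

/-- Every finite-dimensional space carries a symmetric form which is separating on a given
complemented subspace and factors through the projection onto it. -/
lemma exists_symm_form {V : Type*} [AddCommGroup V] [Module F V] [FiniteDimensional F V]
    (W U : Submodule F V) (hc : IsCompl W U) :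
    ∃ S : LinearMap.BilinForm F V, (∀ x y, S x y = S y x) ∧
      (∀ x ∈ W, (∀ y ∈ W, S x y = 0) → x = 0) := by
  classical
  obtain ⟨b⟩ : Nonempty (Module.Basis (Fin (Module.finrank F W)) F W) := ⟨Module.finBasis F W⟩
  have hS : ∀ x y : V, (∑ i, LinearMap.BilinForm.linMulLin
      ((b.coord i) ∘ₗ (W.projectionOnto U hc)) ((b.coord i) ∘ₗ (W.projectionOnto U hc))) x y
      = ∑ i, b.repr (W.projectionOnto U hc x) i * b.repr (W.projectionOnto U hc y) i := by
    intro x y
    rw [LinearMap.sum_apply, LinearMap.sum_apply]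
    rfl
  refine ⟨∑ i, LinearMap.BilinForm.linMulLin ((b.coord i) ∘ₗ (W.projectionOnto U hc))
    ((b.coord i) ∘ₗ (W.projectionOnto U hc)), ?_, ?_⟩
  · intro x y
    rw [hS, hS]
    exact Finset.sum_congr rfl (fun i _ => mul_comm _ _)
  · intro x hx h
    have hcoord : ∀ j, b.repr (W.projectionOnto U hc x) j = 0 := by
      intro j
      have := h (b j) (b j).2
      rw [hS, Submodule.projectionOnto_apply_left hc (b j)] at this
      simpa [Module.Basis.repr_self, Finsupp.single_apply] using this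
    have h0 : W.projectionOnto U hc x = 0 := by
      apply b.repr.injective
      ext j
      rw [hcoord j]
      simp
    rw [Submodule.projectionOnto_apply_of_mem_left hc hx] at h0
    exact congrArg Subtype.val h0

theorem case_two [Finite G] (h2 : (2 : F) = 0) (hcard : (Nat.card G : F) ≠ 0)
    {V : Type*} [AddCommGroup V] [Module F V] [FiniteDimensional F V]
    (ρ : Representation F G V) (B : LinearMap.BilinForm F V) (hB : B.Nondegenerate)
    (hBinv : ∀ g x y, B (ρ g x) (ρ g y) = B x y) :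
    ∃ U W : Submodule F V, IsCompl U W ∧ (∀ g, ∀ u ∈ U, ρ g u ∈ U) ∧
      (∀ g, ∀ w ∈ W, ρ g w ∈ W) ∧
      (∃ A : LinearMap.BilinForm F V, (∀ x, A x x = 0) ∧
        (∀ g, ∀ x ∈ U, ∀ y ∈ U, A (ρ g x) (ρ g y) = A x y) ∧
        (∀ x ∈ U, (∀ y ∈ U, A x y = 0) → x = 0)) ∧
      (∃ S : LinearMap.BilinForm F V, (∀ x y, S x y = S y x) ∧
        (∀ g, ∀ x ∈ W, ∀ y ∈ W, S (ρ g x) (ρ g y) = S x y) ∧
        (∀ x ∈ W, (∀ y ∈ W, S x y = 0) → x = 0)) ∧
      (∀ g, ∀ w ∈ W, ρ g w = w) := by
  classical
  haveI := Fintype.ofFinite G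
  have hcard' : (Fintype.card G : F) ≠ 0 := by rwa [← Nat.card_eq_fintype_card]
  have hWfix : ∀ g, ∀ w ∈ ρ.invariants, ρ g w = w := fun g w hw =>
    (Representation.mem_invariants ρ w).mp hw g
  have hWinv : ∀ g, ∀ w ∈ ρ.invariants, ρ g w ∈ ρ.invariants := fun g w hw => by
    rw [hWfix g w hw]; exact hw
  obtain ⟨U, hWU, hUinv⟩ := exists_invariant_compl ρ hcard ρ.invariants hWinv
  have hsum0 : ∀ u ∈ U, ∑ g : G, ρ g u = 0 := by
    intro u hu
    have h1 : ∑ g : G, ρ g u ∈ U := Submodule.sum_mem _ (fun g _ => hUinv g u hu)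
    have h3 : ∑ g : G, ρ g u ∈ ρ.invariants :=
      (Representation.mem_invariants ρ _).mpr (fun h => sum_fixed ρ u h)
    have : ∑ g : G, ρ g u ∈ ρ.invariants ⊓ U := ⟨h3, h1⟩
    rw [hWU.inf_eq_bot] at this
    simpa using this
  have hperp : ∀ w ∈ ρ.invariants, ∀ u ∈ U, B w u = 0 := by
    intro w hw u hu
    have h1 : ∑ g : G, B (ρ g w) (ρ g u) = (Fintype.card G : F) * B w u := by
      simp only [hBinv, Finset.sum_const, Finset.card_univ, nsmul_eq_mul]
    have h3 : ∑ g : G, B (ρ g w) (ρ g u) = B w (∑ g : G, ρ g u) := by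
      rw [map_sum]
      exact Finset.sum_congr rfl (fun g _ => by rw [hWfix g w hw])
    rw [h3, hsum0 u hu, map_zero] at h1
    rcases mul_eq_zero.mp h1.symm with h | h
    · exact absurd h hcard'
    · exact h
  have hUsep : ∀ u ∈ U, (∀ u' ∈ U, B u' u = 0) → u = 0 := by
    intro u hu h
    apply hB.2
    intro v
    have hv : v ∈ ρ.invariants ⊔ U := by rw [hWU.sup_eq_top]; trivial
    obtain ⟨w, hw, u', hu', rfl⟩ := Submodule.mem_sup.mp hv
    rw [map_add, LinearMap.add_apply, hperp w hw u hu, h u' hu', add_zero]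
  obtain ⟨AU, hAU1, hAU2, hAU3⟩ := exists_alt h2 hcard (Module.finrank F U) U
    (subRep ρ U hUinv) (B.restrict U) rfl
    (by
      intro y hy
      have : (y : V) = 0 := hUsep y y.2 (fun y' hy' => by
        have := hy ⟨y', hy'⟩
        simpa using this)
      exact Subtype.ext this)
    (by
      intro g x y
      simp only [LinearMap.BilinForm.restrict_apply, LinearMap.domRestrict_apply, subRep_apply]
      exact hBinv g x y)
    (by
      intro y hy
      have hfix : (y : V) ∈ ρ.invariants := (Representation.mem_invariants ρ _).mpr (fun g => by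
        have := congrArg Subtype.val (hy g)
        rwa [subRep_apply] at this)
      have : (y : V) ∈ ρ.invariants ⊓ U := ⟨hfix, y.2⟩
      rw [hWU.inf_eq_bot] at this
      exact Subtype.ext (by simpa using this))
  obtain ⟨A, hA1, hA2⟩ := lift_form ρ ρ.invariants U hWU hUinv AU hAU1 hAU2 hAU3
  obtain ⟨S, hS1, hS2⟩ := exists_symm_form ρ.invariants U hWU
  refine ⟨U, ρ.invariants, hWU.symm, hUinv, hWinv, ⟨A, hA1, hA2.2.1, hA2.2.2⟩,
    ⟨S, hS1, ?_, hS2⟩, hWfix⟩
  intro g x hx y hy
  rw [hWfix g x hx, hWfix g y hy]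

end Cfsg.Agent.Lead.SelfDual
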