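import Mathlib
import Cfsg.Agent.Lead.KInfO

set_option autoImplicit false

open scoped commutatorElement

namespace Cfsg.Agent.Lead.KInf

/-- A finite group all of whose Sylow subgroups are self-normalizing is not non-abelian simple. -/
theorem not_simple_of_selfNormalizing {G : Type*} [Group G] [Finite G]
    (h : ∀ p : ℕ, p.Prime → p ∣ Nat.card G → ∀ P : Sylow p G,
      Subgroup.normalizer ((P : Subgroup G) : Set G) = P) :
    ¬ (IsSimpleGroup G ∧ ¬ IsMulCommutative G) := by
  rintro ⟨hs, hna⟩
  obtain ⟨q, hq, hG⟩ := prime_power_of_selfNormalizing h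
  have : Fact q.Prime := ⟨hq⟩
  have hnil : Group.IsNilpotent G := hG.isNilpotent
  have hsolv : Group.IsSolvable G := inferInstance
  apply hna
  have hc : ∀ a b : G, a * b = b * a := by
    intro a b
    have hcomm : commutator G = ⊥ := by
      rcases (Subgroup.Normal.eq_bot_or_eq_top (inferInstance : (commutator G).Normal)) with h0 | h1
      · exact h0
      · exfalso
        have hne : Nontrivial G := hs.toNontrivial
        exact (Group.IsSolvable.commutator_lt_top_of_nontrivial G).ne h1
    have hm : ⁅a, b⁆ ∈ commutator G := by
      rw [_root_.commutator_def]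
      exact Subgroup.commutator_mem_commutator (Subgroup.mem_top a) (Subgroup.mem_top b)
    rw [hcomm, Subgroup.mem_bot] at hm
    exact commutatorElement_eq_one_iff_mul_comm.mp hm
  exact ⟨⟨hc⟩⟩

end Cfsg.Agent.Lead.KInf
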