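import Mathlib

set_option autoImplicit false

/-!
Shift-invariant subspaces of the space of functions `ZMod p → K` in characteristic `p`.
-/

namespace Cfsg.Agent.Lead.ShiftInv

open Polynomial Module

section Generic

variable {K : Type*} [Field K] {V : Type*} [AddCommGroup V] [Module K V] [FiniteDimensional K V]

theorem finrank_ker_comp_le (f g : V →ₗ[K] V) :
    finrank K (LinearMap.ker (g ∘ₗ f)) ≤ finrank K (LinearMap.ker f) + finrank K (LinearMap.ker g) := by
  let h : LinearMap.ker (g ∘ₗ f) →ₗ[K] V := f.domRestrict (LinearMap.ker (g ∘ₗ f))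
  have h1 := LinearMap.finrank_range_add_finrank_ker h
  have h2 : finrank K (LinearMap.range h) ≤ finrank K (LinearMap.ker g) := by
    apply Submodule.finrank_mono
    rintro _ ⟨x, rfl⟩
    have := x.2
    rw [LinearMap.mem_ker, LinearMap.comp_apply] at this
    exact this
  have h3 : finrank K (LinearMap.ker h) ≤ finrank K (LinearMap.ker f) := by
    have e := Submodule.equivMapOfInjective (LinearMap.ker (g ∘ₗ f)).subtype
      (LinearMap.ker (g ∘ₗ f)).injective_subtype (LinearMap.ker h)
    rw [e.finrank_eq]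
    apply Submodule.finrank_mono
    rintro _ ⟨x, hx, rfl⟩
    rw [SetLike.mem_coe, LinearMap.mem_ker] at hx
    exact hx
  omega

end Generic

variable {p : ℕ} [hp : Fact p.Prime] {K : Type*} [Field K] [CharP K p]

/-- The shift operator. -/
def shift (p : ℕ) (K : Type*) [Field K] : (ZMod p → K) →ₗ[K] (ZMod p → K) where
  toFun f := fun j => f (j - 1)
  map_add' _ _ := rfl
  map_smul' _ _ := rfl

/-- The difference operator. -/
def N (p : ℕ) (K : Type*) [Field K] : Module.End K (ZMod p → K) := shift p K - 1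

theorem N_apply (f : ZMod p → K) (j : ZMod p) : N p K f j = f (j - 1) - f j := rfl

/-- Evaluation of polynomials on the image of `ZMod p`. -/
def ev (p : ℕ) (K : Type*) [Field K] : K[X] →ₗ[K] (ZMod p → K) where
  toFun P := fun j => P.eval (ZMod.cast j : K)
  map_add' _ _ := by ext; simp
  map_smul' _ _ := by ext; simp

theorem ev_apply (P : K[X]) (j : ZMod p) : ev p K P j = P.eval (ZMod.cast j : K) := rfl

/-- Polynomial functions of degree `< r`. -/
noncomputable def Pr (p : ℕ) (K : Type*) [Field K] (r : ℕ) : Submodule K (ZMod p → K) :=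
  (degreeLT K r).map (ev p K)

theorem mem_Pr {r : ℕ} {f : ZMod p → K} :
    f ∈ Pr p K r ↔ ∃ P : K[X], P.degree < r ∧ ∀ j : ZMod p, f j = P.eval (ZMod.cast j : K) := by
  constructor
  · rintro ⟨P, hP, rfl⟩
    exact ⟨P, mem_degreeLT.1 hP, fun j => rfl⟩
  · rintro ⟨P, hP, hf⟩
    exact ⟨P, mem_degreeLT.2 hP, by ext j; rw [hf j]; rfl⟩

theorem cast_injective : Function.Injective (fun j : ZMod p => (ZMod.cast j : K)) := by
  have := ZMod.castHom_injective (n := p) K
  intro a b hab
  apply this
  simpa using hab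

theorem ev_eq_zero {P : K[X]} (hP : P.degree < p) (h : ev p K P = 0) : P = 0 := by
  haveI : NeZero p := ⟨hp.out.ne_zero⟩
  apply eq_zero_of_degree_lt_of_eval_index_eq_zero
    (v := fun j : ZMod p => (ZMod.cast j : K)) (s := Finset.univ)
  · exact (cast_injective (p := p) (K := K)).injOn
  · rw [Finset.card_univ, ZMod.card]; exact hP
  · intro i _; exact congrFun h i

theorem finrank_Pr {r : ℕ} (hr : r ≤ p) : finrank K (Pr p K r) = r := by
  have h1 : Pr p K r = LinearMap.range ((ev p K).domRestrict (degreeLT K r)) := by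
    rw [LinearMap.range_domRestrict]; rfl
  rw [h1, LinearMap.finrank_range_of_inj, (degreeLTEquiv K r).finrank_eq, Module.finrank_fin_fun]
  rw [← LinearMap.ker_eq_bot, LinearMap.ker_eq_bot']
  intro x hx
  apply Subtype.ext
  apply ev_eq_zero (p := p) _ hx
  exact lt_of_lt_of_le (mem_degreeLT.1 x.2) (by exact_mod_cast hr)

theorem N_ev (P : K[X]) : N p K (ev p K P) = ev p K (P.comp (X - C 1) - P) := by
  ext j
  rw [N_apply, ev_apply, ev_apply, ev_apply, eval_sub, eval_comp, eval_sub, eval_X, eval_C,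
    ZMod.cast_sub (dvd_refl p), ZMod.cast_one (dvd_refl p)]

theorem degree_shift_sub_lt {P : K[X]} {r : ℕ} (hP : P.degree < (r + 1 : ℕ)) :
    (P.comp (X - C 1) - P).degree < r := by
  by_cases h0 : P = 0
  · rw [h0]; simp
  · have hq : natDegree (X - C (1 : K)) = 1 := natDegree_X_sub_C 1
    have hlc : leadingCoeff (P.comp (X - C 1)) = leadingCoeff P := by
      rw [leadingCoeff_comp (by rw [hq]; exact one_ne_zero), leadingCoeff_X_sub_C, one_pow,
        mul_one]
    have hnd : natDegree (P.comp (X - C 1)) = natDegree P := by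
      rw [natDegree_comp, hq, mul_one]
    have hQ0 : P.comp (X - C 1) ≠ 0 := by
      intro h
      rw [h, leadingCoeff_zero] at hlc
      exact h0 (leadingCoeff_eq_zero.1 hlc.symm)
    have hd : degree (P.comp (X - C 1)) = degree P := by
      rw [degree_eq_natDegree hQ0, degree_eq_natDegree h0, hnd]
    have h1 := degree_sub_lt_left hd hQ0 hlc
    rw [hd] at h1
    have h2 : P.degree ≤ r :=
      degree_le_of_natDegree_le (Nat.lt_succ_iff.1 ((natDegree_lt_iff_degree_lt h0).2 hP))
    exact lt_of_lt_of_le h1 h2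

theorem N_mem_Pr {r : ℕ} {f : ZMod p → K} (hf : f ∈ Pr p K (r + 1)) : N p K f ∈ Pr p K r := by
  obtain ⟨P, hP, rfl⟩ := hf
  rw [N_ev]
  exact ⟨_, mem_degreeLT.2 (degree_shift_sub_lt (mem_degreeLT.1 hP)), rfl⟩

theorem N_pow_Pr : ∀ (r : ℕ) (f : ZMod p → K), f ∈ Pr p K r → (N p K ^ r) f = 0 := by
  intro r
  induction r with
  | zero =>
    rintro f ⟨P, hP, rfl⟩
    have : P = 0 := by
      have := mem_degreeLT.1 hP
      rw [Nat.cast_zero] at this
      exact degree_eq_bot.1 (Nat.WithBot.lt_zero_iff.1 this)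
    rw [this]; simp
  | succ r ih =>
    intro f hf
    rw [pow_succ, Module.End.mul_apply]
    exact ih _ (N_mem_Pr hf)

theorem ker_N_le : LinearMap.ker (N p K) ≤ Pr p K 1 := by
  haveI : NeZero p := ⟨hp.out.ne_zero⟩
  intro f hf
  rw [LinearMap.mem_ker] at hf
  have h1 : ∀ j : ZMod p, f (j - 1) = f j := by
    intro j
    have := congrFun hf j
    rw [N_apply, Pi.zero_apply, sub_eq_zero] at this
    exact this
  have h2 : ∀ n : ℕ, f (n : ZMod p) = f 0 := by
    intro n
    induction n with
    | zero => simp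
    | succ n ih =>
      rw [← ih, ← h1 ((n + 1 : ℕ) : ZMod p)]
      congr 1
      push_cast
      ring
  rw [mem_Pr]
  refine ⟨C (f 0), ?_, ?_⟩
  · exact lt_of_le_of_lt degree_C_le (by exact_mod_cast Nat.zero_lt_one)
  · intro j
    rw [eval_C, ← ZMod.natCast_zmod_val j]
    exact h2 _

theorem finrank_ker_N_pow_le : ∀ r : ℕ, finrank K (LinearMap.ker (N p K ^ r)) ≤ r := by
  intro r
  induction r with
  | zero =>
    rw [pow_zero, Module.End.one_eq_id, LinearMap.ker_id, finrank_bot]
  | succ r ih =>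
    rw [pow_succ]
    have h1 := finrank_ker_comp_le (N p K) (N p K ^ r)
    have h2 : finrank K (LinearMap.ker (N p K)) ≤ 1 := by
      have := Submodule.finrank_mono (ker_N_le (p := p) (K := K))
      rwa [finrank_Pr (by exact hp.out.one_lt.le)] at this
    have h3 : N p K ^ r * N p K = (N p K ^ r) ∘ₗ N p K := rfl
    rw [h3]
    omega

theorem ker_N_pow_eq {r : ℕ} (hr : r ≤ p) : LinearMap.ker (N p K ^ r) = Pr p K r := by
  symm
  apply Submodule.eq_of_le_of_finrank_le
  · intro f hf
    rw [LinearMap.mem_ker]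
    exact N_pow_Pr r f hf
  · rw [finrank_Pr hr]
    exact finrank_ker_N_pow_le r

theorem Pr_top : Pr p K p = ⊤ := by
  haveI : NeZero p := ⟨hp.out.ne_zero⟩
  apply Submodule.eq_top_of_finrank_eq
  rw [finrank_Pr le_rfl, Module.finrank_fintype_fun_eq_card, ZMod.card]

theorem N_pow_p : N p K ^ p = 0 := by
  apply LinearMap.ext
  intro f
  exact N_pow_Pr p f (by rw [Pr_top]; trivial)

theorem main (W : Submodule K (ZMod p → K)) (hW : ∀ f ∈ W, (fun j => f (j - 1)) ∈ W) :
    ∃ r : ℕ, r ≤ p ∧ Module.finrank K W = r ∧ ∀ f : ZMod p → K, f ∈ W ↔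
      ∃ P : Polynomial K, P.degree < r ∧ ∀ j : ZMod p, f j = P.eval (ZMod.cast j : K) := by
  haveI : NeZero p := ⟨hp.out.ne_zero⟩
  have hW' : ∀ f ∈ W, N p K f ∈ W := by
    intro f hf
    have : N p K f = (fun j => f (j - 1)) - f := rfl
    rw [this]
    exact W.sub_mem (hW f hf) hf
  set r := finrank K W with hr
  have hrp : r ≤ p := by
    have := Submodule.finrank_le W
    rwa [Module.finrank_fintype_fun_eq_card, ZMod.card] at this
  -- nilpotency on W
  have hnil : ∀ w ∈ W, (N p K ^ r) w = 0 := by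
    intro w hw
    have h1 : ((N p K).restrict hW') ^ p = 0 := by
      apply LinearMap.ext
      intro x
      apply Subtype.ext
      rw [Module.End.pow_restrict p hW', LinearMap.coe_restrict_apply, N_pow_p]
      rfl
    have h2 := Module.End.ker_pow_le_ker_pow_finrank ((N p K).restrict hW') p
    rw [h1, LinearMap.ker_zero, top_le_iff, ← hr] at h2
    have h3 : (((N p K).restrict hW') ^ r) ⟨w, hw⟩ = 0 := by
      rw [← LinearMap.mem_ker, h2]; trivial
    rw [Module.End.pow_restrict] at h3
    have h4 := congrArg Subtype.val h3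
    simpa using h4
  have hle : W ≤ Pr p K r := by
    rw [← ker_N_pow_eq hrp]
    intro w hw
    rw [LinearMap.mem_ker]
    exact hnil w hw
  have heq : W = Pr p K r := by
    apply Submodule.eq_of_le_of_finrank_le hle
    rw [finrank_Pr hrp]
  refine ⟨r, hrp, rfl, fun f => ?_⟩
  rw [← mem_Pr]
  constructor
  · intro h; rw [← heq]; exact h
  · intro h; rw [heq]; exact h

end Cfsg.Agent.Lead.ShiftInv
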