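import Mathlib
import Cfsg.Agent.Lead.SimpleCritF

set_option autoImplicit false

/-!
The simplicity criterion passes to the quotient by a central subgroup `Z ≤ S`, provided the
hypotheses are formulated modulo `Z`.
-/

namespace Cfsg.Agent.Lead.SimpCrit

open Cfsg Cfsg.FusionSystem Cfsg.Agent.Lead

variable {G : Type*} [Group G]

/-- the criterion for the quotient by a central subgroup contained in `S` -/
theorem critC_quotient_central {p : ℕ} [Fact p.Prime] {S : Subgroup G}
    (Z : Subgroup G) [Z.Normal] (hZS : Z ≤ S)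
    (ha : ∀ T : Subgroup G, Z ≤ T → T ≤ S →
      (∀ x ∈ T, ∀ g : G, g * x * g⁻¹ ∈ S → g * x * g⁻¹ ∈ T) → T = Z ∨ T = S)
    (hb : Subgroup.normalizer (S : Set G) ≤
      Subgroup.closure {m : G | m ∈ Subgroup.normalizer (S : Set G) ∧
        ∃ R : Subgroup G, Z ≤ R ∧ R ≤ S ∧ S ≤ Subgroup.normalizer (R : Set G) ∧
          (∀ s ∈ S, (∀ r ∈ R, s * r * s⁻¹ * r⁻¹ ∈ Z) → s ∈ R) ∧
          m ∈ Subgroup.closure {g : G | g ∈ Subgroup.normalizer (R : Set G) ∧
            ∃ k : ℕ, orderOf g = p ^ k}}) :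
    CritC p (S.map (QuotientGroup.mk' Z)) := by
  have hp : p.Prime := Fact.out
  set π := QuotientGroup.mk' Z with hπ
  have hker : ∀ x : G, π x = 1 → x ∈ Z := by
    intro x hx
    rwa [hπ, QuotientGroup.mk'_apply, QuotientGroup.eq_one_iff] at hx
  have hkerZ : ∀ x ∈ Z, π x = 1 := by
    intro x hx
    rwa [hπ, QuotientGroup.mk'_apply, QuotientGroup.eq_one_iff]
  -- lifting membership in the image of a subgroup containing `Z`
  have hlift : ∀ H : Subgroup G, Z ≤ H → ∀ x : G, π x ∈ H.map π → x ∈ H := by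
    rintro H hZH x ⟨s, hs, hsx⟩
    have hz : s⁻¹ * x ∈ Z := by
      apply hker
      rw [map_mul, map_inv, hsx, inv_mul_cancel]
    have : x = s * (s⁻¹ * x) := by group
    rw [this]
    exact H.mul_mem hs (hZH hz)
  -- normalizers map into normalizers
  have hnorm : ∀ (H : Subgroup G) (g : G), g ∈ Subgroup.normalizer (H : Set G) →
      π g ∈ Subgroup.normalizer ((H.map π : Subgroup (G ⧸ Z)) : Set (G ⧸ Z)) := by
    intro H g hg
    have h1 : (Subgroup.normalizer (H : Set G)).map π ≤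
        Subgroup.normalizer ((H.map π : Subgroup (G ⧸ Z)) : Set (G ⧸ Z)) :=
      Subgroup.le_normalizer_map π
    exact h1 ⟨g, hg, rfl⟩
  refine ⟨?_, ?_⟩
  · -- strongly closed subgroups
    intro Tb hTb hcl
    set T := S ⊓ Tb.comap π with hT
    have hTS : T ≤ S := inf_le_left
    have hZT : Z ≤ T := by
      intro x hx
      refine ⟨hZS hx, ?_⟩
      show π x ∈ Tb
      rw [hkerZ x hx]
      exact Tb.one_mem
    have hTcl : ∀ x ∈ T, ∀ g : G, g * x * g⁻¹ ∈ S → g * x * g⁻¹ ∈ T := by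
      intro x hx g hg
      refine ⟨hg, ?_⟩
      show π (g * x * g⁻¹) ∈ Tb
      have h1 := hcl (π x) hx.2 (π g) (by
        rw [← map_inv, ← map_mul, ← map_mul]
        exact ⟨_, hg, rfl⟩)
      rwa [← map_inv, ← map_mul, ← map_mul] at h1
    have hTb_eq : Tb = T.map π := by
      apply le_antisymm
      · intro t ht
        obtain ⟨s, hs, rfl⟩ := hTb ht
        exact ⟨s, ⟨hs, ht⟩, rfl⟩
      · rintro _ ⟨s, hs, rfl⟩
        exact hs.2
    rcases ha T hZT hTS hTcl with h1 | h1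
    · left
      rw [hTb_eq, h1, eq_bot_iff]
      rintro _ ⟨z, hz, rfl⟩
      rw [Subgroup.mem_bot]
      exact hkerZ z hz
    · right
      rw [hTb_eq, h1]
  · -- the normaliser
    intro nb hnb
    obtain ⟨n, rfl⟩ := QuotientGroup.mk'_surjective Z nb
    have hnN : n ∈ Subgroup.normalizer (S : Set G) := by
      rw [Subgroup.mem_normalizer_iff]
      intro s
      have h1 := Subgroup.mem_normalizer_iff.mp hnb (π s)
      constructor
      · intro hs
        apply hlift S hZS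
        rw [map_mul, map_mul, map_inv]
        exact h1.mp ⟨s, hs, rfl⟩
      · intro hs
        apply hlift S hZS
        apply h1.mpr
        rw [← map_inv, ← map_mul, ← map_mul]
        exact ⟨_, hs, rfl⟩
    have h1 := hb hnN
    have h2 : π n ∈ (Subgroup.closure {m : G | m ∈ Subgroup.normalizer (S : Set G) ∧
        ∃ R : Subgroup G, Z ≤ R ∧ R ≤ S ∧ S ≤ Subgroup.normalizer (R : Set G) ∧
          (∀ s ∈ S, (∀ r ∈ R, s * r * s⁻¹ * r⁻¹ ∈ Z) → s ∈ R) ∧
          m ∈ Subgroup.closure {g : G | g ∈ Subgroup.normalizer (R : Set G) ∧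
            ∃ k : ℕ, orderOf g = p ^ k}}).map π := ⟨n, h1, rfl⟩
    rw [MonoidHom.map_closure] at h2
    apply Subgroup.mem_sup_right
    refine Subgroup.closure_mono ?_ h2
    rintro _ ⟨m, ⟨hmN, R, hZR, hRS, hSR, hC, hm⟩, rfl⟩
    refine ⟨hnorm S m hmN, R.map π, Subgroup.map_mono hRS, ?_, ?_, ?_⟩
    · rintro _ ⟨s, hs, rfl⟩
      exact hnorm R s (hSR hs)
    · rintro _ ⟨⟨s, hs, rfl⟩, hxC⟩
      refine ⟨s, ?_, rfl⟩
      apply hC s hs
      intro r hr
      apply hker
      have h3 := Subgroup.mem_centralizer_iff.mp hxC (π r) ⟨r, hr, rfl⟩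
      rw [map_mul, map_mul, map_mul, map_inv, map_inv, ← h3]
      group
    · have h3 : π m ∈ (Subgroup.closure {g : G | g ∈ Subgroup.normalizer (R : Set G) ∧
          ∃ k : ℕ, orderOf g = p ^ k}).map π := ⟨m, hm, rfl⟩
      rw [MonoidHom.map_closure] at h3
      refine Subgroup.closure_mono ?_ h3
      rintro _ ⟨g, ⟨hgN, k, hk⟩, rfl⟩
      refine ⟨hnorm R g hgN, ?_⟩
      have h4 : orderOf (π g) ∣ p ^ k := by
        rw [← hk]
        exact orderOf_map_dvd π g
      obtain ⟨k', -, hk'⟩ := (Nat.dvd_prime_pow hp).mp h4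
      exact ⟨k', hk'⟩

end Cfsg.Agent.Lead.SimpCrit
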