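import Mathlib
import Cfsg.Agent.Lead.OmegaTwoAut
import Cfsg.Agent.Helper1.OmegaOddAut
import Cfsg.Agent.Helper1.CritAut
import Cfsg.Agent.Helper1.CriticalSubgroup

set_option autoImplicit false

/-!
# Small abelian subgroups detecting `p'`-automorphisms of a `p`-group (part A)

Restriction of automorphisms to invariant subgroups, and a fixed-coset lemma for a `p`-group of
automorphisms.
-/

namespace Cfsg.Agent.Lead.SmallAb

universe u

variable {Y : Type u} [Group Y]

/-- The exponent bound: `4` for `p = 2`, and `p` otherwise. -/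
def ex (p : ℕ) : ℕ := if p = 2 then 4 else p

theorem ex_two : ex 2 = 4 := by simp [ex]

theorem ex_of_ne {p : ℕ} (hp : p ≠ 2) : ex p = p := by simp [ex, hp]

/-- Restriction of an automorphism to an invariant finite subgroup. -/
noncomputable def resAut (K : Subgroup Y) [Finite K] (τ : MulAut Y) (h : ∀ x ∈ K, τ x ∈ K) :
    MulAut K :=
  MulEquiv.ofBijective
    ({ toFun := fun x => ⟨τ x, h x x.2⟩
       map_one' := Subtype.ext (by simp)
       map_mul' := fun x y => Subtype.ext (by simp) } : K →* K)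
    (Finite.injective_iff_bijective.mp (fun x y hxy =>
      Subtype.ext (τ.injective (congrArg Subtype.val hxy))))

@[simp] theorem resAut_apply (K : Subgroup Y) [Finite K] (τ : MulAut Y) (h : ∀ x ∈ K, τ x ∈ K)
    (x : K) : ((resAut K τ h x : K) : Y) = τ x := rfl

theorem resAut_pow_apply (K : Subgroup Y) [Finite K] (τ : MulAut Y) (h : ∀ x ∈ K, τ x ∈ K)
    (n : ℕ) (x : K) : (((resAut K τ h) ^ n) x : Y) = (τ ^ n) x := by
  induction n generalizing x with
  | zero => simp
  | succ n ih =>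
    rw [pow_succ, pow_succ, MulAut.mul_apply, MulAut.mul_apply, ih]
    rfl

theorem orderOf_resAut_dvd (K : Subgroup Y) [Finite K] (τ : MulAut Y) (h : ∀ x ∈ K, τ x ∈ K) :
    orderOf (resAut K τ h) ∣ orderOf τ := by
  apply orderOf_dvd_of_pow_eq_one
  ext x
  rw [resAut_pow_apply, pow_orderOf_eq_one]
  rfl

theorem pow_apply_of_fix {τ : MulAut Y} {d u : Y} (h1 : τ d = d * u) (h2 : τ u = u) (k : ℕ) :
    (τ ^ k) d = d * u ^ k := by
  induction k with
  | zero => simp
  | succ k ih =>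
    rw [pow_succ', MulAut.mul_apply, ih, map_mul, map_pow, h2, h1, mul_assoc, ← pow_succ']

/-- If `τ` has order prime to `p`, `τ d = d u` with `u` a `p`-element fixed by `τ`, then `u = 1`. -/
theorem eq_one_of_fix {p : ℕ} [Fact p.Prime] {τ : MulAut Y} (hτ : (orderOf τ).Coprime p)
    {d u : Y} (h1 : τ d = d * u) (h2 : τ u = u) (hu : ∃ j : ℕ, u ^ p ^ j = 1) : u = 1 := by
  have h4 := pow_apply_of_fix h1 h2 (orderOf τ)
  rw [pow_orderOf_eq_one, MulAut.one_apply] at h4
  have h5 : u ^ orderOf τ = 1 := by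
    have : d * u ^ orderOf τ = d * 1 := by rw [← h4, mul_one]
    exact mul_left_cancel this
  obtain ⟨j, hj⟩ := hu
  have h6 : orderOf u ∣ orderOf τ := orderOf_dvd_of_pow_eq_one h5
  have h7 : orderOf u ∣ p ^ j := orderOf_dvd_of_pow_eq_one hj
  have h8 : orderOf u = 1 := Nat.eq_one_of_dvd_coprimes (Nat.Coprime.pow_right j hτ) h6 h7
  exact orderOf_eq_one_iff.1 h8

/-- A `p`-group `T` of automorphisms stabilizing subgroups `A < K` of a finite `p`-group fixes a
coset of `A` in `K` other than `A`. -/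
theorem exists_fixed_coset [Finite Y] {p : ℕ} [hp : Fact p.Prime] (T : Subgroup (MulAut Y))
    (hT : IsPGroup p T) (A K : Subgroup Y) (hK : IsPGroup p K)
    (hA : ∀ t ∈ T, ∀ a ∈ A, t a ∈ A) (hKT : ∀ t ∈ T, ∀ a ∈ K, t a ∈ K)
    (hne : ∃ x ∈ K, x ∉ A) :
    ∃ x ∈ K, x ∉ A ∧ ∀ t ∈ T, x⁻¹ * t x ∈ A := by
  classical
  have : MulAction.QuotientAction T A := ⟨fun t a a' h => by
    show ((t : MulAut Y) a)⁻¹ * (t : MulAut Y) a' ∈ A
    rw [← map_inv, ← map_mul]
    exact hA t t.2 _ h⟩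
  -- the set of cosets of `A` meeting `K`
  let O : SubMulAction T (Y ⧸ A) :=
    { carrier := {c | ∃ y ∈ K, (y : Y ⧸ A) = c}
      smul_mem' := by
        rintro t _ ⟨y, hy, rfl⟩
        exact ⟨(t : MulAut Y) y, hKT t t.2 y hy, rfl⟩ }
  have hOfin : Finite O := Finite.of_injective (fun c => (c : Y ⧸ A)) Subtype.val_injective
  -- cardinality of `O`
  let f : (K ⧸ A.subgroupOf K) → O := fun c =>
    Quotient.liftOn' c (fun k => (⟨((k : Y) : Y ⧸ A), ⟨k, k.2, rfl⟩⟩ : O)) (by
      intro a b hab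
      apply Subtype.ext
      show ((a : Y) : Y ⧸ A) = ((b : Y) : Y ⧸ A)
      rw [QuotientGroup.eq]
      have h1 : a⁻¹ * b ∈ A.subgroupOf K := QuotientGroup.leftRel_apply.mp hab
      exact h1)
  have hf : Function.Bijective f := by
    constructor
    · intro c c' h
      induction c using Quotient.inductionOn' with | _ a => ?_
      induction c' using Quotient.inductionOn' with | _ b => ?_
      have h1 : ((a : Y) : Y ⧸ A) = ((b : Y) : Y ⧸ A) := congrArg (fun z : O => (z : Y ⧸ A)) h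
      rw [QuotientGroup.eq] at h1
      apply Quotient.sound'
      rw [QuotientGroup.leftRel_apply]
      exact h1
    · rintro ⟨_, y, hy, rfl⟩
      exact ⟨Quotient.mk'' ⟨y, hy⟩, rfl⟩
  have hcard : Nat.card O = (A.subgroupOf K).index := by
    rw [Subgroup.index]
    exact (Nat.card_congr (Equiv.ofBijective f hf)).symm
  have hdvd : p ∣ Nat.card O := by
    rw [hcard]
    obtain ⟨k, hk⟩ := IsPGroup.iff_card.mp hK
    have h1 : (A.subgroupOf K).index ∣ p ^ k := by
      rw [← hk]; exact Subgroup.index_dvd_card _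
    obtain ⟨i, -, hi⟩ := (Nat.dvd_prime_pow hp.out).mp h1
    rw [hi]
    rcases Nat.eq_zero_or_pos i with h0 | h0
    · exfalso
      rw [h0, pow_zero, Subgroup.index_eq_one] at hi
      obtain ⟨x, hxK, hxA⟩ := hne
      have : (⟨x, hxK⟩ : K) ∈ A.subgroupOf K := by rw [hi]; trivial
      exact hxA this
    · exact dvd_pow_self p h0.ne'
  have hfix : (⟨((1 : Y) : Y ⧸ A), ⟨1, K.one_mem, rfl⟩⟩ : O) ∈ MulAction.fixedPoints T O := by
    intro t
    apply Subtype.ext
    show t • ((1 : Y) : Y ⧸ A) = ((1 : Y) : Y ⧸ A)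
    rw [MulAction.Quotient.smul_coe]
    show (((t : MulAut Y) 1 : Y) : Y ⧸ A) = _
    rw [map_one]
  obtain ⟨b, hb, hb1⟩ := hT.exists_fixed_point_of_prime_dvd_card_of_fixed_point O hdvd hfix
  obtain ⟨⟨_, x, hxK, rfl⟩, rfl⟩ : ∃ c : O, c = b := ⟨b, rfl⟩
  refine ⟨x, hxK, ?_, fun t ht => ?_⟩
  · intro hxA
    apply hb1
    apply Subtype.ext
    show ((1 : Y) : Y ⧸ A) = ((x : Y) : Y ⧸ A)
    rw [QuotientGroup.eq, inv_one, one_mul]
    exact hxA
  · have h1 := hb ⟨t, ht⟩
    have h2 : (⟨t, ht⟩ : T) • ((x : Y) : Y ⧸ A) = ((x : Y) : Y ⧸ A) :=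
      congrArg (fun z : O => (z : Y ⧸ A)) h1
    rw [MulAction.Quotient.smul_coe] at h2
    have h3 : ((t x : Y) : Y ⧸ A) = ((x : Y) : Y ⧸ A) := h2
    rw [QuotientGroup.eq] at h3
    have h4 := A.inv_mem h3
    rw [mul_inv_rev, inv_inv] at h4
    exact h4

end Cfsg.Agent.Lead.SmallAb
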