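import Mathlib
import Cfsg.Agent.Lead.SmallAbA

set_option autoImplicit false

/-!
# Small abelian subgroups detecting `p'`-automorphisms of a `p`-group (part B)

For a finite `p`-group `Y` and a `p`-group `T` of automorphisms there is a `T`-invariant abelian
subgroup `A` of exponent dividing `p` (`4` if `p = 2`) such that every `p'`-automorphism of `Y`
fixing `A` pointwise is trivial.
-/

namespace Cfsg.Agent.Lead.SmallAb

open scoped commutatorElement

universe u

variable {Y : Type u} [Group Y]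

theorem exists_small_abelian [Finite Y] (p : ℕ) [hp : Fact p.Prime] (hY : IsPGroup p Y)
    (T : Subgroup (MulAut Y)) (hT : IsPGroup p T) :
    ∃ A : Subgroup Y, (∀ t ∈ T, ∀ a ∈ A, t a ∈ A) ∧ (∀ a ∈ A, ∀ b ∈ A, a * b = b * a) ∧
      (∀ a ∈ A, a ^ ex p = 1) ∧
      ∀ τ : MulAut Y, (orderOf τ).Coprime p → (∀ a ∈ A, τ a = a) → τ = 1 := by
  classical
  obtain ⟨C, hCchar, hCfr, hCcomm, hCcent⟩ := Cfsg.Agent.Helper1.exists_critical_subgroup hY
  have hCp : IsPGroup p C := hY.to_subgroup C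
  have hCinv : ∀ (σ : MulAut Y) (x : Y), x ∈ C → σ x ∈ C := by
    intro σ x hx
    have h1 := Subgroup.characteristic_iff_map_eq.mp hCchar σ
    rw [← h1]
    exact ⟨x, hx, rfl⟩
  have hfrC : frattini C ≤ Subgroup.center C := by
    intro z hz
    rw [Subgroup.mem_center_iff]
    intro g
    have h1 : (z : Y) ∈ Subgroup.centralizer (C : Set Y) := hCfr ⟨z, hz, rfl⟩
    rw [Subgroup.mem_centralizer_iff] at h1
    exact Subtype.ext (h1 g g.2)
  -- the `ex p`-th power map is multiplicative on `C`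
  have hmul : ∀ x y : C, (x * y) ^ ex p = x ^ ex p * y ^ ex p := by
    intro x y
    by_cases h2 : p = 2
    · subst h2
      rw [ex_two]
      exact mul_pow_four_of_frattini_le_center hCp hfrC x y
    · rw [ex_of_ne h2]
      exact Cfsg.Agent.Helper1.mul_pow_prime_of_frattini_le_center h2 hCp hfrC x y
  have hmul' : ∀ x ∈ C, ∀ y ∈ C, (x * y) ^ ex p = x ^ ex p * y ^ ex p := by
    intro x hx y hy
    have := congrArg (fun z : C => (z : Y)) (hmul ⟨x, hx⟩ ⟨y, hy⟩)
    simpa using this
  let D : Subgroup Y :=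
    { carrier := {x | x ∈ C ∧ x ^ ex p = 1}
      one_mem' := ⟨C.one_mem, one_pow _⟩
      mul_mem' := by
        rintro x y ⟨hx, hx1⟩ ⟨hy, hy1⟩
        exact ⟨C.mul_mem hx hy, by rw [hmul' x hx y hy, hx1, hy1, one_mul]⟩
      inv_mem' := by
        rintro x ⟨hx, hx1⟩
        exact ⟨C.inv_mem hx, by rw [inv_pow, hx1, inv_one]⟩ }
  have hDmem : ∀ x : Y, x ∈ D ↔ x ∈ C ∧ x ^ ex p = 1 := fun x => Iff.rfl
  have hDinv : ∀ (σ : MulAut Y) (x : Y), x ∈ D → σ x ∈ D := by
    intro σ x hx
    rw [hDmem] at hx ⊢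
    exact ⟨hCinv σ x hx.1, by rw [← map_pow, hx.2, map_one]⟩
  have hDC : D ≤ C := fun x hx => hx.1
  -- a maximal `T`-invariant abelian subgroup of `D`
  let 𝒜 : Set (Subgroup Y) :=
    {A | A ≤ D ∧ (∀ t ∈ T, ∀ a ∈ A, t a ∈ A) ∧ ∀ a ∈ A, ∀ b ∈ A, a * b = b * a}
  have hbot : (⊥ : Subgroup Y) ∈ 𝒜 := by
    refine ⟨bot_le, ?_, ?_⟩
    · intro t _ a ha
      rw [Subgroup.mem_bot] at ha ⊢
      rw [ha, map_one]
    · intro a ha b hb
      rw [Subgroup.mem_bot] at ha hb
      rw [ha, hb]
  obtain ⟨A, -, hAmax⟩ := (Set.toFinite 𝒜).exists_le_maximal hbot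
  obtain ⟨hAD, hAT, hAab⟩ : A ∈ 𝒜 := hAmax.prop
  -- `A` is self-centralizing in `D`
  have hself : ∀ x ∈ D, (∀ a ∈ A, x * a = a * x) → x ∈ A := by
    by_contra hcon
    push Not at hcon
    obtain ⟨x₀, hx₀D, hx₀c, hx₀A⟩ := hcon
    let K : Subgroup Y := D ⊓ Subgroup.centralizer (A : Set Y)
    have hKmem : ∀ x : Y, x ∈ K ↔ x ∈ D ∧ ∀ a ∈ A, a * x = x * a := by
      intro x
      show x ∈ D ⊓ Subgroup.centralizer (A : Set Y) ↔ _
      rw [Subgroup.mem_inf, Subgroup.mem_centralizer_iff]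
      rfl
    have hKT : ∀ t ∈ T, ∀ a ∈ K, t a ∈ K := by
      intro t ht x hx
      rw [hKmem] at hx ⊢
      refine ⟨hDinv t x hx.1, fun a ha => ?_⟩
      have h1 : t⁻¹ a ∈ A := hAT t⁻¹ (T.inv_mem ht) a ha
      have h2 := hx.2 _ h1
      have h3 := congrArg t h2
      rw [map_mul, map_mul] at h3
      have h4 : t (t⁻¹ a) = a := by simp
      rwa [h4] at h3
    have hx₀K : x₀ ∈ K := (hKmem x₀).mpr ⟨hx₀D, fun a ha => (hx₀c a ha).symm⟩
    obtain ⟨x, hxK, hxA, hxT⟩ := exists_fixed_coset T hT A K (hY.to_subgroup K) hAT hKT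
      ⟨x₀, hx₀K, hx₀A⟩
    obtain ⟨hxD, hxc⟩ := (hKmem x).mp hxK
    let A' : Subgroup Y := Subgroup.closure ((A : Set Y) ∪ {x})
    have hAA' : A ≤ A' := fun a ha => Subgroup.subset_closure (Or.inl ha)
    have hxA' : x ∈ A' := Subgroup.subset_closure (Or.inr rfl)
    have hcommS : ∀ a ∈ ((A : Set Y) ∪ {x}), ∀ b ∈ ((A : Set Y) ∪ {x}), a * b = b * a := by
      rintro a (ha | ha) b (hb | hb)
      · exact hAab a ha b hb
      · rw [Set.mem_singleton_iff] at hb; subst hb; exact hxc a ha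
      · rw [Set.mem_singleton_iff] at ha; subst ha; exact (hxc b hb).symm
      · rw [Set.mem_singleton_iff] at ha hb; rw [ha, hb]
    have hA'mem : A' ∈ 𝒜 := by
      refine ⟨?_, ?_, ?_⟩
      · rw [Subgroup.closure_le]
        rintro a (ha | ha)
        · exact hAD ha
        · rw [Set.mem_singleton_iff] at ha; subst ha; exact hxD
      · intro t ht a ha
        induction ha using Subgroup.closure_induction with
        | mem y hy =>
          rcases hy with hy | hy
          · exact hAA' (hAT t ht y hy)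
          · rw [Set.mem_singleton_iff] at hy
            subst hy
            have h1 : t y = y * (y⁻¹ * t y) := by group
            rw [h1]
            exact A'.mul_mem hxA' (hAA' (hxT t ht))
        | one => rw [map_one]; exact A'.one_mem
        | mul a b _ _ ha hb => rw [map_mul]; exact A'.mul_mem ha hb
        | inv a _ ha => rw [map_inv]; exact A'.inv_mem ha
      · intro a ha b hb
        have hcA' : IsMulCommutative A' := Subgroup.isMulCommutative_closure hcommS
        have := hcA'.is_comm.comm (⟨a, ha⟩ : A') ⟨b, hb⟩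
        exact congrArg (fun z : A' => (z : Y)) this
    exact hxA (hAmax.le_of_ge hA'mem hAA' hxA')
  refine ⟨A, hAT, hAab, fun a ha => (hAD ha).2, fun τ hτ hfix => ?_⟩
  -- `τ` fixes `D` pointwise
  have hcenC : ∀ c ∈ C, ∀ g : Y, ∀ z ∈ C, ⁅c, g⁆ * z = z * ⁅c, g⁆ := by
    intro c hc g z hz
    have h1 : ⁅c, g⁆ ∈ ⁅C, (⊤ : Subgroup Y)⁆ :=
      Subgroup.commutator_mem_commutator hc (Subgroup.mem_top g)
    have h2 : ⁅c, g⁆ ∈ Subgroup.centralizer (C : Set Y) := (hCcomm h1).2
    rw [Subgroup.mem_centralizer_iff] at h2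
    exact (h2 z hz).symm
  have hfixD : ∀ d ∈ D, τ d = d := by
    intro d hd
    have hτd : τ d ∈ D := hDinv τ d hd
    set u := d⁻¹ * τ d with hu
    have huD : u ∈ D := D.mul_mem (D.inv_mem hd) hτd
    have huA : u ∈ A := by
      apply hself u huD
      intro a ha
      have haD := hAD ha
      -- the commutator `⁅d, a⁆` lies in `A`
      have hcA : ⁅d, a⁆ ∈ A := by
        apply hself
        · rw [commutatorElement_def]
          exact D.mul_mem (D.mul_mem (D.mul_mem hd haD) (D.inv_mem hd)) (D.inv_mem haD)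
        · intro b hb
          exact hcenC d (hDC hd) a b (hDC (hAD hb))
      have h1 : τ ⁅d, a⁆ = ⁅d, a⁆ := hfix _ hcA
      rw [commutatorElement_def, map_mul, map_mul, map_mul, map_inv, map_inv, hfix a ha] at h1
      -- `τ d * a * (τ d)⁻¹ = d * a * d⁻¹`
      have h2 : τ d * a * (τ d)⁻¹ = d * a * d⁻¹ := by
        have := congrArg (fun z => z * a) h1
        simpa using this
      calc u * a = d⁻¹ * (τ d * a * (τ d)⁻¹) * τ d := by rw [hu]; group
        _ = d⁻¹ * (d * a * d⁻¹) * τ d := by rw [h2]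
        _ = a * u := by rw [hu]; group
    have h1 : τ d = d * u := by rw [hu]; group
    have h2 : τ u = u := hfix u huA
    have h3 : u = 1 := eq_one_of_fix hτ h1 h2 (hY u)
    rw [h1, h3, mul_one]
  -- `τ` fixes `C` pointwise
  have hfixC : ∀ c ∈ C, τ c = c := by
    set τC := resAut C τ (fun x hx => hCinv τ x hx) with hτC
    have hcop : (orderOf τC).Coprime p :=
      Nat.Coprime.coprime_dvd_left (orderOf_resAut_dvd C τ _) hτ
    have hfixτC : ∀ x : C, x ^ ex p = 1 → τC x = x := by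
      intro x hx
      apply Subtype.ext
      rw [hτC, resAut_apply]
      apply hfixD
      refine ⟨x.2, ?_⟩
      have := congrArg (fun z : C => (z : Y)) hx
      simpa using this
    have h1 : τC = 1 := by
      by_cases h2 : p = 2
      · subst h2
        apply aut_eq_one_of_fix_order_four hCp τC hcop
        intro g hg
        exact hfixτC g (by rw [ex_two]; exact hg)
      · apply Cfsg.Agent.Helper1.aut_eq_one_of_fix_order_p h2 hCp τC hcop
        intro x hx
        exact hfixτC x (by rw [ex_of_ne h2]; exact hx)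
    intro c hc
    have h2 : τC ⟨c, hc⟩ = ⟨c, hc⟩ := by rw [h1]; rfl
    have := congrArg (fun z : C => (z : Y)) h2
    simpa [hτC] using this
  exact Cfsg.Agent.Helper1.aut_trivial_of_trivial_on_selfcentralizing hY C
    (Subgroup.normal_of_characteristic C) hCcent τ hτ hfixC

end Cfsg.Agent.Lead.SmallAb
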