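import Mathlib
import Cfsg.Agent.Lead.SmallAbB

set_option autoImplicit false

/-!
# Small abelian subgroups detecting `p'`-automorphisms of a `p`-group (part C)

Relative version: the small abelian subgroup is found inside an invariant subgroup `X₁`, and detects
the `p'`-automorphisms acting nontrivially on `X₁`.
-/

namespace Cfsg.Agent.Lead.SmallAb

universe u

variable {X : Type u} [Group X]

theorem pow_apply_of_restrict {X₁ : Subgroup X} (σ : MulAut X₁) (t : MulAut X)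
    (h : ∀ y : X₁, ((σ y : X₁) : X) = t y) (n : ℕ) (y : X₁) :
    (((σ ^ n) y : X₁) : X) = (t ^ n) y := by
  induction n generalizing y with
  | zero => simp
  | succ n ih =>
    rw [pow_succ, pow_succ, MulAut.mul_apply, MulAut.mul_apply, ih, h]

theorem exists_small_abelian_rel [Finite X] (p : ℕ) [hp : Fact p.Prime] (hX : IsPGroup p X)
    (T : Subgroup (MulAut X)) (hT : IsPGroup p T) (X₁ : Subgroup X)
    (hX₁ : ∀ t ∈ T, ∀ x ∈ X₁, t x ∈ X₁) :
    ∃ A : Subgroup X, A ≤ X₁ ∧ (∀ t ∈ T, ∀ a ∈ A, t a ∈ A) ∧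
      (∀ a ∈ A, ∀ b ∈ A, a * b = b * a) ∧ (∀ a ∈ A, a ^ ex p = 1) ∧
      ∀ τ : MulAut X, (orderOf τ).Coprime p → (∀ x ∈ X₁, τ x ∈ X₁) → (∀ a ∈ A, τ a = a) →
        ∀ x ∈ X₁, τ x = x := by
  classical
  let TY : Subgroup (MulAut X₁) :=
    { carrier := {σ | ∃ t ∈ T, ∀ y : X₁, ((σ y : X₁) : X) = t y}
      one_mem' := ⟨1, T.one_mem, fun y => rfl⟩
      mul_mem' := by
        rintro σ σ' ⟨t, ht, h⟩ ⟨t', ht', h'⟩
        refine ⟨t * t', T.mul_mem ht ht', fun y => ?_⟩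
        rw [MulAut.mul_apply, MulAut.mul_apply, h, h']
      inv_mem' := by
        rintro σ ⟨t, ht, h⟩
        refine ⟨t⁻¹, T.inv_mem ht, fun y => ?_⟩
        apply t.injective
        rw [← h]
        simp }
  have hTY : IsPGroup p TY := by
    rintro ⟨σ, t, ht, h⟩
    obtain ⟨k, hk⟩ := hT ⟨t, ht⟩
    have hk' : t ^ p ^ k = 1 := by
      have := congrArg (fun z : T => (z : MulAut X)) hk
      simpa using this
    refine ⟨k, ?_⟩
    apply Subtype.ext
    show σ ^ p ^ k = 1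
    ext y
    rw [pow_apply_of_restrict σ t h, hk']
    rfl
  obtain ⟨AY, hAT, hAab, hAex, hAdet⟩ := exists_small_abelian p (hX.to_subgroup X₁) TY hTY
  refine ⟨AY.map X₁.subtype, ?_, ?_, ?_, ?_, ?_⟩
  · rintro _ ⟨a, -, rfl⟩
    exact a.2
  · rintro t ht _ ⟨a, ha, rfl⟩
    have hσ : resAut X₁ t (hX₁ t ht) ∈ TY := ⟨t, ht, fun y => rfl⟩
    exact ⟨_, hAT _ hσ a ha, rfl⟩
  · rintro _ ⟨a, ha, rfl⟩ _ ⟨b, hb, rfl⟩
    have := congrArg (fun z : X₁ => (z : X)) (hAab a ha b hb)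
    simpa using this
  · rintro _ ⟨a, ha, rfl⟩
    have := congrArg (fun z : X₁ => (z : X)) (hAex a ha)
    simpa using this
  · intro τ hτ hτX hτA x hx
    set τY := resAut X₁ τ hτX with hτY
    have hcop : (orderOf τY).Coprime p :=
      Nat.Coprime.coprime_dvd_left (orderOf_resAut_dvd X₁ τ _) hτ
    have h1 : τY = 1 := by
      apply hAdet τY hcop
      intro a ha
      apply Subtype.ext
      rw [hτY, resAut_apply]
      exact hτA _ ⟨a, ha, rfl⟩
    have h2 : τY ⟨x, hx⟩ = ⟨x, hx⟩ := by rw [h1]; rfl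
    have := congrArg (fun z : X₁ => (z : X)) h2
    simpa [hτY] using this

end Cfsg.Agent.Lead.SmallAb
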