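import Mathlib
import Cfsg.Prelude.Def_FusionSystem
import Cfsg.Agent.Lead.SmallAbC
import Cfsg.Agent.Lead.FusionSat
import Cfsg.Agent.Lead.FusionAut
import Cfsg.Agent.Lead.FusionFocal

set_option autoImplicit false

/-!
# Small abelian subgroups control fusion (part D): the detecting subgroup

For `P ≤ S` and a strongly closed subgroup `H` containing the hyperfocal subgroup there is an
`Aut_S(P)`-invariant small abelian subgroup `A ≤ P ∩ H` such that the automorphisms in `Aut_F(P)`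
fixing `A` pointwise are `p`-elements.
-/

namespace Cfsg.Agent.Lead.SmallAb

open Cfsg Cfsg.FusionSystem Cfsg.Agent.Lead

variable {Ω : Type*} [Group Ω] {S : Subgroup Ω}

theorem pow_apply_of_fixed {X : Type*} [Group X] {τ : MulAut X} {a : X} (h : τ a = a) (n : ℕ) :
    (τ ^ n) a = a := by
  induction n with
  | zero => simp
  | succ n ih => rw [pow_succ, MulAut.mul_apply, h, ih]

/-- Elements of `Aut_F(P)` preserve a strongly closed subgroup. -/
theorem aut_mem_of_stronglyClosed (F : FusionSystem S) {H P : Subgroup Ω} (hH : F.StronglyClosed H)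
    (hPS : P ≤ S) (τ : MulAut P) (hτ : τ ∈ F.autGroup P) (x : P) (hx : (x : Ω) ∈ H) :
    ((τ x : P) : Ω) ∈ H := by
  have h1 := (Fusion.mem_autGroup_iff F hPS τ).mp hτ
  have hle : P ⊓ H ≤ P := inf_le_left
  have h2 := Fusion.restrict_mem F h1 hle
  exact hH.2 (P ⊓ H) inf_le_right _ h2 ⟨x, ⟨x.2, hx⟩⟩

theorem exists_detector [Finite S] (p : ℕ) [hp : Fact p.Prime] (hS : IsPGroup p S)
    (F : FusionSystem S) (H : Subgroup Ω) (hH : F.StronglyClosed H)
    (hhyp : F.hyperfocalSubgroup p ≤ H) {P : Subgroup Ω} (hPS : P ≤ S) :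
    ∃ A₀ : Subgroup P, A₀.map P.subtype ≤ H ∧
      (∀ t ∈ autInducedBy S P, ∀ a ∈ A₀, t a ∈ A₀) ∧
      (∀ a ∈ A₀, ∀ b ∈ A₀, a * b = b * a) ∧ (∀ a ∈ A₀, a ^ ex p = 1) ∧
      ∀ τ ∈ F.autGroup P, (∀ a ∈ A₀, τ a = a) → ∃ k : ℕ, τ ^ p ^ k = 1 := by
  have hfinP : Finite P := Fusion.finite_of_le hPS
  have hPp : IsPGroup p P := hS.to_le hPS
  have hTp : IsPGroup p (autInducedBy S P) := Fusion.isPGroup_autInducedBy p hS P
  have hTΓ : autInducedBy S P ≤ F.autGroup P := Fusion.autInducedBy_le_autGroup F hPS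
  have hinv : ∀ τ ∈ F.autGroup P, ∀ x ∈ H.subgroupOf P, τ x ∈ H.subgroupOf P := by
    intro τ hτ x hx
    rw [Subgroup.mem_subgroupOf] at hx ⊢
    exact aut_mem_of_stronglyClosed F hH hPS τ hτ x hx
  obtain ⟨A₀, hA₀H, hA₀T, hA₀ab, hA₀ex, hA₀det⟩ :=
    exists_small_abelian_rel p hPp (autInducedBy S P) hTp (H.subgroupOf P)
      (fun t ht => hinv t (hTΓ ht))
  refine ⟨A₀, ?_, hA₀T, hA₀ab, hA₀ex, ?_⟩
  · rintro _ ⟨a, ha, rfl⟩
    exact Subgroup.mem_subgroupOf.mp (hA₀H ha)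
  · intro τ hτ hfix
    have hpos : 0 < orderOf τ := orderOf_pos τ
    obtain ⟨k, m, hm, hkm⟩ := Nat.exists_eq_pow_mul_and_not_dvd hpos.ne' p hp.out.ne_one
    refine ⟨k, ?_⟩
    set τ' := τ ^ p ^ k with hτ'
    have hτ'Γ : τ' ∈ F.autGroup P := Subgroup.pow_mem _ hτ _
    have hord : (orderOf τ').Coprime p := by
      have h1 : τ' ^ m = 1 := by
        rw [hτ', ← pow_mul, ← hkm]
        exact pow_orderOf_eq_one τ
      have h2 : orderOf τ' ∣ m := orderOf_dvd_of_pow_eq_one h1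
      exact Nat.Coprime.coprime_dvd_left h2 ((hp.out.coprime_iff_not_dvd.mpr hm).symm)
    have hfix' : ∀ a ∈ A₀, τ' a = a := fun a ha => pow_apply_of_fixed (hfix a ha) _
    have hfixH := hA₀det τ' hord (hinv τ' hτ'Γ) hfix'
    ext x
    show ((τ' x : P) : Ω) = ((x : P) : Ω)
    congr 1
    set u := x⁻¹ * τ' x with hu
    have huH : u ∈ H.subgroupOf P := by
      rw [Subgroup.mem_subgroupOf]
      apply hhyp
      have hres : (⟨τ', hτ'Γ⟩ : F.autGroup P) ∈ pResidual p (F.autGroup P) := by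
        apply Subgroup.subset_closure
        show Nat.Coprime (orderOf (⟨τ', hτ'Γ⟩ : F.autGroup P)) p
        rw [Subgroup.orderOf_mk]
        exact hord
      exact Fusion.mem_hyperfocal F p hPS ⟨τ', hτ'Γ⟩ hres x
    have h1 : τ' x = x * u := by rw [hu]; group
    have h2 : τ' u = u := hfixH u huH
    have h3 : u = 1 := eq_one_of_fix hord h1 h2 (hPp u)
    rw [h1, h3, mul_one]

end Cfsg.Agent.Lead.SmallAb
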