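import Mathlib
import Cfsg.Prelude.Def_FusionSystem
import Cfsg.Agent.Lead.SmallAbD
import Cfsg.Agent.Lead.FusionSat2
import Cfsg.Agent.Lead.FusionSat3
import Cfsg.Agent.Lead.FusionSub
import Cfsg.Agent.Lead.FusionSubsys
import Cfsg.Agent.Lead.FusionInner
import Cfsg.Agent.Lead.FusionSolvConstr
import Cfsg.Agent.Lead.FusionStrongInvC
import Cfsg.Agent.Lead.FusionProdSat
import Cfsg.Agent.Lead.AutInduced
import Cfsg.Agent.Lead.FusionCentNormal

set_option autoImplicit false
set_option linter.style.haveILetI false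

/-!
# Small abelian subgroups control fusion (part E): isomorphism calculus and three lemmas

* `IsIso F e`: the isomorphism `e : P ≃* Q` of subgroups is a map of the system;
* `mem_of_extender`: a map onto a receptive subgroup whose extender is strictly larger than its source
  lies in any subsystem containing all maps of the system on larger subgroups;
* `fix_mem_autInducedBy`: the automorphisms fixing a detecting subgroup lie in `Aut_S(P)`;
* `centralizerIn_le_of_normalizer`: normalizer growth for `C_S(A) Q`.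
-/

namespace Cfsg.Agent.Lead.SmallAb

open Cfsg Cfsg.FusionSystem Cfsg.Agent.Lead

variable {Ω : Type*} [Group Ω] {S : Subgroup Ω}

/-- `e : P ≃* Q` is an isomorphism of the system. -/
def IsIso (F : FusionSystem S) {P Q : Subgroup Ω} (e : P ≃* Q) : Prop :=
  Q.subtype.comp e.toMonoidHom ∈ F.Hom P

theorem isIso_iff_mem_autGroup (F : FusionSystem S) {P : Subgroup Ω} (hP : P ≤ S) (α : MulAut P) :
    IsIso F (α : P ≃* P) ↔ α ∈ F.autGroup P := (Fusion.mem_autGroup_iff F hP α).symm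

theorem range_subtype_comp {P Q : Subgroup Ω} (e : P ≃* Q) :
    (Q.subtype.comp e.toMonoidHom).range = Q := by
  ext y
  constructor
  · rintro ⟨x, rfl⟩
    exact (e x).2
  · intro hy
    refine ⟨e.symm ⟨y, hy⟩, ?_⟩
    show ((e (e.symm ⟨y, hy⟩) : Q) : Ω) = y
    simp

theorem IsIso.symm {F : FusionSystem S} {P Q : Subgroup Ω} {e : P ≃* Q} (h : IsIso F e) :
    IsIso F e.symm := by
  obtain ⟨ψ, hψ, hinv, -⟩ := Fusion.exists_inv F h (range_subtype_comp e)
  have : P.subtype.comp e.symm.toMonoidHom = ψ := by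
    ext y
    have h2 := hinv (e.symm y) (e (e.symm y)).2
    show ((e.symm y : P) : Ω) = ψ y
    rw [← h2]
    congr 1
    apply Subtype.ext
    simp
  unfold IsIso
  rw [this]
  exact hψ

theorem IsIso.trans {F : FusionSystem S} {P Q R : Subgroup Ω} {e : P ≃* Q} {f : Q ≃* R}
    (he : IsIso F e) (hf : IsIso F f) : IsIso F (e.trans f) := by
  have := F.comp_mem he hf (fun x => (e x).2)
  unfold IsIso
  convert this using 1
  ext x
  rfl

theorem IsIso.mono {E F : FusionSystem S} (hEF : ∀ P : Subgroup Ω, E.Hom P ⊆ F.Hom P)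
    {P Q : Subgroup Ω} {e : P ≃* Q} (h : IsIso E e) : IsIso F e := hEF P h

theorem isIso_equivOfRange (F : FusionSystem S) {P Q : Subgroup Ω} {φ : P →* Ω} (hφ : φ ∈ F.Hom P)
    (hr : φ.range = Q) : IsIso F (Fusion.equivOfRange φ (F.injective_of_mem hφ) hr) := by
  have : Q.subtype.comp (Fusion.equivOfRange φ (F.injective_of_mem hφ) hr).toMonoidHom = φ := by
    ext x
    rfl
  unfold IsIso
  rw [this]
  exact hφ

theorem IsIso.src_le {F : FusionSystem S} {P Q : Subgroup Ω} {e : P ≃* Q} (h : IsIso F e) : P ≤ S :=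
  Fusion.src_le F h

theorem IsIso.tgt_le {F : FusionSystem S} {P Q : Subgroup Ω} {e : P ≃* Q} (h : IsIso F e) : Q ≤ S := by
  intro y hy
  have := Fusion.map_mem F h (e.symm ⟨y, hy⟩)
  simpa using this

theorem IsIso.restrict {F : FusionSystem S} {P Q R : Subgroup Ω} {e : P ≃* Q} (h : IsIso F e)
    (hRP : R ≤ P) : (Q.subtype.comp e.toMonoidHom).comp (Subgroup.inclusion hRP) ∈ F.Hom R :=
  Fusion.restrict_mem F h hRP

/-- A map of `F` onto a receptive subgroup `P` whose extender contains an element outside its source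
lies in `E`, when `E` contains all maps of `F` on subgroups of order larger than `|P|`. -/
theorem mem_of_extender [Finite S] (E F : FusionSystem S) {P Q : Subgroup Ω} (hPr : F.IsReceptive P)
    (hIH : ∀ (R : Subgroup Ω) (ψ : R →* Ω), ψ ∈ F.Hom R → Nat.card P < Nat.card R → ψ ∈ E.Hom R)
    {φ : Q →* Ω} (hφ : φ ∈ F.Hom Q) (hr : φ.range = P) {y : Ω} (hy : y ∈ extender S Q φ)
    (hyQ : y ∉ Q) : φ ∈ E.Hom Q := by
  have hQS : Q ≤ S := Fusion.src_le F hφ
  obtain ⟨ψ, hψ, hext⟩ := hPr.2 Q φ hφ hr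
  have hle : Q ≤ extender S Q φ := Fusion.le_extender Q hQS φ (Fusion.map_mem F hφ)
  have hextS : extender S Q φ ≤ S := ProdSat.extender_le' S Q φ
  haveI : Finite (extender S Q φ) := Fusion.finite_of_le hextS
  have hlt : Nat.card Q < Nat.card (extender S Q φ) := by
    apply lt_of_le_of_ne (Subgroup.card_le_of_le hle)
    intro hcard
    have := Subgroup.eq_of_le_of_card_ge hle hcard.ge
    exact hyQ (this ▸ hy)
  have hcard : Nat.card P = Nat.card Q := StrongInv.card_eq_of_isConj F ⟨φ, hφ, hr⟩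
  have hψE := hIH _ ψ hψ (hcard ▸ hlt)
  have := Fusion.restrict_mem E hψE hle
  convert this using 1
  ext x
  exact (hext x.1 x.2 (hle x.2)).symm

/-- Elements of `Aut_S(P)` are conjugations by elements of `N_S(P)`. -/
theorem exists_of_mem_autInducedBy {P : Subgroup Ω} {t : MulAut P} (ht : t ∈ autInducedBy S P) :
    ∃ g ∈ normalizerIn S P, ∀ x : P, ((t x : P) : Ω) = g * (x : Ω) * g⁻¹ := by
  obtain ⟨g, hgS, hg⟩ := (mem_autInducedBy_iff S P t).mp ht
  exact ⟨g, ⟨hgS, mem_normalizer_of_conj_eq_aut P t g hg⟩, hg⟩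

/-- If `A ≤ P` is normalized by `N_S(P)` and the automorphisms in `Aut_F(P)` fixing `A` pointwise are
`p`-elements, then they lie in `Aut_S(P)`, provided `P` is fully automized. -/
theorem fix_mem_autInducedBy [Finite S] (p : ℕ) [Fact p.Prime] (hS : IsPGroup p S)
    (F : FusionSystem S) {P A : Subgroup Ω} (hPa : F.IsFullyAutomized p P)
    (hNA : normalizerIn S P ≤ normalizerIn S A)
    (hdet : ∀ τ ∈ F.autGroup P, (∀ x : P, (x : Ω) ∈ A → τ x = x) → ∃ k : ℕ, τ ^ p ^ k = 1)
    (τ : MulAut P) (hτ : τ ∈ F.autGroup P) (hfix : ∀ x : P, (x : Ω) ∈ A → τ x = x) :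
    τ ∈ autInducedBy S P := by
  obtain ⟨hPS, R, hR⟩ := hPa
  -- the subgroup of automorphisms fixing `A`
  let C : Subgroup (MulAut P) :=
    { carrier := {σ | σ ∈ F.autGroup P ∧ ∀ x : P, (x : Ω) ∈ A → σ x = x}
      one_mem' := ⟨Subgroup.one_mem _, fun x _ => rfl⟩
      mul_mem' := by
        rintro a b ⟨ha, ha'⟩ ⟨hb, hb'⟩
        refine ⟨Subgroup.mul_mem _ ha hb, fun x hx => ?_⟩
        rw [MulAut.mul_apply, hb' x hx, ha' x hx]
      inv_mem' := by
        rintro a ⟨ha, ha'⟩
        refine ⟨Subgroup.inv_mem _ ha, fun x hx => ?_⟩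
        have := ha' x hx
        conv_lhs => rw [← this]
        exact MulAut.inv_apply_self _ _ _ }
  have hCmem : ∀ σ : MulAut P, σ ∈ C ↔ σ ∈ F.autGroup P ∧ ∀ x : P, (x : Ω) ∈ A → σ x = x :=
    fun σ => Iff.rfl
  have hCp : IsPGroup p C := by
    rintro ⟨σ, hσ⟩
    obtain ⟨k, hk⟩ := hdet σ hσ.1 hσ.2
    exact ⟨k, Subtype.ext hk⟩
  have hTp : IsPGroup p (autInducedBy S P) := Fusion.isPGroup_autInducedBy p hS P
  have hTΓ : autInducedBy S P ≤ F.autGroup P := Fusion.autInducedBy_le_autGroup F hPS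
  -- `Aut_S(P)` preserves `A`
  have hTA : ∀ t ∈ autInducedBy S P, ∀ x : P, (x : Ω) ∈ A → ((t x : P) : Ω) ∈ A := by
    intro t ht x hx
    obtain ⟨g, hg, hgx⟩ := exists_of_mem_autInducedBy ht
    rw [hgx]
    exact (Subgroup.mem_normalizer_iff.mp (hNA hg).2 _).mp hx
  have hnorm : autInducedBy S P ≤ Subgroup.normalizer (C : Set (MulAut P)) := by
    intro t ht
    have key : ∀ s ∈ autInducedBy S P, ∀ σ ∈ C, s * σ * s⁻¹ ∈ C := by
      intro s hs σ hσ
      rw [hCmem] at hσ ⊢
      refine ⟨Subgroup.mul_mem _ (Subgroup.mul_mem _ (hTΓ hs) hσ.1) (Subgroup.inv_mem _ (hTΓ hs)),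
        fun x hx => ?_⟩
      have h1 : ((s⁻¹ x : P) : Ω) ∈ A := hTA s⁻¹ (Subgroup.inv_mem _ hs) x hx
      rw [MulAut.mul_apply, MulAut.mul_apply, hσ.2 _ h1, MulAut.apply_inv_self]
    rw [Subgroup.mem_normalizer_iff]
    intro σ
    constructor
    · exact key t ht σ
    · intro h
      have := key t⁻¹ (Subgroup.inv_mem _ ht) _ h
      simpa [mul_assoc] using this
  have hUp : IsPGroup p (autInducedBy S P ⊔ C : Subgroup (MulAut P)) :=
    IsPGroup.to_sup_of_normal_right' hTp hCp hnorm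
  have hUΓ : autInducedBy S P ⊔ C ≤ F.autGroup P := sup_le hTΓ (fun σ hσ => hσ.1)
  have hmax := R.is_maximal' (Q := (autInducedBy S P ⊔ C).subgroupOf (F.autGroup P))
    hUp.comap_subtype (by
      rw [hR]
      exact Subgroup.subgroupOf_mono _ le_sup_left) 
  have h1 : (⟨τ, hτ⟩ : F.autGroup P) ∈ (autInducedBy S P ⊔ C).subgroupOf (F.autGroup P) := by
    rw [Subgroup.mem_subgroupOf]
    exact (le_sup_right : C ≤ _) ⟨hτ, hfix⟩
  rw [hmax, hR, Subgroup.mem_subgroupOf] at h1
  exact h1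

/-- Normalizer growth: if the elements of `C_S(A)` normalizing `Q` lie in `Q`, where `Q ≤ N_S(A)`, then
`C_S(A) ≤ Q`. -/
theorem centralizerIn_le_of_normalizer [Finite S] {p : ℕ} [Fact p.Prime] (hS : IsPGroup p S)
    {A Q : Subgroup Ω} (hQ : Q ≤ normalizerIn S A)
    (h : ∀ c ∈ centralizerIn S A, c ∈ Subgroup.normalizer (Q : Set Ω) → c ∈ Q) :
    centralizerIn S A ≤ Q := by
  by_contra hcon
  set D := centralizerIn S A with hD
  set K := D ⊔ Q with hK
  have hDS : D ≤ S := inf_le_left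
  have hQS : Q ≤ S := hQ.trans inf_le_left
  have hKS : K ≤ S := sup_le hDS hQS
  haveI : Finite K := Fusion.finite_of_le hKS
  have hKp : IsPGroup p K := hS.to_le hKS
  have hQK : Q ≤ K := le_sup_right
  have hne : Q ≠ K := by
    intro heq
    apply hcon
    rw [heq]
    exact le_sup_left
  obtain ⟨n, hn, hnQ⟩ := Fusion.exists_mem_normalizerIn_not_mem hKp hQK hne
  have hQD : Q ≤ Subgroup.normalizer (D : Set Ω) := by
    intro q hq
    have h1 := hQ hq
    have h2 : q ∈ Subgroup.normalizer ((S : Subgroup Ω) : Set Ω) := Subgroup.le_normalizer h1.1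
    exact Fusion.mem_normalizer_inf_of_mem h2 (Fusion.mem_normalizer_centralizer_of_mem h1.2)
  have hnK : n ∈ Q ⊔ D := by
    rw [sup_comm]
    exact hn.1
  obtain ⟨q, hq, d, hd, rfl⟩ := (mem_sup_iff_of_le_normalizer hQD n).mp hnK
  have hdN : d ∈ Subgroup.normalizer (Q : Set Ω) := by
    have h1 : q⁻¹ ∈ Subgroup.normalizer (Q : Set Ω) := Subgroup.le_normalizer (Q.inv_mem hq)
    have := Subgroup.mul_mem _ h1 hn.2
    simpa using this
  exact hnQ (Q.mul_mem hq (h d hd hdN))

end Cfsg.Agent.Lead.SmallAb
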