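import Mathlib
import Cfsg.Prelude.Def_FusionSystem
import Cfsg.Agent.Lead.SmallAbE

set_option autoImplicit false
set_option linter.style.haveILetI false
set_option maxHeartbeats 1000000

/-!
# Small abelian subgroups control fusion (part F): the key claim

Let `E ≤ F` be saturated, `P` centric and fully normalized in `F`, and suppose `E` contains all maps of
`F` on subgroups of order larger than `|P|`.  If `A ≤ P` is fully normalized in `F`, normalized by
`N_S(P)`, all maps of `F` with source `A` lie in `E`, and the automorphisms in `Aut_F(P)` fixing `A`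
pointwise are `p`-elements, then `Aut_F(P) ≤ Aut_E(P)`.
-/

namespace Cfsg.Agent.Lead.SmallAb

open Cfsg Cfsg.FusionSystem Cfsg.Agent.Lead

variable {Ω : Type*} [Group Ω] {S : Subgroup Ω}

theorem claimK [Finite S] (p : ℕ) [Fact p.Prime] (hS : IsPGroup p S) (E F : FusionSystem S)
    (hE : E.IsSaturated p) (hF : F.IsSaturated p) (hEF : ∀ P : Subgroup Ω, E.Hom P ⊆ F.Hom P)
    {P A : Subgroup Ω} (hPc : F.IsCentric P) (hPn : F.IsFullyNormalized P)
    (hIH : ∀ (R : Subgroup Ω) (ψ : R →* Ω), ψ ∈ F.Hom R → Nat.card P < Nat.card R → ψ ∈ E.Hom R)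
    (hAP : A ≤ P) (hAn : F.IsFullyNormalized A) (hNA : normalizerIn S P ≤ normalizerIn S A)
    (hAE : ∀ φ : A →* Ω, φ ∈ F.Hom A → φ ∈ E.Hom A)
    (hdet : ∀ τ ∈ F.autGroup P, (∀ x : P, (x : Ω) ∈ A → τ x = x) → ∃ k : ℕ, τ ^ p ^ k = 1) :
    F.autGroup P ≤ E.autGroup P := by
  intro γ hγ
  have hPS : P ≤ S := hPn.1
  haveI hfinP : Finite P := Fusion.finite_of_le hPS
  have hAS : A ≤ S := hAP.trans hPS
  haveI hfinA : Finite A := Fusion.finite_of_le hAS
  obtain ⟨-, hPa⟩ := Fusion.fullyCentralized_fullyAutomized_of_fullyNormalized p hS F hF hPn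
  have hPr : F.IsReceptive P :=
    Fusion.receptive_of_fullyCentralized p hS F hF (Fusion.fullyCentralized_of_isCentric F hPc)
  have hAEn : E.IsFullyNormalized A :=
    ⟨hAS, fun Q hQ => hAn.2 Q (Fusion.isConj_of_subsystem hEF hQ)⟩
  obtain ⟨hAEc, -⟩ := Fusion.fullyCentralized_fullyAutomized_of_fullyNormalized p hS E hE hAEn
  have hAEr : E.IsReceptive A := Fusion.receptive_of_fullyCentralized p hS E hE hAEc
  have hCT := fix_mem_autInducedBy p hS F hPa hNA hdet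
  have hTΔ : autInducedBy S P ≤ E.autGroup P := Fusion.autInducedBy_le_autGroup E hPS
  -- `A` is normal in `P`
  have hPNA : P ≤ normalizerIn S A := (Fusion.le_normalizerIn hPS).trans hNA
  have hnormA : ∀ g ∈ P, ∀ a ∈ A, g * a * g⁻¹ ∈ A := fun g hg a ha =>
    (Subgroup.mem_normalizer_iff.mp (hPNA hg).2 a).mp ha
  have hγF : IsIso F (γ : P ≃* P) := (isIso_iff_mem_autGroup F hPS γ).mpr hγ
  -- the restriction of `γ` to `A`
  set φ : A →* Ω := (P.subtype.comp γ.toMonoidHom).comp (Subgroup.inclusion hAP) with hφdef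
  have hφF : φ ∈ F.Hom A := Fusion.restrict_mem F hγF hAP
  have hφE : φ ∈ E.Hom A := hAE φ hφF
  have hφapp : ∀ a : A, φ a = ((γ ⟨a, hAP a.2⟩ : P) : Ω) := fun a => rfl
  obtain ⟨B, hB⟩ : ∃ B : Subgroup Ω, φ.range = B := ⟨_, rfl⟩
  have hBP : B ≤ P := by
    rw [← hB]
    rintro _ ⟨a, rfl⟩
    exact (γ _).2
  haveI hfinB : Finite B := Fusion.finite_of_le (hBP.trans hPS)
  set φ' := Fusion.equivOfRange φ (E.injective_of_mem hφE) hB with hφ'
  have hφ'E : IsIso E φ' := isIso_equivOfRange E hφE hB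
  have hιE : IsIso E φ'.symm := hφ'E.symm
  set ι : B →* Ω := A.subtype.comp φ'.symm.toMonoidHom with hι
  have hιr : ι.range = A := range_subtype_comp φ'.symm
  have hιA : ∀ y : B, ι y ∈ A := fun y => (φ'.symm y).2
  -- key property: `γ (ι y) = y`
  have hγι : ∀ y : B, ((γ ⟨ι y, hAP (hιA y)⟩ : P) : Ω) = y := by
    intro y
    exact Fusion.map_equivOfRange_symm φ (E.injective_of_mem hφE) hB y
  obtain ⟨ε, hε, hεext⟩ := hAEr.2 B ι hιE hιr
  -- `B` is normal in `P`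
  have hnormB : ∀ g ∈ P, ∀ b ∈ B, g * b * g⁻¹ ∈ B := by
    intro g hg b hb
    rw [← hB] at hb ⊢
    obtain ⟨a, rfl⟩ := hb
    set g' : P := γ.symm ⟨g, hg⟩ with hg'
    refine ⟨⟨g' * a * (g' : Ω)⁻¹, hnormA g' g'.2 a a.2⟩, ?_⟩
    rw [hφapp, hφapp]
    have h1 : (⟨(g' : Ω) * a * (g' : Ω)⁻¹, hAP (hnormA g' g'.2 a a.2)⟩ : P) =
        g' * ⟨a, hAP a.2⟩ * g'⁻¹ := rfl
    rw [h1, map_mul, map_mul, map_inv]
    have h2 : γ g' = ⟨g, hg⟩ := by simp [hg']
    rw [h2]
    rfl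
  have hPext : P ≤ extender S B ι := by
    intro g hg
    apply Subgroup.subset_closure
    have hgN : g ∈ Subgroup.normalizer (B : Set Ω) :=
      mem_normalizer_of_conj_mem_of_finite B g (hnormB g hg)
    set g' : P := γ.symm ⟨g, hg⟩ with hg'
    have h0 : γ g' = ⟨g, hg⟩ := by simp [hg']
    refine ⟨hPS hg, hgN, (g' : Ω), hPS g'.2, fun x hx => ?_⟩
    have h1 := hγι ⟨g * x * g⁻¹, hx⟩
    have h2 := hγι x
    have hv : (g' : Ω) * ι x * (g' : Ω)⁻¹ ∈ P :=
      P.mul_mem (P.mul_mem g'.2 (hAP (hιA x))) (P.inv_mem g'.2)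
    have h3 : (⟨ι ⟨g * x * g⁻¹, hx⟩, hAP (hιA _)⟩ : P) = ⟨(g' : Ω) * ι x * (g' : Ω)⁻¹, hv⟩ := by
      apply γ.injective
      apply Subtype.ext
      rw [h1]
      have h4 : (⟨(g' : Ω) * ι x * (g' : Ω)⁻¹, hv⟩ : P) = g' * ⟨ι x, hAP (hιA x)⟩ * g'⁻¹ := rfl
      rw [h4, map_mul, map_mul, map_inv, h0]
      simp only [Subgroup.coe_mul, Subgroup.coe_inv]
      rw [h2]
    exact congrArg Subtype.val h3
  -- restrict `ε` to `P`
  set εP : P →* Ω := ε.comp (Subgroup.inclusion hPext) with hεP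
  have hεPE : εP ∈ E.Hom P := Fusion.restrict_mem E hε hPext
  obtain ⟨P₂, hP₂⟩ : ∃ P₂ : Subgroup Ω, εP.range = P₂ := ⟨_, rfl⟩
  set ε' := Fusion.equivOfRange εP (E.injective_of_mem hεPE) hP₂ with hε'
  have hε'E : IsIso E ε' := isIso_equivOfRange E hεPE hP₂
  set lam : P ≃* P₂ := (γ : P ≃* P).trans ε' with hlam
  have hlamF : IsIso F lam := hγF.trans (hε'E.mono hEF)
  suffices hlamE : IsIso E lam by
    have h1 : IsIso E (lam.trans ε'.symm) := hlamE.trans hε'E.symm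
    have h2 : lam.trans ε'.symm = (γ : P ≃* P) := by
      ext x
      simp [hlam]
    rw [h2] at h1
    exact (isIso_iff_mem_autGroup E hPS γ).mp h1
  -- `λ` fixes `A`
  have hlamA : ∀ x : P, (x : Ω) ∈ A → ((lam x : P₂) : Ω) = x := by
    intro x hx
    have hγxB : ((γ x : P) : Ω) ∈ B := by
      rw [← hB]
      exact ⟨⟨x, hx⟩, rfl⟩
    have h1 : ((lam x : P₂) : Ω) = ε ⟨(γ x : P), hPext (γ x).2⟩ := rfl
    rw [h1, hεext _ hγxB]
    have h2 : (⟨((γ x : P) : Ω), hγxB⟩ : B) = φ' ⟨x, hx⟩ := Subtype.ext rfl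
    rw [h2]
    show ((φ'.symm (φ' ⟨x, hx⟩) : A) : Ω) = x
    simp
  have hP₂S : P₂ ≤ S := hlamF.tgt_le
  haveI hfinP₂ : Finite P₂ := Fusion.finite_of_le hP₂S
  have hconjA : ∀ (x : P) (a : Ω), a ∈ A →
      ((lam x : P₂) : Ω) * a * ((lam x : P₂) : Ω)⁻¹ = (x : Ω) * a * (x : Ω)⁻¹ := by
    intro x a ha
    have h1 := hlamA ⟨a, hAP ha⟩ ha
    have h2 := hlamA (x * ⟨a, hAP ha⟩ * x⁻¹) (hnormA x x.2 a ha)
    rw [map_mul, map_mul, map_inv] at h2
    simp only [Subgroup.coe_mul, Subgroup.coe_inv] at h2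
    rw [h1] at h2
    exact h2
  have hP₂NA : P₂ ≤ normalizerIn S A := by
    intro y hy
    obtain ⟨x, rfl⟩ : ∃ x : P, ((lam x : P₂) : Ω) = y := ⟨lam.symm ⟨y, hy⟩, by simp⟩
    refine ⟨hP₂S (lam x).2, ?_⟩
    apply mem_normalizer_of_conj_mem_of_finite A
    intro a ha
    rw [hconjA x a ha]
    exact hnormA x x.2 a ha
  by_cases hcase : ∃ c ∈ centralizerIn S A, c ∈ Subgroup.normalizer (P₂ : Set Ω) ∧ c ∉ P₂
  · -- some element of `C_S(A)` normalizes `P₂` but is not in it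
    obtain ⟨c, hcC, hcN, hcP₂⟩ := hcase
    have hlamsF : IsIso F lam.symm := hlamF.symm
    have hcS : c ∈ S := hcC.1
    set κ : MulAut P := lam.trans ((conjAutHom P₂ ⟨c, hcN⟩ : P₂ ≃* P₂).trans lam.symm) with hκ
    have hconjF : IsIso F (conjAutHom P₂ ⟨c, hcN⟩ : P₂ ≃* P₂) := by
      have := F.conj_mem hP₂S hcS (P := P₂) (g := c)
      unfold IsIso
      convert this using 1
      ext x
      rfl
    have hκF : κ ∈ F.autGroup P :=
      (isIso_iff_mem_autGroup F hPS κ).mp (hlamF.trans (hconjF.trans hlamsF))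
    have hκapp : ∀ z : P, ((lam (κ z) : P₂) : Ω) = c * ((lam z : P₂) : Ω) * c⁻¹ := by
      intro z
      have : lam (κ z) = conjAutHom P₂ ⟨c, hcN⟩ (lam z) := by
        simp [hκ]
      rw [this]
      rfl
    have hκfix : ∀ x : P, (x : Ω) ∈ A → κ x = x := by
      intro x hx
      apply lam.injective
      apply Subtype.ext
      rw [hκapp, hlamA x hx]
      have h1 := (Subgroup.mem_centralizer_iff.mp hcC.2) x hx
      calc c * (x : Ω) * c⁻¹ = (x : Ω) * c * c⁻¹ := by rw [h1]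
        _ = x := by group
    obtain ⟨g, hgS, hg⟩ := (mem_autInducedBy_iff S P κ).mp (hCT κ hκF hκfix)
    have hμ'r : (P.subtype.comp lam.symm.toMonoidHom).range = P := range_subtype_comp lam.symm
    have hcext : c ∈ extender S P₂ (P.subtype.comp lam.symm.toMonoidHom) := by
      apply Subgroup.subset_closure
      refine ⟨hcS, hcN, g, hgS, fun x hx => ?_⟩
      show ((lam.symm ⟨c * x * c⁻¹, hx⟩ : P) : Ω) = g * ((lam.symm x : P) : Ω) * g⁻¹
      rw [← hg]
      congr 1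
      apply lam.injective
      apply Subtype.ext
      rw [hκapp]
      simp
    have hμ'E : IsIso E lam.symm := mem_of_extender E F hPr hIH hlamsF hμ'r hcext hcP₂
    have := hμ'E.symm
    simpa using this
  · -- otherwise `C_S(A) ≤ P₂`, and then `P₂ = P`
    push Not at hcase
    have hCP₂ : centralizerIn S A ≤ P₂ :=
      centralizerIn_le_of_normalizer hS hP₂NA (fun c hc hcN => hcase c hc hcN)
    have hPP₂ : P ≤ P₂ := by
      intro x hx
      have h1 : (x : Ω)⁻¹ * ((lam ⟨x, hx⟩ : P₂) : Ω) ∈ centralizerIn S A := by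
        refine Subgroup.mem_inf.mpr ⟨S.mul_mem (S.inv_mem (hPS hx)) (hP₂S (lam _).2), ?_⟩
        rw [Subgroup.mem_centralizer_iff]
        intro a ha
        have h2 := hconjA ⟨x, hx⟩ a ha
        set l : Ω := ((lam ⟨x, hx⟩ : P₂) : Ω) with hl
        have h3 : l * a = x * a * x⁻¹ * l := by
          have : l * a = (l * a * l⁻¹) * l := by group
          rw [this, h2]
        calc a * (x⁻¹ * l) = x⁻¹ * (x * a * x⁻¹ * l) := by group
          _ = x⁻¹ * (l * a) := by rw [h3]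
          _ = x⁻¹ * l * a := by group
      have h2 := hCP₂ h1
      have h3 : (x : Ω) = ((lam ⟨x, hx⟩ : P₂) : Ω) * ((x : Ω)⁻¹ * ((lam ⟨x, hx⟩ : P₂) : Ω))⁻¹ := by
        group
      rw [h3]
      exact P₂.mul_mem (lam _).2 (P₂.inv_mem h2)
    have hcard : Nat.card P₂ = Nat.card P := Nat.card_congr lam.symm.toEquiv
    have hPeq : P = P₂ := Subgroup.eq_of_le_of_card_ge hPP₂ hcard.le
    set τ : MulAut P := lam.trans (MulEquiv.subgroupCongr hPeq.symm) with hτ
    have hτhom : P.subtype.comp (τ : P ≃* P).toMonoidHom = P₂.subtype.comp lam.toMonoidHom := by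
      ext x
      rfl
    have hτF : τ ∈ F.autGroup P := by
      rw [Fusion.mem_autGroup_iff F hPS, hτhom]
      exact hlamF
    have hτfix : ∀ x : P, (x : Ω) ∈ A → τ x = x := by
      intro x hx
      apply Subtype.ext
      exact hlamA x hx
    have hτE : τ ∈ E.autGroup P := hTΔ (hCT τ hτF hτfix)
    rw [Fusion.mem_autGroup_iff E hPS, hτhom] at hτE
    exact hτE

end Cfsg.Agent.Lead.SmallAb
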