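import Mathlib
import Cfsg.Prelude.Def_FusionSystem
import Cfsg.Agent.Lead.SmallAbF
import Cfsg.Agent.Lead.FusionAlperin2
import Cfsg.Agent.Lead.FusionEssNeeded

set_option autoImplicit false
set_option linter.style.haveILetI false
set_option maxHeartbeats 1000000

/-!
# Small abelian subgroups control fusion (part G): transport and the main theorem

Let `E ≤ F` be saturated fusion systems over `S`, and let `H` be strongly closed in `F` and contain the
hyperfocal subgroup.  If every map of `F` whose source is an abelian subgroup of `H` of exponent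
dividing `p` (`4` when `p = 2`) lies in `E`, then `F ≤ E`.
-/

namespace Cfsg.Agent.Lead.SmallAb

open Cfsg Cfsg.FusionSystem Cfsg.Agent.Lead

variable {Ω : Type*} [Group Ω] {S : Subgroup Ω}

/-- The key claim without the assumption that `A` is fully normalized, for `P ≠ S`. -/
theorem claimK' [Finite S] (p : ℕ) [Fact p.Prime] (hS : IsPGroup p S) (E F : FusionSystem S)
    (hE : E.IsSaturated p) (hF : F.IsSaturated p) (hEF : ∀ P : Subgroup Ω, E.Hom P ⊆ F.Hom P)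
    (H : Subgroup Ω) (hH : F.StronglyClosed H)
    (hsmall : ∀ A : Subgroup Ω, A ≤ H → (∀ a ∈ A, ∀ b ∈ A, a * b = b * a) →
      (∀ a ∈ A, a ^ ex p = 1) → ∀ φ : A →* Ω, φ ∈ F.Hom A → φ ∈ E.Hom A)
    {P A : Subgroup Ω} (hPc : F.IsCentric P) (hPn : F.IsFullyNormalized P) (hne : P ≠ S)
    (hIH : ∀ (R : Subgroup Ω) (ψ : R →* Ω), ψ ∈ F.Hom R → Nat.card P < Nat.card R → ψ ∈ E.Hom R)
    (hAP : A ≤ P) (hAH : A ≤ H) (hAab : ∀ a ∈ A, ∀ b ∈ A, a * b = b * a)
    (hAex : ∀ a ∈ A, a ^ ex p = 1) (hNA : normalizerIn S P ≤ normalizerIn S A)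
    (hdet : ∀ τ ∈ F.autGroup P, (∀ x : P, (x : Ω) ∈ A → τ x = x) → ∃ k : ℕ, τ ^ p ^ k = 1) :
    F.autGroup P ≤ E.autGroup P := by
  have hPS : P ≤ S := hPn.1
  haveI : Finite P := Fusion.finite_of_le hPS
  have hAS : A ≤ S := hAP.trans hPS
  obtain ⟨n₀, hn₀, hn₀P⟩ := Fusion.exists_mem_normalizerIn_not_mem hS hPS hne
  have hPN : P ≤ normalizerIn S P := Fusion.le_normalizerIn hPS
  have hNS : normalizerIn S P ≤ S := inf_le_left
  haveI : Finite (normalizerIn S P) := Fusion.finite_of_le hNS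
  have hcardPN : Nat.card P < Nat.card (normalizerIn S P) := by
    apply lt_of_le_of_ne (Subgroup.card_le_of_le hPN)
    intro h
    exact hn₀P ((Subgroup.eq_of_le_of_card_ge hPN h.ge) ▸ hn₀)
  obtain ⟨A', hconj, hA'n⟩ := Fusion.exists_isConj_fullyNormalized F hAS
  obtain ⟨hA'c, hA'a⟩ := Fusion.fullyCentralized_fullyAutomized_of_fullyNormalized p hS F hF hA'n
  have hA'r := Fusion.receptive_of_fullyCentralized p hS F hF hA'c
  obtain ⟨ρ, hρF, hρN, hρA⟩ := Fusion.exists_hom_normalizerIn p hS F hA'a hA'r hconj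
  haveI : Finite (normalizerIn S A) := Fusion.finite_of_le inf_le_left
  have hρE : ρ ∈ E.Hom (normalizerIn S A) :=
    hIH _ ρ hρF (lt_of_lt_of_le hcardPN (Subgroup.card_le_of_le hNA))
  have hPNA : P ≤ normalizerIn S A := hPN.trans hNA
  set ρP : P →* Ω := ρ.comp (Subgroup.inclusion hPNA) with hρP
  have hρPE : ρP ∈ E.Hom P := Fusion.restrict_mem E hρE hPNA
  have hρPF : ρP ∈ F.Hom P := hEF P hρPE
  obtain ⟨P', hP'⟩ : ∃ P' : Subgroup Ω, ρP.range = P' := ⟨_, rfl⟩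
  set r := Fusion.equivOfRange ρP (E.injective_of_mem hρPE) hP' with hr
  have hrE : IsIso E r := isIso_equivOfRange E hρPE hP'
  have hrF : IsIso F r := hrE.mono hEF
  have hrapp : ∀ x : P, ((r x : P') : Ω) = ρ ⟨x, hPNA x.2⟩ := fun x => rfl
  have hconjP : F.IsConj P P' := ⟨ρP, hρPF, hP'⟩
  have hP'c : F.IsCentric P' := Fusion.isCentric_of_isConj F hPc hconjP
  have hP'S : P' ≤ S := hrF.tgt_le
  haveI : Finite P' := Fusion.finite_of_le hP'S
  have hρinj : Function.Injective ρ := F.injective_of_mem hρF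
  -- the image of `N_S(P)`
  have hρNP : ∀ n (hn : n ∈ normalizerIn S P), ρ ⟨n, hNA hn⟩ ∈ normalizerIn S P' := by
    intro n hn
    refine ⟨Fusion.map_mem F hρF _, ?_⟩
    apply mem_normalizer_of_conj_mem_of_finite P'
    intro y hy
    obtain ⟨x, rfl⟩ : ∃ x : P, ((r x : P') : Ω) = y := ⟨r.symm ⟨y, hy⟩, by simp⟩
    have hx' : n * x * n⁻¹ ∈ P := (Subgroup.mem_normalizer_iff.mp hn.2 x).mp x.2
    have : ρ ⟨n, hNA hn⟩ * ((r x : P') : Ω) * (ρ ⟨n, hNA hn⟩)⁻¹ =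
        ((r ⟨n * x * n⁻¹, hx'⟩ : P') : Ω) := by
      rw [hrapp, hrapp, ← map_inv, ← map_mul, ← map_mul]
      rfl
    rw [this]
    exact (r _).2
  haveI : Finite (normalizerIn S P') := Fusion.finite_of_le inf_le_left
  let f : normalizerIn S P → normalizerIn S P' := fun n => ⟨ρ ⟨n, hNA n.2⟩, hρNP n n.2⟩
  have hf : Function.Injective f := by
    intro a b hab
    have h1 : ρ ⟨a, hNA a.2⟩ = ρ ⟨b, hNA b.2⟩ := congrArg Subtype.val hab
    have h2 := hρinj h1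
    have h3 : (a : Ω) = b := congrArg (fun z : normalizerIn S A => (z : Ω)) h2
    exact Subtype.ext h3
  have hcardN : Nat.card (normalizerIn S P) ≤ Nat.card (normalizerIn S P') :=
    Nat.card_le_card_of_injective f hf
  have hP'n : F.IsFullyNormalized P' :=
    ⟨hP'S, fun Q hQ => (hPn.2 Q (Fusion.isConj_trans F hconjP hQ)).trans hcardN⟩
  have hfbij : Function.Bijective f := hf.bijective_of_nat_card_le (hPn.2 P' hconjP)
  have hsurj : ∀ y ∈ normalizerIn S P', ∃ n, ∃ hn : n ∈ normalizerIn S P, ρ ⟨n, hNA hn⟩ = y := by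
    intro y hy
    obtain ⟨n, hn⟩ := hfbij.2 ⟨y, hy⟩
    exact ⟨n.1, n.2, congrArg Subtype.val hn⟩
  -- the image of `A`
  have hA'mem : ∀ y, y ∈ A' ↔ ∃ a, ∃ ha : a ∈ A, ρ ⟨a, hPNA (hAP ha)⟩ = y := by
    intro y
    rw [← hρA]
    constructor
    · rintro ⟨x, hx, rfl⟩
      exact ⟨x.1, Subgroup.mem_subgroupOf.mp hx, rfl⟩
    · rintro ⟨a, ha, rfl⟩
      exact ⟨⟨a, hPNA (hAP ha)⟩, Subgroup.mem_subgroupOf.mpr ha, rfl⟩
  have hA'P' : A' ≤ P' := by
    intro y hy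
    obtain ⟨a, ha, rfl⟩ := (hA'mem y).mp hy
    exact (r ⟨a, hAP ha⟩).2
  have hA'H : A' ≤ H := by
    intro y hy
    obtain ⟨a, ha, rfl⟩ := (hA'mem y).mp hy
    have h1 := Fusion.restrict_mem F hρF (hAP.trans hPNA)
    exact hH.2 A hAH _ h1 ⟨a, ha⟩
  have hA'ab : ∀ a ∈ A', ∀ b ∈ A', a * b = b * a := by
    intro a₁ ha₁ b₁ hb₁
    obtain ⟨a, ha, rfl⟩ := (hA'mem _).mp ha₁
    obtain ⟨b, hb, rfl⟩ := (hA'mem _).mp hb₁
    rw [← map_mul, ← map_mul]
    congr 1
    exact Subtype.ext (hAab a ha b hb)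
  have hA'ex : ∀ a ∈ A', a ^ ex p = 1 := by
    intro a₁ ha₁
    obtain ⟨a, ha, rfl⟩ := (hA'mem _).mp ha₁
    rw [← map_pow]
    have : (⟨a, hPNA (hAP ha)⟩ : normalizerIn S A) ^ ex p = 1 :=
      Subtype.ext (by simpa using hAex a ha)
    rw [this, map_one]
  have hA'S : A' ≤ S := hA'P'.trans hP'S
  haveI : Finite A' := Fusion.finite_of_le hA'S
  have hN'A' : normalizerIn S P' ≤ normalizerIn S A' := by
    intro y hy
    obtain ⟨n, hn, rfl⟩ := hsurj y hy
    refine ⟨hy.1, ?_⟩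
    apply mem_normalizer_of_conj_mem_of_finite A'
    intro z hz
    obtain ⟨a, ha, rfl⟩ := (hA'mem z).mp hz
    rw [hA'mem]
    have ha' : n * a * n⁻¹ ∈ A := (Subgroup.mem_normalizer_iff.mp (hNA hn).2 a).mp ha
    refine ⟨n * a * n⁻¹, ha', ?_⟩
    rw [← map_inv, ← map_mul, ← map_mul]
    rfl
  -- detection
  have hdet' : ∀ τ' ∈ F.autGroup P', (∀ x : P', (x : Ω) ∈ A' → τ' x = x) →
      ∃ k : ℕ, τ' ^ p ^ k = 1 := by
    intro τ' hτ' hfix'
    set τ : MulAut P := MulAut.congr r.symm τ' with hτ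
    have hτeq : (τ : P ≃* P) = r.trans ((τ' : P' ≃* P').trans r.symm) := by
      ext x
      simp [hτ, MulAut.congr_apply]
    have hτF : τ ∈ F.autGroup P := by
      rw [← isIso_iff_mem_autGroup F hPS, hτeq]
      exact hrF.trans (((isIso_iff_mem_autGroup F hP'S τ').mpr hτ').trans hrF.symm)
    have hτfix : ∀ x : P, (x : Ω) ∈ A → τ x = x := by
      intro x hx
      have h1 : ((r x : P') : Ω) ∈ A' := (hA'mem _).mpr ⟨x, hx, rfl⟩
      have h2 := hfix' (r x) h1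
      have h3 : τ x = r.symm (τ' (r x)) := by
        rw [hτeq]
        rfl
      rw [h3, h2]
      simp
    obtain ⟨k, hk⟩ := hdet τ hτF hτfix
    refine ⟨k, ?_⟩
    have h4 : MulAut.congr r.symm (τ' ^ p ^ k) = 1 := by
      rw [map_pow]
      exact hk
    exact (MulAut.congr r.symm).injective (by rw [h4, map_one])
  have hIH' : ∀ (R : Subgroup Ω) (ψ : R →* Ω), ψ ∈ F.Hom R → Nat.card P' < Nat.card R →
      ψ ∈ E.Hom R := by
    intro R ψ hψ hlt'
    apply hIH R ψ hψ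
    rwa [Nat.card_congr r.toEquiv]
  have key := claimK p hS E F hE hF hEF hP'c hP'n hIH' hA'P' hA'n hN'A'
    (hsmall A' hA'H hA'ab hA'ex) hdet'
  intro γ hγ
  set γ' : MulAut P' := MulAut.congr r γ with hγ'
  have hγ'eq : (γ' : P' ≃* P') = r.symm.trans ((γ : P ≃* P).trans r) := by
    ext x
    simp [hγ', MulAut.congr_apply]
  have hγ'F : γ' ∈ F.autGroup P' := by
    rw [← isIso_iff_mem_autGroup F hP'S, hγ'eq]
    exact hrF.symm.trans (((isIso_iff_mem_autGroup F hPS γ).mpr hγ).trans hrF)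
  have hγ'E := key hγ'F
  rw [← isIso_iff_mem_autGroup E hPS]
  have hγeq : (γ : P ≃* P) = r.trans ((γ' : P' ≃* P').trans r.symm) := by
    ext x
    simp [hγ'eq]
  rw [hγeq]
  exact hrE.trans (((isIso_iff_mem_autGroup E hP'S γ').mpr hγ'E).trans hrE.symm)

/-- **Small abelian subgroups control fusion** (general form). -/
theorem main [Finite S] (p : ℕ) [Fact p.Prime] (hS : IsPGroup p S) (E F : FusionSystem S)
    (hE : E.IsSaturated p) (hF : F.IsSaturated p) (hEF : ∀ P : Subgroup Ω, E.Hom P ⊆ F.Hom P)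
    (H : Subgroup Ω) (hH : F.StronglyClosed H) (hhyp : F.hyperfocalSubgroup p ≤ H)
    (hsmall : ∀ A : Subgroup Ω, A ≤ H → (∀ a ∈ A, ∀ b ∈ A, a * b = b * a) →
      (∀ a ∈ A, a ^ ex p = 1) → ∀ φ : A →* Ω, φ ∈ F.Hom A → φ ∈ E.Hom A) :
    F ≤ E := by
  apply Fusion.alperin_ind p hS F hF E
  intro P hP hIH
  have hPcn : F.IsCentric P ∧ F.IsFullyNormalized P := by
    rcases hP with hP | hP
    · refine ⟨hP.symm ▸ Fusion.top_isCentric F, hP.le, fun Q _ => ?_⟩
      haveI : Finite (normalizerIn S P) := Fusion.finite_of_le inf_le_left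
      apply Subgroup.card_le_of_le
      intro x hx
      exact ⟨hx.1, Subgroup.le_normalizer (hP.symm ▸ hx.1)⟩
    · exact ⟨hP.1, hP.2.1⟩
  obtain ⟨hPc, hPn⟩ := hPcn
  have hPS : P ≤ S := hPn.1
  haveI : Finite P := Fusion.finite_of_le hPS
  obtain ⟨A₀, hA₀H, hA₀T, hA₀ab, hA₀ex, hA₀det⟩ := exists_detector p hS F H hH hhyp hPS
  obtain ⟨A, hA⟩ : ∃ A : Subgroup Ω, A = A₀.map P.subtype := ⟨_, rfl⟩
  have hmemA : ∀ x : P, (x : Ω) ∈ A ↔ x ∈ A₀ := by
    intro x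
    rw [hA]
    constructor
    · rintro ⟨y, hy, hyx⟩
      have : y = x := Subtype.ext hyx
      exact this ▸ hy
    · intro hx
      exact ⟨x, hx, rfl⟩
  have hAP : A ≤ P := by
    rw [hA]
    rintro _ ⟨a, _, rfl⟩
    exact a.2
  have hAH : A ≤ H := hA ▸ hA₀H
  have hAab : ∀ a ∈ A, ∀ b ∈ A, a * b = b * a := by
    intro a ha b hb
    have ha' := (hmemA ⟨a, hAP ha⟩).mp ha
    have hb' := (hmemA ⟨b, hAP hb⟩).mp hb
    exact congrArg Subtype.val (hA₀ab _ ha' _ hb')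
  have hAex : ∀ a ∈ A, a ^ ex p = 1 := by
    intro a ha
    have ha' := (hmemA ⟨a, hAP ha⟩).mp ha
    exact congrArg Subtype.val (hA₀ex _ ha')
  have hAS : A ≤ S := hAP.trans hPS
  haveI : Finite A := Fusion.finite_of_le hAS
  have hNA : normalizerIn S P ≤ normalizerIn S A := by
    intro n hn
    refine ⟨hn.1, ?_⟩
    apply mem_normalizer_of_conj_mem_of_finite A
    intro a ha
    have ha' := (hmemA ⟨a, hAP ha⟩).mp ha
    have h1 := hA₀T (conjAutHom P ⟨n, hn.2⟩)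
      (Fusion.conjAutHom_mem_autInducedBy P ⟨n, hn.2⟩ hn.1) _ ha'
    exact (hmemA _).mpr h1
  have hdet : ∀ τ ∈ F.autGroup P, (∀ x : P, (x : Ω) ∈ A → τ x = x) → ∃ k : ℕ, τ ^ p ^ k = 1 :=
    fun τ hτ hfix => hA₀det τ hτ (fun a ha => hfix a ((hmemA a).mpr ha))
  by_cases hPeq : P = S
  · apply claimK p hS E F hE hF hEF hPc hPn hIH hAP ?_ hNA (hsmall A hAH hAab hAex) hdet
    refine ⟨hAS, fun Q _ => ?_⟩
    haveI : Finite (normalizerIn S A) := Fusion.finite_of_le inf_le_left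
    apply Subgroup.card_le_of_le
    intro x hx
    exact hNA (Fusion.le_normalizerIn hPS (hPeq.symm ▸ hx.1))
  · exact claimK' p hS E F hE hF hEF H hH hsmall hPc hPn hPeq hIH hAP hAH hAab hAex hNA hdet

end Cfsg.Agent.Lead.SmallAb
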