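import Mathlib
import Cfsg.Prelude.Def_FusionSystem
import Cfsg.Agent.Lead.SmallAbG
import Cfsg.Agent.Helper6.PPowNormA

set_option autoImplicit false
set_option linter.style.haveILetI false

/-!
# Small abelian subgroups control fusion (part H): the form with `homSet` hypotheses
-/

namespace Cfsg.Agent.Lead.SmallAb

open Cfsg Cfsg.FusionSystem Cfsg.Agent.Lead

variable {Ω : Type*} [Group Ω] {S : Subgroup Ω}

/-- The theorem with hypotheses on `homSet`s between small abelian subgroups of a strongly closed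
subgroup `H` containing the hyperfocal subgroup. -/
theorem main_homSet [Finite S] (p : ℕ) [Fact p.Prime] (hS : IsPGroup p S) (E F : FusionSystem S)
    (hE : E.IsSaturated p) (hF : F.IsSaturated p) (hEF : E.IsSubsystemOf F)
    (H : Subgroup Ω) (hH : F.StronglyClosed H) (hhyp : F.hyperfocalSubgroup p ≤ H)
    (hodd : p ≠ 2 → ∀ A B : Subgroup Ω, A ≤ H → B ≤ H →
      Cfsg.IsElementaryAbelian p A → Cfsg.IsElementaryAbelian p B → E.homSet A B = F.homSet A B)
    (htwo : p = 2 → ∀ A B : Subgroup Ω, A ≤ H → B ≤ H →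
      IsMulCommutative ↥A → IsMulCommutative ↥B → (∀ a ∈ A, a ^ 4 = 1) → (∀ b ∈ B, b ^ 4 = 1) →
      E.homSet A B = F.homSet A B) :
    ∀ P : Subgroup Ω, E.Hom P = F.Hom P := by
  have key : F ≤ E := by
    apply main p hS E F hE hF hEF H hH hhyp
    intro A hAH hAab hAex φ hφ
    obtain ⟨B, hB⟩ : ∃ B : Subgroup Ω, φ.range = B := ⟨_, rfl⟩
    have hAHle : A ≤ H := hAH
    have hBH : B ≤ H := by
      rw [← hB]
      rintro _ ⟨x, rfl⟩
      exact hH.2 A hAH φ hφ x
    have hφB : ∀ x : A, φ x ∈ B := fun x => hB ▸ ⟨x, rfl⟩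
    have hAc : IsMulCommutative ↥A := ⟨⟨fun a b => Subtype.ext (hAab a a.2 b b.2)⟩⟩
    have hBc : IsMulCommutative ↥B := by
      refine ⟨⟨fun a b => Subtype.ext ?_⟩⟩
      obtain ⟨a, ha⟩ := a
      obtain ⟨b, hb⟩ := b
      rw [← hB] at ha hb
      obtain ⟨x, rfl⟩ := ha
      obtain ⟨y, rfl⟩ := hb
      show φ x * φ y = φ y * φ x
      rw [← map_mul, ← map_mul]
      congr 1
      exact Subtype.ext (hAab x x.2 y y.2)
    have hBex : ∀ b ∈ B, b ^ ex p = 1 := by
      intro b hb
      rw [← hB] at hb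
      obtain ⟨x, rfl⟩ := hb
      rw [← map_pow]
      have : x ^ ex p = 1 := Subtype.ext (by simpa using hAex x x.2)
      rw [this, map_one]
    have hmem : φ ∈ F.homSet A B := ⟨hφ, hφB⟩
    by_cases hp : p = 2
    · have hex : ex p = 4 := by rw [hp]; exact ex_two
      rw [hex] at hAex hBex
      have := htwo hp A B hAHle hBH hAc hBc hAex hBex
      rw [← this] at hmem
      exact hmem.1
    · have hex : ex p = p := ex_of_ne hp
      rw [hex] at hAex hBex
      have := hodd hp A B hAHle hBH ⟨hAc, hAex⟩ ⟨hBc, hBex⟩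
      rw [← this] at hmem
      exact hmem.1
  intro P
  exact Set.Subset.antisymm (hEF P) (key P)

end Cfsg.Agent.Lead.SmallAb
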