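import Mathlib
import Cfsg.Prelude.Def_FusionSystem
import Cfsg.Agent.Lead.SmallAbD

set_option autoImplicit false

/-!
# A characteristic subgroup of small exponent detecting `p'`-automorphisms

For a finite `p`-group `Y` there is a subgroup `D`, invariant under all automorphisms, of exponent
dividing `p` (`4` if `p = 2`) such that every `p'`-automorphism fixing `D` pointwise is trivial.  Relative
and fusion-system versions follow.
-/

namespace Cfsg.Agent.Lead.SmallAb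

open scoped commutatorElement

universe u

section Abstract

variable {Y : Type u} [Group Y]

theorem exists_small_char [Finite Y] (p : ℕ) [hp : Fact p.Prime] (hY : IsPGroup p Y) :
    ∃ D : Subgroup Y, (∀ σ : MulAut Y, ∀ x ∈ D, σ x ∈ D) ∧ (∀ a ∈ D, a ^ ex p = 1) ∧
      ∀ τ : MulAut Y, (orderOf τ).Coprime p → (∀ a ∈ D, τ a = a) → τ = 1 := by
  classical
  obtain ⟨C, hCchar, hCfr, hCcomm, hCcent⟩ := Cfsg.Agent.Helper1.exists_critical_subgroup hY
  have hCp : IsPGroup p C := hY.to_subgroup C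
  have hCinv : ∀ (σ : MulAut Y) (x : Y), x ∈ C → σ x ∈ C := by
    intro σ x hx
    have h1 := Subgroup.characteristic_iff_map_eq.mp hCchar σ
    rw [← h1]
    exact ⟨x, hx, rfl⟩
  have hfrC : frattini C ≤ Subgroup.center C := by
    intro z hz
    rw [Subgroup.mem_center_iff]
    intro g
    have h1 : (z : Y) ∈ Subgroup.centralizer (C : Set Y) := hCfr ⟨z, hz, rfl⟩
    rw [Subgroup.mem_centralizer_iff] at h1
    exact Subtype.ext (h1 g g.2)
  have hmul : ∀ x y : C, (x * y) ^ ex p = x ^ ex p * y ^ ex p := by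
    intro x y
    by_cases h2 : p = 2
    · subst h2
      rw [ex_two]
      exact mul_pow_four_of_frattini_le_center hCp hfrC x y
    · rw [ex_of_ne h2]
      exact Cfsg.Agent.Helper1.mul_pow_prime_of_frattini_le_center h2 hCp hfrC x y
  have hmul' : ∀ x ∈ C, ∀ y ∈ C, (x * y) ^ ex p = x ^ ex p * y ^ ex p := by
    intro x hx y hy
    have := congrArg (fun z : C => (z : Y)) (hmul ⟨x, hx⟩ ⟨y, hy⟩)
    simpa using this
  let D : Subgroup Y :=
    { carrier := {x | x ∈ C ∧ x ^ ex p = 1}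
      one_mem' := ⟨C.one_mem, one_pow _⟩
      mul_mem' := by
        rintro x y ⟨hx, hx1⟩ ⟨hy, hy1⟩
        exact ⟨C.mul_mem hx hy, by rw [hmul' x hx y hy, hx1, hy1, one_mul]⟩
      inv_mem' := by
        rintro x ⟨hx, hx1⟩
        exact ⟨C.inv_mem hx, by rw [inv_pow, hx1, inv_one]⟩ }
  have hDmem : ∀ x : Y, x ∈ D ↔ x ∈ C ∧ x ^ ex p = 1 := fun x => Iff.rfl
  have hDinv : ∀ (σ : MulAut Y) (x : Y), x ∈ D → σ x ∈ D := by
    intro σ x hx
    rw [hDmem] at hx ⊢
    exact ⟨hCinv σ x hx.1, by rw [← map_pow, hx.2, map_one]⟩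
  refine ⟨D, hDinv, fun a ha => ha.2, fun τ hτ hfixD => ?_⟩
  have hfixC : ∀ c ∈ C, τ c = c := by
    set τC := resAut C τ (fun x hx => hCinv τ x hx) with hτC
    have hcop : (orderOf τC).Coprime p :=
      Nat.Coprime.coprime_dvd_left (orderOf_resAut_dvd C τ _) hτ
    have hfixτC : ∀ x : C, x ^ ex p = 1 → τC x = x := by
      intro x hx
      apply Subtype.ext
      rw [hτC, resAut_apply]
      apply hfixD
      refine ⟨x.2, ?_⟩
      have := congrArg (fun z : C => (z : Y)) hx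
      simpa using this
    have h1 : τC = 1 := by
      by_cases h2 : p = 2
      · subst h2
        apply aut_eq_one_of_fix_order_four hCp τC hcop
        intro g hg
        exact hfixτC g (by rw [ex_two]; exact hg)
      · apply Cfsg.Agent.Helper1.aut_eq_one_of_fix_order_p h2 hCp τC hcop
        intro x hx
        exact hfixτC x (by rw [ex_of_ne h2]; exact hx)
    intro c hc
    have h2 : τC ⟨c, hc⟩ = ⟨c, hc⟩ := by rw [h1]; rfl
    have := congrArg (fun z : C => (z : Y)) h2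
    simpa [hτC] using this
  exact Cfsg.Agent.Helper1.aut_trivial_of_trivial_on_selfcentralizing hY C
    (Subgroup.normal_of_characteristic C) hCcent τ hτ hfixC

theorem exists_small_char_rel [Finite Y] (p : ℕ) [hp : Fact p.Prime] (hY : IsPGroup p Y)
    (Y₁ : Subgroup Y) :
    ∃ D : Subgroup Y, D ≤ Y₁ ∧ (∀ σ : MulAut Y, (∀ x ∈ Y₁, σ x ∈ Y₁) → ∀ a ∈ D, σ a ∈ D) ∧
      (∀ a ∈ D, a ^ ex p = 1) ∧
      ∀ τ : MulAut Y, (orderOf τ).Coprime p → (∀ x ∈ Y₁, τ x ∈ Y₁) → (∀ a ∈ D, τ a = a) →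
        ∀ x ∈ Y₁, τ x = x := by
  classical
  obtain ⟨D₁, hDinv, hDex, hDdet⟩ := exists_small_char p (hY.to_subgroup Y₁)
  refine ⟨D₁.map Y₁.subtype, ?_, ?_, ?_, ?_⟩
  · rintro _ ⟨a, -, rfl⟩
    exact a.2
  · rintro σ hσ _ ⟨a, ha, rfl⟩
    exact ⟨_, hDinv (resAut Y₁ σ hσ) a ha, rfl⟩
  · rintro _ ⟨a, ha, rfl⟩
    have := congrArg (fun z : Y₁ => (z : Y)) (hDex a ha)
    simpa using this
  · intro τ hτ hτY hτD x hx
    set τ₁ := resAut Y₁ τ hτY with hτ₁
    have hcop : (orderOf τ₁).Coprime p :=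
      Nat.Coprime.coprime_dvd_left (orderOf_resAut_dvd Y₁ τ _) hτ
    have h1 : τ₁ = 1 := by
      apply hDdet τ₁ hcop
      intro a ha
      apply Subtype.ext
      rw [hτ₁, resAut_apply]
      exact hτD _ ⟨a, ha, rfl⟩
    have h2 : τ₁ ⟨x, hx⟩ = ⟨x, hx⟩ := by rw [h1]; rfl
    have := congrArg (fun z : Y₁ => (z : Y)) h2
    simpa [hτ₁] using this

end Abstract

section Fusion

open Cfsg Cfsg.FusionSystem Cfsg.Agent.Lead

variable {Ω : Type*} [Group Ω] {S : Subgroup Ω}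

/-- For `P ≤ S` and a strongly closed `H` containing the hyperfocal subgroup there is an
`Aut_F(P)`-invariant subgroup `X₀ ≤ P ∩ H` of small exponent such that the automorphisms in
`Aut_F(P)` fixing `X₀` pointwise are `p`-elements. -/
theorem exists_char_detector [Finite S] (p : ℕ) [hp : Fact p.Prime] (hS : IsPGroup p S)
    (F : FusionSystem S) (H : Subgroup Ω) (hH : F.StronglyClosed H)
    (hhyp : F.hyperfocalSubgroup p ≤ H) {P : Subgroup Ω} (hPS : P ≤ S) :
    ∃ X₀ : Subgroup P, X₀.map P.subtype ≤ H ∧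
      (∀ γ ∈ F.autGroup P, ∀ a ∈ X₀, γ a ∈ X₀) ∧ (∀ a ∈ X₀, a ^ ex p = 1) ∧
      ∀ τ ∈ F.autGroup P, (∀ a ∈ X₀, τ a = a) → ∃ k : ℕ, τ ^ p ^ k = 1 := by
  have hfinP : Finite P := Fusion.finite_of_le hPS
  have hPp : IsPGroup p P := hS.to_le hPS
  have hinv : ∀ τ ∈ F.autGroup P, ∀ x ∈ H.subgroupOf P, τ x ∈ H.subgroupOf P := by
    intro τ hτ x hx
    rw [Subgroup.mem_subgroupOf] at hx ⊢
    exact aut_mem_of_stronglyClosed F hH hPS τ hτ x hx
  obtain ⟨X₀, hX₀H, hX₀inv, hX₀ex, hX₀det⟩ := exists_small_char_rel p hPp (H.subgroupOf P)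
  refine ⟨X₀, ?_, fun γ hγ => hX₀inv γ (hinv γ hγ), hX₀ex, ?_⟩
  · rintro _ ⟨a, ha, rfl⟩
    exact Subgroup.mem_subgroupOf.mp (hX₀H ha)
  · intro τ hτ hfix
    have hpos : 0 < orderOf τ := orderOf_pos τ
    obtain ⟨k, m, hm, hkm⟩ := Nat.exists_eq_pow_mul_and_not_dvd hpos.ne' p hp.out.ne_one
    refine ⟨k, ?_⟩
    set τ' := τ ^ p ^ k with hτ'
    have hτ'Γ : τ' ∈ F.autGroup P := Subgroup.pow_mem _ hτ _
    have hord : (orderOf τ').Coprime p := by
      have h1 : τ' ^ m = 1 := by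
        rw [hτ', ← pow_mul, ← hkm]
        exact pow_orderOf_eq_one τ
      have h2 : orderOf τ' ∣ m := orderOf_dvd_of_pow_eq_one h1
      exact Nat.Coprime.coprime_dvd_left h2 ((hp.out.coprime_iff_not_dvd.mpr hm).symm)
    have hfix' : ∀ a ∈ X₀, τ' a = a := fun a ha => pow_apply_of_fixed (hfix a ha) _
    have hfixH := hX₀det τ' hord (hinv τ' hτ'Γ) hfix'
    ext x
    show ((τ' x : P) : Ω) = ((x : P) : Ω)
    congr 1
    set u := x⁻¹ * τ' x with hu
    have huH : u ∈ H.subgroupOf P := by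
      rw [Subgroup.mem_subgroupOf]
      apply hhyp
      have hres : (⟨τ', hτ'Γ⟩ : F.autGroup P) ∈ pResidual p (F.autGroup P) := by
        apply Subgroup.subset_closure
        show Nat.Coprime (orderOf (⟨τ', hτ'Γ⟩ : F.autGroup P)) p
        rw [Subgroup.orderOf_mk]
        exact hord
      exact Fusion.mem_hyperfocal F p hPS ⟨τ', hτ'Γ⟩ hres x
    have h1 : τ' x = x * u := by rw [hu]; group
    have h2 : τ' u = u := hfixH u huH
    have h3 : u = 1 := eq_one_of_fix hord h1 h2 (hPp u)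
    rw [h1, h3, mul_one]

end Fusion

end Cfsg.Agent.Lead.SmallAb
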