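import Mathlib
import Cfsg.Prelude.Def_FusionSystem
import Cfsg.Agent.Lead.SmallAbI
import Cfsg.Agent.Lead.FusionStab
import Cfsg.Agent.Lead.FusionResistant
import Cfsg.Agent.Lead.FusionSat2
import Cfsg.Agent.Lead.FusionConj
import Cfsg.Agent.Helper6.PPowNormA

set_option autoImplicit false
set_option linter.style.haveILetI false
set_option maxHeartbeats 1000000

/-!
# Cyclic subgroups of order `p` or `4` control normality of `S`

If every map of a saturated fusion system `F` between cyclic subgroups of order `p` or `4` of the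
hyperfocal subgroup extends to an automorphism of `S` in `F`, then `Aut_S(P)` is normal in `Aut_F(P)`
for every fully automized `P`, and hence `S` is normal in `F`.
-/

namespace Cfsg.Agent.Lead.SmallAb

open Cfsg Cfsg.FusionSystem Cfsg.Agent.Lead

variable {Ω : Type*} [Group Ω] {S : Subgroup Ω}

/-- An element of order dividing `ex p` generates a cyclic group of order `1`, `p` or `4`. -/
theorem card_zpowers_of_pow_ex {G : Type*} [Group G] (p : ℕ) [hp : Fact p.Prime] {x : G}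
    (hx : x ^ ex p = 1) (hne : x ≠ 1) :
    Nat.card (Subgroup.zpowers x) = p ∨ Nat.card (Subgroup.zpowers x) = 4 := by
  rw [Nat.card_zpowers]
  have hdvd : orderOf x ∣ ex p := orderOf_dvd_of_pow_eq_one hx
  have hne1 : orderOf x ≠ 1 := fun h => hne (orderOf_eq_one_iff.mp h)
  by_cases h2 : p = 2
  · subst h2
    rw [ex_two] at hdvd
    have h4 : (4 : ℕ) = 2 ^ 2 := by norm_num
    rw [h4] at hdvd
    obtain ⟨k, hk, hk'⟩ := (Nat.dvd_prime_pow Nat.prime_two).mp hdvd
    interval_cases k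
    · exact absurd hk' hne1
    · left; rw [hk']; norm_num
    · right; rw [hk']; norm_num
  · rw [ex_of_ne h2] at hdvd
    rcases (Nat.dvd_prime hp.out).mp hdvd with h | h
    · exact absurd h hne1
    · left; exact h

theorem normal_sylow_of_cyclic [Finite S] (p : ℕ) [hp : Fact p.Prime] (hS : IsPGroup p S)
    (F : FusionSystem S) (hF : F.IsSaturated p)
    (h : ∀ A B : Subgroup Ω, A ≤ F.hyperfocalSubgroup p → B ≤ F.hyperfocalSubgroup p →
      IsCyclic ↥A → (Nat.card ↥A = p ∨ Nat.card ↥A = 4) → IsCyclic ↥B →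
      (Nat.card ↥B = p ∨ Nat.card ↥B = 4) → F.homSet A B ⊆ F.normalizerHom S A)
    {P : Subgroup Ω} (hPa : F.IsFullyAutomized p P) :
    ∃ R : Sylow p (F.autGroup P), (R : Subgroup (F.autGroup P)).Normal := by
  obtain ⟨hPS, R, hR⟩ := hPa
  haveI hfinP : Finite P := Fusion.finite_of_le hPS
  have hPp : IsPGroup p P := hS.to_le hPS
  obtain ⟨H, hHdef⟩ : ∃ H : Subgroup Ω, H = F.hyperfocalSubgroup p := ⟨_, rfl⟩
  have hHS : H ≤ S := hHdef ▸ Fusion.hyperfocal_le F p
  have hH : F.StronglyClosed H := by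
    rw [hHdef]
    exact Cfsg.Agent.Helper6.PPowNorm.stronglyClosed_of_hyperfocal_le p hS F hF
      (Fusion.hyperfocal_le F p) (fun s hs t ht => Fusion.conj_mem_hyperfocal F p hs ht) le_rfl
  obtain ⟨X₀, hX₀H, hX₀inv, hX₀ex, hX₀det⟩ :=
    exists_char_detector p hS F H hH (hHdef ▸ le_rfl) hPS
  have hX₀H' : ∀ x : P, x ∈ X₀ → (x : Ω) ∈ F.hyperfocalSubgroup p := fun x hx =>
    hHdef ▸ hX₀H ⟨x, hx, rfl⟩
  -- key claim: `γ x` is the image of `x` under some automorphism of `S`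
  have hkey : ∀ γ ∈ F.autGroup P, ∀ x : P, x ∈ X₀ →
      ∃ σ : MulAut S, ((σ ⟨x, hPS x.2⟩ : S) : Ω) = ((γ x : P) : Ω) := by
    intro γ hγ x hx
    by_cases hx1 : x = 1
    · refine ⟨1, ?_⟩
      rw [hx1, map_one]
      rfl
    have hγx : γ x ∈ X₀ := hX₀inv γ hγ x hx
    have hγx1 : γ x ≠ 1 := fun h0 => hx1 (γ.injective (by rw [h0, map_one]))
    have hxΩ : (x : Ω) ≠ 1 := fun h0 => hx1 (Subtype.ext h0)
    have hγxΩ : ((γ x : P) : Ω) ≠ 1 := fun h0 => hγx1 (Subtype.ext h0)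
    have hxex : (x : Ω) ^ ex p = 1 := by
      have := congrArg (fun z : P => (z : Ω)) (hX₀ex x hx)
      simpa using this
    have hγxex : ((γ x : P) : Ω) ^ ex p = 1 := by
      have := congrArg (fun z : P => (z : Ω)) (hX₀ex (γ x) hγx)
      simpa using this
    set A := Subgroup.zpowers (x : Ω) with hA
    set B := Subgroup.zpowers ((γ x : P) : Ω) with hB
    have hAP : A ≤ P := by
      rw [hA, Subgroup.zpowers_le]
      exact x.2
    have hAH : A ≤ F.hyperfocalSubgroup p := by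
      rw [hA, Subgroup.zpowers_le]
      exact hX₀H' x hx
    have hBH : B ≤ F.hyperfocalSubgroup p := by
      rw [hB, Subgroup.zpowers_le]
      exact hX₀H' (γ x) hγx
    have hγF := (Fusion.mem_autGroup_iff F hPS γ).mp hγ
    set φ : A →* Ω := (P.subtype.comp γ.toMonoidHom).comp (Subgroup.inclusion hAP) with hφ
    have hφF : φ ∈ F.Hom A := Fusion.restrict_mem F hγF hAP
    have hφB : ∀ a : A, φ a ∈ B := by
      intro a
      obtain ⟨k, hk⟩ := Subgroup.mem_zpowers_iff.mp a.2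
      have h1 : (⟨(a : Ω), hAP a.2⟩ : P) = x ^ k := by
        apply Subtype.ext
        rw [← hk]
        simp
      show ((γ ⟨(a : Ω), hAP a.2⟩ : P) : Ω) ∈ B
      rw [h1, map_zpow]
      rw [Subgroup.coe_zpow]
      exact Subgroup.zpow_mem _ (Subgroup.mem_zpowers _) k
    have hmem : φ ∈ F.homSet A B := ⟨hφF, hφB⟩
    obtain ⟨-, -, -, ψ, hψ, hψext, hψmap⟩ := h A B hAH hBH (Subgroup.isCyclic_zpowers _)
      (card_zpowers_of_pow_ex p hxex hxΩ) (Subgroup.isCyclic_zpowers _)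
      (card_zpowers_of_pow_ex p hγxex hγxΩ) hmem
    set ψS : S →* Ω := ψ.comp (Subgroup.inclusion (le_sup_right : S ≤ A ⊔ S)) with hψS
    have hψSF : ψS ∈ F.Hom S := Fusion.restrict_mem F hψ le_sup_right
    have hψSr : ψS.range = S := by
      ext y
      constructor
      · rintro ⟨s, rfl⟩
        have h0 : ψS s ∈ Subgroup.map ψ (S.subgroupOf (A ⊔ S)) :=
          ⟨Subgroup.inclusion le_sup_right s, Subgroup.mem_subgroupOf.mpr s.2, rfl⟩
        rw [hψmap] at h0
        exact h0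
      · intro hy
        have h0 : y ∈ Subgroup.map ψ (S.subgroupOf (A ⊔ S)) := by
          rw [hψmap]
          exact hy
        obtain ⟨z, hz, rfl⟩ := h0
        exact ⟨⟨z, Subgroup.mem_subgroupOf.mp hz⟩, rfl⟩
    refine ⟨Fusion.equivOfRange ψS (F.injective_of_mem hψSF) hψSr, ?_⟩
    have h1 := hψext ⟨x, Subgroup.mem_zpowers _⟩
    show ψ (Subgroup.inclusion le_sup_right ⟨x, hPS x.2⟩) = ((γ x : P) : Ω)
    have h2 : (Subgroup.inclusion (le_sup_right : S ≤ A ⊔ S) ⟨x, hPS x.2⟩) =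
        Subgroup.inclusion (le_sup_left : A ≤ A ⊔ S) ⟨x, Subgroup.mem_zpowers _⟩ := rfl
    rw [h2, h1]
    rfl
  -- the chain
  let Z : ℕ → Subgroup Ω := fun i => (Subgroup.upperCentralSeries S i).map S.subtype
  let Qs : ℕ → Subgroup Ω := fun i => X₀.map P.subtype ⊓ Z i
  have hmemZ : ∀ (i : ℕ) (s : S), (s : Ω) ∈ Z i ↔ s ∈ Subgroup.upperCentralSeries S i := by
    intro i s
    constructor
    · rintro ⟨s', hs', hss'⟩
      have : s' = s := Subtype.ext hss'
      exact this ▸ hs'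
    · intro hs
      exact ⟨s, hs, rfl⟩
  have hmemQ : ∀ (i : ℕ) (x : P), (x : Ω) ∈ Qs i ↔
      x ∈ X₀ ∧ (⟨x, hPS x.2⟩ : S) ∈ Subgroup.upperCentralSeries S i := by
    intro i x
    show (x : Ω) ∈ X₀.map P.subtype ⊓ Z i ↔ _
    rw [Subgroup.mem_inf, ← hmemZ i ⟨x, hPS x.2⟩]
    constructor
    · rintro ⟨⟨x', hx', hxx'⟩, h2⟩
      have : x' = x := Subtype.ext hxx'
      exact ⟨this ▸ hx', h2⟩
    · rintro ⟨h1, h2⟩
      exact ⟨⟨x, h1, rfl⟩, h2⟩
  have hinv : ∀ i, ∀ α ∈ F.autGroup P, ∀ x : P, (x : Ω) ∈ Qs i → ((α x : P) : Ω) ∈ Qs i := by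
    intro i α hα x hx
    rw [hmemQ] at hx ⊢
    refine ⟨hX₀inv α hα x hx.1, ?_⟩
    obtain ⟨σ, hσ⟩ := hkey α hα x hx.1
    have h1 : (⟨((α x : P) : Ω), hPS (α x).2⟩ : S) = σ ⟨x, hPS x.2⟩ := Subtype.ext hσ.symm
    rw [h1]
    have h2 := Subgroup.characteristic_iff_map_eq.mp
      (inferInstance : (Subgroup.upperCentralSeries S i).Characteristic) σ
    rw [← h2]
    exact ⟨_, hx.2, rfl⟩
  have hTΓ : autInducedBy S P ≤ F.autGroup P := Fusion.autInducedBy_le_autGroup F hPS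
  -- `Aut_S(P)` stabilizes the chain
  have hT : ∀ t ∈ autInducedBy S P, t ∈ Fusion.stabSet F P Qs := by
    intro t ht
    refine ⟨hTΓ ht, fun i x hx => ?_⟩
    rw [hmemQ] at hx ⊢
    obtain ⟨n, hnS, hn⟩ := (mem_autInducedBy_iff S P t).mp ht
    refine ⟨X₀.mul_mem (X₀.inv_mem hx.1) (hX₀inv t (hTΓ ht) x hx.1), ?_⟩
    have h1 := Subgroup.inv_mem _ hx.2
    rw [Subgroup.mem_upperCentralSeries_succ_iff] at h1
    have h2 := h1 ⟨n, hnS⟩
    have h3 : (⟨((x⁻¹ * t x : P) : Ω), hPS (x⁻¹ * t x).2⟩ : S) =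
        (⟨x, hPS x.2⟩ : S)⁻¹ * ⟨n, hnS⟩ * (⟨x, hPS x.2⟩ : S)⁻¹⁻¹ * (⟨n, hnS⟩ : S)⁻¹ := by
      apply Subtype.ext
      simp only [Subgroup.coe_mul, Subgroup.coe_inv, inv_inv]
      rw [hn x]
      group
    rw [h3]
    exact h2
  -- the stabilizer of the chain consists of `p`-elements
  obtain ⟨m, hm⟩ := IsPGroup.iff_card.mp hPp
  have hstabfix : ∀ β ∈ Fusion.stabSet F P Qs, ∀ j : ℕ, ∀ x : P, (x : Ω) ∈ Qs j →
      (β ^ ((p ^ m) ^ j)) x = x := by
    intro β hβ j
    induction j with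
    | zero =>
      intro x hx
      rw [hmemQ] at hx
      have h1 : (⟨x, hPS x.2⟩ : S) = 1 := by
        have := hx.2
        rw [Subgroup.upperCentralSeries_zero, Subgroup.mem_bot] at this
        exact this
      have h2 : x = 1 := Subtype.ext (congrArg (fun z : S => (z : Ω)) h1)
      rw [h2, map_one]
    | succ j ih =>
      intro x hx
      set γ := β ^ ((p ^ m) ^ j) with hγ
      have hγs : γ ∈ Fusion.stabSet F P Qs := Fusion.stabSet_pow F P Qs hinv hβ _
      have hz : ((x⁻¹ * γ x : P) : Ω) ∈ Qs j := hγs.2 j x hx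
      have hγz : γ (x⁻¹ * γ x) = x⁻¹ * γ x := ih _ hz
      have hpow : ∀ k : ℕ, (γ ^ k) x = x * (x⁻¹ * γ x) ^ k := by
        intro k
        induction k with
        | zero => simp
        | succ k ihk =>
          rw [pow_succ' γ, MulAut.mul_apply, ihk, map_mul, map_pow, hγz,
            pow_succ' (x⁻¹ * γ x), ← mul_assoc]
          congr 1
          group
      have h5 : β ^ ((p ^ m) ^ (j + 1)) = γ ^ (p ^ m) := by
        rw [hγ, ← pow_mul β, pow_succ]
      rw [h5, hpow, ← hm, pow_card_eq_one', mul_one]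
  have hnil : Group.IsNilpotent S := hS.isNilpotent
  obtain ⟨c, hc⟩ := hnil.nilpotent'
  have hstabp : ∀ β ∈ Fusion.stabSet F P Qs, ∃ k : ℕ, β ^ p ^ k = 1 := by
    intro β hβ
    have h1 : ∀ a ∈ X₀, (β ^ ((p ^ m) ^ c)) a = a := by
      intro a ha
      apply hstabfix β hβ c a
      rw [hmemQ]
      refine ⟨ha, ?_⟩
      rw [hc]
      trivial
    have h2 : β ^ ((p ^ m) ^ c) ∈ F.autGroup P := Subgroup.pow_mem _ hβ.1 _
    obtain ⟨k, hk⟩ := hX₀det _ h2 h1
    refine ⟨m * c + k, ?_⟩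
    rw [pow_add, pow_mul, pow_mul, hk]
  -- conclusion
  let St : Subgroup (MulAut P) := Fusion.stabSubgroup F P Qs hinv
  have hStΓ : St ≤ F.autGroup P := fun β hβ => hβ.1
  have hNp : IsPGroup p (St.subgroupOf (F.autGroup P)) := by
    rintro ⟨⟨β, hβΓ⟩, hβ⟩
    have hβ' : β ∈ Fusion.stabSet F P Qs := hβ
    obtain ⟨k, hk⟩ := hstabp β hβ'
    refine ⟨k, ?_⟩
    apply Subtype.ext
    apply Subtype.ext
    exact hk
  have hNn : (St.subgroupOf (F.autGroup P)).Normal := by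
    refine ⟨fun n hn g => ?_⟩
    rw [Subgroup.mem_subgroupOf] at hn ⊢
    have := Fusion.stabSet_conj F P Qs hinv g.2 hn
    exact this
  have hRle : (R : Subgroup (F.autGroup P)) ≤ St.subgroupOf (F.autGroup P) := by
    rw [hR]
    intro t ht
    rw [Subgroup.mem_subgroupOf] at ht ⊢
    exact hT _ ht
  have hmax := R.is_maximal' hNp hRle
  exact ⟨R, hmax ▸ hNn⟩

end Cfsg.Agent.Lead.SmallAb
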