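import Mathlib
import Cfsg.Agent.Helper8.SL2Classes

set_option autoImplicit false

/-!
Elements of order 3 of `SL₂(5)` are conjugate to their inverses.
-/

namespace Cfsg.Agent.Lead.Sp43

open Matrix

section SL2

variable {K : Type*} [Field K]

open Cfsg.Agent.Helper8.SL2C in
theorem tr_of_cube (h2 : (2 : K) ≠ 0) {x : SpecialLinearGroup (Fin 2) K} (h3 : x * x * x = 1)
    (h1 : x ≠ 1) : tr x = -1 := by
  have hd := Cfsg.Agent.Helper7.SL2.det_eq x
  have hm : (x : Matrix (Fin 2) (Fin 2) K) * x * x = 1 := by
    have := congrArg (fun y : SpecialLinearGroup (Fin 2) K => (y : Matrix (Fin 2) (Fin 2) K)) h3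
    simpa using this
  have e00 := congrFun (congrFun hm 0) 0
  have e01 := congrFun (congrFun hm 0) 1
  have e10 := congrFun (congrFun hm 1) 0
  have e11 := congrFun (congrFun hm 1) 1
  simp only [Matrix.mul_apply, Fin.sum_univ_two, Matrix.one_apply_eq,
    Matrix.one_apply_ne, ne_eq, one_ne_zero, not_false_eq_true, zero_ne_one] at e00 e01 e10 e11
  unfold tr
  set a := (x : Matrix (Fin 2) (Fin 2) K) 0 0
  set b := (x : Matrix (Fin 2) (Fin 2) K) 0 1
  set c := (x : Matrix (Fin 2) (Fin 2) K) 1 0
  set d := (x : Matrix (Fin 2) (Fin 2) K) 1 1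
  have f00 : ((a + d) ^ 2 - 1) * a - (a + d) = 1 := by
    linear_combination e00 + (a + (a + d)) * hd
  have f11 : ((a + d) ^ 2 - 1) * d - (a + d) = 1 := by
    linear_combination e11 + (d + (a + d)) * hd
  have f01 : ((a + d) ^ 2 - 1) * b = 0 := by
    linear_combination e01 + b * hd
  have f10 : ((a + d) ^ 2 - 1) * c = 0 := by
    linear_combination e10 + c * hd
  by_cases ht : (a + d) ^ 2 - 1 = 0
  · have : a + d + 1 = 0 := by
      rw [ht] at f00
      linear_combination -f00
    linear_combination this
  · exfalso
    have hb : b = 0 := by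
      rcases mul_eq_zero.mp f01 with h | h
      · exact absurd h ht
      · exact h
    have hc : c = 0 := by
      rcases mul_eq_zero.mp f10 with h | h
      · exact absurd h ht
      · exact h
    have had : a = d := by
      have : ((a + d) ^ 2 - 1) * (a - d) = 0 := by linear_combination f00 - f11
      rcases mul_eq_zero.mp this with h | h
      · exact absurd h ht
      · linear_combination h
    have ha2 : a * a = 1 := by
      rw [hb, hc, ← had] at hd
      linear_combination hd
    have ha : a = 1 ∨ a = -1 := by
      have : (a - 1) * (a + 1) = 0 := by linear_combination ha2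
      rcases mul_eq_zero.mp this with h | h
      · left; linear_combination h
      · right; linear_combination h
    rcases ha with ha | ha
    · apply h1
      ext i j
      fin_cases i <;> fin_cases j
      · exact ha
      · exact hb
      · exact hc
      · show d = 1
        rw [← had]; exact ha
    · rw [← had, ha] at f00
      exact h2 (by linear_combination -f00)

open Cfsg.Agent.Helper8.SL2C in
theorem conj_inv_of_order_three [Fintype K] (hK : Fintype.card K = 5)
    {x : SpecialLinearGroup (Fin 2) K} (hx : orderOf x = 3) :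
    ∃ c : SpecialLinearGroup (Fin 2) K, c * x * c⁻¹ = x⁻¹ := by
  have h5 : (5 : K) = 0 := by
    have := Nat.cast_card_eq_zero K
    rw [hK] at this
    exact_mod_cast this
  have h2 : (2 : K) ≠ 0 := by
    intro h
    have : (1 : K) = 0 := by linear_combination h5 - 2 * h
    exact one_ne_zero this
  have h3 : x * x * x = 1 := by
    have := pow_orderOf_eq_one x
    rw [hx] at this
    rw [← this, pow_succ, pow_two]
  have h1 : x ≠ 1 := by
    intro h
    rw [h, orderOf_one] at hx
    omega
  have ht := tr_of_cube h2 h3 h1
  have hti : tr x⁻¹ = tr x := by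
    obtain ⟨i00, -, -, i11⟩ := Cfsg.Agent.Helper7.SL2.coe_inv_apply x
    unfold tr
    rw [i00, i11, add_comm]
  have hne : tr x ^ 2 ≠ 4 := by
    rw [ht]
    intro h
    apply h2
    linear_combination h5 + h
  have hc1 := isConj_comp_of_tr_sq_ne hne
  have hc2 := isConj_comp_of_tr_sq_ne (g := x⁻¹) (by rw [hti]; exact hne)
  rw [hti] at hc2
  obtain ⟨c, hc⟩ := isConj_iff.mp (hc1.trans hc2.symm)
  exact ⟨c, hc⟩

end SL2

end Cfsg.Agent.Lead.Sp43
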