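import Mathlib

set_option autoImplicit false

/-!
Linear algebra in a four-dimensional symplectic space: the form, isometries, kernels.
-/

namespace Cfsg.Agent.Lead.Sp43

open Matrix Module

variable {F : Type*} [Field F]

/-- the index type `Fin 2 ⊕ Fin 2`. -/
abbrev I4 := Fin 2 ⊕ Fin 2

/-- the standard alternating form. -/
def B (v w : I4 → F) : F := v ⬝ᵥ (Matrix.J (Fin 2) F *ᵥ w)

theorem B_eq (v w : I4 → F) : B v w =
    -(v (Sum.inl 0) * w (Sum.inr 0)) - v (Sum.inl 1) * w (Sum.inr 1)
      + v (Sum.inr 0) * w (Sum.inl 0) + v (Sum.inr 1) * w (Sum.inl 1) := by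
  unfold B
  simp [Matrix.J, dotProduct, Matrix.mulVec, Fintype.sum_sum_type, Fin.sum_univ_two,
    Matrix.one_apply]
  ring

theorem B_add_left (v v' w : I4 → F) : B (v + v') w = B v w + B v' w := by
  simp only [B_eq, Pi.add_apply]; ring

theorem B_add_right (v w w' : I4 → F) : B v (w + w') = B v w + B v w' := by
  simp only [B_eq, Pi.add_apply]; ring

theorem B_sub_left (v v' w : I4 → F) : B (v - v') w = B v w - B v' w := by
  simp only [B_eq, Pi.sub_apply]; ring

theorem B_smul_left (c : F) (v w : I4 → F) : B (c • v) w = c * B v w := by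
  simp only [B_eq, Pi.smul_apply, smul_eq_mul]; ring

theorem B_smul_right (c : F) (v w : I4 → F) : B v (c • w) = c * B v w := by
  simp only [B_eq, Pi.smul_apply, smul_eq_mul]; ring

theorem B_self (v : I4 → F) : B v v = 0 := by
  simp only [B_eq]; ring

theorem B_swap (v w : I4 → F) : B w v = -B v w := by
  simp only [B_eq]; ring

theorem B_zero_left (w : I4 → F) : B 0 w = 0 := by
  simp only [B_eq, Pi.zero_apply]; ring

theorem B_nondeg {u : I4 → F} (h : ∀ w, B u w = 0) : u = 0 := by
  funext i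
  have h1 := h (Pi.single (Sum.inr 0) 1)
  have h2 := h (Pi.single (Sum.inr 1) 1)
  have h3 := h (Pi.single (Sum.inl 0) 1)
  have h4 := h (Pi.single (Sum.inl 1) 1)
  simp [B_eq, Pi.single_apply] at h1 h2 h3 h4
  rcases i with i | i <;> fin_cases i
  · exact h1
  · exact h2
  · exact h3
  · exact h4

theorem B_isometry {A : Matrix I4 I4 F} (hA : Aᵀ * Matrix.J (Fin 2) F * A = Matrix.J (Fin 2) F)
    (v w : I4 → F) : B (A *ᵥ v) (A *ᵥ w) = B v w := by
  unfold B
  rw [Matrix.mulVec_mulVec, ← Matrix.vecMul_transpose, ← Matrix.dotProduct_mulVec,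
    Matrix.mulVec_mulVec, ← Matrix.mul_assoc, hA]

theorem finrank_ker_comp_le {V : Type*} [AddCommGroup V] [Module F V] [FiniteDimensional F V]
    (f g : V →ₗ[F] V) :
    finrank F (LinearMap.ker (f ∘ₗ g)) ≤ finrank F (LinearMap.ker g) + finrank F (LinearMap.ker f) := by
  let h : LinearMap.ker (f ∘ₗ g) →ₗ[F] LinearMap.ker f :=
    LinearMap.codRestrict (LinearMap.ker f) (g ∘ₗ (LinearMap.ker (f ∘ₗ g)).subtype) (fun y => by
      have hy : (f ∘ₗ g) (y : V) = 0 := LinearMap.mem_ker.mp y.2
      rw [LinearMap.mem_ker]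
      exact hy)
  have h1 := LinearMap.finrank_range_add_finrank_ker h
  have h2 : finrank F (LinearMap.range h) ≤ finrank F (LinearMap.ker f) := Submodule.finrank_le _
  have h3 : finrank F (LinearMap.ker h) ≤ finrank F (LinearMap.ker g) := by
    let j : LinearMap.ker h →ₗ[F] LinearMap.ker g :=
      LinearMap.codRestrict (LinearMap.ker g) ((LinearMap.ker (f ∘ₗ g)).subtype ∘ₗ (LinearMap.ker h).subtype) (fun y => by
        have hy : h (y : LinearMap.ker (f ∘ₗ g)) = 0 := LinearMap.mem_ker.mp y.2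
        have h' : g ((y : LinearMap.ker (f ∘ₗ g)) : V) = 0 := congrArg Subtype.val hy
        rw [LinearMap.mem_ker]
        exact h')
    apply LinearMap.finrank_le_finrank_of_injective (f := j)
    intro a b hab
    have := congrArg Subtype.val hab
    simp only [j, LinearMap.codRestrict_apply, LinearMap.comp_apply, Submodule.subtype_apply] at this
    exact Subtype.ext (Subtype.ext this)
  omega

/-- an isometry of the form `1 + N` with `N` of rank one, nilpotent, is not conjugate to its
inverse by an isometry when `-1` is not a square. -/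
theorem rank_one_absurd (hsq : ∀ l : F, l ^ 2 ≠ -1)
    {A G : Matrix I4 I4 F}
    (hA : Aᵀ * Matrix.J (Fin 2) F * A = Matrix.J (Fin 2) F)
    (hG : Gᵀ * Matrix.J (Fin 2) F * G = Matrix.J (Fin 2) F)
    (hnil : (A - 1) * (A - 1) * (A - 1) = 0)
    (hAGA : A * G * A = G)
    {u : I4 → F} (hu : u ≠ 0) (c : (I4 → F) → F) (hc : ∀ v, (A - 1) *ᵥ v = c v • u)
    (hne : ∃ v, c v ≠ 0) : False := by
  have hAv : ∀ v, A *ᵥ v = v + c v • u := by
    intro v
    have := hc v
    rw [Matrix.sub_mulVec, Matrix.one_mulVec] at this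
    rw [← this]; abel
  -- c u = 0
  have hcu : c u = 0 := by
    have h1 : ((A - 1) * (A - 1) * (A - 1)) *ᵥ u = (c u * c u * c u) • u := by
      rw [← Matrix.mulVec_mulVec, ← Matrix.mulVec_mulVec, hc u, Matrix.mulVec_smul, hc u,
        Matrix.mulVec_smul, Matrix.mulVec_smul, hc u, smul_smul, smul_smul]
    rw [hnil, Matrix.zero_mulVec] at h1
    have h2 := (smul_eq_zero.mp h1.symm).resolve_right hu
    rcases mul_eq_zero.mp h2 with h | h
    · rcases mul_eq_zero.mp h with h | h <;> exact h
    · exact h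
  have hAu : A *ᵥ u = u := by rw [hAv u, hcu, zero_smul, add_zero]
  -- the relation from A G A = G
  have hrel : ∀ v, c (G *ᵥ v) • u + c v • (G *ᵥ u + c (G *ᵥ u) • u) = 0 := by
    intro v
    have h1 : (A * G * A) *ᵥ v = G *ᵥ v := by rw [hAGA]
    rw [← Matrix.mulVec_mulVec, ← Matrix.mulVec_mulVec, hAv v, Matrix.mulVec_add,
      Matrix.mulVec_smul, Matrix.mulVec_add, Matrix.mulVec_smul, hAv (G *ᵥ v),
      hAv (G *ᵥ u)] at h1
    have : G *ᵥ v + c (G *ᵥ v) • u + c v • (G *ᵥ u + c (G *ᵥ u) • u) = G *ᵥ v + 0 := by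
      rw [add_zero]; exact h1
    rw [add_assoc] at this
    exact add_left_cancel this
  have hcGu : c (G *ᵥ u) = 0 := by
    have := hrel u
    rw [hcu, zero_smul, add_zero] at this
    exact (smul_eq_zero.mp this).resolve_right hu
  obtain ⟨v₀, hv₀⟩ := hne
  -- G u = l u
  obtain ⟨l, hl⟩ : ∃ l : F, G *ᵥ u = l • u := by
    refine ⟨-(c (G *ᵥ v₀) / c v₀), ?_⟩
    have := hrel v₀
    rw [hcGu, zero_smul, add_zero] at this
    have h2 : c v₀ • (G *ᵥ u) = -(c (G *ᵥ v₀)) • u := by
      rw [neg_smul]; exact eq_neg_of_add_eq_zero_right this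
    have h3 : G *ᵥ u = (c v₀)⁻¹ • (c v₀ • (G *ᵥ u)) := by
      rw [smul_smul, inv_mul_cancel₀ hv₀, one_smul]
    rw [h3, h2, smul_smul]
    congr 1; field_simp
  have hcG : ∀ v, c (G *ᵥ v) = -(l * c v) := by
    intro v
    have := hrel v
    rw [hcGu, zero_smul, add_zero, hl, smul_smul, ← add_smul] at this
    have h2 := (smul_eq_zero.mp this).resolve_right hu
    linear_combination h2
  -- symplectic relation
  have hsym : ∀ v w, c v * B u w = c w * B u v := by
    intro v w
    have := B_isometry hA v w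
    rw [hAv v, hAv w, B_add_left, B_add_right, B_add_right, B_smul_left, B_smul_left,
      B_smul_right, B_smul_right, B_self, B_swap u v] at this
    linear_combination this
  have hGiso : ∀ v, l * B u (G *ᵥ v) = B u v := by
    intro v
    have := B_isometry hG u v
    rw [hl, B_smul_left] at this
    exact this
  obtain ⟨w₀, hw₀⟩ : ∃ w, B u w ≠ 0 := by
    by_contra hcon
    push Not at hcon
    exact hu (B_nondeg hcon)
  have hcw₀ : c w₀ ≠ 0 := by
    intro h
    have := hsym v₀ w₀
    rw [h, zero_mul] at this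
    rcases mul_eq_zero.mp this with h' | h'
    · exact hv₀ h'
    · exact hw₀ h'
  have h1 := hsym (G *ᵥ w₀) w₀
  rw [hcG w₀] at h1
  have h2 := hGiso w₀
  have h3 : (l ^ 2 + 1) * (c w₀ * B u w₀) = 0 := by
    linear_combination (-l) * h1 + (- c w₀) * h2
  rcases mul_eq_zero.mp h3 with h | h
  · exact hsq l (by linear_combination h)
  · rcases mul_eq_zero.mp h with h | h
    · exact hcw₀ h
    · exact hw₀ h

end Cfsg.Agent.Lead.Sp43
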