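import Mathlib
import Cfsg.Agent.Lead.Sp43B

set_option autoImplicit false

/-!
Unipotent elements of order three of `Sp₄(3)` that are conjugate to their inverses.
-/

namespace Cfsg.Agent.Lead.Sp43

open Matrix Module

variable {F : Type*} [Field F]

theorem nil_of_cube (h3 : (3 : F) = 0) {A : Matrix I4 I4 F} (hA3 : A * A * A = 1) :
    (A - 1) * (A - 1) * (A - 1) = 0 := by
  have e : (A - 1) * (A - 1) * (A - 1) = A * A * A - 1 - (3 : F) • (A * A) + (3 : F) • A := by
    have h3' : ((3 : F) • (A * A)) = A * A + A * A + A * A := by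
      rw [show (3 : F) = 1 + 1 + 1 by norm_num, add_smul, add_smul, one_smul]
    have h3'' : ((3 : F) • A) = A + A + A := by
      rw [show (3 : F) = 1 + 1 + 1 by norm_num, add_smul, add_smul, one_smul]
    rw [h3', h3'']
    noncomm_ring
  rw [e, hA3, h3, zero_smul, zero_smul]
  simp

theorem finrank_I4 : finrank F (I4 → F) = 4 := by
  rw [Module.finrank_fintype_fun_eq_card]
  rfl

theorem sq_ne_neg_one [Fintype F] (hF : Fintype.card F = 3) (l : F) : l ^ 2 ≠ -1 := by
  intro h
  have h3 : (3 : F) = 0 := by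
    have := Nat.cast_card_eq_zero F
    rw [hF] at this
    exact_mod_cast this
  have hl : l ^ 3 = l := by
    have := FiniteField.pow_card l
    rw [hF] at this
    exact this
  have h2l : (2 : F) * l = 0 := by
    have : l ^ 3 = -l := by rw [pow_succ, h]; ring
    rw [hl] at this
    linear_combination this
  have h2 : (2 : F) ≠ 0 := by
    intro h2
    have : (1 : F) = 0 := by linear_combination h3 - h2
    exact one_ne_zero this
  have hl0 : l = 0 := (mul_eq_zero.mp h2l).resolve_left h2
  rw [hl0] at h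
  have : (1 : F) = 0 := by linear_combination h
  exact one_ne_zero this

/-- the functional `y ↦ B y v`. -/
def Bfun (v : I4 → F) : (I4 → F) →ₗ[F] F where
  toFun y := B y v
  map_add' a b := B_add_left a b v
  map_smul' c a := by simp [B_smul_left]

theorem Bfun_apply (v y : I4 → F) : Bfun v y = B y v := rfl

theorem main_linear [Fintype F] (hF : Fintype.card F = 3)
    {A G : Matrix I4 I4 F}
    (hA : Aᵀ * Matrix.J (Fin 2) F * A = Matrix.J (Fin 2) F)
    (hG : Gᵀ * Matrix.J (Fin 2) F * G = Matrix.J (Fin 2) F)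
    (hA3 : A * A * A = 1) (hA1 : A ≠ 1) (hAGA : A * G * A = G) :
    finrank F (LinearMap.ker (Matrix.toLin' A - LinearMap.id)) = 2 ∧
      ∀ v w : I4 → F, A *ᵥ v = v → A *ᵥ w = w → v ⬝ᵥ (Matrix.J (Fin 2) F *ᵥ w) = 0 := by
  have h3 : (3 : F) = 0 := by
    have := Nat.cast_card_eq_zero F
    rw [hF] at this
    exact_mod_cast this
  have hnil := nil_of_cube h3 hA3
  obtain ⟨f, hf⟩ : ∃ f : (I4 → F) →ₗ[F] (I4 → F), f = Matrix.toLin' (A - 1) := ⟨_, rfl⟩
  have hfe : Matrix.toLin' A - LinearMap.id = f := by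
    rw [hf, map_sub, Matrix.toLin'_one]
  have hfv : ∀ v, f v = A *ᵥ v - v := by
    intro v; rw [hf, Matrix.toLin'_apply, Matrix.sub_mulVec, Matrix.one_mulVec]
  have hker : ∀ v, v ∈ LinearMap.ker f ↔ A *ᵥ v = v := by
    intro v; rw [LinearMap.mem_ker, hfv, sub_eq_zero]
  have hfff : f ∘ₗ (f ∘ₗ f) = 0 := by
    rw [hf, ← Matrix.toLin'_mul, ← Matrix.toLin'_mul, ← Matrix.mul_assoc, hnil, map_zero]
  have hdim := finrank_I4 (F := F)
  have hrn := LinearMap.finrank_range_add_finrank_ker f
  have hk2 : 4 ≤ 3 * finrank F (LinearMap.ker f) := by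
    have h1 := finrank_ker_comp_le f (f ∘ₗ f)
    have h2 := finrank_ker_comp_le f f
    rw [hfff, LinearMap.ker_zero, finrank_top, hdim] at h1
    omega
  have hk4 : finrank F (LinearMap.ker f) ≠ 4 := by
    intro h
    have : LinearMap.ker f = ⊤ := Submodule.eq_top_of_finrank_eq (by rw [h, hdim])
    have hf0 : f = 0 := LinearMap.ker_eq_top.mp this
    apply hA1
    have : A - 1 = 0 := by
      apply Matrix.toLin'.injective
      rw [← hf, hf0, map_zero]
    exact sub_eq_zero.mp this
  have hk3 : finrank F (LinearMap.ker f) ≠ 3 := by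
    intro h
    have hr1 : finrank F (LinearMap.range f) = 1 := by omega
    obtain ⟨u', hu', hspan⟩ := finrank_eq_one_iff'.mp hr1
    have hu : (u' : I4 → F) ≠ 0 := fun h => hu' (Subtype.ext h)
    have hex : ∀ v, ∃ c : F, (A - 1) *ᵥ v = c • (u' : I4 → F) := by
      intro v
      obtain ⟨c, hc⟩ := hspan ⟨f v, LinearMap.mem_range_self f v⟩
      refine ⟨c, ?_⟩
      have := congrArg Subtype.val hc
      simp only [Submodule.coe_smul] at this
      rw [this, hf, Matrix.toLin'_apply]
    choose c hc using hex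
    have hne : ∃ v, c v ≠ 0 := by
      by_contra hcon
      push Not at hcon
      have hf0 : f = 0 := by
        apply LinearMap.ext
        intro v
        rw [hf, Matrix.toLin'_apply, hc v, hcon v, zero_smul]; rfl
      rw [hf0, LinearMap.range_zero, finrank_bot] at hr1
      omega
    exact rank_one_absurd (sq_ne_neg_one hF) hA hG hnil hAGA hu c hc hne
  have hk : finrank F (LinearMap.ker f) = 2 := by
    have : finrank F (LinearMap.ker f) ≤ 4 := by rw [← hdim]; exact Submodule.finrank_le _
    omega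
  refine ⟨by rw [hfe]; exact hk, ?_⟩
  intro v w hv hw
  by_contra hB
  change B v w ≠ 0 at hB
  -- a nonzero vector orthogonal to v and w
  have hL : LinearMap.ker ((Bfun v).prod (Bfun w)) ≠ ⊥ := by
    apply LinearMap.ker_ne_bot_of_finrank_lt
    rw [hdim, Module.finrank_prod, Module.finrank_self]
    norm_num
  obtain ⟨y₀, hy₀mem, hy₀⟩ := Submodule.exists_mem_ne_zero_of_ne_bot hL
  have hy₀v : B y₀ v = 0 := by
    have := LinearMap.mem_ker.mp hy₀mem
    exact congrArg Prod.fst this
  have hy₀w : B y₀ w = 0 := by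
    have := LinearMap.mem_ker.mp hy₀mem
    exact congrArg Prod.snd this
  have hinv : ∀ y, B y v = 0 ∧ B y w = 0 → B (f y) v = 0 ∧ B (f y) w = 0 := by
    rintro y ⟨h1, h2⟩
    have e1 : B (A *ᵥ y) v = B y v := by
      have := B_isometry hA y v; rwa [hv] at this
    have e2 : B (A *ᵥ y) w = B y w := by
      have := B_isometry hA y w; rwa [hw] at this
    rw [hfv, B_sub_left, B_sub_left, e1, e2, h1, h2]
    simp
  have hf3 : ∀ y, f (f (f y)) = 0 := by
    intro y
    have := LinearMap.congr_fun hfff y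
    simpa using this
  obtain ⟨y, hy0, hfy, hyv, hyw⟩ : ∃ y, y ≠ 0 ∧ f y = 0 ∧ B y v = 0 ∧ B y w = 0 := by
    have p0 : B y₀ v = 0 ∧ B y₀ w = 0 := ⟨hy₀v, hy₀w⟩
    have p1 := hinv _ p0
    have p2 := hinv _ p1
    by_cases h2 : f (f y₀) = 0
    · by_cases h1 : f y₀ = 0
      · exact ⟨y₀, hy₀, h1, p0.1, p0.2⟩
      · exact ⟨f y₀, h1, h2, p1.1, p1.2⟩
    · exact ⟨f (f y₀), h2, hf3 y₀, p2.1, p2.2⟩
  have hyK : y ∈ LinearMap.ker f := LinearMap.mem_ker.mpr hfy
  have hvK : v ∈ LinearMap.ker f := (hker v).mpr hv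
  have hwK : w ∈ LinearMap.ker f := (hker w).mpr hw
  by_cases hli : LinearIndependent F ![y, v, w]
  · have h1 := finrank_span_eq_card hli
    have h2 : Submodule.span F (Set.range ![y, v, w]) ≤ LinearMap.ker f := by
      rw [Submodule.span_le]
      rintro _ ⟨i, rfl⟩
      fin_cases i
      · exact hyK
      · exact hvK
      · exact hwK
    have h4 := Submodule.finrank_mono h2
    rw [h1, hk] at h4
    simp at h4
  · obtain ⟨g, hg, i, hi⟩ := Fintype.not_linearIndependent_iff.mp hli
    rw [Fin.sum_univ_three] at hg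
    have hg' : g 0 • y + g 1 • v + g 2 • w = 0 := hg
    clear hg
    have hg := hg'
    have e1 : B (g 0 • y + g 1 • v + g 2 • w) v = 0 := by rw [hg, B_zero_left]
    have e2 : B (g 0 • y + g 1 • v + g 2 • w) w = 0 := by rw [hg, B_zero_left]
    rw [B_add_left, B_add_left, B_smul_left, B_smul_left, B_smul_left, hyv, B_self,
      B_swap v w] at e1
    rw [B_add_left, B_add_left, B_smul_left, B_smul_left, B_smul_left, hyw, B_self] at e2
    have g2 : g 2 = 0 := by
      have : g 2 * B v w = 0 := by linear_combination -e1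
      exact (mul_eq_zero.mp this).resolve_right hB
    have g1 : g 1 = 0 := by
      have : g 1 * B v w = 0 := by linear_combination e2
      exact (mul_eq_zero.mp this).resolve_right hB
    rw [g1, g2, zero_smul, zero_smul, add_zero, add_zero] at hg
    have g0 : g 0 = 0 := (smul_eq_zero.mp hg).resolve_right hy0
    fin_cases i
    · exact hi g0
    · exact hi g1
    · exact hi g2

end Cfsg.Agent.Lead.Sp43
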