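import Mathlib
import Cfsg.Agent.Lead.QCfgA

set_option autoImplicit false

/-!
# An abstract wreath configuration

`ι : L × L →* G` is injective, `τ` is an involution swapping the two factors, `e` is a central
involution of `L`, the centralizer of `z = ι (1, e)` is the image of `ι`, and `ι (e, e)` is central.
For a subgroup `Q ≤ L` we study `S = ι (Q × Q) ⟨τ⟩`.
-/

namespace Cfsg.Agent.Lead.Wr

variable {L G : Type*} [Group L] [Group G]

/-- the abstract wreath configuration -/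
structure Cfg (ι : L × L →* G) (τ : G) (e : L) : Prop where
  inj : Function.Injective ι
  tau_sq : τ * τ = 1
  tau_conj : ∀ x y : L, τ * ι (x, y) * τ⁻¹ = ι (y, x)
  e_sq : e * e = 1
  e_ne : e ≠ 1
  e_cen : ∀ x : L, Commute e x
  cent_z : ∀ g : G, Commute g (ι (1, e)) → ∃ x y : L, g = ι (x, y)
  eps_cen : ∀ g : G, Commute g (ι (e, e))

variable {ι : L × L →* G} {τ : G} {e : L}

namespace Cfg

theorem io_mul (_c : Cfg ι τ e) (x y x' y' : L) : ι (x, y) * ι (x', y') = ι (x * x', y * y') := by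
  rw [← map_mul, Prod.mk_mul_mk]

theorem io_inv (_c : Cfg ι τ e) (x y : L) : (ι (x, y))⁻¹ = ι (x⁻¹, y⁻¹) := by
  rw [← map_inv, Prod.inv_mk]

theorem io_one (_c : Cfg ι τ e) : ι (1, 1) = 1 := by
  rw [← Prod.one_eq_mk, map_one]

theorem io_eq (c : Cfg ι τ e) {x y x' y' : L} (h : ι (x, y) = ι (x', y')) : x = x' ∧ y = y' := by
  have := c.inj h
  exact ⟨congrArg Prod.fst this, congrArg Prod.snd this⟩

theorem io_conj (c : Cfg ι τ e) (a b x y : L) :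
    ι (a, b) * ι (x, y) * (ι (a, b))⁻¹ = ι (a * x * a⁻¹, b * y * b⁻¹) := by
  rw [c.io_inv, c.io_mul, c.io_mul]

theorem tau_inv (c : Cfg ι τ e) : τ⁻¹ = τ := inv_eq_of_mul_eq_one_right c.tau_sq

theorem tau_mul (c : Cfg ι τ e) (x y : L) : τ * ι (x, y) = ι (y, x) * τ := by
  have h := c.tau_conj x y
  calc τ * ι (x, y) = (τ * ι (x, y) * τ⁻¹) * τ := by group
    _ = ι (y, x) * τ := by rw [h]

theorem io_pow (c : Cfg ι τ e) (x y : L) (n : ℕ) : ι (x, y) ^ n = ι (x ^ n, y ^ n) := by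
  induction n with
  | zero => rw [pow_zero, pow_zero, pow_zero, c.io_one]
  | succ n ih => rw [pow_succ, ih, c.io_mul, ← pow_succ, ← pow_succ]

/-- `τ` is not in the image of `ι` -/
theorem tau_ne (c : Cfg ι τ e) (x y : L) : τ ≠ ι (x, y) := by
  intro h
  have h1 := c.tau_conj 1 e
  rw [h, c.io_conj] at h1
  have h2 := (c.io_eq h1).1
  rw [mul_one, mul_inv_cancel] at h2
  exact c.e_ne h2.symm

theorem io_tau_ne (c : Cfg ι τ e) (x y x' y' : L) : ι (x, y) * τ ≠ ι (x', y') := by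
  intro h
  apply c.tau_ne (x⁻¹ * x') (y⁻¹ * y')
  rw [← c.io_mul, ← c.io_inv, ← h]
  group

/-- conjugation by `ι (a, b) τ` -/
theorem io_tau_conj (c : Cfg ι τ e) (a b x y : L) :
    (ι (a, b) * τ) * ι (x, y) * (ι (a, b) * τ)⁻¹ = ι (a * y * a⁻¹, b * x * b⁻¹) := by
  have h := c.tau_conj x y
  calc (ι (a, b) * τ) * ι (x, y) * (ι (a, b) * τ)⁻¹
      = ι (a, b) * (τ * ι (x, y) * τ⁻¹) * (ι (a, b))⁻¹ := by group
    _ = ι (a * y * a⁻¹, b * x * b⁻¹) := by rw [h, c.io_conj]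

/-- the subgroup `ι (Q × Q) ⟨τ⟩` -/
def S (c : Cfg ι τ e) (Q : Subgroup L) : Subgroup G where
  carrier := {g | ∃ x ∈ Q, ∃ y ∈ Q, g = ι (x, y) ∨ g = ι (x, y) * τ}
  one_mem' := ⟨1, Q.one_mem, 1, Q.one_mem, Or.inl c.io_one.symm⟩
  mul_mem' := by
    rintro _ _ ⟨x, hx, y, hy, rfl | rfl⟩ ⟨x', hx', y', hy', rfl | rfl⟩
    · exact ⟨x * x', Q.mul_mem hx hx', y * y', Q.mul_mem hy hy', Or.inl (c.io_mul _ _ _ _)⟩
    · refine ⟨x * x', Q.mul_mem hx hx', y * y', Q.mul_mem hy hy', Or.inr ?_⟩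
      rw [← mul_assoc, c.io_mul]
    · refine ⟨x * y', Q.mul_mem hx hy', y * x', Q.mul_mem hy hx', Or.inr ?_⟩
      rw [mul_assoc, c.tau_mul, ← mul_assoc, c.io_mul]
    · refine ⟨x * y', Q.mul_mem hx hy', y * x', Q.mul_mem hy hx', Or.inl ?_⟩
      calc ι (x, y) * τ * (ι (x', y') * τ) = ι (x, y) * (τ * ι (x', y')) * τ := by group
        _ = ι (x, y) * (ι (y', x') * τ) * τ := by rw [c.tau_mul]
        _ = ι (x, y) * ι (y', x') * (τ * τ) := by group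
        _ = ι (x * y', y * x') := by rw [c.tau_sq, mul_one, c.io_mul]
  inv_mem' := by
    rintro _ ⟨x, hx, y, hy, rfl | rfl⟩
    · exact ⟨x⁻¹, Q.inv_mem hx, y⁻¹, Q.inv_mem hy, Or.inl (c.io_inv _ _)⟩
    · refine ⟨y⁻¹, Q.inv_mem hy, x⁻¹, Q.inv_mem hx, Or.inr ?_⟩
      rw [_root_.mul_inv_rev, c.tau_inv, c.io_inv, c.tau_mul]

theorem mem_S (c : Cfg ι τ e) (Q : Subgroup L) {g : G} :
    g ∈ c.S Q ↔ ∃ x ∈ Q, ∃ y ∈ Q, g = ι (x, y) ∨ g = ι (x, y) * τ := Iff.rfl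

theorem io_mem_S (c : Cfg ι τ e) (Q : Subgroup L) {x y : L} :
    ι (x, y) ∈ c.S Q ↔ x ∈ Q ∧ y ∈ Q := by
  constructor
  · rintro ⟨x', hx', y', hy', h | h⟩
    · obtain ⟨rfl, rfl⟩ := c.io_eq h
      exact ⟨hx', hy'⟩
    · exact absurd h.symm (c.io_tau_ne _ _ _ _)
  · rintro ⟨hx, hy⟩
    exact ⟨x, hx, y, hy, Or.inl rfl⟩

theorem io_tau_mem_S (c : Cfg ι τ e) (Q : Subgroup L) {x y : L} :
    ι (x, y) * τ ∈ c.S Q ↔ x ∈ Q ∧ y ∈ Q := by
  constructor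
  · rintro ⟨x', hx', y', hy', h | h⟩
    · exact absurd h (c.io_tau_ne _ _ _ _)
    · obtain ⟨rfl, rfl⟩ := c.io_eq (mul_right_cancel h)
      exact ⟨hx', hy'⟩
  · rintro ⟨hx, hy⟩
    exact ⟨x, hx, y, hy, Or.inr rfl⟩

theorem tau_mem_S (c : Cfg ι τ e) (Q : Subgroup L) : τ ∈ c.S Q := by
  have := (c.io_tau_mem_S Q (x := 1) (y := 1)).mpr ⟨Q.one_mem, Q.one_mem⟩
  rwa [c.io_one, one_mul] at this

/-- the central subgroup `{1, ι (e, e)}` -/
def Z (c : Cfg ι τ e) : Subgroup G where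
  carrier := {g | g = 1 ∨ g = ι (e, e)}
  one_mem' := Or.inl rfl
  mul_mem' := by
    rintro _ _ (rfl | rfl) (rfl | rfl)
    · left; rw [one_mul]
    · right; rw [one_mul]
    · right; rw [mul_one]
    · left; rw [c.io_mul, c.e_sq, c.io_one]
  inv_mem' := by
    rintro _ (rfl | rfl)
    · left; rw [inv_one]
    · right
      rw [c.io_inv, inv_eq_of_mul_eq_one_right c.e_sq]

theorem mem_Z (c : Cfg ι τ e) {g : G} : g ∈ c.Z ↔ g = 1 ∨ g = ι (e, e) := Iff.rfl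

theorem Z_le_center (c : Cfg ι τ e) : c.Z ≤ Subgroup.center G := by
  rintro _ (rfl | rfl)
  · exact Subgroup.one_mem _
  · rw [Subgroup.mem_center_iff]
    intro g
    exact (c.eps_cen g).eq

theorem Z_le_S (c : Cfg ι τ e) (Q : Subgroup L) (heQ : e ∈ Q) : c.Z ≤ c.S Q := by
  rintro _ (rfl | rfl)
  · exact Subgroup.one_mem _
  · exact (c.io_mem_S Q).mpr ⟨heQ, heQ⟩

/-- membership of `ι (u, v)` in `Z` -/
theorem io_mem_Z (c : Cfg ι τ e) {u v : L} (h : ι (u, v) ∈ c.Z) : (u = 1 ∧ v = 1) ∨ (u = e ∧ v = e) := by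
  rcases h with h | h
  · left
    rw [← c.io_one] at h
    exact c.io_eq h
  · right
    exact c.io_eq h

theorem conj_mem_Z (c : Cfg ι τ e) {x : G} (hx : x ∈ c.Z) (n : G) : n * x * n⁻¹ ∈ c.Z := by
  have h1 := Subgroup.mem_center_iff.mp (c.Z_le_center hx) n
  have h2 : n * x * n⁻¹ = x := by
    rw [h1]; group
  rw [h2]
  exact hx

/-- `S` is a `2`-group -/
theorem isPGroup_S (c : Cfg ι τ e) (Q : Subgroup L) (hQ : IsPGroup 2 Q) : IsPGroup 2 (c.S Q) := by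
  have hpow : ∀ x ∈ Q, ∃ k : ℕ, x ^ 2 ^ k = 1 := by
    intro x hx
    obtain ⟨k, hk⟩ := hQ ⟨x, hx⟩
    refine ⟨k, ?_⟩
    have := congrArg Subtype.val hk
    simpa using this
  have hio : ∀ x ∈ Q, ∀ y ∈ Q, ∃ k : ℕ, ι (x, y) ^ 2 ^ k = 1 := by
    intro x hx y hy
    obtain ⟨k, hk⟩ := hpow x hx
    obtain ⟨l, hl⟩ := hpow y hy
    refine ⟨k + l, ?_⟩
    rw [c.io_pow, pow_add, pow_mul, hk, one_pow, mul_comm, pow_mul, hl, one_pow, c.io_one]
  rintro ⟨g, x, hx, y, hy, rfl | rfl⟩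
  · obtain ⟨k, hk⟩ := hio x hx y hy
    exact ⟨k, Subtype.ext hk⟩
  · obtain ⟨k, hk⟩ := hio (x * y) (Q.mul_mem hx hy) (y * x) (Q.mul_mem hy hx)
    refine ⟨k + 1, Subtype.ext ?_⟩
    show (ι (x, y) * τ) ^ 2 ^ (k + 1) = 1
    have h1 : (ι (x, y) * τ) ^ 2 = ι (x * y, y * x) := by
      rw [pow_two]
      calc ι (x, y) * τ * (ι (x, y) * τ) = ι (x, y) * (τ * ι (x, y)) * τ := by group
        _ = ι (x, y) * (ι (y, x) * τ) * τ := by rw [c.tau_mul]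
        _ = ι (x, y) * ι (y, x) * (τ * τ) := by group
        _ = ι (x * y, y * x) := by rw [c.tau_sq, mul_one, c.io_mul]
    rw [pow_succ, mul_comm, pow_mul, h1, hk]

/-- `z = ι (1, e)` is central modulo `Z` -/
theorem z_comm (c : Cfg ι τ e) (Q : Subgroup L) {r : G} (hr : r ∈ c.S Q) :
    ι (1, e) * r * (ι (1, e))⁻¹ * r⁻¹ ∈ c.Z := by
  obtain ⟨x, -, y, -, rfl | rfl⟩ := hr
  · left
    rw [c.io_inv, c.io_inv, c.io_mul, c.io_mul, c.io_mul]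
    have h1 : e * y * e⁻¹ * y⁻¹ = 1 := by
      rw [(c.e_cen y).eq]; group
    rw [h1]
    have h2 : 1 * x * 1⁻¹ * x⁻¹ = 1 := by group
    rw [h2, c.io_one]
  · right
    have h1 : ι (1, e) * (ι (x, y) * τ) * (ι (1, e))⁻¹ * (ι (x, y) * τ)⁻¹ =
        ι (1, e) * ((ι (x, y) * τ) * (ι (1, e))⁻¹ * (ι (x, y) * τ)⁻¹) := by group
    rw [h1, c.io_inv, c.io_tau_conj, c.io_mul]
    have he : e⁻¹ = e := inv_eq_of_mul_eq_one_right c.e_sq
    have h2 : x * e⁻¹ * x⁻¹ = e := by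
      rw [he, ← (c.e_cen x).eq]; group
    have h3 : e * (y * 1⁻¹ * y⁻¹) = e := by group
    rw [h2, h3, one_mul]

/-- the second centre of `S`: elements of `S` central modulo `Z` -/
theorem mem_Z2 (c : Cfg ι τ e) (Q : Subgroup L)
    (hcen : ∀ x ∈ Q, (∀ y ∈ Q, Commute x y) → x = 1 ∨ x = e)
    (hne : ∃ v ∈ Q, v ≠ 1 ∧ v ≠ e) {s : G} (hs : s ∈ c.S Q)
    (h : ∀ r ∈ c.S Q, s * r * s⁻¹ * r⁻¹ ∈ c.Z) :
    ∃ u v : L, (u = 1 ∨ u = e) ∧ (v = 1 ∨ v = e) ∧ s = ι (u, v) := by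
  have he : e⁻¹ = e := inv_eq_of_mul_eq_one_right c.e_sq
  obtain ⟨a, ha, b, hb, rfl | rfl⟩ := hs
  · refine ⟨a, b, ?_, ?_, rfl⟩
    · apply hcen a ha
      intro x hx
      have h1 := h (ι (x, 1)) ((c.io_mem_S Q).mpr ⟨hx, Q.one_mem⟩)
      rw [c.io_conj, c.io_inv, c.io_mul] at h1
      rcases c.io_mem_Z h1 with ⟨h2, -⟩ | ⟨-, h2⟩
      · show a * x = x * a
        calc a * x = (a * x * a⁻¹ * x⁻¹) * (x * a) := by group
          _ = x * a := by rw [h2, one_mul]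
      · exfalso
        apply c.e_ne
        rw [← h2]; group
    · apply hcen b hb
      intro y hy
      have h1 := h (ι (1, y)) ((c.io_mem_S Q).mpr ⟨Q.one_mem, hy⟩)
      rw [c.io_conj, c.io_inv, c.io_mul] at h1
      rcases c.io_mem_Z h1 with ⟨-, h2⟩ | ⟨h2, -⟩
      · show b * y = y * b
        calc b * y = (b * y * b⁻¹ * y⁻¹) * (y * b) := by group
          _ = y * b := by rw [h2, one_mul]
      · exfalso
        apply c.e_ne
        rw [← h2]; group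
  · exfalso
    obtain ⟨v, hv, hv1, hve⟩ := hne
    have h1 := h (ι (v, 1)) ((c.io_mem_S Q).mpr ⟨hv, Q.one_mem⟩)
    rw [c.io_tau_conj, c.io_inv, c.io_mul] at h1
    rcases c.io_mem_Z h1 with ⟨h2, -⟩ | ⟨h2, -⟩
    · apply hv1
      have h3 : a * 1 * a⁻¹ * v⁻¹ = v⁻¹ := by group
      rw [h3] at h2
      exact inv_eq_one.mp h2
    · apply hve
      have h3 : a * 1 * a⁻¹ * v⁻¹ = v⁻¹ := by group
      rw [h3] at h2
      rw [← inv_inv v, h2, he]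

end Cfg

end Cfsg.Agent.Lead.Wr
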