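import Mathlib
import Cfsg.Agent.Lead.WrCfgA

set_option autoImplicit false

/-!
# The normalizer of `S = ι (Q × Q) ⟨τ⟩` in an abstract wreath configuration
-/

namespace Cfsg.Agent.Lead.Wr

variable {L G : Type*} [Group L] [Group G]

variable {ι : L × L →* G} {τ : G} {e : L}

namespace Cfg

/-- an element `ι (g₁, g₂)` normalizing `S` -/
theorem normalizer_io (c : Cfg ι τ e) (Q : Subgroup L) {g₁ g₂ : L}
    (hn : ι (g₁, g₂) ∈ Subgroup.normalizer (c.S Q : Set G)) :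
    g₁ ∈ Subgroup.normalizer (Q : Set L) ∧ g₂ ∈ Subgroup.normalizer (Q : Set L) ∧
      g₁ * g₂⁻¹ ∈ Q := by
  have hn' := Subgroup.mem_normalizer_iff.mp hn
  refine ⟨?_, ?_, ?_⟩
  · rw [Subgroup.mem_normalizer_iff]
    intro x
    have h1 := hn' (ι (x, 1))
    rw [c.io_conj, c.io_mem_S, c.io_mem_S] at h1
    have h2 : g₂ * 1 * g₂⁻¹ = 1 := by group
    rw [h2] at h1
    constructor
    · intro hx
      exact (h1.mp ⟨hx, Q.one_mem⟩).1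
    · intro hx
      exact (h1.mpr ⟨hx, Q.one_mem⟩).1
  · rw [Subgroup.mem_normalizer_iff]
    intro x
    have h1 := hn' (ι (1, x))
    rw [c.io_conj, c.io_mem_S, c.io_mem_S] at h1
    have h2 : g₁ * 1 * g₁⁻¹ = 1 := by group
    rw [h2] at h1
    constructor
    · intro hx
      exact (h1.mp ⟨Q.one_mem, hx⟩).2
    · intro hx
      exact (h1.mpr ⟨Q.one_mem, hx⟩).2
  · have h1 := (hn' τ).mp (c.tau_mem_S Q)
    have h2 : ι (g₁, g₂) * τ * (ι (g₁, g₂))⁻¹ = ι (g₁ * g₂⁻¹, g₂ * g₁⁻¹) * τ := by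
      rw [c.io_inv, mul_assoc, c.tau_mul, ← mul_assoc, c.io_mul]
    rw [h2, c.io_tau_mem_S] at h1
    exact h1.1

/-- the structure of the normalizer of `S` -/
theorem normalizer_S (c : Cfg ι τ e) (Q : Subgroup L) (heQ : e ∈ Q)
    (hcen : ∀ x ∈ Q, (∀ y ∈ Q, Commute x y) → x = 1 ∨ x = e)
    (hne : ∃ v ∈ Q, v ≠ 1 ∧ v ≠ e) {n : G}
    (hn : n ∈ Subgroup.normalizer (c.S Q : Set G)) :
    ∃ g₁ g₂ : L, g₁ ∈ Subgroup.normalizer (Q : Set L) ∧ g₂ ∈ Subgroup.normalizer (Q : Set L) ∧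
      g₁ * g₂⁻¹ ∈ Q ∧ (n = ι (g₁, g₂) ∨ n = ι (g₁, g₂) * τ) := by
  have hn' := Subgroup.mem_normalizer_iff.mp hn
  have hninv : n⁻¹ ∈ Subgroup.normalizer (c.S Q : Set G) := Subgroup.inv_mem _ hn
  have hninv' := Subgroup.mem_normalizer_iff.mp hninv
  have hzS : ι (1, e) ∈ c.S Q := (c.io_mem_S Q).mpr ⟨Q.one_mem, heQ⟩
  have hz'S : n * ι (1, e) * n⁻¹ ∈ c.S Q := (hn' _).mp hzS
  have hz'c : ∀ r ∈ c.S Q, (n * ι (1, e) * n⁻¹) * r * (n * ι (1, e) * n⁻¹)⁻¹ * r⁻¹ ∈ c.Z := by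
    intro r hr
    have hr' : n⁻¹ * r * n⁻¹⁻¹ ∈ c.S Q := (hninv' r).mp hr
    have h1 := c.z_comm Q hr'
    have h2 := c.conj_mem_Z h1 n
    convert h2 using 1
    group
  obtain ⟨u, v, hu, hv, huv⟩ := c.mem_Z2 Q hcen hne hz'S hz'c
  have hz_of : n * ι (1, e) * n⁻¹ = ι (1, e) → ∃ x y : L, n = ι (x, y) := by
    intro h
    apply c.cent_z
    show n * ι (1, e) = ι (1, e) * n
    calc n * ι (1, e) = (n * ι (1, e) * n⁻¹) * n := by group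
      _ = ι (1, e) * n := by rw [h]
  have hcases : (∃ x y : L, n = ι (x, y)) ∨ (∃ x y : L, n = ι (x, y) * τ) := by
    rcases hu with hu | hu <;> rcases hv with hv | hv <;> rw [hu, hv] at huv
    · exfalso
      rw [c.io_one] at huv
      have h1 : ι (1, e) = 1 := by
        calc ι (1, e) = n⁻¹ * (n * ι (1, e) * n⁻¹) * n := by group
          _ = 1 := by rw [huv]; group
      rw [← c.io_one] at h1
      exact c.e_ne (c.io_eq h1).2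
    · exact Or.inl (hz_of huv)
    · right
      have h1 : (τ * n) * ι (1, e) * (τ * n)⁻¹ = ι (1, e) := by
        calc (τ * n) * ι (1, e) * (τ * n)⁻¹ = τ * (n * ι (1, e) * n⁻¹) * τ⁻¹ := by group
          _ = ι (1, e) := by rw [huv, c.tau_conj]
      have h2 : ∃ x y : L, τ * n = ι (x, y) := by
        apply c.cent_z
        show τ * n * ι (1, e) = ι (1, e) * (τ * n)
        calc τ * n * ι (1, e) = ((τ * n) * ι (1, e) * (τ * n)⁻¹) * (τ * n) := by group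
          _ = ι (1, e) * (τ * n) := by rw [h1]
      obtain ⟨x, y, hxy⟩ := h2
      refine ⟨y, x, ?_⟩
      rw [← c.tau_mul, ← hxy, ← mul_assoc, c.tau_sq, one_mul]
    · exfalso
      have h1 : ι (1, e) = ι (e, e) := by
        have h2 := (c.eps_cen n⁻¹).eq
        calc ι (1, e) = n⁻¹ * (n * ι (1, e) * n⁻¹) * n := by group
          _ = n⁻¹ * ι (e, e) * n := by rw [huv]
          _ = ι (e, e) * n⁻¹ * n := by rw [h2]
          _ = ι (e, e) := by group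
      exact c.e_ne (c.io_eq h1).1.symm
  rcases hcases with ⟨x, y, rfl⟩ | ⟨x, y, rfl⟩
  · obtain ⟨h1, h2, h3⟩ := c.normalizer_io Q hn
    exact ⟨x, y, h1, h2, h3, Or.inl rfl⟩
  · have hτ : τ⁻¹ ∈ Subgroup.normalizer (c.S Q : Set G) :=
      Subgroup.inv_mem _ (Subgroup.le_normalizer (c.tau_mem_S Q))
    have h0 := Subgroup.mul_mem _ hn hτ
    rw [mul_assoc, mul_inv_cancel, mul_one] at h0
    obtain ⟨h1, h2, h3⟩ := c.normalizer_io Q h0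
    exact ⟨x, y, h1, h2, h3, Or.inr rfl⟩

/-- Case A: if `N_L(Q) = Q` then `N_G(S) = S` -/
theorem normalizer_S_caseA (c : Cfg ι τ e) (Q : Subgroup L) (heQ : e ∈ Q)
    (hcen : ∀ x ∈ Q, (∀ y ∈ Q, Commute x y) → x = 1 ∨ x = e)
    (hne : ∃ v ∈ Q, v ≠ 1 ∧ v ≠ e) (hNQ : Subgroup.normalizer (Q : Set L) ≤ Q) :
    Subgroup.normalizer (c.S Q : Set G) ≤ c.S Q := by
  intro n hn
  obtain ⟨g₁, g₂, h1, h2, -, rfl | rfl⟩ := c.normalizer_S Q heQ hcen hne hn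
  · exact (c.io_mem_S Q).mpr ⟨hNQ h1, hNQ h2⟩
  · exact (c.io_tau_mem_S Q).mpr ⟨hNQ h1, hNQ h2⟩

theorem io_zpow (c : Cfg ι τ e) (x y : L) (n : ℤ) : ι (x, y) ^ n = ι (x ^ n, y ^ n) := by
  cases n with
  | ofNat n => simp only [Int.ofNat_eq_natCast, zpow_natCast]; exact c.io_pow x y n
  | negSucc n => simp only [zpow_negSucc]; rw [c.io_pow, c.io_inv]

/-- Case B: if `N_L(Q) = ⟨a⟩ Q` with `a` of order three then `N_G(S) = ⟨ι (a, a)⟩ S` -/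
theorem normalizer_S_caseB (c : Cfg ι τ e) (Q : Subgroup L) (hQ : IsPGroup 2 Q) (heQ : e ∈ Q)
    (hcen : ∀ x ∈ Q, (∀ y ∈ Q, Commute x y) → x = 1 ∨ x = e)
    (hne : ∃ v ∈ Q, v ≠ 1 ∧ v ≠ e) (a : L) (ha3 : a ^ 3 = 1)
    (haN : a ∈ Subgroup.normalizer (Q : Set L))
    (hNQ : ∀ g ∈ Subgroup.normalizer (Q : Set L), ∃ k : ℤ, ∃ x ∈ Q, g = a ^ k * x) {n : G}
    (hn : n ∈ Subgroup.normalizer (c.S Q : Set G)) :
    ∃ k : ℤ, ∃ s ∈ c.S Q, n = ι (a, a) ^ k * s := by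
  obtain ⟨g₁, g₂, h1, h2, h3, h4⟩ := c.normalizer_S Q heQ hcen hne hn
  obtain ⟨k, x₁, hx₁, rfl⟩ := hNQ g₁ h1
  obtain ⟨l, x₂, hx₂, rfl⟩ := hNQ g₂ h2
  -- `a ^ (k - l) ∈ Q`
  have hakN : a ^ k ∈ Subgroup.normalizer (Q : Set L) := Subgroup.zpow_mem _ haN k
  have h5 : a ^ (k - l) ∈ Q := by
    have h6 : a ^ k * (x₁ * x₂⁻¹) * (a ^ k)⁻¹ ∈ Q :=
      (Subgroup.mem_normalizer_iff.mp hakN _).mp (Q.mul_mem hx₁ (Q.inv_mem hx₂))
    have h7 : a ^ (k - l) = (a ^ k * (x₁ * x₂⁻¹) * (a ^ k)⁻¹)⁻¹ * (a ^ k * x₁ * (a ^ l * x₂)⁻¹) := by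
      rw [zpow_sub]; group
    rw [h7]
    exact Q.mul_mem (Q.inv_mem h6) h3
  have h6 : a ^ (k - l) = 1 := by
    obtain ⟨m, hm⟩ := hQ ⟨_, h5⟩
    have hm' : (a ^ (k - l)) ^ 2 ^ m = 1 := by
      have := congrArg Subtype.val hm
      simpa using this
    have h3' : (a ^ (k - l)) ^ 3 = 1 := by
      rw [← zpow_natCast, ← zpow_mul, mul_comm, zpow_mul, zpow_natCast, ha3, one_zpow]
    have hcop : Nat.Coprime (2 ^ m) 3 := Nat.Coprime.pow_left m (by norm_num)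
    have h8 : orderOf (a ^ (k - l)) ∣ Nat.gcd (2 ^ m) 3 :=
      Nat.dvd_gcd (orderOf_dvd_of_pow_eq_one hm') (orderOf_dvd_of_pow_eq_one h3')
    rw [hcop.gcd_eq_one, Nat.dvd_one] at h8
    exact orderOf_eq_one_iff.mp h8
  have h7 : a ^ l = a ^ k := by
    have : a ^ k = a ^ (k - l) * a ^ l := by rw [← zpow_add, sub_add_cancel]
    rw [this, h6, one_mul]
  rw [h7] at h4
  have h8 : ι (a ^ k * x₁, a ^ k * x₂) = ι (a, a) ^ k * ι (x₁, x₂) := by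
    rw [c.io_zpow, c.io_mul]
  rw [h8] at h4
  rcases h4 with rfl | rfl
  · exact ⟨k, _, (c.io_mem_S Q).mpr ⟨hx₁, hx₂⟩, rfl⟩
  · exact ⟨k, _, (c.io_tau_mem_S Q).mpr ⟨hx₁, hx₂⟩, by rw [mul_assoc]⟩

end Cfg

end Cfsg.Agent.Lead.Wr
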