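import Mathlib
import Cfsg.Agent.Lead.WrCfgB
import Cfsg.Agent.Helper5.PGroupCenter

set_option autoImplicit false

/-!
# Strongly closed subgroups of `S = ι (Q × Q) ⟨τ⟩` containing the centre
-/

namespace Cfsg.Agent.Lead.Wr

/-- a normal subgroup of a `p`-group `S` properly containing a central subgroup `Z` contains an
element outside `Z` which is central modulo `Z` -/
theorem exists_central_mod {G : Type*} [Group G] [Finite G] {p : ℕ} [Fact p.Prime]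
    {S : Subgroup G} (hS : IsPGroup p S) (Z T : Subgroup G) (hZc : Z ≤ Subgroup.center G)
    (hZT : Z ≤ T) (hTS : T ≤ S) (hTn : ∀ x ∈ T, ∀ s ∈ S, s * x * s⁻¹ ∈ T) (hne : T ≠ Z) :
    ∃ x ∈ T, x ∉ Z ∧ ∀ r ∈ S, x * r * x⁻¹ * r⁻¹ ∈ Z := by
  haveI hZn : (Z.subgroupOf S).Normal := by
    constructor
    intro x hx u
    rw [Subgroup.mem_subgroupOf] at hx ⊢
    have h1 : ((u * x * u⁻¹ : S) : G) = (u : G) * (x : G) * (u : G)⁻¹ := rfl
    rw [h1]
    have h2 := Subgroup.mem_center_iff.mp (hZc hx) (u : G)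
    have h3 : (u : G) * (x : G) * (u : G)⁻¹ = x := by
      rw [h2]; group
    rw [h3]; exact hx
  have hTn' : (T.subgroupOf S).Normal := by
    constructor
    intro x hx u
    rw [Subgroup.mem_subgroupOf] at hx ⊢
    have h1 : ((u * x * u⁻¹ : S) : G) = (u : G) * (x : G) * (u : G)⁻¹ := rfl
    rw [h1]
    exact hTn _ hx _ u.2
  set π := QuotientGroup.mk' (Z.subgroupOf S) with hπ
  have hsurj : Function.Surjective π := QuotientGroup.mk'_surjective _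
  haveI hNn : ((T.subgroupOf S).map π).Normal := hTn'.map π hsurj
  have hP : IsPGroup p (S ⧸ Z.subgroupOf S) := hS.to_quotient _
  have hN1 : (T.subgroupOf S).map π ≠ ⊥ := by
    intro h
    apply hne
    apply le_antisymm _ hZT
    intro x hx
    have hxS : x ∈ S := hTS hx
    have h1 : π ⟨x, hxS⟩ ∈ (T.subgroupOf S).map π :=
      ⟨⟨x, hxS⟩, Subgroup.mem_subgroupOf.mpr hx, rfl⟩
    rw [h, Subgroup.mem_bot, hπ, QuotientGroup.mk'_apply, QuotientGroup.eq_one_iff,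
      Subgroup.mem_subgroupOf] at h1
    exact h1
  obtain ⟨xb, hxN, hx1, hxc⟩ :=
    Cfsg.Agent.Helper5.exists_ne_one_mem_center_of_normal hP ((T.subgroupOf S).map π) hN1
  obtain ⟨x, hxT, rfl⟩ := hxN
  refine ⟨x, Subgroup.mem_subgroupOf.mp hxT, ?_, ?_⟩
  · intro hxZ
    apply hx1
    rw [hπ, QuotientGroup.mk'_apply, QuotientGroup.eq_one_iff, Subgroup.mem_subgroupOf]
    exact hxZ
  · intro r hr
    have h1 := hxc (π ⟨r, hr⟩)
    have h2 : π (x * ⟨r, hr⟩ * x⁻¹ * (⟨r, hr⟩ : S)⁻¹) = 1 := by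
      rw [map_mul, map_mul, map_mul, map_inv, map_inv, ← h1]
      group
    rw [hπ, QuotientGroup.mk'_apply, QuotientGroup.eq_one_iff, Subgroup.mem_subgroupOf] at h2
    exact h2

variable {L G : Type*} [Group L] [Group G]

variable {ι : L × L →* G} {τ : G} {e : L}

namespace Cfg

/-- the basic hypotheses on `Q` hold for the quaternion configuration -/
theorem hcen_Q (_c : Cfg ι τ e) {j w : L} (q : QC.Cfg j w e) :
    ∀ x ∈ q.Q, (∀ y ∈ q.Q, Commute x y) → x = 1 ∨ x = e := by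
  intro x _ hx
  exact q.center_Q (hx j q.j_mem_Q) (hx w q.w_mem_Q)

theorem hne_Q (_c : Cfg ι τ e) {j w : L} (q : QC.Cfg j w e) : ∃ v ∈ q.Q, v ≠ 1 ∧ v ≠ e :=
  ⟨j, q.j_mem_Q, q.j_ne_one, q.j_ne_e⟩

/-- strongly closed subgroups containing `Z` -/
theorem closed_S [Finite G] (c : Cfg ι τ e) {j w : L} (q : QC.Cfg j w e) (h : G)
    (hh : h * ι (1, e) * h⁻¹ = τ) (T : Subgroup G) (hZT : c.Z ≤ T) (hTS : T ≤ c.S q.Q)
    (hcl : ∀ x ∈ T, ∀ g : G, g * x * g⁻¹ ∈ c.S q.Q → g * x * g⁻¹ ∈ T) :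
    T = c.Z ∨ T = c.S q.Q := by
  haveI : Fact (Nat.Prime 2) := ⟨Nat.prime_two⟩
  by_cases hTZ : T = c.Z
  · exact Or.inl hTZ
  right
  have hSp : IsPGroup 2 (c.S q.Q) := c.isPGroup_S q.Q q.isPGroup_Q
  have hTn : ∀ x ∈ T, ∀ s ∈ c.S q.Q, s * x * s⁻¹ ∈ T := by
    intro x hx s hs
    apply hcl x hx s
    exact (c.S q.Q).mul_mem ((c.S q.Q).mul_mem hs (hTS hx)) ((c.S q.Q).inv_mem hs)
  obtain ⟨x, hxT, hxZ, hxc⟩ := exists_central_mod hSp c.Z T c.Z_le_center hZT hTS hTn hTZ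
  obtain ⟨u, v, hu, hv, rfl⟩ := c.mem_Z2 q.Q (c.hcen_Q q) (c.hne_Q q) (hTS hxT) hxc
  have hεT : ι (e, e) ∈ T := hZT (Or.inr rfl)
  -- `z ∈ T`
  have hz : ι (1, e) ∈ T := by
    rcases hu with hu | hu <;> rcases hv with hv | hv <;> rw [hu, hv] at hxT hxZ
    · exact absurd (Or.inl c.io_one) hxZ
    · exact hxT
    · have := T.mul_mem hxT hεT
      rwa [c.io_mul, c.e_sq, one_mul] at this
    · exact absurd (Or.inr rfl) hxZ
  -- `τ ∈ T`
  have hτ : τ ∈ T := by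
    rw [← hh]
    apply hcl _ hz
    rw [hh]
    exact c.tau_mem_S _
  -- `ι (x, x⁻¹) ∈ T`
  have h4 : ∀ x ∈ q.Q, ι (x, x⁻¹) ∈ T := by
    intro x hx
    have h5 : ι (x, 1) * τ * (ι (x, 1))⁻¹ ∈ T :=
      hTn τ hτ _ ((c.io_mem_S _).mpr ⟨hx, q.Q.one_mem⟩)
    have h6 : ι (x, 1) * τ * (ι (x, 1))⁻¹ = ι (x, x⁻¹) * τ := by
      rw [c.io_inv, mul_assoc, c.tau_mul, ← mul_assoc, c.io_mul, inv_one, mul_one, one_mul]
    rw [h6] at h5
    have := T.mul_mem h5 (T.inv_mem hτ)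
    rwa [mul_assoc, mul_inv_cancel, mul_one] at this
  -- the subgroup `Y`
  have hY : q.Q ≤ T.comap (ι.comp (MonoidHom.inr L L)) := by
    apply q.Q_le_of_mul_w_mem
    intro c₀ hc₀
    show ι (1, c₀ * w) ∈ T
    have hcomm : Commute (j⁻¹ * c₀) j := (Commute.refl j).inv_left.mul_left hc₀.1
    have hxQ : j⁻¹ * c₀ * w ∈ q.Q :=
      q.mul_w_mem_Q (q.C2.mul_mem (q.C2.inv_mem q.j_mem_C2) hc₀)
    obtain ⟨g, hg⟩ := q.exists_conj_inv hcomm
    have h5 := h4 _ hxQ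
    have h6 : ι (1, g) * ι (j⁻¹ * c₀ * w, (j⁻¹ * c₀ * w)⁻¹) * (ι (1, g))⁻¹ =
        ι (j⁻¹ * c₀ * w, j) := by
      rw [c.io_conj, hg]
      congr 2
      group
    have h7 : ι (j⁻¹ * c₀ * w, j) ∈ T := by
      rw [← h6]
      apply hcl _ h5
      rw [h6]
      exact (c.io_mem_S _).mpr ⟨hxQ, q.j_mem_Q⟩
    have h8 := T.mul_mem h7 (T.inv_mem h5)
    rw [c.io_inv, c.io_mul, mul_inv_cancel, inv_inv] at h8
    convert h8 using 3
    group
  have hY' : ∀ y ∈ q.Q, ι (1, y) ∈ T := fun y hy => hY hy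
  have hX' : ∀ x ∈ q.Q, ι (x, 1) ∈ T := by
    intro x hx
    have := hTn _ (hY' x hx) τ (c.tau_mem_S _)
    rwa [c.tau_conj] at this
  apply le_antisymm hTS
  rintro _ ⟨x, hx, y, hy, rfl | rfl⟩
  · have := T.mul_mem (hX' x hx) (hY' y hy)
    rwa [c.io_mul, mul_one, one_mul] at this
  · have := T.mul_mem (hX' x hx) (hY' y hy)
    rw [c.io_mul, mul_one, one_mul] at this
    exact T.mul_mem this hτ

end Cfg

end Cfsg.Agent.Lead.Wr
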