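import Mathlib
import Cfsg.Agent.Lead.WrCfgC

set_option autoImplicit false

/-!
# The generation hypothesis and the Sylow property for `S = ι (Q × Q) ⟨τ⟩`
-/

namespace Cfsg.Agent.Lead.Wr

variable {L G : Type*} [Group L] [Group G]

/-- conjugation maps the closure of a set into a subgroup as soon as it does so on generators -/
theorem conj_closure_mem {s : G} {X : Set G} {H : Subgroup G} (h : ∀ g ∈ X, s * g * s⁻¹ ∈ H)
    {g : G} (hg : g ∈ Subgroup.closure X) : s * g * s⁻¹ ∈ H := by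
  have h1 : Subgroup.closure X ≤ H.comap (MulAut.conj s).toMonoidHom := by
    rw [Subgroup.closure_le]
    intro g hg
    exact h g hg
  exact h1 hg

/-- the generating set of the criterion -/
def Gen (S Z : Subgroup G) : Set G :=
  {m : G | m ∈ Subgroup.normalizer (S : Set G) ∧
    ∃ R : Subgroup G, Z ≤ R ∧ R ≤ S ∧ S ≤ Subgroup.normalizer (R : Set G) ∧
      (∀ s ∈ S, (∀ r ∈ R, s * r * s⁻¹ * r⁻¹ ∈ Z) → s ∈ R) ∧
      m ∈ Subgroup.closure {g : G | g ∈ Subgroup.normalizer (R : Set G) ∧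
        ∃ k : ℕ, orderOf g = 2 ^ k}}

theorem mem_Gen_of_mem {S Z : Subgroup G} (hS : IsPGroup 2 S) (hZS : Z ≤ S) {s : G} (hs : s ∈ S) :
    s ∈ Gen S Z := by
  refine ⟨Subgroup.le_normalizer hs, S, hZS, le_rfl, Subgroup.le_normalizer, fun s hs _ => hs, ?_⟩
  apply Subgroup.subset_closure
  refine ⟨Subgroup.le_normalizer hs, ?_⟩
  obtain ⟨k, hk⟩ := (IsPGroup.iff_orderOf.mp hS) ⟨s, hs⟩
  refine ⟨k, ?_⟩
  rw [← hk]
  exact (Subgroup.orderOf_mk s hs).symm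

variable {ι : L × L →* G} {τ : G} {e : L}

namespace Cfg

/-- the diagonal embedding -/
def dg (_c : Cfg ι τ e) : L →* G := ι.comp (MonoidHom.prod (MonoidHom.id L) (MonoidHom.id L))

theorem dg_apply (c : Cfg ι τ e) (x : L) : c.dg x = ι (x, x) := rfl

/-- the subgroup `Ã` -/
def A (_c : Cfg ι τ e) (j w : L) : Subgroup G :=
  Subgroup.closure {ι (j, j), ι (w, w), ι (1, e), τ}

theorem dj_mem_A (c : Cfg ι τ e) (j w : L) : ι (j, j) ∈ c.A j w :=
  Subgroup.subset_closure (by simp)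

theorem dw_mem_A (c : Cfg ι τ e) (j w : L) : ι (w, w) ∈ c.A j w :=
  Subgroup.subset_closure (by simp)

theorem z_mem_A (c : Cfg ι τ e) (j w : L) : ι (1, e) ∈ c.A j w :=
  Subgroup.subset_closure (by simp)

theorem tau_mem_A (c : Cfg ι τ e) (j w : L) : τ ∈ c.A j w :=
  Subgroup.subset_closure (by simp)

theorem eps_mem_A (c : Cfg ι τ e) {j w : L} (q : QC.Cfg j w e) : ι (e, e) ∈ c.A j w := by
  have := (c.A j w).mul_mem (c.dj_mem_A j w) (c.dj_mem_A j w)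
  rwa [c.io_mul, q.j_sq] at this

theorem ee_mem_A (c : Cfg ι τ e) {j w : L} (q : QC.Cfg j w e) {u v : L} (hu : u = 1 ∨ u = e)
    (hv : v = 1 ∨ v = e) : ι (u, v) ∈ c.A j w := by
  rcases hu with rfl | rfl <;> rcases hv with rfl | rfl
  · rw [c.io_one]; exact Subgroup.one_mem _
  · exact c.z_mem_A j w
  · have := (c.A j w).mul_mem (c.z_mem_A j w) (c.eps_mem_A q)
    rwa [c.io_mul, one_mul, c.e_sq] at this
  · exact c.eps_mem_A q

theorem dg_mem_A (c : Cfg ι τ e) {j w : L} (q : QC.Cfg j w e)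
    (hB : ∀ y : L, QC.IsC2 j y → y * y = 1 ∨ y * y = e) {v : L} (hv : v ∈ q.Q) :
    ι (v, v) ∈ c.A j w := by
  have h1 : Subgroup.closure ({j, w} : Set L) ≤ (c.A j w).comap c.dg := by
    rw [Subgroup.closure_le]
    rintro x (rfl | rfl)
    · exact c.dj_mem_A _ w
    · exact c.dw_mem_A j _
  exact h1 (q.Q_le_closure hB hv)

theorem Z_le_A (c : Cfg ι τ e) {j w : L} (q : QC.Cfg j w e) : c.Z ≤ c.A j w := by
  rintro _ (rfl | rfl)
  · exact Subgroup.one_mem _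
  · exact c.eps_mem_A q

theorem A_le_S (c : Cfg ι τ e) {j w : L} (q : QC.Cfg j w e) : c.A j w ≤ c.S q.Q := by
  unfold A
  rw [Subgroup.closure_le]
  rintro _ (rfl | rfl | rfl | rfl)
  · exact (c.io_mem_S _).mpr ⟨q.j_mem_Q, q.j_mem_Q⟩
  · exact (c.io_mem_S _).mpr ⟨q.w_mem_Q, q.w_mem_Q⟩
  · exact (c.io_mem_S _).mpr ⟨q.Q.one_mem, q.e_mem_Q⟩
  · exact c.tau_mem_S _

/-- `S` normalizes `Ã` in Case B -/
theorem S_le_normalizer_A [Finite G] (c : Cfg ι τ e) {j w : L} (q : QC.Cfg j w e)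
    (hB : ∀ y : L, QC.IsC2 j y → y * y = 1 ∨ y * y = e) :
    c.S q.Q ≤ Subgroup.normalizer (c.A j w : Set G) := by
  have key : ∀ x ∈ q.Q, ∀ y ∈ q.Q, ι (x, y) ∈ Subgroup.normalizer (c.A j w : Set G) := by
    intro x hx y hy
    apply Cfsg.Agent.Lead.mem_normalizer_of_conj_mem_of_finite
    intro g hg
    have hconj : ∀ u ∈ q.Q, ι (x, y) * ι (u, u) * (ι (x, y))⁻¹ ∈ c.A j w := by
      intro u hu
      rw [c.io_conj]
      have h1 : ∀ x ∈ q.Q, ∃ α : L, (α = 1 ∨ α = e) ∧ x * u * x⁻¹ = u * α := by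
        intro x hx
        rcases q.conj_caseB hB hx hu with h | h
        · exact ⟨1, Or.inl rfl, by rw [h, mul_one]⟩
        · exact ⟨e, Or.inr rfl, h⟩
      obtain ⟨α, hα, h2⟩ := h1 x hx
      obtain ⟨β, hβ, h3⟩ := h1 y hy
      rw [h2, h3, ← c.io_mul]
      exact (c.A j w).mul_mem (c.dg_mem_A q hB hu) (c.ee_mem_A q hα hβ)
    refine conj_closure_mem ?_ hg
    rintro g' (rfl | rfl | rfl | hg')
    · exact hconj j q.j_mem_Q
    · exact hconj w q.w_mem_Q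
    · rw [c.io_conj]
      have h1 : x * 1 * x⁻¹ = 1 := by group
      have h2 : y * e * y⁻¹ = e := by
        rw [← (c.e_cen y).eq]; group
      rw [h1, h2]
      exact c.z_mem_A j w
    · rw [show g' = τ from hg']
      have h1 : ι (x, y) * τ * (ι (x, y))⁻¹ = ι (x * y⁻¹, y * x⁻¹) * τ := by
        rw [c.io_inv, mul_assoc, c.tau_mul, ← mul_assoc, c.io_mul]
      rw [h1]
      apply (c.A j w).mul_mem _ (c.tau_mem_A j w)
      have hv : x * y⁻¹ ∈ q.Q := q.Q.mul_mem hx (q.Q.inv_mem hy)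
      have h2 : y * x⁻¹ = (x * y⁻¹)⁻¹ := by group
      rw [h2]
      rcases q.inv_caseB hB hv with h | h
      · rw [h]
        exact c.dg_mem_A q hB hv
      · rw [h]
        have := (c.A j w).mul_mem (c.dg_mem_A q hB hv) (c.z_mem_A j w)
        rwa [c.io_mul, mul_one] at this
  rintro _ ⟨x, hx, y, hy, rfl | rfl⟩
  · exact key x hx y hy
  · exact Subgroup.mul_mem _ (key x hx y hy) (Subgroup.le_normalizer (c.tau_mem_A j w))

/-- `Ã` is centric modulo `Z` in Case B -/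
theorem centric_A (c : Cfg ι τ e) {j w : L} (q : QC.Cfg j w e)
    (hB : ∀ y : L, QC.IsC2 j y → y * y = 1 ∨ y * y = e) {s : G} (hs : s ∈ c.S q.Q)
    (h : ∀ r ∈ c.A j w, s * r * s⁻¹ * r⁻¹ ∈ c.Z) : s ∈ c.A j w := by
  have h0 := h τ (c.tau_mem_A j w)
  have key : ∀ x ∈ q.Q, ∀ y ∈ q.Q, ι (x, y) * τ * (ι (x, y))⁻¹ * τ⁻¹ ∈ c.Z →
      ι (x, y) ∈ c.A j w := by
    intro x hx y hy h1
    have h2 : ι (x, y) * τ * (ι (x, y))⁻¹ * τ⁻¹ = ι (x * y⁻¹, y * x⁻¹) := by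
      rw [c.io_inv, mul_assoc (ι (x, y)), c.tau_mul, ← mul_assoc, c.io_mul, mul_assoc,
        mul_inv_cancel, mul_one]
    rw [h2] at h1
    have h3 : ∀ α : L, (α = 1 ∨ α = e) → x * y⁻¹ = α → ι (x, y) ∈ c.A j w := by
      intro α hα h4
      have h5 : x = α * y := by
        rw [← h4]; group
      have := (c.A j w).mul_mem (c.ee_mem_A q hα (Or.inl rfl)) (c.dg_mem_A q hB hy)
      rwa [c.io_mul, one_mul, ← h5] at this
    rcases c.io_mem_Z h1 with ⟨h4, -⟩ | ⟨h4, -⟩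
    · exact h3 1 (Or.inl rfl) h4
    · exact h3 e (Or.inr rfl) h4
  obtain ⟨x, hx, y, hy, rfl | rfl⟩ := hs
  · exact key x hx y hy h0
  · apply (c.A j w).mul_mem _ (c.tau_mem_A j w)
    apply key x hx y hy
    convert h0 using 1
    group

end Cfg

end Cfsg.Agent.Lead.Wr
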