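import Mathlib
import Cfsg.Agent.Lead.WrCfgD

set_option autoImplicit false

/-!
# Case B of the wreath configuration and the final abstract statements
-/

namespace Cfsg.Agent.Lead.Wr

variable {L G : Type*} [Group L] [Group G]

variable {ι : L × L →* G} {τ : G} {e : L}

/-- `a` normalizes `Q` in Case B -/
theorem a_mem_normalizer [Finite L] {j w : L} (q : QC.Cfg j w e)
    (hB : ∀ y : L, QC.IsC2 j y → y * y = 1 ∨ y * y = e) (a : L) (ha1 : a * j * a⁻¹ = w)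
    (ha2 : a * w * a⁻¹ = j * w) : a ∈ Subgroup.normalizer (q.Q : Set L) := by
  apply Cfsg.Agent.Lead.mem_normalizer_of_conj_mem_of_finite
  intro y hy
  refine conj_closure_mem ?_ (q.Q_le_closure hB hy)
  rintro g (rfl | hg)
  · rw [ha1]; exact q.w_mem_Q
  · rw [show g = w from hg, ha2]
    exact q.Q.mul_mem q.j_mem_Q q.w_mem_Q

namespace Cfg

/-- the data of Case B -/
structure CaseB (c : Cfg ι τ e) (j w a : L) (t : G) : Prop where
  hB : ∀ y : L, QC.IsC2 j y → y * y = 1 ∨ y * y = e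
  a_cube : a ^ 3 = 1
  a_j : a * j * a⁻¹ = w
  a_w : a * w * a⁻¹ = j * w
  t_sq : t * t = ι (e, e)
  t_j : t * ι (j, j) * t⁻¹ = ι (w, w)
  t_w : t * ι (w, w) * t⁻¹ = ι (j, j)
  t_z : t * ι (1, e) * t⁻¹ = τ
  t_tau : t * τ * t⁻¹ = ι (1, e)
  t_d : t * ι (a, a) * t⁻¹ = ι (j, j) * (ι (a, a))⁻¹

variable {c : Cfg ι τ e} {j w a : L} {t : G}

theorem CaseB.t_mem [Finite G] (b : c.CaseB j w a t) :
    t ∈ Subgroup.normalizer (c.A j w : Set G) := by
  apply Cfsg.Agent.Lead.mem_normalizer_of_conj_mem_of_finite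
  intro g hg
  refine conj_closure_mem ?_ hg
  rintro g' (rfl | rfl | rfl | hg')
  · rw [b.t_j]; exact c.dw_mem_A j w
  · rw [b.t_w]; exact c.dj_mem_A j w
  · rw [b.t_z]; exact c.tau_mem_A j w
  · rw [show g' = τ from hg', b.t_tau]; exact c.z_mem_A j w

theorem CaseB.d_mem [Finite G] (b : c.CaseB j w a t) :
    ι (a, a) ∈ Subgroup.normalizer (c.A j w : Set G) := by
  apply Cfsg.Agent.Lead.mem_normalizer_of_conj_mem_of_finite
  intro g hg
  refine conj_closure_mem ?_ hg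
  rintro g' (rfl | rfl | rfl | hg')
  · rw [c.io_conj, b.a_j]; exact c.dw_mem_A j w
  · rw [c.io_conj, b.a_w, ← c.io_mul]
    exact (c.A j w).mul_mem (c.dj_mem_A j w) (c.dw_mem_A j w)
  · rw [c.io_conj]
    have h1 : a * 1 * a⁻¹ = 1 := by group
    have h2 : a * e * a⁻¹ = e := by
      rw [← (c.e_cen a).eq]; group
    rw [h1, h2]
    exact c.z_mem_A j w
  · rw [show g' = τ from hg', c.io_inv, mul_assoc, c.tau_mul, ← mul_assoc, c.io_mul,
      mul_inv_cancel, c.io_one, one_mul]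
    exact c.tau_mem_A j w

theorem CaseB.orderOf_t (b : c.CaseB j w a t) : ∃ k : ℕ, orderOf t = 2 ^ k := by
  have h1 : t ^ 2 ^ 2 = 1 := by
    have : t ^ 2 ^ 2 = (t * t) * (t * t) := by
      show t ^ 4 = _
      rw [pow_succ, pow_succ, pow_succ, pow_one]
      group
    rw [this, b.t_sq, c.io_mul, c.e_sq, c.io_one]
  obtain ⟨k, -, hk⟩ := (Nat.dvd_prime_pow Nat.prime_two).mp (orderOf_dvd_of_pow_eq_one h1)
  exact ⟨k, hk⟩

theorem CaseB.d_cube (b : c.CaseB j w a t) : ι (a, a) ^ 3 = 1 := by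
  rw [c.io_pow, b.a_cube, c.io_one]

/-- `d = ι (a, a)` normalizes `S` -/
theorem CaseB.d_mem_normalizer_S [Finite G] [Finite L] (b : c.CaseB j w a t)
    (q : QC.Cfg j w e) : ι (a, a) ∈ Subgroup.normalizer (c.S q.Q : Set G) := by
  have haN := a_mem_normalizer q b.hB a b.a_j b.a_w
  have haN' := Subgroup.mem_normalizer_iff.mp haN
  apply Cfsg.Agent.Lead.mem_normalizer_of_conj_mem_of_finite
  rintro _ ⟨x, hx, y, hy, rfl | rfl⟩
  · rw [c.io_conj]
    exact (c.io_mem_S _).mpr ⟨(haN' x).mp hx, (haN' y).mp hy⟩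
  · have h1 : ι (a, a) * (ι (x, y) * τ) * (ι (a, a))⁻¹ =
        (ι (a, a) * ι (x, y) * (ι (a, a))⁻¹) * (ι (a, a) * τ * (ι (a, a))⁻¹) := by group
    have h2 : ι (a, a) * τ * (ι (a, a))⁻¹ = τ := by
      rw [c.io_inv, mul_assoc, c.tau_mul, ← mul_assoc, c.io_mul, mul_inv_cancel, c.io_one, one_mul]
    rw [h1, h2, c.io_conj]
    exact (c.io_tau_mem_S _).mpr ⟨(haN' x).mp hx, (haN' y).mp hy⟩

/-- `d` lies in the generating set -/
theorem CaseB.d_mem_Gen [Finite G] [Finite L] (b : c.CaseB j w a t) (q : QC.Cfg j w e) :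
    ι (a, a) ∈ Gen (c.S q.Q) c.Z := by
  refine ⟨b.d_mem_normalizer_S q, c.A j w, c.Z_le_A q, c.A_le_S q, c.S_le_normalizer_A q b.hB,
    fun s hs h => c.centric_A q b.hB hs h, ?_⟩
  set d := ι (a, a) with hd
  have hdN := b.d_mem
  have hdinvN : d⁻¹ ∈ Subgroup.normalizer (c.A j w : Set G) := Subgroup.inv_mem _ hdN
  have htN := b.t_mem
  have hSp : IsPGroup 2 (c.S q.Q) := c.isPGroup_S q.Q q.isPGroup_Q
  -- the three factors
  have ht_d : t * d * t⁻¹ = ι (j, j) * d⁻¹ := b.t_d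
  have h4 : d * d * d = 1 := by
    have := b.d_cube
    rwa [pow_succ, pow_succ, pow_one] at this
  have h1 : d = (d⁻¹ * (ι (j, j))⁻¹ * d) * (d⁻¹ * t * d) * t⁻¹ := by
    have h2 : d⁻¹ = (ι (j, j))⁻¹ * (t * d * t⁻¹) := by
      rw [ht_d]; group
    have h3 : (d⁻¹ * (ι (j, j))⁻¹ * d) * (d⁻¹ * t * d) * t⁻¹ =
        d⁻¹ * ((ι (j, j))⁻¹ * (t * d * t⁻¹)) := by group
    rw [h3, ← h2]
    calc d = (d * d * d) * (d⁻¹ * d⁻¹) := by group
      _ = d⁻¹ * d⁻¹ := by rw [h4, one_mul]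
  rw [h1]
  obtain ⟨k, hk⟩ := b.orderOf_t
  refine Subgroup.mul_mem _ (Subgroup.mul_mem _ ?_ ?_) ?_
  · -- an element of `Ã`
    have h2 : d⁻¹ * (ι (j, j))⁻¹ * d ∈ c.A j w := by
      have := (Subgroup.mem_normalizer_iff.mp hdinvN _).mp ((c.A j w).inv_mem (c.dj_mem_A j w))
      rwa [inv_inv] at this
    apply Subgroup.subset_closure
    refine ⟨Subgroup.le_normalizer h2, ?_⟩
    obtain ⟨k', hk'⟩ := (IsPGroup.iff_orderOf.mp hSp) ⟨_, c.A_le_S q h2⟩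
    refine ⟨k', ?_⟩
    rw [← hk']
    exact (Subgroup.orderOf_mk _ (c.A_le_S q h2)).symm
  · apply Subgroup.subset_closure
    refine ⟨Subgroup.mul_mem _ (Subgroup.mul_mem _ hdinvN htN) hdN, k, ?_⟩
    rw [← hk]
    have h2 : d⁻¹ * t * d = MulAut.conj d⁻¹ t := by
      rw [MulAut.conj_apply, inv_inv]
    rw [h2]
    exact (MulAut.conj d⁻¹).orderOf_eq t
  · apply Subgroup.subset_closure
    exact ⟨Subgroup.inv_mem _ htN, k, by rw [orderOf_inv, hk]⟩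

/-- the generation hypothesis in Case A -/
theorem normalizer_le_caseA (c : Cfg ι τ e) {j w : L} (q : QC.Cfg j w e)
    (hy : ∃ y : L, QC.IsC2 j y ∧ y * y ≠ 1 ∧ y * y ≠ e) :
    Subgroup.normalizer (c.S q.Q : Set G) ≤ c.S q.Q :=
  c.normalizer_S_caseA q.Q q.e_mem_Q (c.hcen_Q q) (c.hne_Q q) (q.normalizer_Q hy)

/-- the description of the normalizer in Case B -/
theorem CaseB.normalizer_S [Finite L] (b : c.CaseB j w a t) (q : QC.Cfg j w e) {n : G}
    (hn : n ∈ Subgroup.normalizer (c.S q.Q : Set G)) :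
    ∃ k : ℤ, ∃ s ∈ c.S q.Q, n = ι (a, a) ^ k * s := by
  have haN := a_mem_normalizer q b.hB a b.a_j b.a_w
  exact c.normalizer_S_caseB q.Q q.isPGroup_Q q.e_mem_Q (c.hcen_Q q) (c.hne_Q q) a b.a_cube haN
    (fun g hg => q.normalizer_caseB b.hB a b.a_j b.a_w haN hg) hn

/-- the conclusion of the abstract analysis -/
def Concl (c : Cfg ι τ e) (Q : Subgroup L) : Prop :=
  (∃ P : Sylow 2 G, (P : Subgroup G) = c.S Q) ∧
  (∀ T : Subgroup G, c.Z ≤ T → T ≤ c.S Q →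
    (∀ x ∈ T, ∀ g : G, g * x * g⁻¹ ∈ c.S Q → g * x * g⁻¹ ∈ T) → T = c.Z ∨ T = c.S Q) ∧
  Subgroup.normalizer (c.S Q : Set G) ≤ Subgroup.closure (Gen (c.S Q) c.Z)

theorem concl_caseA [Finite G] (c : Cfg ι τ e) {j w : L} (q : QC.Cfg j w e) (h : G)
    (hh : h * ι (1, e) * h⁻¹ = τ) (hy : ∃ y : L, QC.IsC2 j y ∧ y * y ≠ 1 ∧ y * y ≠ e) :
    c.Concl q.Q := by
  haveI : Fact (Nat.Prime 2) := ⟨Nat.prime_two⟩
  have hSp : IsPGroup 2 (c.S q.Q) := c.isPGroup_S q.Q q.isPGroup_Q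
  have hN := c.normalizer_le_caseA q hy
  refine ⟨?_, fun T h1 h2 h3 => c.closed_S q h hh T h1 h2 h3, ?_⟩
  · obtain ⟨P, hP⟩ := hSp.exists_le_sylow
    refine ⟨P, ?_⟩
    by_contra hne
    obtain ⟨n, hn, hnS⟩ := Fusion.exists_mem_normalizerIn_not_mem (S := (P : Subgroup G))
      P.isPGroup' hP (fun h => hne h.symm)
    exact hnS (hN (Subgroup.mem_inf.mp hn).2)
  · intro n hn
    exact Subgroup.subset_closure (mem_Gen_of_mem hSp (c.Z_le_S _ q.e_mem_Q) (hN hn))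

theorem concl_caseB [Finite G] [Finite L] (c : Cfg ι τ e) {j w a : L} {t : G}
    (q : QC.Cfg j w e) (b : c.CaseB j w a t) : c.Concl q.Q := by
  haveI : Fact (Nat.Prime 2) := ⟨Nat.prime_two⟩
  have hSp : IsPGroup 2 (c.S q.Q) := c.isPGroup_S q.Q q.isPGroup_Q
  refine ⟨?_, fun T h1 h2 h3 => c.closed_S q t b.t_z T h1 h2 h3, ?_⟩
  · obtain ⟨P, hP⟩ := hSp.exists_le_sylow
    refine ⟨P, ?_⟩
    by_contra hne
    obtain ⟨n, hn, hnS⟩ := Fusion.exists_mem_normalizerIn_not_mem (S := (P : Subgroup G))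
      P.isPGroup' hP (fun h => hne h.symm)
    obtain ⟨hnP, hnN⟩ := Subgroup.mem_inf.mp hn
    obtain ⟨k, s, hs, hns⟩ := b.normalizer_S q hnN
    apply hnS
    have hdP : ι (a, a) ^ k ∈ (P : Subgroup G) := by
      have : ι (a, a) ^ k = n * s⁻¹ := by rw [hns]; group
      rw [this]
      exact Subgroup.mul_mem _ hnP (Subgroup.inv_mem _ (hP hs))
    obtain ⟨m, hm⟩ := P.isPGroup' ⟨_, hdP⟩
    have hm' : (ι (a, a) ^ k) ^ 2 ^ m = 1 := by
      have := congrArg Subtype.val hm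
      simpa using this
    have h3' : (ι (a, a) ^ k) ^ 3 = 1 := by
      rw [← zpow_natCast, ← zpow_mul, mul_comm, zpow_mul, zpow_natCast, b.d_cube, one_zpow]
    have hcop : Nat.Coprime (2 ^ m) 3 := Nat.Coprime.pow_left m (by norm_num)
    have h8 : orderOf (ι (a, a) ^ k) ∣ Nat.gcd (2 ^ m) 3 :=
      Nat.dvd_gcd (orderOf_dvd_of_pow_eq_one hm') (orderOf_dvd_of_pow_eq_one h3')
    rw [hcop.gcd_eq_one, Nat.dvd_one] at h8
    rw [hns, orderOf_eq_one_iff.mp h8, one_mul]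
    exact hs
  · intro n hn
    obtain ⟨k, s, hs, rfl⟩ := b.normalizer_S q hn
    apply Subgroup.mul_mem
    · exact Subgroup.zpow_mem _ (Subgroup.subset_closure (b.d_mem_Gen q)) k
    · exact Subgroup.subset_closure (mem_Gen_of_mem hSp (c.Z_le_S _ q.e_mem_Q) hs)

end Cfg

end Cfsg.Agent.Lead.Wr
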