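import Mathlib
import Cfsg.Agent.Lead.SL2QuatA
import Cfsg.Agent.Lead.WrCfgE
import Cfsg.Agent.Lead.SpFusA

set_option autoImplicit false

/-!
# The wreath configuration in `Sp_4(F)`: basic matrices
-/

namespace Cfsg.Agent.Lead.Sp4Two

open Matrix Cfsg.Agent.Lead.SpFus Cfsg.Agent.Lead.SL2Q

variable {F : Type*} [Field F]

/-- a Kronecker-type product of two `2 × 2` matrices -/
def kr (A B : Matrix (Fin 2) (Fin 2) F) : Matrix (Fin 2 ⊕ Fin 2) (Fin 2 ⊕ Fin 2) F :=
  fromBlocks (A 0 0 • B) (A 0 1 • B) (A 1 0 • B) (A 1 1 • B)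

theorem kr_mul (A B A' B' : Matrix (Fin 2) (Fin 2) F) :
    kr A B * kr A' B' = kr (A * A') (B * B') := by
  unfold kr
  rw [fromBlocks_multiply]
  congr 1 <;>
  · rw [Matrix.mul_apply, Fin.sum_univ_two, smul_mul_assoc, smul_mul_assoc, mul_smul_comm,
      mul_smul_comm, smul_smul, smul_smul, ← add_smul]

theorem kr_one : kr (1 : Matrix (Fin 2) (Fin 2) F) 1 = 1 := by
  unfold kr
  rw [← fromBlocks_one]
  congr 1 <;> simp

theorem kr_mem (A B : Matrix (Fin 2) (Fin 2) F) (h : A.det • (Bᵀ * B) = 1) :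
    kr A B ∈ symplecticGroup (Fin 2) F := by
  unfold kr
  rw [SymplecticGroup.fromBlocks_mem_iff]
  refine ⟨?_, ?_, ?_⟩
  · rw [transpose_smul, transpose_smul, smul_mul_assoc, smul_mul_assoc, mul_smul_comm,
      mul_smul_comm, smul_smul, smul_smul, mul_comm]
  · rw [transpose_smul, transpose_smul, smul_mul_assoc, smul_mul_assoc, mul_smul_comm,
      mul_smul_comm, smul_smul, smul_smul, mul_comm]
  · rw [transpose_smul, transpose_smul, smul_mul_assoc, smul_mul_assoc, mul_smul_comm,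
      mul_smul_comm, smul_smul, smul_smul, ← sub_smul, ← h, Matrix.det_fin_two]
    congr 1
    ring

/-- the embedding of `SL_2(F) × SL_2(F)` -/
def io : SpecialLinearGroup (Fin 2) F × SpecialLinearGroup (Fin 2) F →*
    symplecticGroup (Fin 2) F where
  toFun p := pw ![p.1, p.2]
  map_one' := by
    have h : (![(1 : SpecialLinearGroup (Fin 2) F × SpecialLinearGroup (Fin 2) F).1,
        (1 : SpecialLinearGroup (Fin 2) F × SpecialLinearGroup (Fin 2) F).2] :
        Fin 2 → SpecialLinearGroup (Fin 2) F) = 1 := by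
      funext i
      fin_cases i <;> rfl
    rw [h, map_one]
  map_mul' p q := by
    have h : (![(p * q).1, (p * q).2] : Fin 2 → SpecialLinearGroup (Fin 2) F) =
        ![p.1, p.2] * ![q.1, q.2] := by
      funext i
      fin_cases i <;> rfl
    rw [h, map_mul]

theorem io_coe (x y : SpecialLinearGroup (Fin 2) F) :
    ((io (x, y) : symplecticGroup (Fin 2) F) : Matrix (Fin 2 ⊕ Fin 2) (Fin 2 ⊕ Fin 2) F) =
      fromBlocks (diagonal ![x 0 0, y 0 0]) (diagonal ![x 0 1, y 0 1])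
        (diagonal ![x 1 0, y 1 0]) (diagonal ![x 1 1, y 1 1]) := by
  show ((pw ![x, y] : symplecticGroup (Fin 2) F) : Matrix (Fin 2 ⊕ Fin 2) (Fin 2 ⊕ Fin 2) F) = _
  rw [pw_coe]
  congr 1 <;>
  · congr 1
    funext k
    fin_cases k <;> rfl

/-- `ι (x, x)` is a Kronecker product -/
theorem io_diag (x : SpecialLinearGroup (Fin 2) F) :
    ((io (x, x) : symplecticGroup (Fin 2) F) : Matrix (Fin 2 ⊕ Fin 2) (Fin 2 ⊕ Fin 2) F) =
      kr (x : Matrix (Fin 2) (Fin 2) F) 1 := by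
  rw [io_coe]
  unfold kr
  congr 1 <;>
  · ext i k
    fin_cases i <;> fin_cases k <;> simp

theorem io_injective : Function.Injective (io (F := F)) := by
  rintro ⟨x, y⟩ ⟨x', y'⟩ h
  have h1 := congrArg (fun g : symplecticGroup (Fin 2) F =>
    (g : Matrix (Fin 2 ⊕ Fin 2) (Fin 2 ⊕ Fin 2) F)) h
  simp only [io_coe] at h1
  have e := fromBlocks_inj.mp h1
  obtain ⟨e1, e2, e3, e4⟩ := e
  have d0 : ∀ {a b c d : F}, diagonal ![a, b] = diagonal ![c, d] → a = c ∧ b = d := by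
    intro a b c d hd
    have h0 := congrFun (congrFun hd 0) 0
    have h1 := congrFun (congrFun hd 1) 1
    simp at h0 h1
    exact ⟨h0, h1⟩
  obtain ⟨a1, b1⟩ := d0 e1
  obtain ⟨a2, b2⟩ := d0 e2
  obtain ⟨a3, b3⟩ := d0 e3
  obtain ⟨a4, b4⟩ := d0 e4
  rw [Prod.mk.injEq]
  exact ⟨ext2 a1 a2 a3 a4, ext2 b1 b2 b3 b4⟩

/-- the swap matrix -/
def sg : Matrix (Fin 2) (Fin 2) F := !![0, 1; 1, 0]

/-- the element `τ` -/
def tau : symplecticGroup (Fin 2) F :=
  ⟨kr 1 sg, kr_mem 1 sg (by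
    rw [det_one, one_smul]
    ext i k
    fin_cases i <;> fin_cases k <;> simp [sg, Matrix.mul_apply, Fin.sum_univ_two])⟩

theorem tau_coe : ((tau : symplecticGroup (Fin 2) F) :
    Matrix (Fin 2 ⊕ Fin 2) (Fin 2 ⊕ Fin 2) F) = kr 1 sg := rfl

theorem tau_coe' : ((tau : symplecticGroup (Fin 2) F) :
    Matrix (Fin 2 ⊕ Fin 2) (Fin 2 ⊕ Fin 2) F) = fromBlocks sg 0 0 sg := by
  rw [tau_coe]
  unfold kr
  congr 1 <;> simp

theorem tau_sq : (tau : symplecticGroup (Fin 2) F) * tau = 1 := by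
  apply Subtype.ext
  show kr 1 sg * kr 1 sg = (1 : Matrix (Fin 2 ⊕ Fin 2) (Fin 2 ⊕ Fin 2) F)
  rw [kr_mul, one_mul, ← kr_one]
  congr 1
  ext i k
  fin_cases i <;> fin_cases k <;> simp [sg, Matrix.mul_apply, Fin.sum_univ_two]

theorem tau_conj (x y : SpecialLinearGroup (Fin 2) F) :
    tau * io (x, y) * tau⁻¹ = io (y, x) := by
  rw [mul_inv_eq_iff_eq_mul]
  apply Subtype.ext
  show (tau : symplecticGroup (Fin 2) F).1 * (io (x, y)).1 = (io (y, x)).1 * tau.1
  rw [tau_coe', io_coe, io_coe, fromBlocks_multiply, fromBlocks_multiply]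
  simp only [Matrix.zero_mul, Matrix.mul_zero, add_zero, zero_add]
  congr 1 <;>
  · ext i k
    rw [Matrix.mul_diagonal, Matrix.diagonal_mul]
    fin_cases i <;> fin_cases k <;> simp [sg]

end Cfsg.Agent.Lead.Sp4Two
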