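import Mathlib
import Cfsg.Agent.Lead.Sp4TwoA
import Cfsg.Agent.S0246

set_option autoImplicit false

/-!
# The wreath configuration in `Sp_4(F)`: centralizer of `z` and the centre
-/

namespace Cfsg.Agent.Lead.Sp4Two

open Matrix Cfsg.Agent.Lead.SpFus Cfsg.Agent.Lead.SL2Q

variable {F : Type*} [Field F]

/-- the diagonal of `z = ι (1, e)` -/
def dz : Fin 2 ⊕ Fin 2 → F := Sum.elim ![1, -1] ![1, -1]

theorem z_coe : ((io ((1 : SpecialLinearGroup (Fin 2) F), (eN : SpecialLinearGroup (Fin 2) F)) :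
    symplecticGroup (Fin 2) F) : Matrix (Fin 2 ⊕ Fin 2) (Fin 2 ⊕ Fin 2) F) = diagonal dz := by
  rw [io_coe, dz, ← fromBlocks_diagonal]
  simp only [one00, one01, one10, one11, eN, mk2_00, mk2_01, mk2_10, mk2_11]
  congr 1 <;>
  · ext i k
    fin_cases i <;> fin_cases k <;> simp

theorem eps_coe : ((io ((eN : SpecialLinearGroup (Fin 2) F), (eN : SpecialLinearGroup (Fin 2) F)) :
    symplecticGroup (Fin 2) F) : Matrix (Fin 2 ⊕ Fin 2) (Fin 2 ⊕ Fin 2) F) = -1 := by
  rw [io_coe, ← fromBlocks_one, fromBlocks_neg]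
  simp only [eN, mk2_00, mk2_01, mk2_10, mk2_11]
  congr 1 <;>
  · ext i k
    fin_cases i <;> fin_cases k <;> simp

theorem eps_eq : io ((eN : SpecialLinearGroup (Fin 2) F), (eN : SpecialLinearGroup (Fin 2) F)) =
    Cfsg.Agent.S0246.negOne 2 F := by
  apply Subtype.ext
  rw [eps_coe]
  rfl

theorem eps_cen (g : symplecticGroup (Fin 2) F) :
    Commute g (io ((eN : SpecialLinearGroup (Fin 2) F), (eN : SpecialLinearGroup (Fin 2) F))) := by
  have h := Cfsg.Agent.S0246.negOne_mem_center 2 F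
  rw [← eps_eq, Subgroup.mem_center_iff] at h
  exact h g

/-- the centralizer of `z` is the image of `ι` -/
theorem cent_z (h2 : (2 : F) ≠ 0) (g : symplecticGroup (Fin 2) F)
    (hg : Commute g (io ((1 : SpecialLinearGroup (Fin 2) F), (eN : SpecialLinearGroup (Fin 2) F)))) :
    ∃ x y : SpecialLinearGroup (Fin 2) F, g = io (x, y) := by
  obtain ⟨M, hM⟩ := g
  have e : M * diagonal dz = diagonal dz * M := by
    have := congrArg Subtype.val hg.eq
    rw [← z_coe]
    exact this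
  have key : ∀ a b, M a b * dz b = dz a * M a b := by
    intro a b
    have := congrFun (congrFun e a) b
    rwa [mul_diagonal, diagonal_mul] at this
  have hz1 : ∀ m : F, m * (-1) = 1 * m → m = 0 := by
    intro m hm
    have : 2 * m = 0 := by linear_combination -hm
    rcases mul_eq_zero.mp this with h | h
    · exact absurd h h2
    · exact h
  have hz2 : ∀ m : F, m * 1 = (-1) * m → m = 0 := by
    intro m hm
    have : 2 * m = 0 := by linear_combination hm
    rcases mul_eq_zero.mp this with h | h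
    · exact absurd h h2
    · exact h
  have z1 : M (Sum.inl 0) (Sum.inl 1) = 0 := hz1 _ (by simpa [dz] using key (Sum.inl 0) (Sum.inl 1))
  have z2 : M (Sum.inl 0) (Sum.inr 1) = 0 := hz1 _ (by simpa [dz] using key (Sum.inl 0) (Sum.inr 1))
  have z3 : M (Sum.inr 0) (Sum.inl 1) = 0 := hz1 _ (by simpa [dz] using key (Sum.inr 0) (Sum.inl 1))
  have z4 : M (Sum.inr 0) (Sum.inr 1) = 0 := hz1 _ (by simpa [dz] using key (Sum.inr 0) (Sum.inr 1))
  have z5 : M (Sum.inl 1) (Sum.inl 0) = 0 := hz2 _ (by simpa [dz] using key (Sum.inl 1) (Sum.inl 0))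
  have z6 : M (Sum.inl 1) (Sum.inr 0) = 0 := hz2 _ (by simpa [dz] using key (Sum.inl 1) (Sum.inr 0))
  have z7 : M (Sum.inr 1) (Sum.inl 0) = 0 := hz2 _ (by simpa [dz] using key (Sum.inr 1) (Sum.inl 0))
  have z8 : M (Sum.inr 1) (Sum.inr 0) = 0 := hz2 _ (by simpa [dz] using key (Sum.inr 1) (Sum.inr 0))
  have hM' := hM
  rw [← fromBlocks_toBlocks M, SymplecticGroup.fromBlocks_mem_iff] at hM'
  obtain ⟨-, -, h3⟩ := hM'
  have d0 := congrFun (congrFun h3 0) 0
  have d1 := congrFun (congrFun h3 1) 1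
  simp only [Matrix.sub_apply, Matrix.mul_apply, Fin.sum_univ_two, Matrix.transpose_apply,
    toBlocks₁₁, toBlocks₁₂, toBlocks₂₁, toBlocks₂₂, Matrix.of_apply, Matrix.one_apply_eq,
    z1, z2, z3, z4, z5, z6, z7, z8] at d0 d1
  refine ⟨mk2 (M (Sum.inl 0) (Sum.inl 0)) (M (Sum.inl 0) (Sum.inr 0)) (M (Sum.inr 0) (Sum.inl 0))
    (M (Sum.inr 0) (Sum.inr 0)) (by linear_combination d0),
    mk2 (M (Sum.inl 1) (Sum.inl 1)) (M (Sum.inl 1) (Sum.inr 1)) (M (Sum.inr 1) (Sum.inl 1))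
    (M (Sum.inr 1) (Sum.inr 1)) (by linear_combination d1), ?_⟩
  apply Subtype.ext
  rw [io_coe]
  simp only [mk2_00, mk2_01, mk2_10, mk2_11]
  show M = _
  rw [← fromBlocks_toBlocks M]
  congr 1 <;>
  · ext i k
    fin_cases i <;> fin_cases k <;>
      simp [toBlocks₁₁, toBlocks₁₂, toBlocks₂₁, toBlocks₂₂, z1, z2, z3, z4, z5, z6, z7, z8]

/-- the wreath configuration in `Sp_4(F)` -/
theorem wcfg (h2 : (2 : F) ≠ 0) :
    Wr.Cfg (io (F := F)) tau (eN : SpecialLinearGroup (Fin 2) F) where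
  inj := io_injective
  tau_sq := tau_sq
  tau_conj := tau_conj
  e_sq := eN_sq
  e_ne := eN_ne h2
  e_cen := eN_cen
  cent_z := cent_z h2
  eps_cen := eps_cen

/-- the subgroup `Z` is the centre -/
theorem Z_eq_center (h2 : (2 : F) ≠ 0) :
    (wcfg h2).Z = Subgroup.center (symplecticGroup (Fin 2) F) := by
  ext g
  rw [Wr.Cfg.mem_Z, eps_eq, ← SetLike.mem_coe, Cfsg.Agent.S0246.center_eq (by norm_num)]
  simp

end Cfsg.Agent.Lead.Sp4Two
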