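import Mathlib
import Cfsg.Agent.Lead.Sp4TwoB

set_option autoImplicit false

/-!
# The wreath configuration in `Sp_4(F)`: the element `t` and the data of Case B
-/

namespace Cfsg.Agent.Lead.Sp4Two

open Matrix Cfsg.Agent.Lead.SpFus Cfsg.Agent.Lead.SL2Q

variable {F : Type*} [Field F]

/-- the matrix `s = J + ω` -/
def sm (p r : F) : Matrix (Fin 2) (Fin 2) F := !![p, r - 1; r + 1, -p]

/-- the matrix `u` -/
def um (i2 : F) : Matrix (Fin 2) (Fin 2) F := !![i2, i2; i2, -i2]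

/-- the matrix `δ` -/
def dm : Matrix (Fin 2) (Fin 2) F := !![1, 0; 0, -1]

theorem kr_smul_one (c d : F) :
    kr (c • (1 : Matrix (Fin 2) (Fin 2) F)) (d • (1 : Matrix (Fin 2) (Fin 2) F)) = (c * d) • 1 := by
  unfold kr
  rw [← fromBlocks_one, fromBlocks_smul]
  congr 1 <;> simp [smul_smul]

theorem z_coe' : ((io ((1 : SpecialLinearGroup (Fin 2) F), (eN : SpecialLinearGroup (Fin 2) F)) :
    symplecticGroup (Fin 2) F) : Matrix (Fin 2 ⊕ Fin 2) (Fin 2 ⊕ Fin 2) F) = kr 1 dm := by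
  rw [z_coe, dz, ← fromBlocks_diagonal]
  unfold kr
  congr 1 <;>
  · ext i k
    fin_cases i <;> fin_cases k <;> simp [dm]

theorem Jm_coe : ((Jm : SpecialLinearGroup (Fin 2) F) : Matrix (Fin 2) (Fin 2) F) =
    !![0, -1; 1, 0] := rfl

theorem om_coe (p r : F) (h : p ^ 2 + r ^ 2 = -1) :
    ((om p r h : SpecialLinearGroup (Fin 2) F) : Matrix (Fin 2) (Fin 2) F) = !![p, r; r, -p] := rfl

/-- the element `t` -/
def tt (i2 : F) (hi : 2 * i2 = 1) (p r : F) (h : p ^ 2 + r ^ 2 = -1) :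
    symplecticGroup (Fin 2) F :=
  ⟨kr (sm p r) (um i2), kr_mem _ _ (by
    rw [Matrix.det_fin_two]
    ext i k
    fin_cases i <;> fin_cases k <;>
      simp [sm, um, Matrix.mul_apply, Fin.sum_univ_two]
    · linear_combination (-2 * i2 ^ 2) * h + (2 * i2 + 1) * hi
    · linear_combination (-2 * i2 ^ 2) * h + (2 * i2 + 1) * hi)⟩

theorem tt_coe (i2 : F) (hi : 2 * i2 = 1) (p r : F) (h : p ^ 2 + r ^ 2 = -1) :
    ((tt i2 hi p r h : symplecticGroup (Fin 2) F) : Matrix (Fin 2 ⊕ Fin 2) (Fin 2 ⊕ Fin 2) F) =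
      kr (sm p r) (um i2) := rfl

theorem tt_sq (i2 : F) (hi : 2 * i2 = 1) (p r : F) (h : p ^ 2 + r ^ 2 = -1) :
    tt i2 hi p r h * tt i2 hi p r h = io (eN, eN) := by
  apply Subtype.ext
  show kr (sm p r) (um i2) * kr (sm p r) (um i2) = _
  rw [eps_coe, kr_mul]
  have h1 : sm p r * sm p r = (-2 : F) • (1 : Matrix (Fin 2) (Fin 2) F) := by
    ext i k
    fin_cases i <;> fin_cases k <;> simp [sm, Matrix.mul_apply, Fin.sum_univ_two]
    · linear_combination h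
    · ring
    · ring
    · linear_combination h
  have h2 : um i2 * um i2 = (2 * i2 ^ 2 : F) • (1 : Matrix (Fin 2) (Fin 2) F) := by
    ext i k
    fin_cases i <;> fin_cases k <;> simp [um, Matrix.mul_apply, Fin.sum_univ_two] <;> ring
  rw [h1, h2, kr_smul_one]
  have h3 : (-2 : F) * (2 * i2 ^ 2) = -1 := by linear_combination (-(2 * i2 + 1)) * hi
  rw [h3, neg_smul, one_smul]

/-- a general conjugation relation for Kronecker products -/
theorem conj_of_kr {t x y : symplecticGroup (Fin 2) F} {A B A' B' A'' B'' : Matrix (Fin 2) (Fin 2) F}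
    (ht : (t : Matrix (Fin 2 ⊕ Fin 2) (Fin 2 ⊕ Fin 2) F) = kr A B)
    (hx : (x : Matrix (Fin 2 ⊕ Fin 2) (Fin 2 ⊕ Fin 2) F) = kr A' B')
    (hy : (y : Matrix (Fin 2 ⊕ Fin 2) (Fin 2 ⊕ Fin 2) F) = kr A'' B'')
    (hA : A * A' = A'' * A) (hB : B * B' = B'' * B) : t * x * t⁻¹ = y := by
  rw [mul_inv_eq_iff_eq_mul]
  apply Subtype.ext
  show (t : Matrix (Fin 2 ⊕ Fin 2) (Fin 2 ⊕ Fin 2) F) * x = y * t
  rw [ht, hx, hy, kr_mul, kr_mul, hA, hB]

theorem tt_j (i2 : F) (hi : 2 * i2 = 1) (p r : F) (h : p ^ 2 + r ^ 2 = -1) :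
    tt i2 hi p r h * io (Jm, Jm) * (tt i2 hi p r h)⁻¹ = io (om p r h, om p r h) := by
  apply conj_of_kr (tt_coe i2 hi p r h) (io_diag _) (io_diag _)
  · rw [Jm_coe, om_coe]
    ext i k
    fin_cases i <;> fin_cases k <;> simp [sm, Matrix.mul_apply, Fin.sum_univ_two] <;>
      first | ring1 | linear_combination h | linear_combination -h
  · rw [mul_one, one_mul]

theorem tt_w (i2 : F) (hi : 2 * i2 = 1) (p r : F) (h : p ^ 2 + r ^ 2 = -1) :
    tt i2 hi p r h * io (om p r h, om p r h) * (tt i2 hi p r h)⁻¹ = io (Jm, Jm) := by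
  apply conj_of_kr (tt_coe i2 hi p r h) (io_diag _) (io_diag _)
  · rw [Jm_coe, om_coe]
    ext i k
    fin_cases i <;> fin_cases k <;> simp [sm, Matrix.mul_apply, Fin.sum_univ_two] <;>
      first | ring1 | linear_combination h | linear_combination -h
  · rw [mul_one, one_mul]

theorem tt_z (i2 : F) (hi : 2 * i2 = 1) (p r : F) (h : p ^ 2 + r ^ 2 = -1) :
    tt i2 hi p r h * io (1, eN) * (tt i2 hi p r h)⁻¹ = tau := by
  apply conj_of_kr (tt_coe i2 hi p r h) z_coe' tau_coe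
  · rw [mul_one, one_mul]
  · ext i k
    fin_cases i <;> fin_cases k <;> simp [um, dm, sg, Matrix.mul_apply, Fin.sum_univ_two]

theorem tt_tau (i2 : F) (hi : 2 * i2 = 1) (p r : F) (h : p ^ 2 + r ^ 2 = -1) :
    tt i2 hi p r h * tau * (tt i2 hi p r h)⁻¹ = io (1, eN) := by
  apply conj_of_kr (tt_coe i2 hi p r h) tau_coe z_coe'
  · rw [mul_one, one_mul]
  · ext i k
    fin_cases i <;> fin_cases k <;> simp [um, dm, sg, Matrix.mul_apply, Fin.sum_univ_two]

theorem tt_d (i2 : F) (hi : 2 * i2 = 1) (p r : F) (h : p ^ 2 + r ^ 2 = -1) :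
    tt i2 hi p r h * io (aa i2 hi p r h, aa i2 hi p r h) * (tt i2 hi p r h)⁻¹ =
      io (Jm, Jm) * (io (aa i2 hi p r h, aa i2 hi p r h))⁻¹ := by
  set a := aa i2 hi p r h with ha
  set t := tt i2 hi p r h with ht
  -- the relation `Δ(a j⁻¹) t Δ(a) = t`
  have hR : io (a * Jm⁻¹, a * Jm⁻¹) * t * io (a, a) = t := by
    apply Subtype.ext
    show ((io (a * Jm⁻¹, a * Jm⁻¹) : symplecticGroup (Fin 2) F) :
      Matrix (Fin 2 ⊕ Fin 2) (Fin 2 ⊕ Fin 2) F) * t * io (a, a) = t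
    rw [io_diag, io_diag, ht, tt_coe, kr_mul, kr_mul, one_mul, mul_one]
    congr 1
    rw [Jm_inv]
    ext i k
    fin_cases i <;> fin_cases k <;>
      simp [sm, Matrix.mul_apply, Fin.sum_univ_two, ha, aa, eN, cj]
    · linear_combination (i2 ^ 2 * (-2 * p)) * h + (2 * i2 + 1) * p * hi
    · linear_combination (i2 ^ 2 * (2 - 2 * r)) * h + (2 * i2 + 1) * (r - 1) * hi
    · linear_combination (i2 ^ 2 * (-2 - 2 * r)) * h + (2 * i2 + 1) * (r + 1) * hi
    · linear_combination (i2 ^ 2 * (2 * p)) * h + (2 * i2 + 1) * (-p) * hi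
  have hR' : io (a, a) * (io (Jm, Jm))⁻¹ * t * io (a, a) = t := by
    have : io (a * Jm⁻¹, a * Jm⁻¹) = io (a, a) * (io (Jm, Jm))⁻¹ := by
      rw [← map_inv, ← map_mul, Prod.inv_mk, Prod.mk_mul_mk]
    rw [← this]
    exact hR
  rw [mul_inv_eq_iff_eq_mul]
  calc t * io (a, a) = (io (Jm, Jm) * (io (a, a))⁻¹) *
        (io (a, a) * (io (Jm, Jm))⁻¹ * t * io (a, a)) := by group
    _ = io (Jm, Jm) * (io (a, a))⁻¹ * t := by rw [hR']

/-- the data of Case B -/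
theorem caseB (h2 : (2 : F) ≠ 0) (i2 : F) (hi : 2 * i2 = 1) (p r : F) (h : p ^ 2 + r ^ 2 = -1)
    (hB : ∀ y : SpecialLinearGroup (Fin 2) F, QC.IsC2 Jm y → y * y = 1 ∨ y * y = eN) :
    (wcfg h2).CaseB Jm (om p r h) (aa i2 hi p r h) (tt i2 hi p r h) where
  hB := hB
  a_cube := aa_cube i2 hi p r h
  a_j := aa_J i2 hi p r h
  a_w := aa_om i2 hi p r h
  t_sq := tt_sq i2 hi p r h
  t_j := tt_j i2 hi p r h
  t_w := tt_w i2 hi p r h
  t_z := tt_z i2 hi p r h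
  t_tau := tt_tau i2 hi p r h
  t_d := tt_d i2 hi p r h

end Cfsg.Agent.Lead.Sp4Two
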