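import Mathlib
import Cfsg.Prelude.Def_Classical
import Cfsg.Agent.Lead.Sp4TwoC
import Cfsg.Agent.Lead.SimpleCritG

set_option autoImplicit false

/-!
# The `2`-fusion system of `PSp_4(F)`, `|F|` odd, is simple
-/

namespace Cfsg.Agent.Lead.Sp4Two

open Matrix Cfsg Cfsg.Agent.Lead.SpFus Cfsg.Agent.Lead.SL2Q Cfsg.Agent.Lead.SimpCrit

variable {F : Type*} [Field F]

theorem exists_sum_sq [Fintype F] (hodd : Fintype.card F % 2 = 1) :
    ∃ p r : F, p ^ 2 + r ^ 2 = -1 := by
  have hf : (Polynomial.X ^ 2 : Polynomial F).degree = 2 := by compute_degree!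
  have hg : (Polynomial.X ^ 2 + 1 : Polynomial F).degree = 2 := by compute_degree!
  obtain ⟨x, z, hxz⟩ := FiniteField.exists_root_sum_quadratic hf hg hodd
  refine ⟨x, z, ?_⟩
  simp only [Polynomial.eval_add, Polynomial.eval_pow, Polynomial.eval_X, Polynomial.eval_one]
    at hxz
  linear_combination hxz

/-- the conclusion of the abstract analysis holds in `Sp_4(F)` -/
theorem concl [Finite F] (h2 : (2 : F) ≠ 0) (i2 : F) (hi : 2 * i2 = 1) (p r : F)
    (h : p ^ 2 + r ^ 2 = -1) : (wcfg h2).Concl (cfg h2 i2 hi p r h).Q := by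
  haveI : Finite (SpecialLinearGroup (Fin 2) F) :=
    Finite.of_injective (fun x : SpecialLinearGroup (Fin 2) F => (x : Matrix (Fin 2) (Fin 2) F))
      Subtype.val_injective
  haveI : Finite (symplecticGroup (Fin 2) F) :=
    Finite.of_injective (fun x : symplecticGroup (Fin 2) F =>
      (x : Matrix (Fin 2 ⊕ Fin 2) (Fin 2 ⊕ Fin 2) F)) Subtype.val_injective
  by_cases hy : ∃ y : SpecialLinearGroup (Fin 2) F, QC.IsC2 Jm y ∧ y * y ≠ 1 ∧ y * y ≠ eN
  · exact (wcfg h2).concl_caseA (cfg h2 i2 hi p r h) (tt i2 hi p r h) (tt_z i2 hi p r h) hy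
  · have hB : ∀ y : SpecialLinearGroup (Fin 2) F, QC.IsC2 Jm y → y * y = 1 ∨ y * y = eN := by
      intro y hy2
      by_contra hcon
      rw [not_or] at hcon
      exact hy ⟨y, hy2, hcon.1, hcon.2⟩
    exact (wcfg h2).concl_caseB (cfg h2 i2 hi p r h) (caseB h2 i2 hi p r h hB)

/-- the `2`-fusion system of `PSp_4(F)`, `|F|` odd, is simple -/
theorem main [Fintype F] (hodd : Fintype.card F % 2 = 1) (S : Sylow 2 (Cfsg.PSp 2 F)) :
    (groupFusionSystem (S : Subgroup (Cfsg.PSp 2 F))).IsSimple 2 := by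
  haveI : Fact (Nat.Prime 2) := ⟨Nat.prime_two⟩
  have h2 : (2 : F) ≠ 0 := by
    intro h
    have hchar : ringChar F = 2 := by
      have hdvd : ringChar F ∣ 2 := by
        apply ringChar.dvd
        exact_mod_cast h
      rcases (Nat.dvd_prime Nat.prime_two).mp hdvd with h1 | h1
      · exact absurd h1 CharP.ringChar_ne_one
      · exact h1
    have := FiniteField.even_card_of_char_two hchar
    omega
  have hi : (2 : F) * 2⁻¹ = 1 := mul_inv_cancel₀ h2
  obtain ⟨p, r, h⟩ := exists_sum_sq hodd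
  haveI : Finite (symplecticGroup (Fin 2) F) :=
    Finite.of_injective (fun x : symplecticGroup (Fin 2) F =>
      (x : Matrix (Fin 2 ⊕ Fin 2) (Fin 2 ⊕ Fin 2) F)) Subtype.val_injective
  set c := wcfg (F := F) h2 with hc
  set q := cfg h2 2⁻¹ hi p r h with hq
  obtain ⟨⟨P₀, hP₀⟩, ha, hb⟩ := concl h2 2⁻¹ hi p r h
  have hsurj : Function.Surjective
      (QuotientGroup.mk' (Subgroup.center (symplecticGroup (Fin 2) F))) :=
    QuotientGroup.mk'_surjective _
  have hZ : c.Z = Subgroup.center (symplecticGroup (Fin 2) F) := Z_eq_center h2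
  apply critC_all 2 (P₀.mapSurjective hsurj) _ _ S
  · rw [Sylow.coe_mapSurjective, hP₀]
    intro hbot
    have h1 : QuotientGroup.mk' (Subgroup.center (symplecticGroup (Fin 2) F)) (io (1, eN)) ∈
        (c.S q.Q).map (QuotientGroup.mk' (Subgroup.center (symplecticGroup (Fin 2) F))) :=
      ⟨_, (c.io_mem_S _).mpr ⟨q.Q.one_mem, q.e_mem_Q⟩, rfl⟩
    rw [hbot, Subgroup.mem_bot, QuotientGroup.mk'_apply, QuotientGroup.eq_one_iff, ← hZ] at h1
    rcases c.io_mem_Z h1 with ⟨-, h3⟩ | ⟨h3, -⟩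
    · exact eN_ne h2 h3
    · exact eN_ne h2 h3.symm
  · rw [Sylow.coe_mapSurjective, hP₀]
    apply critC_quotient_central (Subgroup.center (symplecticGroup (Fin 2) F))
    · rw [← hZ]
      exact c.Z_le_S _ q.e_mem_Q
    · rw [← hZ]
      exact ha
    · rw [← hZ]
      exact hb

end Cfsg.Agent.Lead.Sp4Two
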