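import Mathlib
import Cfsg.Prelude.Def_GeometricClasses
import Cfsg.Agent.Helper7.SympTransitive

set_option autoImplicit false

/-! # Orthogonal decompositions of the symplectic space over the field with two elements, part A

The parity form `Q` attached to a decomposition into non-degenerate pairwise orthogonal planes. -/

namespace Cfsg.Agent.Lead.SpDecomp

open Matrix Cfsg Cfsg.Geo Cfsg.Agent.Helper7.Symp

variable {F : Type*} [Field F] {m t : ℕ}

theorem sympForm_zero_right (x : Fin m ⊕ Fin m → F) : sympForm m F x 0 = 0 := by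
  unfold sympForm; simp

theorem sympForm_zero_left (x : Fin m ⊕ Fin m → F) : sympForm m F 0 x = 0 := by
  unfold sympForm; simp

theorem sympForm_sum_right {ι : Type*} (x : Fin m ⊕ Fin m → F) (s : Finset ι)
    (c : ι → (Fin m ⊕ Fin m → F)) :
    sympForm m F x (∑ i ∈ s, c i) = ∑ i ∈ s, sympForm m F x (c i) := by
  classical
  induction s using Finset.induction_on with
  | empty => simp [sympForm_zero_right]
  | insert a s ha ih => rw [Finset.sum_insert ha, Finset.sum_insert ha, sympForm_add_right, ih]

theorem sympForm_sum_left {ι : Type*} (x : Fin m ⊕ Fin m → F) (s : Finset ι)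
    (c : ι → (Fin m ⊕ Fin m → F)) :
    sympForm m F (∑ i ∈ s, c i) x = ∑ i ∈ s, sympForm m F (c i) x := by
  classical
  induction s using Finset.induction_on with
  | empty => simp [sympForm_zero_left]
  | insert a s ha ih => rw [Finset.sum_insert ha, Finset.sum_insert ha, sympForm_add_left, ih]

/-- the field with two elements: every element is `0` or `1` -/
theorem eq_zero_or_one [Fintype F] (hq : Fintype.card F = 2) (a : F) : a = 0 ∨ a = 1 := by
  by_cases h : a = 0
  · exact Or.inl h
  · right
    have := FiniteField.pow_card_sub_one_eq_one a h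
    rw [hq] at this
    simpa using this

theorem one_add_one [Fintype F] (hq : Fintype.card F = 2) : (1 : F) + 1 = 0 := by
  rcases eq_zero_or_one hq ((1 : F) + 1) with h | h
  · exact h
  · exfalso
    have : (1 : F) = 0 := by linear_combination h
    exact one_ne_zero this

theorem add_self' [Fintype F] (hq : Fintype.card F = 2) (a : F) : a + a = 0 := by
  have := one_add_one hq
  linear_combination a * this

theorem vadd_self [Fintype F] (hq : Fintype.card F = 2) (v : Fin m ⊕ Fin m → F) : v + v = 0 := by
  ext i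
  exact add_self' hq (v i)

/-- the set of indices whose plane sees the vector -/
noncomputable def nz (D : Fin t → Submodule F (Fin m ⊕ Fin m → F)) (v : Fin m ⊕ Fin m → F) :
    Finset (Fin t) := by
  classical
  exact Finset.univ.filter (fun i => ∃ y ∈ D i, sympForm m F y v ≠ 0)

theorem mem_nz (D : Fin t → Submodule F (Fin m ⊕ Fin m → F)) (v : Fin m ⊕ Fin m → F) (i : Fin t) :
    i ∈ nz D v ↔ ∃ y ∈ D i, sympForm m F y v ≠ 0 := by
  unfold nz
  simp

/-- the parity form -/
noncomputable def Q (D : Fin t → Submodule F (Fin m ⊕ Fin m → F)) (v : Fin m ⊕ Fin m → F) : F :=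
  ((nz D v).card : F)

variable {D : Fin t → Submodule F (Fin m ⊕ Fin m → F)}

theorem nz_sum (hD : IsNondegenerateMDecomposition (sympForm m F) 2 D)
    (c : Fin t → (Fin m ⊕ Fin m → F)) (hc : ∀ i, c i ∈ D i) [DecidablePred fun i => c i ≠ 0] :
    nz D (∑ i, c i) = Finset.univ.filter (fun i => c i ≠ 0) := by
  ext i
  rw [mem_nz, Finset.mem_filter]
  simp only [Finset.mem_univ, true_and]
  have key : ∀ y ∈ D i, sympForm m F y (∑ j, c j) = sympForm m F y (c i) := by
    intro y hy
    rw [sympForm_sum_right, Finset.sum_eq_single i]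
    · intro j _ hj
      exact hD.orthogonal i j (Ne.symm hj) y hy (c j) (hc j)
    · intro h; exact absurd (Finset.mem_univ i) h
  constructor
  · rintro ⟨y, hy, hne⟩ h0
    rw [key y hy, h0, sympForm_zero_right] at hne
    exact hne rfl
  · intro h0
    obtain ⟨⟨x, hx, hxne⟩, _⟩ := hD.nondegenerate i (c i) (hc i) h0
    exact ⟨x, hx, by rw [key x hx]; exact hxne⟩

theorem Q_sum (hD : IsNondegenerateMDecomposition (sympForm m F) 2 D)
    (c : Fin t → (Fin m ⊕ Fin m → F)) (hc : ∀ i, c i ∈ D i) [DecidablePred fun i => c i ≠ 0] :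
    Q D (∑ i, c i) = ∑ i, (if c i ≠ 0 then (1 : F) else 0) := by
  unfold Q
  rw [nz_sum hD c hc, Finset.card_filter, Nat.cast_sum]
  apply Finset.sum_congr rfl
  intro i _
  split_ifs <;> simp

theorem Q_single (hD : IsNondegenerateMDecomposition (sympForm m F) 2 D) (j : Fin t)
    (z : Fin m ⊕ Fin m → F) (hz : z ∈ D j) (hz0 : z ≠ 0) : Q D z = 1 := by
  unfold Q
  have : nz D z = {j} := by
    ext i
    rw [mem_nz, Finset.mem_singleton]
    constructor
    · rintro ⟨y, hy, hne⟩
      by_contra hij
      exact hne (hD.orthogonal i j hij y hy z hz)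
    · rintro rfl
      obtain ⟨⟨x, hx, hxne⟩, _⟩ := hD.nondegenerate i z hz hz0
      exact ⟨x, hx, hxne⟩
  rw [this, Finset.card_singleton, Nat.cast_one]

/-- every vector is a sum of components -/
theorem exists_components (hD : IsNondegenerateMDecomposition (sympForm m F) 2 D)
    (x : Fin m ⊕ Fin m → F) : ∃ c : Fin t → (Fin m ⊕ Fin m → F), (∀ i, c i ∈ D i) ∧ ∑ i, c i = x := by
  have hx : x ∈ iSup D := by rw [hD.decomp.iSup_eq_top]; trivial
  obtain ⟨f, hf, hsum⟩ := (Submodule.mem_iSup_iff_exists_finsupp D x).1 hx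
  refine ⟨fun i => f i, hf, ?_⟩
  rw [← hsum, Finsupp.sum_fintype]
  intro i; rfl

end Cfsg.Agent.Lead.SpDecomp
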