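import Mathlib
import Cfsg.Agent.Lead.SpDecompA

set_option autoImplicit false

/-! # Orthogonal decompositions of the symplectic space over the field with two elements, part B

The parity form is a quadratic form with polar form the symplectic form. -/

namespace Cfsg.Agent.Lead.SpDecomp

open Matrix Cfsg Cfsg.Geo Cfsg.Agent.Helper7.Symp

variable {F : Type*} [Field F] [Fintype F] {m t : ℕ}

/-- in a non-degenerate plane over the field with two elements, two distinct non-zero vectors pair
to one -/
theorem plane_pair (hq : Fintype.card F = 2) (W : Submodule F (Fin m ⊕ Fin m → F))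
    (hdim : Module.finrank F W = 2) (hW : IsNondegenerateOn (sympForm m F) W)
    (u v : Fin m ⊕ Fin m → F) (hu : u ∈ W) (hv : v ∈ W) (hu0 : u ≠ 0) (hv0 : v ≠ 0) (huv : u ≠ v) :
    sympForm m F u v = 1 := by
  have hli : LinearIndependent F ![u, v] := by
    rw [LinearIndependent.pair_iff]
    intro a b hab
    rcases eq_zero_or_one hq a with ha | ha <;> rcases eq_zero_or_one hq b with hb | hb
    · exact ⟨ha, hb⟩
    · exfalso; rw [ha, hb, zero_smul, one_smul, zero_add] at hab; exact hv0 hab
    · exfalso; rw [ha, hb, zero_smul, one_smul, add_zero] at hab; exact hu0 hab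
    · exfalso
      rw [ha, hb, one_smul, one_smul] at hab
      apply huv
      have h2 := vadd_self hq v
      have : u = u + (v + v) := by rw [h2, add_zero]
      rw [this, ← add_assoc, hab, zero_add]
  have hspan_le : Submodule.span F (Set.range ![u, v]) ≤ W := by
    rw [Submodule.span_le]
    rintro _ ⟨i, rfl⟩
    fin_cases i
    · exact hu
    · exact hv
  have hfr : Module.finrank F (Submodule.span F (Set.range ![u, v])) = 2 := by
    rw [finrank_span_eq_card hli]; simp
  have hWfd : FiniteDimensional F W := inferInstance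
  have hspan : Submodule.span F (Set.range ![u, v]) = W :=
    Submodule.eq_of_le_of_finrank_eq hspan_le (by rw [hfr, hdim])
  obtain ⟨⟨x, hx, hxne⟩, _⟩ := hW v hv hv0
  rw [← hspan] at hx
  have hrange : Set.range ![u, v] = {u, v} := by
    ext z
    simp only [Set.mem_range, Set.mem_insert_iff, Set.mem_singleton_iff]
    constructor
    · rintro ⟨i, rfl⟩
      fin_cases i
      · left; rfl
      · right; rfl
    · rintro (rfl | rfl)
      · exact ⟨0, rfl⟩
      · exact ⟨1, rfl⟩
  rw [hrange, Submodule.mem_span_pair] at hx
  obtain ⟨a, b, rfl⟩ := hx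
  rw [sympForm_add_left, sympForm_smul_left, sympForm_smul_left, sympForm_self, mul_zero,
    add_zero] at hxne
  rcases eq_zero_or_one hq (sympForm m F u v) with h | h
  · rw [h, mul_zero] at hxne; exact absurd rfl hxne
  · exact h

/-- the parity identity in one plane -/
theorem plane_identity (hq : Fintype.card F = 2) (W : Submodule F (Fin m ⊕ Fin m → F))
    (hdim : Module.finrank F W = 2) (hW : IsNondegenerateOn (sympForm m F) W)
    (u v : Fin m ⊕ Fin m → F) (hu : u ∈ W) (hv : v ∈ W)
    [Decidable (u + v ≠ 0)] [Decidable (u ≠ 0)] [Decidable (v ≠ 0)] :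
    (if u + v ≠ 0 then (1 : F) else 0) =
      (if u ≠ 0 then (1 : F) else 0) + (if v ≠ 0 then (1 : F) else 0) + sympForm m F u v := by
  by_cases hu0 : u = 0
  · have h1 : (u + v ≠ 0) ↔ (v ≠ 0) := by rw [hu0, zero_add]
    by_cases hv0 : v = 0
    · rw [if_neg (fun h => (h1.1 h) hv0), if_neg (not_not.2 hu0), if_neg (not_not.2 hv0), hu0,
        sympForm_zero_left]
      simp
    · rw [if_pos (h1.2 hv0), if_neg (not_not.2 hu0), if_pos hv0, hu0, sympForm_zero_left]
      simp
  by_cases hv0 : v = 0
  · have h1 : (u + v ≠ 0) ↔ (u ≠ 0) := by rw [hv0, add_zero]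
    rw [if_pos (h1.2 hu0), if_pos hu0, if_neg (not_not.2 hv0), hv0, sympForm_zero_right]
    simp
  by_cases huv : u = v
  · have h1 : u + v = 0 := by rw [huv]; exact vadd_self hq v
    rw [if_neg (not_not.2 h1), if_pos hu0, if_pos hv0, huv, sympForm_self, add_zero]
    exact (one_add_one hq).symm
  · have h1 := plane_pair hq W hdim hW u v hu hv hu0 hv0 huv
    have hne : u + v ≠ 0 := by
      intro h
      apply huv
      have h2 := vadd_self hq v
      have : u = u + (v + v) := by rw [h2, add_zero]
      rw [this, ← add_assoc, h, zero_add]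
    rw [h1, if_pos hne, if_pos hu0, if_pos hv0]
    have := one_add_one hq
    linear_combination -this

variable {D : Fin t → Submodule F (Fin m ⊕ Fin m → F)}

/-- the parity form is quadratic with polar form the symplectic form -/
theorem Q_add (hq : Fintype.card F = 2) (hD : IsNondegenerateMDecomposition (sympForm m F) 2 D)
    (x w : Fin m ⊕ Fin m → F) : Q D (x + w) = Q D x + Q D w + sympForm m F x w := by
  classical
  obtain ⟨c, hc, rfl⟩ := exists_components hD x
  obtain ⟨d, hd, rfl⟩ := exists_components hD w
  rw [← Finset.sum_add_distrib, Q_sum hD (fun i => c i + d i) (fun i => (D i).add_mem (hc i) (hd i)),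
    Q_sum hD c hc, Q_sum hD d hd]
  have hB : sympForm m F (∑ i, c i) (∑ i, d i) = ∑ i, sympForm m F (c i) (d i) := by
    rw [sympForm_sum_left]
    apply Finset.sum_congr rfl
    intro i _
    rw [sympForm_sum_right, Finset.sum_eq_single i]
    · intro j _ hj
      exact hD.orthogonal i j (Ne.symm hj) (c i) (hc i) (d j) (hd j)
    · intro h; exact absurd (Finset.mem_univ i) h
  rw [hB, ← Finset.sum_add_distrib, ← Finset.sum_add_distrib]
  apply Finset.sum_congr rfl
  intro i _
  exact plane_identity hq (D i) (hD.decomp.finrank_eq i) (hD.nondegenerate i) (c i) (d i) (hc i) (hd i)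

end Cfsg.Agent.Lead.SpDecomp
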