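import Mathlib
import Cfsg.Agent.Lead.SpDecompB

set_option autoImplicit false

/-! # Orthogonal decompositions of the symplectic space over the field with two elements, part C

The isometry group of the parity form lies strictly between the decomposition stabiliser and the
symplectic group. -/

namespace Cfsg.Agent.Lead.SpDecomp

open Matrix Cfsg Cfsg.Geo Cfsg.Agent.Helper7.Symp

variable {F : Type*} [Field F] [Fintype F] {m t : ℕ}

theorem sympTransvection_zero (w : Fin m ⊕ Fin m → F) : sympTransvection m w (0 : F) = 1 := by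
  unfold sympTransvection; simp

/-- the transvection as an element of the general linear group (an involution in
characteristic two) -/
noncomputable def tv (hq : Fintype.card F = 2) (w : Fin m ⊕ Fin m → F) :
    Matrix.GeneralLinearGroup (Fin m ⊕ Fin m) F :=
  ⟨sympTransvection m w 1, sympTransvection m w 1,
    by rw [sympTransvection_mul, one_add_one hq, sympTransvection_zero],
    by rw [sympTransvection_mul, one_add_one hq, sympTransvection_zero]⟩

theorem tv_mulVec (hq : Fintype.card F = 2) (w x : Fin m ⊕ Fin m → F) :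
    ((tv hq w : Matrix.GeneralLinearGroup (Fin m ⊕ Fin m) F) :
      Matrix (Fin m ⊕ Fin m) (Fin m ⊕ Fin m) F) *ᵥ x = x + sympForm m F x w • w := by
  show sympTransvection m w 1 *ᵥ x = _
  rw [sympTransvection_mulVec, one_mul]

theorem mem_spGL_iff (g : Matrix.GeneralLinearGroup (Fin m ⊕ Fin m) F) :
    g ∈ spGL m F ↔ ∀ u v, sympForm m F ((g : Matrix (Fin m ⊕ Fin m) (Fin m ⊕ Fin m) F) *ᵥ u)
      ((g : Matrix (Fin m ⊕ Fin m) (Fin m ⊕ Fin m) F) *ᵥ v) = sympForm m F u v := Iff.rfl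

theorem tv_mem_spGL (hq : Fintype.card F = 2) (w : Fin m ⊕ Fin m → F) : tv hq w ∈ spGL m F := by
  rw [mem_spGL_iff]
  intro u v
  exact sympForm_mulVec ⟨sympTransvection m w 1, sympTransvection_mem m w 1⟩ u v

/-- the isometry group of the parity form inside the symplectic group -/
def KK (D : Fin t → Submodule F (Fin m ⊕ Fin m → F)) :
    Subgroup (Matrix.GeneralLinearGroup (Fin m ⊕ Fin m) F) where
  carrier := {g | g ∈ spGL m F ∧
    ∀ v, Q D ((g : Matrix (Fin m ⊕ Fin m) (Fin m ⊕ Fin m) F) *ᵥ v) = Q D v}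
  mul_mem' := by
    rintro a b ⟨ha, ha'⟩ ⟨hb, hb'⟩
    refine ⟨mul_mem ha hb, fun v => ?_⟩
    rw [Units.val_mul, ← mulVec_mulVec, ha', hb']
  one_mem' := ⟨one_mem _, fun v => by simp⟩
  inv_mem' := by
    rintro a ⟨ha, ha'⟩
    refine ⟨inv_mem ha, fun v => ?_⟩
    have := ha' (((a⁻¹ : Matrix.GeneralLinearGroup (Fin m ⊕ Fin m) F) :
      Matrix (Fin m ⊕ Fin m) (Fin m ⊕ Fin m) F) *ᵥ v)
    rw [mulVec_mulVec, ← Units.val_mul, mul_inv_cancel, Units.val_one, one_mulVec] at this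
    exact this.symm

variable {D : Fin t → Submodule F (Fin m ⊕ Fin m → F)}

theorem mem_KK (g : Matrix.GeneralLinearGroup (Fin m ⊕ Fin m) F) :
    g ∈ KK D ↔ g ∈ spGL m F ∧
      ∀ v, Q D ((g : Matrix (Fin m ⊕ Fin m) (Fin m ⊕ Fin m) F) *ᵥ v) = Q D v := Iff.rfl

theorem stab_le (D : Fin t → Submodule F (Fin m ⊕ Fin m → F)) :
    decompositionStabilizer D ⊓ spGL m F ≤ KK D := by
  rintro g ⟨⟨σ, hσ⟩, hg⟩
  have hg' := (mem_spGL_iff g).1 hg
  refine ⟨hg, fun v => ?_⟩
  unfold Q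
  congr 1
  have : nz D ((g : Matrix (Fin m ⊕ Fin m) (Fin m ⊕ Fin m) F) *ᵥ v) =
      (nz D v).map σ.toEmbedding := by
    ext i
    rw [Finset.mem_map_equiv, mem_nz, mem_nz]
    have h1 := hσ (σ.symm i)
    rw [Equiv.apply_symm_apply] at h1
    constructor
    · rintro ⟨y, hy, hne⟩
      rw [← h1] at hy
      obtain ⟨y', hy', rfl⟩ := hy
      refine ⟨y', hy', ?_⟩
      rw [Matrix.toLin'_apply, hg' y' v] at hne
      exact hne
    · rintro ⟨y, hy, hne⟩
      refine ⟨(g : Matrix (Fin m ⊕ Fin m) (Fin m ⊕ Fin m) F) *ᵥ y, ?_, ?_⟩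
      · rw [← h1]
        exact ⟨y, hy, Matrix.toLin'_apply _ _⟩
      · rw [hg' y v]; exact hne
  rw [this, Finset.card_map]

theorem tv_mem_KK (hq : Fintype.card F = 2)
    (hD : IsNondegenerateMDecomposition (sympForm m F) 2 D) (w : Fin m ⊕ Fin m → F)
    (hw : Q D w = 1) : tv hq w ∈ KK D := by
  refine ⟨tv_mem_spGL hq w, fun x => ?_⟩
  rw [tv_mulVec]
  rcases eq_zero_or_one hq (sympForm m F x w) with h | h
  · rw [h, zero_smul, add_zero]
  · rw [h, one_smul, Q_add hq hD, hw, h]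
    linear_combination one_add_one hq

theorem tv_not_mem_stab (hq : Fintype.card F = 2)
    (hD : IsNondegenerateMDecomposition (sympForm m F) 2 D) (i0 i1 i2 : Fin t)
    (h01 : i0 ≠ i1) (h02 : i0 ≠ i2) (h12 : i1 ≠ i2) (a b c : Fin m ⊕ Fin m → F)
    (ha : a ∈ D i0) (hb : b ∈ D i1) (hc : c ∈ D i2) (ha0 : a ≠ 0) (hb0 : b ≠ 0) (hc0 : c ≠ 0) :
    tv hq (a + b + c) ∉ decompositionStabilizer D := by
  rintro ⟨σ, hσ⟩
  obtain ⟨⟨x, hx, hxne⟩, _⟩ := hD.nondegenerate i0 a ha ha0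
  have hxa : sympForm m F x a = 1 := (eq_zero_or_one hq _).resolve_left hxne
  have hxw : sympForm m F x (a + b + c) = 1 := by
    rw [sympForm_add_right, sympForm_add_right, hxa, hD.orthogonal i0 i1 h01 x hx b hb,
      hD.orthogonal i0 i2 h02 x hx c hc, add_zero, add_zero]
  have hz : x + (a + b + c) ∈ D (σ i0) := by
    rw [← hσ i0]
    refine ⟨x, hx, ?_⟩
    rw [Matrix.toLin'_apply, tv_mulVec, hxw, one_smul]
  have key : ∀ (k : Fin t) (e : Fin m ⊕ Fin m → F), k ≠ σ i0 → e ∈ D k → e ≠ 0 →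
      (∀ y ∈ D k, sympForm m F y (x + (a + b + c)) = sympForm m F y e) → False := by
    intro k e hk he he0 hy
    obtain ⟨⟨y, hyk, hyne⟩, _⟩ := hD.nondegenerate k e he he0
    apply hyne
    rw [← hy y hyk]
    exact hD.orthogonal k (σ i0) hk y hyk _ hz
  by_cases hk : i1 = σ i0
  · apply key i2 c (by rw [← hk]; exact h12.symm) hc hc0
    intro y hy
    rw [sympForm_add_right, sympForm_add_right, sympForm_add_right,
      hD.orthogonal i2 i0 h02.symm y hy x hx, hD.orthogonal i2 i0 h02.symm y hy a ha,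
      hD.orthogonal i2 i1 h12.symm y hy b hb]
    simp
  · apply key i1 b hk hb hb0
    intro y hy
    rw [sympForm_add_right, sympForm_add_right, sympForm_add_right,
      hD.orthogonal i1 i0 h01.symm y hy x hx, hD.orthogonal i1 i0 h01.symm y hy a ha,
      hD.orthogonal i1 i2 h12 y hy c hc]
    simp

theorem tv_not_mem_KK (hq : Fintype.card F = 2)
    (hD : IsNondegenerateMDecomposition (sympForm m F) 2 D) (i0 i1 : Fin t)
    (h01 : i0 ≠ i1) (a b : Fin m ⊕ Fin m → F)
    (ha : a ∈ D i0) (hb : b ∈ D i1) (ha0 : a ≠ 0) (hb0 : b ≠ 0) :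
    tv hq (a + b) ∉ KK D := by
  rintro ⟨_, h⟩
  obtain ⟨⟨x, hx, hxne⟩, _⟩ := hD.nondegenerate i0 a ha ha0
  have hxa : sympForm m F x a = 1 := (eq_zero_or_one hq _).resolve_left hxne
  have hxw : sympForm m F x (a + b) = 1 := by
    rw [sympForm_add_right, hxa, hD.orthogonal i0 i1 h01 x hx b hb, add_zero]
  have hQw : Q D (a + b) = 0 := by
    rw [Q_add hq hD, Q_single hD i0 a ha ha0, Q_single hD i1 b hb hb0,
      hD.orthogonal i0 i1 h01 a ha b hb, add_zero]
    exact one_add_one hq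
  have h2 := h x
  rw [tv_mulVec, hxw, one_smul, Q_add hq hD, hQw, hxw] at h2
  have : (1 : F) = 0 := by linear_combination h2
  exact one_ne_zero this

theorem Q_three (hq : Fintype.card F = 2)
    (hD : IsNondegenerateMDecomposition (sympForm m F) 2 D) (i0 i1 i2 : Fin t)
    (h01 : i0 ≠ i1) (h02 : i0 ≠ i2) (h12 : i1 ≠ i2) (a b c : Fin m ⊕ Fin m → F)
    (ha : a ∈ D i0) (hb : b ∈ D i1) (hc : c ∈ D i2) (ha0 : a ≠ 0) (hb0 : b ≠ 0) (hc0 : c ≠ 0) :
    Q D (a + b + c) = 1 := by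
  rw [Q_add hq hD, Q_add hq hD, Q_single hD i0 a ha ha0, Q_single hD i1 b hb hb0,
    Q_single hD i2 c hc hc0, sympForm_add_left, hD.orthogonal i0 i1 h01 a ha b hb,
    hD.orthogonal i0 i2 h02 a ha c hc, hD.orthogonal i1 i2 h12 b hb c hc]
  linear_combination one_add_one hq

theorem index_eq (hD : IsNondegenerateMDecomposition (sympForm m F) 2 D) : t = m := by
  classical
  have hint : DirectSum.IsInternal D :=
    DirectSum.isInternal_submodule_of_iSupIndep_of_iSup_eq_top hD.decomp.indep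
      hD.decomp.iSup_eq_top
  have e := LinearEquiv.ofBijective (DirectSum.coeLinearMap D) hint
  have h1 := e.finrank_eq
  rw [Module.finrank_directSum] at h1
  simp only [hD.decomp.finrank_eq, Finset.sum_const, Finset.card_univ, Fintype.card_fin,
    smul_eq_mul] at h1
  rw [Module.finrank_fintype_fun_eq_card, Fintype.card_sum, Fintype.card_fin] at h1
  omega

theorem exists_ne_zero (hD : IsNondegenerateMDecomposition (sympForm m F) 2 D) (i : Fin t) :
    ∃ a ∈ D i, a ≠ 0 := by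
  have h : 0 < Module.finrank F (D i) := by rw [hD.decomp.finrank_eq i]; norm_num
  obtain ⟨x, hx⟩ := Module.finrank_pos_iff_exists_ne_zero.1 h
  exact ⟨x.1, x.2, fun h0 => hx (Subtype.ext h0)⟩

theorem s5648 (hm : 7 ≤ m) (hq : Fintype.card F = 2)
    (hD : IsNondegenerateMDecomposition (sympForm m F) 2 D) :
    ∃ K : Subgroup (Matrix.GeneralLinearGroup (Fin m ⊕ Fin m) F),
      decompositionStabilizer D ⊓ spGL m F < K ∧ K < spGL m F := by
  have ht := index_eq hD
  obtain ⟨a, ha, ha0⟩ := exists_ne_zero hD (⟨0, by omega⟩ : Fin t)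
  obtain ⟨b, hb, hb0⟩ := exists_ne_zero hD (⟨1, by omega⟩ : Fin t)
  obtain ⟨c, hc, hc0⟩ := exists_ne_zero hD (⟨2, by omega⟩ : Fin t)
  have h01 : (⟨0, by omega⟩ : Fin t) ≠ ⟨1, by omega⟩ := by
    intro h; simp [Fin.ext_iff] at h
  have h02 : (⟨0, by omega⟩ : Fin t) ≠ ⟨2, by omega⟩ := by
    intro h; simp [Fin.ext_iff] at h
  have h12 : (⟨1, by omega⟩ : Fin t) ≠ ⟨2, by omega⟩ := by
    intro h; simp [Fin.ext_iff] at h
  refine ⟨KK D, ?_, ?_⟩
  · rw [SetLike.lt_iff_le_and_exists]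
    refine ⟨stab_le D, tv hq (a + b + c), ?_, ?_⟩
    · exact tv_mem_KK hq hD _ (Q_three hq hD _ _ _ h01 h02 h12 a b c ha hb hc ha0 hb0 hc0)
    · intro h
      exact tv_not_mem_stab hq hD _ _ _ h01 h02 h12 a b c ha hb hc ha0 hb0 hc0 h.1
  · rw [SetLike.lt_iff_le_and_exists]
    refine ⟨fun g hg => hg.1, tv hq (a + b), tv_mem_spGL hq _, ?_⟩
    exact tv_not_mem_KK hq hD _ _ h01 a b ha hb ha0 hb0

end Cfsg.Agent.Lead.SpDecomp
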