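import Mathlib
import Cfsg.Agent.Lead.SpWeylB

set_option autoImplicit false

/-! # The normalizer of the diagonal torus of `Sp_{2m}(q)`, part C: the normalizer is monomial -/

namespace Cfsg.Agent.Lead.SpWeyl

open Matrix

variable {F : Type*} [Field F] {m : ℕ}

/-- the `Fin m` index under an index of `Fin m ⊕ Fin m` -/
def und : Fin m ⊕ Fin m → Fin m := Sum.elim id id

/-- the separating torus element -/
noncomputable def sep (x : Fˣ) (u : Fin m) : Fin m → Fˣ := Function.update (fun _ => 1) u x

theorem dvec_sep_ne (x : Fˣ) (hx : x * x ≠ 1) (j k : Fin m ⊕ Fin m) (hjk : k ≠ j) :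
    dvec (sep x (und j)) k ≠ dvec (sep x (und j)) j := by
  have hx1 : x ≠ 1 := by
    rintro rfl; exact hx (one_mul 1)
  have hxF : (x : F) ≠ 1 := fun h => hx1 (Units.ext h)
  have hxiF : (x : F)⁻¹ ≠ 1 := by
    intro h
    rw [← Units.val_inv_eq_inv_val] at h
    have : x⁻¹ = 1 := Units.ext h
    exact hx1 (inv_eq_one.1 this)
  have hxx : (x : F)⁻¹ ≠ (x : F) := by
    intro h
    rw [← Units.val_inv_eq_inv_val] at h
    have h1 : x⁻¹ = x := Units.ext h
    apply hx
    calc x * x = x⁻¹ * x := by rw [h1]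
      _ = 1 := inv_mul_cancel x
  rcases j with j | j <;> rcases k with k | k
  · have hkj : k ≠ j := fun h => hjk (by rw [h])
    simp [dvec, sep, und, Function.update_of_ne hkj]
    exact fun h => hxF h.symm
  · by_cases hkj : k = j
    · subst hkj
      simp [dvec, sep, und]
      exact hxx
    · simp [dvec, sep, und, Function.update_of_ne hkj]
      exact fun h => hxF h.symm
  · by_cases hkj : k = j
    · subst hkj
      simp [dvec, sep, und]
      exact fun h => hxx h.symm
    · simp [dvec, sep, und, Function.update_of_ne hkj]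
      exact fun h => hx1 h
  · have hkj : k ≠ j := fun h => hjk (by rw [h])
    simp [dvec, sep, und, Function.update_of_ne hkj]
    exact fun h => hx1 h

/-- elements of the normalizer of the torus are monomial -/
theorem mono_of_mem_normalizer [Fintype F] (hq : 4 ≤ Fintype.card F)
    (n : Matrix.symplecticGroup (Fin m) F)
    (hn : n ∈ Subgroup.normalizer (TT m F : Set (Matrix.symplecticGroup (Fin m) F))) :
    Mono n.1 := by
  obtain ⟨x, hx⟩ := exists_sq_ne_one hq
  intro i
  -- a nonzero entry
  have hex : ∃ j, n.1 j i ≠ 0 := by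
    by_contra h
    push Not at h
    have h1 := congrFun (congrFun (val_inv_mul n) i) i
    rw [Matrix.mul_apply, Matrix.one_apply_eq] at h1
    rw [Finset.sum_eq_zero (fun k _ => by rw [h k, mul_zero])] at h1
    exact zero_ne_one h1
  obtain ⟨j, hj⟩ := hex
  refine ⟨j, fun k => ⟨fun hk => ?_, fun hk => by rw [hk]; exact hj⟩⟩
  by_contra hkj
  -- the separating element
  have hninv := Subgroup.inv_mem _ hn
  rw [Subgroup.mem_normalizer_iff] at hninv
  have hs := (hninv (dg (sep x (und j)))).1 (dg_mem _)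
  rw [inv_inv, mem_TT_iff] at hs
  have hmat : n.1 * (n⁻¹ * dg (sep x (und j)) * n).1 = (dg (sep x (und j))).1 * n.1 := by
    rw [coe_mul', coe_mul', ← Matrix.mul_assoc, ← Matrix.mul_assoc, val_mul_inv, Matrix.one_mul]
  have e1 := congrFun (congrFun hmat k) i
  have e2 := congrFun (congrFun hmat j) i
  rw [hs.apply_mul, (dg_isDiag _).mul_apply, dg_apply] at e1 e2
  have f1 : (n⁻¹ * dg (sep x (und j)) * n).1 i i = dvec (sep x (und j)) k :=
    mul_left_cancel₀ hk (e1.trans (mul_comm _ _))
  have f2 : (n⁻¹ * dg (sep x (und j)) * n).1 i i = dvec (sep x (und j)) j :=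
    mul_left_cancel₀ hj (e2.trans (mul_comm _ _))
  exact dvec_sep_ne x hx j k hkj (by rw [← f1, f2])

/-- the column map of an invertible monomial matrix is injective -/
theorem sig_injective (n : Matrix.symplecticGroup (Fin m) F) (h : Mono n.1) :
    Function.Injective (sig n.1 h) := by
  intro i i' hii
  by_contra hne
  have h1 := congrFun (congrFun (val_inv_mul n) i) i'
  have h2 := congrFun (congrFun (val_inv_mul n) i) i
  rw [h.mul_apply, Matrix.one_apply_ne hne] at h1
  rw [h.mul_apply, Matrix.one_apply_eq] at h2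
  rw [hii] at h2
  rcases mul_eq_zero.1 h1 with h3 | h3
  · rw [h3, zero_mul] at h2; exact zero_ne_one h2
  · exact sig_ne n.1 h i' h3

theorem sig_surjective (n : Matrix.symplecticGroup (Fin m) F) (h : Mono n.1) :
    Function.Surjective (sig n.1 h) :=
  Finite.surjective_of_injective (sig_injective n h)

/-- monomial symplectic matrices normalize the torus -/
theorem mem_normalizer_of_mono [Fintype F] (n : Matrix.symplecticGroup (Fin m) F)
    (h : Mono n.1) :
    n ∈ Subgroup.normalizer (TT m F : Set (Matrix.symplecticGroup (Fin m) F)) := by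
  apply Subgroup.mem_normalizer_fintype
  intro t ht
  rw [SetLike.mem_coe, mem_TT_iff] at ht ⊢
  have hmat : (n * t * n⁻¹).1 * n.1 = n.1 * t.1 := by
    rw [coe_mul', coe_mul', Matrix.mul_assoc, val_inv_mul, Matrix.mul_one]
  intro c j hjc
  obtain ⟨i, rfl⟩ := sig_surjective n h c
  have e1 := congrFun (congrFun hmat j) i
  rw [h.mul_apply, ht.apply_mul, sig_zero n.1 h i j hjc, zero_mul] at e1
  rcases mul_eq_zero.1 e1 with h3 | h3
  · exact h3
  · exact absurd h3 (sig_ne n.1 h i)

/-- the product of monomial matrices -/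
theorem mono_mul (n n' : Matrix (Fin m ⊕ Fin m) (Fin m ⊕ Fin m) F) (h : Mono n) (h' : Mono n') :
    Mono (n * n') := by
  intro i
  refine ⟨sig n h (sig n' h' i), fun k => ?_⟩
  rw [h'.mul_apply]
  constructor
  · intro hk
    exact ((sig_spec n h _ k).1 (left_ne_zero_of_mul hk))
  · intro hk
    rw [hk]
    exact mul_ne_zero (sig_ne n h _) (sig_ne n' h' i)

theorem sig_mul (n n' : Matrix (Fin m ⊕ Fin m) (Fin m ⊕ Fin m) F) (h : Mono n) (h' : Mono n')
    (h'' : Mono (n * n')) (i : Fin m ⊕ Fin m) :
    sig (n * n') h'' i = sig n h (sig n' h' i) := by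
  apply sig_eq
  rw [h'.mul_apply]
  exact mul_ne_zero (sig_ne n h _) (sig_ne n' h' i)

theorem mono_one : Mono (1 : Matrix (Fin m ⊕ Fin m) (Fin m ⊕ Fin m) F) := by
  intro i
  refine ⟨i, fun k => ?_⟩
  rw [Matrix.one_apply]
  constructor
  · intro h; by_contra hk; simp [hk] at h
  · intro h; simp [h]

theorem sig_one (h : Mono (1 : Matrix (Fin m ⊕ Fin m) (Fin m ⊕ Fin m) F)) (i : Fin m ⊕ Fin m) :
    sig 1 h i = i := by
  apply sig_eq
  simp

end Cfsg.Agent.Lead.SpWeyl
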