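import Mathlib
import Cfsg.Agent.Lead.SpWeylC

set_option autoImplicit false

/-! # The normalizer of the diagonal torus of `Sp_{2m}(q)`, part D: the homomorphism to
permutations -/

namespace Cfsg.Agent.Lead.SpWeyl

open Matrix

variable {F : Type*} [Field F] [Fintype F] {m : ℕ}

/-- the permutation of a monomial symplectic matrix -/
noncomputable def permOf (n : Matrix.symplecticGroup (Fin m) F) (h : Mono n.1) :
    Equiv.Perm (Fin m ⊕ Fin m) :=
  Equiv.ofBijective (sig n.1 h) ⟨sig_injective n h, sig_surjective n h⟩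

theorem permOf_apply (n : Matrix.symplecticGroup (Fin m) F) (h : Mono n.1) (i : Fin m ⊕ Fin m) :
    permOf n h i = sig n.1 h i := rfl

/-- the homomorphism from the normalizer to the permutations of the index set -/
noncomputable def phi (hq : 4 ≤ Fintype.card F) :
    ↥(Subgroup.normalizer (TT m F : Set (Matrix.symplecticGroup (Fin m) F))) →*
      Equiv.Perm (Fin m ⊕ Fin m) where
  toFun n := permOf n.1 (mono_of_mem_normalizer hq n.1 n.2)
  map_one' := by
    ext i
    rw [permOf_apply]
    exact sig_one _ i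
  map_mul' n n' := by
    ext i
    rw [Equiv.Perm.mul_apply, permOf_apply, permOf_apply, permOf_apply]
    exact sig_mul n.1.1 n'.1.1 _ _ _ i

theorem phi_apply (hq : 4 ≤ Fintype.card F)
    (n : ↥(Subgroup.normalizer (TT m F : Set (Matrix.symplecticGroup (Fin m) F))))
    (i : Fin m ⊕ Fin m) :
    phi hq n i = sig n.1.1 (mono_of_mem_normalizer hq n.1 n.2) i := rfl

/-- the kernel is the torus -/
theorem phi_ker (hq : 4 ≤ Fintype.card F) :
    (phi (m := m) (F := F) hq).ker = (TT m F).subgroupOf _ := by
  ext n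
  rw [MonoidHom.mem_ker, Subgroup.mem_subgroupOf, mem_TT_iff]
  constructor
  · intro h i j hji
    have h1 : phi hq n i = i := by rw [h]; rfl
    rw [phi_apply] at h1
    apply sig_zero n.1.1 (mono_of_mem_normalizer hq n.1 n.2) i j
    rw [h1]; exact hji
  · intro h
    ext i
    rw [phi_apply, Equiv.Perm.one_apply]
    exact sig_eq _ _ _ _ (h.ne_zero i)

/-- the permutation of a monomial symplectic matrix commutes with the swap -/
theorem sig_swap (n : Matrix.symplecticGroup (Fin m) F) (h : Mono n.1) (i : Fin m ⊕ Fin m) :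
    sig n.1 h i.swap = (sig n.1 h i).swap := by
  have h1 := SymplecticGroup.mem_iff'.1 n.2
  rw [Matrix.mul_assoc] at h1
  have h2 := congrFun (congrFun h1 i) i.swap
  rw [Matrix.mul_apply, J_swap, Finset.sum_eq_single (sig n.1 h i)] at h2
  · rw [Matrix.transpose_apply, J_mul_apply] at h2
    apply sig_eq
    intro h0
    rw [h0, mul_zero, mul_zero] at h2
    exact sgn_ne_zero i h2.symm
  · intro a _ ha
    rw [Matrix.transpose_apply, sig_zero n.1 h i a ha, zero_mul]
  · simp

/-- the image of `phi` lies in the centralizer of the swap -/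
theorem phi_mem_centralizer (hq : 4 ≤ Fintype.card F)
    (n : ↥(Subgroup.normalizer (TT m F : Set (Matrix.symplecticGroup (Fin m) F)))) :
    phi hq n ∈ Subgroup.centralizer ({Equiv.sumComm (Fin m) (Fin m)} :
      Set (Equiv.Perm (Fin m ⊕ Fin m))) := by
  rw [Subgroup.mem_centralizer_iff]
  intro τ hτ
  rw [Set.mem_singleton_iff] at hτ
  subst hτ
  ext i
  rw [Equiv.Perm.mul_apply, Equiv.Perm.mul_apply, phi_apply, phi_apply]
  show (sig _ _ i).swap = sig _ _ i.swap
  rw [sig_swap]

end Cfsg.Agent.Lead.SpWeyl
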