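import Mathlib
import Cfsg.Agent.Lead.SpWeylD

set_option autoImplicit false

/-! # The normalizer of the diagonal torus of `Sp_{2m}(q)`, part E: monomial matrices from
permutations -/

namespace Cfsg.Agent.Lead.SpWeyl

open Matrix

variable {F : Type*} [Field F] {m : ℕ}

/-- the sign vector of a permutation -/
def svec (F : Type*) [Field F] {m : ℕ} (π : Equiv.Perm (Fin m ⊕ Fin m)) : Fin m ⊕ Fin m → F
  | Sum.inl _ => 1
  | Sum.inr k => if (π (Sum.inl k)).isLeft then 1 else -1

theorem svec_ne_zero (π : Equiv.Perm (Fin m ⊕ Fin m)) (i : Fin m ⊕ Fin m) : svec F π i ≠ 0 := by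
  rcases i with k | k
  · simp [svec]
  · simp only [svec]
    split_ifs <;> simp

theorem svec_key (π : Equiv.Perm (Fin m ⊕ Fin m)) (hπ : ∀ i, π i.swap = (π i).swap)
    (i : Fin m ⊕ Fin m) : svec F π i * svec F π i.swap * sgn F (π i) = sgn F i := by
  rcases i with k | k
  · rcases h : π (Sum.inl k) with a | a
    · simp [svec, h]
    · simp [svec, h]
  · have h1 : π (Sum.inr k) = (π (Sum.inl k)).swap := hπ (Sum.inl k)
    rcases h : π (Sum.inl k) with a | a
    · rw [h] at h1
      simp [svec, h, h1]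
    · rw [h] at h1
      simp [svec, h, h1]

/-- the monomial matrix of a permutation -/
def monoMat (F : Type*) [Field F] {m : ℕ} (π : Equiv.Perm (Fin m ⊕ Fin m)) :
    Matrix (Fin m ⊕ Fin m) (Fin m ⊕ Fin m) F :=
  fun j i => if j = π i then svec F π i else 0

theorem monoMat_apply (π : Equiv.Perm (Fin m ⊕ Fin m)) (j i : Fin m ⊕ Fin m) :
    monoMat F π j i = if j = π i then svec F π i else 0 := rfl

theorem monoMat_mono (π : Equiv.Perm (Fin m ⊕ Fin m)) : Mono (monoMat F π) := by
  intro i
  refine ⟨π i, fun k => ?_⟩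
  rw [monoMat_apply]
  constructor
  · intro h
    by_contra hk
    simp [hk] at h
  · intro h
    simp [h, svec_ne_zero]

theorem monoMat_sig (π : Equiv.Perm (Fin m ⊕ Fin m)) (h : Mono (monoMat F π))
    (i : Fin m ⊕ Fin m) : sig (monoMat F π) h i = π i := by
  apply sig_eq
  simp [monoMat_apply, svec_ne_zero]

theorem monoMat_mem (π : Equiv.Perm (Fin m ⊕ Fin m)) (hπ : ∀ i, π i.swap = (π i).swap) :
    monoMat F π ∈ Matrix.symplecticGroup (Fin m) F := by
  rw [SymplecticGroup.mem_iff', Matrix.mul_assoc]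
  ext i k
  rw [Matrix.mul_apply, Finset.sum_eq_single (π i)]
  · rw [Matrix.transpose_apply, J_mul_apply, monoMat_apply, monoMat_apply, if_pos rfl, ← hπ]
    by_cases hk : k = i.swap
    · subst hk
      rw [if_pos rfl, J_swap, ← svec_key π hπ i]
      ring
    · have : π i.swap ≠ π k := fun h => hk (π.injective h).symm
      rw [if_neg this, J_ne i k hk]
      ring
  · intro a _ ha
    rw [Matrix.transpose_apply, monoMat_apply, if_neg ha, zero_mul]
  · simp

end Cfsg.Agent.Lead.SpWeyl
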