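import Mathlib
import Cfsg.Agent.Lead.SpWeylE

set_option autoImplicit false

/-! # The normalizer of the diagonal torus of `Sp_{2m}(q)`, part F: counting -/

namespace Cfsg.Agent.Lead.SpWeyl

open Matrix

variable {F : Type*} [Field F] [Fintype F] {m : ℕ}

/-- the range of `phi` is the centralizer of the swap -/
theorem phi_range (hq : 4 ≤ Fintype.card F) :
    (phi (m := m) (F := F) hq).range = Subgroup.centralizer ({Equiv.sumComm (Fin m) (Fin m)} :
      Set (Equiv.Perm (Fin m ⊕ Fin m))) := by
  apply le_antisymm
  · rintro _ ⟨n, rfl⟩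
    exact phi_mem_centralizer hq n
  · intro π hπ
    rw [Subgroup.mem_centralizer_iff] at hπ
    have h1 : ∀ i, π i.swap = (π i).swap := by
      intro i
      have := congrArg (fun f : Equiv.Perm (Fin m ⊕ Fin m) => f i)
        (hπ (Equiv.sumComm (Fin m) (Fin m)) rfl)
      simp only [Equiv.Perm.mul_apply] at this
      exact this.symm
    have hmem := mem_normalizer_of_mono (⟨monoMat F π, monoMat_mem π h1⟩ :
      Matrix.symplecticGroup (Fin m) F) (monoMat_mono π)
    refine ⟨⟨_, hmem⟩, ?_⟩
    ext i
    rw [phi_apply]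
    exact monoMat_sig π _ i

/-- the product of opposite diagonal entries of a torus element is one -/
theorem diag_mul_swap (t : Matrix.symplecticGroup (Fin m) F) (ht : IsDiag t.1)
    (i : Fin m ⊕ Fin m) : t.1 i i * t.1 i.swap i.swap = 1 := by
  have h1 := SymplecticGroup.mem_iff'.1 t.2
  rw [Matrix.mul_assoc] at h1
  have h2 := congrFun (congrFun h1 i) i.swap
  rw [Matrix.mul_apply, J_swap, Finset.sum_eq_single i] at h2
  · rw [Matrix.transpose_apply, J_mul_apply] at h2
    have h3 : sgn F i * (t.1 i i * t.1 i.swap i.swap) = sgn F i * 1 := by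
      rw [mul_one]; linear_combination h2
    exact mul_left_cancel₀ (sgn_ne_zero i) h3
  · intro a _ ha
    rw [Matrix.transpose_apply, ht i a ha, zero_mul]
  · simp

/-- the torus is in bijection with `(Fˣ)^m` -/
noncomputable def torusEquiv : ↥(TT m F) ≃ (Fin m → Fˣ) where
  toFun t := fun k => Units.mk0 (t.1.1 (Sum.inl k) (Sum.inl k))
    (((mem_TT_iff t.1).1 t.2).ne_zero _)
  invFun a := ⟨dg a, dg_mem a⟩
  left_inv t := by
    have ht := (mem_TT_iff t.1).1 t.2
    apply Subtype.ext
    apply Subtype.ext
    ext j i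
    by_cases hji : j = i
    · subst hji
      show (dg _).1 j j = _
      rw [dg_apply]
      rcases j with k | k
      · simp [dvec]
      · have := diag_mul_swap t.1 ht (Sum.inl k)
        simp only [Sum.swap_inl] at this
        simp only [dvec, Sum.elim_inr, Units.val_inv_eq_inv_val, Units.val_mk0]
        exact inv_eq_of_mul_eq_one_right this
    · show (dg _).1 j i = _
      rw [dg_isDiag _ i j hji, ht i j hji]
  right_inv a := by
    ext k
    simp [dg, dvec]

theorem card_TT : Nat.card ↥(TT m F) = (Fintype.card F - 1) ^ m := by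
  classical
  rw [Nat.card_congr torusEquiv, Nat.card_eq_fintype_card, Fintype.card_fun, Fintype.card_units,
    Fintype.card_fin]

/-- the cycle type of the swap -/
theorem cycleType_swap (hm : 1 ≤ m) :
    Equiv.Perm.cycleType (Equiv.sumComm (Fin m) (Fin m) : Equiv.Perm (Fin m ⊕ Fin m)) =
      Multiset.replicate m 2 := by
  obtain ⟨τ, hτ⟩ : ∃ τ : Equiv.Perm (Fin m ⊕ Fin m), τ = Equiv.sumComm (Fin m) (Fin m) :=
    ⟨_, rfl⟩
  rw [← hτ]
  have hτi : ∀ i, τ i = i.swap := fun i => by rw [hτ]; rfl
  have h2 : τ ^ 2 = 1 := by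
    ext i
    rw [pow_two, Equiv.Perm.mul_apply, hτi, hτi, Sum.swap_swap]; rfl
  have hne : τ ≠ 1 := by
    intro h
    have := congrArg (fun f : Equiv.Perm (Fin m ⊕ Fin m) => f (Sum.inl ⟨0, hm⟩)) h
    simp only [hτi, Sum.swap_inl, Equiv.Perm.one_apply] at this
    exact Sum.inr_ne_inl this
  have hord : orderOf τ = 2 := orderOf_eq_prime h2 hne
  obtain ⟨n, hn⟩ := Equiv.Perm.cycleType_prime_order (σ := τ) (by rw [hord]; exact Nat.prime_two)
  have hsupp : τ.support = Finset.univ := by
    ext i
    simp only [Equiv.Perm.mem_support, Finset.mem_univ, iff_true, hτi]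
    cases i <;> simp
  have hsum := Equiv.Perm.sum_cycleType τ
  rw [hn, hsupp, Finset.card_univ, Multiset.sum_replicate, hord, Fintype.card_sum,
    Fintype.card_fin] at hsum
  have : n + 1 = m := by
    simp only [smul_eq_mul] at hsum
    omega
  rw [hn, hord, this]

theorem card_centralizer_swap (hm : 1 ≤ m) :
    Nat.card (Subgroup.centralizer ({Equiv.sumComm (Fin m) (Fin m)} :
      Set (Equiv.Perm (Fin m ⊕ Fin m)))) = 2 ^ m * Nat.factorial m := by
  rw [Equiv.Perm.nat_card_centralizer, cycleType_swap hm]
  have h1 : (Multiset.replicate m 2).toFinset = {2} := by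
    ext x
    simp only [Multiset.mem_toFinset, Multiset.mem_replicate, Finset.mem_singleton]
    constructor
    · exact fun h => h.2
    · intro h; exact ⟨by omega, h⟩
  rw [h1, Finset.prod_singleton, Multiset.count_replicate_self, Multiset.sum_replicate,
    Multiset.prod_replicate, Fintype.card_sum, Fintype.card_fin]
  simp only [smul_eq_mul]
  have : m + m - m * 2 = 0 := by omega
  rw [this, Nat.factorial_zero, one_mul]

/-- the order of the normalizer -/
theorem card_normalizer (hq : 4 ≤ Fintype.card F) (hm : 1 ≤ m) :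
    Nat.card ↥(Subgroup.normalizer (TT m F : Set (Matrix.symplecticGroup (Fin m) F))) =
      2 ^ m * Nat.factorial m * (Fintype.card F - 1) ^ m := by
  rw [← (phi (m := m) (F := F) hq).ker.card_mul_index, Subgroup.index_ker, phi_range,
    card_centralizer_swap hm, phi_ker,
    Nat.card_congr (Subgroup.subgroupOfEquivOfLe Subgroup.le_normalizer).toEquiv, card_TT]
  ring

/-- the final statement, including the degenerate case `m = 0` -/
theorem s0777 {q : ℕ} (hF : Fintype.card F = q) (hq : 4 ≤ q) (m : ℕ) :
    Nat.card ↥(Subgroup.normalizer (TT m F : Set (Matrix.symplecticGroup (Fin m) F))) =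
      2 ^ m * Nat.factorial m * (q - 1) ^ m := by
  subst hF
  rcases Nat.eq_zero_or_pos m with hm | hm
  · subst hm
    haveI : Subsingleton (Matrix.symplecticGroup (Fin 0) F) := by
      constructor
      intro a b
      apply Subtype.ext
      ext i j
      exact i.elim (fun k => k.elim0) (fun k => k.elim0)
    rw [Nat.card_unique]
    simp
  · exact card_normalizer hq hm

end Cfsg.Agent.Lead.SpWeyl
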