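import Mathlib
import Cfsg.Prelude.Def_FusionReduction
import Cfsg.Agent.Lead.KLl
import Cfsg.Agent.Lead.KLj
import Cfsg.Agent.Helper6.ThompFusD
import Cfsg.Agent.Helper6.ThompFusF

set_option autoImplicit false

/-!
Sparse fusion systems are constrained (for `p` odd, or without sections isomorphic to the symmetric
group of degree four).
-/

namespace Cfsg.Agent.Lead.Sparse

open Cfsg Cfsg.FusionSystem Cfsg.Agent.Lead Cfsg.Agent.Lead.GlTh Cfsg.Agent.Helper1
  Cfsg.Agent.Helper1.ThompsonRed Cfsg.Agent.Helper1.TN Cfsg.Agent.Helper6.ThompFus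

universe u

variable {Ω : Type u} [Group Ω] {S : Subgroup Ω}

/-- Sparse, in predicate form. -/
def IsSparse (p : ℕ) (F : FusionSystem S) : Prop :=
  ¬ Inner p F ∧ ∀ E : FusionSystem S, E.IsSaturated p → (∀ P, E.Hom P ⊆ F.Hom P) →
    (∀ P, F.Hom P ⊆ E.Hom P) ∨ Inner p E

theorem transport_system {T : Subgroup Ω} (hT : T = S) (p : ℕ) (E : FusionSystem T) :
    ∃ E' : FusionSystem S, (∀ P, E'.Hom P = E.Hom P) ∧ (E.IsSaturated p → E'.IsSaturated p) ∧
      (Inner p E' → Inner p E) := by
  subst hT
  exact ⟨E, fun _ => rfl, id, id⟩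

/-- In a sparse system, a normal subgroup of `S` is normal in the system or has inner normalizer
system. -/
theorem normal_or_np [Finite S] (p : ℕ) [Fact p.Prime] (hS : IsPGroup p S) (F : FusionSystem S)
    (hF : F.IsSaturated p) (hsp : IsSparse p F) {X : Subgroup Ω} (hXS : X ≤ S)
    (hSX : S ≤ Subgroup.normalizer (X : Set Ω)) : F.IsNormal X ∨ NP p F X := by
  have hNeq : normalizerIn S X = S := le_antisymm inf_le_left (le_inf le_rfl hSX)
  have hfn : F.IsFullyNormalized X := by
    refine ⟨hXS, fun X' _ => ?_⟩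
    rw [hNeq]
    exact Subgroup.card_le_of_le inf_le_left
  obtain ⟨N, hN⟩ := Cfsg.Agent.S5096.result F X hXS
  have hNsat := Fusion.normalizerSystem_isSaturated p hS F hF X hfn N hN
  obtain ⟨E, hE, hEsat, hEin⟩ := transport_system hNeq p N
  have hsub : ∀ P, E.Hom P ⊆ F.Hom P := by
    intro P φ h
    rw [hE P, hN P] at h
    exact h.1
  rcases hsp.2 E (hEsat hNsat) hsub with h | h
  · left
    apply KL.isNormal_of_forall_mem_normalizerHom F hXS
    intro P φ hφ
    have h1 := h P hφ
    rw [hE P, hN P] at h1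
    exact h1
  · right
    exact (np_iff_normalizer_inner F hXS N hN).mpr (hEin h)

theorem constrained_of_sparse [Finite S] (p : ℕ) [Fact p.Prime] (hS : IsPGroup p S)
    (F : FusionSystem S) (hF : F.IsSaturated p) (hsp : IsSparse p F)
    (hp : p ≠ 2 ∨ F.IsSectionFree p (Equiv.Perm (Fin 4))) : F.IsConstrained p := by
  have hQ := Fusion.core_isNormal F
  refine ⟨hF, F.core, hQ, ?_⟩
  have hcore_max : ∀ X : Subgroup Ω, F.IsNormal X → X ≤ F.core := fun X hX => le_sSup hX
  by_contra hnc
  have hQc : ¬ centralizerIn S F.core ≤ F.core := fun h => hnc (isCentric_of_isNormal F hQ h)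
  have hQS := hQ.1
  have hSQ := Model.le_normalizer_of_isNormal F hQ
  haveI : Finite F.core := Fusion.finite_of_le hQS
  -- `S` is nontrivial
  have hSnt : 1 < Nat.card S := by
    by_contra hle
    have h1 : Nat.card S = 1 := by
      have hpos : 0 < Nat.card S := Nat.card_pos
      omega
    have hbot : S = ⊥ := Subgroup.card_eq_one.mp h1
    apply hQc
    intro x hx
    have hxS : x ∈ S := (Subgroup.mem_inf.mp hx).1
    rw [hbot, Subgroup.mem_bot] at hxS
    rw [hxS]
    exact Subgroup.one_mem _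
  -- a general consequence of sparseness for functors
  have hnpW : ∀ (W : CharFunctor.{u}), (∀ (R : Type u) [Group R] [Finite R], IsPGroup p R →
      Nontrivial R → W.W R ≠ ⊥) → F.core = ⊥ → NP p F (W.of S) := by
    intro W hne hbot
    refine (normal_or_np p hS F hF hsp (W.of_le S) (le_normalizer_of W S)).resolve_left ?_
    intro hW
    have h1 := hcore_max _ hW
    rw [hbot] at h1
    exact of_ne_bot' W p hne S hS hSnt (le_bot_iff.mp h1)
  have hQne : F.core ≠ ⊥ := by
    intro hbot
    have hJ := hnpW jaFunctor (fun R _ _ hR hnt => jaFunctor_ne_bot R hR hnt) hbot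
    have hZ := hnpW centerFunctor (fun R _ _ hR hnt => centerFunctor_ne_bot R hR hnt) hbot
    exact hsp.1 (thompson_inner p hS F hF ⟨hp, cp_of_np hZ, hJ⟩)
  have hDsat := KL.scSys_isSaturated p hS F hF hQ
  have hRS : F.core ⊔ centralizerIn S F.core ≤ S := sup_le hQS inf_le_left
  have hSR := KL.le_normalizer_sup_centralizerIn hQS hSQ
  have hRnn : ¬ F.IsNormal (F.core ⊔ centralizerIn S F.core) := fun h =>
    hQc (le_sup_right.trans (hcore_max _ h))
  have hRnp : NP p F (F.core ⊔ centralizerIn S F.core) :=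
    (normal_or_np p hS F hF hsp hRS hSR).resolve_left hRnn
  obtain ⟨NR, hNR⟩ := Cfsg.Agent.S5096.result F (F.core ⊔ centralizerIn S F.core) hRS
  have hNRin : Inner p NR := (np_iff_normalizer_inner F hRS NR hNR).mp hRnp
  have hinner_p : ∀ P : Subgroup Ω, IsPGroup p ((innerFusionSystem S).autGroup P) := fun P =>
    (Fusion.isPGroup_autInducedBy p hS P).to_le (Fusion.inner_autGroup_le S P)
  rcases hsp.2 _ hDsat (KL.scSys_le F F.core hQS hSQ) with hFD | hDin
  swap
  · -- both generating subsystems inner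
    apply hsp.1
    have hle : ∀ P, F.Hom P ⊆ (innerFusionSystem S).Hom P := by
      apply KL.generation_le p hS F hF hQ NR hNR (innerFusionSystem S)
      · intro P' φ hφ
        have h1 := (inner_iff_hom p hS _ hDsat).mp hDin P'
        rw [h1] at hφ
        exact hφ
      · intro P' φ hφ
        have hNeq : normalizerIn S (F.core ⊔ centralizerIn S F.core) = S :=
          le_antisymm inf_le_left (le_inf le_rfl hSR)
        have hfn : F.IsFullyNormalized (F.core ⊔ centralizerIn S F.core) := by
          refine ⟨hRS, fun X' _ => ?_⟩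
          rw [hNeq]
          exact Subgroup.card_le_of_le inf_le_left
        have hNRsat := Fusion.normalizerSystem_isSaturated p hS F hF _ hfn NR hNR
        haveI : Finite ↥(normalizerIn S (F.core ⊔ centralizerIn S F.core)) :=
          Fusion.finite_of_le inf_le_left
        have h1 := (inner_iff_hom (S := normalizerIn S (F.core ⊔ centralizerIn S F.core)) p
          (hS.to_le inf_le_left) NR hNRsat).mp hNRin P'
        rw [h1] at hφ
        obtain ⟨hP', g, hg, hφg⟩ := hφ
        exact ⟨hP'.trans inf_le_left, g, (Subgroup.mem_inf.mp hg).1, hφg⟩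
    rw [inner_iff_isPGroup]
    intro P _
    exact (hinner_p P).to_le (autGroup_mono F (innerFusionSystem S) hle P)
  -- `F = S C_F(Q)`
  have hQaut : IsPGroup p (F.autGroup F.core) := by
    apply (Fusion.isPGroup_autInducedBy p hS F.core).to_le
    intro β hβ
    have hφ := (Fusion.mem_autGroup_iff F hQS β).mp hβ
    obtain ⟨-, ψ, hψ, hψP, s, hs, hψQ⟩ := hFD _ hφ
    rw [mem_autInducedBy_iff]
    exact ⟨s, hs, fun x => (hψP x).symm.trans (hψQ x)⟩
  obtain ⟨Ω', _, S', _, F', θ, hS'p, hθ, hker, hF'sat, hcard, hfac⟩ :=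
    Cfsg.Agent.Helper6.ThompFus.exists_factor' p hS F hF hQ
  have hp' := hp_factor p hS F hF hp hQ θ F' hfac
  have hθS' : ∀ s : S, θ s ∈ S' := hθ.1.1
  have hr : θ.range = S' := hθ.2.1
  have hkerQ : ∀ s : S, θ s = 1 ↔ (s : Ω) ∈ F.core := hfac.2.1
  have hQcard : 1 < Nat.card F.core := F.core.one_lt_card_iff_ne_bot.mpr hQne
  have hpos : 0 < Nat.card S' := Nat.card_pos
  have hS'nt : 1 < Nat.card S' := by
    by_contra hle
    have h1 : Nat.card S' = 1 := by omega
    apply hQc
    have hQeq : F.core = S :=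
      Subgroup.eq_of_le_of_card_ge hQS (by rw [← hcard, h1, one_mul])
    rw [hQeq]
    exact inf_le_left
  have key : ∀ (W : CharFunctor.{u}), (∀ (R : Type u) [Group R] [Finite R], IsPGroup p R →
      Nontrivial R → W.W R ≠ ⊥) → NP p F' (W.of S') := by
    intro W hne
    apply np_image' p F F' θ hθ (W.of_le S')
    have hXS := Fusion.preimageAlong_le θ (W.of S')
    have hSX : S ≤ Subgroup.normalizer (preimageAlong θ (W.of S') : Set Ω) := by
      have h1 := Fusion.normalizerIn_preimageAlong θ hθS' hr (W.of_le S')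
      rw [KL.normalizerIn_of_eq W S', Fusion.preimageAlong_top θ hθS'] at h1
      intro s hs
      have h2 : s ∈ normalizerIn S (preimageAlong θ (W.of S')) := h1.ge hs
      exact (Subgroup.mem_inf.mp h2).2
    refine (normal_or_np p hS F hF hsp hXS hSX).resolve_left ?_
    intro hX
    have hle := hcore_max _ hX
    have hWne := of_ne_bot' W p hne S' hS'p hS'nt
    obtain ⟨y, hy, hy1⟩ : ∃ y ∈ W.of S', y ≠ 1 := by
      by_contra h
      push Not at h
      exact hWne ((Subgroup.eq_bot_iff_forall _).mpr h)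
    have hyS' : y ∈ S' := W.of_le S' hy
    have hyr : y ∈ θ.range := by rw [hr]; exact hyS'
    obtain ⟨s, rfl⟩ := hyr
    have hs : (s : Ω) ∈ preimageAlong θ (W.of S') :=
      (Fusion.mem_preimageAlong θ _ _).mpr ⟨s.2, hy⟩
    exact hy1 ((hkerQ s).mpr (hle hs))
  have hJ := key jaFunctor (fun R _ _ hR hnt => jaFunctor_ne_bot R hR hnt)
  have hZ := key centerFunctor (fun R _ _ hR hnt => centerFunctor_ne_bot R hR hnt)
  have hin' := thompson_inner p hS'p F' hF'sat ⟨hp', cp_of_np hZ, hJ⟩
  exact hsp.1 (inner_of_factor_inner p hS F F' θ hθ hin' hQ hker hQaut)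

theorem of_statement [Finite S] (p : ℕ) [Fact p.Prime] (hS : IsPGroup p S)
    (F : Cfsg.FusionSystem S) (hF : F.IsSaturated p)
    (hsp : ¬ (∀ P : Subgroup Ω, F.Hom P = (Cfsg.innerFusionSystem S).Hom P) ∧
      ∀ E : Cfsg.FusionSystem S, E.IsSaturated p → E.IsSubsystemOf F →
        (∀ P : Subgroup Ω, E.Hom P = F.Hom P) ∨
          (∀ P : Subgroup Ω, E.Hom P = (Cfsg.innerFusionSystem S).Hom P))
    (hp : p ≠ 2 ∨ F.IsSectionFree p (Equiv.Perm (Fin 4))) : F.IsConstrained p := by
  apply constrained_of_sparse p hS F hF ?_ hp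
  refine ⟨fun h => hsp.1 ((inner_iff_hom p hS F hF).mp h), fun E hE hsub => ?_⟩
  exact (hsp.2 E hE hsub).imp (fun h P => (h P).ge) (fun h => inner_of_hom_eq p hS E h)

end Cfsg.Agent.Lead.Sparse
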