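import Mathlib
import Cfsg.Agent.Lead.SparseA

set_option autoImplicit false

/-!
Every non-inner saturated system contains a non-inner constrained saturated subsystem over the same
group (for `p` odd, or without sections isomorphic to the symmetric group of degree four).
-/

namespace Cfsg.Agent.Lead.Sparse

open Cfsg Cfsg.FusionSystem Cfsg.Agent.Lead Cfsg.Agent.Lead.GlTh Cfsg.Agent.Helper6.ThompFus

universe u

variable {Ω : Type u} [Group Ω] {S : Subgroup Ω}

theorem exists_constrained_aux [Finite S] (p : ℕ) [Fact p.Prime] (hS : IsPGroup p S)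
    (hp : p ≠ 2) (F : FusionSystem S) :
    ∀ (n : ℕ) (E : FusionSystem S), (∀ P, E.Hom P ⊆ F.Hom P) → E.IsSaturated p → ¬ Inner p E →
      KL.size E = n → ∃ E₀ : FusionSystem S, (∀ P, E₀.Hom P ⊆ F.Hom P) ∧ E₀.IsConstrained p ∧
        ¬ Inner p E₀ := by
  intro n
  induction n using Nat.strong_induction_on with
  | _ n ih =>
  intro E hEF hE hEni hn
  by_cases hsp : IsSparse p E
  · exact ⟨E, hEF, constrained_of_sparse p hS E hE hsp (Or.inl hp), hEni⟩
  · unfold IsSparse at hsp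
    push Not at hsp
    obtain ⟨E', hE', hE'E, hnle, hE'ni⟩ := hsp hEni
    obtain ⟨P, hP⟩ := hnle
    rw [Set.not_subset] at hP
    obtain ⟨φ, hφ, hφ'⟩ := hP
    have hlt : KL.size E' < KL.size E := KL.size_lt E E' hE'E ⟨P, φ, hφ, hφ'⟩
    exact ih (KL.size E') (hn ▸ hlt) E' (fun P => (hE'E P).trans (hEF P)) hE' hE'ni rfl

theorem exists_constrained [Finite S] (p : ℕ) [Fact p.Prime] (hS : IsPGroup p S)
    (F : Cfsg.FusionSystem S) (hF : F.IsSaturated p) (hp : p ≠ 2)
    (hne : ∃ P : Subgroup Ω, F.Hom P ≠ (Cfsg.innerFusionSystem S).Hom P) :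
    ∃ E : Cfsg.FusionSystem S, E ≤ F ∧ E.IsConstrained p ∧
      ∃ P : Subgroup Ω, E.Hom P ≠ (Cfsg.innerFusionSystem S).Hom P := by
  have hFni : ¬ Inner p F := by
    intro h
    obtain ⟨P, hP⟩ := hne
    exact hP ((inner_iff_hom p hS F hF).mp h P)
  obtain ⟨E₀, hE₀F, hE₀c, hE₀ni⟩ :=
    exists_constrained_aux p hS hp F _ F (fun _ => subset_rfl) hF hFni rfl
  refine ⟨E₀, hE₀F, hE₀c, ?_⟩
  by_contra h
  push Not at h
  exact hE₀ni (inner_of_hom_eq p hS E₀ h)

end Cfsg.Agent.Lead.Sparse
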