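import Mathlib

/-!
Exponent of `GL n F` over a finite field: every invertible matrix `g` satisfies
`g ^ (p ^ t * M) = 1` where `p ^ t ≥ n` and `M = lcm (q ^ i - 1 : 1 ≤ i ≤ n)`.
-/

namespace Cfsg.Agent.Lead.SpecGL

open Polynomial

/-- lcm of `q ^ i - 1` for `1 ≤ i ≤ n`. -/
def bigM (q n : ℕ) : ℕ := (Finset.Icc 1 n).lcm (fun i => q ^ i - 1)

theorem dvd_bigM {q n i : ℕ} (h1 : 1 ≤ i) (h2 : i ≤ n) : q ^ i - 1 ∣ bigM q n :=
  Finset.dvd_lcm (f := fun i => q ^ i - 1) (Finset.mem_Icc.mpr ⟨h1, h2⟩)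

theorem bigM_dvd {q n m : ℕ} (h : ∀ i, 1 ≤ i → i ≤ n → q ^ i - 1 ∣ m) : bigM q n ∣ m :=
  Finset.lcm_dvd (fun i hi => h i (Finset.mem_Icc.mp hi).1 (Finset.mem_Icc.mp hi).2)

theorem coprime_finset_lcm {ι : Type*} (s : Finset ι) (f : ι → ℕ) (c : ℕ)
    (h : ∀ i ∈ s, Nat.Coprime c (f i)) : Nat.Coprime c (s.lcm f) := by
  classical
  induction s using Finset.induction_on with
  | empty => simp
  | insert a s ha ih =>
    rw [Finset.lcm_insert]
    have h1 : Nat.Coprime c (f a) := h a (Finset.mem_insert_self a s)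
    have h2 : Nat.Coprime c (s.lcm f) := ih (fun i hi => h i (Finset.mem_insert_of_mem hi))
    have h3 : Nat.Coprime c (f a * s.lcm f) := Nat.Coprime.mul_right h1 h2
    exact Nat.Coprime.coprime_dvd_right (Nat.lcm_dvd_mul _ _) h3

theorem coprime_two_bigM (n : ℕ) : Nat.Coprime 2 (bigM 2 n) := by
  apply coprime_finset_lcm
  intro i hi
  have hi1 : 1 ≤ i := (Finset.mem_Icc.mp hi).1
  rw [Nat.coprime_two_left]
  obtain ⟨j, rfl⟩ : ∃ j, i = j + 1 := ⟨i - 1, by omega⟩
  have : 2 ^ (j + 1) = 2 * 2 ^ j := by ring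
  have hpos : 0 < 2 ^ j := by positivity
  rw [this]
  exact ⟨2 ^ j - 1, by omega⟩

variable {F : Type*} [Field F] [Fintype F]

theorem irred_dvd (f : F[X]) (hf : Irreducible f) (hX : ¬ X ∣ f) {n : ℕ}
    (hd : f.natDegree ≤ n) : f ∣ X ^ (bigM (Fintype.card F) n) - 1 := by
  have hd1 : 1 ≤ f.natDegree := hf.natDegree_pos
  have h1 : f ∣ X ^ (Nat.card F) ^ f.natDegree - X :=
    hf.natDegree_dvd_iff_dvd_X_pow_card_pow_sub_X.mp dvd_rfl
  rw [Nat.card_eq_fintype_card] at h1
  set q := Fintype.card F with hq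
  have hq1 : 1 ≤ q ^ f.natDegree := Nat.one_le_pow _ _ Fintype.card_pos
  have h2 : (X : F[X]) ^ q ^ f.natDegree - X = X * (X ^ (q ^ f.natDegree - 1) - 1) := by
    rw [mul_sub, mul_one, ← pow_succ']
    congr 2
    omega
  rw [h2] at h1
  have hfp : Prime f := hf.prime
  rcases hfp.dvd_or_dvd h1 with h3 | h3
  · exfalso
    apply hX
    have : Associated f X := hf.associated_of_dvd Polynomial.irreducible_X h3
    exact this.symm.dvd
  · refine dvd_trans h3 ?_
    obtain ⟨c, hc⟩ := dvd_bigM (q := q) hd1 hd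
    rw [hc, pow_mul]
    have := sub_dvd_pow_sub_pow ((X : F[X]) ^ (q ^ f.natDegree - 1)) 1 c
    simpa using this

theorem poly_dvd (p : ℕ) [hp : Fact p.Prime] [CharP F p] {n t : ℕ} (ht : n ≤ p ^ t) (P : F[X])
    (hP0 : P ≠ 0) (hX : ¬ X ∣ P) (hd : P.natDegree ≤ n) :
    P ∣ X ^ (p ^ t * bigM (Fintype.card F) n) - 1 := by
  have key : ∀ P : F[X], P ≠ 0 → ¬ X ∣ P → P.natDegree ≤ n →
      P ∣ X ^ (p ^ t * bigM (Fintype.card F) n) - 1 := by
    intro P
    induction P using UniqueFactorizationMonoid.induction_on_coprime with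
    | h0 => intro h; exact absurd rfl h
    | h1 hx => intro _ _ _; exact hx.dvd
    | hpr i hp' =>
      rename_i f
      intro h0 hX hd
      rcases Nat.eq_zero_or_pos i with rfl | hi
      · simp
      have hirr : Irreducible f := hp'.irreducible
      have hXf : ¬ X ∣ f := fun h => hX (dvd_trans h (dvd_pow_self f hi.ne'))
      have hdeg : (f ^ i).natDegree = i * f.natDegree := Polynomial.natDegree_pow f i
      have hf1 : 1 ≤ f.natDegree := hirr.natDegree_pos
      have hfn : f.natDegree ≤ n := by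
        rw [hdeg] at hd
        calc f.natDegree ≤ i * f.natDegree := Nat.le_mul_of_pos_left _ hi
          _ ≤ n := hd
      have hin : i ≤ n := by
        rw [hdeg] at hd
        calc i ≤ i * f.natDegree := Nat.le_mul_of_pos_right _ hf1
          _ ≤ n := hd
      have h1 := irred_dvd f hirr hXf hfn
      have h2 : f ^ i ∣ (X ^ (bigM (Fintype.card F) n) - 1) ^ (p ^ t) :=
        dvd_trans (pow_dvd_pow f (le_trans hin ht)) (pow_dvd_pow_of_dvd h1 _)
      have h3 : ((X : F[X]) ^ (bigM (Fintype.card F) n) - 1) ^ (p ^ t)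
          = X ^ (p ^ t * bigM (Fintype.card F) n) - 1 := by
        rw [sub_pow_char_pow, one_pow, ← pow_mul, mul_comm]
      rwa [h3] at h2
    | hcp hrel hx hy =>
      rename_i x y
      intro h0 hX hd
      have hx0 : x ≠ 0 := left_ne_zero_of_mul h0
      have hy0 : y ≠ 0 := right_ne_zero_of_mul h0
      have hdeg : (x * y).natDegree = x.natDegree + y.natDegree :=
        Polynomial.natDegree_mul hx0 hy0
      have hx' := hx hx0 (fun h => hX (dvd_mul_of_dvd_left h y)) (by omega)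
      have hy' := hy hy0 (fun h => hX (dvd_mul_of_dvd_right h x)) (by omega)
      exact hrel.mul_dvd hx' hy'
  exact key P hP0 hX hd

end Cfsg.Agent.Lead.SpecGL
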