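import Cfsg.Agent.Lead.SpecGLa

/-!
Element orders of `PSL n F` for `F` the field with two elements: exponent, Jordan block,
Singer-type elements.
-/

namespace Cfsg.Agent.Lead.SpecGL
open Polynomial Matrix

set_option linter.style.haveILetI false
set_option linter.unusedSectionVars false

variable {F : Type*} [Field F] [Fintype F]



theorem matrix_pow_eq_one (p : ℕ) [hp : Fact p.Prime] [CharP F p] {n t : ℕ} (ht : n ≤ p ^ t)
    (g : Matrix (Fin n) (Fin n) F) (hg : g.det ≠ 0) :
    g ^ (p ^ t * bigM (Fintype.card F) n) = 1 := by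
  have hmon : g.charpoly.Monic := Matrix.charpoly_monic g
  have h0 : g.charpoly ≠ 0 := hmon.ne_zero
  have hdeg : g.charpoly.natDegree ≤ n := by
    rw [Matrix.charpoly_natDegree_eq_dim]; simp
  have hX : ¬ X ∣ g.charpoly := by
    intro h
    rw [Polynomial.X_dvd_iff] at h
    have := Matrix.det_eq_sign_charpoly_coeff g
    rw [h, mul_zero] at this
    exact hg this
  have hdvd := poly_dvd p ht g.charpoly h0 hX hdeg
  obtain ⟨c, hc⟩ := hdvd
  have h1 := congrArg (Polynomial.aeval g) hc
  rw [map_mul, Matrix.aeval_self_charpoly, zero_mul] at h1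
  simp at h1
  exact sub_eq_zero.mp h1




/-- the nilpotent shift matrix -/
def shiftN (F : Type*) [Field F] (n : ℕ) : Matrix (Fin n) (Fin n) F :=
  fun a b => if b.val = a.val + 1 then 1 else 0

theorem shiftN_pow {F : Type*} [Field F] (n m : ℕ) (a b : Fin n) :
    ((shiftN F n) ^ m) a b = if b.val = a.val + m then 1 else 0 := by
  induction m generalizing a b with
  | zero =>
    simp only [pow_zero, add_zero, Matrix.one_apply]
    by_cases h : a = b
    · subst h; simp
    · have : ¬ b.val = a.val := fun h' => h (Fin.ext h'.symm)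
      simp [h, this]
  | succ m ih =>
    rw [pow_succ, Matrix.mul_apply]
    by_cases hb : b.val = a.val + (m + 1)
    · rw [if_pos hb]
      have hc : a.val + m < n := by have := b.isLt; omega
      rw [Finset.sum_eq_single (⟨a.val + m, hc⟩ : Fin n)]
      · rw [ih]; simp [shiftN]; omega
      · intro c _ hc'
        rw [ih]
        have : ¬ c.val = a.val + m := fun h => hc' (Fin.ext h)
        simp [this]
      · intro h; exact absurd (Finset.mem_univ _) h
    · rw [if_neg hb]
      apply Finset.sum_eq_zero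
      intro c _
      rw [ih]
      by_cases h1 : c.val = a.val + m
      · have : ¬ b.val = c.val + 1 := by omega
        simp [shiftN, this]
      · simp [h1]

theorem shiftN_pow_eq_zero {F : Type*} [Field F] (n m : ℕ) (h : n ≤ m) : (shiftN F n) ^ m = 0 := by
  ext a b
  rw [shiftN_pow]
  have := b.isLt
  have : ¬ b.val = a.val + m := by omega
  simp [this]


theorem jordan_pow {F : Type*} [Field F] [CharP F 2] (n s : ℕ) (hn : 0 < n) :
    (1 + shiftN F n) ^ (2 ^ s) = 1 + (shiftN F n) ^ (2 ^ s) := by
  have : Nonempty (Fin n) := ⟨⟨0, hn⟩⟩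
  have : Fact (Nat.Prime 2) := ⟨Nat.prime_two⟩
  have : CharP (Matrix (Fin n) (Fin n) F) 2 := inferInstance
  rw [add_pow_char_pow_of_commute 2 s (Commute.one_left _), one_pow]

theorem orderOf_jordan {F : Type*} [Field F] [CharP F 2] (n : ℕ) (hn : 2 ≤ n) :
    orderOf (1 + shiftN F n) = 2 ^ (Nat.clog 2 n) := by
  have h1 : (1 + shiftN F n) ^ (2 ^ (Nat.clog 2 n)) = 1 := by
    rw [jordan_pow n _ (by omega), shiftN_pow_eq_zero n _ (Nat.le_pow_clog (by norm_num) n), add_zero]
  have hdvd := orderOf_dvd_of_pow_eq_one h1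
  obtain ⟨a, ha, hord⟩ := (Nat.dvd_prime_pow Nat.prime_two).mp hdvd
  rcases Nat.lt_or_ge a (Nat.clog 2 n) with hlt | hge
  · exfalso
    have hlt' : 2 ^ (Nat.clog 2 n - 1) < n := Nat.pow_pred_clog_lt_self (by norm_num) (by omega)
    have h2 : (1 + shiftN F n) ^ (2 ^ (Nat.clog 2 n - 1)) = 1 := by
      apply orderOf_dvd_iff_pow_eq_one.mp
      rw [hord]
      exact pow_dvd_pow 2 (by omega)
    rw [jordan_pow n _ (by omega)] at h2
    have h3 : (shiftN F n) ^ (2 ^ (Nat.clog 2 n - 1)) = 0 := by
      have := congrArg (fun x => x - 1) h2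
      simpa using this
    have h4 := congrFun (congrFun h3 ⟨0, by omega⟩) ⟨2 ^ (Nat.clog 2 n - 1), hlt'⟩
    rw [shiftN_pow] at h4
    simp at h4
  · rw [hord]
    congr 1
    omega



/-- An injective monoid hom from an `F`-algebra `K` to the endomorphisms of `K × W`. -/
noncomputable def prodHom (F K W : Type*) [Field F] [Field K] [Algebra F K] [AddCommGroup W] [Module F W] :
    K →* Module.End F (K × W) where
  toFun z := (LinearMap.mulLeft F z).prodMap LinearMap.id
  map_one' := by
    ext x <;> simp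
  map_mul' a b := by
    ext x <;> simp

theorem prodHom_injective (F K W : Type*) [Field F] [Field K] [Algebra F K] [AddCommGroup W]
    [Module F W] : Function.Injective (prodHom F K W) := by
  intro a b h
  have := congrArg (fun f => (f (1, 0)).1) h
  simpa [prodHom] using this

theorem exists_matrix_orderOf {F : Type*} [Field F] [Fintype F] (p : ℕ) [Fact p.Prime] [CharP F p]
    (n i : ℕ) (hi1 : 1 ≤ i) (hin : i ≤ n) :
    ∃ A : Matrix (Fin n) (Fin n) F, orderOf A = Fintype.card F ^ i - 1 ∧ A.det ≠ 0 := by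
  haveI : NeZero i := ⟨by omega⟩
  let K := FiniteField.Extension F p i
  let V := K × (Fin (n - i) → F)
  have hfin : Module.finrank F V = n := by
    rw [Module.finrank_prod, FiniteField.finrank_extension, Module.finrank_fin_fun]
    omega
  let b : Module.Basis (Fin n) F V := Module.finBasisOfFinrankEq F V hfin
  let ψ : K →* Matrix (Fin n) (Fin n) F :=
    ((LinearMap.toMatrixAlgEquiv b : Module.End F V ≃ₐ[F] Matrix (Fin n) (Fin n) F) :
      Module.End F V →* Matrix (Fin n) (Fin n) F).comp (prodHom F K (Fin (n - i) → F))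
  have hψ : Function.Injective ψ := by
    intro x y h
    apply prodHom_injective F K (Fin (n - i) → F)
    exact (LinearMap.toMatrixAlgEquiv b).injective h
  haveI : Fintype K := Fintype.ofFinite K
  obtain ⟨ζ, hζ⟩ := IsCyclic.exists_ofOrder_eq_natCard (α := Kˣ)
  have hcard : Nat.card Kˣ = Fintype.card F ^ i - 1 := by
    rw [Nat.card_units, FiniteField.natCard_extension, Nat.card_eq_fintype_card]
  refine ⟨ψ (ζ : K), ?_, ?_⟩
  · rw [orderOf_injective ψ hψ, orderOf_units, hζ, hcard]
  · have h1 : ψ (ζ : K) * ψ ((ζ⁻¹ : Kˣ) : K) = 1 := by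
      rw [← map_mul, ← Units.val_mul, mul_inv_cancel, Units.val_one, map_one]
    intro h0
    have := congrArg Matrix.det h1
    rw [Matrix.det_mul, h0, zero_mul, Matrix.det_one] at this
    exact zero_ne_one this




theorem eq_one_of_ne_zero (hF : Fintype.card F = 2) (x : F) (hx : x ≠ 0) : x = 1 := by
  classical
  have h1 : Fintype.card Fˣ = 1 := by rw [Fintype.card_units, hF]
  have h2 : Subsingleton Fˣ := Fintype.card_le_one_iff_subsingleton.mp h1.le
  have := Subsingleton.elim (Units.mk0 x hx) 1
  simpa using congrArg Units.val this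

theorem charP_two (hF : Fintype.card F = 2) : CharP F 2 := by
  haveI : Fact (Nat.Prime 2) := ⟨Nat.prime_two⟩
  exact charP_of_card_eq_prime hF

theorem center_eq_bot (hF : Fintype.card F = 2) (n : ℕ) :
    Subgroup.center (Matrix.SpecialLinearGroup (Fin n) F) = ⊥ := by
  rcases Nat.eq_zero_or_pos n with rfl | hn
  · exact Matrix.SpecialLinearGroup.center_eq_bot_of_subsingleton
  rw [eq_bot_iff]
  intro A hA
  rw [Matrix.SpecialLinearGroup.mem_center_iff] at hA
  obtain ⟨r, hr, hA⟩ := hA
  have hr0 : r ≠ 0 := by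
    rintro rfl
    rw [zero_pow (by simpa using hn.ne')] at hr
    exact zero_ne_one hr
  have hr1 : r = 1 := eq_one_of_ne_zero hF r hr0
  rw [Subgroup.mem_bot]
  apply Subtype.ext
  rw [← hA, hr1]
  simp

/-- the coercion hom from `SL` to matrices -/
def slToMat (n : ℕ) (F : Type*) [Field F] : Matrix.SpecialLinearGroup (Fin n) F →* Matrix (Fin n) (Fin n) F where
  toFun g := g.1
  map_one' := rfl
  map_mul' _ _ := rfl

theorem slToMat_injective (n : ℕ) (F : Type*) [Field F] : Function.Injective (slToMat n F) :=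
  fun _ _ h => Subtype.ext h

/-- the hom from matrices of SL to PSL -/
def slToPSL (n : ℕ) (F : Type*) [Field F] :
    Matrix.SpecialLinearGroup (Fin n) F →* Matrix.ProjectiveSpecialLinearGroup (Fin n) F :=
  QuotientGroup.mk' _

theorem slToPSL_surjective (n : ℕ) (F : Type*) [Field F] : Function.Surjective (slToPSL n F) :=
  QuotientGroup.mk'_surjective _

theorem slToPSL_injective (hF : Fintype.card F = 2) (n : ℕ) : Function.Injective (slToPSL n F) := by
  rw [← MonoidHom.ker_eq_bot_iff]
  unfold slToPSL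
  rw [QuotientGroup.ker_mk', center_eq_bot hF]

theorem psl_pow_eq_one (hF : Fintype.card F = 2) (n : ℕ) (y : Matrix.ProjectiveSpecialLinearGroup (Fin n) F) :
    y ^ (2 ^ (Nat.clog 2 n) * bigM 2 n) = 1 := by
  haveI : Fact (Nat.Prime 2) := ⟨Nat.prime_two⟩
  haveI := charP_two hF
  obtain ⟨g, rfl⟩ := slToPSL_surjective n F y
  rw [← map_pow]
  have : g ^ (2 ^ (Nat.clog 2 n) * bigM 2 n) = 1 := by
    apply slToMat_injective
    rw [map_pow, map_one]
    have h := matrix_pow_eq_one 2 (Nat.le_pow_clog (by norm_num) n) (slToMat n F g)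
      (by show g.1.det ≠ 0; rw [g.2]; exact one_ne_zero)
    rwa [hF] at h
  rw [this, map_one]

theorem exists_psl_of_matrix (hF : Fintype.card F = 2) (n : ℕ) (A : Matrix (Fin n) (Fin n) F)
    (hA : A.det ≠ 0) : ∃ y : Matrix.ProjectiveSpecialLinearGroup (Fin n) F, orderOf y = orderOf A := by
  have hdet : A.det = 1 := eq_one_of_ne_zero hF _ hA
  let g : Matrix.SpecialLinearGroup (Fin n) F := ⟨A, hdet⟩
  have e1 : orderOf (slToPSL n F g) = orderOf g := orderOf_injective _ (slToPSL_injective hF n) g
  have e2 : orderOf (slToMat n F g) = orderOf g := orderOf_injective _ (slToMat_injective n F) g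
  exact ⟨slToPSL n F g, e1.trans e2.symm⟩


end Cfsg.Agent.Lead.SpecGL
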