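import Cfsg.Agent.Lead.SpecGLb

/-!
The set of element orders of a direct power of `PSL n F`, `F` the field with two elements.
-/

namespace Cfsg.Agent.Lead.SpecGL
open Polynomial Matrix

set_option linter.style.haveILetI false

variable {F : Type*} [Field F] [Fintype F]

theorem pi_orderOf_dvd (hF : Fintype.card F = 2) (n k : ℕ)
    (y : Fin k → Matrix.ProjectiveSpecialLinearGroup (Fin n) F) :
    orderOf y ∣ 2 ^ (Nat.clog 2 n) * bigM 2 n := by
  apply orderOf_dvd_of_pow_eq_one
  funext j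
  rw [Pi.pow_apply, psl_pow_eq_one hF n, Pi.one_apply]

theorem exists_singer (hF : Fintype.card F = 2) (n i : ℕ) :
    ∃ y : Matrix.ProjectiveSpecialLinearGroup (Fin n) F, 1 ≤ i → i ≤ n → orderOf y = 2 ^ i - 1 := by
  haveI : Fact (Nat.Prime 2) := ⟨Nat.prime_two⟩
  haveI := charP_two hF
  by_cases h : 1 ≤ i ∧ i ≤ n
  · obtain ⟨A, hA, hdet⟩ := exists_matrix_orderOf (F := F) 2 n i h.1 h.2
    obtain ⟨y, hy⟩ := exists_psl_of_matrix hF n A hdet
    refine ⟨y, fun _ _ => ?_⟩
    rw [hy, hA, hF]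
  · exact ⟨1, fun h1 h2 => absurd ⟨h1, h2⟩ h⟩

theorem exists_unip (hF : Fintype.card F = 2) (n : ℕ) (hn : 2 ≤ n) :
    ∃ y : Matrix.ProjectiveSpecialLinearGroup (Fin n) F, orderOf y = 2 ^ (Nat.clog 2 n) := by
  haveI := charP_two hF
  have hord := orderOf_jordan (F := F) n hn
  have hdet : (1 + shiftN F n).det ≠ 0 := by
    intro h0
    have h1 : (1 + shiftN F n) ^ (2 ^ (Nat.clog 2 n)) = 1 := by
      rw [← hord]; exact pow_orderOf_eq_one _
    have := congrArg Matrix.det h1
    rw [Matrix.det_pow, h0, zero_pow (by positivity), Matrix.det_one] at this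
    exact zero_ne_one this
  obtain ⟨y, hy⟩ := exists_psl_of_matrix hF n _ hdet
  exact ⟨y, hy.trans hord⟩

theorem component_orderOf_dvd {G : Type*} [Group G] {k : ℕ} (x : Fin k → G) (j : Fin k) :
    orderOf (x j) ∣ orderOf x := by
  apply orderOf_dvd_of_pow_eq_one
  have := congrFun (pow_orderOf_eq_one x) j
  simpa using this

theorem exists_full (hF : Fintype.card F = 2) (n k : ℕ) (hn : 2 ≤ n) (hk : (n + 3) / 2 ≤ k) :
    ∃ x : Fin k → Matrix.ProjectiveSpecialLinearGroup (Fin n) F,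
      orderOf x = 2 ^ (Nat.clog 2 n) * bigM 2 n := by
  obtain ⟨u, hu⟩ := exists_unip hF n hn
  choose s hs using exists_singer hF n
  let x : Fin k → Matrix.ProjectiveSpecialLinearGroup (Fin n) F :=
    fun j => if j.val = 0 then u else s (n + 1 - j.val)
  refine ⟨x, Nat.dvd_antisymm (pi_orderOf_dvd hF n k x) ?_⟩
  have hk0 : 0 < k := by omega
  have h2 : 2 ^ (Nat.clog 2 n) ∣ orderOf x := by
    have := component_orderOf_dvd x ⟨0, hk0⟩
    simpa [x, hu] using this
  have hM : ∀ m i, n - i = m → 1 ≤ i → i ≤ n → 2 ^ i - 1 ∣ orderOf x := by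
    intro m
    induction m using Nat.strong_induction_on with
    | _ m ih =>
      intro i hm hi1 hin
      by_cases h2i : 2 * i ≤ n
      · have h1 := ih (n - 2 * i) (by omega) (2 * i) rfl (by omega) h2i
        refine dvd_trans ?_ h1
        have := Nat.sub_dvd_pow_sub_pow (2 ^ i) 1 2
        rw [one_pow, ← pow_mul, mul_comm] at this
        exact this
      · have hj : n + 1 - i < k := by omega
        have := component_orderOf_dvd x ⟨n + 1 - i, hj⟩
        have hne : ¬ (n + 1 - i = 0) := by omega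
        have hidx : n + 1 - (n + 1 - i) = i := by omega
        simp only [x, hne, if_false, hidx] at this
        rwa [hs i hi1 hin] at this
  have h3 : bigM 2 n ∣ orderOf x := bigM_dvd (fun i h1 h2 => hM (n - i) i rfl h1 h2)
  exact Nat.Coprime.mul_dvd_of_dvd_of_dvd (Nat.Coprime.pow_left _ (coprime_two_bigM n)) h2 h3

theorem bigE_pos (n : ℕ) : 0 < 2 ^ (Nat.clog 2 n) * bigM 2 n := by
  apply Nat.mul_pos (by positivity)
  apply Nat.pos_of_ne_zero
  intro h
  have := coprime_two_bigM n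
  rw [h] at this
  simp at this

theorem range_orderOf (hF : Fintype.card F = 2) (n k : ℕ) (hn : 2 ≤ n) (hk : (n + 3) / 2 ≤ k) :
    Set.range (orderOf : (Fin k → Matrix.ProjectiveSpecialLinearGroup (Fin n) F) → ℕ)
      = {d | d ∣ 2 ^ (Nat.clog 2 n) * bigM 2 n} := by
  ext d
  constructor
  · rintro ⟨y, rfl⟩
    exact pi_orderOf_dvd hF n k y
  · intro hd
    obtain ⟨x, hx⟩ := exists_full hF n k hn hk
    have hE := bigE_pos n
    set E := 2 ^ (Nat.clog 2 n) * bigM 2 n with hEdef
    obtain ⟨c, hc⟩ := hd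
    have hd0 : 0 < d := Nat.pos_of_ne_zero (by rintro rfl; simp at hc; omega)
    have hc0 : c ≠ 0 := by rintro rfl; simp at hc; omega
    refine ⟨x ^ c, ?_⟩
    show orderOf (x ^ c) = d
    rw [orderOf_pow_of_dvd hc0 (by rw [hx, hc]; exact dvd_mul_left c d), hx, hc]
    exact Nat.mul_div_cancel _ (Nat.pos_of_ne_zero hc0)

end Cfsg.Agent.Lead.SpecGL
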