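import Mathlib

/-!
Generic combinatorics: if the elements of a finite group `L` that do not absorb a prime `r` fall
into two classes, each closed under least common multiples of orders, then `L × L × L × (ℤ/r)^m`
has the same element orders as `L × L × L`; with one class, two factors suffice.
-/

namespace Cfsg.Agent.Lead.SpecGen

theorem exists_orderOf_of_dvd' {G : Type*} [Group G] [Finite G] (y : G) (a : ℕ)
    (h : a ∣ orderOf y) : ∃ y' : G, orderOf y' = a := by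
  obtain ⟨k, hk⟩ := h
  have hpos : 0 < orderOf y := orderOf_pos y
  have hk0 : k ≠ 0 := by
    rintro rfl; rw [mul_zero] at hk; omega
  refine ⟨y ^ k, ?_⟩
  rw [orderOf_pow_of_dvd hk0 ⟨a, by rw [hk, mul_comm]⟩, hk]
  exact Nat.mul_div_cancel _ (Nat.pos_of_ne_zero hk0)

variable {L : Type*} [Group L]

theorem three (r : ℕ) (CN CU : L → Prop) (hz : ∃ z : L, orderOf z = r)
    (h1 : ∀ x : L, (∃ y : L, orderOf y = Nat.lcm (orderOf x) r) ∨ CN x ∨ CU x)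
    (h2 : ∀ x x' : L, CN x → CN x' → ∃ y : L, orderOf y = Nat.lcm (orderOf x) (orderOf x'))
    (h3 : ∀ x x' : L, CU x → CU x' → ∃ y : L, orderOf y = Nat.lcm (orderOf x) (orderOf x'))
    (x₁ x₂ x₃ : L) :
    ∃ y₁ y₂ y₃ : L,
      Nat.lcm (orderOf y₁) (Nat.lcm (orderOf y₂) (orderOf y₃)) =
        Nat.lcm (orderOf x₁) (Nat.lcm (orderOf x₂) (Nat.lcm (orderOf x₃) r)) := by
  obtain ⟨z, hz⟩ := hz
  have c12 : (∃ y : L, orderOf y = Nat.lcm (orderOf x₁) (orderOf x₂)) → _ := fun ⟨y, hy⟩ =>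
    (⟨y, z, x₃, by
      rw [hy, hz]; generalize orderOf x₁ = a; generalize orderOf x₂ = b
      generalize orderOf x₃ = c; ac_rfl⟩ : ∃ y₁ y₂ y₃ : L,
      Nat.lcm (orderOf y₁) (Nat.lcm (orderOf y₂) (orderOf y₃)) =
        Nat.lcm (orderOf x₁) (Nat.lcm (orderOf x₂) (Nat.lcm (orderOf x₃) r)))
  have c13 : (∃ y : L, orderOf y = Nat.lcm (orderOf x₁) (orderOf x₃)) → _ := fun ⟨y, hy⟩ =>
    (⟨y, x₂, z, by
      rw [hy, hz]; generalize orderOf x₁ = a; generalize orderOf x₂ = b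
      generalize orderOf x₃ = c; ac_rfl⟩ : ∃ y₁ y₂ y₃ : L,
      Nat.lcm (orderOf y₁) (Nat.lcm (orderOf y₂) (orderOf y₃)) =
        Nat.lcm (orderOf x₁) (Nat.lcm (orderOf x₂) (Nat.lcm (orderOf x₃) r)))
  have c23 : (∃ y : L, orderOf y = Nat.lcm (orderOf x₂) (orderOf x₃)) → _ := fun ⟨y, hy⟩ =>
    (⟨x₁, y, z, by
      rw [hy, hz]; generalize orderOf x₁ = a; generalize orderOf x₂ = b
      generalize orderOf x₃ = c; ac_rfl⟩ : ∃ y₁ y₂ y₃ : L,
      Nat.lcm (orderOf y₁) (Nat.lcm (orderOf y₂) (orderOf y₃)) =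
        Nat.lcm (orderOf x₁) (Nat.lcm (orderOf x₂) (Nat.lcm (orderOf x₃) r)))
  rcases h1 x₁ with ⟨y, hy⟩ | h1'
  · exact ⟨y, x₂, x₃, by
      rw [hy]; generalize orderOf x₁ = a; generalize orderOf x₂ = b
      generalize orderOf x₃ = c; ac_rfl⟩
  rcases h1 x₂ with ⟨y, hy⟩ | h2'
  · exact ⟨x₁, y, x₃, by
      rw [hy]; generalize orderOf x₁ = a; generalize orderOf x₂ = b
      generalize orderOf x₃ = c; ac_rfl⟩
  rcases h1 x₃ with ⟨y, hy⟩ | h3'
  · exact ⟨x₁, x₂, y, by rw [hy]⟩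
  rcases h1' with h1' | h1' <;> rcases h2' with h2' | h2' <;> rcases h3' with h3' | h3'
  · exact c12 (h2 _ _ h1' h2')
  · exact c12 (h2 _ _ h1' h2')
  · exact c13 (h2 _ _ h1' h3')
  · exact c23 (h3 _ _ h2' h3')
  · exact c23 (h2 _ _ h2' h3')
  · exact c13 (h3 _ _ h1' h3')
  · exact c12 (h3 _ _ h1' h2')
  · exact c12 (h3 _ _ h1' h2')

theorem two (r : ℕ) (CN : L → Prop) (hz : ∃ z : L, orderOf z = r)
    (h1 : ∀ x : L, (∃ y : L, orderOf y = Nat.lcm (orderOf x) r) ∨ CN x)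
    (h2 : ∀ x x' : L, CN x → CN x' → ∃ y : L, orderOf y = Nat.lcm (orderOf x) (orderOf x'))
    (x₁ x₂ : L) :
    ∃ y₁ y₂ : L,
      Nat.lcm (orderOf y₁) (orderOf y₂) = Nat.lcm (orderOf x₁) (Nat.lcm (orderOf x₂) r) := by
  obtain ⟨z, hz⟩ := hz
  rcases h1 x₁ with ⟨y, hy⟩ | h1'
  · exact ⟨y, x₂, by rw [hy]; generalize orderOf x₁ = a; generalize orderOf x₂ = b; ac_rfl⟩
  rcases h1 x₂ with ⟨y, hy⟩ | h2'
  · exact ⟨x₁, y, by rw [hy]⟩
  obtain ⟨y, hy⟩ := h2 _ _ h1' h2'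
  exact ⟨y, z, by rw [hy, hz]; generalize orderOf x₁ = a; generalize orderOf x₂ = b; ac_rfl⟩

theorem orderOf_zmod_pi (r m : ℕ) (hr : r.Prime) (v : Multiplicative (Fin m → ZMod r)) :
    orderOf v = 1 ∨ orderOf v = r := by
  have : Fact r.Prime := ⟨hr⟩
  have h1 : v ^ r = 1 := by
    have : ∀ w : Fin m → ZMod r, r • w = 0 := by
      intro w; funext i; simp
    exact congrArg Multiplicative.ofAdd (this (Multiplicative.toAdd v))
  exact (Nat.dvd_prime hr).mp (orderOf_dvd_of_pow_eq_one h1)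

/-- the statement on ranges for three factors -/
theorem range_three (r m : ℕ) (hr : r.Prime)
    (h : ∀ x₁ x₂ x₃ : L, ∃ y₁ y₂ y₃ : L,
      Nat.lcm (orderOf y₁) (Nat.lcm (orderOf y₂) (orderOf y₃)) =
        Nat.lcm (orderOf x₁) (Nat.lcm (orderOf x₂) (Nat.lcm (orderOf x₃) r))) :
    Set.range (orderOf : L × L × L × Multiplicative (Fin m → ZMod r) → ℕ) =
      Set.range (orderOf : L × L × L → ℕ) := by
  apply Set.eq_of_subset_of_subset
  · rintro N ⟨⟨x₁, x₂, x₃, v⟩, rfl⟩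
    simp only [Prod.orderOf]
    rcases orderOf_zmod_pi r m hr v with hv | hv
    · refine ⟨(x₁, x₂, x₃), ?_⟩
      simp only [Prod.orderOf, hv, Nat.lcm_one_right]
    · obtain ⟨y₁, y₂, y₃, hy⟩ := h x₁ x₂ x₃
      refine ⟨(y₁, y₂, y₃), ?_⟩
      simp only [Prod.orderOf, hv]
      exact hy
  · rintro N ⟨⟨x₁, x₂, x₃⟩, rfl⟩
    refine ⟨(x₁, x₂, x₃, 1), ?_⟩
    simp only [Prod.orderOf, orderOf_one, Nat.lcm_one_right]

/-- the statement on ranges for two factors -/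
theorem range_two (r m : ℕ) (hr : r.Prime)
    (h : ∀ x₁ x₂ : L, ∃ y₁ y₂ : L,
      Nat.lcm (orderOf y₁) (orderOf y₂) = Nat.lcm (orderOf x₁) (Nat.lcm (orderOf x₂) r)) :
    Set.range (orderOf : L × L × Multiplicative (Fin m → ZMod r) → ℕ) =
      Set.range (orderOf : L × L → ℕ) := by
  apply Set.eq_of_subset_of_subset
  · rintro N ⟨⟨x₁, x₂, v⟩, rfl⟩
    simp only [Prod.orderOf]
    rcases orderOf_zmod_pi r m hr v with hv | hv
    · refine ⟨(x₁, x₂), ?_⟩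
      simp only [Prod.orderOf, hv, Nat.lcm_one_right]
    · obtain ⟨y₁, y₂, hy⟩ := h x₁ x₂
      refine ⟨(y₁, y₂), ?_⟩
      simp only [Prod.orderOf, hv]
      exact hy
  · rintro N ⟨⟨x₁, x₂⟩, rfl⟩
    refine ⟨(x₁, x₂, 1), ?_⟩
    simp only [Prod.orderOf, orderOf_one, Nat.lcm_one_right]

/-- two prime powers: the least common multiple is one of them -/
theorem compat_pow (p : ℕ) (hp : p.Prime) (x x' : L) (k k' : ℕ)
    (h : orderOf x ∣ p ^ k) (h' : orderOf x' ∣ p ^ k') :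
    ∃ y : L, orderOf y = Nat.lcm (orderOf x) (orderOf x') := by
  obtain ⟨s, -, hs⟩ := (Nat.dvd_prime_pow hp).mp h
  obtain ⟨s', -, hs'⟩ := (Nat.dvd_prime_pow hp).mp h'
  rcases le_total s s' with hss | hss
  · refine ⟨x', ?_⟩
    rw [Nat.lcm_comm]
    exact (Nat.lcm_eq_left (by rw [hs, hs']; exact pow_dvd_pow p hss)).symm
  · refine ⟨x, ?_⟩
    exact (Nat.lcm_eq_left (by rw [hs, hs']; exact pow_dvd_pow p hss)).symm

end Cfsg.Agent.Lead.SpecGen
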