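import Cfsg.Agent.Lead.SpecGLb

/-!
Element orders in `PSL n F`: the image of `g` has order dividing `j` iff `g ^ j` is scalar; an
idempotent commuting with `g` lets one multiply the order by a prime `r ∣ q - 1`, `r ∤ n`.
-/

namespace Cfsg.Agent.Lead.SpecPSL
open Matrix Polynomial Cfsg.Agent.Lead.SpecGL

set_option linter.style.haveILetI false
set_option linter.unusedSectionVars false

variable {F : Type*} [Field F] [Fintype F] {n : ℕ}

theorem psl_pow_eq_one_iff (g : Matrix.SpecialLinearGroup (Fin n) F) (j : ℕ) :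
    (slToPSL n F g) ^ j = 1 ↔ ∃ c : F, (g.1) ^ j = Matrix.scalar (Fin n) c := by
  rw [← map_pow]
  unfold slToPSL
  rw [QuotientGroup.mk'_apply, QuotientGroup.eq_one_iff, Matrix.SpecialLinearGroup.mem_center_iff]
  constructor
  · rintro ⟨c, _, hc⟩
    exact ⟨c, by rw [hc]; rfl⟩
  · rintro ⟨c, hc⟩
    refine ⟨c, ?_, ?_⟩
    · have h1 : ((g ^ j : Matrix.SpecialLinearGroup (Fin n) F).1).det = 1 := (g ^ j).2
      have h2 : ((g ^ j : Matrix.SpecialLinearGroup (Fin n) F).1) = (g.1) ^ j := rfl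
      rw [h2, hc] at h1
      simpa using h1
    · rw [← hc]; rfl

theorem orderOf_psl_dvd_iff (g : Matrix.SpecialLinearGroup (Fin n) F) (j : ℕ) :
    orderOf (slToPSL n F g) ∣ j ↔ ∃ c : F, (g.1) ^ j = Matrix.scalar (Fin n) c := by
  rw [orderOf_dvd_iff_pow_eq_one, psl_pow_eq_one_iff]

theorem exists_zeta {r : ℕ} (hr : r.Prime) (hrq : r ∣ Fintype.card F - 1) :
    ∃ ζ : F, IsPrimitiveRoot ζ r := by
  classical
  haveI : Fact r.Prime := ⟨hr⟩
  have h1 : r ∣ Nat.card Fˣ := by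
    rw [Nat.card_eq_fintype_card, Fintype.card_units]; exact hrq
  obtain ⟨u, hu⟩ := exists_prime_orderOf_dvd_card' r h1
  refine ⟨(u : F), ?_⟩
  rw [← orderOf_units] at hu
  rw [← hu]
  exact IsPrimitiveRoot.orderOf _

theorem idem_pow (E : Matrix (Fin n) (Fin n) F) (hE : E * E = E) (c : F) (j : ℕ) :
    (1 + (c - 1) • E) ^ j = 1 + (c ^ j - 1) • E := by
  induction j with
  | zero => simp
  | succ j ih =>
    rw [pow_succ, ih]
    simp only [mul_add, add_mul, mul_one, one_mul, Matrix.smul_mul, Matrix.mul_smul, hE, smul_smul]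
    rw [add_assoc, ← add_smul, ← add_smul]
    congr 2
    ring

theorem idem_scalar (E : Matrix (Fin n) (Fin n) F) (hE : E * E = E) (hE0 : E ≠ 0) (hE1 : E ≠ 1)
    (a c : F) (h : a • E = Matrix.scalar (Fin n) c) : a = 0 := by
  by_contra ha
  have h1 : E = Matrix.scalar (Fin n) (a⁻¹ * c) := by
    have : E = a⁻¹ • (a • E) := by rw [smul_smul, inv_mul_cancel₀ ha, one_smul]
    rw [this, h]
    ext i j
    simp [Matrix.scalar_apply, Matrix.diagonal_apply, mul_comm]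
  set b := a⁻¹ * c with hb
  have h2 : Matrix.scalar (Fin n) (b * b) = Matrix.scalar (Fin n) b := by
    rw [map_mul, ← h1, hE]
  rcases Nat.eq_zero_or_pos n with rfl | hn
  · exact hE0 (Subsingleton.elim _ _)
  have h3 : b * b = b := by
    have := congrFun (congrFun h2 ⟨0, hn⟩) ⟨0, hn⟩
    simpa [Matrix.scalar_apply] using this
  have h4 : b = 0 ∨ b = 1 := by
    have : b * (b - 1) = 0 := by rw [mul_sub, h3, mul_one, sub_self]
    rcases mul_eq_zero.mp this with h | h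
    · exact Or.inl h
    · exact Or.inr (sub_eq_zero.mp h)
  rcases h4 with h | h
  · apply hE0; rw [h1, h]; simp
  · apply hE1; rw [h1, h]; simp

theorem exists_exp {r n : ℕ} (hr : r.Prime) (hrn : ¬ r ∣ n) (s : ℕ) : ∃ e : ℕ, r ∣ e * n + s := by
  haveI : Fact r.Prime := ⟨hr⟩
  have hn0 : (n : ZMod r) ≠ 0 := by
    rw [Ne, ZMod.natCast_eq_zero_iff]; exact hrn
  refine ⟨((-(s : ZMod r)) * (n : ZMod r)⁻¹).val, ?_⟩
  rw [← ZMod.natCast_eq_zero_iff]
  push_cast
  rw [ZMod.natCast_val, ZMod.cast_id', id, mul_assoc, inv_mul_cancel₀ hn0, mul_one, neg_add_cancel]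

theorem good_of_idem {r : ℕ} (hr : r.Prime) (hrq : r ∣ Fintype.card F - 1) (hrn : ¬ r ∣ n)
    (g : Matrix.SpecialLinearGroup (Fin n) F) (E : Matrix (Fin n) (Fin n) F) (hE : E * E = E)
    (hE0 : E ≠ 0) (hE1 : E ≠ 1) (hc : Commute E g.1) :
    ∃ y : Matrix.ProjectiveSpecialLinearGroup (Fin n) F,
      orderOf y = Nat.lcm (orderOf (slToPSL n F g)) r := by
  by_cases hdiv : r ∣ orderOf (slToPSL n F g)
  · exact ⟨slToPSL n F g, (Nat.lcm_eq_left hdiv).symm⟩
  obtain ⟨ζ, hζ⟩ := exists_zeta (F := F) hr hrq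
  have hζr : ζ ^ r = 1 := hζ.pow_eq_one
  haveI : NeZero r := ⟨hr.ne_zero⟩
  set w : Matrix (Fin n) (Fin n) F := 1 + (ζ - 1) • E with hw
  have hwr : w ^ r = 1 := by
    rw [hw, idem_pow E hE, hζr, sub_self, zero_smul, add_zero]
  have hdet : w.det ^ r = 1 := by rw [← Matrix.det_pow, hwr, Matrix.det_one]
  obtain ⟨s, _, hs⟩ := hζ.eq_pow_of_pow_eq_one hdet
  obtain ⟨e, he⟩ := exists_exp hr hrn s
  have hz0det : ((ζ ^ e) • w).det = 1 := by
    rw [Matrix.det_smul, Fintype.card_fin, ← hs, ← pow_mul, ← pow_add]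
    obtain ⟨k, hk⟩ := he
    rw [hk, pow_mul, hζr, one_pow]
  let z : Matrix.SpecialLinearGroup (Fin n) F := ⟨(ζ ^ e) • w, hz0det⟩
  have hzpow : ∀ j : ℕ, (z.1) ^ j = (ζ ^ (e * j)) • (1 + (ζ ^ j - 1) • E) := by
    intro j
    show ((ζ ^ e) • w) ^ j = _
    rw [_root_.smul_pow, hw, idem_pow E hE, ← pow_mul]
  have hcomm : Commute z g := by
    have : z.1 * g.1 = g.1 * z.1 := by
      show ((ζ ^ e) • w) * g.1 = g.1 * ((ζ ^ e) • w)
      rw [hw]
      simp only [Matrix.smul_mul, Matrix.mul_smul, add_mul, mul_add, one_mul, mul_one, hc.eq]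
    exact Subtype.ext this
  have hzr : (slToPSL n F z) ^ r = 1 := by
    rw [psl_pow_eq_one_iff]
    refine ⟨1, ?_⟩
    rw [hzpow, hζr, sub_self, zero_smul, add_zero, pow_mul, pow_right_comm, hζr, one_pow, one_smul]
    simp
  have hzj : ∀ j : ℕ, (slToPSL n F z) ^ j = 1 → r ∣ j := by
    intro j hj
    rw [psl_pow_eq_one_iff] at hj
    obtain ⟨c, hc'⟩ := hj
    rw [hzpow, smul_add, smul_smul] at hc'
    have h1 : (ζ ^ (e * j) * (ζ ^ j - 1)) • E = Matrix.scalar (Fin n) (c - ζ ^ (e * j)) := by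
      rw [map_sub, ← hc']
      ext a b
      simp [Matrix.scalar_apply, Matrix.diagonal_apply, Matrix.one_apply]
    have h2 := idem_scalar E hE hE0 hE1 _ _ h1
    have hζ0 : ζ ≠ 0 := hζ.ne_zero hr.ne_zero
    rcases mul_eq_zero.mp h2 with h | h
    · exact absurd h (pow_ne_zero _ hζ0)
    · exact (hζ.pow_eq_one_iff_dvd j).mp (sub_eq_zero.mp h)
  have hzord : orderOf (slToPSL n F z) = r := by
    haveI : Fact r.Prime := ⟨hr⟩
    apply orderOf_eq_prime hzr
    intro h1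
    have := hzj 1 (by rw [pow_one]; exact h1)
    exact hr.one_lt.ne' (Nat.dvd_one.mp this)
  have hcop : Nat.Coprime (orderOf (slToPSL n F g)) r :=
    (Nat.Coprime.symm ((Nat.Prime.coprime_iff_not_dvd hr).mpr hdiv))
  refine ⟨slToPSL n F g * slToPSL n F z, ?_⟩
  have hcomm' : Commute (slToPSL n F g) (slToPSL n F z) := (hcomm.map (slToPSL n F)).symm
  rw [hcomm'.orderOf_mul_eq_mul_orderOf_of_coprime (by rw [hzord]; exact hcop), hzord,
    Nat.Coprime.lcm_eq_mul hcop]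

end Cfsg.Agent.Lead.SpecPSL
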