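import Cfsg.Agent.Lead.SpecPSLa

/-!
Analysis of the minimal polynomial of a matrix over a finite field: either an idempotent
commuting with the matrix exists, or the minimal polynomial is a power of an irreducible
polynomial, in which case a power of the matrix is a scalar.
-/

namespace Cfsg.Agent.Lead.SpecPSL
open Matrix Polynomial Cfsg.Agent.Lead.SpecGL

set_option linter.style.haveILetI false
set_option linter.unusedSectionVars false

variable {F : Type*} [Field F] [Fintype F] {n : ℕ}

theorem exists_idem_of_coprime (g : Matrix (Fin n) (Fin n) F) (P₁ P₂ : F[X])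
    (hcop : IsCoprime P₁ P₂) (h1 : ¬ IsUnit P₁) (h2 : ¬ IsUnit P₂)
    (hmin : minpoly F g = P₁ * P₂) :
    ∃ E : Matrix (Fin n) (Fin n) F, E * E = E ∧ E ≠ 0 ∧ E ≠ 1 ∧ Commute E g := by
  obtain ⟨a, b, hab⟩ := hcop
  have hP1 : P₁ ≠ 0 := by
    rintro rfl
    rw [zero_mul] at hmin
    exact minpoly.ne_zero (Algebra.IsIntegral.isIntegral g) hmin
  have hP2 : P₂ ≠ 0 := by
    rintro rfl
    rw [mul_zero] at hmin
    exact minpoly.ne_zero (Algebra.IsIntegral.isIntegral g) hmin
  have hmu : Polynomial.aeval g (P₁ * P₂) = 0 := by rw [← hmin]; exact minpoly.aeval F g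
  refine ⟨Polynomial.aeval g (a * P₁), ?_, ?_, ?_, ?_⟩
  · have h3 : Polynomial.aeval g (a * P₁) * Polynomial.aeval g (b * P₂) = 0 := by
      rw [← map_mul]
      have : a * P₁ * (b * P₂) = a * b * (P₁ * P₂) := by ring
      rw [this, map_mul, hmu, mul_zero]
    have h4 : Polynomial.aeval g (b * P₂) = 1 - Polynomial.aeval g (a * P₁) := by
      have := congrArg (Polynomial.aeval g) hab
      rw [map_add, map_one] at this
      rw [← this]; abel
    rw [h4, mul_sub, mul_one, sub_eq_zero] at h3
    exact h3.symm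
  · intro h0
    have h3 : P₁ * P₂ ∣ a * P₁ := by rw [← hmin]; exact minpoly.dvd F g h0
    have h4 : P₂ ∣ a := by
      have : P₁ * P₂ ∣ P₁ * a := by rwa [mul_comm P₁ a]
      exact (mul_dvd_mul_iff_left hP1).mp this
    have h5 : P₂ ∣ 1 := by
      rw [← hab]
      exact dvd_add (Dvd.dvd.mul_right h4 P₁) (Dvd.intro_left b rfl)
    exact h2 (isUnit_of_dvd_one h5)
  · intro h0
    have h4 : Polynomial.aeval g (b * P₂) = 0 := by
      have := congrArg (Polynomial.aeval g) hab
      rw [map_add, map_one, h0] at this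
      exact add_left_cancel (a := (1 : Matrix (Fin n) (Fin n) F)) (by rw [this, add_zero])
    have h3 : P₁ * P₂ ∣ b * P₂ := by rw [← hmin]; exact minpoly.dvd F g h4
    have h5 : P₁ ∣ b := (mul_dvd_mul_iff_right hP2).mp h3
    have h6 : P₁ ∣ 1 := by
      rw [← hab]
      exact dvd_add (Dvd.intro_left a rfl) (Dvd.dvd.mul_right h5 P₂)
    exact h1 (isUnit_of_dvd_one h6)
  · have h3 : Polynomial.aeval g (a * P₁) * g = g * Polynomial.aeval g (a * P₁) := by
      have hX : Polynomial.aeval g (X : F[X]) = g := Polynomial.aeval_X g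
      calc Polynomial.aeval g (a * P₁) * g
          = Polynomial.aeval g (a * P₁) * Polynomial.aeval g (X : F[X]) := by rw [hX]
        _ = Polynomial.aeval g (X * (a * P₁)) := by rw [← map_mul, mul_comm]
        _ = g * Polynomial.aeval g (a * P₁) := by rw [map_mul, hX]
    exact h3

theorem minpoly_cases (g : Matrix (Fin n) (Fin n) F) (hn : 0 < n) :
    (∃ E : Matrix (Fin n) (Fin n) F, E * E = E ∧ E ≠ 0 ∧ E ≠ 1 ∧ Commute E g) ∨
    (∃ (f : F[X]) (m : ℕ), Irreducible f ∧ f.Monic ∧ 1 ≤ m ∧ minpoly F g = f ^ m) := by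
  classical
  haveI : Nonempty (Fin n) := ⟨⟨0, hn⟩⟩
  have hint : IsIntegral F g := Algebra.IsIntegral.isIntegral g
  have hmonic : (minpoly F g).Monic := minpoly.monic hint
  have hne1 : minpoly F g ≠ 1 := minpoly.ne_one F g
  have hnu : ¬ IsUnit (minpoly F g) := fun h => hne1 (hmonic.isUnit_iff.mp h)
  have hne0 : minpoly F g ≠ 0 := minpoly.ne_zero hint
  obtain ⟨f0, hf0irr, hf0dvd⟩ := WfDvdMonoid.exists_irreducible_factor hnu hne0
  set f := normalize f0 with hf
  have hf0ne : f0 ≠ 0 := hf0irr.ne_zero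
  have hfmonic : f.Monic := Polynomial.monic_normalize hf0ne
  have hassoc : Associated f0 f := (normalize_associated f0).symm
  have hfirr : Irreducible f := hassoc.irreducible hf0irr
  have hfdvd : f ∣ minpoly F g := hassoc.symm.dvd.trans hf0dvd
  have hfin : FiniteMultiplicity f (minpoly F g) :=
    FiniteMultiplicity.of_not_isUnit hfirr.not_isUnit hne0
  obtain ⟨Q, hQ, hQn⟩ := hfin.exists_eq_pow_mul_and_not_dvd
  set m := multiplicity f (minpoly F g) with hm
  have hm1 : 1 ≤ m := by
    by_contra h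
    have hm0 : m = 0 := by omega
    rw [hm0, pow_zero, one_mul] at hQ
    exact hQn (hQ ▸ hfdvd)
  by_cases hQu : IsUnit Q
  · right
    refine ⟨f, m, hfirr, hfmonic, hm1, ?_⟩
    have hQmonic : Q.Monic := by
      have h1 : (f ^ m * Q).Monic := hQ ▸ hmonic
      exact (hfmonic.pow m).of_mul_monic_left h1
    rw [hQmonic.isUnit_iff.mp hQu, mul_one] at hQ
    exact hQ
  · left
    apply exists_idem_of_coprime g (f ^ m) Q
    · exact IsCoprime.pow_left ((Irreducible.coprime_iff_not_dvd hfirr).mpr hQn)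
    · intro h
      exact hfirr.not_isUnit (isUnit_of_dvd_unit (dvd_pow_self f (by omega)) h)
    · exact hQu
    · exact hQ

end Cfsg.Agent.Lead.SpecPSL
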