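import Cfsg.Agent.Lead.SpecPSLb

/-!
Bounds on the projective order of a matrix whose minimal polynomial is a power of an irreducible
polynomial, via the norm of a root in `AdjoinRoot f`.
-/

namespace Cfsg.Agent.Lead.SpecPSL
open Matrix Polynomial Cfsg.Agent.Lead.SpecGL

set_option linter.style.haveILetI false
set_option linter.unusedSectionVars false
set_option linter.unusedVariables false

variable {F : Type*} [Field F] [Fintype F] {n : ℕ}


/-- `(q ^ d - 1) / (q - 1)` -/
def ee (q d : ℕ) : ℕ := (q ^ d - 1) / (q - 1)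

theorem ee_eq_sum (q d : ℕ) (hq : 2 ≤ q) : ee q d = ∑ k ∈ Finset.range d, q ^ k :=
  (Nat.geomSum_eq hq d).symm

theorem ee_mul (q d : ℕ) (hq : 2 ≤ q) : ee q d * (q - 1) = q ^ d - 1 := by
  unfold ee
  apply Nat.div_mul_cancel
  have := Nat.sub_dvd_pow_sub_pow q 1 d
  rwa [one_pow] at this

theorem ee_modEq (q d : ℕ) (hq : 2 ≤ q) : ee q d ≡ d [MOD (q - 1)] := by
  rw [ee_eq_sum q d hq]
  induction d with
  | zero => simp [Nat.ModEq]
  | succ d ih =>
    rw [Finset.sum_range_succ]
    have h1 : q ^ d ≡ 1 [MOD (q - 1)] := by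
      have h2 : q ≡ 1 [MOD (q - 1)] := by
        have : q = (q - 1) + 1 := by omega
        conv_lhs => rw [this]
        simp [Nat.ModEq]
      simpa using h2.pow d
    exact Nat.ModEq.add ih h1

theorem gcd_dvd_ee (q d : ℕ) (hq : 2 ≤ q) : Nat.gcd d (q - 1) ∣ ee q d := by
  have h1 := ee_modEq q d hq
  have h2 : ee q d ≡ d [MOD Nat.gcd d (q - 1)] := h1.of_dvd (Nat.gcd_dvd_right d (q - 1))
  have h3 : d ≡ 0 [MOD Nat.gcd d (q - 1)] := by
    rw [Nat.modEq_zero_iff_dvd]; exact Nat.gcd_dvd_left d (q - 1)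
  exact (Nat.modEq_zero_iff_dvd).mp (h2.trans h3)




theorem irred_dvd_norm (f : F[X]) (hf : Irreducible f) (hmon : f.Monic) :
    f ∣ X ^ ee (Fintype.card F) f.natDegree - C ((-1) ^ f.natDegree * f.coeff 0) := by
  haveI : Fact (Irreducible f) := ⟨hf⟩
  have hf0 : f ≠ 0 := hf.ne_zero
  let pb := AdjoinRoot.powerBasis hf0
  haveI : Module.Finite F (AdjoinRoot f) := pb.finite
  haveI : Finite (AdjoinRoot f) := Module.finite_of_finite F
  have hfr : Module.finrank F (AdjoinRoot f) = f.natDegree := by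
    rw [pb.finrank]; rfl
  have hcard : Nat.card (AdjoinRoot f) = Fintype.card F ^ f.natDegree := by
    rw [Module.natCard_eq_pow_finrank (K := F), hfr, Nat.card_eq_fintype_card]
  have h1 := FiniteField.algebraMap_norm_eq_pow (K := F) (K' := AdjoinRoot f) (x := AdjoinRoot.root f)
  rw [hcard, Nat.card_eq_fintype_card] at h1
  have hnorm : Algebra.norm F (AdjoinRoot.root f) = (-1) ^ f.natDegree * f.coeff 0 := by
    have h2 := Algebra.PowerBasis.norm_gen_eq_coeff_zero_minpoly pb
    have hgen : pb.gen = AdjoinRoot.root f := rfl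
    have hdim : pb.dim = f.natDegree := rfl
    rw [hgen, hdim, AdjoinRoot.minpoly_root hf0, hmon.leadingCoeff, inv_one, map_one, mul_one] at h2
    exact h2
  rw [hnorm] at h1
  rw [← AdjoinRoot.mk_eq_zero]
  rw [map_sub, map_pow, AdjoinRoot.mk_X, AdjoinRoot.mk_C]
  unfold ee
  rw [← h1]
  exact sub_self _

theorem algebraMap_eq_scalar (c : F) :
    algebraMap F (Matrix (Fin n) (Fin n) F) c = Matrix.scalar (Fin n) c := by
  ext i j
  simp [Matrix.algebraMap_matrix_apply, Matrix.scalar_apply, Matrix.diagonal_apply]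

theorem pow_eq_scalar_of_minpoly (p : ℕ) [Fact p.Prime] [CharP F p] (g : Matrix (Fin n) (Fin n) F)
    (f : F[X]) (hf : Irreducible f) (hmon : f.Monic) (m t : ℕ) (hmt : m ≤ p ^ t)
    (hmin : minpoly F g = f ^ m) :
    g ^ (ee (Fintype.card F) f.natDegree * p ^ t) =
      Matrix.scalar (Fin n) (((-1) ^ f.natDegree * f.coeff 0) ^ (p ^ t)) := by
  set ν : F := (-1) ^ f.natDegree * f.coeff 0 with hν
  set e := ee (Fintype.card F) f.natDegree with he
  have h1 : f ∣ X ^ e - C ν := irred_dvd_norm f hf hmon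
  have h2 : f ^ m ∣ (X ^ e - C ν) ^ (p ^ t) :=
    dvd_trans (pow_dvd_pow f hmt) (pow_dvd_pow_of_dvd h1 _)
  have h3 : ((X : F[X]) ^ e - C ν) ^ (p ^ t) = X ^ (e * p ^ t) - C (ν ^ (p ^ t)) := by
    rw [sub_pow_char_pow, ← pow_mul, ← map_pow]
  rw [h3, ← hmin] at h2
  obtain ⟨c, hc⟩ := h2
  have h4 := congrArg (Polynomial.aeval g) hc
  rw [map_mul, minpoly.aeval, zero_mul, map_sub, map_pow, Polynomial.aeval_X, Polynomial.aeval_C,
    sub_eq_zero, algebraMap_eq_scalar] at h4
  exact h4



theorem mem_range_of_pow_eq_one {K : Type*} [Field K] [Algebra F K] (η : K)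
    (h : η ^ (Fintype.card F - 1) = 1) : ∃ c : F, algebraMap F K c = η := by
  classical
  by_contra hcon
  simp only [not_exists] at hcon
  set q := Fintype.card F with hq
  have hq1 : 1 < q := Fintype.one_lt_card
  let P : K[X] := X ^ q - X
  have hPdeg : P.natDegree = q := FiniteField.X_pow_card_sub_X_natDegree_eq K hq1
  have hP0 : P ≠ 0 := FiniteField.X_pow_card_sub_X_ne_zero K hq1
  let Z : Finset K := insert η ((Finset.univ : Finset F).image (algebraMap F K))
  have hZcard : Z.card = q + 1 := by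
    rw [Finset.card_insert_of_notMem, Finset.card_image_of_injective _ (algebraMap F K).injective,
      Finset.card_univ]
    simp only [Finset.mem_image, Finset.mem_univ, true_and, not_exists]
    exact hcon
  have hZsub : Z.val ⊆ P.roots := by
    intro x hx
    rw [Polynomial.mem_roots hP0]
    have hx' : x ∈ Z := hx
    rw [Finset.mem_insert, Finset.mem_image] at hx'
    show Polynomial.eval x (X ^ q - X) = 0
    rw [Polynomial.eval_sub, Polynomial.eval_pow, Polynomial.eval_X, sub_eq_zero]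
    rcases hx' with rfl | ⟨c, _, rfl⟩
    · have : q = (q - 1) + 1 := by omega
      rw [this, pow_succ, h, one_mul]
    · rw [← map_pow, FiniteField.pow_card]
  have := Polynomial.card_le_degree_of_subset_roots hZsub
  rw [hZcard, hPdeg] at this
  omega

/-- the Singer bound `(q^n - 1) / ((q - 1) gcd(n, q - 1))` -/
def singerN (q n : ℕ) : ℕ := ee q n / Nat.gcd n (q - 1)

theorem order_dvd_singerN (g : Matrix.SpecialLinearGroup (Fin n) F) (f : F[X]) (hf : Irreducible f)
    (hmon : f.Monic) (hmin : minpoly F g.1 = f) (hdeg : f.natDegree = n) :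
    orderOf (slToPSL n F g) ∣ singerN (Fintype.card F) n := by
  set q := Fintype.card F with hq
  have hq2 : 2 ≤ q := Fintype.one_lt_card
  have hchar : g.1.charpoly = f := by
    have h1 : minpoly F g.1 ∣ g.1.charpoly := Matrix.minpoly_dvd_charpoly g.1
    rw [hmin] at h1
    apply Polynomial.eq_of_monic_of_dvd_of_natDegree_le hmon (Matrix.charpoly_monic g.1) h1
    rw [Matrix.charpoly_natDegree_eq_dim, Fintype.card_fin, hdeg]
  have hν : (-1) ^ f.natDegree * f.coeff 0 = 1 := by
    have h1 := Matrix.det_eq_sign_charpoly_coeff g.1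
    rw [Fintype.card_fin, hchar, g.2] at h1
    rw [hdeg]; exact h1.symm
  have h1 : f ∣ X ^ ee q n - C 1 := by
    have := irred_dvd_norm f hf hmon
    rwa [hν, hdeg] at this
  haveI : Fact (Irreducible f) := ⟨hf⟩
  set δ := Nat.gcd n (q - 1) with hδ
  have hδe : δ ∣ ee q n := gcd_dvd_ee q n hq2
  have hδq : δ ∣ q - 1 := Nat.gcd_dvd_right n (q - 1)
  set N := singerN q n with hN
  have hNδ : N * δ = ee q n := Nat.div_mul_cancel hδe
  -- in the field `AdjoinRoot f`
  have hθ : (AdjoinRoot.root f) ^ ee q n = 1 := by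
    have := (AdjoinRoot.mk_eq_zero (f := f)).mpr h1
    rw [map_sub, map_pow, AdjoinRoot.mk_X, map_one, sub_eq_zero] at this
    exact this
  have hη : ((AdjoinRoot.root f) ^ N) ^ (q - 1) = 1 := by
    obtain ⟨k, hk⟩ := hδq
    rw [hk, ← pow_mul, ← mul_assoc, hNδ, pow_mul, hθ, one_pow]
  obtain ⟨c, hc⟩ := mem_range_of_pow_eq_one (F := F) ((AdjoinRoot.root f) ^ N) hη
  have h2 : f ∣ X ^ N - C c := by
    rw [← AdjoinRoot.mk_eq_zero, map_sub, map_pow, AdjoinRoot.mk_X, AdjoinRoot.mk_C, sub_eq_zero]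
    exact hc.symm
  rw [orderOf_psl_dvd_iff]
  refine ⟨c, ?_⟩
  rw [← hmin] at h2
  obtain ⟨b, hb⟩ := h2
  have h4 := congrArg (Polynomial.aeval g.1) hb
  rw [map_mul, minpoly.aeval, zero_mul, map_sub, map_pow, Polynomial.aeval_X, Polynomial.aeval_C,
    sub_eq_zero, algebraMap_eq_scalar] at h4
  exact h4

end Cfsg.Agent.Lead.SpecPSL
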