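import Cfsg.Agent.Lead.SpecPSLc

/-!
Jordan blocks in characteristic `p` and block diagonal matrices with two blocks.
-/

namespace Cfsg.Agent.Lead.SpecPSL
open Matrix Polynomial Cfsg.Agent.Lead.SpecGL

set_option linter.style.haveILetI false
set_option linter.unusedSectionVars false
set_option linter.unusedVariables false

variable {F : Type*} [Field F] [Fintype F] {n : ℕ}


theorem jordanP_pow (p : ℕ) [Fact p.Prime] [CharP F p] (k s : ℕ) (hk : 0 < k) :
    (1 + shiftN F k) ^ (p ^ s) = 1 + (shiftN F k) ^ (p ^ s) := by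
  have : Nonempty (Fin k) := ⟨⟨0, hk⟩⟩
  have : CharP (Matrix (Fin k) (Fin k) F) p := inferInstance
  rw [add_pow_char_pow_of_commute p s (Commute.one_left _), one_pow]

theorem jordanP_pow_clog (p : ℕ) [hp : Fact p.Prime] [CharP F p] (k : ℕ) (hk : 0 < k) :
    (1 + shiftN F k) ^ (p ^ (Nat.clog p k)) = 1 := by
  rw [jordanP_pow p k _ hk, shiftN_pow_eq_zero k _ (Nat.le_pow_clog hp.out.one_lt k), add_zero]

theorem orderOf_jordanP (p : ℕ) [hp : Fact p.Prime] [CharP F p] (k : ℕ) (hk : 0 < k) :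
    orderOf (1 + shiftN F k) = p ^ (Nat.clog p k) := by
  have h1 := jordanP_pow_clog (F := F) p k hk
  have hdvd := orderOf_dvd_of_pow_eq_one h1
  obtain ⟨a, ha, hord⟩ := (Nat.dvd_prime_pow hp.out).mp hdvd
  rcases Nat.lt_or_ge a (Nat.clog p k) with hlt | hge
  · exfalso
    have hk2 : 1 < k := by
      by_contra h
      have : k = 1 := by omega
      subst this
      simp at hlt
    have hlt' : p ^ (Nat.clog p k - 1) < k := Nat.pow_pred_clog_lt_self hp.out.one_lt hk2
    have h2 : (1 + shiftN F k) ^ (p ^ (Nat.clog p k - 1)) = 1 := by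
      apply orderOf_dvd_iff_pow_eq_one.mp
      rw [hord]
      exact pow_dvd_pow p (by omega)
    rw [jordanP_pow p k _ hk] at h2
    have h3 : (shiftN F k) ^ (p ^ (Nat.clog p k - 1)) = 0 := by
      have := congrArg (fun x => x - 1) h2
      simpa using this
    have h4 := congrFun (congrFun h3 ⟨0, hk⟩) ⟨p ^ (Nat.clog p k - 1), hlt'⟩
    rw [shiftN_pow] at h4
    simp at h4
  · rw [hord]
    congr 1
    omega

/-- a unipotent matrix has no scalar power other than the identity -/
theorem jordanP_scalar (p : ℕ) [hp : Fact p.Prime] [CharP F p] (k : ℕ) (hk : 0 < k) (j : ℕ) (c : F)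
    (h : (1 + shiftN F k) ^ j = Matrix.scalar (Fin k) c) : c = 1 := by
  have h1 : ((1 + shiftN F k) ^ j) ^ (p ^ (Nat.clog p k)) = 1 := by
    rw [← pow_mul, mul_comm, pow_mul, jordanP_pow_clog p k hk, one_pow]
  rw [h, ← map_pow] at h1
  have h2 := congrFun (congrFun h1 ⟨0, hk⟩) ⟨0, hk⟩
  simp only [Matrix.scalar_apply, Matrix.diagonal_apply_eq, Matrix.one_apply_eq] at h2
  have h3 : c ^ p ^ (Nat.clog p k) = 1 ^ p ^ (Nat.clog p k) := by rw [h2, one_pow]
  exact (frobenius_inj F p).iterate (Nat.clog p k) (by simpa [iterate_frobenius] using h3)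



/-- the index equivalence for two diagonal blocks -/
def blkEquiv {k d n : ℕ} (h : k + d = n) : Fin k ⊕ Fin d ≃ Fin n :=
  finSumFinEquiv.trans (finCongr h)

/-- block diagonal matrix with two blocks -/
def blk {k d n : ℕ} (h : k + d = n) (A : Matrix (Fin k) (Fin k) F) (B : Matrix (Fin d) (Fin d) F) :
    Matrix (Fin n) (Fin n) F :=
  Matrix.reindex (blkEquiv h) (blkEquiv h) (Matrix.fromBlocks A 0 0 B)

theorem blk_mul {k d n : ℕ} (h : k + d = n) (A A' : Matrix (Fin k) (Fin k) F)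
    (B B' : Matrix (Fin d) (Fin d) F) : blk h A B * blk h A' B' = blk h (A * A') (B * B') := by
  unfold blk
  rw [Matrix.reindex_apply, Matrix.reindex_apply, Matrix.reindex_apply, Matrix.submatrix_mul_equiv,
    Matrix.fromBlocks_multiply]
  simp

theorem blk_one {k d n : ℕ} (h : k + d = n) : blk h (1 : Matrix (Fin k) (Fin k) F) 1 = 1 := by
  unfold blk
  rw [Matrix.fromBlocks_one, Matrix.reindex_apply, Matrix.submatrix_one_equiv]

theorem blk_pow {k d n : ℕ} (h : k + d = n) (A : Matrix (Fin k) (Fin k) F)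
    (B : Matrix (Fin d) (Fin d) F) (j : ℕ) : (blk h A B) ^ j = blk h (A ^ j) (B ^ j) := by
  induction j with
  | zero => simp [blk_one]
  | succ j ih => rw [pow_succ, ih, blk_mul, pow_succ, pow_succ]

theorem det_blk {k d n : ℕ} (h : k + d = n) (A : Matrix (Fin k) (Fin k) F)
    (B : Matrix (Fin d) (Fin d) F) : (blk h A B).det = A.det * B.det := by
  unfold blk
  rw [Matrix.det_reindex_self, Matrix.det_fromBlocks_zero₂₁]

theorem blk_scalar {k d n : ℕ} (h : k + d = n) (c : F) :
    blk h (Matrix.scalar (Fin k) c) (Matrix.scalar (Fin d) c) = Matrix.scalar (Fin n) c := by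
  unfold blk
  ext i j
  simp only [Matrix.reindex_apply, Matrix.submatrix_apply, Matrix.scalar_apply]
  rw [Matrix.fromBlocks_diagonal]
  simp only [Matrix.diagonal_apply]
  by_cases hij : i = j
  · subst hij; simp
  · have : (blkEquiv h).symm i ≠ (blkEquiv h).symm j := fun h' => hij ((blkEquiv h).symm.injective h')
    simp [hij, this]

theorem blk_injective {k d n : ℕ} (h : k + d = n) (A A' : Matrix (Fin k) (Fin k) F)
    (B B' : Matrix (Fin d) (Fin d) F) (he : blk h A B = blk h A' B') : A = A' ∧ B = B' := by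
  unfold blk at he
  have h1 := (Matrix.reindex (blkEquiv h) (blkEquiv h)).injective he
  rw [Matrix.fromBlocks_inj] at h1
  exact ⟨h1.1, h1.2.2.2⟩

theorem blk_eq_scalar {k d n : ℕ} (h : k + d = n) (A : Matrix (Fin k) (Fin k) F)
    (B : Matrix (Fin d) (Fin d) F) (c : F) (he : blk h A B = Matrix.scalar (Fin n) c) :
    A = Matrix.scalar (Fin k) c ∧ B = Matrix.scalar (Fin d) c := by
  rw [← blk_scalar h c] at he
  exact blk_injective h _ _ _ _ he



theorem blk_zero {k d n : ℕ} (h : k + d = n) :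
    blk h (0 : Matrix (Fin k) (Fin k) F) (0 : Matrix (Fin d) (Fin d) F) = 0 := by
  unfold blk
  rw [Matrix.fromBlocks_zero]
  simp

/-- the element of `SL` given by two diagonal blocks -/
def blkSL {k d n : ℕ} (h : k + d = n) (A : Matrix (Fin k) (Fin k) F) (B : Matrix (Fin d) (Fin d) F)
    (hdet : A.det * B.det = 1) : Matrix.SpecialLinearGroup (Fin n) F :=
  ⟨blk h A B, by rw [det_blk, hdet]⟩

theorem orderOf_blkSL_dvd_iff {k d n : ℕ} (h : k + d = n) (A : Matrix (Fin k) (Fin k) F)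
    (B : Matrix (Fin d) (Fin d) F) (hdet : A.det * B.det = 1) (j : ℕ) :
    orderOf (slToPSL n F (blkSL h A B hdet)) ∣ j ↔
      ∃ c : F, A ^ j = Matrix.scalar (Fin k) c ∧ B ^ j = Matrix.scalar (Fin d) c := by
  rw [orderOf_psl_dvd_iff]
  show (∃ c : F, (blk h A B) ^ j = _) ↔ _
  constructor
  · rintro ⟨c, hc⟩
    rw [blk_pow] at hc
    exact ⟨c, blk_eq_scalar h _ _ c hc⟩
  · rintro ⟨c, h1, h2⟩
    exact ⟨c, by rw [blk_pow, h1, h2, blk_scalar]⟩

theorem good_of_blk {r : ℕ} (hr : r.Prime) (hrq : r ∣ Fintype.card F - 1) (hrn : ¬ r ∣ n)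
    {k d : ℕ} (hk : 0 < k) (hd : 0 < d) (h : k + d = n) (A : Matrix (Fin k) (Fin k) F)
    (B : Matrix (Fin d) (Fin d) F) (hdet : A.det * B.det = 1) :
    ∃ y : Matrix.ProjectiveSpecialLinearGroup (Fin n) F,
      orderOf y = Nat.lcm (orderOf (slToPSL n F (blkSL h A B hdet))) r := by
  haveI : Nonempty (Fin k) := ⟨⟨0, hk⟩⟩
  haveI : Nonempty (Fin d) := ⟨⟨0, hd⟩⟩
  apply good_of_idem hr hrq hrn (blkSL h A B hdet) (blk h 1 0)
  · rw [blk_mul, one_mul, zero_mul]
  · intro h0
    rw [← blk_zero h] at h0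
    exact one_ne_zero (blk_injective h _ _ _ _ h0).1
  · intro h1
    rw [← blk_one h] at h1
    exact zero_ne_one (blk_injective h _ _ _ _ h1).2
  · show blk h 1 0 * blk h A B = blk h A B * blk h 1 0
    rw [blk_mul, blk_mul, one_mul, mul_one, zero_mul, mul_zero]


end Cfsg.Agent.Lead.SpecPSL
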