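import Cfsg.Agent.Lead.SpecPSLd

/-!
Explicit elements of `PSL n F`: Singer elements, and block elements whose order can be multiplied
by `r`.
-/

namespace Cfsg.Agent.Lead.SpecPSL
open Matrix Polynomial Cfsg.Agent.Lead.SpecGL

set_option linter.style.haveILetI false
set_option linter.unusedSectionVars false
set_option linter.unusedVariables false

variable {F : Type*} [Field F] [Fintype F] {n : ℕ}


theorem char_dvd_card (p : ℕ) [Fact p.Prime] [CharP F p] : p ∣ Fintype.card F := by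
  rw [← CharP.cast_eq_zero_iff F p]
  exact Nat.cast_card_eq_zero F

theorem ne_char_of_dvd {r : ℕ} (p : ℕ) [hp : Fact p.Prime] [CharP F p] (hr : r.Prime)
    (hrq : r ∣ Fintype.card F - 1) : Nat.Coprime r p := by
  rw [Nat.coprime_primes hr hp.out]
  rintro rfl
  have h1 := char_dvd_card (F := F) r
  have h2 : 0 < Fintype.card F := Fintype.card_pos
  have h3 : r ∣ 1 := by
    have : Fintype.card F = (Fintype.card F - 1) + 1 := by omega
    rw [this] at h1
    exact (Nat.dvd_add_right hrq).mp h1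
  exact hr.one_lt.ne' (Nat.dvd_one.mp h3)

theorem frob_eq_one (p : ℕ) [hp : Fact p.Prime] [CharP F p] (c : F) (T : ℕ) (h : c ^ p ^ T = 1) :
    c = 1 := by
  have h3 : c ^ p ^ T = 1 ^ p ^ T := by rw [h, one_pow]
  exact (frobenius_inj F p).iterate T (by simpa [iterate_frobenius] using h3)

theorem det_jordanP (p : ℕ) [hp : Fact p.Prime] [CharP F p] (k : ℕ) (hk : 0 < k) :
    (1 + shiftN F k).det = 1 := by
  apply frob_eq_one p _ (Nat.clog p k)
  rw [← Matrix.det_pow, jordanP_pow_clog p k hk, Matrix.det_one]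

theorem exists_singer (p : ℕ) [Fact p.Prime] [CharP F p] (hn : 0 < n) :
    ∃ y : Matrix.ProjectiveSpecialLinearGroup (Fin n) F,
      singerN (Fintype.card F) n ∣ orderOf y := by
  set q := Fintype.card F with hq
  have hq2 : 2 ≤ q := Fintype.one_lt_card
  obtain ⟨C, hC, hdet⟩ := exists_matrix_orderOf (F := F) p n n (by omega) le_rfl
  have hdet1 : (C ^ (q - 1)).det = 1 := by
    rw [Matrix.det_pow, FiniteField.pow_card_sub_one_eq_one _ hdet]
  let g : Matrix.SpecialLinearGroup (Fin n) F := ⟨C ^ (q - 1), hdet1⟩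
  refine ⟨slToPSL n F g, ?_⟩
  set j := orderOf (slToPSL n F g) with hj
  obtain ⟨c, hc⟩ := (orderOf_psl_dvd_iff g j).mp dvd_rfl
  have hc' : (C ^ (q - 1)) ^ j = Matrix.scalar (Fin n) c := hc
  have hc0 : c ≠ 0 := by
    rintro rfl
    have h1 := congrArg Matrix.det hc'
    haveI : Nonempty (Fin n) := ⟨⟨0, hn⟩⟩
    rw [Matrix.det_pow, hdet1, one_pow, map_zero, Matrix.det_zero] at h1
    exact one_ne_zero h1
  have h1 : C ^ ((q - 1) * j * (q - 1)) = 1 := by
    rw [pow_mul, pow_mul, hc', ← map_pow, FiniteField.pow_card_sub_one_eq_one _ hc0, map_one]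
  have h2 : q ^ n - 1 ∣ (q - 1) * j * (q - 1) := by
    rw [← hC]; exact orderOf_dvd_of_pow_eq_one h1
  rw [← ee_mul q n hq2] at h2
  have h3 : ee q n ∣ (q - 1) * j := by
    have : ee q n * (q - 1) ∣ ((q - 1) * j) * (q - 1) := h2
    exact (Nat.mul_dvd_mul_iff_right (by omega)).mp this
  -- now divide out the gcd
  set δ := Nat.gcd n (q - 1) with hδ
  have hδ' : Nat.gcd (ee q n) (q - 1) = δ := (ee_modEq q n hq2).gcd_eq
  have hδpos : 0 < δ := Nat.gcd_pos_of_pos_left _ hn
  have hcop : Nat.Coprime (ee q n / δ) ((q - 1) / δ) := by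
    have := Nat.coprime_div_gcd_div_gcd (m := ee q n) (n := q - 1) (by rw [hδ']; exact hδpos)
    rwa [hδ'] at this
  have hδe : δ ∣ ee q n := gcd_dvd_ee q n hq2
  have hδq : δ ∣ q - 1 := Nat.gcd_dvd_right n (q - 1)
  obtain ⟨a, ha⟩ := hδe
  obtain ⟨b, hb⟩ := hδq
  have ha' : ee q n / δ = a := by rw [ha]; exact Nat.mul_div_cancel_left a hδpos
  have hb' : (q - 1) / δ = b := by rw [hb]; exact Nat.mul_div_cancel_left b hδpos
  rw [ha', hb'] at hcop
  show ee q n / δ ∣ j
  rw [ha']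
  rw [ha, hb, mul_assoc] at h3
  have h4 : a ∣ b * j := (Nat.mul_dvd_mul_iff_left hδpos).mp h3
  exact hcop.dvd_of_dvd_mul_left h4


end Cfsg.Agent.Lead.SpecPSL
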