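import Cfsg.Agent.Lead.SpecPSLe

namespace Cfsg.Agent.Lead.SpecPSL
open Matrix Polynomial Cfsg.Agent.Lead.SpecGL

set_option linter.style.haveILetI false
set_option linter.unusedSectionVars false

variable {F : Type*} [Field F] [Fintype F] {n : ℕ}

theorem exists_unip_good (p : ℕ) [hp : Fact p.Prime] [CharP F p] {r : ℕ} (hr : r.Prime)
    (hrq : r ∣ Fintype.card F - 1) (hrn : ¬ r ∣ n) (hn : 2 ≤ n) :
    ∃ y : Matrix.ProjectiveSpecialLinearGroup (Fin n) F,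
      r * p ^ (Nat.clog p (n - 1)) ∣ orderOf y := by
  have hk : 0 < n - 1 := by omega
  have h : (n - 1) + 1 = n := by omega
  have hdet : (1 + shiftN F (n - 1)).det * (1 : Matrix (Fin 1) (Fin 1) F).det = 1 := by
    rw [det_jordanP p _ hk, Matrix.det_one, mul_one]
  obtain ⟨y, hy⟩ := good_of_blk hr hrq hrn hk (by norm_num) h (1 + shiftN F (n - 1))
    (1 : Matrix (Fin 1) (Fin 1) F) hdet
  refine ⟨y, ?_⟩
  set y₀ := slToPSL n F (blkSL h (1 + shiftN F (n - 1)) (1 : Matrix (Fin 1) (Fin 1) F) hdet) with hy₀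
  have h1 : p ^ (Nat.clog p (n - 1)) ∣ orderOf y₀ := by
    obtain ⟨c, hc1, hc2⟩ := (orderOf_blkSL_dvd_iff h _ _ hdet (orderOf y₀)).mp dvd_rfl
    have hc : c = 1 := jordanP_scalar p _ hk _ c hc1
    rw [hc, map_one] at hc1
    rw [← orderOf_jordanP (F := F) p (n - 1) hk]
    exact orderOf_dvd_of_pow_eq_one hc1
  rw [hy]
  apply Nat.Coprime.mul_dvd_of_dvd_of_dvd
  · exact Nat.Coprime.pow_right _ (ne_char_of_dvd (F := F) p hr hrq)
  · exact Nat.dvd_lcm_right _ _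
  · exact dvd_trans h1 (Nat.dvd_lcm_left _ _)

theorem exists_mixed_good (p : ℕ) [hp : Fact p.Prime] [CharP F p] {r : ℕ} (hr : r.Prime)
    (hrq : r ∣ Fintype.card F - 1) (hrn : ¬ r ∣ n) (d : ℕ) (hd : 1 ≤ d) (hdn : d < n) :
    ∃ y : Matrix.ProjectiveSpecialLinearGroup (Fin n) F,
      p ^ (Nat.clog p (n - d)) ∣ orderOf y ∧ ee (Fintype.card F) d ∣ orderOf y ∧ r ∣ orderOf y := by
  set q := Fintype.card F with hq
  have hq2 : 2 ≤ q := Fintype.one_lt_card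
  have hk : 0 < n - d := by omega
  have h : (n - d) + d = n := by omega
  obtain ⟨C, hC, hCdet⟩ := exists_matrix_orderOf (F := F) p d d hd le_rfl
  have hBdet : (C ^ (q - 1)).det = 1 := by
    rw [Matrix.det_pow, FiniteField.pow_card_sub_one_eq_one _ hCdet]
  have hBord : orderOf (C ^ (q - 1)) = ee q d := by
    rw [orderOf_pow' _ (by omega : q - 1 ≠ 0), hC]
    have hdvd : q - 1 ∣ q ^ d - 1 := by
      have := Nat.sub_dvd_pow_sub_pow q 1 d
      rwa [one_pow] at this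
    rw [Nat.gcd_eq_right hdvd]
    rfl
  have hdet : (1 + shiftN F (n - d)).det * (C ^ (q - 1)).det = 1 := by
    rw [det_jordanP p _ hk, hBdet, mul_one]
  obtain ⟨y, hy⟩ := good_of_blk hr hrq hrn hk (by omega) h (1 + shiftN F (n - d)) (C ^ (q - 1)) hdet
  refine ⟨y, ?_⟩
  set y₀ := slToPSL n F (blkSL h (1 + shiftN F (n - d)) (C ^ (q - 1)) hdet) with hy₀
  obtain ⟨c, hc1, hc2⟩ := (orderOf_blkSL_dvd_iff h _ _ hdet (orderOf y₀)).mp dvd_rfl
  have hc : c = 1 := jordanP_scalar p _ hk _ c hc1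
  rw [hc, map_one] at hc1 hc2
  have h1 : p ^ (Nat.clog p (n - d)) ∣ orderOf y₀ := by
    rw [← orderOf_jordanP (F := F) p (n - d) hk]
    exact orderOf_dvd_of_pow_eq_one hc1
  have h2 : ee q d ∣ orderOf y₀ := by
    rw [← hBord]
    exact orderOf_dvd_of_pow_eq_one hc2
  rw [hy]
  exact ⟨dvd_trans h1 (Nat.dvd_lcm_left _ _), dvd_trans h2 (Nat.dvd_lcm_left _ _),
    Nat.dvd_lcm_right _ _⟩

end Cfsg.Agent.Lead.SpecPSL
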