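import Cfsg.Agent.Lead.SpecPSLf

namespace Cfsg.Agent.Lead.SpecPSL
open Matrix Polynomial Cfsg.Agent.Lead.SpecGL

set_option linter.style.haveILetI false
set_option linter.unusedSectionVars false

variable {F : Type*} [Field F] [Fintype F] {n : ℕ}

theorem natDegree_minpoly_le (g : Matrix (Fin n) (Fin n) F) : (minpoly F g).natDegree ≤ n := by
  have h := Matrix.minpoly_dvd_charpoly g
  have h2 := Polynomial.natDegree_le_of_dvd h (Matrix.charpoly_monic g).ne_zero
  rwa [Matrix.charpoly_natDegree_eq_dim, Fintype.card_fin] at h2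

theorem ee_one (q : ℕ) (hq : 2 ≤ q) : ee q 1 = 1 := by
  rw [ee_eq_sum q 1 hq]; simp

theorem coprime_ee (p : ℕ) [hp : Fact p.Prime] [CharP F p] (d : ℕ) (hd : 0 < d) :
    Nat.Coprime (ee (Fintype.card F) d) p := by
  set q := Fintype.card F with hq
  have hq2 : 2 ≤ q := Fintype.one_lt_card
  have hpq : p ∣ q := char_dvd_card (F := F) p
  rw [Nat.coprime_comm, Nat.Prime.coprime_iff_not_dvd hp.out]
  intro h
  have h1 : p ∣ q ^ d - 1 := by
    rw [← ee_mul q d hq2]; exact Dvd.dvd.mul_right h _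
  have h2 : p ∣ q ^ d := dvd_trans hpq (dvd_pow_self q hd.ne')
  have h3 : 1 ≤ q ^ d := Nat.one_le_pow _ _ (by omega)
  have h4 : p ∣ 1 := by
    have := Nat.dvd_sub h2 h1
    rwa [Nat.sub_sub_self h3] at this
  exact hp.out.one_lt.ne' (Nat.dvd_one.mp h4)


theorem clog_pred_of_not_pow (p n : ℕ) (hp : 1 < p) (h : ¬ ∃ j : ℕ, n - 1 = p ^ j) :
    Nat.clog p n ≤ Nat.clog p (n - 1) := by
  apply Nat.clog_le_of_le_pow
  have h1 : n - 1 ≤ p ^ Nat.clog p (n - 1) := Nat.le_pow_clog hp _
  have h2 : n - 1 ≠ p ^ Nat.clog p (n - 1) := fun h' => h ⟨_, h'⟩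
  omega

theorem trichotomy (p : ℕ) [hp : Fact p.Prime] [CharP F p] {r : ℕ} (hr : r.Prime)
    (hrq : r ∣ Fintype.card F - 1) (hrn : ¬ r ∣ n) (hn : 2 ≤ n)
    (x : Matrix.ProjectiveSpecialLinearGroup (Fin n) F) (hx : ¬ r ∣ orderOf x) :
    (∃ y : Matrix.ProjectiveSpecialLinearGroup (Fin n) F, r * orderOf x ∣ orderOf y) ∨
    orderOf x ∣ singerN (Fintype.card F) n ∨
    (∃ j : ℕ, n - 1 = p ^ j ∧ orderOf x ∣ p ^ (j + 1)) := by
  set q := Fintype.card F with hq
  have hq2 : 2 ≤ q := Fintype.one_lt_card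
  have hp1 : 1 < p := hp.out.one_lt
  obtain ⟨g, rfl⟩ := slToPSL_surjective n F x
  have hcop : Nat.Coprime r (orderOf (slToPSL n F g)) :=
    (Nat.Prime.coprime_iff_not_dvd hr).mpr hx
  rcases minpoly_cases g.1 (by omega) with ⟨E, hE, hE0, hE1, hc⟩ | ⟨f, m, hf, hmon, hm, hmin⟩
  · left
    obtain ⟨y, hy⟩ := good_of_idem hr hrq hrn g E hE hE0 hE1 hc
    refine ⟨y, ?_⟩
    rw [hy]
    exact Nat.Coprime.mul_dvd_of_dvd_of_dvd hcop (Nat.dvd_lcm_right _ _) (Nat.dvd_lcm_left _ _)
  · have hd1 : 1 ≤ f.natDegree := Irreducible.natDegree_pos hf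
    have hdeg : m * f.natDegree ≤ n := by
      have := natDegree_minpoly_le g.1
      rwa [hmin, Polynomial.Monic.natDegree_pow hmon] at this
    set d := f.natDegree with hd
    rcases Nat.lt_or_ge d n with hdn | hdn
    · -- d < n
      set t := Nat.clog p m with ht
      have hmt : m ≤ p ^ t := Nat.le_pow_clog hp1 m
      have hpow := pow_eq_scalar_of_minpoly p g.1 f hf hmon m t hmt hmin
      have hdvd : orderOf (slToPSL n F g) ∣ ee q d * p ^ t :=
        (orderOf_psl_dvd_iff g _).mpr ⟨_, hpow⟩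
      rcases Nat.lt_or_ge d 2 with hd2 | hd2
      · -- d = 1
        have hd1' : d = 1 := by omega
        rw [hd1', ee_one q hq2, one_mul] at hdvd
        have hmn : m ≤ n := by rw [hd1', mul_one] at hdeg; exact hdeg
        have htn : t ≤ Nat.clog p n := Nat.clog_mono_right p hmn
        by_cases hj : ∃ j : ℕ, n - 1 = p ^ j
        · right; right
          obtain ⟨j, hj⟩ := hj
          refine ⟨j, hj, dvd_trans hdvd (pow_dvd_pow p ?_)⟩
          apply le_trans htn
          apply Nat.clog_le_of_le_pow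
          have h1 : 1 ≤ p ^ j := Nat.one_le_pow _ _ (by omega)
          have h2 : p ^ (j + 1) = p ^ j * p := pow_succ p j
          have h3 : p ^ j * 2 ≤ p ^ j * p := Nat.mul_le_mul_left _ hp1
          omega
        · left
          obtain ⟨y, hy⟩ := exists_unip_good (F := F) p hr hrq hrn hn
          refine ⟨y, dvd_trans (mul_dvd_mul_left r (dvd_trans hdvd (pow_dvd_pow p ?_))) hy⟩
          exact le_trans htn (clog_pred_of_not_pow p n hp1 hj)
      · -- 2 ≤ d < n
        left
        obtain ⟨y, hy1, hy2, hy3⟩ := exists_mixed_good (F := F) p hr hrq hrn d (by omega) hdn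
        refine ⟨y, ?_⟩
        have hmnd : m ≤ n - d := by
          rcases Nat.lt_or_ge m 2 with hm2 | hm2
          · omega
          · obtain ⟨m', rfl⟩ : ∃ m', m = m' + 2 := ⟨m - 2, by omega⟩
            obtain ⟨d', hd'⟩ : ∃ d', d = d' + 2 := ⟨d - 2, by omega⟩
            rw [hd'] at hdeg ⊢
            have : (m' + 2) * (d' + 2) = m' * d' + 2 * m' + 2 * d' + 4 := by ring
            have h0 : 0 ≤ m' * d' := Nat.zero_le _
            omega
        have htnd : t ≤ Nat.clog p (n - d) := Nat.clog_mono_right p hmnd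
        have h1 : ee q d * p ^ t ∣ orderOf y := by
          apply Nat.Coprime.mul_dvd_of_dvd_of_dvd
          · exact Nat.Coprime.pow_right _ (coprime_ee (F := F) p d (by omega))
          · exact hy2
          · exact dvd_trans (pow_dvd_pow p htnd) hy1
        exact Nat.Coprime.mul_dvd_of_dvd_of_dvd hcop hy3 (dvd_trans hdvd h1)
    · -- d = n
      right; left
      have hm1 : m = 1 := by
        rcases Nat.lt_or_ge m 2 with hm2 | hm2
        · omega
        · exfalso
          have : 2 * d ≤ m * d := Nat.mul_le_mul_right d hm2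
          omega
      have hdn' : d = n := by
        rw [hm1, one_mul] at hdeg; omega
      rw [hm1, pow_one] at hmin
      exact order_dvd_singerN g f hf hmon hmin hdn'

end Cfsg.Agent.Lead.SpecPSL
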