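import Cfsg.Agent.Lead.SpecSpA

/-!
Element orders of `PSp_{2n}(q)`, `q` odd: constructions (regular unipotent elements, block sums,
torus elements).
-/

namespace Cfsg.Agent.Lead.SpecSp
open Matrix Polynomial
open Cfsg.Agent.Helper8.RegU
open Cfsg.Agent.Helper8.SpG (spSum spSum_injective bsum exists_sp_elt)
open Cfsg.Agent.S0246 (negOne negOne_mem_center central_eq)

set_option linter.style.haveILetI false
set_option linter.unusedSectionVars false

variable {F : Type*} [Field F] {n : ℕ}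

local notation "Mat" => Matrix (Fin n ⊕ Fin n) (Fin n ⊕ Fin n) F

/-- a regular unipotent element has order `p ^ clog p (2k)` -/
theorem exists_unip (p : ℕ) [hp : Fact p.Prime] [CharP F p] (h2 : (2 : F) ≠ 0) (k : ℕ)
    (hk : 1 ≤ k) :
    ∃ u : Matrix.symplecticGroup (Fin k) F, orderOf u = p ^ Nat.clog p (2 * k) := by
  obtain ⟨u, hu1, hu2⟩ := exists_regular_unipotent (F := F) h2 hk
  refine ⟨u, ?_⟩
  set T : Matrix (Fin k ⊕ Fin k) (Fin k ⊕ Fin k) F := (u : Matrix _ _ F) - 1 with hT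
  have hreg : IsRegNilp T (2 * k) :=
    ⟨by rw [Fintype.card_sum, Fintype.card_fin]; ring, by omega, hu1, hu2⟩
  have hne := hreg.pow_pred_ne_zero
  have hu : (u : Matrix (Fin k ⊕ Fin k) (Fin k ⊕ Fin k) F) = 1 + T := by rw [hT]; abel
  haveI : Nonempty (Fin k ⊕ Fin k) := ⟨Sum.inl ⟨0, hk⟩⟩
  haveI : CharP (Matrix (Fin k ⊕ Fin k) (Fin k ⊕ Fin k) F) p := inferInstance
  have hpow : ∀ s : ℕ, ((u ^ (p ^ s) : Matrix.symplecticGroup (Fin k) F) :
      Matrix (Fin k ⊕ Fin k) (Fin k ⊕ Fin k) F) = 1 + T ^ (p ^ s) := by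
    intro s
    rw [SubmonoidClass.coe_pow, hu, add_pow_char_pow_of_commute p s (Commute.one_left _), one_pow]
  have hzero : ∀ j : ℕ, T ^ j = 0 ↔ 2 * k ≤ j := by
    intro j
    constructor
    · intro h
      by_contra hlt
      push Not at hlt
      apply hne
      have : 2 * k - 1 = j + (2 * k - 1 - j) := by omega
      rw [this, pow_add, h, zero_mul]
    · intro h
      obtain ⟨c, rfl⟩ := Nat.exists_eq_add_of_le h
      rw [pow_add, hu1, zero_mul]
  have hone : ∀ s : ℕ, u ^ (p ^ s) = 1 ↔ 2 * k ≤ p ^ s := by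
    intro s
    rw [← hzero]
    constructor
    · intro h
      have h1 := hpow s
      rw [h] at h1
      have h3 : (1 : Matrix (Fin k ⊕ Fin k) (Fin k ⊕ Fin k) F) = 1 + T ^ (p ^ s) := h1
      exact (left_eq_add.mp h3)
    · intro h
      apply Subtype.ext
      rw [hpow s, h, add_zero]; rfl
  have h1 : u ^ (p ^ Nat.clog p (2 * k)) = 1 := (hone _).mpr (Nat.le_pow_clog hp.out.one_lt _)
  obtain ⟨a, ha, hord⟩ := (Nat.dvd_prime_pow hp.out).mp (orderOf_dvd_of_pow_eq_one h1)
  have h3 : 2 * k ≤ p ^ a := (hone a).mp (by rw [← hord]; exact pow_orderOf_eq_one u)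
  have h4 : Nat.clog p (2 * k) ≤ a := Nat.clog_le_of_le_pow h3
  rw [hord]
  congr 1
  omega

theorem bsum_neg_one (a b : ℕ) :
    bsum a b (-1 : Matrix (Fin a ⊕ Fin a) (Fin a ⊕ Fin a) F) (-1) = -1 := by
  unfold bsum
  have h : (fromBlocks (-1 : Matrix (Fin a ⊕ Fin a) (Fin a ⊕ Fin a) F) 0 0
      (-1 : Matrix (Fin b ⊕ Fin b) (Fin b ⊕ Fin b) F)) = -1 := by
    ext i j
    rcases i with i | i <;> rcases j with j | j <;> simp [Matrix.one_apply]
  rw [h]
  ext i j
  simp [Matrix.one_apply]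

theorem spSum_negOne (a b : ℕ) :
    spSum (F := F) a b (negOne a F, negOne b F) = negOne (a + b) F := by
  apply Subtype.ext
  exact bsum_neg_one a b

theorem negOne_ne_one (h2 : (2 : F) ≠ 0) (a : ℕ) (ha : 1 ≤ a) : negOne a F ≠ 1 := by
  intro h
  have h1 : (-1 : Matrix (Fin a ⊕ Fin a) (Fin a ⊕ Fin a) F) = 1 := congrArg Subtype.val h
  have h3 := congrFun (congrFun h1 (Sum.inl ⟨0, ha⟩)) (Sum.inl ⟨0, ha⟩)
  rw [Matrix.neg_apply, Matrix.one_apply_eq] at h3
  apply h2
  have : (2 : F) = 1 - (-1) := by ring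
  rw [this, h3, sub_self]

theorem orderOf_mk_of_odd (hn : 1 ≤ n) (z : Matrix.symplecticGroup (Fin n) F)
    (hodd : Odd (orderOf z)) :
    orderOf (QuotientGroup.mk z : Cfsg.PSp n F) = orderOf z := by
  apply Nat.dvd_antisymm
  · apply orderOf_dvd_of_pow_eq_one
    rw [← QuotientGroup.mk_pow, pow_orderOf_eq_one]; rfl
  · have h := (psp_pow_eq_one_iff hn z _).mp (pow_orderOf_eq_one (QuotientGroup.mk z : Cfsg.PSp n F))
    have h1 : z ^ (2 * orderOf (QuotientGroup.mk z : Cfsg.PSp n F)) = 1 := by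
      rw [mul_comm, pow_mul]
      rcases h with h | h
      · rw [h, one_pow]
      · rw [h, pow_two, negOne_sq]
    exact (Nat.Coprime.dvd_mul_left (Nat.coprime_two_right.mpr hodd)).mp
      (orderOf_dvd_of_pow_eq_one h1)

/-- two blocks of odd order: twist by `1 ⊕ -1` -/
theorem twoBlock (h2 : (2 : F) ≠ 0) (a b : ℕ) (ha : 1 ≤ a) (hb : 1 ≤ b)
    (A : Matrix.symplecticGroup (Fin a) F) (B : Matrix.symplecticGroup (Fin b) F)
    (hA : Odd (orderOf A)) (hB : Odd (orderOf B)) :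
    ∃ y : Cfsg.PSp (a + b) F, orderOf y = 2 * Nat.lcm (orderOf A) (orderOf B) := by
  set z := spSum (F := F) a b (A, B) with hz
  have hordz : orderOf z = Nat.lcm (orderOf A) (orderOf B) := by
    rw [hz, orderOf_injective _ (spSum_injective a b), Prod.orderOf_mk]
  have hoddz : Odd (orderOf z) := by
    rw [hordz]
    rcases hA with ⟨u, hu⟩
    rcases hB with ⟨v, hv⟩
    rw [Nat.odd_iff]
    by_contra hcon
    have h0 : 2 ∣ Nat.lcm (orderOf A) (orderOf B) := by omega
    have h1 : Nat.Coprime 2 (orderOf A) := by rw [hu]; simp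
    have h3 : Nat.Coprime 2 (orderOf B) := by rw [hv]; simp
    have h4 : Nat.lcm (orderOf A) (orderOf B) ∣ orderOf A * orderOf B := Nat.lcm_dvd_mul _ _
    have h5 : Nat.Coprime 2 (orderOf A * orderOf B) := Nat.Coprime.mul_right h1 h3
    have := Nat.eq_one_of_dvd_coprimes h5 (dvd_refl 2) (dvd_trans h0 h4)
    omega
  have hn : 1 ≤ a + b := by omega
  have hmk := orderOf_mk_of_odd hn z hoddz
  set t := spSum (F := F) a b (1, negOne b F) with ht
  have hex := exists_twist hn z t (by rw [hmk]; exact hoddz) ?_ ?_ ?_ ?_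
  · obtain ⟨y, hy⟩ := hex
    exact ⟨y, by rw [hy, hmk, hordz]⟩
  · rw [hz, ht, Commute, SemiconjBy, ← map_mul, ← map_mul]
    congr 1
    rw [Prod.mk_mul_mk, Prod.mk_mul_mk, mul_one, one_mul]
    congr 1
    exact ((Subgroup.mem_center_iff.mp (negOne_mem_center b F)) B)
  · rw [ht, ← map_mul, Prod.mk_mul_mk, one_mul, negOne_sq, ← Prod.one_eq_mk, map_one]
  · rw [ht]
    intro h
    rw [← map_one (spSum (F := F) a b)] at h
    have := spSum_injective a b h
    rw [Prod.one_eq_mk, Prod.mk.injEq] at this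
    exact negOne_ne_one h2 b hb this.2
  · rw [ht, ← spSum_negOne]
    intro h
    have := spSum_injective a b h
    rw [Prod.mk.injEq] at this
    exact negOne_ne_one h2 a ha this.1.symm

end Cfsg.Agent.Lead.SpecSp
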