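import Cfsg.Agent.Lead.SpecSpB

/-!
Element orders of `PSp_{2n}(q)`, `q` odd: the elements used to absorb a factor `2`.
-/

namespace Cfsg.Agent.Lead.SpecSp
open Matrix Polynomial
open Cfsg.Agent.Helper8.RegU
open Cfsg.Agent.Helper8.SpG (spSum spSum_injective bsum exists_sp_elt)
open Cfsg.Agent.S0246 (negOne negOne_mem_center central_eq)

set_option linter.style.haveILetI false
set_option linter.unusedSectionVars false

variable {F : Type*} [Field F] [Fintype F] {n : ℕ}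

theorem odd_char (p : ℕ) [hp : Fact p.Prime] [CharP F p] (h2 : (2 : F) ≠ 0) : Odd p := by
  rcases hp.out.eq_two_or_odd' with h | h
  · exfalso
    apply h2
    have := CharP.cast_eq_zero F p
    rw [h] at this
    exact_mod_cast this
  · exact h

theorem good_unip (p : ℕ) [hp : Fact p.Prime] [CharP F p] (h2 : (2 : F) ≠ 0) (hn : 2 ≤ n) :
    ∃ y : Cfsg.PSp n F, orderOf y = 2 * p ^ Nat.clog p (2 * (n - 1)) := by
  obtain ⟨k, rfl⟩ : ∃ k, n = k + 1 := ⟨n - 1, by omega⟩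
  obtain ⟨u, hu⟩ := exists_unip (F := F) p h2 k (by omega)
  obtain ⟨y, hy⟩ := twoBlock h2 k 1 (by omega) le_rfl u 1
    (by rw [hu]; exact (odd_char (F := F) p h2).pow) (by rw [orderOf_one]; exact odd_one)
  refine ⟨y, ?_⟩
  rw [hy, hu, orderOf_one, Nat.lcm_one_right]
  simp

theorem good_mixed (p : ℕ) [hp : Fact p.Prime] [CharP F p] (h2 : (2 : F) ≠ 0)
    (e : ℕ) (he : 1 ≤ e) (hen : e < n) (s : ℕ) (hs : Odd s)
    (hsd : s ∣ Fintype.card F ^ e - 1 ∨ s ∣ Fintype.card F ^ e + 1) :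
    ∃ y : Cfsg.PSp n F, orderOf y = 2 * Nat.lcm s (p ^ Nat.clog p (2 * (n - e))) := by
  obtain ⟨b, rfl⟩ : ∃ b, n = e + b := ⟨n - e, by omega⟩
  have hb : 1 ≤ b := by omega
  obtain ⟨u, hu⟩ := exists_unip (F := F) p h2 b hb
  obtain ⟨x, hx⟩ := exists_sp_elt (F := F) p e (by omega) s hsd
  obtain ⟨y, hy⟩ := twoBlock h2 e b he hb x u (by rw [hx]; exact hs)
    (by rw [hu]; exact (odd_char (F := F) p h2).pow)
  refine ⟨y, ?_⟩
  rw [hy, hx, hu]
  have : e + b - e = b := by omega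
  rw [this]

theorem exists_torus (p : ℕ) [hp : Fact p.Prime] [CharP F p] (hn : 1 ≤ n) (m : ℕ)
    (hm : m ∣ Fintype.card F ^ n - 1 ∨ m ∣ Fintype.card F ^ n + 1) :
    ∃ y : Cfsg.PSp n F, m ∣ 2 * orderOf y := by
  obtain ⟨x, hx⟩ := exists_sp_elt (F := F) p n (by omega) m hm
  refine ⟨QuotientGroup.mk x, ?_⟩
  rw [← hx]
  apply orderOf_dvd_of_pow_eq_one
  have h := (psp_pow_eq_one_iff hn x _).mp
    (pow_orderOf_eq_one (QuotientGroup.mk x : Cfsg.PSp n F))
  rw [mul_comm, pow_mul]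
  rcases h with h | h
  · rw [h, one_pow]
  · rw [h, pow_two, negOne_sq]

end Cfsg.Agent.Lead.SpecSp
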