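import Cfsg.Agent.Lead.SpecSpF

/-!
Structure of a symplectic matrix of odd order: the case where the minimal polynomial has a
proper coprime factorisation.
-/

namespace Cfsg.Agent.Lead.SpecSp
open Matrix Polynomial
open Cfsg.Agent.Helper8.RegU
open Cfsg.Agent.Helper8.SpG (coeff_zero_ne_of_dvd natDegree_reverse_of_coeff_zero reverse_pow'
  reverse_dvd_reverse irreducible_reverse)

set_option linter.style.haveILetI false
set_option linter.unusedSectionVars false

variable {F : Type*} [Field F] [Fintype F] {n : ℕ}

local notation "Mat" => Matrix (Fin n ⊕ Fin n) (Fin n ⊕ Fin n) F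

set_option maxHeartbeats 800000 in
theorem struct_mixed (p : ℕ) [hp : Fact p.Prime] [CharP F p]
    (g : Matrix.symplecticGroup (Fin n) F) (a : ℕ) (ha : Odd a) (hMa : (g : Mat) ^ a = 1)
    (f Q : F[X]) (m : ℕ) (hfirr : Irreducible f) (hfmonic : f.Monic) (hm : 1 ≤ m)
    (hμ : minpoly F (g : Mat) = f ^ m * Q) (hQn : ¬ f ∣ Q) (hQu : ¬ IsUnit Q) :
    (∃ E : Mat, E * E = E ∧ adj E = E ∧ E ≠ 0 ∧ E ≠ 1 ∧ Commute E (g : Mat)) ∨
    (∃ e m' : ℕ, 1 ≤ e ∧ 1 ≤ m' ∧ e * m' ≤ n ∧
      ∀ t : ℕ, m' ≤ p ^ t → (g : Mat) ^ ((Fintype.card F ^ e - 1) * p ^ t) = 1) := by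
  classical
  set M : Mat := (g : Mat) with hM
  set B : Mat := adj M with hB
  have hMB : M * B = 1 := (mem_symplectic_iff M).mp g.2
  have hBM : B * M = 1 := mul_eq_one_comm.mp hMB
  have hapos : 0 < a := by rcases ha with ⟨k, rfl⟩; omega
  have hBpow : B = M ^ (a - 1) := by
    have h1 : M ^ (a - 1) * M = 1 := by rw [← pow_succ, Nat.sub_add_cancel hapos, hMa]
    calc B = (M ^ (a - 1) * M) * B := by rw [h1, one_mul]
      _ = M ^ (a - 1) := by rw [mul_assoc, hMB, mul_one]
  have hcop : IsCoprime (f ^ m) Q :=
    IsCoprime.pow_left ((Irreducible.coprime_iff_not_dvd hfirr).mpr hQn)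
  obtain ⟨u, v, huv⟩ := hcop
  have hfm_nu : ¬ IsUnit (f ^ m) := fun h =>
    hfirr.not_isUnit (isUnit_of_dvd_unit (dvd_pow_self f (by omega)) h)
  have hab : v * Q + u * f ^ m = 1 := by rw [add_comm]; exact huv
  have hmin' : minpoly F M = Q * f ^ m := by rw [hμ, mul_comm]
  obtain ⟨hEE, hE0, hE1, hfE⟩ := idem_of_coprime M Q (f ^ m) v u hab hQu hfm_nu hmin'
  set E : Mat := aeval M (v * Q) with hE
  set E' : Mat := adj E with hE'
  have hE'eq : E' = aeval M ((v * Q).comp (X ^ (a - 1))) := by
    rw [hE', hE, adj_aeval, ← hB, hBpow, aeval_comp, map_pow, aeval_X]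
  have hcomm_gen : ∀ P₁ P₂ : F[X], Commute (aeval M P₁) (aeval M P₂) := fun P₁ P₂ => by
    rw [Commute, SemiconjBy, ← map_mul, ← map_mul, mul_comm]
  have hEE' : Commute E E' := by rw [hE'eq]; exact hcomm_gen _ _
  have hEM : Commute E M := by
    have := hcomm_gen (v * Q) X
    rwa [aeval_X] at this
  have hE'M : Commute E' M := by
    rw [hE'eq]
    have := hcomm_gen ((v * Q).comp (X ^ (a - 1))) X
    rwa [aeval_X] at this
  have hE'E' : E' * E' = E' := by rw [hE', ← adj_mul, hEE]
  have hadjE' : adj E' = E := adj_adj_eq E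
  by_cases h0 : E * E' = 0
  · by_cases h1 : E + E' = 1
    · right
      have hμdvd : minpoly F M ∣ X ^ a - 1 := by
        apply minpoly.dvd F M
        rw [aeval_X_pow_sub_one_eq, hMa, sub_self]
      have hfdvd : f ∣ X ^ a - 1 := by
        have h1 : f ∣ f ^ m := dvd_pow_self f (by omega)
        have h2 : f ^ m ∣ f ^ m * Q := dvd_mul_right _ _
        rw [hμ] at hμdvd
        exact h1.trans (h2.trans hμdvd)
      have hf0 : f.coeff 0 ≠ 0 := coeff_zero_ne_of_dvd f a hapos hfdvd
      have hQne : Q ≠ 0 := by
        rintro rfl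
        rw [mul_zero] at hμ
        exact minpoly.ne_zero (Algebra.IsIntegral.isIntegral M) hμ
      -- Step 1: `f` is not self-reciprocal
      have hnrev : ¬ f ∣ f.reverse := by
        intro hfr
        obtain ⟨w, hw⟩ := hfr
        have hdegrev := natDegree_reverse_of_coeff_zero f hf0
        have hwne : w ≠ 0 := by
          rintro rfl
          rw [mul_zero] at hw
          exact hfirr.ne_zero (Polynomial.reverse_eq_zero.mp hw)
        have hw0 : w.natDegree = 0 := by
          have := congrArg natDegree hw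
          rw [hdegrev, natDegree_mul hfirr.ne_zero hwne] at this
          omega
        have hwC : w = C (w.coeff 0) := eq_C_of_natDegree_eq_zero hw0
        have hc : w.coeff 0 ≠ 0 := by
          intro h
          rw [h, C_0] at hwC
          exact hwne hwC
        have hrev : (f ^ m).reverse = f ^ m * C (w.coeff 0 ^ m) := by
          rw [reverse_pow', hw, mul_pow, C_pow, ← hwC]
        have h2 : E' * aeval B (f ^ m) = 0 := by
          have := congrArg adj hfE
          rw [adj_mul, adj_zero_eq, adj_aeval M (f ^ m)] at this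
          exact this
        have h3 := aeval_reverse_eq M B hMB (f ^ m)
        have h4 : E' * aeval M ((f ^ m).reverse) = 0 := by
          rw [h3, ← mul_assoc, (hE'M.pow_right _).eq, mul_assoc, h2, mul_zero]
        rw [hrev, map_mul, aeval_C, ← mul_assoc] at h4
        have h5 : E' * aeval M (f ^ m) = 0 := by
          have hcm : (w.coeff 0 ^ m) ≠ 0 := pow_ne_zero _ hc
          have := congrArg (fun X => X * algebraMap F Mat ((w.coeff 0 ^ m)⁻¹)) h4
          simp only [zero_mul, mul_assoc, ← map_mul, mul_inv_cancel₀ hcm, map_one, mul_one] at this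
          exact this
        have hE'1 : E' = 1 - E := eq_sub_of_add_eq' h1
        rw [hE'1, sub_mul, one_mul, sub_eq_zero] at h5
        have h6 : aeval M (f ^ m) = 0 := by
          rw [h5, (hcomm_gen (v * Q) (f ^ m)).eq, hfE]
        have h7 : f ^ m * Q ∣ f ^ m := by rw [← hμ]; exact minpoly.dvd F M h6
        have h8 : Q ∣ 1 := by
          have : f ^ m * Q ∣ f ^ m * 1 := by rwa [mul_one]
          exact (mul_dvd_mul_iff_left (pow_ne_zero m hfirr.ne_zero)).mp this
        exact hQu (isUnit_of_dvd_one h8)
      -- Step 2: the degree bound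
      have hcop2 : IsCoprime (f ^ m) (f.reverse ^ m) :=
        (hfirr.coprime_iff_not_dvd.mpr hnrev).pow
      have hrevdvd := minpoly_reverse_dvd g a hapos hMa
      have h9 : f.reverse ^ m ∣ f ^ m * Q := by
        have h10 : (f ^ m).reverse ∣ (minpoly F M).reverse := reverse_dvd_reverse ⟨Q, hμ⟩
        rw [reverse_pow'] at h10
        rw [← hμ]
        exact dvd_trans h10 hrevdvd
      have h11 : f.reverse ^ m ∣ Q := hcop2.symm.dvd_of_dvd_mul_left h9
      have hdegQ : m * f.natDegree ≤ Q.natDegree := by
        have := natDegree_le_of_dvd h11 hQne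
        rwa [natDegree_pow, natDegree_reverse_of_coeff_zero f hf0] at this
      have hdegμ : m * f.natDegree + Q.natDegree ≤ 2 * n := by
        have := natDegree_minpoly_le_two_mul M
        rwa [hμ, natDegree_mul (pow_ne_zero m hfirr.ne_zero) hQne, hfmonic.natDegree_pow] at this
      have hdpos : 1 ≤ f.natDegree := hfirr.natDegree_pos
      refine ⟨f.natDegree, m, hdpos, hm, by rw [mul_comm]; omega, ?_⟩
      -- Step 3: the order bound
      intro t hmt
      have hN : f ∣ X ^ (Fintype.card F ^ f.natDegree - 1) - 1 :=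
        irred_dvd_X_pow_sub_one f hfmonic hfirr hf0
      obtain ⟨K, hK⟩ := pow_dvd_X_pow_sub_one p f _ m t hN hmt
      set k := (Fintype.card F ^ f.natDegree - 1) * p ^ t with hk
      have h12 : (M ^ k - 1) * E = 0 := by
        rw [← aeval_X_pow_sub_one_eq, hK, map_mul, (hcomm_gen (f ^ m) K).eq, mul_assoc, hfE,
          mul_zero]
      have h13 : E' * (B ^ k - 1) = 0 := by
        have := congrArg adj h12
        rw [adj_mul, adj_zero_eq, adj_sub, adj_pow, adj_one] at this
        exact this
      have hcBM : Commute B M := by rw [Commute, SemiconjBy, hBM, hMB]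
      have hBMk : B ^ k * M ^ k = 1 := by rw [← hcBM.mul_pow, hBM, one_pow]
      have h14 : E' * (M ^ k - 1) = 0 := by
        have h : E' * (B ^ k - 1) * M ^ k = 0 := by rw [h13, zero_mul]
        rw [mul_assoc, sub_mul, hBMk, one_mul, ← neg_sub, mul_neg, neg_eq_zero] at h
        exact h
      have h15 : M ^ k - 1 = 0 := by
        calc M ^ k - 1 = (E + E') * (M ^ k - 1) := by rw [h1, one_mul]
          _ = E * (M ^ k - 1) + E' * (M ^ k - 1) := add_mul _ _ _
          _ = (M ^ k - 1) * E + 0 := by
              rw [h14]; congr 1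
              exact ((hEM.pow_right k).sub_right (Commute.one_right E)).eq
          _ = 0 := by rw [h12, add_zero]
      exact sub_eq_zero.mp h15
    · left
      refine ⟨E + E', ?_, ?_, ?_, h1, ?_⟩
      · have h0' : E' * E = 0 := by rw [← hEE'.eq]; exact h0
        rw [add_mul, mul_add, mul_add, hEE, hE'E', h0, h0', add_zero, zero_add]
      · rw [adj_add, hadjE', ← hE', add_comm]
      · intro h
        have : E = 0 := by
          calc E = E * E + E * E' := by rw [hEE, h0, add_zero]
            _ = E * (E + E') := (mul_add _ _ _).symm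
            _ = 0 := by rw [h, mul_zero]
        exact hE0 this
      · exact hEM.add_left hE'M
  · left
    refine ⟨E * E', ?_, ?_, h0, ?_, ?_⟩
    · calc E * E' * (E * E') = E * (E' * E) * E' := by simp only [mul_assoc]
        _ = E * (E * E') * E' := by rw [hEE'.eq]
        _ = (E * E) * (E' * E') := by simp only [mul_assoc]
        _ = E * E' := by rw [hEE, hE'E']
    · rw [adj_mul, hadjE', ← hE']
    · intro h
      have : E = 1 := by
        calc E = E * 1 := (mul_one _).symm
          _ = E * (E * E') := by rw [h]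
          _ = (E * E) * E' := (mul_assoc _ _ _).symm
          _ = E * E' := by rw [hEE]
          _ = 1 := h
      exact hE1 this
    · exact hEM.mul_left hE'M

end Cfsg.Agent.Lead.SpecSp
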