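import Cfsg.Agent.Lead.SpecSpG

/-!
Structure of a symplectic matrix of odd order: the four cases.
-/

namespace Cfsg.Agent.Lead.SpecSp
open Matrix Polynomial
open Cfsg.Agent.Helper8.RegU

set_option linter.style.haveILetI false
set_option linter.unusedSectionVars false

variable {F : Type*} [Field F] [Fintype F] {n : ℕ}

local notation "Mat" => Matrix (Fin n ⊕ Fin n) (Fin n ⊕ Fin n) F

theorem struct_cases (p : ℕ) [hp : Fact p.Prime] [CharP F p] (hn : 1 ≤ n)
    (g : Matrix.symplecticGroup (Fin n) F) (a : ℕ) (ha : Odd a) (hMa : (g : Mat) ^ a = 1) :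
    (∃ E : Mat, E * E = E ∧ adj E = E ∧ E ≠ 0 ∧ E ≠ 1 ∧ Commute E (g : Mat)) ∨
    (∃ m' : ℕ, 1 ≤ m' ∧ m' ≤ 2 * n ∧ ∀ t : ℕ, m' ≤ p ^ t → (g : Mat) ^ (p ^ t) = 1) ∨
    (∃ e m' : ℕ, 1 ≤ e ∧ 1 ≤ m' ∧ e * m' ≤ n ∧
      ∀ t : ℕ, m' ≤ p ^ t → (g : Mat) ^ ((Fintype.card F ^ e + 1) * p ^ t) = 1) ∨
    (∃ e m' : ℕ, 1 ≤ e ∧ 1 ≤ m' ∧ e * m' ≤ n ∧
      ∀ t : ℕ, m' ≤ p ^ t → (g : Mat) ^ ((Fintype.card F ^ e - 1) * p ^ t) = 1) := by
  classical
  haveI : Nonempty (Fin n ⊕ Fin n) := ⟨Sum.inl ⟨0, hn⟩⟩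
  have hint : IsIntegral F (g : Mat) := Algebra.IsIntegral.isIntegral _
  have hmonic : (minpoly F (g : Mat)).Monic := minpoly.monic hint
  have hne1 : minpoly F (g : Mat) ≠ 1 := minpoly.ne_one F _
  have hnu : ¬ IsUnit (minpoly F (g : Mat)) := fun h => hne1 (hmonic.isUnit_iff.mp h)
  have hne0 : minpoly F (g : Mat) ≠ 0 := minpoly.ne_zero hint
  obtain ⟨f0, hf0irr, hf0dvd⟩ := WfDvdMonoid.exists_irreducible_factor hnu hne0
  set f := normalize f0 with hf
  have hf0ne : f0 ≠ 0 := hf0irr.ne_zero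
  have hfmonic : f.Monic := Polynomial.monic_normalize hf0ne
  have hassoc : Associated f0 f := (normalize_associated f0).symm
  have hfirr : Irreducible f := hassoc.irreducible hf0irr
  have hfdvd : f ∣ minpoly F (g : Mat) := hassoc.symm.dvd.trans hf0dvd
  have hfin : FiniteMultiplicity f (minpoly F (g : Mat)) :=
    FiniteMultiplicity.of_not_isUnit hfirr.not_isUnit hne0
  obtain ⟨Q, hQ, hQn⟩ := hfin.exists_eq_pow_mul_and_not_dvd
  set m := multiplicity f (minpoly F (g : Mat)) with hm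
  have hm1 : 1 ≤ m := by
    by_contra h
    have hm0 : m = 0 := by omega
    rw [hm0, pow_zero, one_mul] at hQ
    exact hQn (hQ ▸ hfdvd)
  by_cases hQu : IsUnit Q
  · have hQmonic : Q.Monic := by
      have h1 : (f ^ m * Q).Monic := hQ ▸ hmonic
      exact (hfmonic.pow m).of_mul_monic_left h1
    rw [hQmonic.isUnit_iff.mp hQu, mul_one] at hQ
    rcases struct_pure p g a ha hMa f m hfirr hfmonic hm1 hQ with h | h
    · right; left; exact h
    · right; right; left; exact h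
  · rcases struct_mixed p g a ha hMa f Q m hfirr hfmonic hm1 hQ hQn hQu with h | h
    · left; exact h
    · right; right; right; exact h

end Cfsg.Agent.Lead.SpecSp
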