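import Cfsg.Agent.Lead.SpecSpH
import Cfsg.Agent.Lead.SpecPSLh

namespace Cfsg.Agent.Lead.SpecSp
open Matrix Polynomial
open Cfsg.Agent.Helper8.RegU
open Cfsg.Agent.S0246 (negOne negOne_mem_center central_eq)

set_option linter.style.haveILetI false
set_option linter.unusedSectionVars false

theorem clog_even (p n : ℕ) (hp : Odd p) (hp1 : 1 < p) (hn : 2 ≤ n)
    (hj : ¬ ∃ j : ℕ, 2 * n - 1 = p ^ j) : Nat.clog p (2 * n) ≤ Nat.clog p (2 * (n - 1)) := by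
  apply Nat.clog_le_of_le_pow
  have h1 : 2 * (n - 1) ≤ p ^ Nat.clog p (2 * (n - 1)) := Nat.le_pow_clog hp1 _
  have h2 : Odd (p ^ Nat.clog p (2 * (n - 1))) := hp.pow
  have h3 : 2 * n - 1 ≠ p ^ Nat.clog p (2 * (n - 1)) := fun h => hj ⟨_, h⟩
  rcases h2 with ⟨k, hk⟩
  omega

theorem clog_succ_pow (p j n : ℕ) (hp1 : 1 < p) (h : 2 * n - 1 = p ^ j) (hn : 1 ≤ n) :
    Nat.clog p (2 * n) ≤ j + 1 := by
  apply Nat.clog_le_of_le_pow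
  have h1 : 1 ≤ p ^ j := Nat.one_le_pow _ _ (by omega)
  have h2 : p ^ (j + 1) = p ^ j * p := pow_succ p j
  have h3 : p ^ j * 2 ≤ p ^ j * p := Nat.mul_le_mul_left _ hp1
  omega

theorem le_two_mul_sub (e m' n : ℕ) (he : 1 ≤ e) (hm : 1 ≤ m') (hem : e * m' ≤ n) (hen : e < n) :
    m' ≤ 2 * (n - e) := by
  obtain ⟨k, rfl⟩ : ∃ k, m' = k + 1 := ⟨m' - 1, by omega⟩
  have h1 : e * (k + 1) = e * k + e := by ring
  have h2 : k ≤ e * k := Nat.le_mul_of_pos_left k he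
  rcases Nat.eq_zero_or_pos k with h | h
  · omega
  · omega

/-- the odd one of `(q^n - 1)/2`, `(q^n + 1)/2` -/
def NN (q n : ℕ) : ℕ := if 4 ∣ q ^ n + 1 then (q ^ n - 1) / 2 else (q ^ n + 1) / 2

theorem dvd_NN_of_sub (q n a : ℕ) (hq : Odd q) (h4 : 4 ∣ q ^ n + 1) (ha : Odd a)
    (h : a ∣ q ^ n - 1) : a ∣ NN q n := by
  have hqn : Odd (q ^ n) := hq.pow
  rw [NN, if_pos h4]
  have h2 : q ^ n - 1 = 2 * ((q ^ n - 1) / 2) := by rcases hqn with ⟨k, hk⟩; omega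
  rw [h2] at h
  exact (Nat.Coprime.dvd_mul_left (Nat.coprime_two_right.mpr ha)).mp h

theorem dvd_NN_of_add (q n a : ℕ) (hq : Odd q) (h4 : ¬ 4 ∣ q ^ n + 1) (ha : Odd a)
    (h : a ∣ q ^ n + 1) : a ∣ NN q n := by
  have hqn : Odd (q ^ n) := hq.pow
  rw [NN, if_neg h4]
  have h2 : q ^ n + 1 = 2 * ((q ^ n + 1) / 2) := by rcases hqn with ⟨k, hk⟩; omega
  rw [h2] at h
  exact (Nat.Coprime.dvd_mul_left (Nat.coprime_two_right.mpr ha)).mp h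

theorem four_dvd_sub (q n : ℕ) (hq : Odd q) (h4 : ¬ 4 ∣ q ^ n + 1) : 4 ∣ q ^ n - 1 := by
  have hqn : Odd (q ^ n) := hq.pow
  rcases hqn with ⟨k, hk⟩
  omega

theorem four_mul_dvd (N a : ℕ) (h4 : 4 ∣ N) (ha : Odd a) (h : a ∣ N) : 4 * a ∣ N := by
  apply Nat.Coprime.mul_dvd_of_dvd_of_dvd _ h4 h
  have : Nat.Coprime (2 ^ 2) a := Nat.Coprime.pow_left 2 (Nat.coprime_two_left.mpr ha)
  simpa using this

theorem two_NN (q n : ℕ) (hq : Odd q) :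
    (4 ∣ q ^ n + 1 ∧ q ^ n - 1 = 2 * NN q n) ∨ (¬ 4 ∣ q ^ n + 1 ∧ q ^ n + 1 = 2 * NN q n) := by
  have hqn : Odd (q ^ n) := hq.pow
  by_cases h4 : 4 ∣ q ^ n + 1
  · left
    refine ⟨h4, ?_⟩
    rw [NN, if_pos h4]
    rcases hqn with ⟨k, hk⟩; omega
  · right
    refine ⟨h4, ?_⟩
    rw [NN, if_neg h4]
    rcases hqn with ⟨k, hk⟩; omega

end Cfsg.Agent.Lead.SpecSp
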