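import Cfsg.Agent.Lead.SpecSpI

/-!
Element orders of `PSp_{2n}(q)`, `q` odd: every element of odd order either absorbs a factor `2`,
or has order dividing the odd one of `(q^n ± 1)/2`, or is unipotent of large order.
-/

namespace Cfsg.Agent.Lead.SpecSp
open Matrix Polynomial
open Cfsg.Agent.Helper8.RegU
open Cfsg.Agent.S0246 (negOne negOne_mem_center central_eq)

set_option linter.style.haveILetI false
set_option linter.unusedSectionVars false

variable {F : Type*} [Field F] [Fintype F] {n : ℕ}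

local notation "Mat" => Matrix (Fin n ⊕ Fin n) (Fin n ⊕ Fin n) F

theorem negOne_pow_odd (a : ℕ) (ha : Odd a) : (negOne n F) ^ a = negOne n F := by
  obtain ⟨k, rfl⟩ := ha
  rw [pow_succ, pow_mul, pow_two, negOne_sq, one_pow, one_mul]

theorem exists_lift_odd (hn : 1 ≤ n) (x : Cfsg.PSp n F) (hodd : Odd (orderOf x)) :
    ∃ g : Matrix.symplecticGroup (Fin n) F,
      (QuotientGroup.mk g : Cfsg.PSp n F) = x ∧ g ^ orderOf x = 1 := by
  obtain ⟨g₀, rfl⟩ := QuotientGroup.mk_surjective x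
  rcases (psp_pow_eq_one_iff hn g₀ _).mp (pow_orderOf_eq_one _) with h | h
  · exact ⟨g₀, rfl, h⟩
  · refine ⟨g₀ * negOne n F, ?_, ?_⟩
    · rw [QuotientGroup.mk_mul]
      have : (QuotientGroup.mk (negOne n F) : Cfsg.PSp n F) = 1 :=
        (QuotientGroup.eq_one_iff _).mpr (negOne_mem_center n F)
      rw [this, mul_one]
    · have hc : Commute g₀ (negOne n F) :=
        ((Subgroup.mem_center_iff.mp (negOne_mem_center n F)) g₀)
      rw [hc.mul_pow, h, negOne_pow_odd _ hodd, negOne_sq]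

theorem coprime_add_one (p : ℕ) [hp : Fact p.Prime] [CharP F p] (e : ℕ) (he : 1 ≤ e) :
    Nat.Coprime (Fintype.card F ^ e + 1) p := by
  have hpq : p ∣ Fintype.card F := Cfsg.Agent.Lead.SpecPSL.char_dvd_card (F := F) p
  rw [Nat.coprime_comm, Nat.Prime.coprime_iff_not_dvd hp.out]
  intro h
  have h2 : p ∣ Fintype.card F ^ e := dvd_trans hpq (dvd_pow_self _ (by omega))
  have h4 : p ∣ 1 := (Nat.dvd_add_right h2).mp h
  exact hp.out.one_lt.ne' (Nat.dvd_one.mp h4)

theorem coprime_sub_one (p : ℕ) [hp : Fact p.Prime] [CharP F p] (e : ℕ) (he : 1 ≤ e) :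
    Nat.Coprime (Fintype.card F ^ e - 1) p := by
  have hpq : p ∣ Fintype.card F := Cfsg.Agent.Lead.SpecPSL.char_dvd_card (F := F) p
  rw [Nat.coprime_comm, Nat.Prime.coprime_iff_not_dvd hp.out]
  intro h
  have h2 : p ∣ Fintype.card F ^ e := dvd_trans hpq (dvd_pow_self _ (by omega))
  have h3 : 1 ≤ Fintype.card F ^ e := Nat.one_le_pow _ _ Fintype.card_pos
  have h4 : p ∣ 1 := by
    have := Nat.dvd_sub h2 h
    rwa [Nat.sub_sub_self h3] at this
  exact hp.out.one_lt.ne' (Nat.dvd_one.mp h4)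

/-- absorbing `2` through a mixed element -/
theorem mixed_absorb (p : ℕ) [hp : Fact p.Prime] [CharP F p] (h2 : (2 : F) ≠ 0)
    (e m' a N : ℕ) (he : 1 ≤ e) (hm : 1 ≤ m') (hem : e * m' ≤ n) (hen : e < n) (ha : Odd a)
    (hN : N = Fintype.card F ^ e - 1 ∨ N = Fintype.card F ^ e + 1)
    (hdvd : a ∣ N * p ^ Nat.clog p m') :
    ∃ y : Cfsg.PSp n F, 2 * a ∣ orderOf y := by
  obtain ⟨a1, a2, h1, h2', h12⟩ := (Nat.dvd_mul).mp hdvd
  have ha1 : Odd a1 := by
    rw [← h12] at ha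
    exact (Nat.odd_mul.mp ha).1
  have hsd : a1 ∣ Fintype.card F ^ e - 1 ∨ a1 ∣ Fintype.card F ^ e + 1 := by
    rcases hN with rfl | rfl
    · exact Or.inl h1
    · exact Or.inr h1
  obtain ⟨y, hy⟩ := good_mixed (F := F) p h2 e he hen a1 ha1 hsd
  refine ⟨y, ?_⟩
  rw [hy]
  apply mul_dvd_mul_left
  have hcopN : Nat.Coprime N p := by
    rcases hN with rfl | rfl
    · exact coprime_sub_one (F := F) p e he
    · exact coprime_add_one (F := F) p e he
  have hT : Nat.clog p m' ≤ Nat.clog p (2 * (n - e)) :=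
    Nat.clog_mono_right p (le_two_mul_sub e m' n he hm hem hen)
  have h3 : a2 ∣ p ^ Nat.clog p (2 * (n - e)) := dvd_trans h2' (pow_dvd_pow p hT)
  have hcop : Nat.Coprime a1 a2 :=
    Nat.Coprime.coprime_dvd_left h1 (Nat.Coprime.coprime_dvd_right h2' (hcopN.pow_right _))
  rw [← h12]
  exact Nat.Coprime.mul_dvd_of_dvd_of_dvd hcop (Nat.dvd_lcm_left _ _)
    (dvd_trans h3 (Nat.dvd_lcm_right _ _))

/-- absorbing `2` inside a torus of order divisible by `4` -/
theorem torus_absorb (p : ℕ) [hp : Fact p.Prime] [CharP F p] (hn : 1 ≤ n) (a N : ℕ)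
    (ha : Odd a) (hN : N = Fintype.card F ^ n - 1 ∨ N = Fintype.card F ^ n + 1)
    (h4 : 4 ∣ N) (hdvd : a ∣ N) :
    ∃ y : Cfsg.PSp n F, 2 * a ∣ orderOf y := by
  have hm : N ∣ Fintype.card F ^ n - 1 ∨ N ∣ Fintype.card F ^ n + 1 := by
    rcases hN with rfl | rfl
    · exact Or.inl dvd_rfl
    · exact Or.inr dvd_rfl
  obtain ⟨y, hy⟩ := exists_torus (F := F) p hn N hm
  refine ⟨y, ?_⟩
  have h1 : 4 * a ∣ 2 * orderOf y := dvd_trans (four_mul_dvd N a h4 ha hdvd) hy
  have h2 : 2 * (2 * a) ∣ 2 * orderOf y := by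
    have : 2 * (2 * a) = 4 * a := by ring
    rwa [this]
  exact Nat.dvd_of_mul_dvd_mul_left (by norm_num) h2

end Cfsg.Agent.Lead.SpecSp
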