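import Cfsg.Agent.Lead.SpecSpJ

/-!
Element orders of `PSp_{2n}(q)`, `q` odd: the trichotomy for elements of odd order.
-/

namespace Cfsg.Agent.Lead.SpecSp
open Matrix Polynomial
open Cfsg.Agent.Helper8.RegU
open Cfsg.Agent.S0246 (negOne negOne_mem_center central_eq)

set_option linter.style.haveILetI false
set_option linter.unusedSectionVars false

variable {F : Type*} [Field F] [Fintype F] {n : ℕ}

local notation "Mat" => Matrix (Fin n ⊕ Fin n) (Fin n ⊕ Fin n) F

theorem trichotomy (p : ℕ) [hp : Fact p.Prime] [CharP F p] (hq : Odd (Fintype.card F))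
    (hn : 2 ≤ n) (x : Cfsg.PSp n F) (hodd : Odd (orderOf x)) :
    (∃ y : Cfsg.PSp n F, 2 * orderOf x ∣ orderOf y) ∨
    orderOf x ∣ NN (Fintype.card F) n ∨
    (∃ j : ℕ, 2 * n - 1 = p ^ j ∧ orderOf x ∣ p ^ (j + 1)) := by
  have h2 : (2 : F) ≠ 0 := two_ne_zero_of_odd hq
  have hn1 : 1 ≤ n := by omega
  have hp1 : 1 < p := hp.out.one_lt
  have hpodd : Odd p := odd_char (F := F) p h2
  obtain ⟨g, hgx, hga⟩ := exists_lift_odd hn1 x hodd
  set a := orderOf x with ha
  have hMa : (g : Mat) ^ a = 1 := by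
    have := congrArg Subtype.val hga
    simpa using this
  have hdvd_of : ∀ k : ℕ, (g : Mat) ^ k = 1 → a ∣ k := by
    intro k hk
    rw [ha]
    apply orderOf_dvd_of_pow_eq_one
    rw [← hgx, ← QuotientGroup.mk_pow]
    have : g ^ k = 1 := by
      apply Subtype.ext
      simpa using hk
    rw [this]; rfl
  rcases struct_cases p hn1 g a hodd hMa with ⟨E, hEE, hadj, hE0, hE1, hc⟩ |
      ⟨m', hm1, hm2, hb⟩ | ⟨e, m', he, hm1, hem, hb⟩ | ⟨e, m', he, hm1, hem, hb⟩
  · left
    obtain ⟨y, hy⟩ := exists_twist_of_idem hn1 h2 g (by rw [hgx]; exact hodd) E hEE hadj hE0 hE1 hc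
    rw [hgx] at hy
    exact ⟨y, by rw [hy]⟩
  · have hat : a ∣ p ^ Nat.clog p m' := hdvd_of _ (hb _ (Nat.le_pow_clog hp1 m'))
    have ht : Nat.clog p m' ≤ Nat.clog p (2 * n) := Nat.clog_mono_right p hm2
    by_cases hj : ∃ j : ℕ, 2 * n - 1 = p ^ j
    · right; right
      obtain ⟨j, hj⟩ := hj
      exact ⟨j, hj, dvd_trans hat (pow_dvd_pow p (le_trans ht (clog_succ_pow p j n hp1 hj hn1)))⟩
    · left
      obtain ⟨y, hy⟩ := good_unip (F := F) p h2 hn
      refine ⟨y, ?_⟩
      rw [hy]
      exact mul_dvd_mul_left 2 (dvd_trans hat (pow_dvd_pow p (le_trans ht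
        (clog_even p n hpodd hp1 hn hj))))
  · by_cases hen : e < n
    · left
      have hat : a ∣ (Fintype.card F ^ e + 1) * p ^ Nat.clog p m' :=
        hdvd_of _ (hb _ (Nat.le_pow_clog hp1 m'))
      exact mixed_absorb p h2 e m' a _ he hm1 hem hen hodd (Or.inr rfl) hat
    · have hen' : e = n := by
        have : e ≤ e * m' := Nat.le_mul_of_pos_right e hm1
        omega
      have hm' : m' ≤ p ^ 0 := by
        rw [pow_zero]
        by_contra hcon
        have : e * 2 ≤ e * m' := Nat.mul_le_mul_left e (by omega)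
        omega
      have hat : a ∣ Fintype.card F ^ n + 1 := by
        have := hdvd_of _ (hb 0 hm')
        rwa [pow_zero, mul_one, hen'] at this
      by_cases h4 : 4 ∣ Fintype.card F ^ n + 1
      · left
        exact torus_absorb p hn1 a _ hodd (Or.inr rfl) h4 hat
      · right; left
        exact dvd_NN_of_add _ n a hq h4 hodd hat
  · by_cases hen : e < n
    · left
      have hat : a ∣ (Fintype.card F ^ e - 1) * p ^ Nat.clog p m' :=
        hdvd_of _ (hb _ (Nat.le_pow_clog hp1 m'))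
      exact mixed_absorb p h2 e m' a _ he hm1 hem hen hodd (Or.inl rfl) hat
    · have hen' : e = n := by
        have : e ≤ e * m' := Nat.le_mul_of_pos_right e hm1
        omega
      have hm' : m' ≤ p ^ 0 := by
        rw [pow_zero]
        by_contra hcon
        have : e * 2 ≤ e * m' := Nat.mul_le_mul_left e (by omega)
        omega
      have hat : a ∣ Fintype.card F ^ n - 1 := by
        have := hdvd_of _ (hb 0 hm')
        rwa [pow_zero, mul_one, hen'] at this
      by_cases h4 : 4 ∣ Fintype.card F ^ n + 1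
      · right; left
        exact dvd_NN_of_sub _ n a hq h4 hodd hat
      · left
        exact torus_absorb p hn1 a _ hodd (Or.inl rfl) (four_dvd_sub _ n hq h4) hat

/-- an element whose order is divisible by `NN` -/
theorem exists_NN (p : ℕ) [hp : Fact p.Prime] [CharP F p] (hq : Odd (Fintype.card F))
    (hn : 1 ≤ n) : ∃ y : Cfsg.PSp n F, NN (Fintype.card F) n ∣ orderOf y := by
  rcases two_NN (Fintype.card F) n hq with ⟨-, h⟩ | ⟨-, h⟩
  · obtain ⟨y, hy⟩ := exists_torus (F := F) p hn _ (Or.inl dvd_rfl)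
    rw [h] at hy
    exact ⟨y, Nat.dvd_of_mul_dvd_mul_left (by norm_num) hy⟩
  · obtain ⟨y, hy⟩ := exists_torus (F := F) p hn _ (Or.inr dvd_rfl)
    rw [h] at hy
    exact ⟨y, Nat.dvd_of_mul_dvd_mul_left (by norm_num) hy⟩

end Cfsg.Agent.Lead.SpecSp
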