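import Cfsg.Agent.Lead.SpecSpK
import Cfsg.Agent.Lead.SpecGen

/-!
Element orders of `PSp_{2n}(q)^3 × 2^m` and `PSp_{2n}(q)^2 × 2^m`, `q` odd.
-/

namespace Cfsg.Agent.Lead.SpecSp
open Matrix Polynomial
open Cfsg.Agent.Lead.SpecGen

set_option linter.style.haveILetI false
set_option linter.unusedSectionVars false

variable {F : Type*} [Field F] [Fintype F] {n : ℕ}

theorem absorb_or (p : ℕ) [hp : Fact p.Prime] [CharP F p] (hq : Odd (Fintype.card F))
    (hn : 2 ≤ n) (x : Cfsg.PSp n F) :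
    (∃ y : Cfsg.PSp n F, orderOf y = Nat.lcm (orderOf x) 2) ∨
    orderOf x ∣ NN (Fintype.card F) n ∨
    (∃ j : ℕ, 2 * n - 1 = p ^ j ∧ orderOf x ∣ p ^ (j + 1)) := by
  rcases Nat.even_or_odd (orderOf x) with he | ho
  · left
    exact ⟨x, (Nat.lcm_eq_left he.two_dvd).symm⟩
  · rcases trichotomy p hq hn x ho with ⟨y, hy⟩ | h | h
    · left
      have hcop : Nat.Coprime (orderOf x) 2 := Nat.coprime_two_right.mpr ho
      rw [hcop.lcm_eq_mul, mul_comm]
      exact exists_orderOf_of_dvd' y _ hy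
    · right; left; exact h
    · right; right; exact h

theorem exists_invol (p : ℕ) [hp : Fact p.Prime] [CharP F p] (hq : Odd (Fintype.card F))
    (hn : 2 ≤ n) : ∃ z : Cfsg.PSp n F, orderOf z = 2 := by
  have h2 : (2 : F) ≠ 0 := Cfsg.Agent.Helper8.RegU.two_ne_zero_of_odd hq
  obtain ⟨y, hy⟩ := good_unip (F := F) p h2 hn
  exact exists_orderOf_of_dvd' y 2 (by rw [hy]; exact Dvd.intro _ rfl)

theorem psp_three (p : ℕ) [hp : Fact p.Prime] [CharP F p] (hq : Odd (Fintype.card F))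
    (hn : 2 ≤ n) (x₁ x₂ x₃ : Cfsg.PSp n F) :
    ∃ y₁ y₂ y₃ : Cfsg.PSp n F,
      Nat.lcm (orderOf y₁) (Nat.lcm (orderOf y₂) (orderOf y₃)) =
        Nat.lcm (orderOf x₁) (Nat.lcm (orderOf x₂) (Nat.lcm (orderOf x₃) 2)) := by
  apply three 2 (fun x => orderOf x ∣ NN (Fintype.card F) n)
    (fun x => ∃ j : ℕ, 2 * n - 1 = p ^ j ∧ orderOf x ∣ p ^ (j + 1))
    (exists_invol p hq hn) (absorb_or p hq hn)
  · intro x x' h h'
    obtain ⟨y, hy⟩ := exists_NN (F := F) (n := n) p hq (by omega)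
    exact exists_orderOf_of_dvd' y _ (dvd_trans (Nat.lcm_dvd h h') hy)
  · rintro x x' ⟨j, -, h⟩ ⟨j', -, h'⟩
    exact compat_pow p hp.out x x' _ _ h h'

theorem psp_two (p : ℕ) [hp : Fact p.Prime] [CharP F p] (hq : Odd (Fintype.card F))
    (hn : 2 ≤ n) (hj : ¬ ∃ j : ℕ, 2 * n - 1 = p ^ j) (x₁ x₂ : Cfsg.PSp n F) :
    ∃ y₁ y₂ : Cfsg.PSp n F,
      Nat.lcm (orderOf y₁) (orderOf y₂) = Nat.lcm (orderOf x₁) (Nat.lcm (orderOf x₂) 2) := by
  apply two 2 (fun x => orderOf x ∣ NN (Fintype.card F) n) (exists_invol p hq hn)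
  · intro x
    rcases absorb_or p hq hn x with h | h | ⟨j, hj', -⟩
    · left; exact h
    · right; exact h
    · exact absurd ⟨j, hj'⟩ hj
  · intro x x' h h'
    obtain ⟨y, hy⟩ := exists_NN (F := F) (n := n) p hq (by omega)
    exact exists_orderOf_of_dvd' y _ (dvd_trans (Nat.lcm_dvd h h') hy)

end Cfsg.Agent.Lead.SpecSp
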