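import Mathlib
import Cfsg.Agent.Helper2.Component
import Cfsg.Prelude.Def_Local

set_option autoImplicit false

namespace Cfsg.Agent.Lead

/-- `S1754`. -/
theorem standard_centralizer_involution {G : Type*} [Group G] [Finite G]
    (A : Subgroup G) (hA : Cfsg.IsStandardSubgroup A) (t : G) (ht : orderOf t = 2)
    (htA : t ∈ Subgroup.centralizer (A : Set G)) :
    Subgroup.centralizer ({t} : Set G) ≤ Subgroup.normalizer (A : Set G) ∧
      Cfsg.IsComponent (A.subgroupOf (Subgroup.centralizer ({t} : Set G))) := by
  obtain ⟨hqs, ⟨_, htight⟩, _, hnorm⟩ := hA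
  have hle : Subgroup.centralizer ({t} : Set G) ≤ Subgroup.normalizer (A : Set G) := by
    intro c hc
    rw [hnorm]
    by_contra hcN
    have hodd := htight c hcN
    -- `t` lies in the intersection
    have hct : c * t * c⁻¹ = t := by
      have := Subgroup.mem_centralizer_iff.mp hc t rfl
      rw [← this, mul_inv_cancel_right]
    have htI : t ∈ Subgroup.centralizer (A : Set G) ⊓
        (Subgroup.centralizer (A : Set G)).map (MulAut.conj c).toMonoidHom :=
      Subgroup.mem_inf.mpr ⟨htA, ⟨t, htA, hct⟩⟩
    have hdvd : orderOf (⟨t, htI⟩ : ↥(Subgroup.centralizer (A : Set G) ⊓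
        (Subgroup.centralizer (A : Set G)).map (MulAut.conj c).toMonoidHom)) ∣ Nat.card _ :=
      orderOf_dvd_natCard _
    rw [← Subgroup.orderOf_coe] at hdvd
    change orderOf t ∣ _ at hdvd
    rw [ht] at hdvd
    exact (Nat.not_even_iff_odd.mpr hodd) (even_iff_two_dvd.mpr hdvd)
  refine ⟨hle, ?_, ?_⟩
  · -- normal, hence subnormal
    have hAC : A ≤ Subgroup.centralizer ({t} : Set G) := by
      intro a ha
      rw [Subgroup.mem_centralizer_iff]
      rintro h rfl
      exact (Subgroup.mem_centralizer_iff.mp htA a ha).symm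
    have hn : (A.subgroupOf (Subgroup.centralizer ({t} : Set G))).Normal := by
      constructor
      intro a ha c
      rw [Subgroup.mem_subgroupOf] at ha ⊢
      have := (Subgroup.mem_normalizer_iff.mp (hle c.2) (a : G)).mp ha
      simpa using this
    exact hn.isSubnormal
  · have hAC : A ≤ Subgroup.centralizer ({t} : Set G) := by
      intro a ha
      rw [Subgroup.mem_centralizer_iff]
      rintro h rfl
      exact (Subgroup.mem_centralizer_iff.mp htA a ha).symm
    exact Cfsg.Agent.Helper2.isQuasisimple_of_mulEquiv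
      (Subgroup.subgroupOfEquivOfLe hAC).symm hqs

end Cfsg.Agent.Lead
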