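import Mathlib
import Cfsg.Prelude.Def_Sporadic_a

set_option autoImplicit false

namespace Cfsg.Agent.Lead.Steiner

open Finset

theorem derived_design {α : Type*} [Fintype α] [DecidableEq α] {t k : ℕ} {B : Set (Finset α)}
    (hB : Cfsg.IsSteinerSystem (t + 1) (k + 1) B) (p : α) :
    Cfsg.IsSteinerSystem t k {b' : Finset {a : α // a ≠ p} |
      ∃ b ∈ B, p ∈ b ∧ b' = Finset.subtype (fun a => a ≠ p) b} := by
  constructor
  · rintro b' ⟨b, hb, hpb, rfl⟩
    rw [Finset.card_subtype, Finset.filter_ne', Finset.card_erase_of_mem hpb, hB.1 b hb]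
    rfl
  · intro s hs
    have hpS : p ∉ s.map (Function.Embedding.subtype _) := by
      intro h
      rw [Finset.mem_map] at h
      obtain ⟨x, -, hx⟩ := h
      exact x.2 hx
    have hS : (insert p (s.map (Function.Embedding.subtype _))).card = t + 1 := by
      rw [Finset.card_insert_of_notMem hpS, Finset.card_map, hs]
    obtain ⟨b, ⟨hbB, hSb⟩, huniq⟩ := hB.2 _ hS
    have hpb : p ∈ b := hSb (Finset.mem_insert_self _ _)
    refine ⟨Finset.subtype (fun a => a ≠ p) b, ⟨⟨b, hbB, hpb, rfl⟩, ?_⟩, ?_⟩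
    · intro x hx
      rw [Finset.mem_subtype]
      apply hSb
      rw [Finset.mem_insert]
      right
      rw [Finset.mem_map]
      exact ⟨x, hx, rfl⟩
    · rintro b'' ⟨⟨b₁, hb₁, hpb₁, rfl⟩, hsb''⟩
      have : b₁ = b := by
        apply huniq
        refine ⟨hb₁, ?_⟩
        intro x hx
        rw [Finset.mem_insert] at hx
        rcases hx with rfl | hx
        · exact hpb₁
        · rw [Finset.mem_map] at hx
          obtain ⟨y, hy, rfl⟩ := hx
          exact Finset.mem_subtype.mp (hsb'' hy)
      rw [this]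

end Cfsg.Agent.Lead.Steiner
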