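import Mathlib
import Cfsg.Agent.Lead.SteinerNumbers

set_option autoImplicit false

namespace Cfsg.Agent.Lead.Steiner

open Finset

variable {α : Type*} [Fintype α] [DecidableEq α] {B : Set (Finset α)}

/-- `nExact B b s` : the number of blocks meeting `b` exactly in `s`. -/
noncomputable def nExact (B : Set (Finset α)) (b s : Finset α) : ℕ :=
  ((blocks B).filter (fun c => b ∩ c = s)).card

theorem ncard_eq_nExact (B : Set (Finset α)) (b s : Finset α) :
    {c : Finset α | c ∈ B ∧ b ∩ c = s}.ncard = nExact B b s := by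
  classical
  rw [ncard_filter_eq]
  rfl

theorem through_eq_sum_nExact (b s : Finset α) (hsb : s ⊆ b) :
    ((blocks B).filter (fun c => s ⊆ c)).card
      = ∑ s' ∈ b.powerset.filter (fun s' => s ⊆ s'), nExact B b s' := by
  classical
  rw [Finset.card_eq_sum_card_fiberwise (f := fun c => b ∩ c)
    (t := b.powerset.filter (fun s' => s ⊆ s'))]
  · refine Finset.sum_congr rfl fun s' hs' => ?_
    rw [Finset.mem_filter, Finset.mem_powerset] at hs'
    unfold nExact
    congr 1
    ext c
    simp only [Finset.mem_filter, mem_blocks]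
    constructor
    · rintro ⟨⟨h1, -⟩, h2⟩
      exact ⟨h1, h2⟩
    · rintro ⟨h1, h2⟩
      exact ⟨⟨h1, hs'.2.trans (h2 ▸ Finset.inter_subset_right)⟩, h2⟩
  · intro c hc
    rw [Finset.mem_coe, Finset.mem_filter] at hc
    rw [Finset.mem_coe, Finset.mem_filter, Finset.mem_powerset]
    exact ⟨Finset.inter_subset_left, Finset.subset_inter hsb hc.2⟩

/-- The refinement equation. -/
theorem refine_eqn (b s : Finset α) (hsb : s ⊆ b) (N : ℕ → ℕ)
    (hN : ∀ s' : Finset α, s ⊆ s' → s' ⊆ b → s' ≠ s → nExact B b s' = N s'.card) :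
    ((blocks B).filter (fun c => s ⊆ c)).card
      = nExact B b s + ∑ j ∈ Finset.range (b.card + 1),
          (if j ≤ s.card then 0 else Nat.choose (b.card - s.card) (j - s.card)) * N j := by
  classical
  rw [through_eq_sum_nExact b s hsb]
  have hs : s ∈ b.powerset.filter (fun s' => s ⊆ s') := by
    rw [Finset.mem_filter, Finset.mem_powerset]; exact ⟨hsb, subset_refl _⟩
  rw [← Finset.add_sum_erase _ _ hs]
  congr 1
  have h1 : ∑ s' ∈ (b.powerset.filter (fun s' => s ⊆ s')).erase s, nExact B b s'
      = ∑ s' ∈ (b.powerset.filter (fun s' => s ⊆ s')).erase s, N s'.card := by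
    refine Finset.sum_congr rfl fun s' hs' => ?_
    rw [Finset.mem_erase, Finset.mem_filter, Finset.mem_powerset] at hs'
    exact hN s' hs'.2.2 hs'.2.1 hs'.1
  rw [h1]
  refine (sum_fiberwise_card _ (fun s' : Finset α => s'.card) N b.card ?_).trans ?_
  rotate_left
  · refine Finset.sum_congr rfl fun j _ => ?_
    congr 1
    split_ifs with hj
    · rw [Finset.card_eq_zero, Finset.filter_eq_empty_iff]
      intro s' hs' hcard
      rw [Finset.mem_erase, Finset.mem_filter, Finset.mem_powerset] at hs'
      have hle := Finset.card_le_card hs'.2.2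
      exact hs'.1 (Finset.eq_of_subset_of_card_le hs'.2.2 (by omega)).symm
    · rw [← card_between s b hsb j (by omega)]
      congr 1
      ext s'
      simp only [Finset.mem_filter, Finset.mem_erase, Finset.mem_powerset]
      constructor
      · rintro ⟨⟨-, h2, h3⟩, h4⟩
        exact ⟨h2, h3, h4⟩
      · rintro ⟨h2, h3, h4⟩
        refine ⟨⟨?_, h2, h3⟩, h4⟩
        rintro rfl
        omega
  · intro s' hs'
    rw [Finset.mem_erase, Finset.mem_filter, Finset.mem_powerset] at hs'
    exact Finset.card_le_card hs'.2.1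


variable {t k : ℕ}

theorem nExact_eq_zero (hB : Cfsg.IsSteinerSystem t k B) {b : Finset α} (hb : b ∈ B)
    (s : Finset α) (hts : t ≤ s.card) (hsk : s.card ≠ k) : nExact B b s = 0 := by
  unfold nExact
  rw [Finset.card_eq_zero, Finset.filter_eq_empty_iff]
  intro c hc hcs
  rw [mem_blocks] at hc
  have := eq_of_le_card_inter hB hb hc (by rw [hcs]; exact hts)
  subst this
  rw [Finset.inter_self] at hcs
  rw [← hcs, hB.1 b hb] at hsk
  exact hsk rfl

theorem nExact_self (hB : Cfsg.IsSteinerSystem t k B) {b : Finset α} (hb : b ∈ B)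
    (htk : t ≤ k) : nExact B b b = 1 := by
  unfold nExact
  rw [Finset.card_eq_one]
  refine ⟨b, ?_⟩
  ext c
  rw [Finset.mem_filter, mem_blocks, Finset.mem_singleton]
  constructor
  · rintro ⟨hc, hcb⟩
    exact (eq_of_le_card_inter hB hb hc (by rw [hcb, hB.1 b hb]; exact htk)).symm
  · rintro rfl
    exact ⟨hb, Finset.inter_self _⟩

theorem exact_5_6_12 (hα : Fintype.card α = 12) (hB : Cfsg.IsSteinerSystem 5 6 B)
    {b : Finset α} (hb : b ∈ B) (s : Finset α) (hsb : s ⊆ b) :
    (s.card = 2 → nExact B b s = 3) ∧ (s.card = 3 → nExact B b s = 2) ∧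
      (s.card = 4 → nExact B b s = 3) := by
  have hbc : b.card = 6 := hB.1 b hb
  have h6 : ∀ s' : Finset α, s' ⊆ b → s'.card = 6 → nExact B b s' = 1 := by
    intro s' hs' hc
    have : s' = b := Finset.eq_of_subset_of_card_le hs' (by omega)
    rw [this]; exact nExact_self hB hb (by omega)
  have h5 : ∀ s' : Finset α, s' ⊆ b → s'.card = 5 → nExact B b s' = 0 := by
    intro s' _ hc
    exact nExact_eq_zero hB hb s' (by omega) (by omega)
  have h4 : ∀ s' : Finset α, s' ⊆ b → s'.card = 4 → nExact B b s' = 3 := by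
    intro s hsb hs
    have e := refine_eqn (B := B) b s hsb (fun j => if j = 6 then 1 else 0) ?_
    · rw [lam_eq hB 4 4 (by omega) (by rw [hα]; decide) (by decide) s hs, hbc, hs] at e
      simp [Finset.sum_range_succ, Nat.choose] at e
      omega
    · intro s' hss' hs'b hne
      have h1 : s.card < s'.card := Finset.card_lt_card (lt_of_le_of_ne hss' (Ne.symm hne))
      have h2 : s'.card ≤ 6 := hbc ▸ Finset.card_le_card hs'b
      obtain ⟨j, hj⟩ : ∃ j, j = s'.card := ⟨_, rfl⟩
      rw [← hj] at h1 h2 ⊢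
      rw [hs] at h1
      interval_cases j
      · simpa using h5 s' hs'b hj.symm
      · simpa using h6 s' hs'b hj.symm
  have h3 : ∀ s' : Finset α, s' ⊆ b → s'.card = 3 → nExact B b s' = 2 := by
    intro s hsb hs
    have e := refine_eqn (B := B) b s hsb (fun j => if j = 6 then 1 else if j = 4 then 3 else 0) ?_
    · rw [lam_eq hB 3 12 (by omega) (by rw [hα]; decide) (by decide) s hs, hbc, hs] at e
      simp [Finset.sum_range_succ, Nat.choose] at e
      omega
    · intro s' hss' hs'b hne
      have h1 : s.card < s'.card := Finset.card_lt_card (lt_of_le_of_ne hss' (Ne.symm hne))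
      have h2 : s'.card ≤ 6 := hbc ▸ Finset.card_le_card hs'b
      obtain ⟨j, hj⟩ : ∃ j, j = s'.card := ⟨_, rfl⟩
      rw [← hj] at h1 h2 ⊢
      rw [hs] at h1
      interval_cases j
      · simpa using h4 s' hs'b hj.symm
      · simpa using h5 s' hs'b hj.symm
      · simpa using h6 s' hs'b hj.symm
  have h2 : ∀ s' : Finset α, s' ⊆ b → s'.card = 2 → nExact B b s' = 3 := by
    intro s hsb hs
    have e := refine_eqn (B := B) b s hsb
      (fun j => if j = 6 then 1 else if j = 4 then 3 else if j = 3 then 2 else 0) ?_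
    · rw [lam_eq hB 2 30 (by omega) (by rw [hα]; decide) (by decide) s hs, hbc, hs] at e
      simp [Finset.sum_range_succ, Nat.choose] at e
      omega
    · intro s' hss' hs'b hne
      have h1 : s.card < s'.card := Finset.card_lt_card (lt_of_le_of_ne hss' (Ne.symm hne))
      have h2 : s'.card ≤ 6 := hbc ▸ Finset.card_le_card hs'b
      obtain ⟨j, hj⟩ : ∃ j, j = s'.card := ⟨_, rfl⟩
      rw [← hj] at h1 h2 ⊢
      rw [hs] at h1
      interval_cases j
      · simpa using h3 s' hs'b hj.symm
      · simpa using h4 s' hs'b hj.symm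
      · simpa using h5 s' hs'b hj.symm
      · simpa using h6 s' hs'b hj.symm
  exact ⟨h2 s hsb, h3 s hsb, h4 s hsb⟩

theorem inter_5_6_12 (hα : Fintype.card α = 12) (hB : Cfsg.IsSteinerSystem 5 6 B)
    {b c : Finset α} (hb : b ∈ B) (hc : c ∈ B) (hbc : c ≠ b) :
    (b ∩ c).card = 0 ∨ (b ∩ c).card = 2 ∨ (b ∩ c).card = 3 ∨ (b ∩ c).card = 4 := by
  obtain ⟨h0, h1, h2, h3, h4⟩ := numbers_5_6_12 hα hB hb
  have hpos := y_pos (B := B) (b := b) hc
  have hlt : (c ∩ b).card < 5 := by
    by_contra hcon
    exact hbc (eq_of_le_card_inter hB hc hb (by omega))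
  rw [Finset.inter_comm b c]
  obtain ⟨j, hj⟩ : ∃ j, j = (c ∩ b).card := ⟨_, rfl⟩
  rw [← hj] at hpos hlt ⊢
  interval_cases j <;> simp_all


theorem exact_5_8_24 (hα : Fintype.card α = 24) (hB : Cfsg.IsSteinerSystem 5 8 B)
    {b : Finset α} (hb : b ∈ B) (s : Finset α) (hsb : s ⊆ b) :
    (s.card = 2 → nExact B b s = 16) ∧ (s.card = 3 → nExact B b s = 0) ∧
      (s.card = 4 → nExact B b s = 4) := by
  have hbc : b.card = 8 := hB.1 b hb
  have h8 : ∀ s' : Finset α, s' ⊆ b → s'.card = 8 → nExact B b s' = 1 := by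
    intro s' hs' hc
    have : s' = b := Finset.eq_of_subset_of_card_le hs' (by omega)
    rw [this]; exact nExact_self hB hb (by omega)
  have h5 : ∀ s' : Finset α, s' ⊆ b → s'.card = 5 → nExact B b s' = 0 := by
    intro s' _ hc
    exact nExact_eq_zero hB hb s' (by omega) (by omega)
  have h6 : ∀ s' : Finset α, s' ⊆ b → s'.card = 6 → nExact B b s' = 0 := by
    intro s' _ hc
    exact nExact_eq_zero hB hb s' (by omega) (by omega)
  have h7 : ∀ s' : Finset α, s' ⊆ b → s'.card = 7 → nExact B b s' = 0 := by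
    intro s' _ hc
    exact nExact_eq_zero hB hb s' (by omega) (by omega)
  have h4 : ∀ s' : Finset α, s' ⊆ b → s'.card = 4 → nExact B b s' = 4 := by
    intro s hsb hs
    have e := refine_eqn (B := B) b s hsb (fun j => if j = 8 then 1 else 0) ?_
    · rw [lam_eq hB 4 5 (by omega) (by rw [hα]; decide) (by decide) s hs, hbc, hs] at e
      simp [Finset.sum_range_succ, Nat.choose] at e
      omega
    · intro s' hss' hs'b hne
      have h1 : s.card < s'.card := Finset.card_lt_card (lt_of_le_of_ne hss' (Ne.symm hne))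
      have h2 : s'.card ≤ 8 := hbc ▸ Finset.card_le_card hs'b
      obtain ⟨j, hj⟩ : ∃ j, j = s'.card := ⟨_, rfl⟩
      rw [← hj] at h1 h2 ⊢
      rw [hs] at h1
      interval_cases j
      · simpa using h5 s' hs'b hj.symm
      · simpa using h6 s' hs'b hj.symm
      · simpa using h7 s' hs'b hj.symm
      · simpa using h8 s' hs'b hj.symm
  have h3 : ∀ s' : Finset α, s' ⊆ b → s'.card = 3 → nExact B b s' = 0 := by
    intro s hsb hs
    have e := refine_eqn (B := B) b s hsb (fun j => if j = 8 then 1 else if j = 4 then 4 else 0) ?_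
    · rw [lam_eq hB 3 21 (by omega) (by rw [hα]; decide) (by decide) s hs, hbc, hs] at e
      simp [Finset.sum_range_succ, Nat.choose] at e
      omega
    · intro s' hss' hs'b hne
      have h1 : s.card < s'.card := Finset.card_lt_card (lt_of_le_of_ne hss' (Ne.symm hne))
      have h2 : s'.card ≤ 8 := hbc ▸ Finset.card_le_card hs'b
      obtain ⟨j, hj⟩ : ∃ j, j = s'.card := ⟨_, rfl⟩
      rw [← hj] at h1 h2 ⊢
      rw [hs] at h1
      interval_cases j
      · simpa using h4 s' hs'b hj.symm
      · simpa using h5 s' hs'b hj.symm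
      · simpa using h6 s' hs'b hj.symm
      · simpa using h7 s' hs'b hj.symm
      · simpa using h8 s' hs'b hj.symm
  have h2 : ∀ s' : Finset α, s' ⊆ b → s'.card = 2 → nExact B b s' = 16 := by
    intro s hsb hs
    have e := refine_eqn (B := B) b s hsb
      (fun j => if j = 8 then 1 else if j = 4 then 4 else 0) ?_
    · rw [lam_eq hB 2 77 (by omega) (by rw [hα]; decide) (by decide) s hs, hbc, hs] at e
      simp [Finset.sum_range_succ, Nat.choose] at e
      omega
    · intro s' hss' hs'b hne
      have h1 : s.card < s'.card := Finset.card_lt_card (lt_of_le_of_ne hss' (Ne.symm hne))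
      have h2 : s'.card ≤ 8 := hbc ▸ Finset.card_le_card hs'b
      obtain ⟨j, hj⟩ : ∃ j, j = s'.card := ⟨_, rfl⟩
      rw [← hj] at h1 h2 ⊢
      rw [hs] at h1
      interval_cases j
      · simpa using h3 s' hs'b hj.symm
      · simpa using h4 s' hs'b hj.symm
      · simpa using h5 s' hs'b hj.symm
      · simpa using h6 s' hs'b hj.symm
      · simpa using h7 s' hs'b hj.symm
      · simpa using h8 s' hs'b hj.symm
  exact ⟨h2 s hsb, h3 s hsb, h4 s hsb⟩

end Cfsg.Agent.Lead.Steiner
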