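import Mathlib
import Cfsg.Agent.Lead.SteinerNumbers

set_option autoImplicit false

namespace Cfsg.Agent.Lead.Steiner

open Finset

variable {α : Type*} [Fintype α] [DecidableEq α] {B : Set (Finset α)}

/-- In S(3,6,22): a block other than `v`, `w` meets `v ∪ w` in 0, 2, 3 or 4 points. -/
theorem union_inter_3_6_22 (hα : Fintype.card α = 22) (hB : Cfsg.IsSteinerSystem 3 6 B)
    {v w d : Finset α} (hv : v ∈ B) (hw : w ∈ B) (hd : d ∈ B) (hdv : d ≠ v) (hdw : d ≠ w) :
    (d ∩ (v ∪ w)).card ≤ 4 ∧ (d ∩ (v ∪ w)).card ≠ 1 ∧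
      (Disjoint v w → (d ∩ (v ∪ w)).card ≠ 3) := by
  have h1 := inter_3_6_22 hα hB hd hv hdv
  have h2 := inter_3_6_22 hα hB hd hw hdw
  have h3 : d ∩ (v ∪ w) = (d ∩ v) ∪ (d ∩ w) := Finset.inter_union_distrib_left _ _ _
  have h4 : (d ∩ (v ∪ w)).card ≤ (d ∩ v).card + (d ∩ w).card := by
    rw [h3]; exact Finset.card_union_le _ _
  have h5 : (d ∩ v).card ≤ (d ∩ (v ∪ w)).card := by
    rw [h3]; exact Finset.card_le_card Finset.subset_union_left
  have h6 : (d ∩ w).card ≤ (d ∩ (v ∪ w)).card := by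
    rw [h3]; exact Finset.card_le_card Finset.subset_union_right
  refine ⟨by omega, by omega, ?_⟩
  intro hdis
  have : (d ∩ (v ∪ w)).card = (d ∩ v).card + (d ∩ w).card := by
    rw [h3, Finset.card_union_of_disjoint]
    exact Finset.disjoint_of_subset_left Finset.inter_subset_right
      (Finset.disjoint_of_subset_right Finset.inter_subset_right hdis)
  omega

theorem y_eq_zero_of_forall {Y : Finset α} {j : ℕ} (h : ∀ d ∈ B, (d ∩ Y).card ≠ j) :
    y B Y j = 0 := by
  unfold y
  rw [Finset.card_eq_zero, Finset.filter_eq_empty_iff]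
  intro d hd
  exact h d (mem_blocks.1 hd)

theorem y_union_3_6_22 (hα : Fintype.card α = 22) (hB : Cfsg.IsSteinerSystem 3 6 B)
    {v w : Finset α} (hv : v ∈ B) (hw : w ∈ B) (hvw : v ≠ w) :
    y B (v ∪ w) 1 = 0 ∧ y B (v ∪ w) 5 = 0 ∧ y B (v ∪ w) 6 = 2 ∧
      (∀ j, 7 ≤ j → y B (v ∪ w) j = 0) ∧ (Disjoint v w → y B (v ∪ w) 3 = 0) := by
  have hvc : (v ∩ (v ∪ w)).card = 6 := by
    rw [Finset.inter_eq_left.2 Finset.subset_union_left]; exact hB.1 v hv
  have hwc : (w ∩ (v ∪ w)).card = 6 := by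
    rw [Finset.inter_eq_left.2 Finset.subset_union_right]; exact hB.1 w hw
  have key : ∀ d ∈ B, d = v ∨ d = w ∨ ((d ∩ (v ∪ w)).card ≤ 4 ∧ (d ∩ (v ∪ w)).card ≠ 1 ∧
      (Disjoint v w → (d ∩ (v ∪ w)).card ≠ 3)) := by
    intro d hd
    by_cases hdv : d = v
    · exact Or.inl hdv
    by_cases hdw : d = w
    · exact Or.inr (Or.inl hdw)
    exact Or.inr (Or.inr (union_inter_3_6_22 hα hB hv hw hd hdv hdw))
  refine ⟨?_, ?_, ?_, ?_, ?_⟩
  · apply y_eq_zero_of_forall
    intro d hd
    rcases key d hd with rfl | rfl | h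
    · omega
    · omega
    · exact h.2.1
  · apply y_eq_zero_of_forall
    intro d hd
    rcases key d hd with rfl | rfl | h
    · omega
    · omega
    · omega
  · unfold y
    have : (blocks B).filter (fun c => (c ∩ (v ∪ w)).card = 6) = {v, w} := by
      ext d
      rw [Finset.mem_filter, mem_blocks, Finset.mem_insert, Finset.mem_singleton]
      constructor
      · rintro ⟨hd, hd6⟩
        rcases key d hd with rfl | rfl | h
        · exact Or.inl rfl
        · exact Or.inr rfl
        · omega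
      · rintro (rfl | rfl)
        · exact ⟨hv, hvc⟩
        · exact ⟨hw, hwc⟩
    rw [this, Finset.card_pair hvw]
  · intro j hj
    apply y_eq_zero_of_forall
    intro d hd
    rcases key d hd with rfl | rfl | h
    · omega
    · omega
    · omega
  · intro hdis
    apply y_eq_zero_of_forall
    intro d hd
    rcases key d hd with rfl | rfl | h
    · omega
    · omega
    · exact h.2.2 hdis

/-- No block is disjoint from two disjoint blocks of S(3,6,22). -/
theorem common_disjoint_3_6_22_of_disjoint (hα : Fintype.card α = 22)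
    (hB : Cfsg.IsSteinerSystem 3 6 B) {v w : Finset α} (hv : v ∈ B) (hw : w ∈ B)
    (hdis : Disjoint v w) : y B (v ∪ w) 0 = 0 := by
  have hvw : v ≠ w := by
    rintro rfl
    rw [Finset.disjoint_self_iff_empty] at hdis
    have := hB.1 v hv
    rw [hdis] at this
    simp at this
  obtain ⟨h1, h5, h6, h7, h3⟩ := y_union_3_6_22 hα hB hv hw hvw
  have h3 := h3 hdis
  have hY : (v ∪ w).card = 12 := by
    rw [Finset.card_union_of_disjoint hdis, hB.1 v hv, hB.1 w hw]
  have e0 := y_eqn (B := B) (v ∪ w) 0 77 (lam_eq hB 0 77 (by omega) (by rw [hα]; decide) (by decide))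
  have e1 := y_eqn (B := B) (v ∪ w) 1 21 (lam_eq hB 1 21 (by omega) (by rw [hα]; decide) (by decide))
  have e2 := y_eqn (B := B) (v ∪ w) 2 5 (lam_eq hB 2 5 (by omega) (by rw [hα]; decide) (by decide))
  have e3 := y_eqn (B := B) (v ∪ w) 3 1 (lam_eq hB 3 1 (by omega) (by rw [hα]; decide) (by decide))
  rw [hY] at e0 e1 e2 e3
  have h7' := h7 7 le_rfl
  have h8 := h7 8 (by omega)
  have h9 := h7 9 (by omega)
  have h10 := h7 10 (by omega)
  have h11 := h7 11 (by omega)
  have h12 := h7 12 (by omega)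
  simp only [Finset.sum_range_succ, Finset.sum_range_zero] at e0 e1 e2 e3
  norm_num [Nat.choose] at e0 e1 e2 e3
  omega

/-- Exactly four blocks are disjoint from two blocks of S(3,6,22) meeting in two points. -/
theorem common_disjoint_3_6_22_of_not_disjoint (hα : Fintype.card α = 22)
    (hB : Cfsg.IsSteinerSystem 3 6 B) {v w : Finset α} (hv : v ∈ B) (hw : w ∈ B)
    (hvw : v ≠ w) (hnd : ¬ Disjoint v w) : y B (v ∪ w) 0 = 4 := by
  obtain ⟨h1, h5, h6, h7, -⟩ := y_union_3_6_22 hα hB hv hw hvw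
  have hi : (v ∩ w).card = 2 := by
    rcases inter_3_6_22 hα hB hv hw hvw with h | h
    · exfalso
      apply hnd
      rw [Finset.disjoint_iff_inter_eq_empty]
      exact Finset.card_eq_zero.1 h
    · exact h
  have hY : (v ∪ w).card = 10 := by
    have := Finset.card_union_add_card_inter v w
    rw [hB.1 v hv, hB.1 w hw, hi] at this
    omega
  have e0 := y_eqn (B := B) (v ∪ w) 0 77 (lam_eq hB 0 77 (by omega) (by rw [hα]; decide) (by decide))
  have e1 := y_eqn (B := B) (v ∪ w) 1 21 (lam_eq hB 1 21 (by omega) (by rw [hα]; decide) (by decide))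
  have e2 := y_eqn (B := B) (v ∪ w) 2 5 (lam_eq hB 2 5 (by omega) (by rw [hα]; decide) (by decide))
  have e3 := y_eqn (B := B) (v ∪ w) 3 1 (lam_eq hB 3 1 (by omega) (by rw [hα]; decide) (by decide))
  rw [hY] at e0 e1 e2 e3
  have h7' := h7 7 le_rfl
  have h8 := h7 8 (by omega)
  have h9 := h7 9 (by omega)
  have h10 := h7 10 (by omega)
  simp only [Finset.sum_range_succ, Finset.sum_range_zero] at e0 e1 e2 e3
  norm_num [Nat.choose] at e0 e1 e2 e3
  omega


theorem disjoint_iff_y {c Y : Finset α} : Disjoint c Y ↔ (c ∩ Y).card = 0 := by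
  rw [Finset.card_eq_zero, Finset.disjoint_iff_inter_eq_empty]

theorem ne_of_disjoint_3_6_22 (hB : Cfsg.IsSteinerSystem 3 6 B) {b c : Finset α} (hb : b ∈ B)
    (h : Disjoint b c) : b ≠ c := by
  rintro rfl
  rw [Finset.disjoint_self_iff_empty] at h
  have := hB.1 b hb
  rw [h] at this
  simp at this

theorem blockGraph_adj_iff (hB : Cfsg.IsSteinerSystem 3 6 B) (b c : B) :
    (Cfsg.blockGraph B).Adj b c ↔ Disjoint (b : Finset α) (c : Finset α) := by
  unfold Cfsg.blockGraph
  rw [SimpleGraph.fromRel_adj]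
  constructor
  · rintro ⟨-, h | h⟩
    · exact h
    · exact h.symm
  · intro h
    refine ⟨?_, Or.inl h⟩
    intro hbc
    exact ne_of_disjoint_3_6_22 hB b.2 h (congrArg Subtype.val hbc)

theorem fintype_card_eq_ncard_image (s : Set B) [Fintype s] :
    Fintype.card s = (Subtype.val '' s).ncard := by
  rw [Set.ncard_image_of_injective s Subtype.val_injective, ← Nat.card_eq_fintype_card,
    _root_.Nat.card_coe_set_eq]

theorem image_neighborSet (hB : Cfsg.IsSteinerSystem 3 6 B) (v : B) :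
    Subtype.val '' ((Cfsg.blockGraph B).neighborSet v) =
      {c : Finset α | c ∈ B ∧ (c ∩ (v : Finset α)).card = 0} := by
  ext c
  simp only [Set.mem_image, SimpleGraph.mem_neighborSet, Set.mem_ofPred_eq]
  constructor
  · rintro ⟨d, hd, rfl⟩
    rw [blockGraph_adj_iff hB] at hd
    exact ⟨d.2, disjoint_iff_y.1 hd.symm⟩
  · rintro ⟨hc, h⟩
    refine ⟨⟨c, hc⟩, ?_, rfl⟩
    rw [blockGraph_adj_iff hB]
    exact (disjoint_iff_y.2 h).symm

theorem image_commonNeighbors (hB : Cfsg.IsSteinerSystem 3 6 B) (v w : B) :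
    Subtype.val '' ((Cfsg.blockGraph B).commonNeighbors v w) =
      {c : Finset α | c ∈ B ∧ (c ∩ ((v : Finset α) ∪ (w : Finset α))).card = 0} := by
  ext c
  simp only [Set.mem_image, SimpleGraph.mem_commonNeighbors, Set.mem_ofPred_eq]
  constructor
  · rintro ⟨d, ⟨hd1, hd2⟩, rfl⟩
    rw [blockGraph_adj_iff hB] at hd1 hd2
    refine ⟨d.2, disjoint_iff_y.1 ?_⟩
    rw [Finset.disjoint_union_right]
    exact ⟨hd1.symm, hd2.symm⟩
  · rintro ⟨hc, h⟩
    have h' := disjoint_iff_y.2 h
    rw [Finset.disjoint_union_right] at h'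
    refine ⟨⟨c, hc⟩, ⟨?_, ?_⟩, rfl⟩
    · rw [blockGraph_adj_iff hB]; exact h'.1.symm
    · rw [blockGraph_adj_iff hB]; exact h'.2.symm

theorem blockGraph_isSRG (hα : Fintype.card α = 22) (hB : Cfsg.IsSteinerSystem 3 6 B)
    [Fintype B] [DecidableRel (Cfsg.blockGraph B).Adj] :
    (Cfsg.blockGraph B).IsSRGWith 77 16 0 4 := by
  refine ⟨?_, ?_, ?_, ?_⟩
  · rw [← Nat.card_eq_fintype_card, _root_.Nat.card_coe_set_eq]
    have h := ncard_mul_choose hB
    rw [hα] at h
    have h2 : Nat.choose 22 3 = 77 * Nat.choose 6 3 := by decide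
    rw [h2] at h
    exact Nat.eq_of_mul_eq_mul_right (by decide) h
  · intro v
    rw [← SimpleGraph.card_neighborSet_eq_degree, fintype_card_eq_ncard_image,
      image_neighborSet hB, ncard_eq_y]
    exact (numbers_3_6_22 hα hB v.2).1
  · intro v w hvw
    rw [fintype_card_eq_ncard_image, image_commonNeighbors hB, ncard_eq_y]
    rw [blockGraph_adj_iff hB] at hvw
    exact common_disjoint_3_6_22_of_disjoint hα hB v.2 w.2 hvw
  · intro v w hvw hnadj
    rw [fintype_card_eq_ncard_image, image_commonNeighbors hB, ncard_eq_y]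
    rw [blockGraph_adj_iff hB] at hnadj
    exact common_disjoint_3_6_22_of_not_disjoint hα hB v.2 w.2
      (fun h => hvw (Subtype.ext h)) hnadj

end Cfsg.Agent.Lead.Steiner
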