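import Mathlib
import Cfsg.Agent.Lead.SteinerSRG

set_option autoImplicit false

namespace Cfsg.Agent.Lead.Steiner

open Finset

variable {α : Type*} [Fintype α] [DecidableEq α] {B : Set (Finset α)}

/-- The basic double count for an arbitrary finite family and a set `Y`. -/
theorem sum_choose_inter' (T : Finset (Finset α)) (Y : Finset α) (i lam : ℕ)
    (hlam : ∀ s : Finset α, s ⊆ Y → s.card = i → (T.filter (fun b => s ⊆ b)).card = lam) :
    ∑ c ∈ T, Nat.choose (c ∩ Y).card i = Nat.choose Y.card i * lam := by
  classical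
  have h1 := Finset.sum_card_bipartiteAbove_eq_sum_card_bipartiteBelow (s := T)
    (t := Finset.powersetCard i Y) (fun c s => s ⊆ c)
  have h2 : ∀ c ∈ T, ((Finset.powersetCard i Y).bipartiteAbove (fun c s => s ⊆ c) c).card
      = Nat.choose (c ∩ Y).card i := by
    intro c _
    rw [← Finset.card_powersetCard]
    congr 1
    ext s
    simp only [bipartiteAbove, mem_filter, mem_powersetCard, Finset.subset_inter_iff]
    tauto
  have h3 : ∀ s ∈ Finset.powersetCard i Y,
      (T.bipartiteBelow (fun c s => s ⊆ c) s).card = lam := by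
    intro s hs
    rw [Finset.mem_powersetCard] at hs
    rw [← hlam s hs.1 hs.2]
    rfl
  rw [Finset.sum_congr rfl h2, Finset.sum_congr rfl h3] at h1
  rw [h1, Finset.sum_const, smul_eq_mul, Finset.card_powersetCard]

/-- In S(3,6,22), a point off a block lies on exactly six blocks disjoint from it. -/
theorem through_disjoint_3_6_22 (hα : Fintype.card α = 22) (hB : Cfsg.IsSteinerSystem 3 6 B)
    {b : Finset α} (hb : b ∈ B) {a : α} (ha : a ∉ b) :
    ((blocks B).filter (fun c => a ∈ c ∧ Disjoint b c)).card = 6 := by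
  obtain ⟨T, hT⟩ : ∃ T : Finset (Finset α), T = (blocks B).filter (fun c => a ∈ c) := ⟨_, rfl⟩
  have hTmem : ∀ c, c ∈ T ↔ c ∈ B ∧ a ∈ c := by
    intro c; rw [hT, Finset.mem_filter, mem_blocks]
  have hbc : b.card = 6 := hB.1 b hb
  -- |T| = 21
  have hTcard : T.card = 21 := by
    have := lam_eq hB 1 21 (by omega) (by rw [hα]; decide) (by decide) {a} (Finset.card_singleton a)
    rw [← this, hT]
    congr 1
    ext c
    simp
  have e0 := sum_choose_inter' T b 0 21 (by
    intro s _ hs
    rw [Finset.card_eq_zero] at hs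
    subst hs
    simpa using hTcard)
  have e2 := sum_choose_inter' T b 2 1 (by
    intro s hsb hs
    have has : a ∉ s := fun h => ha (hsb h)
    have h3 : (insert a s).card = 3 := by rw [Finset.card_insert_of_notMem has, hs]
    have := lam_eq hB 3 1 (by omega) (by rw [hα]; decide) (by decide) (insert a s) h3
    rw [← this, hT, Finset.filter_filter]
    congr 1
    ext c
    simp only [Finset.mem_filter, mem_blocks, Finset.insert_subset_iff])
  -- each |c ∩ b| is 0 or 2
  have h02 : ∀ c ∈ T, (c ∩ b).card = 0 ∨ (c ∩ b).card = 2 := by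
    intro c hc
    rw [hTmem] at hc
    have hne : c ≠ b := by rintro rfl; exact ha hc.2
    exact inter_3_6_22 hα hB hc.1 hb hne
  have e2' : ∑ c ∈ T, Nat.choose (c ∩ b).card 2 = (T.filter (fun c => (c ∩ b).card = 2)).card := by
    rw [Finset.card_filter]
    refine Finset.sum_congr rfl fun c hc => ?_
    rcases h02 c hc with h | h <;> simp [h]
  have hsplit : (T.filter (fun c => (c ∩ b).card = 2)).card +
      (T.filter (fun c => ¬ (c ∩ b).card = 2)).card = T.card :=
    Finset.card_filter_add_card_filter_not (s := T) (fun c => (c ∩ b).card = 2)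
  have hfinal : (blocks B).filter (fun c => a ∈ c ∧ Disjoint b c) =
      T.filter (fun c => ¬ (c ∩ b).card = 2) := by
    ext c
    rw [Finset.mem_filter, Finset.mem_filter, hTmem, mem_blocks]
    constructor
    · rintro ⟨hc, hac, hdis⟩
      refine ⟨⟨hc, hac⟩, ?_⟩
      rw [disjoint_iff_y.1 hdis.symm]
      omega
    · rintro ⟨⟨hc, hac⟩, hn⟩
      refine ⟨hc, hac, ?_⟩
      rcases h02 c ((hTmem c).2 ⟨hc, hac⟩) with h | h
      · exact (disjoint_iff_y.2 h).symm
      · exact absurd h hn
  rw [hfinal]
  rw [hbc] at e0 e2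
  norm_num [Nat.choose] at e0 e2
  omega

end Cfsg.Agent.Lead.Steiner
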