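import Mathlib
import Cfsg.Agent.Lead.SteinerSRG2

set_option autoImplicit false

namespace Cfsg.Agent.Lead.Steiner

open Finset

variable {α : Type*} [Fintype α] [DecidableEq α] {B : Set (Finset α)}

/-- decomposition of the cardinality of a set of vertices of the point-block graph. -/
theorem ncard_option_sum (S : Set (Option (α ⊕ B))) [Finite B] [Decidable (none ∈ S)] :
    S.ncard = (if none ∈ S then 1 else 0) + {a : α | some (Sum.inl a) ∈ S}.ncard +
      {b : B | some (Sum.inr b) ∈ S}.ncard := by
  classical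
  have : Fintype B := Fintype.ofFinite B
  rw [Set.ncard_eq_toFinset_card', Set.ncard_eq_toFinset_card', Set.ncard_eq_toFinset_card']
  rw [Finset.card_eq_sum_ones, Finset.card_eq_sum_ones, Finset.card_eq_sum_ones]
  simp only [Set.toFinset_ofPred]
  rw [Finset.sum_filter, Finset.sum_filter]
  have : S.toFinset = Finset.univ.filter (· ∈ S) := by ext; simp
  rw [this, Finset.sum_filter, Fintype.sum_option, Fintype.sum_sum_type]
  have h : ∀ (d1 d2 : Decidable (none ∈ S)), (@ite ℕ (none ∈ S) d1 1 0) = (@ite ℕ (none ∈ S) d2 1 0) := by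
    intro d1 d2
    congr
  rw [h _ (Classical.propDecidable _)]
  ring

theorem adj_iff (x y : Option (α ⊕ B)) :
    (Cfsg.pointBlockGraph B).Adj x y ↔
      x ≠ y ∧ (Cfsg.pointBlockRel B x y ∨ Cfsg.pointBlockRel B y x) := by
  unfold Cfsg.pointBlockGraph
  rw [SimpleGraph.fromRel_adj]


@[simp] theorem adj_none_none : ¬ (Cfsg.pointBlockGraph B).Adj none none := by
  rw [adj_iff]; simp

@[simp] theorem adj_none_inl (a : α) : (Cfsg.pointBlockGraph B).Adj none (some (Sum.inl a)) := by
  rw [adj_iff]; simp [Cfsg.pointBlockRel]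

@[simp] theorem adj_inl_none (a : α) : (Cfsg.pointBlockGraph B).Adj (some (Sum.inl a)) none := by
  rw [adj_iff]; simp [Cfsg.pointBlockRel]

@[simp] theorem adj_none_inr (b : B) : ¬ (Cfsg.pointBlockGraph B).Adj none (some (Sum.inr b)) := by
  rw [adj_iff]; simp [Cfsg.pointBlockRel]

@[simp] theorem adj_inr_none (b : B) : ¬ (Cfsg.pointBlockGraph B).Adj (some (Sum.inr b)) none := by
  rw [adj_iff]; simp [Cfsg.pointBlockRel]

@[simp] theorem adj_inl_inl (a a' : α) :
    ¬ (Cfsg.pointBlockGraph B).Adj (some (Sum.inl a)) (some (Sum.inl a')) := by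
  rw [adj_iff]; simp [Cfsg.pointBlockRel]

@[simp] theorem adj_inl_inr (a : α) (b : B) :
    (Cfsg.pointBlockGraph B).Adj (some (Sum.inl a)) (some (Sum.inr b)) ↔ a ∈ (b : Finset α) := by
  rw [adj_iff]; simp [Cfsg.pointBlockRel]

@[simp] theorem adj_inr_inl (a : α) (b : B) :
    (Cfsg.pointBlockGraph B).Adj (some (Sum.inr b)) (some (Sum.inl a)) ↔ a ∈ (b : Finset α) := by
  rw [adj_iff]; simp [Cfsg.pointBlockRel]

theorem adj_inr_inr (hB : Cfsg.IsSteinerSystem 3 6 B) (b c : B) :
    (Cfsg.pointBlockGraph B).Adj (some (Sum.inr b)) (some (Sum.inr c)) ↔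
      Disjoint (b : Finset α) (c : Finset α) := by
  rw [adj_iff]
  simp only [Cfsg.pointBlockRel, ne_eq, Option.some.injEq, Sum.inr.injEq]
  constructor
  · rintro ⟨-, h | h⟩
    · exact h
    · exact h.symm
  · intro h
    refine ⟨?_, Or.inl h⟩
    intro hbc
    exact ne_of_disjoint_3_6_22 hB b.2 h (congrArg Subtype.val hbc)

theorem ncard_subtype (P : Finset α → Prop) [DecidablePred P] :
    {b : B | P (b : Finset α)}.ncard = ((blocks B).filter P).card := by
  rw [← Set.ncard_image_of_injective _ Subtype.val_injective, ← ncard_filter_eq]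
  congr 1
  ext c
  simp only [Set.mem_image, Set.mem_ofPred_eq]
  constructor
  · rintro ⟨d, hd, rfl⟩
    exact ⟨d.2, hd⟩
  · rintro ⟨hc, h⟩
    exact ⟨⟨c, hc⟩, h, rfl⟩


theorem ncard_3_6_22 (hα : Fintype.card α = 22) (hB : Cfsg.IsSteinerSystem 3 6 B) :
    B.ncard = 77 := by
  have h := ncard_mul_choose hB
  rw [hα] at h
  have h2 : Nat.choose 22 3 = 77 * Nat.choose 6 3 := by decide
  rw [h2] at h
  exact Nat.eq_of_mul_eq_mul_right (by decide) h

theorem filter_disjoint_eq_y (b c : Finset α) :
    ((blocks B).filter (fun d => Disjoint b d ∧ Disjoint c d)).card = y B (b ∪ c) 0 := by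
  unfold y
  congr 1
  apply Finset.filter_congr
  intro d _
  rw [← disjoint_iff_y, Finset.disjoint_union_right, disjoint_comm, @disjoint_comm _ _ _ c d]

theorem filter_disjoint_eq_y' (b : Finset α) :
    ((blocks B).filter (fun d => Disjoint b d)).card = y B b 0 := by
  unfold y
  congr 1
  apply Finset.filter_congr
  intro d _
  rw [← disjoint_iff_y, disjoint_comm]

section graph

variable [Finite B]

open Classical in
theorem ncard_neighborSet (x : Option (α ⊕ B)) :
    ((Cfsg.pointBlockGraph B).neighborSet x).ncard =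
      (if (Cfsg.pointBlockGraph B).Adj x none then 1 else 0) +
        {a : α | (Cfsg.pointBlockGraph B).Adj x (some (Sum.inl a))}.ncard +
        {b : B | (Cfsg.pointBlockGraph B).Adj x (some (Sum.inr b))}.ncard := by
  classical
  rw [ncard_option_sum]
  simp only [SimpleGraph.mem_neighborSet]

open Classical in
theorem ncard_commonNeighbors (x y : Option (α ⊕ B)) :
    ((Cfsg.pointBlockGraph B).commonNeighbors x y).ncard =
      (if (Cfsg.pointBlockGraph B).Adj x none ∧ (Cfsg.pointBlockGraph B).Adj y none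
        then 1 else 0) +
        {a : α | (Cfsg.pointBlockGraph B).Adj x (some (Sum.inl a)) ∧
          (Cfsg.pointBlockGraph B).Adj y (some (Sum.inl a))}.ncard +
        {b : B | (Cfsg.pointBlockGraph B).Adj x (some (Sum.inr b)) ∧
          (Cfsg.pointBlockGraph B).Adj y (some (Sum.inr b))}.ncard := by
  classical
  rw [ncard_option_sum]
  simp only [SimpleGraph.mem_commonNeighbors]

theorem deg_none (hα : Fintype.card α = 22) :
    ((Cfsg.pointBlockGraph B).neighborSet none).ncard = 22 := by
  classical
  rw [ncard_neighborSet]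
  simp [Set.ncard_univ, hα]

theorem deg_inl (hα : Fintype.card α = 22) (hB : Cfsg.IsSteinerSystem 3 6 B) (a : α) :
    ((Cfsg.pointBlockGraph B).neighborSet (some (Sum.inl a))).ncard = 22 := by
  classical
  rw [ncard_neighborSet]
  simp only [adj_inl_none, adj_inl_inl, adj_inl_inr, if_true]
  rw [ncard_subtype (fun b => a ∈ b)]
  have := lam_eq hB 1 21 (by omega) (by rw [hα]; decide) (by decide) {a} (Finset.card_singleton a)
  simp only [Finset.singleton_subset_iff] at this
  rw [this]
  simp

theorem deg_inr (hα : Fintype.card α = 22) (hB : Cfsg.IsSteinerSystem 3 6 B) (b : B) :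
    ((Cfsg.pointBlockGraph B).neighborSet (some (Sum.inr b))).ncard = 22 := by
  classical
  rw [ncard_neighborSet]
  simp only [adj_inr_none, adj_inr_inl, adj_inr_inr hB, if_false]
  rw [ncard_subtype (fun c => Disjoint (b : Finset α) c), filter_disjoint_eq_y',
    (numbers_3_6_22 hα hB b.2).1]
  have : {a : α | a ∈ (b : Finset α)} = ((b : Finset α) : Set α) := rfl
  rw [this, Set.ncard_coe_finset, hB.1 b b.2]

theorem cn_none_inl (a : α) :
    ((Cfsg.pointBlockGraph B).commonNeighbors none (some (Sum.inl a))).ncard = 0 := by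
  classical
  rw [ncard_commonNeighbors]
  simp

theorem cn_inl_inr_mem (hB : Cfsg.IsSteinerSystem 3 6 B) (a : α) (b : B)
    (hab : a ∈ (b : Finset α)) :
    ((Cfsg.pointBlockGraph B).commonNeighbors (some (Sum.inl a)) (some (Sum.inr b))).ncard = 0 := by
  classical
  rw [ncard_commonNeighbors]
  simp only [adj_inl_none, adj_inr_none, adj_inl_inl, adj_inl_inr, adj_inr_inr hB, and_false,
    false_and, if_false, Set.setOf_false, Set.ncard_empty, zero_add]
  rw [Set.ncard_eq_zero]
  ext c
  simp only [Set.mem_ofPred_eq, Set.mem_empty_iff_false, iff_false, not_and]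
  intro hac hdis
  exact (Finset.disjoint_left.1 hdis hab) hac

theorem cn_inr_inr_disjoint (hα : Fintype.card α = 22) (hB : Cfsg.IsSteinerSystem 3 6 B)
    (b c : B) (hbc : Disjoint (b : Finset α) (c : Finset α)) :
    ((Cfsg.pointBlockGraph B).commonNeighbors (some (Sum.inr b)) (some (Sum.inr c))).ncard = 0 := by
  classical
  rw [ncard_commonNeighbors]
  simp only [adj_inr_none, adj_inr_inl, adj_inr_inr hB, and_false, if_false, zero_add]
  rw [ncard_subtype (fun d => Disjoint (b : Finset α) d ∧ Disjoint (c : Finset α) d),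
    filter_disjoint_eq_y, common_disjoint_3_6_22_of_disjoint hα hB b.2 c.2 hbc]
  have : {a : α | a ∈ (b : Finset α) ∧ a ∈ (c : Finset α)} =
      (((b : Finset α) ∩ (c : Finset α) : Finset α) : Set α) := by
    ext; simp
  rw [this, Set.ncard_coe_finset, Finset.disjoint_iff_inter_eq_empty.1 hbc]
  rfl

theorem cn_none_inr (hB : Cfsg.IsSteinerSystem 3 6 B) (b : B) :
    ((Cfsg.pointBlockGraph B).commonNeighbors none (some (Sum.inr b))).ncard = 6 := by
  classical
  rw [ncard_commonNeighbors]
  simp only [adj_none_none, adj_none_inl, adj_none_inr, adj_inr_inl, false_and, true_and,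
    if_false, Set.setOf_false, Set.ncard_empty, zero_add, add_zero]
  have : {a : α | a ∈ (b : Finset α)} = ((b : Finset α) : Set α) := rfl
  rw [this, Set.ncard_coe_finset, hB.1 b b.2]

theorem cn_inl_inl (hα : Fintype.card α = 22) (hB : Cfsg.IsSteinerSystem 3 6 B) (a a' : α)
    (haa : a ≠ a') :
    ((Cfsg.pointBlockGraph B).commonNeighbors (some (Sum.inl a)) (some (Sum.inl a'))).ncard = 6 := by
  classical
  rw [ncard_commonNeighbors]
  simp only [adj_inl_none, adj_inl_inl, adj_inl_inr, and_self, if_true, Set.setOf_false,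
    Set.ncard_empty, add_zero]
  rw [ncard_subtype (fun b => a ∈ b ∧ a' ∈ b)]
  have := lam_eq hB 2 5 (by omega) (by rw [hα]; decide) (by decide) {a, a'} (Finset.card_pair haa)
  simp only [Finset.insert_subset_iff, Finset.singleton_subset_iff] at this
  rw [this]

theorem cn_inl_inr_not_mem (hα : Fintype.card α = 22) (hB : Cfsg.IsSteinerSystem 3 6 B) (a : α)
    (b : B) (hab : a ∉ (b : Finset α)) :
    ((Cfsg.pointBlockGraph B).commonNeighbors (some (Sum.inl a)) (some (Sum.inr b))).ncard = 6 := by
  classical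
  rw [ncard_commonNeighbors]
  simp only [adj_inl_none, adj_inr_none, adj_inl_inl, adj_inl_inr, adj_inr_inr hB, and_false,
    false_and, if_false, Set.setOf_false, Set.ncard_empty, zero_add]
  rw [ncard_subtype (fun c => a ∈ c ∧ Disjoint (b : Finset α) c)]
  exact through_disjoint_3_6_22 hα hB b.2 hab

theorem cn_inr_inr_not_disjoint (hα : Fintype.card α = 22) (hB : Cfsg.IsSteinerSystem 3 6 B)
    (b c : B) (hne : b ≠ c) (hbc : ¬ Disjoint (b : Finset α) (c : Finset α)) :
    ((Cfsg.pointBlockGraph B).commonNeighbors (some (Sum.inr b)) (some (Sum.inr c))).ncard = 6 := by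
  classical
  have hne' : (b : Finset α) ≠ (c : Finset α) := fun h => hne (Subtype.ext h)
  rw [ncard_commonNeighbors]
  simp only [adj_inr_none, adj_inr_inl, adj_inr_inr hB, and_false, if_false, zero_add]
  rw [ncard_subtype (fun d => Disjoint (b : Finset α) d ∧ Disjoint (c : Finset α) d),
    filter_disjoint_eq_y, common_disjoint_3_6_22_of_not_disjoint hα hB b.2 c.2 hne' hbc]
  have : {a : α | a ∈ (b : Finset α) ∧ a ∈ (c : Finset α)} =
      (((b : Finset α) ∩ (c : Finset α) : Finset α) : Set α) := by
    ext; simp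
  rw [this, Set.ncard_coe_finset]
  rcases inter_3_6_22 hα hB b.2 c.2 hne' with h | h
  · exfalso
    apply hbc
    rw [Finset.disjoint_iff_inter_eq_empty]
    exact Finset.card_eq_zero.1 h
  · rw [h]

end graph

theorem pointBlockGraph_isSRG (hα : Fintype.card α = 22) (hB : Cfsg.IsSteinerSystem 3 6 B)
    [Fintype B] [DecidableRel (Cfsg.pointBlockGraph B).Adj] :
    (Cfsg.pointBlockGraph B).IsSRGWith 100 22 0 6 := by
  have hcard : ∀ (S : Set (Option (α ⊕ B))) [Fintype S], Fintype.card S = S.ncard := fun S _ => by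
    rw [← Nat.card_eq_fintype_card, _root_.Nat.card_coe_set_eq]
  have hsymm : ∀ x y : Option (α ⊕ B), ((Cfsg.pointBlockGraph B).commonNeighbors x y).ncard =
      ((Cfsg.pointBlockGraph B).commonNeighbors y x).ncard := fun x y => by
    rw [SimpleGraph.commonNeighbors_symm]
  refine ⟨?_, ?_, ?_, ?_⟩
  · rw [Fintype.card_option, Fintype.card_sum, hα, ← Nat.card_eq_fintype_card,
      _root_.Nat.card_coe_set_eq, ncard_3_6_22 hα hB]
  · intro v
    rw [← SimpleGraph.card_neighborSet_eq_degree, hcard]
    rcases v with _ | a | b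
    · exact deg_none hα
    · exact deg_inl hα hB a
    · exact deg_inr hα hB b
  · intro v w hvw
    rw [hcard]
    rcases v with _ | a | b <;> rcases w with _ | a' | b'
    · exact absurd hvw adj_none_none
    · exact cn_none_inl a'
    · exact absurd hvw (adj_none_inr b')
    · rw [hsymm]; exact cn_none_inl a
    · exact absurd hvw (adj_inl_inl a a')
    · exact cn_inl_inr_mem hB a b' ((adj_inl_inr a b').1 hvw)
    · exact absurd hvw (adj_inr_none b)
    · rw [hsymm]; exact cn_inl_inr_mem hB a' b ((adj_inr_inl a' b).1 hvw)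
    · exact cn_inr_inr_disjoint hα hB b b' ((adj_inr_inr hB b b').1 hvw)
  · intro v w hvw hnadj
    rw [hcard]
    rcases v with _ | a | b <;> rcases w with _ | a' | b'
    · exact absurd rfl hvw
    · exact absurd (adj_none_inl a') hnadj
    · exact cn_none_inr hB b'
    · exact absurd (adj_inl_none a) hnadj
    · exact cn_inl_inl hα hB a a' (fun h => hvw (by rw [h]))
    · exact cn_inl_inr_not_mem hα hB a b' (fun h => hnadj ((adj_inl_inr a b').2 h))
    · rw [hsymm]; exact cn_none_inr hB b
    · rw [hsymm]; exact cn_inl_inr_not_mem hα hB a' b (fun h => hnadj ((adj_inr_inl a' b).2 h))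
    · exact cn_inr_inr_not_disjoint hα hB b b' (fun h => hvw (by rw [h]))
        (fun h => hnadj ((adj_inr_inr hB b b').2 h))

end Cfsg.Agent.Lead.Steiner
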