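import Mathlib

/-!
# Characteristic chains with cyclic steps in abelian `p`-groups with distinct invariants

Model computations in `∀ i, ZMod (p ^ a i)`.
-/

set_option autoImplicit false

namespace Cfsg.Agent.Lead.SuperSol

section zmod

variable (p : ℕ) [Fact p.Prime]

theorem zmod_pow_eq_zero (a n : ℕ) (h : a ≤ n) : ((p : ZMod (p ^ a)) ^ n) = 0 := by
  have h0 : ((p ^ a : ℕ) : ZMod (p ^ a)) = 0 := ZMod.natCast_self _
  obtain ⟨d, rfl⟩ := Nat.exists_eq_add_of_le h
  rw [pow_add, ← Nat.cast_pow, h0, zero_mul]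

theorem zmod_dvd_of_pow_mul_eq_zero (a t : ℕ) (hta : t < a) (y : ZMod (p ^ a))
    (h : (p : ZMod (p ^ a)) ^ t * y = 0) : ∃ y', y = (p : ZMod (p ^ a)) * y' := by
  have hp : p.Prime := Fact.out
  haveI : NeZero (p ^ a) := ⟨pow_ne_zero _ hp.pos.ne'⟩
  have hy : ((y.val : ℕ) : ZMod (p ^ a)) = y := ZMod.natCast_zmod_val y
  have h1 : ((p ^ t * y.val : ℕ) : ZMod (p ^ a)) = 0 := by
    push_cast
    rw [hy]
    exact h
  rw [ZMod.natCast_eq_zero_iff] at h1
  have h2 : p ^ (a - t) ∣ y.val := by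
    have : p ^ a = p ^ t * p ^ (a - t) := by
      rw [← pow_add]
      congr 1
      omega
    have h1' : p ^ t * p ^ (a - t) ∣ p ^ t * y.val := this ▸ h1
    exact Nat.dvd_of_mul_dvd_mul_left (pow_pos hp.pos t) h1'
  have h3 : p ∣ y.val := dvd_trans (dvd_pow_self p (by omega)) h2
  obtain ⟨c, hc⟩ := h3
  refine ⟨(c : ZMod (p ^ a)), ?_⟩
  rw [← hy, hc]
  push_cast
  rfl

theorem comp_step (a k j : ℕ) (hne : a ≠ k + j + 1) (z y : ZMod (p ^ a))
    (h1 : (p : ZMod (p ^ a)) ^ (k + 1) * z = 0)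
    (h2 : (p : ZMod (p ^ a)) ^ k * z = (p : ZMod (p ^ a)) ^ (k + j) * y) :
    ∃ c, (p : ZMod (p ^ a)) ^ k * z = (p : ZMod (p ^ a)) ^ (k + (j + 1)) * c := by
  rcases Nat.lt_or_ge a (k + j + 1) with hlt | hge
  · refine ⟨0, ?_⟩
    rw [h2, zmod_pow_eq_zero p a (k + j) (by omega), zero_mul, mul_zero]
  · have hgt : k + j + 1 < a := lt_of_le_of_ne hge (Ne.symm hne)
    have h3 : (p : ZMod (p ^ a)) ^ (k + j + 1) * y = 0 := by
      calc (p : ZMod (p ^ a)) ^ (k + j + 1) * y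
          = (p : ZMod (p ^ a)) * ((p : ZMod (p ^ a)) ^ (k + j) * y) := by ring
        _ = (p : ZMod (p ^ a)) * ((p : ZMod (p ^ a)) ^ k * z) := by rw [h2]
        _ = (p : ZMod (p ^ a)) ^ (k + 1) * z := by ring
        _ = 0 := h1
    obtain ⟨c, hc⟩ := zmod_dvd_of_pow_mul_eq_zero p a (k + j + 1) hgt y h3
    refine ⟨c, ?_⟩
    rw [h2, hc]
    ring

end zmod

/-- membership in the characteristic subgroup `T(k, j)`, additively -/
def MemT {A : Type*} [AddCommGroup A] (p k j : ℕ) (z : A) : Prop :=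
  p ^ (k + 1) • z = 0 ∧ ∃ y : A, p ^ k • z = p ^ (k + j) • y

theorem memT_map {A B : Type*} [AddCommGroup A] [AddCommGroup B] (e : A ≃+ B) (p k j : ℕ) (z : A) :
    MemT p k j (e z) ↔ MemT p k j z := by
  unfold MemT
  constructor
  · rintro ⟨h1, y, hy⟩
    refine ⟨?_, e.symm y, ?_⟩
    · apply e.injective
      rw [map_nsmul, h1, map_zero]
    · apply e.injective
      rw [map_nsmul, hy, map_nsmul, e.apply_symm_apply]
  · rintro ⟨h1, y, hy⟩
    refine ⟨?_, e y, ?_⟩
    · rw [← map_nsmul, h1, map_zero]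
    · rw [← map_nsmul, hy, map_nsmul]

section model

variable (p : ℕ) [Fact p.Prime] {ι : Type*} (a : ι → ℕ)

theorem model_smul_apply (n : ℕ) (z : ∀ i, ZMod (p ^ a i)) (i : ι) :
    (p ^ n • z) i = (p : ZMod (p ^ a i)) ^ n * z i := by
  rw [Pi.smul_apply, nsmul_eq_mul, Nat.cast_pow]

theorem model_memT_succ (k j : ℕ) (z : ∀ i, ZMod (p ^ a i)) (h1 : p ^ (k + 1) • z = 0)
    (hc : ∀ i, ∃ c, (p : ZMod (p ^ a i)) ^ k * z i = (p : ZMod (p ^ a i)) ^ (k + (j + 1)) * c) :
    MemT p k (j + 1) z := by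
  choose y hy using hc
  refine ⟨h1, y, ?_⟩
  funext i
  rw [model_smul_apply, model_smul_apply]
  exact hy i

theorem model_step (hd : ∀ i i', a i = a i' → a i ≠ 0 → i = i') (k j : ℕ) :
    ∃ x₀ : (∀ i, ZMod (p ^ a i)), MemT p k j x₀ ∧
      ∀ z, MemT p k j z → ∃ m : ℕ, MemT p k (j + 1) (z - m • x₀) := by
  classical
  by_cases h : ∃ i₀, a i₀ = k + j + 1
  · obtain ⟨i₀, hi₀⟩ := h
    obtain ⟨x₀, hx₀⟩ : ∃ x₀ : (∀ i, ZMod (p ^ a i)),
        x₀ = Pi.single i₀ ((p : ZMod (p ^ a i₀)) ^ j) := ⟨_, rfl⟩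
    have hsame : x₀ i₀ = (p : ZMod (p ^ a i₀)) ^ j := by
      rw [hx₀, Pi.single_eq_same]
    have hne : ∀ i, i ≠ i₀ → x₀ i = 0 := by
      intro i hi
      rw [hx₀, Pi.single_eq_of_ne hi]
    have hx1 : p ^ (k + 1) • x₀ = 0 := by
      funext i
      rw [model_smul_apply]
      by_cases hi : i = i₀
      · subst hi
        rw [hsame, ← pow_add]
        exact zmod_pow_eq_zero p _ _ (by omega)
      · rw [hne i hi, mul_zero]
        rfl
    refine ⟨x₀, ⟨hx1, Pi.single i₀ 1, ?_⟩, ?_⟩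
    · funext i
      rw [model_smul_apply, model_smul_apply]
      by_cases hi : i = i₀
      · subst hi
        rw [hsame, Pi.single_eq_same, ← pow_add, mul_one]
      · rw [hne i hi, Pi.single_eq_of_ne hi, mul_zero, mul_zero]
    · rintro z ⟨hz1, y, hy⟩
      have hm : (((y i₀).val : ℕ) : ZMod (p ^ a i₀)) = y i₀ := by
        haveI : NeZero (p ^ a i₀) := ⟨pow_ne_zero _ (Fact.out : p.Prime).pos.ne'⟩
        exact ZMod.natCast_zmod_val _
      refine ⟨(y i₀).val, ?_⟩
      apply model_memT_succ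
      · rw [smul_sub, hz1, smul_comm, hx1, smul_zero, sub_zero]
      · intro i
        have hyi : (p : ZMod (p ^ a i)) ^ k * z i = (p : ZMod (p ^ a i)) ^ (k + j) * y i := by
          have := congrFun hy i
          rwa [model_smul_apply, model_smul_apply] at this
        have hzi : (p : ZMod (p ^ a i)) ^ (k + 1) * z i = 0 := by
          have := congrFun hz1 i
          rwa [model_smul_apply] at this
        rw [Pi.sub_apply, Pi.smul_apply, nsmul_eq_mul]
        by_cases hi : i = i₀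
        · subst hi
          refine ⟨0, ?_⟩
          rw [mul_zero, mul_sub, hyi, hm, hsame]
          ring
        · rw [hne i hi, mul_zero, sub_zero]
          apply comp_step p (a i) k j _ (z i) (y i) hzi hyi
          intro hai
          apply hi
          apply hd i i₀ (by rw [hai, hi₀])
          omega
  · refine ⟨0, ⟨smul_zero _, 0, by rw [smul_zero, smul_zero]⟩, ?_⟩
    rintro z ⟨hz1, y, hy⟩
    refine ⟨0, ?_⟩
    rw [smul_zero, sub_zero]
    apply model_memT_succ _ _ _ _ _ hz1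
    intro i
    have hyi : (p : ZMod (p ^ a i)) ^ k * z i = (p : ZMod (p ^ a i)) ^ (k + j) * y i := by
      have := congrFun hy i
      rwa [model_smul_apply, model_smul_apply] at this
    have hzi : (p : ZMod (p ^ a i)) ^ (k + 1) * z i = 0 := by
      have := congrFun hz1 i
      rwa [model_smul_apply] at this
    apply comp_step p (a i) k j _ (z i) (y i) hzi hyi
    intro hai
    exact h ⟨i, hai⟩

theorem add_step {A : Type*} [AddCommGroup A] (hd : ∀ i i', a i = a i' → a i ≠ 0 → i = i')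
    (e : A ≃+ ∀ i, ZMod (p ^ a i)) (k j : ℕ) :
    ∃ x₀ : A, MemT p k j x₀ ∧ ∀ z, MemT p k j z → ∃ m : ℕ, MemT p k (j + 1) (z - m • x₀) := by
  obtain ⟨x₀, hx₀, h⟩ := model_step p a hd k j
  refine ⟨e.symm x₀, ?_, fun z hz => ?_⟩
  · rw [← memT_map e, e.apply_symm_apply]
    exact hx₀
  · obtain ⟨m, hm⟩ := h (e z) ((memT_map e p k j z).2 hz)
    refine ⟨m, ?_⟩
    rw [← memT_map e, map_sub, map_nsmul, e.apply_symm_apply]
    exact hm

end model

end Cfsg.Agent.Lead.SuperSol
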