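import Mathlib
import Cfsg.Agent.Lead.SuperSolA

/-!
# Characteristic chains with cyclic steps: the multiplicative side
-/

set_option autoImplicit false

namespace Cfsg.Agent.Lead.SuperSol

section mult

variable {A : Type*} [CommGroup A] (p : ℕ)

/-- the characteristic subgroup `T(k, j)` -/
def Tsub (A : Type*) [CommGroup A] (p k j : ℕ) : Subgroup A where
  carrier := {x | x ^ (p ^ (k + 1)) = 1 ∧ ∃ y, x ^ (p ^ k) = y ^ (p ^ (k + j))}
  one_mem' := ⟨one_pow _, 1, by rw [one_pow, one_pow]⟩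
  mul_mem' := by
    rintro x x' ⟨h1, y, hy⟩ ⟨h1', y', hy'⟩
    exact ⟨by rw [mul_pow, h1, h1', one_mul], y * y', by rw [mul_pow, mul_pow, hy, hy']⟩
  inv_mem' := by
    rintro x ⟨h1, y, hy⟩
    exact ⟨by rw [inv_pow, h1, inv_one], y⁻¹, by rw [inv_pow, inv_pow, hy]⟩

theorem mem_Tsub {k j : ℕ} {x : A} : x ∈ Tsub A p k j ↔
    x ^ (p ^ (k + 1)) = 1 ∧ ∃ y, x ^ (p ^ k) = y ^ (p ^ (k + j)) := Iff.rfl

theorem mem_Tsub_iff_memT {k j : ℕ} {x : A} :
    x ∈ Tsub A p k j ↔ MemT p k j (Additive.ofMul x) := Iff.rfl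

theorem Tsub_char (k j : ℕ) (α : A ≃* A) (x : A) (hx : x ∈ Tsub A p k j) :
    α x ∈ Tsub A p k j := by
  obtain ⟨h1, y, hy⟩ := hx
  exact ⟨by rw [← map_pow, h1, map_one], α y, by rw [← map_pow, hy, map_pow]⟩

theorem Tsub_anti (k j : ℕ) : Tsub A p k (j + 1) ≤ Tsub A p k j := by
  rintro x ⟨h1, y, hy⟩
  refine ⟨h1, y ^ p, ?_⟩
  rw [hy, ← pow_mul, ← add_assoc, pow_succ' p (k + j)]

theorem mem_Tsub_zero {k : ℕ} {x : A} : x ∈ Tsub A p k 0 ↔ x ^ (p ^ (k + 1)) = 1 :=
  ⟨fun h => h.1, fun h => ⟨h, x, by rw [add_zero]⟩⟩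

theorem mem_Tsub_top {N : ℕ} (hN : ∀ y : A, y ^ (p ^ N) = 1) {k : ℕ} {x : A} :
    x ∈ Tsub A p k N ↔ x ^ (p ^ k) = 1 := by
  constructor
  · rintro ⟨-, y, hy⟩
    rw [hy, add_comm, pow_add, pow_mul, hN, one_pow]
  · intro h
    exact ⟨by rw [pow_succ, pow_mul, h, one_pow], 1, by rw [h, one_pow]⟩

theorem Tsub_succ_top {N : ℕ} (hN : ∀ y : A, y ^ (p ^ N) = 1) (k : ℕ) :
    Tsub A p (k + 1) N = Tsub A p k 0 := by
  ext x
  rw [mem_Tsub_top p hN, mem_Tsub_zero]

theorem Tsub_zero_top {N : ℕ} (hN : ∀ y : A, y ^ (p ^ N) = 1) :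
    Tsub A p 0 N = ⊥ := by
  ext x
  rw [mem_Tsub_top p hN, pow_zero, pow_one, Subgroup.mem_bot]

theorem Tsub_top_top {N : ℕ} (hN : ∀ y : A, y ^ (p ^ N) = 1) :
    Tsub A p N N = ⊤ := by
  ext x
  rw [mem_Tsub_top p hN]
  exact ⟨fun _ => Subgroup.mem_top _, fun _ => hN x⟩

theorem mul_step [Fact p.Prime] {ι : Type*} (a : ι → ℕ)
    (hd : ∀ i i', a i = a i' → a i ≠ 0 → i = i')
    (e : Additive A ≃+ ∀ i, ZMod (p ^ a i)) (k j : ℕ) :
    ∃ x₀ : A, Tsub A p k j = Tsub A p k (j + 1) ⊔ Subgroup.zpowers x₀ := by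
  obtain ⟨x₀, hx₀, h⟩ := add_step p a hd e k j
  refine ⟨Additive.toMul x₀, le_antisymm ?_ (sup_le (Tsub_anti p k j) ?_)⟩
  · intro z hz
    obtain ⟨m, hm⟩ := h (Additive.ofMul z) hz
    have hm' : z / (Additive.toMul x₀) ^ m ∈ Tsub A p k (j + 1) := hm
    have : z = z / (Additive.toMul x₀) ^ m * (Additive.toMul x₀) ^ m := (div_mul_cancel _ _).symm
    rw [this]
    exact Subgroup.mul_mem_sup hm' (Subgroup.pow_mem _ (Subgroup.mem_zpowers _) m)
  · rw [Subgroup.zpowers_le]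
    exact hx₀

end mult

section reach

variable {A : Type*} [Group A]

/-- invariance under all automorphisms -/
def CharSub (C : Subgroup A) : Prop := ∀ (α : A ≃* A) (x : A), x ∈ C → α x ∈ C

/-- a chain of characteristic subgroups with cyclic steps from `B` to `C` -/
def Reach (B C : Subgroup A) : Prop :=
  ∃ (m : ℕ) (c : Fin (m + 1) → Subgroup A), c 0 = B ∧ c (Fin.last m) = C ∧
    (∀ i, CharSub (c i)) ∧
    ∀ i : Fin m, c i.castSucc ≤ c i.succ ∧ ∃ x, c i.succ = c i.castSucc ⊔ Subgroup.zpowers x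

theorem Reach.refl (B : Subgroup A) (hB : CharSub B) : Reach B B :=
  ⟨0, fun _ => B, rfl, rfl, fun _ => hB, fun i => i.elim0⟩

theorem Reach.step {B C D : Subgroup A} (h : Reach B C) (hD : CharSub D) (hle : C ≤ D) (x : A)
    (hx : D = C ⊔ Subgroup.zpowers x) : Reach B D := by
  obtain ⟨m, c, h0, hl, hc, hs⟩ := h
  refine ⟨m + 1, Fin.snoc (α := fun _ => Subgroup A) c D, ?_, ?_, ?_, ?_⟩
  · have : (0 : Fin (m + 1 + 1)) = Fin.castSucc (0 : Fin (m + 1)) := rfl
    rw [this, Fin.snoc_castSucc]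
    exact h0
  · exact Fin.snoc_last (α := fun _ => Subgroup A) D c
  · intro i
    induction i using Fin.lastCases with
    | last =>
      rw [Fin.snoc_last]
      exact hD
    | cast j =>
      rw [Fin.snoc_castSucc]
      exact hc j
  · intro i
    induction i using Fin.lastCases with
    | last =>
      rw [Fin.succ_last, Fin.snoc_last, Fin.snoc_castSucc, hl]
      exact ⟨hle, x, hx⟩
    | cast j =>
      rw [Fin.succ_castSucc, Fin.snoc_castSucc, Fin.snoc_castSucc]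
      exact hs j

theorem charSub_bot : CharSub (⊥ : Subgroup A) := by
  intro α x hx
  rw [Subgroup.mem_bot] at hx ⊢
  rw [hx, map_one]

end reach

section main

variable {A : Type*} [CommGroup A] (p : ℕ) [Fact p.Prime]

theorem reach_top {ι : Type*} (a : ι → ℕ)
    (hd : ∀ i i', a i = a i' → a i ≠ 0 → i = i')
    (e : Additive A ≃+ ∀ i, ZMod (p ^ a i)) (N : ℕ) (hN : ∀ y : A, y ^ (p ^ N) = 1) :
    Reach (⊥ : Subgroup A) ⊤ := by
  have hk : ∀ k, Reach (⊥ : Subgroup A) (Tsub A p k N) := by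
    intro k
    induction k with
    | zero =>
      rw [Tsub_zero_top p hN]
      exact Reach.refl _ charSub_bot
    | succ k ih =>
      have inner : ∀ t, t ≤ N → Reach (⊥ : Subgroup A) (Tsub A p k (N - t)) := by
        intro t
        induction t with
        | zero =>
          intro _
          exact ih
        | succ t iht =>
          intro ht
          have h1 := iht (by omega)
          have e1 : N - t = (N - (t + 1)) + 1 := by omega
          rw [e1] at h1
          obtain ⟨x₀, hx₀⟩ := mul_step p a hd e k (N - (t + 1))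
          exact Reach.step h1 (Tsub_char p k _) (Tsub_anti p k _) x₀ hx₀
      have h2 := inner N le_rfl
      rw [Nat.sub_self, ← Tsub_succ_top p hN] at h2
      exact h2
  have h3 := hk N
  rwa [Tsub_top_top p hN] at h3

/-- splitting off two coordinates of a product -/
def piSplit2 {ι : Type*} [DecidableEq ι] (G : ι → Type*) [∀ i, CommGroup (G i)] (i₁ i₂ : ι)
    (h12 : i₁ ≠ i₂) :
    (∀ i, G i) ≃* (G i₁ × G i₂) × (∀ i : {i // i ≠ i₁ ∧ i ≠ i₂}, G i.1) where
  toFun f := ((f i₁, f i₂), fun i => f i.1)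
  invFun x := fun i => if h1 : i = i₁ then h1 ▸ x.1.1 else
    if h2 : i = i₂ then h2 ▸ x.1.2 else x.2 ⟨i, h1, h2⟩
  left_inv f := by
    funext i
    by_cases h1 : i = i₁
    · subst h1
      simp
    · by_cases h2 : i = i₂
      · subst h2
        simp [h1]
      · simp [h1, h2]
  right_inv x := by
    refine Prod.ext (Prod.ext ?_ ?_) ?_
    · simp
    · simp [h12.symm]
    · funext ⟨i, h1, h2⟩
      simp [h1, h2]
  map_mul' f g := rfl

theorem exists_chain [Finite A] (hA : IsPGroup p A)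
    (hno : ¬ ∃ (n : ℕ) (H : Type) (_ : CommGroup H), 0 < n ∧
      Nonempty (A ≃* (Multiplicative (ZMod (p ^ n)) × Multiplicative (ZMod (p ^ n))) × H)) :
    Reach (⊥ : Subgroup A) ⊤ := by
  classical
  have hp : p.Prime := Fact.out
  obtain ⟨ι, hι, n, hn, ⟨ε⟩⟩ := CommGroup.equiv_prod_multiplicative_zmod_of_finite A
  obtain ⟨N, hN⟩ := IsPGroup.iff_card.mp hA
  have hcard : Nat.card A = ∏ i, n i := by
    rw [Nat.card_congr ε.toEquiv, Nat.card_pi]
    apply Finset.prod_congr rfl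
    intro i _
    exact (Nat.card_congr Multiplicative.toAdd).trans (Nat.card_zmod (n i))
  have hdvd : ∀ i, ∃ a, n i = p ^ a := by
    intro i
    have : n i ∣ p ^ N := by
      rw [← hN, hcard]
      exact Finset.dvd_prod_of_mem n (Finset.mem_univ i)
    obtain ⟨a, -, ha⟩ := (Nat.dvd_prime_pow hp).1 this
    exact ⟨a, ha⟩
  choose a ha using hdvd
  obtain rfl : n = fun i => p ^ a i := funext ha
  have hpow : ∀ y : A, y ^ (p ^ N) = 1 := by
    intro y
    rw [← hN]
    exact pow_card_eq_one'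
  have hd : ∀ i i', a i = a i' → a i ≠ 0 → i = i' := by
    intro i₁ i₂ h12 h0
    by_contra hne
    apply hno
    have κ : Multiplicative (ZMod (p ^ a i₂)) ≃* Multiplicative (ZMod (p ^ a i₁)) := by
      rw [h12]
    exact ⟨a i₁, _, inferInstance, Nat.pos_of_ne_zero h0,
      ⟨ε.trans ((piSplit2 (fun i => Multiplicative (ZMod (p ^ a i))) i₁ i₂ hne).trans
        (MulEquiv.prodCongr (MulEquiv.prodCongr (MulEquiv.refl _) κ) (MulEquiv.refl _)))⟩⟩
  exact reach_top p a hd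
    (MulEquiv.toAdditiveLeft (ε.trans (MulEquiv.piMultiplicative (fun i => ZMod (p ^ a i))).symm))
    N hpow

end main

end Cfsg.Agent.Lead.SuperSol
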