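import Mathlib
import Cfsg.Prelude.Def_FusionSystem
import Cfsg.Agent.Lead.FusionAutSys

/-!
# A saturated system over `(Z/p^n)^2 × H` with no chain of strongly closed subgroups with cyclic
steps
-/

set_option autoImplicit false

namespace Cfsg.Agent.Lead.SuperSol

open Cfsg Cfsg.FusionSystem Cfsg.Agent.Lead Cfsg.Agent.Lead.AutSys

section abstract

variable {Ω : Type*} [Group Ω] {S : Subgroup Ω}

theorem no_chain_of_irred [Finite S] (p : ℕ) [Fact p.Prime] (hS : IsPGroup p S)
    (β : MulAut S) (hβ : (orderOf β).Coprime p)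
    {V : Type*} [AddCommGroup V] (r : S → V) (hr1 : r 1 = 0)
    (hrm : ∀ s t, r (s * t) = r s + r t) (hrs : ∃ s, r s ≠ 0)
    (g : V → V) (hg : ∀ s, r (β s) = g (r s))
    (hirr : ∀ v : V, ∀ k : ℤ, g v = k • v → v = 0) :
    ∃ F : FusionSystem S, F.IsSaturated p ∧
      ¬ ∃ (m : ℕ) (c : Fin (m + 1) → Subgroup Ω), c 0 = ⊥ ∧ c (Fin.last m) = S ∧
        (∀ i : Fin (m + 1), F.StronglyClosed (c i)) ∧
        ∀ i : Fin m, c i.castSucc ≤ c i.succ ∧
          ∃ x ∈ S, c i.succ = c i.castSucc ⊔ Subgroup.zpowers x := by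
  refine ⟨autSys S (Inn S ⊔ Subgroup.zpowers β) le_sup_left, autSys_saturated S p hS β hβ, ?_⟩
  rintro ⟨m, c, h0, hl, hsc, hstep⟩
  have hrinv : ∀ s, r s⁻¹ = - r s := by
    intro s
    have := hrm s s⁻¹
    rw [mul_inv_cancel, hr1] at this
    exact (neg_eq_of_add_eq_zero_right this.symm).symm
  have key : ∀ i : Fin (m + 1), ∀ z (_ : z ∈ c i) (hzS : z ∈ S), r ⟨z, hzS⟩ = 0 := by
    intro i
    induction i using Fin.induction with
    | zero =>
      intro z hz hzS
      rw [h0, Subgroup.mem_bot] at hz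
      subst hz
      exact hr1
    | succ i ih =>
      obtain ⟨hle, x, hx, hsup⟩ := hstep i
      have hcS : c i.succ ≤ S := (hsc i.succ).1
      -- the subgroup of elements mapping into the multiples of `r x`
      let W : Subgroup Ω :=
        { carrier := {z | ∃ hzS : z ∈ S, ∃ k : ℤ, r ⟨z, hzS⟩ = k • r ⟨x, hx⟩}
          one_mem' := ⟨S.one_mem, 0, by rw [zero_smul]; exact hr1⟩
          mul_mem' := by
            rintro a b ⟨ha, k, hk⟩ ⟨hb, l, hl'⟩
            refine ⟨S.mul_mem ha hb, k + l, ?_⟩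
            have : (⟨a * b, S.mul_mem ha hb⟩ : S) = ⟨a, ha⟩ * ⟨b, hb⟩ := rfl
            rw [this, hrm, hk, hl', add_smul]
          inv_mem' := by
            rintro a ⟨ha, k, hk⟩
            refine ⟨S.inv_mem ha, -k, ?_⟩
            have : (⟨a⁻¹, S.inv_mem ha⟩ : S) = (⟨a, ha⟩ : S)⁻¹ := rfl
            rw [this, hrinv, hk, neg_smul] }
      have hW : c i.succ ≤ W := by
        rw [hsup]
        apply sup_le
        · intro z hz
          have hzS : z ∈ S := hcS (hle hz)
          exact ⟨hzS, 0, by rw [zero_smul]; exact ih z hz hzS⟩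
        · rw [Subgroup.zpowers_le]
          exact ⟨hx, 1, by rw [one_smul]⟩
      -- `β x` lies in `c i.succ`
      have hxc : x ∈ c i.succ := by
        rw [hsup]
        exact Subgroup.mem_sup_right (Subgroup.mem_zpowers x)
      have hβx : ((β ⟨x, hx⟩ : S) : Ω) ∈ c i.succ := by
        have hφ : (S.subtype.comp (β.toMonoidHom.comp (Subgroup.inclusion hcS))) ∈
            (autSys S (Inn S ⊔ Subgroup.zpowers β) le_sup_left).Hom (c i.succ) := by
          rw [mem_autSys]
          exact ⟨hcS, β, Subgroup.mem_sup_right (Subgroup.mem_zpowers β), fun _ => rfl⟩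
        exact (hsc i.succ).2 (c i.succ) le_rfl _ hφ ⟨x, hxc⟩
      obtain ⟨h1, k, hk⟩ := hW hβx
      have hv : r ⟨x, hx⟩ = 0 := by
        apply hirr _ k
        rw [← hg]
        exact hk
      intro z hz hzS
      obtain ⟨h2, l, hl'⟩ := hW hz
      rw [hl', hv, smul_zero]
  obtain ⟨s, hs⟩ := hrs
  apply hs
  have := key (Fin.last m) s.1 (by rw [hl]; exact s.2) s.2
  exact this

end abstract

end Cfsg.Agent.Lead.SuperSol
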