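import Mathlib
import Cfsg.Prelude.Def_FusionSystem
import Cfsg.Agent.Lead.SuperSolC

/-!
# The concrete automorphisms of `(Z/p^n)^2 × H`
-/

set_option autoImplicit false

namespace Cfsg.Agent.Lead.SuperSol

open Cfsg Cfsg.FusionSystem Cfsg.Agent.Lead

section lift

variable {R H : Type*} [AddCommGroup R] [CommGroup H]

/-- an additive automorphism of `R × R` acting on `(Multiplicative R)² × H` -/
def liftAut (g : R × R ≃+ R × R) :
    ((Multiplicative R × Multiplicative R) × H) ≃* ((Multiplicative R × Multiplicative R) × H) where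
  toFun x := ((Multiplicative.ofAdd (g (Multiplicative.toAdd x.1.1, Multiplicative.toAdd x.1.2)).1,
    Multiplicative.ofAdd (g (Multiplicative.toAdd x.1.1, Multiplicative.toAdd x.1.2)).2), x.2)
  invFun x := ((Multiplicative.ofAdd
      (g.symm (Multiplicative.toAdd x.1.1, Multiplicative.toAdd x.1.2)).1,
    Multiplicative.ofAdd (g.symm (Multiplicative.toAdd x.1.1, Multiplicative.toAdd x.1.2)).2), x.2)
  left_inv x := by simp
  right_inv x := by simp
  map_mul' x y := by
    have : (Multiplicative.toAdd (x * y).1.1, Multiplicative.toAdd (x * y).1.2) =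
        (Multiplicative.toAdd x.1.1, Multiplicative.toAdd x.1.2) +
          (Multiplicative.toAdd y.1.1, Multiplicative.toAdd y.1.2) := rfl
    rw [this, map_add]
    rfl

end lift

section ringauts

variable (R : Type*) [CommRing R]

/-- `(x, y) ↦ (-y, x - y)`, of order three -/
def gA : R × R ≃+ R × R where
  toFun w := (-w.2, w.1 - w.2)
  invFun w := (w.2 - w.1, -w.1)
  left_inv w := by
    refine Prod.ext ?_ ?_
    · show w.1 - w.2 - -w.2 = w.1
      ring
    · show - -w.2 = w.2
      ring
  right_inv w := by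
    refine Prod.ext ?_ ?_
    · show - -w.1 = w.1
      ring
    · show w.2 - w.1 - -w.1 = w.2
      ring
  map_add' v w := by
    refine Prod.ext ?_ ?_
    · show -(v.2 + w.2) = -v.2 + -w.2
      ring
    · show v.1 + w.1 - (v.2 + w.2) = v.1 - v.2 + (w.1 - w.2)
      ring

theorem gA_cube (w : R × R) : gA R (gA R (gA R w)) = w := by
  refine Prod.ext ?_ ?_
  · show -(-w.2 - (w.1 - w.2)) = w.1
    ring
  · show -(w.1 - w.2) - (-w.2 - (w.1 - w.2)) = w.2
    ring

/-- `(x, y) ↦ (d y, x)` -/
def gB (d : Rˣ) : R × R ≃+ R × R where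
  toFun w := ((d : R) * w.2, w.1)
  invFun w := (w.2, ((d⁻¹ : Rˣ) : R) * w.1)
  left_inv w := by
    refine Prod.ext rfl ?_
    show ((d⁻¹ : Rˣ) : R) * ((d : R) * w.2) = w.2
    rw [Units.inv_mul_cancel_left]
  right_inv w := by
    refine Prod.ext ?_ rfl
    show (d : R) * (((d⁻¹ : Rˣ) : R) * w.1) = w.1
    rw [Units.mul_inv_cancel_left]
  map_add' v w := by
    refine Prod.ext ?_ rfl
    show (d : R) * (v.2 + w.2) = (d : R) * v.2 + (d : R) * w.2
    ring

end ringauts

section eigen

/-- over `ZMod 2` the map `(x, y) ↦ (-y, x - y)` has no eigenvector -/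
theorem no_eigen_two (v : ZMod 2 × ZMod 2) (k : ℤ) (h : (-v.2, v.1 - v.2) = k • v) : v = 0 := by
  have h' : (-v.2, v.1 - v.2) = ((k : ZMod 2) * v.1, (k : ZMod 2) * v.2) := by
    rw [h]
    refine Prod.ext ?_ ?_
    · show k • v.1 = _
      rw [zsmul_eq_mul]
    · show k • v.2 = _
      rw [zsmul_eq_mul]
  clear h
  generalize (k : ZMod 2) = κ at h'
  revert v κ
  decide

variable {K : Type*} [Field K] (d : K)

theorem iterate_gB_odd (j : ℕ) (x y : K) :
    (fun w : K × K => (d * w.2, w.1))^[2 * j + 1] (x, y) = (d ^ (j + 1) * y, d ^ j * x) := by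
  induction j with
  | zero => simp
  | succ j ih =>
    have e1 : 2 * (j + 1) + 1 = (2 * j + 1) + 1 + 1 := by ring
    rw [e1, Function.iterate_succ_apply', Function.iterate_succ_apply', ih]
    refine Prod.ext ?_ ?_
    · show d * (d ^ (j + 1) * y) = d ^ (j + 1 + 1) * y
      ring
    · show d * (d ^ j * x) = d ^ (j + 1) * x
      ring

theorem no_eigen_odd (hd : ¬ IsSquare d) (q : ℕ) (hq : Odd q) (v : K × K) (k : ℤ)
    (h : (fun w : K × K => (d * w.2, w.1))^[q] v = k • v) : v = 0 := by
  obtain ⟨j, rfl⟩ := hq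
  obtain ⟨x, y⟩ := v
  rw [iterate_gB_odd] at h
  have h1 : d ^ (j + 1) * y = (k : K) * x := by
    have := congrArg Prod.fst h
    simpa [zsmul_eq_mul] using this
  have h2 : d ^ j * x = (k : K) * y := by
    have := congrArg Prod.snd h
    simpa [zsmul_eq_mul] using this
  have hd0 : d ≠ 0 := by
    rintro rfl
    exact hd ⟨0, by ring⟩
  by_cases hy : y = 0
  · subst hy
    rw [mul_zero] at h2
    have hx : x = 0 := by
      rcases mul_eq_zero.mp h2 with h3 | h3
      · exact absurd h3 (pow_ne_zero _ hd0)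
      · exact h3
    rw [hx]
    rfl
  · exfalso
    apply hd
    have h3 : (k : K) ^ 2 * y = d ^ (2 * j + 1) * y := by
      calc (k : K) ^ 2 * y = (k : K) * ((k : K) * y) := by ring
        _ = (k : K) * (d ^ j * x) := by rw [h2]
        _ = d ^ j * ((k : K) * x) := by ring
        _ = d ^ j * (d ^ (j + 1) * y) := by rw [h1]
        _ = d ^ (2 * j + 1) * y := by ring
    have h4 : (k : K) ^ 2 = d ^ (2 * j + 1) := mul_right_cancel₀ hy h3
    refine ⟨(k : K) / d ^ j, ?_⟩
    have hdj : d ^ j ≠ 0 := pow_ne_zero _ hd0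
    field_simp
    rw [h4]
    ring

end eigen

end Cfsg.Agent.Lead.SuperSol
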