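import Mathlib
import Cfsg.Prelude.Def_FusionSystem
import Cfsg.Agent.Lead.SuperSolB
import Cfsg.Agent.Lead.SuperSolD
import Cfsg.Agent.Lead.FusionAbelian

/-!
# Supersoluble saturated systems over abelian `p`-groups
-/

set_option autoImplicit false

namespace Cfsg.Agent.Lead.SuperSol

open Cfsg Cfsg.FusionSystem Cfsg.Agent.Lead

variable {Ω : Type*} [Group Ω] {S : Subgroup Ω}

section concrete

variable (p : ℕ) [Fact p.Prime] (n : ℕ) (hn : n ≠ 0) {H : Type*} [CommGroup H]
  (e : S ≃* (Multiplicative (ZMod (p ^ n)) × Multiplicative (ZMod (p ^ n))) × H)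

/-- reduction mod `p` -/
def redHom (hn : n ≠ 0) : ZMod (p ^ n) →+* ZMod p := ZMod.castHom (dvd_pow_self p hn) (ZMod p)

/-- the first two coordinates, mod `p` -/
def rMap (s : S) : ZMod p × ZMod p :=
  (redHom p n hn (Multiplicative.toAdd (e s).1.1), redHom p n hn (Multiplicative.toAdd (e s).1.2))

theorem rMap_one : rMap p n hn e 1 = 0 := by
  simp [rMap]

theorem rMap_mul (s t : S) : rMap p n hn e (s * t) = rMap p n hn e s + rMap p n hn e t := by
  simp [rMap]

theorem rMap_ne : ∃ s, rMap p n hn e s ≠ 0 := by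
  refine ⟨e.symm ((Multiplicative.ofAdd 1, 1), 1), ?_⟩
  intro h
  have h1 := congrArg Prod.fst h
  simp [rMap] at h1

/-- the automorphism of `S` induced by `g` -/
def autOf (g : ZMod (p ^ n) × ZMod (p ^ n) ≃+ ZMod (p ^ n) × ZMod (p ^ n)) : MulAut S :=
  e.trans ((liftAut g).trans e.symm)

theorem e_autOf (g : ZMod (p ^ n) × ZMod (p ^ n) ≃+ ZMod (p ^ n) × ZMod (p ^ n)) (s : S) :
    e (autOf p n e g s) = liftAut g (e s) := e.apply_symm_apply _

theorem rMap_autOf (g : ZMod (p ^ n) × ZMod (p ^ n) ≃+ ZMod (p ^ n) × ZMod (p ^ n)) (s : S) :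
    rMap p n hn e (autOf p n e g s) =
      (redHom p n hn (g (Multiplicative.toAdd (e s).1.1, Multiplicative.toAdd (e s).1.2)).1,
        redHom p n hn (g (Multiplicative.toAdd (e s).1.1, Multiplicative.toAdd (e s).1.2)).2) := by
  unfold rMap
  rw [e_autOf]
  rfl

end concrete

theorem semiconj_pow {V : Type*} (r : S → V) (β : MulAut S) (g : V → V)
    (hg : ∀ s, r (β s) = g (r s)) (q : ℕ) (s : S) : r ((β ^ q) s) = g^[q] (r s) := by
  induction q generalizing s with
  | zero => simp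
  | succ q ih =>
    rw [pow_succ, MulAut.mul_apply, ih, hg, Function.iterate_succ_apply]

theorem exists_bad [Finite S] (p : ℕ) [Fact p.Prime] (hS : IsPGroup p S) (n : ℕ) (hn : 0 < n)
    {H : Type*} [CommGroup H]
    (e : S ≃* (Multiplicative (ZMod (p ^ n)) × Multiplicative (ZMod (p ^ n))) × H) :
    ∃ F : FusionSystem S, F.IsSaturated p ∧
      ¬ ∃ (m : ℕ) (c : Fin (m + 1) → Subgroup Ω), c 0 = ⊥ ∧ c (Fin.last m) = S ∧
        (∀ i : Fin (m + 1), F.StronglyClosed (c i)) ∧
        ∀ i : Fin m, c i.castSucc ≤ c i.succ ∧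
          ∃ x ∈ S, c i.succ = c i.castSucc ⊔ Subgroup.zpowers x := by
  have hp : p.Prime := Fact.out
  have hn' : n ≠ 0 := hn.ne'
  rcases eq_or_ne p 2 with rfl | hp2
  · -- the automorphism of order three
    have h3 : ∀ s, autOf 2 n e (gA _) (autOf 2 n e (gA _) (autOf 2 n e (gA _) s)) = s := by
      intro s
      apply e.injective
      rw [e_autOf, e_autOf, e_autOf]
      refine Prod.ext (Prod.ext ?_ ?_) rfl
      · show Multiplicative.ofAdd (gA _ (gA _ (gA _
          (Multiplicative.toAdd (e s).1.1, Multiplicative.toAdd (e s).1.2)))).1 = (e s).1.1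
        rw [gA_cube]
        rfl
      · show Multiplicative.ofAdd (gA _ (gA _ (gA _
          (Multiplicative.toAdd (e s).1.1, Multiplicative.toAdd (e s).1.2)))).2 = (e s).1.2
        rw [gA_cube]
        rfl
    have hpow : (autOf 2 n e (gA _)) ^ 3 = 1 := by
      ext s
      simp only [pow_succ, pow_zero, one_mul, MulAut.mul_apply, MulAut.one_apply]
      rw [h3 s]
    have hord : (orderOf (autOf 2 n e (gA _))).Coprime 2 :=
      Nat.Coprime.coprime_dvd_left (orderOf_dvd_of_pow_eq_one hpow) (by norm_num)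
    refine no_chain_of_irred 2 hS (autOf 2 n e (gA _)) hord (rMap 2 n hn' e)
      (rMap_one 2 n hn' e) (rMap_mul 2 n hn' e) (rMap_ne 2 n hn' e)
      (fun v => (-v.2, v.1 - v.2)) ?_ no_eigen_two
    intro s
    rw [rMap_autOf]
    refine Prod.ext ?_ ?_
    · show redHom 2 n hn' (-(Multiplicative.toAdd (e s).1.2)) = _
      rw [map_neg]
      rfl
    · show redHom 2 n hn' (Multiplicative.toAdd (e s).1.1 - Multiplicative.toAdd (e s).1.2) = _
      rw [map_sub]
      rfl
  · obtain ⟨d', hd'⟩ := FiniteField.exists_nonsquare (F := ZMod p)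
      (by rw [ZMod.ringChar_zmod_n]; exact hp2)
    have hd0 : d' ≠ 0 := by
      rintro rfl
      exact hd' ⟨0, by ring⟩
    have hval0 : d'.val ≠ 0 := by
      rwa [Ne, ZMod.val_eq_zero]
    have hndvd : ¬ p ∣ d'.val :=
      Nat.not_dvd_of_pos_of_lt (Nat.pos_of_ne_zero hval0) (ZMod.val_lt d')
    have hcop : Nat.Coprime d'.val (p ^ n) :=
      Nat.Coprime.pow_right n (Nat.coprime_comm.1 (hp.coprime_iff_not_dvd.2 hndvd))
    obtain ⟨d, hd⟩ : ∃ d : (ZMod (p ^ n))ˣ, d = ZMod.unitOfCoprime d'.val hcop := ⟨_, rfl⟩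
    have hπd : redHom p n hn' (d : ZMod (p ^ n)) = d' := by
      rw [hd, ZMod.coe_unitOfCoprime, map_natCast, ZMod.natCast_zmod_val]
    obtain ⟨β₁, hβ₁⟩ : ∃ β₁ : MulAut S, β₁ = autOf p n e (gB _ d) := ⟨_, rfl⟩
    have hg₁ : ∀ s, rMap p n hn' e (β₁ s) =
        (fun w : ZMod p × ZMod p => (d' * w.2, w.1)) (rMap p n hn' e s) := by
      intro s
      rw [hβ₁, rMap_autOf]
      refine Prod.ext ?_ rfl
      show redHom p n hn' ((d : ZMod (p ^ n)) * Multiplicative.toAdd (e s).1.2) = _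
      rw [map_mul, hπd]
      rfl
    haveI : Finite (MulAut S) := Finite.of_injective (fun α : MulAut S => (α : S → S))
      (fun a b h => DFunLike.coe_injective h)
    have hN0 : orderOf β₁ ≠ 0 := (orderOf_pos β₁).ne'
    obtain ⟨a, m', hm', hN⟩ := Nat.exists_eq_pow_mul_and_not_dvd hN0 p hp.ne_one
    have hord : orderOf (β₁ ^ (p ^ a)) = m' := by
      rw [orderOf_pow_of_dvd (pow_ne_zero _ hp.pos.ne') ⟨m', hN⟩, hN,
        Nat.mul_div_cancel_left _ (pow_pos hp.pos a)]
    have hcop' : (orderOf (β₁ ^ (p ^ a))).Coprime p := by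
      rw [hord]
      exact Nat.coprime_comm.1 (hp.coprime_iff_not_dvd.2 hm')
    have hodd : Odd (p ^ a) := (hp.odd_of_ne_two hp2).pow
    refine no_chain_of_irred p hS (β₁ ^ (p ^ a)) hcop' (rMap p n hn' e)
      (rMap_one p n hn' e) (rMap_mul p n hn' e) (rMap_ne p n hn' e)
      ((fun w : ZMod p × ZMod p => (d' * w.2, w.1))^[p ^ a]) ?_ ?_
    · intro s
      exact semiconj_pow _ β₁ _ hg₁ (p ^ a) s
    · intro v k h
      exact no_eigen_odd d' hd' (p ^ a) hodd v k h

theorem supersoluble_iff [Finite S] (p : ℕ) [Fact p.Prime] (hS : IsPGroup p ↥S)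
    (hab : IsMulCommutative ↥S) :
    (∀ F : Cfsg.FusionSystem S, F.IsSaturated p →
      (∃ (m : ℕ) (c : Fin (m + 1) → Subgroup Ω), c 0 = ⊥ ∧ c (Fin.last m) = S ∧
        (∀ i : Fin (m + 1), F.StronglyClosed (c i)) ∧
        ∀ i : Fin m, c i.castSucc ≤ c i.succ ∧
          ∃ x ∈ S, c i.succ = c i.castSucc ⊔ Subgroup.zpowers x)) ↔
    ¬ ∃ (n : ℕ) (H : Type) (_ : CommGroup H), 0 < n ∧
      Nonempty (↥S ≃* (Multiplicative (ZMod (p ^ n)) × Multiplicative (ZMod (p ^ n))) × H) := by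
  constructor
  · rintro hall ⟨n, H, instH, hn, ⟨e⟩⟩
    obtain ⟨F, hF, hno⟩ := exists_bad p hS n hn e
    exact hno (hall F hF)
  · intro hno F hF
    have habS : ∀ x y : S, x * y = y * x := isMulCommutative_iff.mp hab
    have hab' : ∀ x ∈ S, ∀ y ∈ S, x * y = y * x := by
      intro x hx y hy
      exact congrArg Subtype.val (habS ⟨x, hx⟩ ⟨y, hy⟩)
    letI : CommGroup S :=
      { (inferInstance : Group S) with mul_comm := habS }
    obtain ⟨m, c, h0, hl, hc, hs⟩ := exists_chain (A := S) p hS hno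
    refine ⟨m, fun i => (c i).map S.subtype, ?_, ?_, ?_, ?_⟩
    · show (c 0).map S.subtype = ⊥
      rw [h0, Subgroup.map_bot]
    · show (c (Fin.last m)).map S.subtype = S
      rw [hl, ← MonoidHom.range_eq_map, Subgroup.range_subtype]
    · intro i
      refine ⟨?_, fun R hR φ hφ x => ?_⟩
      · rintro _ ⟨y, -, rfl⟩
        exact y.2
      · obtain ⟨α, hα, hαx⟩ := Fusion.exists_aut_extension_of_abelian p hS F hF hab' hφ
        rw [← hαx x]
        obtain ⟨y, hy, hyx⟩ := hR x.2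
        refine ⟨α ⟨x.1, Fusion.src_le F hφ x.2⟩, hc i α _ ?_, rfl⟩
        have : (⟨x.1, Fusion.src_le F hφ x.2⟩ : S) = y := Subtype.ext hyx.symm
        rw [this]
        exact hy
    · intro i
      obtain ⟨hle, x₀, hx₀⟩ := hs i
      refine ⟨Subgroup.map_mono hle, (x₀ : Ω), x₀.2, ?_⟩
      show (c i.succ).map S.subtype = (c i.castSucc).map S.subtype ⊔ Subgroup.zpowers (x₀ : Ω)
      rw [hx₀, Subgroup.map_sup, MonoidHom.map_zpowers]
      rfl

end Cfsg.Agent.Lead.SuperSol
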