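import Mathlib
import Cfsg.Agent.Lead.FusionNilp

/-!
# Automorphism groups preserving a chain with cyclic factors
-/

set_option autoImplicit false

namespace Cfsg.Agent.Lead.SuperSol

open Cfsg.Agent.Lead

open scoped commutatorElement

theorem pow_pred_modEq_one (p : ℕ) [Fact p.Prime] (e n u : ℕ) (hn : n.Coprime p) (hn0 : 0 < n)
    (h : u ^ n ≡ 1 [MOD p ^ e]) : u ^ (p - 1) ≡ 1 [MOD p ^ e] := by
  have hp : p.Prime := Fact.out
  rcases Nat.eq_zero_or_pos e with rfl | he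
  · rw [pow_zero]
    exact Nat.modEq_one
  have hcop : Nat.Coprime u (p ^ e) := by
    have h1 : Nat.gcd (u ^ n) (p ^ e) = Nat.gcd 1 (p ^ e) := Nat.ModEq.gcd_eq h
    rw [Nat.gcd_one_left] at h1
    exact Nat.Coprime.coprime_dvd_left (dvd_pow_self u hn0.ne') h1
  obtain ⟨w, hw⟩ : ∃ w : (ZMod (p ^ e))ˣ, w = ZMod.unitOfCoprime u hcop := ⟨_, rfl⟩
  have hwu : ((w : (ZMod (p ^ e))ˣ) : ZMod (p ^ e)) = (u : ZMod (p ^ e)) := by
    rw [hw, ZMod.coe_unitOfCoprime]
  have h1 : w ^ n = 1 := by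
    apply Units.ext
    rw [Units.val_pow_eq_pow_val, hwu, Units.val_one, ← Nat.cast_pow]
    have := (ZMod.natCast_eq_natCast_iff (u ^ n) 1 (p ^ e)).2 h
    rw [this, Nat.cast_one]
  have h2 : w ^ Nat.totient (p ^ e) = 1 := ZMod.pow_totient w
  rw [Nat.totient_prime_pow hp he] at h2
  have hd1 : orderOf w ∣ n := orderOf_dvd_of_pow_eq_one h1
  have hd2 : orderOf w ∣ p ^ (e - 1) * (p - 1) := orderOf_dvd_of_pow_eq_one h2
  have hc : Nat.Coprime (orderOf w) (p ^ (e - 1)) :=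
    Nat.Coprime.coprime_dvd_left hd1 (Nat.Coprime.pow_right _ hn)
  have hd3 : orderOf w ∣ p - 1 := by
    rw [mul_comm] at hd2
    exact Nat.Coprime.dvd_of_dvd_mul_right hc hd2
  have h3 : w ^ (p - 1) = 1 := orderOf_dvd_iff_pow_eq_one.mp hd3
  have h4 : ((u ^ (p - 1) : ℕ) : ZMod (p ^ e)) = ((1 : ℕ) : ZMod (p ^ e)) := by
    rw [Nat.cast_pow, ← hwu, ← Units.val_pow_eq_pow_val, h3, Units.val_one, Nat.cast_one]
  exact (ZMod.natCast_eq_natCast_iff _ _ _).1 h4

section step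

variable {P : Type*} [Group P]

/-- `M` is generated by `x₀` modulo `N` -/
def GenMod (N M : Subgroup P) (x₀ : P) : Prop :=
  x₀ ∈ M ∧ ∀ x ∈ M, ∃ j : ℤ, (x₀ ^ j)⁻¹ * x ∈ N

variable (N M : Subgroup P) [N.Normal]

theorem mk_eq_zpow_of_genMod {x₀ : P} (h : GenMod N M x₀) {x : P} (hx : x ∈ M) :
    ∃ j : ℤ, QuotientGroup.mk' N x = (QuotientGroup.mk' N x₀) ^ j := by
  obtain ⟨j, hj⟩ := h.2 x hx
  refine ⟨j, ?_⟩
  rw [← map_zpow]
  exact ((QuotientGroup.eq (s := N)).2 hj).symm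

theorem exists_pow_action [Finite P] {x₀ : P} (h : GenMod N M x₀) (g : MulAut P)
    (hgN : ∀ x ∈ N, g x ∈ N) (hgM : ∀ x ∈ M, g x ∈ M) :
    ∃ u : ℕ, ∀ x ∈ M, QuotientGroup.mk' N (g x) = (QuotientGroup.mk' N x) ^ u := by
  obtain ⟨j₀, hj₀⟩ := mk_eq_zpow_of_genMod N M h (hgM x₀ h.1)
  have hcpos : (0 : ℤ) < (Nat.card (P ⧸ N) : ℤ) := by exact_mod_cast Nat.card_pos
  have hu : ∀ y : P ⧸ N, y ^ j₀ = y ^ (j₀ % (Nat.card (P ⧸ N) : ℤ)).toNat := by
    intro y
    rw [← zpow_natCast, Int.toNat_of_nonneg (Int.emod_nonneg _ hcpos.ne'), zpow_mod_natCard]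
  refine ⟨(j₀ % (Nat.card (P ⧸ N) : ℤ)).toNat, fun x hx => ?_⟩
  obtain ⟨j, hj⟩ := h.2 x hx
  have hxj : QuotientGroup.mk' N x = (QuotientGroup.mk' N x₀) ^ j := by
    rw [← map_zpow]
    exact ((QuotientGroup.eq (s := N)).2 hj).symm
  have hx' : x = x₀ ^ j * ((x₀ ^ j)⁻¹ * x) := by group
  have hgn : QuotientGroup.mk' N (g ((x₀ ^ j)⁻¹ * x)) = 1 :=
    (QuotientGroup.eq_one_iff _).2 (hgN _ hj)
  rw [← hu]
  calc QuotientGroup.mk' N (g x)
      = QuotientGroup.mk' N (g (x₀ ^ j * ((x₀ ^ j)⁻¹ * x))) := by rw [← hx']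
    _ = (QuotientGroup.mk' N (g x₀)) ^ j * QuotientGroup.mk' N (g ((x₀ ^ j)⁻¹ * x)) := by
        rw [map_mul, map_mul, map_zpow, map_zpow]
    _ = ((QuotientGroup.mk' N x₀) ^ j₀) ^ j := by rw [hgn, mul_one, hj₀]
    _ = ((QuotientGroup.mk' N x₀) ^ j) ^ j₀ := by rw [← zpow_mul, ← zpow_mul, mul_comm]
    _ = (QuotientGroup.mk' N x) ^ j₀ := by rw [hxj]

theorem comm_triv [Finite P] {x₀ : P} (h : GenMod N M x₀) (G : Subgroup (MulAut P))
    (hGN : ∀ f ∈ G, ∀ x ∈ N, f x ∈ N) (hGM : ∀ f ∈ G, ∀ x ∈ M, f x ∈ M)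
    (g k : MulAut P) (hg : g ∈ G) (hk : k ∈ G) (x : P) (hx : x ∈ M) :
    x⁻¹ * ⁅g, k⁆ x ∈ N := by
  obtain ⟨u, hu⟩ := exists_pow_action N M h g (hGN g hg) (hGM g hg)
  obtain ⟨v, hv⟩ := exists_pow_action N M h k (hGN k hk) (hGM k hk)
  have hy : (k * g)⁻¹ x ∈ M := hGM _ (G.inv_mem (G.mul_mem hk hg)) x hx
  have h1 : ⁅g, k⁆ x = g (k ((k * g)⁻¹ x)) := by
    rw [commutatorElement_def, mul_inv_rev]
    rfl
  have h2 : x = k (g ((k * g)⁻¹ x)) := by
    have : (k * g) ((k * g)⁻¹ x) = x := by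
      rw [← MulAut.mul_apply, mul_inv_cancel, MulAut.one_apply]
    exact this.symm
  apply (QuotientGroup.eq (s := N)).1
  have e1 : QuotientGroup.mk' N (⁅g, k⁆ x) =
      ((QuotientGroup.mk' N ((k * g)⁻¹ x)) ^ v) ^ u := by
    rw [h1, hu _ (hGM k hk _ hy), hv _ hy]
  have e2 : QuotientGroup.mk' N x = ((QuotientGroup.mk' N ((k * g)⁻¹ x)) ^ u) ^ v := by
    conv_lhs => rw [h2]
    rw [hv _ (hGM g hg _ hy), hu _ hy]
  show QuotientGroup.mk' N x = QuotientGroup.mk' N (⁅g, k⁆ x)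
  rw [e1, e2, ← pow_mul, ← pow_mul, mul_comm]

theorem pow_pred_triv [Finite P] (p : ℕ) [Fact p.Prime] (hP : IsPGroup p P) {x₀ : P}
    (h : GenMod N M x₀) (g : MulAut P) (hg : (orderOf g).Coprime p)
    (hgN : ∀ x ∈ N, g x ∈ N) (hgM : ∀ x ∈ M, g x ∈ M) (x : P) (hx : x ∈ M) :
    x⁻¹ * (g ^ (p - 1)) x ∈ N := by
  obtain ⟨u, hu⟩ := exists_pow_action N M h g hgN hgM
  have hkM : ∀ k : ℕ, ∀ y ∈ M, (g ^ k) y ∈ M := by
    intro k
    induction k with
    | zero => intro y hy; simpa using hy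
    | succ k ih =>
      intro y hy
      rw [pow_succ', MulAut.mul_apply]
      exact hgM _ (ih y hy)
  have hk : ∀ k : ℕ, ∀ y ∈ M,
      QuotientGroup.mk' N ((g ^ k) y) = (QuotientGroup.mk' N y) ^ (u ^ k) := by
    intro k
    induction k with
    | zero => intro y _; simp
    | succ k ih =>
      intro y hy
      rw [pow_succ', MulAut.mul_apply, hu _ (hkM k y hy), ih y hy, ← pow_mul, ← pow_succ]
  haveI : Finite (MulAut P) := Finite.of_injective (fun α : MulAut P => (α : P → P))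
    (fun a b h => DFunLike.coe_injective h)
  have hn0 : 0 < orderOf g := orderOf_pos g
  have h1 : (QuotientGroup.mk' N x₀) ^ (u ^ orderOf g) = (QuotientGroup.mk' N x₀) ^ 1 := by
    rw [← hk _ x₀ h.1, pow_orderOf_eq_one, MulAut.one_apply, pow_one]
  rw [pow_eq_pow_iff_modEq] at h1
  have hQ : IsPGroup p (P ⧸ N) := hP.to_quotient N
  obtain ⟨e, he⟩ := (IsPGroup.iff_orderOf.mp hQ) (QuotientGroup.mk' N x₀)
  rw [he] at h1
  have h2 := pow_pred_modEq_one p e (orderOf g) u hg hn0 h1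
  rw [← he, ← pow_eq_pow_iff_modEq, pow_one] at h2
  apply (QuotientGroup.eq (s := N)).1
  show QuotientGroup.mk' N x = QuotientGroup.mk' N ((g ^ (p - 1)) x)
  obtain ⟨j, hj⟩ := mk_eq_zpow_of_genMod N M h hx
  rw [hk _ x hx, hj, ← zpow_natCast, ← zpow_mul, mul_comm, zpow_mul, zpow_natCast, h2]

end step

section chain

variable {P : Type*} [Group P]

theorem eq_one_of_triv (p : ℕ) [Fact p.Prime] (hP : IsPGroup p P) {m : ℕ}
    (c : Fin (m + 1) → Subgroup P) (h0 : c 0 = ⊥) (hl : c (Fin.last m) = ⊤)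
    (g : MulAut P) (hg : (orderOf g).Coprime p)
    (htriv : ∀ i : Fin m, ∀ x ∈ c i.succ, x⁻¹ * g x ∈ c i.castSucc) : g = 1 := by
  have key : ∀ i : Fin (m + 1), ∀ x ∈ c i, g x = x := by
    intro i
    induction i using Fin.induction with
    | zero =>
      intro x hx
      rw [h0, Subgroup.mem_bot] at hx
      rw [hx, map_one]
    | succ i ih =>
      intro x hx
      have hz := htriv i x hx
      have h1 : g (x⁻¹ * g x) = x⁻¹ * g x := ih _ hz
      have h2 : g x = x * (x⁻¹ * g x) := by group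
      have h3 := eq_one_of_coprime_aut p hP g hg x (x⁻¹ * g x) h2 h1
      rw [h2, h3, mul_one]
  ext x
  rw [MulAut.one_apply]
  exact key (Fin.last m) x (by rw [hl]; exact Subgroup.mem_top x)

theorem chain_main [Finite P] (p : ℕ) [Fact p.Prime] (hP : IsPGroup p P) {m : ℕ}
    (c : Fin (m + 1) → Subgroup P) (h0 : c 0 = ⊥) (hl : c (Fin.last m) = ⊤)
    (hnorm : ∀ i, (c i).Normal)
    (hcyc : ∀ i : Fin m, ∃ x₀, GenMod (c i.castSucc) (c i.succ) x₀)
    (G : Subgroup (MulAut P)) (hG : ∀ g ∈ G, ∀ i, ∀ x ∈ c i, g x ∈ c i) :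
    (∃ R : Sylow p G, (R : Subgroup G).Normal) ∧
      ((Nat.card G).Coprime p → (∀ g ∈ G, ∀ k ∈ G, g * k = k * g) ∧ ∀ g ∈ G, g ^ (p - 1) = 1) := by
  haveI : Finite (MulAut P) := Finite.of_injective (fun α : MulAut P => (α : P → P))
    (fun a b h => DFunLike.coe_injective h)
  have hcomm : ∀ g ∈ G, ∀ k ∈ G, ∀ i : Fin m, ∀ x ∈ c i.succ, x⁻¹ * ⁅g, k⁆ x ∈ c i.castSucc := by
    intro g hg k hk i x hx
    haveI := hnorm i.castSucc
    obtain ⟨x₀, hx₀⟩ := hcyc i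
    exact comm_triv (c i.castSucc) (c i.succ) hx₀ G (fun f hf => hG f hf i.castSucc)
      (fun f hf => hG f hf i.succ) g k hg hk x hx
  constructor
  · -- the stabilizer of the factors
    let C : Subgroup (MulAut P) :=
      { carrier := {g | g ∈ G ∧ ∀ i : Fin m, ∀ x ∈ c i.succ, x⁻¹ * g x ∈ c i.castSucc}
        one_mem' := ⟨G.one_mem, fun i x _ => by
          rw [MulAut.one_apply, inv_mul_cancel]; exact (c i.castSucc).one_mem⟩
        mul_mem' := by
          rintro g k ⟨hg, hg'⟩ ⟨hk, hk'⟩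
          refine ⟨G.mul_mem hg hk, fun i x hx => ?_⟩
          have h1 := hk' i x hx
          have h2 := hG g hg i.castSucc _ h1
          have h3 := hg' i x hx
          have : x⁻¹ * (g * k) x = x⁻¹ * g x * g (x⁻¹ * k x) := by
            rw [MulAut.mul_apply, map_mul, map_inv]
            group
          rw [this]
          exact (c i.castSucc).mul_mem h3 h2
        inv_mem' := by
          rintro g ⟨hg, hg'⟩
          refine ⟨G.inv_mem hg, fun i x hx => ?_⟩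
          have hy : g⁻¹ x ∈ c i.succ := hG _ (G.inv_mem hg) i.succ x hx
          have h1 := hg' i _ hy
          rw [MulAut.apply_inv_self] at h1
          have := (c i.castSucc).inv_mem h1
          rwa [mul_inv_rev, inv_inv] at this }
    have hCG : C ≤ G := fun g hg => hg.1
    have hCp : IsPGroup p C := by
      apply isPGroup_of_coprime_eq_one
      intro β hβ
      have hβ' : (orderOf (β : MulAut P)).Coprime p := by
        rwa [Subgroup.orderOf_coe]
      exact Subtype.ext (eq_one_of_triv p hP c h0 hl β.1 hβ' β.2.2)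
    have hcommG : ∀ g ∈ G, ∀ k ∈ G, ⁅g, k⁆ ∈ G := by
      intro g hg k hk
      rw [commutatorElement_def]
      exact G.mul_mem (G.mul_mem (G.mul_mem hg hk) (G.inv_mem hg)) (G.inv_mem hk)
    have hcommC : ∀ g ∈ G, ∀ k ∈ G, ⁅g, k⁆ ∈ C := fun g hg k hk =>
      ⟨hcommG g hg k hk, hcomm g hg k hk⟩
    haveI hCn : (C.subgroupOf G).Normal := by
      constructor
      intro γ hγ g
      rw [Subgroup.mem_subgroupOf] at hγ ⊢
      have : ((g * γ * g⁻¹ : G) : MulAut P) = ⁅(g : MulAut P), (γ : MulAut P)⁆ * γ := by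
        rw [commutatorElement_def]
        push_cast
        group
      rw [this]
      exact C.mul_mem (hcommC _ g.2 _ γ.2) hγ
    have hCp' : IsPGroup p (C.subgroupOf G) := hCp.comap_subtype
    obtain ⟨R⟩ := (inferInstance : Nonempty (Sylow p G))
    have hle : C.subgroupOf G ≤ R := hCp'.le_sylow_of_normal R
    refine ⟨R, ⟨fun r hr g => ?_⟩⟩
    have : g * r * g⁻¹ = ⁅g, r⁆ * r := by
      rw [commutatorElement_def]
      group
    rw [this]
    refine (R : Subgroup G).mul_mem (hle ?_) hr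
    rw [Subgroup.mem_subgroupOf]
    have : ((⁅g, r⁆ : G) : MulAut P) = ⁅(g : MulAut P), (r : MulAut P)⁆ := rfl
    rw [this]
    exact hcommC _ g.2 _ r.2
  · intro hcop
    have hord : ∀ g ∈ G, (orderOf g).Coprime p := fun g hg =>
      Nat.Coprime.coprime_dvd_left (Subgroup.orderOf_dvd_natCard G hg) hcop
    have hcommG : ∀ g ∈ G, ∀ k ∈ G, ⁅g, k⁆ ∈ G := by
      intro g hg k hk
      rw [commutatorElement_def]
      exact G.mul_mem (G.mul_mem (G.mul_mem hg hk) (G.inv_mem hg)) (G.inv_mem hk)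
    refine ⟨fun g hg k hk => ?_, fun g hg => ?_⟩
    · have := eq_one_of_triv p hP c h0 hl ⁅g, k⁆ (hord _ (hcommG g hg k hk)) (hcomm g hg k hk)
      exact commutatorElement_eq_one_iff_mul_comm.mp this
    · apply eq_one_of_triv p hP c h0 hl (g ^ (p - 1)) (hord _ (G.pow_mem hg _))
      intro i x hx
      haveI := hnorm i.castSucc
      obtain ⟨x₀, hx₀⟩ := hcyc i
      exact pow_pred_triv (c i.castSucc) (c i.succ) p hP hx₀ g (hord g hg)
        (hG g hg i.castSucc) (hG g hg i.succ) x hx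

end chain

end Cfsg.Agent.Lead.SuperSol
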