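import Mathlib
import Cfsg.Prelude.Def_FusionSystem
import Cfsg.Agent.Lead.FusionAutSys
import Cfsg.Agent.Lead.SuperSolF
import Cfsg.Agent.Lead.FusionOmegaChain
import Cfsg.Agent.Lead.FusionResistant

/-!
# Consequences of a chain of strongly closed subgroups with cyclic steps
-/

set_option autoImplicit false

namespace Cfsg.Agent.Lead.SuperSol

open Cfsg Cfsg.FusionSystem Cfsg.Agent.Lead Cfsg.Agent.Lead.AutSys

variable {Ω : Type*} [Group Ω] {S : Subgroup Ω}

theorem autSys_saturated' (T : Subgroup Ω) [Finite T] (p : ℕ) [Fact p.Prime] (hT : IsPGroup p T)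
    (K : Subgroup (MulAut T)) (hK : (Nat.card K).Coprime p) :
    (autSys T (Inn T ⊔ K) le_sup_left).IsSaturated p := by
  haveI : Finite (MulAut T) := Finite.of_injective (fun α : MulAut T => (α : T → T))
    (fun a b h => DFunLike.coe_injective h)
  haveI : Finite (T ⋊[K.subtype] K) := Finite.of_equiv _ SemidirectProduct.equivProd.symm
  have hcard : Nat.card (T ⋊[K.subtype] K) = Nat.card T * Nat.card K := by
    rw [Nat.card_congr SemidirectProduct.equivProd, Nat.card_prod]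
  have hrange : Nat.card (SemidirectProduct.inl : T →* T ⋊[K.subtype] K).range = Nat.card T :=
    Nat.card_congr (MonoidHom.ofInjective SemidirectProduct.inl_injective).symm.toEquiv
  have hidx : (SemidirectProduct.inl : T →* T ⋊[K.subtype] K).range.index = Nat.card K := by
    have := Subgroup.card_mul_index (SemidirectProduct.inl : T →* T ⋊[K.subtype] K).range
    rw [hcard, hrange] at this
    exact Nat.eq_of_mul_eq_mul_left Nat.card_pos this
  have hpg : IsPGroup p (SemidirectProduct.inl : T →* T ⋊[K.subtype] K).range :=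
    hT.of_surjective _ (MonoidHom.rangeRestrict_surjective _)
  have hnd : ¬ p ∣ (SemidirectProduct.inl : T →* T ⋊[K.subtype] K).range.index := by
    rw [hidx]
    exact fun h => (Nat.Prime.coprime_iff_not_dvd Fact.out).1 hK.symm h
  exact Fusion.isSaturated_of_isRealizedBy p _ _ (autSys_isRealizedBy T K) (hpg.toSylow hnd)
    (IsPGroup.toSylow_coe hpg hnd)

theorem genMod_of_step (N C P : Subgroup Ω) (hPS : P ≤ S) (hNS : N ≤ S)
    (hNn : ∀ s ∈ S, ∀ n ∈ N, s * n * s⁻¹ ∈ N) (x₁ : Ω) (hx₁ : x₁ ∈ S)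
    (hC : C = N ⊔ Subgroup.zpowers x₁) :
    ∃ x₀ : P, GenMod (N.subgroupOf P) (C.subgroupOf P) x₀ := by
  haveI hN' : (N.subgroupOf S).Normal := by
    constructor
    intro n hn g
    rw [Subgroup.mem_subgroupOf] at hn ⊢
    exact hNn g.1 g.2 n.1 hn
  obtain ⟨π, hπ⟩ : ∃ π : S →* S ⧸ N.subgroupOf S, π = QuotientGroup.mk' (N.subgroupOf S) :=
    ⟨_, rfl⟩
  obtain ⟨y₁, hy₁⟩ : ∃ y₁ : S ⧸ N.subgroupOf S, y₁ = π ⟨x₁, hx₁⟩ := ⟨_, rfl⟩
  have hkey : ∀ d : S, d.1 ∈ C → π d ∈ Subgroup.zpowers y₁ := by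
    intro d hd
    have hle : C ≤ ((Subgroup.zpowers y₁).comap π).map S.subtype := by
      rw [hC]
      apply sup_le
      · intro n hn
        refine ⟨⟨n, hNS hn⟩, ?_, rfl⟩
        show π ⟨n, _⟩ ∈ Subgroup.zpowers y₁
        have : π ⟨n, hNS hn⟩ = 1 := by
          rw [hπ]
          exact (QuotientGroup.eq_one_iff _).2 (Subgroup.mem_subgroupOf.2 hn)
        rw [this]
        exact Subgroup.one_mem _
      · rw [Subgroup.zpowers_le]
        refine ⟨⟨x₁, hx₁⟩, ?_, rfl⟩
        show π ⟨x₁, hx₁⟩ ∈ Subgroup.zpowers y₁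
        rw [← hy₁]
        exact Subgroup.mem_zpowers y₁
    obtain ⟨s, hs, hsd⟩ := hle hd
    have : s = d := Subtype.ext hsd
    rw [← this]
    exact hs
  obtain ⟨D, hDdef⟩ : ∃ D : Subgroup S, D = (C.subgroupOf P).map (Subgroup.inclusion hPS) :=
    ⟨_, rfl⟩
  have hD : D.map π ≤ Subgroup.zpowers y₁ := by
    rw [hDdef]
    rintro _ ⟨d, ⟨x, hx, rfl⟩, rfl⟩
    exact hkey _ (Subgroup.mem_subgroupOf.1 hx)
  haveI : IsCyclic ↥(D.map π) := Subgroup.isCyclic_of_le hD
  obtain ⟨g, hg⟩ := IsCyclic.exists_generator (α := ↥(D.map π))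
  obtain ⟨d, hdD, hdg⟩ := g.2
  rw [hDdef] at hdD
  obtain ⟨x₀, hx₀, rfl⟩ := hdD
  refine ⟨x₀, hx₀, fun x hx => ?_⟩
  have hxD : π (Subgroup.inclusion hPS x) ∈ D.map π := by
    rw [hDdef]
    exact ⟨_, ⟨x, hx, rfl⟩, rfl⟩
  obtain ⟨j, hj⟩ := Subgroup.mem_zpowers_iff.1 (hg ⟨_, hxD⟩)
  refine ⟨j, ?_⟩
  have h1 : π ((Subgroup.inclusion hPS x₀) ^ j) = π (Subgroup.inclusion hPS x) := by
    rw [map_zpow, hdg]
    have := congrArg Subtype.val hj
    rw [Subgroup.coe_zpow] at this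
    exact this
  rw [hπ] at h1
  have h2 := (QuotientGroup.eq (s := N.subgroupOf S)).1 h1
  rw [Subgroup.mem_subgroupOf] at h2 ⊢
  exact h2

/-- the chain property of the statement -/
def HasChain (F : FusionSystem S) : Prop :=
  ∃ (m : ℕ) (c : Fin (m + 1) → Subgroup Ω), c 0 = ⊥ ∧ c (Fin.last m) = S ∧
    (∀ i : Fin (m + 1), F.StronglyClosed (c i)) ∧
    ∀ i : Fin m, c i.castSucc ≤ c i.succ ∧
      ∃ x ∈ S, c i.succ = c i.castSucc ⊔ Subgroup.zpowers x

theorem autGroup_of_hasChain [Finite S] (p : ℕ) [Fact p.Prime] (hS : IsPGroup p S)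
    (F : FusionSystem S) (hch : HasChain F) (P : Subgroup Ω) (hPS : P ≤ S) :
    (∃ R : Sylow p (F.autGroup P), (R : Subgroup (F.autGroup P)).Normal) ∧
      ((Nat.card (F.autGroup P)).Coprime p →
        (∀ g ∈ F.autGroup P, ∀ k ∈ F.autGroup P, g * k = k * g) ∧
          ∀ g ∈ F.autGroup P, g ^ (p - 1) = 1) := by
  obtain ⟨m, c, h0, hl, hsc, hstep⟩ := hch
  haveI : Finite P := Fusion.finite_of_le hPS
  apply chain_main p (hS.to_le hPS) (fun i => (c i).subgroupOf P)
  · show (c 0).subgroupOf P = ⊥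
    rw [h0, Subgroup.bot_subgroupOf]
  · show (c (Fin.last m)).subgroupOf P = ⊤
    rw [hl, Subgroup.subgroupOf_eq_top]
    exact hPS
  · intro i
    constructor
    intro n hn g
    rw [Subgroup.mem_subgroupOf] at hn ⊢
    exact Fusion.conj_mem_of_stronglyClosed F (hsc i) (hPS g.2) hn
  · intro i
    obtain ⟨-, x₁, hx₁, hC⟩ := hstep i
    exact genMod_of_step (c i.castSucc) (c i.succ) P hPS (hsc i.castSucc).1
      (fun s hs n hn => Fusion.conj_mem_of_stronglyClosed F (hsc i.castSucc) hs hn) x₁ hx₁ hC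
  · intro g hg i x hx
    rw [Subgroup.mem_subgroupOf] at hx ⊢
    have hφ := (Fusion.mem_autGroup_iff F hPS g).mp hg
    have hφ' := Fusion.restrict_mem F hφ (inf_le_left : P ⊓ c i ≤ P)
    exact (hsc i).2 (P ⊓ c i) inf_le_right _ hφ' ⟨x.1, ⟨x.2, hx⟩⟩

/-- a system with a chain has `S` normal -/
theorem isNormal_top_of_hasChain [Finite S] (p : ℕ) [Fact p.Prime] (hS : IsPGroup p S)
    (F : FusionSystem S) (hF : F.IsSaturated p) (hch : HasChain F) : F.IsNormal S := by
  apply Fusion.top_isNormal_of_normal_sylow p hS F hF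
  intro P hP _ _
  exact (autGroup_of_hasChain p hS F hch P hP.1).1

/-- if all saturated systems have chains, then `p'`-subgroups of `Aut(S)` are abelian of exponent
dividing `p - 1` -/
theorem coprime_subgroup_of_hasChain [Finite S] (p : ℕ) [Fact p.Prime] (hS : IsPGroup p S)
    (hall : ∀ F : FusionSystem S, F.IsSaturated p → HasChain F)
    (H : Subgroup (MulAut S)) (hH : (Nat.card H).Coprime p) :
    (∀ g ∈ H, ∀ k ∈ H, g * k = k * g) ∧ ∀ g ∈ H, g ^ (p - 1) = 1 := by
  have hsat := autSys_saturated' S p hS H hH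
  have hch := hall _ hsat
  obtain ⟨m, c, h0, hl, hsc, hstep⟩ := hch
  have hHle : ∀ g ∈ H, ∀ i, ∀ x ∈ (c i).subgroupOf S, g x ∈ (c i).subgroupOf S := by
    intro g hg i x hx
    rw [Subgroup.mem_subgroupOf] at hx ⊢
    have hcS : c i ≤ S := (hsc i).1
    have hφ : (S.subtype.comp (g.toMonoidHom.comp (Subgroup.inclusion hcS))) ∈
        (autSys S (Inn S ⊔ H) le_sup_left).Hom (c i) := by
      rw [mem_autSys]
      exact ⟨hcS, g, Subgroup.mem_sup_right hg, fun _ => rfl⟩
    exact (hsc i).2 (c i) le_rfl _ hφ ⟨x.1, hx⟩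
  have := chain_main p hS (fun i => (c i).subgroupOf S)
    (by show (c 0).subgroupOf S = ⊥; rw [h0, Subgroup.bot_subgroupOf])
    (by show (c (Fin.last m)).subgroupOf S = ⊤; rw [hl, Subgroup.subgroupOf_eq_top])
    (by
      intro i
      constructor
      intro n hn g
      rw [Subgroup.mem_subgroupOf] at hn ⊢
      exact Fusion.conj_mem_of_stronglyClosed _ (hsc i) g.2 hn)
    (by
      intro i
      obtain ⟨-, x₁, hx₁, hC⟩ := hstep i
      exact genMod_of_step (c i.castSucc) (c i.succ) S le_rfl (hsc i.castSucc).1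
        (fun s hs n hn => Fusion.conj_mem_of_stronglyClosed _ (hsc i.castSucc) hs hn) x₁ hx₁ hC)
    H hHle
  exact this.2 hH

end Cfsg.Agent.Lead.SuperSol
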