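import Mathlib

/-!
# An eigenvector for an operator of exponent `p - 1` on an elementary abelian `p`-group
-/

set_option autoImplicit false

namespace Cfsg.Agent.Lead.SuperSol

open Polynomial

theorem exists_eigen_mod {W : Type*} [AddCommGroup W] [Finite W] (p : ℕ) [Fact p.Prime]
    [Module (ZMod p) W] (hnt : ∃ w : W, w ≠ 0)
    (k : W →+ W) (hk : ∀ w, k^[p - 1] w = w) : ∃ w : W, w ≠ 0 ∧ ∃ a : ℕ, k w = a • w := by
  have hp : p.Prime := Fact.out
  obtain ⟨f, hf⟩ : ∃ f : Module.End (ZMod p) W, f = k.toZModLinearMap p := ⟨_, rfl⟩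
  have hfk : ∀ w, f w = k w := by
    intro w
    rw [hf]
    rfl
  have hiter : ∀ (n : ℕ) (w : W), (f ^ n) w = k^[n] w := by
    intro n
    induction n with
    | zero => intro w; simp
    | succ n ih =>
      intro w
      rw [pow_succ, Module.End.mul_apply, ih, hfk, Function.iterate_succ_apply]
  have hfpow : f ^ (p - 1) = 1 := by
    apply LinearMap.ext
    intro w
    rw [hiter, hk, Module.End.one_apply]
  have haeval : aeval f (X ^ (p - 1) - 1 : (ZMod p)[X]) = 0 := by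
    rw [map_sub, map_pow, aeval_X, map_one, hfpow, sub_self]
  have hdvd1 : minpoly (ZMod p) f ∣ (X ^ (p - 1) - 1 : (ZMod p)[X]) := minpoly.dvd _ _ haeval
  have hdvd2 : (X ^ (p - 1) - 1 : (ZMod p)[X]) ∣ X ^ p - X := by
    refine ⟨X, ?_⟩
    obtain ⟨q, hq⟩ : ∃ q, p = q + 1 := ⟨p - 1, (Nat.sub_add_cancel hp.pos).symm⟩
    have e1 : p - 1 = q := by omega
    have e2 : (X : (ZMod p)[X]) ^ p = X ^ (q + 1) := by rw [← hq]
    rw [e1, e2, pow_succ]
    ring
  have hne : (X ^ p - X : (ZMod p)[X]) ≠ 0 := FiniteField.X_pow_card_sub_X_ne_zero (ZMod p) hp.one_lt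
  have hsplit : (minpoly (ZMod p) f).Splits :=
    (GaloisField.splits_zmod_X_pow_sub_X p).of_dvd hne (dvd_trans hdvd1 hdvd2)
  haveI : Module.Finite (ZMod p) W := Module.Finite.of_finite
  have hint : IsIntegral (ZMod p) f := Algebra.IsIntegral.isIntegral f
  haveI : Nontrivial W := by
    obtain ⟨w, hw⟩ := hnt
    exact ⟨⟨w, 0, hw⟩⟩
  have hdeg : (minpoly (ZMod p) f).degree ≠ 0 := by
    have := minpoly.degree_pos hint
    exact this.ne'
  obtain ⟨μ, hμ⟩ := hsplit.exists_eval_eq_zero hdeg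
  have hev : f.HasEigenvalue μ := Module.End.hasEigenvalue_of_isRoot hμ
  obtain ⟨w, hw⟩ := hev.exists_hasEigenvector
  refine ⟨w, hw.2, μ.val, ?_⟩
  rw [← hfk, hw.apply_eq_smul]
  have : μ = ((μ.val : ℕ) : ZMod p) := (ZMod.natCast_zmod_val μ).symm
  conv_lhs => rw [this]
  exact Nat.cast_smul_eq_nsmul (ZMod p) μ.val w

theorem exists_eigen_add {W : Type*} [AddCommGroup W] [Finite W] (p : ℕ) [Fact p.Prime]
    (hW : ∀ w : W, p • w = 0) (hnt : ∃ w : W, w ≠ 0)
    (k : W →+ W) (hk : ∀ w, k^[p - 1] w = w) : ∃ w : W, w ≠ 0 ∧ ∃ a : ℕ, k w = a • w :=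
  @exists_eigen_mod W _ _ p _ (AddCommGroup.zmodModule hW) hnt k hk

theorem exists_eigen {V : Type*} [CommGroup V] [Finite V] (p : ℕ) [Fact p.Prime]
    (hV : ∀ v : V, v ^ p = 1) (hnt : ∃ v : V, v ≠ 1)
    (k : V →* V) (hk : ∀ v, k^[p - 1] v = v) : ∃ v : V, v ≠ 1 ∧ ∃ a : ℕ, k v = v ^ a := by
  have hiter : ∀ (n : ℕ) (w : Additive V),
      (MonoidHom.toAdditive k)^[n] w = Additive.ofMul (k^[n] (Additive.toMul w)) := by
    intro n
    induction n with
    | zero => intro w; rfl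
    | succ n ih =>
      intro w
      rw [Function.iterate_succ_apply, ih, Function.iterate_succ_apply]
      rfl
  obtain ⟨w, hw, a, ha⟩ := exists_eigen_add (W := Additive V) p
    (fun w => by
      show Additive.ofMul ((Additive.toMul w) ^ p) = 0
      rw [hV]
      rfl)
    (by
      obtain ⟨v, hv⟩ := hnt
      exact ⟨Additive.ofMul v, fun h => hv h⟩)
    (MonoidHom.toAdditive k)
    (fun w => by rw [hiter, hk]; rfl)
  exact ⟨Additive.toMul w, fun h => hw h, a, ha⟩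

end Cfsg.Agent.Lead.SuperSol
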