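import Mathlib
import Cfsg.Agent.Lead.SuperSolH

/-!
# Invariant chains with cyclic steps for `Inn(P) K`, `K` abelian of exponent dividing `p - 1`
-/

set_option autoImplicit false

namespace Cfsg.Agent.Lead.SuperSol

theorem exists_eigen' {V : Type*} [Group V] [Finite V] (hcomm : ∀ a b : V, a * b = b * a) (p : ℕ)
    [Fact p.Prime] (hV : ∀ v : V, v ^ p = 1) (hnt : ∃ v : V, v ≠ 1)
    (k : V →* V) (hk : ∀ v, k^[p - 1] v = v) : ∃ v : V, v ≠ 1 ∧ ∃ a : ℕ, k v = v ^ a := by
  letI : CommGroup V := { (inferInstance : Group V) with mul_comm := hcomm }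
  exact exists_eigen p hV hnt k hk

section quot

variable {P : Type*} [Group P] (N : Subgroup P) [N.Normal]

/-- the induced map on the quotient -/
def barMap (k : MulAut P) (hk : ∀ x ∈ N, k x ∈ N) : P ⧸ N →* P ⧸ N :=
  QuotientGroup.map N N k.toMonoidHom (fun x hx => hk x hx)

theorem barMap_mk (k : MulAut P) (hk : ∀ x ∈ N, k x ∈ N) (y : P) :
    barMap N k hk (QuotientGroup.mk' N y) = QuotientGroup.mk' N (k y) := rfl

theorem barMap_iterate_mk (k : MulAut P) (hk : ∀ x ∈ N, k x ∈ N) (n : ℕ) (y : P) :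
    (barMap N k hk)^[n] (QuotientGroup.mk' N y) = QuotientGroup.mk' N ((k ^ n) y) := by
  induction n generalizing y with
  | zero => simp
  | succ n ih =>
    rw [Function.iterate_succ_apply, barMap_mk, ih, pow_succ, MulAut.mul_apply]

end quot

/-- central elements of order dividing `p` -/
def omegaCenter (p : ℕ) (Q : Type*) [Group Q] : Subgroup Q where
  carrier := {v | v ∈ Subgroup.center Q ∧ v ^ p = 1}
  one_mem' := ⟨Subgroup.one_mem _, one_pow _⟩
  mul_mem' := by
    rintro a b ⟨ha, ha'⟩ ⟨hb, hb'⟩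
    refine ⟨Subgroup.mul_mem _ ha hb, ?_⟩
    have hc : Commute a b := (Subgroup.mem_center_iff.mp hb a)
    rw [hc.mul_pow, ha', hb', one_mul]
  inv_mem' := by
    rintro a ⟨ha, ha'⟩
    exact ⟨Subgroup.inv_mem _ ha, by rw [inv_pow, ha', inv_one]⟩

theorem exists_inv_step {P : Type*} [Group P] [Finite P] (p : ℕ) [Fact p.Prime] (hP : IsPGroup p P)
    (A K : Subgroup (MulAut P)) (hInn : ∀ s : P, MulAut.conj s ∈ A) (hKA : K ≤ A)
    (hKcomm : ∀ k ∈ K, ∀ k' ∈ K, k * k' = k' * k) (hKexp : ∀ k ∈ K, k ^ (p - 1) = 1)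
    (hdec : ∀ α ∈ A, ∃ s : P, ∃ k ∈ K, α = MulAut.conj s * k)
    (N : Subgroup P) (hN : ∀ α ∈ A, ∀ x ∈ N, α x ∈ N) (hNtop : N ≠ ⊤) :
    ∃ x, x ∉ N ∧ ∀ α ∈ A, ∀ y ∈ N ⊔ Subgroup.zpowers x, α y ∈ N ⊔ Subgroup.zpowers x := by
  have hp : p.Prime := Fact.out
  haveI hNn : N.Normal := by
    constructor
    intro n hn g
    have := hN _ (hInn g) n hn
    rwa [MulAut.conj_apply] at this
  have hQp : IsPGroup p (P ⧸ N) := hP.to_quotient N
  haveI : Nontrivial (P ⧸ N) := by
    obtain ⟨x, hx⟩ : ∃ x, x ∉ N := by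
      by_contra h
      push_neg at h
      exact hNtop (eq_top_iff.mpr fun x _ => h x)
    refine ⟨⟨QuotientGroup.mk' N x, 1, fun h => hx ((QuotientGroup.eq_one_iff x).1 h)⟩⟩
  -- the induced maps
  have hKN : ∀ k ∈ K, ∀ x ∈ N, k x ∈ N := fun k hk => hN k (hKA hk)
  -- an element of order `p` in the centre
  haveI hcz : Nontrivial (Subgroup.center (P ⧸ N)) := hQp.center_nontrivial
  have hcard : p ∣ Nat.card (Subgroup.center (P ⧸ N)) := by
    rcases (hQp.to_subgroup (Subgroup.center (P ⧸ N))).card_eq_or_dvd with h | h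
    · exact absurd h (ne_of_gt Finite.one_lt_card)
    · exact h
  obtain ⟨z, hz⟩ := exists_prime_orderOf_dvd_card' p hcard
  have hzV : (z : P ⧸ N) ∈ omegaCenter p (P ⧸ N) := by
    refine ⟨z.2, ?_⟩
    have : z ^ p = 1 := by rw [← hz]; exact pow_orderOf_eq_one z
    exact_mod_cast congrArg Subtype.val this
  have hz1 : (z : P ⧸ N) ≠ 1 := by
    intro h
    have : z = 1 := Subtype.ext h
    rw [this, orderOf_one] at hz
    exact hp.one_lt.ne hz
  -- invariance of the socle of the centre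
  have hVinv : ∀ k (hk : k ∈ K), ∀ v ∈ omegaCenter p (P ⧸ N),
      barMap N k (hKN k hk) v ∈ omegaCenter p (P ⧸ N) := by
    rintro k hk v ⟨hvc, hvp⟩
    refine ⟨?_, by rw [← map_pow, hvp, map_one]⟩
    rw [Subgroup.mem_center_iff]
    intro q
    obtain ⟨y, rfl⟩ := QuotientGroup.mk'_surjective N q
    have hy : QuotientGroup.mk' N y = barMap N k (hKN k hk) (QuotientGroup.mk' N (k⁻¹ y)) := by
      rw [barMap_mk, MulAut.apply_inv_self]
    rw [hy, ← map_mul, ← map_mul, Subgroup.mem_center_iff.mp hvc]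
  -- the family of invariant subgroups
  obtain ⟨𝓛, h𝓛⟩ : ∃ 𝓛 : Set (Subgroup (P ⧸ N)), 𝓛 = {L | L ≤ omegaCenter p (P ⧸ N) ∧ L ≠ ⊥ ∧
      ∀ k (hk : k ∈ K), ∀ v ∈ L, barMap N k (hKN k hk) v ∈ L} := ⟨_, rfl⟩
  have hne : 𝓛.Nonempty := by
    refine ⟨omegaCenter p (P ⧸ N), ?_⟩
    rw [h𝓛]
    refine ⟨le_rfl, ?_, hVinv⟩
    intro h
    rw [h, Subgroup.mem_bot] at hzV
    exact hz1 hzV
  obtain ⟨L, hL, hmin⟩ := WellFounded.has_min
    (measure fun L : Subgroup (P ⧸ N) => Nat.card L).wf 𝓛 hne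
  rw [h𝓛] at hL
  obtain ⟨hLV, hLbot, hLinv⟩ := hL
  -- every `k` is scalar on `L`
  have hscalar : ∀ k (hk : k ∈ K), ∃ a : ℕ, ∀ v ∈ L, barMap N k (hKN k hk) v = v ^ a := by
    intro k hk
    have hLcomm : ∀ a b : L, a * b = b * a := by
      intro a b
      apply Subtype.ext
      exact (Subgroup.mem_center_iff.mp (hLV b.2).1 a.1)
    obtain ⟨k', hk'⟩ : ∃ k' : L →* L, ∀ v : L, (k' v : P ⧸ N) = barMap N k (hKN k hk) v :=
      ⟨((barMap N k (hKN k hk)).comp L.subtype).codRestrict L (fun v => hLinv k hk v v.2),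
        fun v => rfl⟩
    have hk'iter : ∀ (n : ℕ) (v : L),
        ((k'^[n] v : L) : P ⧸ N) = (barMap N k (hKN k hk))^[n] v := by
      intro n
      induction n with
      | zero => intro v; rfl
      | succ n ih =>
        intro v
        rw [Function.iterate_succ_apply, ih, hk', Function.iterate_succ_apply]
    obtain ⟨v, hv1, a, hva⟩ := exists_eigen' (V := L) hLcomm p
      (fun v => Subtype.ext (hLV v.2).2)
      ((Subgroup.ne_bot_iff_exists_ne_one).mp hLbot) k'
      (by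
        intro v
        apply Subtype.ext
        rw [hk'iter]
        obtain ⟨y, hy⟩ := QuotientGroup.mk'_surjective N v.1
        rw [← hy, barMap_iterate_mk, hKexp k hk, MulAut.one_apply])
    -- the eigenspace
    let La : Subgroup (P ⧸ N) :=
      { carrier := {w | w ∈ L ∧ barMap N k (hKN k hk) w = w ^ a}
        one_mem' := ⟨L.one_mem, by rw [map_one, one_pow]⟩
        mul_mem' := by
          rintro b c ⟨hb, hb'⟩ ⟨hc, hc'⟩
          refine ⟨L.mul_mem hb hc, ?_⟩
          have hcm : Commute b c := (Subgroup.mem_center_iff.mp (hLV hc).1 b)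
          rw [map_mul, hb', hc', hcm.mul_pow]
        inv_mem' := by
          rintro b ⟨hb, hb'⟩
          exact ⟨L.inv_mem hb, by rw [map_inv, hb', inv_pow]⟩ }
    have hLaL : La ≤ L := fun w hw => hw.1
    have hLa𝓛 : La ∈ 𝓛 := by
      rw [h𝓛]
      refine ⟨hLaL.trans hLV, ?_, ?_⟩
      · intro h
        have hvLa : (v : P ⧸ N) ∈ La := by
          refine ⟨v.2, ?_⟩
          rw [← hk', hva]
          rfl
        rw [h, Subgroup.mem_bot] at hvLa
        exact hv1 (Subtype.ext hvLa)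
      · rintro k₂ hk₂ w ⟨hw, hw'⟩
        refine ⟨hLinv k₂ hk₂ w hw, ?_⟩
        have e1 : barMap N k (hKN k hk) (barMap N k₂ (hKN k₂ hk₂) w) =
            barMap N k₂ (hKN k₂ hk₂) (barMap N k (hKN k hk) w) := by
          obtain ⟨y, rfl⟩ := QuotientGroup.mk'_surjective N w
          rw [barMap_mk, barMap_mk, barMap_mk, barMap_mk, ← MulAut.mul_apply, ← MulAut.mul_apply,
            hKcomm k hk k₂ hk₂]
        rw [e1, hw', map_pow]
    have hLaeq : La = L := by
      have h1 : ¬ (Nat.card La < Nat.card L) := hmin La hLa𝓛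
      exact Subgroup.eq_of_le_of_card_ge hLaL (not_lt.mp h1)
    refine ⟨a, fun w hw => ?_⟩
    rw [← hLaeq] at hw
    exact hw.2
  obtain ⟨v₀, hv₀L, hv₀1⟩ : ∃ v₀ ∈ L, v₀ ≠ 1 := by
    obtain ⟨v, hv⟩ := (Subgroup.ne_bot_iff_exists_ne_one).mp hLbot
    exact ⟨v.1, v.2, fun h => hv (Subtype.ext h)⟩
  obtain ⟨x, rfl⟩ := QuotientGroup.mk'_surjective N v₀
  have hxN : x ∉ N := fun h => hv₀1 ((QuotientGroup.eq_one_iff x).2 h)
  refine ⟨x, hxN, ?_⟩
  have hM : N ⊔ Subgroup.zpowers x =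
      (Subgroup.zpowers (QuotientGroup.mk' N x)).comap (QuotientGroup.mk' N) := by
    apply le_antisymm
    · apply sup_le
      · intro n hn
        rw [Subgroup.mem_comap]
        have : QuotientGroup.mk' N n = 1 := (QuotientGroup.eq_one_iff n).2 hn
        rw [this]
        exact Subgroup.one_mem _
      · rw [Subgroup.zpowers_le, Subgroup.mem_comap]
        exact Subgroup.mem_zpowers _
    · intro y hy
      rw [Subgroup.mem_comap, Subgroup.mem_zpowers_iff] at hy
      obtain ⟨j, hj⟩ := hy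
      rw [← map_zpow] at hj
      have h1 : (x ^ j)⁻¹ * y ∈ N := (QuotientGroup.eq (s := N)).1 hj
      have : y = x ^ j * ((x ^ j)⁻¹ * y) := by group
      rw [this]
      exact Subgroup.mul_mem _
        (Subgroup.mem_sup_right (Subgroup.zpow_mem _ (Subgroup.mem_zpowers x) j))
        (Subgroup.mem_sup_left h1)
  intro α hα y hy
  rw [hM] at hy ⊢
  rw [Subgroup.mem_comap, Subgroup.mem_zpowers_iff] at hy
  obtain ⟨j, hj⟩ := hy
  obtain ⟨s, k, hk, rfl⟩ := hdec α hα
  obtain ⟨a, ha⟩ := hscalar k hk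
  rw [Subgroup.mem_comap, MulAut.mul_apply, MulAut.conj_apply, map_mul, map_mul]
  have h1 : QuotientGroup.mk' N (k y) = ((QuotientGroup.mk' N x) ^ a) ^ j := by
    rw [← barMap_mk N k (hKN k hk), ← hj, map_zpow, ha _ hv₀L]
  have hc : (QuotientGroup.mk' N x) ∈ Subgroup.center (P ⧸ N) := (hLV hv₀L).1
  have hc2 : ((QuotientGroup.mk' N x) ^ a) ^ j ∈ Subgroup.center (P ⧸ N) :=
    Subgroup.zpow_mem _ (Subgroup.pow_mem _ hc a) j
  rw [h1, Subgroup.mem_center_iff.mp hc2 (QuotientGroup.mk' N s), mul_assoc, ← map_mul,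
    mul_inv_cancel, map_one, mul_one]
  exact Subgroup.zpow_mem _ (Subgroup.pow_mem _ (Subgroup.mem_zpowers _) a) j

end Cfsg.Agent.Lead.SuperSol
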