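import Mathlib
import Cfsg.Prelude.Def_FusionSystem
import Cfsg.Agent.Lead.SuperSolG
import Cfsg.Agent.Lead.SuperSolI
import Cfsg.Agent.Lead.FusionAbelian
import Cfsg.Agent.Lead.FusionEssNeeded

/-!
# Supersoluble systems: the resistant case, and the final equivalence
-/

set_option autoImplicit false

namespace Cfsg.Agent.Lead.SuperSol

open Cfsg Cfsg.FusionSystem Cfsg.Agent.Lead

section chain

variable {P : Type*} [Group P]

/-- a chain from `⊥` to `C` of subgroups satisfying `Inv`, with cyclic steps -/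
def ReachI (Inv : Subgroup P → Prop) (C : Subgroup P) : Prop :=
  ∃ (m : ℕ) (c : Fin (m + 1) → Subgroup P), c 0 = ⊥ ∧ c (Fin.last m) = C ∧
    (∀ i, Inv (c i)) ∧
    ∀ i : Fin m, c i.castSucc ≤ c i.succ ∧ ∃ x, c i.succ = c i.castSucc ⊔ Subgroup.zpowers x

theorem ReachI.bot (Inv : Subgroup P → Prop) (h : Inv ⊥) : ReachI Inv ⊥ :=
  ⟨0, fun _ => ⊥, rfl, rfl, fun _ => h, fun i => i.elim0⟩

theorem ReachI.step {Inv : Subgroup P → Prop} {C D : Subgroup P} (h : ReachI Inv C) (hD : Inv D)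
    (hle : C ≤ D) (x : P) (hx : D = C ⊔ Subgroup.zpowers x) : ReachI Inv D := by
  obtain ⟨m, c, h0, hl, hc, hs⟩ := h
  refine ⟨m + 1, Fin.snoc (α := fun _ => Subgroup P) c D, ?_, ?_, ?_, ?_⟩
  · have : (0 : Fin (m + 1 + 1)) = Fin.castSucc (0 : Fin (m + 1)) := rfl
    rw [this, Fin.snoc_castSucc]
    exact h0
  · exact Fin.snoc_last (α := fun _ => Subgroup P) D c
  · intro i
    induction i using Fin.lastCases with
    | last =>
      rw [Fin.snoc_last]
      exact hD
    | cast j =>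
      rw [Fin.snoc_castSucc]
      exact hc j
  · intro i
    induction i using Fin.lastCases with
    | last =>
      rw [Fin.succ_last, Fin.snoc_last, Fin.snoc_castSucc, hl]
      exact ⟨hle, x, hx⟩
    | cast j =>
      rw [Fin.succ_castSucc, Fin.snoc_castSucc, Fin.snoc_castSucc]
      exact hs j

theorem exists_inv_chain [Finite P] (p : ℕ) [Fact p.Prime] (hP : IsPGroup p P)
    (A K : Subgroup (MulAut P)) (hInn : ∀ s : P, MulAut.conj s ∈ A) (hKA : K ≤ A)
    (hKcomm : ∀ k ∈ K, ∀ k' ∈ K, k * k' = k' * k) (hKexp : ∀ k ∈ K, k ^ (p - 1) = 1)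
    (hdec : ∀ α ∈ A, ∃ s : P, ∃ k ∈ K, α = MulAut.conj s * k) :
    ReachI (fun C => ∀ α ∈ A, ∀ x ∈ C, α x ∈ C) ⊤ := by
  have key : ∀ n : ℕ, ∃ C : Subgroup P, ReachI (fun C => ∀ α ∈ A, ∀ x ∈ C, α x ∈ C) C ∧
      (C = ⊤ ∨ n ≤ Nat.card C) := by
    intro n
    induction n with
    | zero =>
      refine ⟨⊥, ReachI.bot _ ?_, Or.inr (Nat.zero_le _)⟩
      intro α _ x hx
      rw [Subgroup.mem_bot] at hx ⊢
      rw [hx, map_one]
    | succ n ih =>
      obtain ⟨C, hC, hCn⟩ := ih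
      by_cases hCtop : C = ⊤
      · exact ⟨C, hC, Or.inl hCtop⟩
      · have hCinv : ∀ α ∈ A, ∀ x ∈ C, α x ∈ C := by
          obtain ⟨m, c, -, hl, hc, -⟩ := hC
          rw [← hl]
          exact hc _
        obtain ⟨x, hxC, hD⟩ := exists_inv_step p hP A K hInn hKA hKcomm hKexp hdec C hCinv hCtop
        refine ⟨C ⊔ Subgroup.zpowers x, hC.step hD le_sup_left x rfl, Or.inr ?_⟩
        have hlt : Nat.card C < Nat.card ↥(C ⊔ Subgroup.zpowers x) := by
          by_contra hnot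
          have := Subgroup.eq_of_le_of_card_ge (le_sup_left : C ≤ C ⊔ Subgroup.zpowers x)
            (not_lt.mp hnot)
          apply hxC
          rw [this]
          exact Subgroup.mem_sup_right (Subgroup.mem_zpowers x)
        rcases hCn with h | h
        · exact absurd h hCtop
        · omega
  obtain ⟨C, hC, hCn⟩ := key (Nat.card P + 1)
  rcases hCn with h | h
  · rwa [h] at hC
  · have := Subgroup.card_le_card_group C
    omega

end chain

variable {Ω : Type*} [Group Ω] {S : Subgroup Ω}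

theorem exists_aut_ext_of_normal_top [Finite S] (F : FusionSystem S) (hN : F.IsNormal S)
    {R : Subgroup Ω} {φ : R →* Ω} (hφ : φ ∈ F.Hom R) :
    ∃ α ∈ F.autGroup S, ∀ x : R, ((α ⟨x.1, Fusion.src_le F hφ x.2⟩ : S) : Ω) = φ x := by
  obtain ⟨ψ, hψ, hext, -⟩ := hN.2 R φ hφ
  have hle : S ≤ R ⊔ S := le_sup_right
  have hψ' := Fusion.restrict_mem F hψ hle
  have hr : (ψ.comp (Subgroup.inclusion hle)).range = S := Fusion.isConj_top_eq F ⟨_, hψ', rfl⟩
  refine ⟨Fusion.equivOfRange (ψ.comp (Subgroup.inclusion hle)) (F.injective_of_mem hψ') hr,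
    ?_, fun x => ?_⟩
  · rw [Fusion.mem_autGroup_iff F le_rfl]
    convert hψ' using 1
    ext y
    rfl
  · show ψ (Subgroup.inclusion hle ⟨x.1, Fusion.src_le F hφ x.2⟩) = φ x
    rw [← hext x]
    rfl

theorem hasChain_of_resistant [Finite S] (p : ℕ) [Fact p.Prime] (hS : IsPGroup p S)
    (F : FusionSystem S) (hF : F.IsSaturated p) (hN : F.IsNormal S)
    (hB2 : ∀ H : Subgroup (MulAut S), (Nat.card H).Coprime p →
      IsMulCommutative H ∧ ∀ h ∈ H, h ^ (p - 1) = 1) : HasChain F := by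
  haveI : Finite (MulAut S) := Finite.of_injective (fun α : MulAut S => (α : S → S))
    (fun a b h => DFunLike.coe_injective h)
  obtain ⟨-, R, hR⟩ := Fusion.top_fullyAutomized p F hF
  have hInnEq : autInducedBy S S = Inn S := by
    apply le_antisymm
    · intro α hα
      rw [mem_autInducedBy_iff] at hα
      obtain ⟨g, hg, hα⟩ := hα
      refine ⟨⟨g, hg⟩, ?_⟩
      ext x
      rw [hα]
      rfl
    · exact Fusion.inn_le_autInducedBy le_rfl
  rw [hInnEq] at hR
  haveI hnormal : ((Inn S).subgroupOf (F.autGroup S)).Normal := inferInstance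
  have hcop : (Nat.card ((Inn S).subgroupOf (F.autGroup S))).Coprime
      ((Inn S).subgroupOf (F.autGroup S)).index := by
    have := R.card_coprime_index
    rwa [hR] at this
  have hidx : ¬ p ∣ ((Inn S).subgroupOf (F.autGroup S)).index := by
    have := R.not_dvd_index
    rwa [hR] at this
  obtain ⟨K', hK'⟩ := Subgroup.exists_right_complement'_of_coprime hcop
  have hK'card : Nat.card K' = ((Inn S).subgroupOf (F.autGroup S)).index :=
    (hK'.symm.index_eq_card).symm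
  obtain ⟨K, hKdef⟩ : ∃ K : Subgroup (MulAut S), K = K'.map (F.autGroup S).subtype := ⟨_, rfl⟩
  have hKcard : (Nat.card K).Coprime p := by
    rw [hKdef, Subgroup.card_map_of_injective (Subgroup.subtype_injective _), hK'card]
    exact Nat.coprime_comm.1 ((Fact.out : p.Prime).coprime_iff_not_dvd.2 hidx)
  obtain ⟨hKc, hKexp⟩ := hB2 K hKcard
  have hKcomm : ∀ k ∈ K, ∀ k' ∈ K, k * k' = k' * k := by
    intro k hk k' hk'
    have := isMulCommutative_iff.mp hKc ⟨k, hk⟩ ⟨k', hk'⟩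
    exact congrArg Subtype.val this
  have hKA : K ≤ F.autGroup S := by
    rw [hKdef]
    rintro _ ⟨k, -, rfl⟩
    exact k.2
  have hInn : ∀ s : S, MulAut.conj s ∈ F.autGroup S := fun s =>
    Fusion.autInducedBy_le_autGroup F le_rfl (Fusion.inn_le_autInducedBy le_rfl ⟨s, rfl⟩)
  have hdec : ∀ α ∈ F.autGroup S, ∃ s : S, ∃ k ∈ K, α = MulAut.conj s * k := by
    intro α hα
    obtain ⟨⟨n, k'⟩, h, -⟩ := (Subgroup.isComplement'_def.mp hK').existsUnique ⟨α, hα⟩
    have hn : ((n : F.autGroup S) : MulAut S) ∈ Inn S := Subgroup.mem_subgroupOf.mp n.2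
    obtain ⟨s, hs⟩ := hn
    refine ⟨s, ((k' : F.autGroup S) : MulAut S), ?_, ?_⟩
    · rw [hKdef]
      exact ⟨k'.1, k'.2, rfl⟩
    · have := congrArg Subtype.val h
      rw [hs]
      exact this.symm
  obtain ⟨m, c, h0, hl, hc, hs⟩ :=
    exists_inv_chain p hS (F.autGroup S) K hInn hKA hKcomm hKexp hdec
  refine ⟨m, fun i => (c i).map S.subtype, ?_, ?_, ?_, ?_⟩
  · show (c 0).map S.subtype = ⊥
    rw [h0, Subgroup.map_bot]
  · show (c (Fin.last m)).map S.subtype = S
    rw [hl, ← MonoidHom.range_eq_map, Subgroup.range_subtype]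
  · intro i
    refine ⟨?_, fun R hR φ hφ x => ?_⟩
    · rintro _ ⟨y, -, rfl⟩
      exact y.2
    · obtain ⟨α, hα, hαx⟩ := exists_aut_ext_of_normal_top F hN hφ
      rw [← hαx x]
      obtain ⟨y, hy, hyx⟩ := hR x.2
      refine ⟨α ⟨x.1, Fusion.src_le F hφ x.2⟩, hc i α hα _ ?_, rfl⟩
      have : (⟨x.1, Fusion.src_le F hφ x.2⟩ : S) = y := Subtype.ext hyx.symm
      rw [this]
      exact hy
  · intro i
    obtain ⟨hle, x₀, hx₀⟩ := hs i
    refine ⟨Subgroup.map_mono hle, (x₀ : Ω), x₀.2, ?_⟩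
    show (c i.succ).map S.subtype = (c i.castSucc).map S.subtype ⊔ Subgroup.zpowers (x₀ : Ω)
    rw [hx₀, Subgroup.map_sup, MonoidHom.map_zpowers]
    rfl

theorem supersoluble_resistant_iff [Finite S] (p : ℕ) [Fact p.Prime] (hS : IsPGroup p ↥S) :
    (∀ F : Cfsg.FusionSystem S, F.IsSaturated p →
      (∃ (m : ℕ) (c : Fin (m + 1) → Subgroup Ω), c 0 = ⊥ ∧ c (Fin.last m) = S ∧
        (∀ i : Fin (m + 1), F.StronglyClosed (c i)) ∧
        ∀ i : Fin m, c i.castSucc ≤ c i.succ ∧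
          ∃ x ∈ S, c i.succ = c i.castSucc ⊔ Subgroup.zpowers x)) ↔
    (∀ F : Cfsg.FusionSystem S, F.IsSaturated p → F.IsNormal S) ∧
      ∀ H : Subgroup (MulAut ↥S), (Nat.card ↥H).Coprime p →
        IsMulCommutative ↥H ∧ ∀ h ∈ H, h ^ (p - 1) = 1 := by
  constructor
  · intro hall
    refine ⟨fun F hF => isNormal_top_of_hasChain p hS F hF (hall F hF), fun H hH => ?_⟩
    obtain ⟨h1, h2⟩ := coprime_subgroup_of_hasChain p hS hall H hH
    refine ⟨isMulCommutative_iff.mpr fun a b => ?_, h2⟩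
    exact Subtype.ext (h1 a.1 a.2 b.1 b.2)
  · rintro ⟨hB1, hB2⟩ F hF
    exact hasChain_of_resistant p hS F hF (hB1 F hF) hB2

end Cfsg.Agent.Lead.SuperSol
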