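import Mathlib
import Cfsg.Prelude.Def_Local
import Cfsg.Prelude.Def_Solvable
import Cfsg.Agent.Lead.GenPair
import Cfsg.Agent.Helper4.HallHigman

/-!
In a `p`-solvable group, some Sylow `p`-subgroup normalizes some Sylow `q`-subgroup iff `q` does not
divide `|G : O_{p'}(G)|`.
-/

set_option autoImplicit false

namespace Cfsg.Agent.Lead.SylowNorm

variable {G : Type*} [Group G]

theorem backward [Finite G] (p q : ℕ) [Fact p.Prime] [Fact q.Prime]
    (h : ¬ q ∣ (Cfsg.pPrimeCore p G).index) :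
    ∃ (P : Sylow p G) (Q : Sylow q G),
      (P : Subgroup G) ≤ Subgroup.normalizer ((Q : Subgroup G) : Set G) := by
  obtain ⟨P⟩ : Nonempty (Sylow p G) := inferInstance
  obtain ⟨Q, hQK, hPQ, hQp, hQc⟩ := GenPair.exists_invariant_sylow (P : Subgroup G)
    (Cfsg.pPrimeCore p G) P.isPGroup' (Helper5.coprime_card_pPrimeCore p) q
  have hq : q.Prime := Fact.out
  have hfac : (Nat.card (Cfsg.pPrimeCore p G)).factorization q = (Nat.card G).factorization q := by
    have h1 := Subgroup.card_mul_index (Cfsg.pPrimeCore p G)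
    have h2 : (Cfsg.pPrimeCore p G).index ≠ 0 := Subgroup.index_ne_zero_of_finite
    have h3 : Nat.card (Cfsg.pPrimeCore p G) ≠ 0 := Nat.card_pos.ne'
    rw [← h1, Nat.factorization_mul h3 h2]
    simp [Nat.factorization_eq_zero_of_not_dvd h]
  refine ⟨P, Sylow.ofCard Q (by rw [hQc, hfac]), ?_⟩
  exact hPQ

theorem forward [Finite G] (p q : ℕ) [Fact p.Prime] [Fact q.Prime] (hpq : p ≠ q)
    (hsolv : Cfsg.IsPSolvable p G) (P : Sylow p G) (Q : Sylow q G)
    (hPQ : (P : Subgroup G) ≤ Subgroup.normalizer ((Q : Subgroup G) : Set G)) :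
    ¬ q ∣ (Cfsg.pPrimeCore p G).index := by
  have hq : q.Prime := Fact.out
  have hbar : Cfsg.IsPSolvable p (G ⧸ Cfsg.pPrimeCore p G) :=
    Helper4.isPSolvable_quotient hsolv _
  have hO : Cfsg.pPrimeCore p (G ⧸ Cfsg.pPrimeCore p G) = ⊥ := Helper4.pPrimeCore_quotient_eq_bot p
  have hC := Helper4.centralizer_pCore_le_of_isPSolvable hbar hO
  have hsurj : Function.Surjective (QuotientGroup.mk' (Cfsg.pPrimeCore p G)) :=
    QuotientGroup.mk'_surjective _
  have hOP : Cfsg.pCore p (G ⧸ Cfsg.pPrimeCore p G) ≤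
      (P : Subgroup G).map (QuotientGroup.mk' (Cfsg.pPrimeCore p G)) :=
    Helper5.pCore_le_sylow (P.mapSurjective hsurj)
  have hQbar : IsPGroup q ((Q : Subgroup G).map (QuotientGroup.mk' (Cfsg.pPrimeCore p G))) :=
    Q.isPGroup'.map _
  have hdisj : Disjoint (Cfsg.pCore p (G ⧸ Cfsg.pPrimeCore p G))
      ((Q : Subgroup G).map (QuotientGroup.mk' (Cfsg.pPrimeCore p G))) :=
    IsPGroup.disjoint_of_ne p q hpq _ _ (Helper5.isPGroup_pCore p) hQbar
  have hQK : (Q : Subgroup G) ≤ Cfsg.pPrimeCore p G := by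
    intro y hy
    have hyb : QuotientGroup.mk' (Cfsg.pPrimeCore p G) y ∈
        (Q : Subgroup G).map (QuotientGroup.mk' (Cfsg.pPrimeCore p G)) :=
      Subgroup.mem_map_of_mem _ hy
    have hcent : QuotientGroup.mk' (Cfsg.pPrimeCore p G) y ∈
        Subgroup.centralizer (Cfsg.pCore p (G ⧸ Cfsg.pPrimeCore p G) : Set _) := by
      rw [Subgroup.mem_centralizer_iff]
      intro xb hxb
      obtain ⟨x, hx, rfl⟩ := hOP hxb
      have hxy : x * y * x⁻¹ ∈ (Q : Subgroup G) := by
        have := hPQ hx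
        rw [Subgroup.mem_normalizer_iff] at this
        exact (this y).1 hy
      have h1 : QuotientGroup.mk' (Cfsg.pPrimeCore p G) (x * y * x⁻¹ * y⁻¹) ∈
          (Q : Subgroup G).map (QuotientGroup.mk' (Cfsg.pPrimeCore p G)) :=
        Subgroup.mem_map_of_mem _ ((Q : Subgroup G).mul_mem hxy ((Q : Subgroup G).inv_mem hy))
      have h2 : QuotientGroup.mk' (Cfsg.pPrimeCore p G) (x * y * x⁻¹ * y⁻¹) ∈
          Cfsg.pCore p (G ⧸ Cfsg.pPrimeCore p G) := by
        have h3 : QuotientGroup.mk' (Cfsg.pPrimeCore p G) (x * y * x⁻¹ * y⁻¹) =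
            QuotientGroup.mk' (Cfsg.pPrimeCore p G) x *
              (QuotientGroup.mk' (Cfsg.pPrimeCore p G) y *
                (QuotientGroup.mk' (Cfsg.pPrimeCore p G) x)⁻¹ *
                (QuotientGroup.mk' (Cfsg.pPrimeCore p G) y)⁻¹) := by
          simp only [map_mul, map_inv, mul_assoc]
        rw [h3]
        exact Subgroup.mul_mem _ hxb
          ((Cfsg.pCore_normal p _).conj_mem _ (Subgroup.inv_mem _ hxb) _)
      have h4 := Subgroup.disjoint_def.1 hdisj h2 h1
      have h5 : QuotientGroup.mk' (Cfsg.pPrimeCore p G) (x * y * x⁻¹ * y⁻¹) =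
          QuotientGroup.mk' (Cfsg.pPrimeCore p G) x * QuotientGroup.mk' (Cfsg.pPrimeCore p G) y *
            (QuotientGroup.mk' (Cfsg.pPrimeCore p G) x)⁻¹ *
            (QuotientGroup.mk' (Cfsg.pPrimeCore p G) y)⁻¹ := by
        simp only [map_mul, map_inv]
      rw [h5] at h4
      have h6 := mul_inv_eq_one.1 h4
      have h7 := mul_inv_eq_iff_eq_mul.1 h6
      exact h7
    have h8 := Subgroup.disjoint_def.1 hdisj (hC hcent) hyb
    exact (QuotientGroup.eq_one_iff y).1 h8
  intro hdvd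
  have h1 := Subgroup.card_mul_index (Cfsg.pPrimeCore p G)
  have h2 : Nat.card (Q : Subgroup G) ∣ Nat.card (Cfsg.pPrimeCore p G) :=
    Subgroup.card_dvd_of_le hQK
  have h3 : Nat.card (Q : Subgroup G) = q ^ (Nat.card G).factorization q :=
    Q.card_eq_multiplicity
  have h4 : q ^ ((Nat.card G).factorization q + 1) ∣ Nat.card G := by
    rw [h3] at h2
    rw [pow_succ]
    calc q ^ (Nat.card G).factorization q * q ∣
        Nat.card (Cfsg.pPrimeCore p G) * (Cfsg.pPrimeCore p G).index := Nat.mul_dvd_mul h2 hdvd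
      _ = Nat.card G := h1
  have h5 := (hq.pow_dvd_iff_le_factorization Nat.card_pos.ne').1 h4
  omega

end Cfsg.Agent.Lead.SylowNorm
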