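import Mathlib
import Cfsg.Prelude.Def_Local
import Cfsg.Prelude.Def_Solvable
import Cfsg.Agent.Lead.SylowNorm
import Cfsg.Agent.Helper1.SylowInt

/-!
If `G` is `p`-solvable or `q`-solvable and no `q`-element has class size divisible by `p`, then some
Sylow `p`-subgroup normalizes some Sylow `q`-subgroup.
-/

set_option autoImplicit false

namespace Cfsg.Agent.Lead.SylowNormB

open scoped Pointwise

universe u

variable {G : Type u} [Group G]

/-- A subgroup of index prime to `p` contains a Sylow `p`-subgroup. -/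
theorem exists_sylow_le_of_not_dvd_index [Finite G] {p : ℕ} [hp : Fact p.Prime] (H : Subgroup G)
    (h : ¬ p ∣ H.index) : ∃ P : Sylow p G, (P : Subgroup G) ≤ H := by
  obtain ⟨P₀⟩ : Nonempty (Sylow p ↥H) := inferInstance
  have h1 := Subgroup.card_mul_index H
  have hfac : (Nat.card H).factorization p = (Nat.card G).factorization p := by
    have h2 : H.index ≠ 0 := Subgroup.index_ne_zero_of_finite
    have h3 : Nat.card H ≠ 0 := Nat.card_pos.ne'
    rw [← h1, Nat.factorization_mul h3 h2]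
    simp [Nat.factorization_eq_zero_of_not_dvd h]
  have hcard : Nat.card ((P₀ : Subgroup H).map H.subtype) = p ^ (Nat.card G).factorization p := by
    rw [Subgroup.card_map_of_injective H.subtype_injective, P₀.card_eq_multiplicity, hfac]
  refine ⟨Sylow.ofCard _ hcard, ?_⟩
  rw [Sylow.coe_ofCard]
  exact Subgroup.map_subtype_le _

/-- Elements of `q`-power order lift through surjections of finite groups. -/
theorem exists_lift_qelement [Finite G] {q : ℕ} [hq : Fact q.Prime] (N : Subgroup G) [N.Normal]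
    (yb : G ⧸ N) (hyb : ∃ k : ℕ, orderOf yb = q ^ k) :
    ∃ y : G, (∃ k : ℕ, orderOf y = q ^ k) ∧ QuotientGroup.mk' N y = yb := by
  obtain ⟨k, hk⟩ := hyb
  obtain ⟨y₀, rfl⟩ := QuotientGroup.mk'_surjective N yb
  rcases Nat.eq_zero_or_pos k with hk0 | hkpos
  · refine ⟨1, ⟨0, by simp⟩, ?_⟩
    rw [hk0, pow_zero, orderOf_eq_one_iff] at hk
    rw [hk, map_one]
  have hn : orderOf y₀ ≠ 0 := (orderOf_pos y₀).ne'
  obtain ⟨a, m, hm, hnm⟩ := Nat.exists_eq_pow_mul_and_not_dvd hn q hq.out.ne_one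
  have hcop : m.Coprime (q ^ k) := by
    apply Nat.Coprime.pow_right
    exact ((Nat.Prime.coprime_iff_not_dvd hq.out).2 hm).symm
  have hlt : 1 < q ^ k := Nat.one_lt_pow hkpos.ne' hq.out.one_lt
  obtain ⟨m', -, hm'⟩ := Nat.exists_mul_mod_eq_one_of_coprime hcop hlt
  refine ⟨y₀ ^ (m * m'), ?_, ?_⟩
  · have h1 : (y₀ ^ (m * m')) ^ (q ^ a) = 1 := by
      rw [← pow_mul, mul_comm, ← mul_assoc, ← hnm, pow_mul, pow_orderOf_eq_one, one_pow]
    obtain ⟨j, -, hj⟩ := (Nat.dvd_prime_pow hq.out).1 (orderOf_dvd_of_pow_eq_one h1)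
    exact ⟨j, hj⟩
  · rw [map_pow]
    have h2 : (QuotientGroup.mk' N y₀) ^ (q ^ k) = 1 := by rw [← hk, pow_orderOf_eq_one]
    rw [pow_eq_pow_mod _ h2, hm', pow_one]

/-- The class-size hypothesis passes to quotients. -/
theorem hyp_quotient [Finite G] {p q : ℕ} [hq : Fact q.Prime] (N : Subgroup G) [N.Normal]
    (h : ∀ y : G, (∃ k : ℕ, orderOf y = q ^ k) →
      ¬ p ∣ (Subgroup.centralizer ({y} : Set G)).index) :
    ∀ y : G ⧸ N, (∃ k : ℕ, orderOf y = q ^ k) →
      ¬ p ∣ (Subgroup.centralizer ({y} : Set (G ⧸ N))).index := by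
  intro yb hyb hdvd
  obtain ⟨y, hy, rfl⟩ := exists_lift_qelement N yb hyb
  apply h y hy
  have h1 : (Subgroup.centralizer ({y} : Set G)).map (QuotientGroup.mk' N) ≤
      Subgroup.centralizer ({QuotientGroup.mk' N y} : Set (G ⧸ N)) := by
    rintro _ ⟨c, hc, rfl⟩
    rw [Subgroup.mem_centralizer_iff]
    intro z hz
    rw [Set.mem_singleton_iff] at hz
    subst hz
    have := (Subgroup.mem_centralizer_iff.1 hc) y (Set.mem_singleton y)
    rw [← map_mul, ← map_mul, this]
  exact dvd_trans hdvd (dvd_trans (Subgroup.index_dvd_of_le h1)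
    (Subgroup.index_map_dvd _ (QuotientGroup.mk'_surjective N)))

/-- The `p`-solvable case. -/
theorem psolvable_case [Finite G] (p q : ℕ) [hp : Fact p.Prime] [hq : Fact q.Prime] (hpq : p ≠ q)
    (hsolv : Cfsg.IsPSolvable p G)
    (h : ∀ y : G, (∃ k : ℕ, orderOf y = q ^ k) →
      ¬ p ∣ (Subgroup.centralizer ({y} : Set G)).index) :
    ∃ (P : Sylow p G) (Q : Sylow q G),
      (P : Subgroup G) ≤ Subgroup.normalizer ((Q : Subgroup G) : Set G) := by
  apply SylowNorm.backward p q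
  intro hdvd
  rw [Subgroup.index_eq_card] at hdvd
  obtain ⟨yb, hyb⟩ := exists_prime_orderOf_dvd_card' q hdvd
  have hbar : Cfsg.IsPSolvable p (G ⧸ Cfsg.pPrimeCore p G) :=
    Helper4.isPSolvable_quotient hsolv _
  have hO : Cfsg.pPrimeCore p (G ⧸ Cfsg.pPrimeCore p G) = ⊥ := Helper4.pPrimeCore_quotient_eq_bot p
  have hC := Helper4.centralizer_pCore_le_of_isPSolvable hbar hO
  have h1 := hyp_quotient (Cfsg.pPrimeCore p G) h yb ⟨1, by rw [hyb, pow_one]⟩
  obtain ⟨P, hP⟩ := exists_sylow_le_of_not_dvd_index _ h1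
  have h2 : yb ∈ Subgroup.centralizer (Cfsg.pCore p (G ⧸ Cfsg.pPrimeCore p G) : Set _) := by
    rw [Subgroup.mem_centralizer_iff]
    intro x hx
    have h3 := hP (Helper5.pCore_le_sylow P hx)
    exact (Subgroup.mem_centralizer_iff.1 h3 yb (Set.mem_singleton yb)).symm
  have h4 := hC h2
  obtain ⟨k, hk⟩ := (Helper5.isPGroup_pCore p) ⟨yb, h4⟩
  have h5 : yb ^ (p ^ k) = 1 := by
    have := congrArg Subtype.val hk
    simpa using this
  have h6 := orderOf_dvd_of_pow_eq_one h5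
  rw [hyb] at h6
  have h7 := (Nat.prime_dvd_prime_iff_eq hq.out hp.out).1 (hq.out.dvd_of_dvd_pow h6)
  exact hpq h7.symm

/-- If every element of the `q`-group `Q` centralizes a Sylow `p`-subgroup of `G`, then `Q` centralizes a
Sylow `p`-subgroup of the normal `q'`-subgroup `K`. -/
theorem sylow_centralized [Finite G] {p q : ℕ} [hp : Fact p.Prime] [hq : Fact q.Prime]
    (K : Subgroup G) [hK : K.Normal] (hKq : (Nat.card K).Coprime q) (Q : Subgroup G)
    (hQ : IsPGroup q Q)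
    (hy : ∀ y ∈ Q, ∃ Py : Sylow p G, (Py : Subgroup G) ≤ Subgroup.centralizer ({y} : Set G)) :
    ∃ S₀ : Sylow p ↥K, ∀ s ∈ (S₀ : Subgroup K), ∀ y ∈ Q, (s : G) * y = y * s := by
  have hQK : Q ≤ Subgroup.normalizer (K : Set G) := by
    rw [Subgroup.normalizer_eq_top]; exact le_top
  have hcopQ : (Nat.card Q).Coprime (Nat.card K) := by
    obtain ⟨n, hn⟩ := IsPGroup.iff_card.1 hQ
    rw [hn]; exact Nat.Coprime.pow_left n hKq.symm
  have hsolvQ : Group.IsSolvable Q := by
    haveI := hQ.isNilpotent; exact IsNilpotent.to_isSolvable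
  obtain ⟨S₀, hS₀⟩ := Helper1.exists_invariant_sylow (p := p) Q K hQK hcopQ (Or.inl hsolvQ)
  refine ⟨S₀, ?_⟩
  intro s hs y hyQ
  obtain ⟨Py, hPy⟩ := hy y hyQ
  obtain ⟨P', hP'⟩ := (S₀.isPGroup'.map K.subtype).exists_le_sylow
  obtain ⟨g, hg⟩ := MulAction.exists_smul_eq G Py P'
  have hS'K : MulAut.conj g⁻¹ • (S₀ : Subgroup K).map K.subtype ≤ K := by
    intro x hx
    rw [Helper1.mem_conj_smul] at hx
    have h1 := Subgroup.map_subtype_le _ hx
    have h2 := hK.conj_mem _ h1 g⁻¹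
    simpa [mul_assoc] using h2
  have hS'C : MulAut.conj g⁻¹ • (S₀ : Subgroup K).map K.subtype ≤
      Subgroup.centralizer ({y} : Set G) := by
    intro x hx
    rw [Helper1.mem_conj_smul] at hx
    have h1 := hP' hx
    rw [← hg, Sylow.coe_subgroup_smul, Helper1.mem_conj_smul] at h1
    have h2 := hPy h1
    simpa [mul_assoc] using h2
  obtain ⟨S₂, hS₂⟩ := Helper1.exists_sylow_map_eq K _ hS'K S₀
    (by rw [Helper1.card_conj_smul, Helper1.card_map_subtype])
  have hAQ : Subgroup.zpowers y ≤ Q := Subgroup.zpowers_le.2 hyQ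
  have hA2 : Subgroup.zpowers y ≤
      Subgroup.normalizer ((S₂ : Subgroup K).map K.subtype : Set G) := by
    rw [hS₂]
    refine le_trans ?_ (Subgroup.centralizer_le_normalizer _)
    rw [Subgroup.zpowers_le, Subgroup.mem_centralizer_iff]
    intro x hx
    exact ((Subgroup.mem_centralizer_iff.1 (hS'C hx)) y (Set.mem_singleton y)).symm
  have hcopA : (Nat.card (Subgroup.zpowers y)).Coprime (Nat.card K) :=
    hcopQ.coprime_dvd_left (Subgroup.card_dvd_of_le hAQ)
  have hsolvA : Group.IsSolvable (Subgroup.zpowers y) := inferInstance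
  obtain ⟨c, hc, hcS⟩ := Helper1.invariant_sylow_conj (Subgroup.zpowers y) K (hAQ.trans hQK) hcopA
    (Or.inl hsolvA) S₂ S₀ hA2 (hAQ.trans hS₀)
  rw [← Sylow.smul_def] at hcS
  have h3 := Helper1.sylow_smul_map K S₂ c
  rw [hcS, hS₂] at h3
  have h4 : (s : G) ∈ (S₀ : Subgroup K).map K.subtype := Subgroup.mem_map_of_mem K.subtype hs
  rw [h3, Helper1.mem_conj_smul, Helper1.mem_conj_smul] at h4
  have h5 := hS'C (by rw [Helper1.mem_conj_smul]; exact h4)
  have h6 : Commute y ((c : G)⁻¹ * s * c) :=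
    (Subgroup.mem_centralizer_iff.1 h5) y (Set.mem_singleton y)
  have h7 : Commute y (c : G) :=
    (Subgroup.mem_centralizer_iff.1 hc) y (Subgroup.mem_zpowers y)
  have h8 : Commute y ((c : G) * ((c : G)⁻¹ * s * c) * (c : G)⁻¹) :=
    (h7.mul_right h6).mul_right h7.inv_right
  have h9 : (c : G) * ((c : G)⁻¹ * s * c) * (c : G)⁻¹ = s := by group
  rw [h9] at h8
  exact h8.eq.symm

/-- Sylow `q`-subgroups of `G` inside `K ⊔ Q` are `K`-conjugate to `Q`. -/
theorem mem_orbit_iff [Finite G] {q : ℕ} [hq : Fact q.Prime] (K : Subgroup G) [hK : K.Normal]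
    (Q Q' : Sylow q G) :
    Q' ∈ MulAction.orbit ↥K Q ↔ (Q' : Subgroup G) ≤ K ⊔ (Q : Subgroup G) := by
  constructor
  · rintro ⟨k, rfl⟩
    intro z hz
    change z ∈ ((k • Q : Sylow q G) : Subgroup G) at hz
    rw [Subgroup.smul_def, Sylow.coe_subgroup_smul, Helper1.mem_conj_smul] at hz
    have h1 : z = (k : G) * ((k : G)⁻¹ * z * k) * (k : G)⁻¹ := by group
    rw [h1]
    exact Subgroup.mul_mem _ (Subgroup.mul_mem _ (Subgroup.mem_sup_left k.2)
      (Subgroup.mem_sup_right hz)) (Subgroup.mem_sup_left (K.inv_mem k.2))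
  · intro h
    have hQ : (Q : Subgroup G) ≤ K ⊔ (Q : Subgroup G) := le_sup_right
    obtain ⟨g, hg⟩ := MulAction.exists_smul_eq ↥(K ⊔ (Q : Subgroup G)) (Q.subtype hQ) (Q'.subtype h)
    rw [Sylow.smul_subtype] at hg
    have hg' : g • Q = Q' := Sylow.subtype_injective hg
    have hgm : (g : G) ∈ ((K ⊔ (Q : Subgroup G) : Subgroup G) : Set G) := g.2
    rw [Subgroup.normal_mul, Set.mem_mul] at hgm
    obtain ⟨k, hk, y, hy, hky⟩ := hgm
    refine ⟨⟨k, hk⟩, ?_⟩
    change (⟨k, hk⟩ : ↥K) • Q = Q'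
    rw [← hg', Subgroup.smul_def, Subgroup.smul_def, ← hky, mul_smul]
    congr 1
    exact (Sylow.smul_eq_iff_mem_normalizer.2 (Subgroup.le_normalizer hy)).symm

/-- The fixed point argument. -/
theorem exists_fixed_sylow [Finite G] {p q : ℕ} [hp : Fact p.Prime] [hq : Fact q.Prime]
    (K : Subgroup G) [hK : K.Normal] (P : Sylow p G) (Q : Sylow q G)
    (hPN : (P : Subgroup G) ≤ Subgroup.normalizer ((K ⊔ (Q : Subgroup G) : Subgroup G) : Set G))
    (S₀ : Sylow p ↥K)
    (hS₀ : ∀ s ∈ (S₀ : Subgroup K), ∀ y ∈ (Q : Subgroup G), (s : G) * y = y * s) :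
    ∃ Q' : Sylow q G, (P : Subgroup G) ≤ Subgroup.normalizer ((Q' : Subgroup G) : Set G) := by
  classical
  let Ω : SubMulAction ↥(P : Subgroup G) (Sylow q G) :=
    { carrier := {Q' | (Q' : Subgroup G) ≤ K ⊔ (Q : Subgroup G)}
      smul_mem' := by
        intro x Q' hQ' z hz
        rw [Subgroup.smul_def, Sylow.coe_subgroup_smul, Helper1.mem_conj_smul] at hz
        have h1 := hQ' hz
        have h2 := (Subgroup.mem_normalizer_iff.1 (hPN x.2) _).1 h1
        simpa [mul_assoc] using h2 }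
  have hΩ : ((Ω : Set (Sylow q G))) = MulAction.orbit ↥K Q := by
    ext Q'
    rw [mem_orbit_iff]
    rfl
  have hcard : ¬ p ∣ Nat.card ↥Ω := by
    have h1 : Nat.card ↥Ω = (MulAction.orbit ↥K Q).ncard := by
      rw [← hΩ]; exact Nat.card_coe_set_eq _
    rw [h1, ← MulAction.index_stabilizer]
    have h2 : (S₀ : Subgroup K) ≤ MulAction.stabilizer ↥K Q := by
      intro s hs
      rw [MulAction.mem_stabilizer_iff, Subgroup.smul_def, Sylow.smul_eq_iff_mem_normalizer]
      apply Subgroup.centralizer_le_normalizer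
      rw [Subgroup.mem_centralizer_iff]
      intro y hy
      exact (hS₀ s hs y hy).symm
    intro hdvd
    exact S₀.not_dvd_index (dvd_trans hdvd (Subgroup.index_dvd_of_le h2))
  obtain ⟨⟨Q', hQ'⟩, hfix⟩ := IsPGroup.nonempty_fixed_point_of_prime_not_dvd_card P.2 ↥Ω hcard
  refine ⟨Q', ?_⟩
  intro x hx
  have h1 := hfix ⟨x, hx⟩
  have h2 := congrArg Subtype.val h1
  rw [SubMulAction.val_smul] at h2
  exact Sylow.smul_eq_iff_mem_normalizer.1 h2

theorem orderOf_eq_pow_of_mem_sylow {q : ℕ} [hq : Fact q.Prime] (Q : Sylow q G) {y : G}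
    (hy : y ∈ (Q : Subgroup G)) : ∃ k : ℕ, orderOf y = q ^ k := by
  obtain ⟨k, hk⟩ := Q.2 ⟨y, hy⟩
  have h5 : y ^ (q ^ k) = 1 := by
    have := congrArg Subtype.val hk
    simpa using this
  obtain ⟨j, -, hj⟩ := (Nat.dvd_prime_pow hq.out).1 (orderOf_dvd_of_pow_eq_one h5)
  exact ⟨j, hj⟩

/-- The step over a normal `q'`-subgroup. -/
theorem step_qprime [Finite G] {p q : ℕ} [hp : Fact p.Prime] [hq : Fact q.Prime]
    (K : Subgroup G) [hK : K.Normal] (hKq : (Nat.card K).Coprime q) (P : Sylow p G) (Q : Sylow q G)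
    (hPN : (P : Subgroup G) ≤ Subgroup.normalizer ((K ⊔ (Q : Subgroup G) : Subgroup G) : Set G))
    (h : ∀ y : G, (∃ k : ℕ, orderOf y = q ^ k) →
      ¬ p ∣ (Subgroup.centralizer ({y} : Set G)).index) :
    ∃ (P : Sylow p G) (Q : Sylow q G),
      (P : Subgroup G) ≤ Subgroup.normalizer ((Q : Subgroup G) : Set G) := by
  obtain ⟨S₀, hS₀⟩ := sylow_centralized (p := p) K hKq (Q : Subgroup G) Q.2
    (fun y hy => exists_sylow_le_of_not_dvd_index _ (h y (orderOf_eq_pow_of_mem_sylow Q hy)))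
  obtain ⟨Q', hQ'⟩ := exists_fixed_sylow K P Q hPN S₀ hS₀
  exact ⟨P, Q', hQ'⟩

/-- Moving the pair found in a quotient so that it lies below a given Sylow `p`-subgroup. -/
theorem quotient_step [Finite G] {p q : ℕ} [hp : Fact p.Prime] [hq : Fact q.Prime]
    (N : Subgroup G) [N.Normal] (P : Sylow p G)
    (hb : ∃ (Pb : Sylow p (G ⧸ N)) (Qb : Sylow q (G ⧸ N)),
      (Pb : Subgroup (G ⧸ N)) ≤ Subgroup.normalizer ((Qb : Subgroup (G ⧸ N)) : Set (G ⧸ N))) :
    ∃ Qb : Sylow q (G ⧸ N), (P : Subgroup G) ≤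
      (Subgroup.normalizer ((Qb : Subgroup (G ⧸ N)) : Set (G ⧸ N))).comap (QuotientGroup.mk' N) := by
  obtain ⟨Pb, Qb, hPQb⟩ := hb
  have hsurj := QuotientGroup.mk'_surjective N
  obtain ⟨g, hg⟩ := MulAction.exists_smul_eq (G ⧸ N) Pb (P.mapSurjective hsurj)
  refine ⟨g • Qb, ?_⟩
  intro x hx
  rw [Subgroup.mem_comap]
  have h1 : QuotientGroup.mk' N x ∈ ((P.mapSurjective hsurj : Sylow p (G ⧸ N)) : Subgroup (G ⧸ N)) := by
    rw [Sylow.coe_mapSurjective]
    exact Subgroup.mem_map_of_mem _ hx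
  rw [← hg, Sylow.coe_subgroup_smul, Helper1.mem_conj_smul] at h1
  have h2 := Sylow.smul_eq_iff_mem_normalizer.2 (hPQb h1)
  apply Sylow.smul_eq_iff_mem_normalizer.1
  have h3 : QuotientGroup.mk' N x = g * (g⁻¹ * QuotientGroup.mk' N x * g) * g⁻¹ := by group
  rw [h3, mul_smul, mul_smul, inv_smul_smul, h2]

theorem qsolvable_aux (p q : ℕ) [hp : Fact p.Prime] [hq : Fact q.Prime] :
    ∀ n : ℕ, ∀ (G : Type u) [Group G] [Finite G], Nat.card G = n → Cfsg.IsPSolvable q G →
      (∀ y : G, (∃ k : ℕ, orderOf y = q ^ k) →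
        ¬ p ∣ (Subgroup.centralizer ({y} : Set G)).index) →
      ∃ (P : Sylow p G) (Q : Sylow q G),
        (P : Subgroup G) ≤ Subgroup.normalizer ((Q : Subgroup G) : Set G) := by
  intro n
  induction n using Nat.strong_induction_on with
  | _ n ih =>
  intro G _ _ hn hsolv h
  obtain ⟨P⟩ : Nonempty (Sylow p G) := inferInstance
  by_cases hOq : Cfsg.pCore q G = ⊥
  · by_cases hK : Cfsg.pPrimeCore q G = ⊥
    · have hC := Helper4.centralizer_pCore_le_of_isPSolvable hsolv hK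
      rw [hOq] at hC
      have htriv : ∀ x : G, x = 1 := by
        intro x
        have hx : x ∈ Subgroup.centralizer ((⊥ : Subgroup G) : Set G) := by
          rw [Subgroup.mem_centralizer_iff]
          intro z hz
          rw [Subgroup.mem_bot.1 hz]; simp
        exact Subgroup.mem_bot.1 (hC hx)
      obtain ⟨Q⟩ : Nonempty (Sylow q G) := inferInstance
      exact ⟨P, Q, fun x _ => by rw [htriv x]; exact Subgroup.one_mem _⟩
    · have hlt : Nat.card (G ⧸ Cfsg.pPrimeCore q G) < n := by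
        rw [← hn, ← Subgroup.index_eq_card]
        have h1 := Subgroup.card_mul_index (Cfsg.pPrimeCore q G)
        have h2 : 1 < Nat.card (Cfsg.pPrimeCore q G) := (Subgroup.one_lt_card_iff_ne_bot _).2 hK
        have h3 : 0 < (Cfsg.pPrimeCore q G).index :=
          Nat.pos_of_ne_zero Subgroup.index_ne_zero_of_finite
        nlinarith
      have hb := ih _ hlt (G ⧸ Cfsg.pPrimeCore q G) rfl
        (Helper4.isPSolvable_quotient hsolv _) (hyp_quotient _ h)
      obtain ⟨Qb, hQb⟩ := quotient_step (Cfsg.pPrimeCore q G) P hb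
      have hsurj := QuotientGroup.mk'_surjective (Cfsg.pPrimeCore q G)
      obtain ⟨Q, hQ⟩ := Sylow.mapSurjective_surjective hsurj q Qb
      have hPN : (P : Subgroup G) ≤ Subgroup.normalizer
          ((Cfsg.pPrimeCore q G ⊔ (Q : Subgroup G) : Subgroup G) : Set G) := by
        have h1 : Cfsg.pPrimeCore q G ⊔ (Q : Subgroup G) =
            (Qb : Subgroup (G ⧸ Cfsg.pPrimeCore q G)).comap
              (QuotientGroup.mk' (Cfsg.pPrimeCore q G)) := by
          rw [← hQ, Sylow.coe_mapSurjective, Subgroup.comap_map_eq, QuotientGroup.ker_mk', sup_comm]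
        rw [h1]
        exact hQb.trans (Subgroup.le_normalizer_comap _)
      exact step_qprime (Cfsg.pPrimeCore q G) (Helper5.coprime_card_pPrimeCore q) P Q hPN h
  · have hlt : Nat.card (G ⧸ Cfsg.pCore q G) < n := by
      rw [← hn, ← Subgroup.index_eq_card]
      have h1 := Subgroup.card_mul_index (Cfsg.pCore q G)
      have h2 : 1 < Nat.card (Cfsg.pCore q G) := (Subgroup.one_lt_card_iff_ne_bot _).2 hOq
      have h3 : 0 < (Cfsg.pCore q G).index :=
        Nat.pos_of_ne_zero Subgroup.index_ne_zero_of_finite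
      nlinarith
    have hb := ih _ hlt (G ⧸ Cfsg.pCore q G) rfl
      (Helper4.isPSolvable_quotient hsolv _) (hyp_quotient _ h)
    obtain ⟨Qb, hQb⟩ := quotient_step (Cfsg.pCore q G) P hb
    have hker : IsPGroup q (QuotientGroup.mk' (Cfsg.pCore q G)).ker := by
      rw [QuotientGroup.ker_mk']; exact Helper5.isPGroup_pCore q
    have hrange : (Qb : Subgroup (G ⧸ Cfsg.pCore q G)) ≤
        (QuotientGroup.mk' (Cfsg.pCore q G)).range := by
      rw [MonoidHom.range_eq_top.2 (QuotientGroup.mk'_surjective _)]; exact le_top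
    refine ⟨P, Qb.comapOfKerIsPGroup _ hker hrange, ?_⟩
    rw [Sylow.coe_comapOfKerIsPGroup]
    exact hQb.trans (Subgroup.le_normalizer_comap _)

theorem s4601 [Finite G] (p q : ℕ) [hp : Fact p.Prime] [hq : Fact q.Prime]
    (hsolv : Cfsg.IsPSolvable p G ∨ Cfsg.IsPSolvable q G)
    (h : ∀ y : G, (∃ k : ℕ, orderOf y = q ^ k) →
      ¬ p ∣ (Subgroup.centralizer ({y} : Set G)).index) :
    ∃ (P : Sylow p G) (Q : Sylow q G),
      (P : Subgroup G) ≤ Subgroup.normalizer ((Q : Subgroup G) : Set G) := by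
  by_cases hpq : p = q
  · subst hpq
    obtain ⟨P⟩ : Nonempty (Sylow p G) := inferInstance
    exact ⟨P, P, Subgroup.le_normalizer⟩
  · rcases hsolv with hs | hs
    · exact psolvable_case p q hpq hs h
    · exact qsolvable_aux p q _ G rfl hs h

end Cfsg.Agent.Lead.SylowNormB
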