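import Mathlib
import Cfsg.Prelude.Def_Transfer
import Cfsg.Agent.Helper3.ExtraCore
import Cfsg.Agent.Helper4.CyclicCentA

set_option autoImplicit false

/-!
Towards P. Hall's theorem on `p`-groups of symplectic type: elementary lemmas.
-/

namespace Cfsg.Agent.Lead.Symp

open scoped commutatorElement

variable {G : Type*} [Group G]

theorem pow_mul_comm_c {x y z : G} (hz : y * x = z * x * y)
    (hzy : Commute z y) (n : ℕ) : y ^ n * x = z ^ n * x * y ^ n := by
  induction n with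
  | zero => simp
  | succ n ih =>
    have h1 : Commute (z ^ n) y := hzy.pow_left n
    calc y ^ (n + 1) * x = y * (y ^ n * x) := by rw [pow_succ']; simp only [mul_assoc]
      _ = y * (z ^ n * x * y ^ n) := by rw [ih]
      _ = (y * z ^ n) * x * y ^ n := by simp only [mul_assoc]
      _ = (z ^ n * y) * x * y ^ n := by rw [h1.eq]
      _ = z ^ n * (y * x) * y ^ n := by simp only [mul_assoc]
      _ = z ^ n * (z * x * y) * y ^ n := by rw [hz]
      _ = (z ^ n * z) * x * (y * y ^ n) := by simp only [mul_assoc]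
      _ = z ^ (n + 1) * x * y ^ (n + 1) := by rw [← pow_succ, ← pow_succ']

theorem mul_pow_c {x y z : G} (hz : y * x = z * x * y) (hzx : Commute z x)
    (hzy : Commute z y) (n : ℕ) : (x * y) ^ n = z ^ (n.choose 2) * x ^ n * y ^ n := by
  induction n with
  | zero => simp
  | succ n ih =>
    have h1 := pow_mul_comm_c hz hzy n
    have h2 : Commute (z ^ n) (x ^ n) := hzx.pow_pow n n
    have hc : (n + 1).choose 2 = n.choose 2 + n := by
      rw [Nat.choose_succ_succ' n 1, Nat.choose_one_right, add_comm]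
    rw [pow_succ (x * y), ih, hc, pow_add]
    calc z ^ n.choose 2 * x ^ n * y ^ n * (x * y)
        = z ^ n.choose 2 * x ^ n * (y ^ n * x) * y := by simp only [mul_assoc]
      _ = z ^ n.choose 2 * x ^ n * (z ^ n * x * y ^ n) * y := by rw [h1]
      _ = z ^ n.choose 2 * (x ^ n * z ^ n) * x * y ^ n * y := by simp only [mul_assoc]
      _ = z ^ n.choose 2 * (z ^ n * x ^ n) * x * y ^ n * y := by rw [h2.eq]
      _ = z ^ n.choose 2 * z ^ n * (x ^ n * x) * (y ^ n * y) := by simp only [mul_assoc]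
      _ = z ^ n.choose 2 * z ^ n * x ^ (n + 1) * y ^ (n + 1) := by rw [← pow_succ, ← pow_succ]

/-- If `z = [y, x]` commutes with `y` and `y ^ n` commutes with `x`, then `z ^ n = 1`. -/
theorem comm_pow_eq_one {x y : G} (hzy : Commute (y * x * y⁻¹ * x⁻¹) y) (n : ℕ)
    (hc : y ^ n * x = x * y ^ n) : (y * x * y⁻¹ * x⁻¹) ^ n = 1 := by
  have hz : y * x = (y * x * y⁻¹ * x⁻¹) * x * y := by group
  have h1 := pow_mul_comm_c hz hzy n
  rw [hc, mul_assoc] at h1
  exact (mul_eq_right (a := (y * x * y⁻¹ * x⁻¹) ^ n) (b := x * y ^ n)).mp h1.symm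

theorem zpow_pow_comm (x : G) (i : ℤ) (n : ℕ) : (x ^ n) ^ i = (x ^ i) ^ n := by
  rw [← zpow_natCast, ← zpow_mul, ← zpow_natCast, ← zpow_mul, mul_comm]

/-! ### cyclic subgroups of `p`-groups -/

variable {p : ℕ} [hp : Fact p.Prime]

/-- In a cyclic subgroup, elements of order dividing `p` are powers of any nontrivial one. -/
theorem omega_mem [Finite G] (Z : Subgroup G) (hZ : IsCyclic Z) {u z : G} (hu : u ∈ Z) (hz : z ∈ Z)
    (hup : u ^ p = 1) (hzp : z ^ p = 1) (hz1 : z ≠ 1) : u ∈ Subgroup.zpowers z := by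
  have hmem := Cfsg.Agent.Helper4.mem_zpowers_of_isCyclic_of_pow_prime hp.out
    (⟨u, hu⟩ : Z) ⟨z, hz⟩
    (Subtype.ext (by simpa using hup)) (Subtype.ext (by simpa using hzp))
    (fun h1 => hz1 (congrArg Subtype.val h1))
  obtain ⟨i, hi⟩ := Subgroup.mem_zpowers_iff.1 hmem
  rw [Subgroup.mem_zpowers_iff]
  refine ⟨i, ?_⟩
  have := congrArg Subtype.val hi
  simpa using this

/-- A generator `a` of the cyclic subgroup `Z` of a `p`-group, with its order. -/
theorem exists_gen [Finite G] (hG : IsPGroup p G) (Z : Subgroup G) (hZ : IsCyclic Z) :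
    ∃ a : G, ∃ k : ℕ, Z = Subgroup.zpowers a ∧ orderOf a = p ^ k := by
  obtain ⟨a₀, ha₀⟩ := IsCyclic.exists_generator (α := Z)
  refine ⟨(a₀ : G), ?_⟩
  obtain ⟨k, hk⟩ := (IsPGroup.iff_orderOf.1 hG) (a₀ : G)
  refine ⟨k, ?_, hk⟩
  apply le_antisymm
  · intro x hx
    obtain ⟨i, hi⟩ := Subgroup.mem_zpowers_iff.1 (ha₀ ⟨x, hx⟩)
    rw [Subgroup.mem_zpowers_iff]
    refine ⟨i, ?_⟩
    have := congrArg Subtype.val hi
    rw [Subgroup.coe_zpow] at this
    exact this
  · rw [Subgroup.zpowers_le]; exact a₀.2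

/-- If some element of `Z` has nontrivial `p`-th power, every element of order dividing `p`
is a `p`-th power. -/
theorem omega_isPow [Finite G] (hG : IsPGroup p G) (Z : Subgroup G) (hZ : IsCyclic Z)
    (h2 : ∃ v ∈ Z, v ^ p ≠ 1) {z : G} (hz : z ∈ Z) (hzp : z ^ p = 1) :
    ∃ t ∈ Z, z = t ^ p := by
  obtain ⟨a, k, hZa, hk⟩ := exists_gen hG Z hZ
  obtain ⟨v, hv, hvp⟩ := h2
  have hk2 : 2 ≤ k := by
    by_contra hlt
    push Not at hlt
    apply hvp
    rw [hZa] at hv
    obtain ⟨i, rfl⟩ := Subgroup.mem_zpowers_iff.1 hv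
    have hap : a ^ p = 1 := by
      have h1 : orderOf a ∣ p := by
        rw [hk]
        calc p ^ k ∣ p ^ 1 := pow_dvd_pow p (by omega)
          _ = p := pow_one p
      exact orderOf_dvd_iff_pow_eq_one.1 h1
    rw [← zpow_natCast, ← zpow_mul, mul_comm, zpow_mul, zpow_natCast, hap, one_zpow]
  -- the element `z' = a ^ (p ^ (k - 1))`
  have hz' : (a ^ (p ^ (k - 2))) ^ p ≠ 1 := by
    rw [← pow_mul, ← pow_succ]
    intro h1
    have h3 := orderOf_dvd_of_pow_eq_one h1
    rw [hk] at h3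
    have h4 := (Nat.pow_dvd_pow_iff_le_right hp.out.one_lt).1 h3
    omega
  have hz'p : ((a ^ (p ^ (k - 2))) ^ p) ^ p = 1 := by
    have h3 : p ^ (k - 2) * (p * p) = p ^ k := by
      rw [← pow_two, ← pow_add]; congr 1; omega
    rw [← pow_mul, ← pow_mul, h3, ← hk]
    exact pow_orderOf_eq_one a
  have hz'Z : (a ^ (p ^ (k - 2))) ^ p ∈ Z := by
    rw [hZa]
    exact Subgroup.pow_mem _ (Subgroup.pow_mem _ (Subgroup.mem_zpowers a) _) _
  have := omega_mem Z hZ hz hz'Z hzp hz'p hz'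
  obtain ⟨i, hi⟩ := Subgroup.mem_zpowers_iff.1 this
  refine ⟨(a ^ (p ^ (k - 2))) ^ i, ?_, ?_⟩
  · rw [hZa]
    exact Subgroup.zpow_mem _ (Subgroup.pow_mem _ (Subgroup.mem_zpowers a) _) _
  · rw [← hi, zpow_pow_comm]

/-- An element of `Z` which is not a `p`-th power generates `Z`. -/
theorem le_zpowers_of_not_isPow [Finite G] (hG : IsPGroup p G) (Z : Subgroup G) (hZ : IsCyclic Z)
    {u : G} (hu : u ∈ Z) (hnp : ¬ ∃ t ∈ Z, u = t ^ p) : Z ≤ Subgroup.zpowers u := by
  obtain ⟨a, k, hZa, hk⟩ := exists_gen hG Z hZ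
  have haZ : a ∈ Z := by rw [hZa]; exact Subgroup.mem_zpowers a
  rw [hZa] at hu
  obtain ⟨i, hi⟩ := Subgroup.mem_zpowers_iff.1 hu
  have hpi : ¬ (p : ℤ) ∣ i := by
    rintro ⟨j, rfl⟩
    apply hnp
    refine ⟨a ^ j, Z.zpow_mem haZ j, ?_⟩
    rw [← hi, ← zpow_natCast, ← zpow_mul, mul_comm]
  have hcop : IsCoprime i ((p : ℤ) ^ k) := by
    apply IsCoprime.pow_right
    exact ((Prime.coprime_iff_not_dvd (Nat.prime_iff_prime_int.1 hp.out)).2 hpi).symm
  obtain ⟨x, y, hxy⟩ := hcop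
  rw [hZa, Subgroup.zpowers_le, Subgroup.mem_zpowers_iff]
  refine ⟨x, ?_⟩
  have h1 : a ^ ((p : ℤ) ^ k) = 1 := by
    have := pow_orderOf_eq_one a
    rw [hk] at this
    rw [← this]
    norm_cast
  calc u ^ x = a ^ (i * x) := by rw [← hi, ← zpow_mul]
    _ = a ^ (x * i + y * (p : ℤ) ^ k) := by
        rw [zpow_add, mul_comm y, zpow_mul a ((p : ℤ) ^ k), h1, one_zpow, mul_one, mul_comm]
    _ = a := by rw [hxy, zpow_one]

/-- Extraspecial criterion for a subgroup `E` with prospective centre `D`. -/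
theorem isExtraspecial_of [Finite G] (E D : Subgroup G) (hDE : D ≤ E) (hDcard : Nat.card D = p)
    (hcen : ∀ x ∈ E, (∀ y ∈ E, x * y = y * x) → x ∈ D)
    (hDc : ∀ d ∈ D, ∀ y ∈ E, d * y = y * d)
    (hcomm : ∀ x ∈ E, ∀ y ∈ E, y * x * y⁻¹ * x⁻¹ ∈ D)
    (hpow : ∀ x ∈ E, x ^ p ∈ D) (hne : E ≠ D) : Cfsg.IsExtraspecial p ↥E := by
  have hcenter : Subgroup.center ↥E = D.subgroupOf E := by
    ext x
    rw [Subgroup.mem_center_iff, Subgroup.mem_subgroupOf]
    constructor
    · intro h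
      apply hcen x x.2
      intro y hy
      have := congrArg Subtype.val (h ⟨y, hy⟩)
      simpa using this.symm
    · intro h y
      apply Subtype.ext
      simpa using (hDc x h y y.2).symm
  have hcard : Nat.card (Subgroup.center ↥E) = p := by
    rw [hcenter, Nat.card_congr (Subgroup.subgroupOfEquivOfLe hDE).toEquiv, hDcard]
  have hIn : Cfsg.Agent.Helper3.Extra.InClass p ↥E := by
    refine ⟨hcard, fun x y => ?_, fun x => ?_⟩
    · rw [hcenter, Subgroup.mem_subgroupOf, commutatorElement_def]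
      simpa using hcomm y y.2 x x.2
    · rw [hcenter, Subgroup.mem_subgroupOf]
      simpa using hpow x x.2
  apply hIn.isExtraspecial
  by_contra hle
  push Not at hle
  apply hne
  symm
  apply Subgroup.eq_of_le_of_card_ge hDE
  rw [hDcard]
  exact hle

end Cfsg.Agent.Lead.Symp
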