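import Mathlib
import Cfsg.Agent.Lead.SympA
import Cfsg.Agent.Lead.ExtraspecialInner

set_option autoImplicit false

/-!
Towards P. Hall's theorem on `p`-groups of symplectic type: class-two subgroups with cyclic centre.
-/

namespace Cfsg.Agent.Lead.Symp

variable {G : Type*} [Group G] [Finite G] {p : ℕ} [hp : Fact p.Prime]

/-- Standing hypotheses: `S` has class at most two with central cyclic `Z` containing the `p`-th
powers, and commutators in `D = Ω₁(Z)` of order `p`. -/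
structure Ctx (p : ℕ) (S Z D : Subgroup G) : Prop where
  isP : IsPGroup p G
  hZS : Z ≤ S
  hZc : ∀ u ∈ Z, ∀ x ∈ S, u * x = x * u
  hcyc : IsCyclic Z
  hcomm : ∀ x ∈ S, ∀ y ∈ S, y * x * y⁻¹ * x⁻¹ ∈ D
  hpow : ∀ x ∈ S, x ^ p ∈ Z
  hDZ : D ≤ Z
  hDp : ∀ d ∈ D, d ^ p = 1
  hDom : ∀ u ∈ Z, u ^ p = 1 → u ∈ D
  hDcard : Nat.card D = p

variable {S Z D : Subgroup G}

theorem Ctx.mono (h : Ctx p S Z D) {S' : Subgroup G} (hS' : S' ≤ S) (hZ : Z ≤ S') :
    Ctx p S' Z D where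
  isP := h.isP
  hZS := hZ
  hZc := fun u hu x hx => h.hZc u hu x (hS' hx)
  hcyc := h.hcyc
  hcomm := fun x hx y hy => h.hcomm x (hS' hx) y (hS' hy)
  hpow := fun x hx => h.hpow x (hS' hx)
  hDZ := h.hDZ
  hDp := h.hDp
  hDom := h.hDom
  hDcard := h.hDcard

theorem Ctx.hDS (h : Ctx p S Z D) : D ≤ S := h.hDZ.trans h.hZS

theorem Ctx.exists_ne_one (h : Ctx p S Z D) : ∃ z ∈ D, z ≠ 1 := by
  have h1 : D ≠ ⊥ := by
    intro hb
    have := h.hDcard
    rw [hb, Subgroup.card_bot] at this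
    exact hp.out.one_lt.ne this
  exact (Subgroup.ne_bot_iff_exists_ne_one.1 h1) |> fun ⟨z, hz⟩ => ⟨z, z.2, fun h0 => hz (Subtype.ext h0)⟩

theorem Ctx.conj_mem (h : Ctx p S Z D) {E : Subgroup G} (hDE : D ≤ E) (hES : E ≤ S) {s : G}
    (hs : s ∈ S) {e : G} (he : e ∈ E) : s * e * s⁻¹ ∈ E := by
  have h1 := hDE (h.hcomm e (hES he) s hs)
  have h2 := E.mul_mem h1 he
  have e1 : s * e * s⁻¹ * e⁻¹ * e = s * e * s⁻¹ := by group
  rwa [e1] at h2

theorem Ctx.le_normalizer (h : Ctx p S Z D) {E : Subgroup G} (hDE : D ≤ E) (hES : E ≤ S) :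
    S ≤ Subgroup.normalizer (E : Set G) := by
  intro s hs
  rw [Subgroup.mem_normalizer_iff]
  intro e
  constructor
  · intro he
    exact h.conj_mem hDE hES hs he
  · intro he
    have := h.conj_mem hDE hES (S.inv_mem hs) he
    have e1 : s⁻¹ * (s * e * s⁻¹) * s⁻¹⁻¹ = e := by group
    rwa [e1] at this

/-- elements of `Z` commute -/
theorem Ctx.comm_Z (h : Ctx p S Z D) {u v : G} (hu : u ∈ Z) (hv : v ∈ Z) : Commute u v :=
  h.hZc u hu v (h.hZS hv)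

/-- the `p`-th power of a product, up to `D` -/
theorem Ctx.mul_pow (h : Ctx p S Z D) {x y : G} (hx : x ∈ S) (hy : y ∈ S) :
    ∃ d ∈ D, (x * y) ^ p = d * x ^ p * y ^ p := by
  obtain ⟨z, hzdef⟩ : ∃ z, z = y * x * y⁻¹ * x⁻¹ := ⟨_, rfl⟩
  have hzD : z ∈ D := by rw [hzdef]; exact h.hcomm x hx y hy
  have hzZ : z ∈ Z := h.hDZ hzD
  have hz : y * x = z * x * y := by rw [hzdef]; group
  refine ⟨z ^ (p.choose 2), D.pow_mem hzD _, ?_⟩
  exact mul_pow_c hz (h.hZc z hzZ x hx) (h.hZc z hzZ y hy) p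

/-- the elements of `S` whose `p`-th power is a `p`-th power in `Z` -/
def Ctx.T0 (h : Ctx p S Z D) (h2 : ∃ v ∈ Z, v ^ p ≠ 1) : Subgroup G where
  carrier := {x | x ∈ S ∧ ∃ t ∈ Z, x ^ p = t ^ p}
  one_mem' := ⟨S.one_mem, 1, Z.one_mem, by simp⟩
  mul_mem' := by
    rintro x y ⟨hx, t, ht, hxt⟩ ⟨hy, s, hs, hys⟩
    refine ⟨S.mul_mem hx hy, ?_⟩
    obtain ⟨d, hd, hxy⟩ := h.mul_pow hx hy
    obtain ⟨r, hr, hdr⟩ := omega_isPow h.isP Z h.hcyc h2 (h.hDZ hd) (h.hDp d hd)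
    refine ⟨r * t * s, Z.mul_mem (Z.mul_mem hr ht) hs, ?_⟩
    have c1 : Commute r t := h.comm_Z hr ht
    have c2 : Commute (r * t) s := h.comm_Z (Z.mul_mem hr ht) hs
    rw [c2.mul_pow, c1.mul_pow, hxy, hdr, hxt, hys]
  inv_mem' := by
    rintro x ⟨hx, t, ht, hxt⟩
    exact ⟨S.inv_mem hx, t⁻¹, Z.inv_mem ht, by rw [inv_pow, inv_pow, hxt]⟩

theorem Ctx.mem_T0 (h : Ctx p S Z D) (h2 : ∃ v ∈ Z, v ^ p ≠ 1) {x : G} :
    x ∈ h.T0 h2 ↔ x ∈ S ∧ ∃ t ∈ Z, x ^ p = t ^ p := Iff.rfl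

theorem Ctx.T0_le (h : Ctx p S Z D) (h2 : ∃ v ∈ Z, v ^ p ≠ 1) : h.T0 h2 ≤ S := fun _ hx => hx.1

theorem Ctx.Z_le_T0 (h : Ctx p S Z D) (h2 : ∃ v ∈ Z, v ^ p ≠ 1) : Z ≤ h.T0 h2 :=
  fun u hu => ⟨h.hZS hu, u, hu, rfl⟩

theorem Ctx.T0_characteristic (h : Ctx p S Z D) (h2 : ∃ v ∈ Z, v ^ p ≠ 1)
    (hS : S.Characteristic) (hZ : Z.Characteristic) : (h.T0 h2).Characteristic := by
  rw [Subgroup.characteristic_iff_map_le]
  intro φ y hy
  obtain ⟨x, hx, rfl⟩ := Subgroup.mem_map.1 hy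
  obtain ⟨hxS, t, ht, hxt⟩ := hx
  have hSφ := Subgroup.characteristic_iff_map_le.1 hS φ
  have hZφ := Subgroup.characteristic_iff_map_le.1 hZ φ
  refine ⟨hSφ (Subgroup.mem_map_of_mem _ hxS), φ t, hZφ (Subgroup.mem_map_of_mem _ ht), ?_⟩
  change (φ x) ^ p = (φ t) ^ p
  rw [← map_pow, ← map_pow, hxt]

/-- every element of `S` of the right shape splits as (order dividing `p`) times (central). -/
theorem Ctx.split (h : Ctx p S Z D) {x t : G} (hx : x ∈ S) (ht : t ∈ Z) (hxt : x ^ p = t ^ p) :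
    (x * t⁻¹) ^ p = 1 := by
  have c0 : Commute x t := (h.hZc t ht x hx).symm
  have c : Commute x t⁻¹ := c0.inv_right
  rw [c.mul_pow, inv_pow, hxt, mul_inv_cancel]

/-- A maximal subgroup meeting `Z` in `D` supplements `Z`. -/
theorem Ctx.exists_E (h : Ctx p S Z D) (hform : ∀ x ∈ S, ∃ t ∈ Z, x ^ p = t ^ p) :
    ∃ E : Subgroup G, D ≤ E ∧ E ≤ S ∧ E ⊓ Z = D ∧ E ⊔ Z = S := by
  let 𝒮 : Set (Subgroup G) := {E | D ≤ E ∧ E ≤ S ∧ E ⊓ Z = D}
  have hD𝒮 : D ∈ 𝒮 := ⟨le_rfl, h.hDS, inf_eq_left.2 h.hDZ⟩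
  obtain ⟨E, -, hEmax⟩ := (Set.toFinite 𝒮).exists_le_maximal hD𝒮
  obtain ⟨hDE, hES, hEZ⟩ : E ∈ 𝒮 := hEmax.prop
  refine ⟨E, hDE, hES, hEZ, ?_⟩
  apply le_antisymm (sup_le hES h.hZS)
  intro x hx
  by_contra hxK
  obtain ⟨t, ht, hxt⟩ := hform x hx
  obtain ⟨w, hwdef⟩ : ∃ w, w = x * t⁻¹ := ⟨_, rfl⟩
  have hwS : w ∈ S := by rw [hwdef]; exact S.mul_mem hx (S.inv_mem (h.hZS ht))
  have hwp : w ^ p = 1 := by rw [hwdef]; exact h.split hx ht hxt
  have hwK : w ∉ E ⊔ Z := by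
    intro hw
    apply hxK
    have : x = w * t := by rw [hwdef]; group
    rw [this]
    exact Subgroup.mul_mem _ hw (Subgroup.mem_sup_right ht)
  have hw1 : w ≠ 1 := by
    intro h1
    apply hwK
    rw [h1]
    exact Subgroup.one_mem _
  have hword : orderOf w = p := orderOf_eq_prime hwp hw1
  have hLE : Subgroup.zpowers w ≤ Subgroup.normalizer (E : Set G) := by
    rw [Subgroup.zpowers_le]
    exact h.le_normalizer hDE hES hwS
  have hcoe := Subgroup.coe_mul_of_right_le_normalizer_left E (Subgroup.zpowers w) hLE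
  have hinf : Subgroup.zpowers w ⊓ (E ⊔ Z) = ⊥ := by
    have hdvd : Nat.card ↥(Subgroup.zpowers w ⊓ (E ⊔ Z)) ∣ p := by
      rw [← hword, ← Nat.card_zpowers]
      exact Subgroup.card_dvd_of_le inf_le_left
    rcases (Nat.dvd_prime hp.out).1 hdvd with h1 | h1
    · exact Subgroup.card_eq_one.1 h1
    · exfalso
      apply hwK
      have : Subgroup.zpowers w ⊓ (E ⊔ Z) = Subgroup.zpowers w := by
        apply Subgroup.eq_of_le_of_card_ge inf_le_left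
        rw [h1, Nat.card_zpowers, hword]
      have h3 : w ∈ Subgroup.zpowers w ⊓ (E ⊔ Z) := by
        rw [this]; exact Subgroup.mem_zpowers w
      exact h3.2
  have hE1 : E ⊔ Subgroup.zpowers w ∈ 𝒮 := by
    refine ⟨hDE.trans le_sup_left, sup_le hES (by rw [Subgroup.zpowers_le]; exact hwS), ?_⟩
    apply le_antisymm
    · rintro g ⟨hg1, hg2⟩
      have hg1' : g ∈ ((E ⊔ Subgroup.zpowers w : Subgroup G) : Set G) := hg1
      rw [hcoe] at hg1'
      obtain ⟨e, he, v, hv, rfl⟩ := Set.mem_mul.1 hg1'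
      have hvK : v ∈ E ⊔ Z := by
        have : v = e⁻¹ * (e * v) := by group
        rw [this]
        exact Subgroup.mul_mem _ (Subgroup.mem_sup_left (E.inv_mem he)) (Subgroup.mem_sup_right hg2)
      have hv1 : v = 1 := by
        have : v ∈ Subgroup.zpowers w ⊓ (E ⊔ Z) := ⟨hv, hvK⟩
        rw [hinf] at this
        exact Subgroup.mem_bot.1 this
      rw [hv1, mul_one] at hg2 ⊢
      rw [← hEZ]
      exact ⟨he, hg2⟩
    · exact le_inf (hDE.trans le_sup_left) h.hDZ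
  have := hEmax.le_of_ge hE1 le_sup_left
  apply hwK
  exact Subgroup.mem_sup_left (this (Subgroup.mem_sup_right (Subgroup.mem_zpowers w)))

/-- Such a supplement is extraspecial with centre `D`. -/
theorem Ctx.extraspecial_of (h : Ctx p S Z D)
    (hcen : ∀ x ∈ S, (∀ y ∈ S, x * y = y * x) → x ∈ Z) {E : Subgroup G} (hDE : D ≤ E)
    (hES : E ≤ S) (hEZ : E ⊓ Z = D) (hsup : E ⊔ Z = S) (hna : ∃ x ∈ S, ∃ y ∈ S, x * y ≠ y * x) :
    Cfsg.IsExtraspecial p ↥E ∧ E ⊓ Subgroup.centralizer (E : Set G) = D := by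
  have hcenE : ∀ x ∈ E, (∀ y ∈ E, x * y = y * x) → x ∈ D := by
    intro x hx hxE
    rw [← hEZ]
    refine ⟨hx, hcen x (hES hx) ?_⟩
    have hle : E ⊔ Z ≤ Subgroup.centralizer ({x} : Set G) := by
      apply sup_le
      · intro e he
        rw [Subgroup.mem_centralizer_singleton_iff]
        exact (hxE e he).symm
      · intro u hu
        rw [Subgroup.mem_centralizer_singleton_iff]
        exact h.hZc u hu x (hES hx)
    intro y hy
    rw [← hsup] at hy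
    have := Subgroup.mem_centralizer_singleton_iff.1 (hle hy)
    exact this.symm
  have hDc : ∀ d ∈ D, ∀ y ∈ E, d * y = y * d := fun d hd y hy => h.hZc d (h.hDZ hd) y (hES hy)
  refine ⟨?_, ?_⟩
  · apply isExtraspecial_of E D hDE h.hDcard hcenE hDc
      (fun x hx y hy => h.hcomm x (hES hx) y (hES hy))
    · intro x hx
      rw [← hEZ]
      exact ⟨E.pow_mem hx p, h.hpow x (hES hx)⟩
    · intro hED
      obtain ⟨x, hx, y, hy, hxy⟩ := hna
      apply hxy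
      have hSZ : S ≤ Z := by
        rw [← hsup, hED]
        exact sup_le h.hDZ le_rfl
      exact (h.hZc x (hSZ hx) y hy)
  · apply le_antisymm
    · rintro x ⟨hx, hxc⟩
      apply hcenE x hx
      intro y hy
      exact (Subgroup.mem_centralizer_iff.1 hxc y hy).symm
    · intro d hd
      refine Subgroup.mem_inf.2 ⟨hDE hd, ?_⟩
      rw [Subgroup.mem_centralizer_iff]
      intro y hy
      exact (hDc d hd y hy).symm

end Cfsg.Agent.Lead.Symp
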