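import Mathlib
import Cfsg.Agent.Lead.SympB

set_option autoImplicit false

/-!
Towards P. Hall's theorem on `p`-groups of symplectic type: `p`-th powers in the class two
characteristic subgroup are `p`-th powers of central elements.
-/

namespace Cfsg.Agent.Lead.Symp

variable {G : Type*} [Group G] [Finite G] {p : ℕ} [hp : Fact p.Prime] {S Z D : Subgroup G}

/-- No element outside `T0` centralizes `T0`. -/
theorem Ctx.no_outer_central (h : Ctx p S Z D)
    (hcen : ∀ x ∈ S, (∀ y ∈ S, x * y = y * x) → x ∈ Z) (h2 : ∃ v ∈ Z, v ^ p ≠ 1) {b : G}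
    (hbS : b ∈ S) (hbT : b ∉ h.T0 h2) (hbc : ∀ y ∈ h.T0 h2, b * y = y * b) : False := by
  have hnp : ¬ ∃ t ∈ Z, b ^ p = t ^ p := fun ⟨t, ht, hbt⟩ => hbT ⟨hbS, t, ht, hbt⟩
  have hgen := le_zpowers_of_not_isPow h.isP Z h.hcyc (h.hpow b hbS) hnp
  apply hbT
  apply h.Z_le_T0 h2
  apply hcen b hbS
  intro g hg
  obtain ⟨j, hj⟩ := Subgroup.mem_zpowers_iff.1 (hgen (h.hpow g hg))
  rw [zpow_pow_comm] at hj
  have hbjS : b ^ j ∈ S := S.zpow_mem hbS j
  have hg'S : (b ^ j)⁻¹ * g ∈ S := S.mul_mem (S.inv_mem hbjS) hg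
  obtain ⟨d, hd, hdp⟩ := h.mul_pow (S.inv_mem hbjS) hg
  rw [inv_pow, hj, mul_assoc, inv_mul_cancel, mul_one] at hdp
  obtain ⟨r, hr, hdr⟩ := omega_isPow h.isP Z h.hcyc h2 (h.hDZ hd) (h.hDp d hd)
  have hg'T : (b ^ j)⁻¹ * g ∈ h.T0 h2 := ⟨hg'S, r, hr, by rw [hdp, hdr]⟩
  have c1 : Commute b ((b ^ j)⁻¹ * g) := hbc _ hg'T
  have c2 : Commute b (b ^ j) := (Commute.refl b).zpow_right j
  have c3 : Commute b (b ^ j * ((b ^ j)⁻¹ * g)) := c2.mul_right c1
  have e : b ^ j * ((b ^ j)⁻¹ * g) = g := by group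
  rw [e] at c3
  exact c3

/-- **Claim A**: all `p`-th powers are `p`-th powers of elements of `Z`, when `|Z| ≥ p²`. -/
theorem Ctx.claimA (h : Ctx p S Z D) (hS : S.Characteristic) (hZ : Z.Characteristic)
    (hsymp : ∀ A : Subgroup G, A.Characteristic → IsMulCommutative A → IsCyclic A)
    (hcen : ∀ x ∈ S, (∀ y ∈ S, x * y = y * x) → x ∈ Z) (h2 : ∃ v ∈ Z, v ^ p ≠ 1) :
    ∀ x ∈ S, ∃ t ∈ Z, x ^ p = t ^ p := by
  by_contra hcon
  push Not at hcon
  obtain ⟨x₀, hx₀S, hx₀⟩ := hcon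
  have hx₀T : x₀ ∉ h.T0 h2 := fun ⟨_, t, ht, hxt⟩ => hx₀ t ht hxt
  have hT0char : (h.T0 h2).Characteristic := h.T0_characteristic h2 hS hZ
  have hctx0 : Ctx p (h.T0 h2) Z D := h.mono (h.T0_le h2) (h.Z_le_T0 h2)
  by_cases hc0 : ∀ x ∈ h.T0 h2, (∀ y ∈ h.T0 h2, x * y = y * x) → x ∈ Z
  · obtain ⟨E, hDE, hET, hEZ, hsupE⟩ := hctx0.exists_E (fun x hx => hx.2)
    by_cases hab : ∀ x ∈ h.T0 h2, ∀ y ∈ h.T0 h2, x * y = y * x
    · apply h.no_outer_central hcen h2 hx₀S hx₀T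
      intro y hy
      have hyZ : y ∈ Z := hc0 y hy (fun y' hy' => hab y hy y' hy')
      exact (h.hZc y hyZ x₀ hx₀S).symm
    · push Not at hab
      obtain ⟨hEx, hEc⟩ := hctx0.extraspecial_of hc0 hDE hET hEZ hsupE hab
      have hx₀sup : x₀ ∈ E ⊔ Subgroup.centralizer (E : Set G) := by
        apply mem_sup_centralizer_of_extraspecial E hEx x₀
        intro e he
        rw [hEc]
        have := h.hcomm x₀ hx₀S e⁻¹ (S.inv_mem (h.T0_le h2 (hET he)))
        rwa [inv_inv] at this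
      have hcoe := Subgroup.coe_mul_of_right_le_normalizer_left E
        (Subgroup.centralizer (E : Set G)) (Subgroup.centralizer_le_normalizer _)
      have hx₀' : x₀ ∈ ((E ⊔ Subgroup.centralizer (E : Set G) : Subgroup G) : Set G) := hx₀sup
      rw [hcoe] at hx₀'
      obtain ⟨e, he, b, hb, rfl⟩ := Set.mem_mul.1 hx₀'
      have heT : e ∈ h.T0 h2 := hET he
      have hbS : b ∈ S := by
        have : b = e⁻¹ * (e * b) := by group
        rw [this]
        exact S.mul_mem (S.inv_mem (h.T0_le h2 heT)) hx₀S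
      have hbT : b ∉ h.T0 h2 := fun hbT => hx₀T ((h.T0 h2).mul_mem heT hbT)
      apply h.no_outer_central hcen h2 hbS hbT
      have hle : E ⊔ Z ≤ Subgroup.centralizer ({b} : Set G) := by
        apply sup_le
        · intro e' he'
          rw [Subgroup.mem_centralizer_singleton_iff]
          exact (Subgroup.mem_centralizer_iff.1 hb e' he')
        · intro u hu
          rw [Subgroup.mem_centralizer_singleton_iff]
          exact h.hZc u hu b hbS
      intro y hy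
      rw [← hsupE] at hy
      exact (Subgroup.mem_centralizer_singleton_iff.1 (hle hy)).symm
  · push Not at hc0
    obtain ⟨y, hyT, hyc, hyZ⟩ := hc0
    obtain ⟨hyS, t, ht, hyt⟩ := hyT
    have hZ0char : (h.T0 h2 ⊓ Subgroup.centralizer (h.T0 h2 : Set G)).Characteristic :=
      inferInstance
    have hZ0comm : IsMulCommutative ↥(h.T0 h2 ⊓ Subgroup.centralizer (h.T0 h2 : Set G)) := by
      refine ⟨⟨fun a b => Subtype.ext ?_⟩⟩
      exact (Subgroup.mem_centralizer_iff.1 b.2.2 a a.2.1)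
    have hcyc0 := hsymp _ hZ0char hZ0comm
    have hZle : Z ≤ h.T0 h2 ⊓ Subgroup.centralizer (h.T0 h2 : Set G) := by
      intro u hu
      refine Subgroup.mem_inf.2 ⟨h.Z_le_T0 h2 hu, ?_⟩
      rw [Subgroup.mem_centralizer_iff]
      intro g hg
      exact (h.hZc u hu g (h.T0_le h2 hg)).symm
    have hy'p : (y * t⁻¹) ^ p = 1 := h.split hyS ht hyt
    have hy'mem : y * t⁻¹ ∈ h.T0 h2 ⊓ Subgroup.centralizer (h.T0 h2 : Set G) := by
      apply Subgroup.mul_mem _ _ (hZle (Z.inv_mem ht))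
      refine Subgroup.mem_inf.2 ⟨⟨hyS, t, ht, hyt⟩, ?_⟩
      rw [Subgroup.mem_centralizer_iff]
      intro g hg
      exact (hyc g hg).symm
    obtain ⟨z₁, hz₁D, hz₁⟩ := h.exists_ne_one
    have := omega_mem _ hcyc0 hy'mem (hZle (h.hDZ hz₁D)) hy'p (h.hDp z₁ hz₁D) hz₁
    have hy'D : y * t⁻¹ ∈ D := (Subgroup.zpowers_le.2 hz₁D) this
    apply hyZ
    have e : y = y * t⁻¹ * t := by group
    rw [e]
    exact Z.mul_mem (h.hDZ hy'D) ht

end Cfsg.Agent.Lead.Symp
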