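import Mathlib
import Cfsg.Prelude.Def_CaseTheorems
import Cfsg.Agent.Lead.SympA
import Cfsg.Agent.Lead.CycSC5

set_option autoImplicit false

/-!
Towards P. Hall's theorem on `p`-groups of symplectic type: a subgroup with a self-centralizing
cyclic normal subgroup, analysed through `CycSC.main`.
-/

namespace Cfsg.Agent.Lead.Symp

variable {G : Type*} [Group G] [Finite G] {p : ℕ} [hp : Fact p.Prime]

theorem comm_of_cyclic (Z : Subgroup G) (hZ : IsCyclic Z) {a b : G} (ha : a ∈ Z) (hb : b ∈ Z) :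
    a * b = b * a := by
  have hc : IsMulCommutative ↥Z := IsCyclic.isMulCommutative
  have := hc.is_comm.comm (⟨a, ha⟩ : Z) ⟨b, hb⟩
  exact congrArg Subtype.val this

theorem not_cyclic_of_elem {H : Type*} [Group H] [Finite H] (V : Subgroup H)
    (hV : Cfsg.IsElementaryAbelian p V) (hc : Nat.card V = p ^ 2) : ¬ IsCyclic V := by
  intro hcyc
  obtain ⟨g, hg⟩ := IsCyclic.exists_generator (α := V)
  have h1 : orderOf g = Nat.card V := orderOf_eq_card_of_forall_mem_zpowers hg
  have h2 : g ^ p = 1 := Subtype.ext (by simpa using hV.2 g g.2)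
  have h3 := orderOf_dvd_of_pow_eq_one h2
  rw [h1, hc] at h3
  have h4 := Nat.le_of_dvd hp.out.pos h3
  have h5 : p < p ^ 2 := by
    calc p = p ^ 1 := (pow_one p).symm
      _ < p ^ 2 := Nat.pow_lt_pow_right hp.out.one_lt (by norm_num)
  omega

/-- Analysis of a nonabelian subgroup `R` with a self-centralizing cyclic normal subgroup `Z`. -/
theorem analysis (hG : IsPGroup p G) (R Z : Subgroup G) (hZR : Z ≤ R) (hZcyc : IsCyclic Z)
    (hZn : ∀ r ∈ R, ∀ u ∈ Z, r * u * r⁻¹ ∈ Z)
    (hsc : ∀ r ∈ R, (∀ u ∈ Z, r * u = u * r) → r ∈ Z)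
    (hna : ∃ x ∈ R, ∃ y ∈ R, x * y ≠ y * x) (k : ℕ) (hk : Nat.card Z = p ^ k) :
    (p = 2 ∧ Nat.card R = 2 ^ (k + 1) ∧ ((∃ m : ℕ, Nonempty (↥R ≃* DihedralGroup m)) ∨
      (∃ m : ℕ, Nonempty (↥R ≃* QuaternionGroup m)) ∨ Cfsg.IsQuasiDihedral ↥R)) ∨
    (∃ w ∈ R, w ∉ Z ∧ w ^ p = 1 ∧ (∀ u ∈ Z, w * u ^ p = u ^ p * w) ∧
      (∀ m ∈ R, (∀ u ∈ Z, m * u ^ p = u ^ p * m) → ∃ u ∈ Z, ∃ i : ℤ, m = u * w ^ i) ∧
      ((∀ r ∈ R, ∀ u ∈ Z, r * u ^ p = u ^ p * r) → Nat.card R = p ^ (k + 1))) := by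
  obtain ⟨U, hUdef⟩ : ∃ U : Subgroup ↥R, U = Z.subgroupOf R := ⟨_, rfl⟩
  have hmemU : ∀ x : ↥R, x ∈ U ↔ (x : G) ∈ Z := by
    intro x; rw [hUdef, Subgroup.mem_subgroupOf]
  have hUn : U.Normal := by
    refine ⟨fun u hu r => ?_⟩
    rw [hmemU] at hu ⊢
    simpa using hZn r r.2 u hu
  have hUcyc : IsCyclic U := by
    rw [hUdef]
    exact (Subgroup.subgroupOfEquivOfLe hZR).isCyclic.2 hZcyc
  have hUk : Nat.card U = p ^ k := by
    rw [hUdef, Nat.card_congr (Subgroup.subgroupOfEquivOfLe hZR).toEquiv, hk]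
  have hC : Subgroup.centralizer (U : Set ↥R) = U := by
    ext r
    rw [Subgroup.mem_centralizer_iff, hmemU]
    constructor
    · intro h
      apply hsc r r.2
      intro u hu
      have := h ⟨u, hZR hu⟩ ((hmemU _).2 hu)
      exact (congrArg Subtype.val this).symm
    · intro hr u hu
      apply Subtype.ext
      exact comm_of_cyclic Z hZcyc ((hmemU u).1 hu) hr
  have hna' : ¬ IsMulCommutative ↥R := by
    intro hc
    obtain ⟨x, hx, y, hy, hxy⟩ := hna
    apply hxy
    have := hc.is_comm.comm (⟨x, hx⟩ : R) ⟨y, hy⟩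
    exact congrArg Subtype.val this
  rcases Cfsg.Agent.Lead.CycSC.main (hG.to_subgroup R) hna' U hUcyc k hUk hC with h | h
  · left
    exact h
  · right
    obtain ⟨hrel, hel, hcardΩ, -⟩ := h
    obtain ⟨PC, hPCdef⟩ : ∃ PC : Subgroup ↥R, PC = Cfsg.powerClosure p 1 U := ⟨_, rfl⟩
    rw [← hPCdef] at hrel hel hcardΩ
    obtain ⟨M', hM'def⟩ : ∃ M' : Subgroup ↥R, M' = Subgroup.centralizer (PC : Set ↥R) := ⟨_, rfl⟩
    rw [← hM'def] at hrel hel hcardΩ
    have hncyc := not_cyclic_of_elem _ hel hcardΩ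
    -- membership in `M'`
    have hmemM' : ∀ m : ↥R, m ∈ M' ↔ ∀ u ∈ Z, (m : G) * u ^ p = u ^ p * m := by
      intro m
      rw [hM'def]
      constructor
      · intro hm u hu
        have h1 : (⟨u, hZR hu⟩ : ↥R) ^ (p ^ 1) ∈ PC := by
          rw [hPCdef]
          exact Subgroup.subset_closure ⟨⟨u, hZR hu⟩, (hmemU _).2 hu, rfl⟩
        have := Subgroup.mem_centralizer_iff.1 hm _ h1
        have h2 := congrArg Subtype.val this
        simp only [pow_one, Subgroup.coe_mul, Subgroup.coe_pow] at h2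
        exact h2.symm
      · intro hm
        have hle : PC ≤ Subgroup.centralizer ({m} : Set ↥R) := by
          rw [hPCdef, Cfsg.powerClosure, Subgroup.closure_le]
          rintro y ⟨x, hx, rfl⟩
          rw [SetLike.mem_coe, Subgroup.mem_centralizer_singleton_iff]
          apply Subtype.ext
          have := hm x ((hmemU x).1 hx)
          simpa using this.symm
        rw [Subgroup.mem_centralizer_iff]
        intro y hy
        exact (Subgroup.mem_centralizer_singleton_iff.1 (hle hy))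
    have hUM' : U ≤ M' := by
      intro u hu
      rw [hmemM']
      intro v hv
      exact comm_of_cyclic Z hZcyc ((hmemU u).1 hu) (Z.pow_mem hv p)
    -- an element of order `p` outside `U`
    have hexw : ∃ w' : ↥R, w' ∈ M' ∧ w' ^ p = 1 ∧ w' ∉ U := by
      by_contra hcon
      push Not at hcon
      apply hncyc
      have hle : Cfsg.omegaOne p M' ≤ U := by
        rw [Cfsg.omegaOne, Subgroup.closure_le]
        rintro x ⟨hx1, hx2⟩
        exact hcon x hx1 hx2
      exact isCyclic_of_injective (Subgroup.inclusion hle) (Subgroup.inclusion_injective hle)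
    obtain ⟨w', hw'M, hw'p, hw'U⟩ := hexw
    have hsupM : M' ≤ U ⊔ Subgroup.zpowers w' := by
      have h1 : U ≤ U ⊔ Subgroup.zpowers w' := le_sup_left
      have h2 : U ⊔ Subgroup.zpowers w' ≤ M' :=
        sup_le hUM' (by rw [Subgroup.zpowers_le]; exact hw'M)
      have h3 := Subgroup.relIndex_mul_relIndex _ _ _ h1 h2
      rw [hrel] at h3
      have h4 : U.relIndex (U ⊔ Subgroup.zpowers w') ≠ 1 := by
        intro h5
        rw [Subgroup.relIndex_eq_one] at h5
        exact hw'U (h5 (Subgroup.mem_sup_right (Subgroup.mem_zpowers w')))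
      have h6 : U.relIndex (U ⊔ Subgroup.zpowers w') ∣ p := ⟨_, h3.symm⟩
      rcases (Nat.dvd_prime hp.out).1 h6 with h7 | h7
      · exact absurd h7 h4
      · rw [h7] at h3
        have h8 : (U ⊔ Subgroup.zpowers w').relIndex M' = 1 := by
          have := hp.out.pos
          exact Nat.eq_of_mul_eq_mul_left this (by rw [h3, mul_one])
        exact Subgroup.relIndex_eq_one.1 h8
    refine ⟨(w' : G), w'.2, fun hw => hw'U ((hmemU w').2 hw), ?_, (hmemM' w').1 hw'M, ?_, ?_⟩
    · have := congrArg Subtype.val hw'p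
      simpa using this
    · intro m hmR hm
      have hmM' : (⟨m, hmR⟩ : ↥R) ∈ M' := (hmemM' _).2 hm
      have h1 : (⟨m, hmR⟩ : ↥R) ∈ ((U ⊔ Subgroup.zpowers w' : Subgroup ↥R) : Set ↥R) := hsupM hmM'
      rw [Subgroup.normal_mul] at h1
      obtain ⟨u, hu, v, hv, huv⟩ := Set.mem_mul.1 h1
      obtain ⟨i, rfl⟩ := Subgroup.mem_zpowers_iff.1 hv
      refine ⟨(u : G), (hmemU u).1 hu, i, ?_⟩
      have := congrArg Subtype.val huv
      simp only [Subgroup.coe_mul, Subgroup.coe_zpow] at this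
      exact this.symm
    · intro hcen
      have hM'top : M' = ⊤ := by
        rw [eq_top_iff]
        intro m _
        rw [hmemM']
        intro u hu
        exact hcen m m.2 u hu
      rw [hM'top, Subgroup.relIndex_top_right] at hrel
      have := U.card_mul_index
      rw [hrel, hUk] at this
      rw [← this, pow_succ]

end Cfsg.Agent.Lead.Symp
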