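import Mathlib
import Cfsg.Agent.Lead.SympC

set_option autoImplicit false

/-!
Towards P. Hall's theorem on `p`-groups of symplectic type: the centralizer of `Z ^ p` is too
large when `R` contains a noncentral element of order `p` centralizing `Z ^ p`.
-/

namespace Cfsg.Agent.Lead.Symp

variable {G : Type*} [Group G] [Finite G] {p : ℕ} [hp : Fact p.Prime]

theorem normal_of_central (D : Subgroup G) (hDcen : ∀ d ∈ D, ∀ g : G, d * g = g * d) :
    D.Normal := by
  refine ⟨fun d hd g => ?_⟩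
  have : g * d * g⁻¹ = d := by rw [← hDcen d hd g]; group
  rw [this]; exact hd

theorem targ (hG : IsPGroup p G)
    (hsymp : ∀ A : Subgroup G, A.Characteristic → IsMulCommutative A → IsCyclic A)
    (E R Z D : Subgroup G) (hZchar : Z.Characteristic) (hZcyc : IsCyclic Z)
    (hDZ : D ≤ Z) (hDp : ∀ d ∈ D, d ^ p = 1) (hDom : ∀ u ∈ Z, u ^ p = 1 → u ∈ D)
    (hDcard : Nat.card D = p) (hDcen : ∀ d ∈ D, ∀ g : G, d * g = g * d)
    (hdec : ∀ g : G, ∃ e ∈ E, ∃ r ∈ R, g = e * r)
    (hERc : ∀ e ∈ E, ∀ r ∈ R, e * r = r * e) (hZR : Z ≤ R)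
    (hEcomm : ∀ e ∈ E, ∀ e' ∈ E, e' * e * e'⁻¹ * e⁻¹ ∈ D) (hEpow : ∀ e ∈ E, e ^ p ∈ D)
    (hEcen : ∀ e ∈ E, (∀ e' ∈ E, e * e' = e' * e) → e ∈ D)
    (hsc : ∀ r ∈ R, (∀ u ∈ Z, r * u = u * r) → r ∈ Z)
    {w : G} (hwR : w ∈ R) (hwZ : w ∉ Z) (hwp : w ^ p = 1)
    (hwc : ∀ u ∈ Z, w * u ^ p = u ^ p * w)
    (hM : ∀ m ∈ R, (∀ u ∈ Z, m * u ^ p = u ^ p * m) → ∃ u ∈ Z, ∃ i : ℤ, m = u * w ^ i)
    (h3 : ∃ v ∈ Z, (v ^ p) ^ p ≠ 1) : False := by
  have hDn : D.Normal := normal_of_central D hDcen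
  have hZZ : ∀ {a b : G}, a ∈ Z → b ∈ Z → a * b = b * a := by
    intro a b ha hb
    have hc : IsMulCommutative ↥Z := IsCyclic.isMulCommutative
    exact congrArg Subtype.val (hc.is_comm.comm (⟨a, ha⟩ : Z) ⟨b, hb⟩)
  have hZn : ∀ g : G, ∀ u ∈ Z, g * u * g⁻¹ ∈ Z := by
    intro g u hu
    have : Z.Normal := inferInstance
    exact this.conj_mem u hu g
  -- the subgroup `T = C(Z ^ p)`
  obtain ⟨T, hTdef⟩ : ∃ T : Subgroup G, T = Subgroup.centralizer {y : G | ∃ u ∈ Z, y = u ^ p} :=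
    ⟨_, rfl⟩
  have hmemT : ∀ g : G, g ∈ T ↔ ∀ u ∈ Z, g * u ^ p = u ^ p * g := by
    intro g
    rw [hTdef, Subgroup.mem_centralizer_iff]
    constructor
    · intro h u hu
      exact (h _ ⟨u, hu, rfl⟩).symm
    · rintro h _ ⟨u, hu, rfl⟩
      exact (h u hu).symm
  have hTchar : T.Characteristic := by
    rw [Subgroup.characteristic_iff_map_le]
    intro φ y hy
    obtain ⟨g, hg, rfl⟩ := Subgroup.mem_map.1 hy
    rw [hmemT] at hg
    rw [hmemT]
    intro u hu
    have hu' : φ.symm u ∈ Z := by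
      have := Subgroup.characteristic_iff_map_le.1 hZchar φ.symm
      exact this (Subgroup.mem_map_of_mem _ hu)
    have h1 := hg _ hu'
    have h2 := congrArg φ h1
    simp only [map_mul, map_pow, MulEquiv.apply_symm_apply] at h2
    exact h2
  have hZT : Z ≤ T := by
    intro u hu
    rw [hmemT]
    intro v hv
    exact hZZ hu (Z.pow_mem hv p)
  have hET : E ≤ T := by
    intro e he
    rw [hmemT]
    intro v hv
    exact hERc e he _ (hZR (Z.pow_mem hv p))
  have hwT : w ∈ T := (hmemT w).2 hwc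
  -- decomposition of elements of `T`
  have hdecT : ∀ x ∈ T, ∃ e ∈ E, ∃ u ∈ Z, ∃ i : ℤ, x = e * u * w ^ i := by
    intro x hx
    obtain ⟨e, he, r, hr, rfl⟩ := hdec x
    have hrT : r ∈ T := by
      have : r = e⁻¹ * (e * r) := by group
      rw [this]
      exact T.mul_mem (T.inv_mem (hET he)) hx
    obtain ⟨u, hu, i, rfl⟩ := hM r hr ((hmemT r).1 hrT)
    exact ⟨e, he, u, hu, i, by group⟩
  -- commutation modulo `D`
  obtain ⟨π, hπdef⟩ : ∃ π : G →* G ⧸ D, π = QuotientGroup.mk' D := ⟨_, rfl⟩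
  have hπker : ∀ g : G, π g = 1 ↔ g ∈ D := by
    intro g; rw [hπdef]; exact QuotientGroup.eq_one_iff g
  have cEE : ∀ e ∈ E, ∀ e' ∈ E, Commute (π e) (π e') := by
    intro e he e' he'
    have h1 := (hπker _).2 (hEcomm e' he' e he)
    simp only [map_mul, map_inv] at h1
    have h2 : π e * π e' * (π e)⁻¹ * (π e')⁻¹ * (π e' * π e) = π e' * π e := by rw [h1, one_mul]
    have h3 : π e * π e' * (π e)⁻¹ * (π e')⁻¹ * (π e' * π e) = π e * π e' := by group
    rw [h3] at h2
    exact h2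
  have cEZ : ∀ e ∈ E, ∀ u ∈ Z, Commute (π e) (π u) := fun e he u hu =>
    (show Commute e u from hERc e he u (hZR hu)).map π
  have cEw : ∀ e ∈ E, Commute (π e) (π w) := fun e he =>
    (show Commute e w from hERc e he w hwR).map π
  have cZZ : ∀ u ∈ Z, ∀ u' ∈ Z, Commute (π u) (π u') := fun u hu u' hu' =>
    (show Commute u u' from hZZ hu hu').map π
  have cZw : ∀ u ∈ Z, Commute (π u) (π w) := by
    intro u hu
    have hz : u * w * u⁻¹ * w⁻¹ ∈ Z := by
      have h1 : w * u⁻¹ * w⁻¹ ∈ Z := hZn w _ (Z.inv_mem hu)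
      have h2 := Z.mul_mem hu h1
      have e1 : u * (w * u⁻¹ * w⁻¹) = u * w * u⁻¹ * w⁻¹ := by group
      rwa [e1] at h2
    have hzp : (u * w * u⁻¹ * w⁻¹) ^ p = 1 :=
      comm_pow_eq_one (show Commute (u * w * u⁻¹ * w⁻¹) u from hZZ hz hu) p (hwc u hu).symm
    have hzD := hDom _ hz hzp
    have h1 := (hπker _).2 hzD
    simp only [map_mul, map_inv] at h1
    have h2 : π u * π w * (π u)⁻¹ * (π w)⁻¹ * (π w * π u) = π w * π u := by rw [h1, one_mul]
    have h3 : π u * π w * (π u)⁻¹ * (π w)⁻¹ * (π w * π u) = π u * π w := by group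
    rw [h3] at h2
    exact h2
  have hπx : ∀ (e u : G) (i : ℤ), π (e * u * w ^ i) = π e * π u * (π w) ^ i := by
    intro e u i; rw [map_mul, map_mul, map_zpow]
  have cTT : ∀ x ∈ T, ∀ y ∈ T, Commute (π x) (π y) := by
    intro x hx y hy
    obtain ⟨e, he, u, hu, i, rfl⟩ := hdecT x hx
    obtain ⟨e', he', u', hu', j, rfl⟩ := hdecT y hy
    rw [hπx, hπx]
    have A1 : Commute (π e) (π e' * π u' * (π w) ^ j) :=
      ((cEE e he e' he').mul_right (cEZ e he u' hu')).mul_right ((cEw e he).zpow_right j)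
    have A2 : Commute (π u) (π e' * π u' * (π w) ^ j) :=
      ((cEZ e' he' u hu).symm.mul_right (cZZ u hu u' hu')).mul_right ((cZw u hu).zpow_right j)
    have A3 : Commute ((π w) ^ i) (π e' * π u' * (π w) ^ j) :=
      (((cEw e' he').symm.mul_right (cZw u' hu').symm).mul_right
        ((Commute.refl (π w)).zpow_right j)).zpow_left i
    exact (A1.mul_left A2).mul_left A3
  have hT1 : ∀ x ∈ T, ∀ y ∈ T, y * x * y⁻¹ * x⁻¹ ∈ D := by
    intro x hx y hy
    rw [← hπker]
    simp only [map_mul, map_inv]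
    rw [(cTT y hy x hx).eq]
    group
  have hT2 : ∀ x ∈ T, ∃ u ∈ Z, ∃ d ∈ D, x ^ p = u ^ p * d := by
    intro x hx
    obtain ⟨e, he, u, hu, i, rfl⟩ := hdecT x hx
    refine ⟨u, hu, (u ^ p)⁻¹ * (e * u * w ^ i) ^ p, ?_, by group⟩
    rw [← hπker, map_mul, map_inv, map_pow, map_pow, hπx]
    have c1 : Commute (π e) (π u) := cEZ e he u hu
    have c2 : Commute (π e * π u) ((π w) ^ i) :=
      ((cEw e he).zpow_right i).mul_left ((cZw u hu).zpow_right i)
    rw [c2.mul_pow, c1.mul_pow]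
    have h1 : (π e) ^ p = 1 := by rw [← map_pow]; exact (hπker _).2 (hEpow e he)
    have h2 : ((π w) ^ i) ^ p = 1 := by
      rw [← zpow_pow_comm, ← map_pow, hwp, map_one, one_zpow]
    rw [h1, h2]
    group
  -- the centre of `T`
  have hZtchar : (T ⊓ Subgroup.centralizer (T : Set G)).Characteristic := inferInstance
  have hZtcomm : IsMulCommutative ↥(T ⊓ Subgroup.centralizer (T : Set G)) := by
    refine ⟨⟨fun a b => Subtype.ext ?_⟩⟩
    exact (Subgroup.mem_centralizer_iff.1 b.2.2 a a.2.1)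
  have hZtcyc := hsymp _ hZtchar hZtcomm
  have hZtc : ∀ u ∈ T ⊓ Subgroup.centralizer (T : Set G), ∀ x ∈ T, u * x = x * u := by
    intro u hu x hx
    exact (Subgroup.mem_centralizer_iff.1 hu.2 x hx).symm
  have hZtZ : T ⊓ Subgroup.centralizer (T : Set G) ≤ Z := by
    intro u hu
    obtain ⟨e, he, r, hr, rfl⟩ := hdec u
    have heD : e ∈ D := by
      apply hEcen e he
      intro e' he'
      have h1 := hZtc _ hu e' (hET he')
      have h2 := hERc e' he' r hr
      -- e * r * e' = e' * e * r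
      have h3 : e * e' * r = e' * e * r := by
        calc e * e' * r = e * (e' * r) := by group
          _ = e * (r * e') := by rw [h2]
          _ = e * r * e' := by group
          _ = e' * (e * r) := h1
          _ = e' * e * r := by group
      exact mul_right_cancel h3
    have hrT : r ∈ T := by
      have : r = e⁻¹ * (e * r) := by group
      rw [this]
      exact T.mul_mem (T.inv_mem (hET he)) hu.1
    have hrZ : r ∈ Z := by
      apply hsc r hr
      intro v hv
      have h1 := hZtc _ hu v (hZT hv)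
      have h2 := hDcen e heD v
      have h3 : e * (r * v) = e * (v * r) := by
        calc e * (r * v) = e * r * v := by group
          _ = v * (e * r) := h1
          _ = v * e * r := by group
          _ = e * v * r := by rw [h2]
          _ = e * (v * r) := by group
      exact mul_left_cancel h3
    exact Z.mul_mem (hDZ heD) hrZ
  have hDZt : D ≤ T ⊓ Subgroup.centralizer (T : Set G) := by
    intro d hd
    refine Subgroup.mem_inf.2 ⟨hZT (hDZ hd), ?_⟩
    rw [Subgroup.mem_centralizer_iff]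
    intro x _
    exact (hDcen d hd x).symm
  have hpowZt : ∀ u ∈ Z, u ^ p ∈ T ⊓ Subgroup.centralizer (T : Set G) := by
    intro u hu
    refine Subgroup.mem_inf.2 ⟨hZT (Z.pow_mem hu p), ?_⟩
    rw [Subgroup.mem_centralizer_iff]
    intro x hx
    exact ((hmemT x).1 hx u hu)
  have hctx : Ctx p T (T ⊓ Subgroup.centralizer (T : Set G)) D :=
    { isP := hG
      hZS := inf_le_left
      hZc := hZtc
      hcyc := hZtcyc
      hcomm := hT1
      hpow := by
        intro x hx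
        obtain ⟨u, hu, d, hd, hxp⟩ := hT2 x hx
        rw [hxp]
        exact Subgroup.mul_mem _ (hpowZt u hu) (hDZt hd)
      hDZ := hDZt
      hDp := hDp
      hDom := fun u hu hup => hDom u (hZtZ hu) hup
      hDcard := hDcard }
  have hcenT : ∀ x ∈ T, (∀ y ∈ T, x * y = y * x) → x ∈ T ⊓ Subgroup.centralizer (T : Set G) := by
    intro x hx hxc
    refine Subgroup.mem_inf.2 ⟨hx, ?_⟩
    rw [Subgroup.mem_centralizer_iff]
    intro y hy
    exact (hxc y hy).symm
  have h2 : ∃ v ∈ T ⊓ Subgroup.centralizer (T : Set G), v ^ p ≠ 1 := by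
    obtain ⟨v, hv, hvp⟩ := h3
    exact ⟨v ^ p, hpowZt v hv, hvp⟩
  have hA := hctx.claimA hTchar hZtchar hsymp hcenT h2
  -- apply to a generator of `Z`
  obtain ⟨a, k, hZa, hk⟩ := exists_gen hG Z hZcyc
  have haZ : a ∈ Z := by rw [hZa]; exact Subgroup.mem_zpowers a
  obtain ⟨t, ht, hat⟩ := hA a (hZT haZ)
  have htZ : t ∈ Z := hZtZ ht
  have htw : t * w = w * t := hZtc t ht w hwT
  have hts : ∃ s ∈ Z, t = s ^ p := by
    by_contra hns
    have hgen := le_zpowers_of_not_isPow hG Z hZcyc htZ hns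
    apply hwZ
    apply hsc w hwR
    intro u hu
    obtain ⟨i, rfl⟩ := Subgroup.mem_zpowers_iff.1 (hgen hu)
    exact ((show Commute t w from htw).zpow_left i).eq.symm
  obtain ⟨s, hs, rfl⟩ := hts
  rw [hZa] at hs
  obtain ⟨j, rfl⟩ := Subgroup.mem_zpowers_iff.1 hs
  have hap : a ^ p ≠ 1 := by
    intro hap
    obtain ⟨v, hv, hvp⟩ := h3
    apply hvp
    rw [hZa] at hv
    obtain ⟨i, rfl⟩ := Subgroup.mem_zpowers_iff.1 hv
    rw [← zpow_pow_comm, hap, one_zpow, one_pow]
  have h5 : (a ^ p) ^ ((p : ℤ) * j - 1) = 1 := by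
    rw [zpow_sub, zpow_one, zpow_mul, zpow_natCast]
    rw [← zpow_pow_comm a j p, ← zpow_pow_comm (a ^ p) j p] at hat
    rw [← hat, mul_inv_cancel]
  have h6 := orderOf_dvd_iff_zpow_eq_one.2 h5
  obtain ⟨m, hm⟩ := (IsPGroup.iff_orderOf.1 hG) (a ^ p)
  have hm0 : m ≠ 0 := by
    intro h0
    rw [h0, pow_zero, orderOf_eq_one_iff] at hm
    exact hap hm
  have h7 : (p : ℤ) ∣ (orderOf (a ^ p) : ℤ) := by
    rw [hm]
    exact_mod_cast dvd_pow_self p hm0
  have h8 : (p : ℤ) ∣ (p : ℤ) * j - 1 := h7.trans h6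
  have h9 : (p : ℤ) ∣ 1 := by
    have := dvd_sub (dvd_mul_right (p : ℤ) j) h8
    simpa using this
  have h10 := Int.le_of_dvd one_pos h9
  have := hp.out.two_le
  omega

end Cfsg.Agent.Lead.Symp
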