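import Mathlib
import Cfsg.Agent.Lead.SympE
import Cfsg.Agent.Lead.SympD
import Cfsg.Agent.Lead.PCubeExtra
import Cfsg.Agent.Helper1.CriticalSubgroup
import Cfsg.Agent.Helper5.PGroupCenter

set_option autoImplicit false

/-!
P. Hall's theorem on `p`-groups of symplectic type: auxiliary lemmas for the final assembly.
-/

namespace Cfsg.Agent.Lead.Symp

open scoped commutatorElement

variable {G : Type*} [Group G] [Finite G] {p : ℕ} [hp : Fact p.Prime]

/-- The subgroup `Ω₁(Z)` of a cyclic normal subgroup `Z`, presented as `⟨z₀⟩`. -/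
theorem D_facts (hG : IsPGroup p G) (Z : Subgroup G) [hZn : Z.Normal] (hZcyc : IsCyclic Z) {z₀ : G}
    (hz₀ : z₀ ∈ Z) (hz₀1 : z₀ ≠ 1) (hz₀p : z₀ ^ p = 1) :
    Subgroup.zpowers z₀ ≤ Z ∧ (∀ d ∈ Subgroup.zpowers z₀, d ^ p = 1) ∧
      (∀ u ∈ Z, u ^ p = 1 → u ∈ Subgroup.zpowers z₀) ∧ Nat.card (Subgroup.zpowers z₀) = p ∧
      (∀ d ∈ Subgroup.zpowers z₀, ∀ g : G, d * g = g * d) := by
  have hDp : ∀ d ∈ Subgroup.zpowers z₀, d ^ p = 1 := by
    intro d hd
    obtain ⟨i, rfl⟩ := Subgroup.mem_zpowers_iff.1 hd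
    rw [← zpow_pow_comm, hz₀p, one_zpow]
  have hDom : ∀ u ∈ Z, u ^ p = 1 → u ∈ Subgroup.zpowers z₀ := fun u hu hup =>
    omega_mem Z hZcyc hu hz₀ hup hz₀p hz₀1
  have hDZ : Subgroup.zpowers z₀ ≤ Z := by rw [Subgroup.zpowers_le]; exact hz₀
  refine ⟨hDZ, hDp, hDom, ?_, ?_⟩
  · rw [Nat.card_zpowers]; exact orderOf_eq_prime hz₀p hz₀1
  · -- a central element of `D`
    have hDn : (Subgroup.zpowers z₀).Normal := by
      refine ⟨fun d hd g => ?_⟩
      apply hDom _ (hZn.conj_mem d (hDZ hd) g)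
      rw [conj_pow, hDp d hd]; group
    have hD1 : Subgroup.zpowers z₀ ≠ ⊥ := by
      intro hb
      apply hz₀1
      have : z₀ ∈ Subgroup.zpowers z₀ := Subgroup.mem_zpowers z₀
      rw [hb, Subgroup.mem_bot] at this
      exact this
    obtain ⟨c, hcD, hc1, hcc⟩ :=
      Cfsg.Agent.Helper5.exists_ne_one_mem_center_of_normal hG (Subgroup.zpowers z₀) hD1
    intro d hd g
    have hdc : d ∈ Subgroup.zpowers c :=
      omega_mem Z hZcyc (hDZ hd) (hDZ hcD) (hDp d hd) (hDp c hcD) hc1
    obtain ⟨i, rfl⟩ := Subgroup.mem_zpowers_iff.1 hdc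
    have : Commute c g := (hcc g).symm
    exact (this.zpow_left i).eq

/-- Elementwise facts about an extraspecial subgroup whose centre is known. -/
theorem facts_of_extraspecial (R D : Subgroup G) (hDR : D ≤ R) (hDcard : Nat.card D = p)
    (hDcR : ∀ d ∈ D, ∀ r ∈ R, d * r = r * d) (hR : Cfsg.IsExtraspecial p ↥R) :
    (∀ r ∈ R, ∀ r' ∈ R, r' * r * r'⁻¹ * r⁻¹ ∈ D) ∧ (∀ r ∈ R, r ^ p ∈ D) ∧
      (∀ r ∈ R, (∀ r' ∈ R, r * r' = r' * r) → r ∈ D) := by
  obtain ⟨⟨hP, hfr, hcomm⟩, hcard⟩ := hR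
  have hcenter : D.subgroupOf R = Subgroup.center ↥R := by
    apply Subgroup.eq_of_le_of_card_ge
    · intro x hx
      rw [Subgroup.mem_subgroupOf] at hx
      rw [Subgroup.mem_center_iff]
      intro y
      apply Subtype.ext
      simpa using (hDcR x hx y y.2).symm
    · rw [hcard, Nat.card_congr (Subgroup.subgroupOfEquivOfLe hDR).toEquiv, hDcard]
  have hmem : ∀ x : ↥R, x ∈ Subgroup.center ↥R → (x : G) ∈ D := by
    intro x hx
    rw [← hcenter, Subgroup.mem_subgroupOf] at hx
    exact hx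
  refine ⟨fun r hr r' hr' => ?_, fun r hr => ?_, fun r hr hrc => ?_⟩
  · have h1 : ⁅(⟨r', hr'⟩ : ↥R), ⟨r, hr⟩⁆ ∈ commutator ↥R := by
      rw [commutator_def]
      exact Subgroup.commutator_mem_commutator (Subgroup.mem_top _) (Subgroup.mem_top _)
    rw [hcomm] at h1
    have h2 := hmem _ h1
    rw [commutatorElement_def] at h2
    simpa using h2
  · have h1 := Cfsg.Agent.Helper1.IsPGroup.pow_mem_frattini hP (⟨r, hr⟩ : ↥R)
    rw [hfr] at h1
    have h2 := hmem _ h1
    simpa using h2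
  · apply hmem ⟨r, hr⟩
    rw [Subgroup.mem_center_iff]
    intro y
    apply Subtype.ext
    simpa using (hrc y y.2).symm

/-- The central product of two subgroups of extraspecial type with common centre is extraspecial. -/
theorem isExtraspecial_sup (E R D : Subgroup G) (hDcard : Nat.card D = p)
    (hERc : ∀ e ∈ E, ∀ r ∈ R, e * r = r * e) (hDE : D ≤ E)
    (hDcen : ∀ d ∈ D, ∀ g : G, d * g = g * d)
    (hEcomm : ∀ e ∈ E, ∀ e' ∈ E, e' * e * e'⁻¹ * e⁻¹ ∈ D) (hEpow : ∀ e ∈ E, e ^ p ∈ D)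
    (hEcen : ∀ e ∈ E, (∀ e' ∈ E, e * e' = e' * e) → e ∈ D)
    (hRcomm : ∀ r ∈ R, ∀ r' ∈ R, r' * r * r'⁻¹ * r⁻¹ ∈ D) (hRpow : ∀ r ∈ R, r ^ p ∈ D)
    (hRcen : ∀ r ∈ R, (∀ r' ∈ R, r * r' = r' * r) → r ∈ D) (hne : E ≠ D) :
    Cfsg.IsExtraspecial p ↥(E ⊔ R) := by
  have hDn : D.Normal := normal_of_central D hDcen
  have hLE : R ≤ Subgroup.normalizer (E : Set G) := by
    refine le_trans ?_ (Subgroup.centralizer_le_normalizer _)
    intro r hr
    rw [Subgroup.mem_centralizer_iff]
    intro e he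
    exact hERc e he r hr
  have hcoe := Subgroup.coe_mul_of_right_le_normalizer_left E R hLE
  have hdec : ∀ g ∈ E ⊔ R, ∃ e ∈ E, ∃ r ∈ R, g = e * r := by
    intro g hg
    have hg' : g ∈ ((E ⊔ R : Subgroup G) : Set G) := hg
    rw [hcoe] at hg'
    obtain ⟨e, he, r, hr, rfl⟩ := Set.mem_mul.1 hg'
    exact ⟨e, he, r, hr, rfl⟩
  obtain ⟨π, hπdef⟩ : ∃ π : G →* G ⧸ D, π = QuotientGroup.mk' D := ⟨_, rfl⟩
  have hπker : ∀ g : G, π g = 1 ↔ g ∈ D := by
    intro g; rw [hπdef]; exact QuotientGroup.eq_one_iff g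
  have comm_of : ∀ a b : G, b * a * b⁻¹ * a⁻¹ ∈ D → Commute (π a) (π b) := by
    intro a b hab
    have h1 := (hπker _).2 hab
    simp only [map_mul, map_inv] at h1
    have h2 : π b * π a * (π b)⁻¹ * (π a)⁻¹ * (π a * π b) = π a * π b := by rw [h1, one_mul]
    have h3 : π b * π a * (π b)⁻¹ * (π a)⁻¹ * (π a * π b) = π b * π a := by group
    rw [h3] at h2
    exact h2.symm
  apply isExtraspecial_of (E ⊔ R) D (hDE.trans le_sup_left) hDcard
  · intro g hg hgc
    obtain ⟨e, he, r, hr, rfl⟩ := hdec g hg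
    have heD : e ∈ D := by
      apply hEcen e he
      intro e' he'
      have h1 := hgc e' (Subgroup.mem_sup_left he')
      have h2 := hERc e' he' r hr
      have h3 : e * e' * r = e' * e * r := by
        calc e * e' * r = e * (e' * r) := by group
          _ = e * (r * e') := by rw [h2]
          _ = e * r * e' := by group
          _ = e' * (e * r) := h1
          _ = e' * e * r := by group
      exact mul_right_cancel h3
    have hrD : r ∈ D := by
      apply hRcen r hr
      intro r' hr'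
      have h1 := hgc r' (Subgroup.mem_sup_right hr')
      have h2 := hERc e he r' hr'
      have h3 : e * (r * r') = e * (r' * r) := by
        calc e * (r * r') = e * r * r' := by group
          _ = r' * (e * r) := h1
          _ = r' * e * r := by group
          _ = e * r' * r := by rw [h2]
          _ = e * (r' * r) := by group
      exact mul_left_cancel h3
    exact D.mul_mem heD hrD
  · intro d hd y _
    exact hDcen d hd y
  · intro x hx y hy
    obtain ⟨e, he, r, hr, rfl⟩ := hdec x hx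
    obtain ⟨e', he', r', hr', rfl⟩ := hdec y hy
    rw [← hπker]
    have c1 : Commute (π e) (π e') := comm_of e e' (hEcomm e he e' he')
    have c2 : Commute (π r) (π r') := comm_of r r' (hRcomm r hr r' hr')
    have c3 : Commute (π e) (π r') := (show Commute e r' from hERc e he r' hr').map π
    have c4 : Commute (π e') (π r) := (show Commute e' r from hERc e' he' r hr).map π
    have c5 : Commute (π e * π r) (π e' * π r') :=
      (c1.mul_right c3).mul_left (c4.symm.mul_right c2)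
    simp only [map_mul, map_inv]
    rw [c5.symm.eq]
    group
  · intro x hx
    obtain ⟨e, he, r, hr, rfl⟩ := hdec x hx
    rw [(show Commute e r from hERc e he r hr).mul_pow]
    exact D.mul_mem (hEpow e he) (hRpow r hr)
  · intro h
    apply hne
    apply le_antisymm _ hDE
    rw [← h]
    exact le_sup_left

/-- Groups of order `p ^ m`, `m ≤ 2`, are commutative. -/
theorem comm_of_card_le_sq {H : Type*} [Group H] [Finite H] {m : ℕ} (hm : m ≤ 2)
    (hc : Nat.card H = p ^ m) (a b : H) : a * b = b * a := by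
  interval_cases m
  · rw [pow_zero] at hc
    have : Subsingleton H := (Nat.card_eq_one_iff_unique.1 hc).1
    exact Subsingleton.elim _ _
  · rw [pow_one] at hc
    have hcyc : IsCyclic H := isCyclic_of_prime_card hc
    have hcm : IsMulCommutative H := IsCyclic.isMulCommutative
    exact hcm.is_comm.comm a b
  · exact (IsPGroup.isMulCommutative_of_card_eq_prime_sq hc).is_comm.comm a b

end Cfsg.Agent.Lead.Symp
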