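import Mathlib
import Cfsg.Agent.Lead.SympF

set_option autoImplicit false

/-!
P. Hall's theorem on `p`-groups of symplectic type: the final assembly.
-/

namespace Cfsg.Agent.Lead.Symp

variable {G : Type*} [Group G] [Finite G] {p : ℕ} [hp : Fact p.Prime]

/-- The conclusion of P. Hall's theorem. -/
def Goal (p : ℕ) (G : Type*) [Group G] : Prop :=
  ∃ E R : Subgroup G, (∀ e ∈ E, ∀ r ∈ R, e * r = r * e) ∧ E ⊔ R = ⊤ ∧
    (E = ⊥ ∨ Cfsg.IsExtraspecial p ↥E) ∧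
    (IsCyclic R ∨ (p = 2 ∧ 16 ≤ Nat.card R ∧ ((∃ m : ℕ, Nonempty (↥R ≃* DihedralGroup m)) ∨
      (∃ m : ℕ, Nonempty (↥R ≃* QuaternionGroup m)) ∨ Cfsg.IsQuasiDihedral ↥R)))

omit [Finite G] hp in
theorem goal_of_extraspecial (E' : Subgroup G) (hE' : Cfsg.IsExtraspecial p ↥E') (htop : E' = ⊤) :
    Goal p G := by
  refine ⟨E', ⊥, ?_, ?_, Or.inr hE', Or.inl inferInstance⟩
  · intro e _ r hr
    rw [Subgroup.mem_bot.1 hr, mul_one, one_mul]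
  · rw [sup_bot_eq, htop]

theorem exists_omega_elt (hG : IsPGroup p G) (Z : Subgroup G) (hZ1 : Z ≠ ⊥) :
    ∃ z₀ ∈ Z, z₀ ≠ 1 ∧ z₀ ^ p = 1 := by
  obtain ⟨x, hxZ, hx1⟩ : ∃ x ∈ Z, x ≠ 1 := by
    obtain ⟨x, hx⟩ := Subgroup.ne_bot_iff_exists_ne_one.1 hZ1
    exact ⟨x, x.2, fun h => hx (Subtype.ext h)⟩
  obtain ⟨m, hm⟩ := (IsPGroup.iff_orderOf.1 hG) x
  have hm0 : m ≠ 0 := by
    intro h0
    rw [h0, pow_zero, orderOf_eq_one_iff] at hm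
    exact hx1 hm
  refine ⟨x ^ (p ^ (m - 1)), Z.pow_mem hxZ _, ?_, ?_⟩
  · intro h1
    have h2 := orderOf_dvd_of_pow_eq_one h1
    rw [hm] at h2
    have h3 := (Nat.pow_dvd_pow_iff_le_right hp.out.one_lt).1 h2
    omega
  · rw [← pow_mul, ← pow_succ]
    have : m - 1 + 1 = m := by omega
    rw [this, ← hm]
    exact pow_orderOf_eq_one x

/-- In branch (b) of the analysis the subgroup `R` has order `p ^ 3`. -/
theorem card_cube_of_b (hG : IsPGroup p G)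
    (hsymp : ∀ A : Subgroup G, A.Characteristic → IsMulCommutative A → IsCyclic A)
    (E R Z D : Subgroup G) (hZchar : Z.Characteristic) (hZcyc : IsCyclic Z)
    (hDZ : D ≤ Z) (hDp : ∀ d ∈ D, d ^ p = 1) (hDom : ∀ u ∈ Z, u ^ p = 1 → u ∈ D)
    (hDcard : Nat.card D = p) (hDcen : ∀ d ∈ D, ∀ g : G, d * g = g * d)
    (hdec : ∀ g : G, ∃ e ∈ E, ∃ r ∈ R, g = e * r)
    (hERc : ∀ e ∈ E, ∀ r ∈ R, e * r = r * e) (hZR : Z ≤ R)
    (hEcomm : ∀ e ∈ E, ∀ e' ∈ E, e' * e * e'⁻¹ * e⁻¹ ∈ D) (hEpow : ∀ e ∈ E, e ^ p ∈ D)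
    (hEcen : ∀ e ∈ E, (∀ e' ∈ E, e * e' = e' * e) → e ∈ D)
    (hsc : ∀ r ∈ R, (∀ u ∈ Z, r * u = u * r) → r ∈ Z)
    {w : G} (hwR : w ∈ R) (hwZ : w ∉ Z) (hwp : w ^ p = 1)
    (hwc : ∀ u ∈ Z, w * u ^ p = u ^ p * w)
    (hM : ∀ m ∈ R, (∀ u ∈ Z, m * u ^ p = u ^ p * m) → ∃ u ∈ Z, ∃ i : ℤ, m = u * w ^ i)
    (hna : ∃ x ∈ R, ∃ y ∈ R, x * y ≠ y * x) {a : G} {k : ℕ} (haZ : a ∈ Z)
    (hk : orderOf a = p ^ k)
    (hcard3 : (∀ r ∈ R, ∀ u ∈ Z, r * u ^ p = u ^ p * r) → Nat.card R = p ^ (k + 1)) :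
    Nat.card R = p ^ 3 := by
  by_cases h3 : ∃ v ∈ Z, (v ^ p) ^ p ≠ 1
  · exact (targ hG hsymp E R Z D hZchar hZcyc hDZ hDp hDom hDcard hDcen hdec hERc hZR hEcomm hEpow
      hEcen hsc hwR hwZ hwp hwc hM h3).elim
  · push Not at h3
    have hcard := hcard3 (fun r _ u hu =>
      (hDcen _ (hDom _ (Z.pow_mem hu p) (h3 u hu)) r).symm)
    have hk2 : k ≤ 2 := by
      have h1 : a ^ (p ^ 2) = 1 := by
        rw [pow_two, pow_mul]; exact h3 a haZ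
      have h2 := orderOf_dvd_of_pow_eq_one h1
      rw [hk] at h2
      exact (Nat.pow_dvd_pow_iff_le_right hp.out.one_lt).1 h2
    have hk3 : ¬ k + 1 ≤ 2 := by
      intro hle
      obtain ⟨x, hx, y, hy, hxy⟩ := hna
      apply hxy
      have := comm_of_card_le_sq (p := p) hle hcard (⟨x, hx⟩ : ↥R) ⟨y, hy⟩
      exact congrArg Subtype.val this
    have : k + 1 = 3 := by omega
    rw [hcard, this]

/-- In branch (a) of the analysis with `|R| < 16` the subgroup `R` has order `p ^ 3`. -/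
theorem card_cube_of_a (R : Subgroup G) (hna : ∃ x ∈ R, ∃ y ∈ R, x * y ≠ y * x) {k : ℕ}
    (h2 : p = 2) (hcard : Nat.card R = 2 ^ (k + 1)) (h16 : ¬ 16 ≤ Nat.card R) :
    Nat.card R = p ^ 3 := by
  have hlt : k + 1 < 4 := by
    by_contra hge
    push Not at hge
    apply h16
    rw [hcard]
    calc 16 = 2 ^ 4 := by norm_num
      _ ≤ 2 ^ (k + 1) := Nat.pow_le_pow_right (by norm_num) hge
  have hge : ¬ k + 1 ≤ 2 := by
    intro hle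
    obtain ⟨x, hx, y, hy, hxy⟩ := hna
    apply hxy
    have := comm_of_card_le_sq (p := p) hle (by rw [hcard, h2]) (⟨x, hx⟩ : ↥R) ⟨y, hy⟩
    exact congrArg Subtype.val this
  have : k + 1 = 3 := by omega
  rw [hcard, this, h2]

end Cfsg.Agent.Lead.Symp
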