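import Mathlib
import Cfsg.Agent.Lead.SympG

set_option autoImplicit false
set_option maxHeartbeats 1000000

/-!
P. Hall's theorem on `p`-groups of symplectic type.
-/

namespace Cfsg.Agent.Lead.Symp

open scoped commutatorElement

variable {G : Type*} [Group G] [Finite G] {p : ℕ} [hp : Fact p.Prime]

theorem main (hG : IsPGroup p G)
    (hsymp : ∀ A : Subgroup G, A.Characteristic → IsMulCommutative A → IsCyclic A) :
    Goal p G := by
  obtain ⟨C, hCchar, hΦ, hCG, hCC⟩ := Cfsg.Agent.Helper1.exists_critical_subgroup hG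
  obtain ⟨Z, hZdef⟩ : ∃ Z : Subgroup G, Z = C ⊓ Subgroup.centralizer (C : Set G) := ⟨_, rfl⟩
  have hZchar : Z.Characteristic := by rw [hZdef]; infer_instance
  have hZn : Z.Normal := inferInstance
  have hZZ' : ∀ a ∈ Z, ∀ b ∈ Z, a * b = b * a := by
    intro a ha b hb
    rw [hZdef] at ha hb
    exact (Subgroup.mem_centralizer_iff.1 hb.2 a ha.1)
  have hZcomm : IsMulCommutative ↥Z :=
    ⟨⟨fun a b => Subtype.ext (hZZ' a a.2 b b.2)⟩⟩
  have hZcyc := hsymp Z hZchar hZcomm
  have hZC : Z ≤ C := by rw [hZdef]; exact inf_le_left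
  have hZcen : ∀ u ∈ Z, ∀ x ∈ C, u * x = x * u := by
    intro u hu x hx
    rw [hZdef] at hu
    exact (Subgroup.mem_centralizer_iff.1 hu.2 x hx).symm
  have hmemZ : ∀ x ∈ C, (∀ y ∈ C, x * y = y * x) → x ∈ Z := by
    intro x hx hxc
    rw [hZdef]
    refine Subgroup.mem_inf.2 ⟨hx, ?_⟩
    rw [Subgroup.mem_centralizer_iff]
    intro y hy
    exact (hxc y hy).symm
  have hCcommG : ∀ x ∈ C, ∀ g : G, x * g * x⁻¹ * g⁻¹ ∈ Z := by
    intro x hx g
    rw [hZdef]
    apply hCG
    have := Subgroup.commutator_mem_commutator hx (Subgroup.mem_top g)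
    rwa [commutatorElement_def] at this
  have hCpow : ∀ x ∈ C, x ^ p ∈ Z := by
    intro x hx
    rw [hZdef]
    refine Subgroup.mem_inf.2 ⟨C.pow_mem hx p, ?_⟩
    apply hΦ
    have h1 := Cfsg.Agent.Helper1.IsPGroup.pow_mem_frattini (hG.to_subgroup C) (⟨x, hx⟩ : ↥C)
    exact Subgroup.mem_map.2 ⟨_, h1, by simp⟩
  obtain ⟨a, k, hZa, hk⟩ := exists_gen hG Z hZcyc
  have haZ : a ∈ Z := by rw [hZa]; exact Subgroup.mem_zpowers a
  have hZcard : Nat.card Z = p ^ k := by rw [hZa, Nat.card_zpowers, hk]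
  by_cases hCab : ∀ x ∈ C, ∀ y ∈ C, x * y = y * x
  · -- `C` is abelian, hence cyclic and self-centralizing
    have hCZ : C ≤ Z := fun x hx => hmemZ x hx (fun y hy => hCab x hx y hy)
    have hsc : ∀ r ∈ (⊤ : Subgroup G), (∀ u ∈ Z, r * u = u * r) → r ∈ Z := by
      intro r _ hr
      have hrc : r ∈ Subgroup.centralizer (C : Set G) := by
        rw [Subgroup.mem_centralizer_iff]
        intro c hc
        exact (hr c (hCZ hc)).symm
      rw [hZdef]
      exact Subgroup.mem_inf.2 ⟨hCC hrc, hrc⟩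
    by_cases hGab : ∀ x y : G, x * y = y * x
    · have htopcomm : IsMulCommutative ↥(⊤ : Subgroup G) :=
        ⟨⟨fun a b => Subtype.ext (hGab a b)⟩⟩
      have hcyc := hsymp ⊤ inferInstance htopcomm
      refine ⟨⊥, ⊤, ?_, bot_sup_eq _, Or.inl rfl, Or.inl hcyc⟩
      intro e he r _
      rw [Subgroup.mem_bot.1 he, mul_one, one_mul]
    · push Not at hGab
      obtain ⟨x₀, y₀, hxy₀⟩ := hGab
      have hna : ∃ x ∈ (⊤ : Subgroup G), ∃ y ∈ (⊤ : Subgroup G), x * y ≠ y * x :=
        ⟨x₀, Subgroup.mem_top _, y₀, Subgroup.mem_top _, hxy₀⟩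
      have hcube : Nat.card (⊤ : Subgroup G) = p ^ 3 → Goal p G := by
        intro hc
        apply goal_of_extraspecial ⊤ _ rfl
        apply Cfsg.Agent.Lead.PCubeExtra.isExtraspecial_of_card_cube hc
        exact ⟨⟨x₀, Subgroup.mem_top _⟩, ⟨y₀, Subgroup.mem_top _⟩,
          fun h => hxy₀ (congrArg Subtype.val h)⟩
      rcases analysis hG ⊤ Z le_top hZcyc (fun r _ u hu => hZn.conj_mem u hu r) hsc hna k hZcard
        with h | h
      · obtain ⟨h2, hcard, htypes⟩ := h
        by_cases h16 : 16 ≤ Nat.card (⊤ : Subgroup G)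
        · refine ⟨⊥, ⊤, ?_, bot_sup_eq _, Or.inl rfl, Or.inr ⟨h2, h16, htypes⟩⟩
          intro e he r _
          rw [Subgroup.mem_bot.1 he, mul_one, one_mul]
        · exact hcube (card_cube_of_a ⊤ hna h2 hcard h16)
      · obtain ⟨w, hwR, hwZ, hwp, hwc, hM, hcard3⟩ := h
        have hZ1 : Z ≠ ⊥ := by
          intro hb
          apply hwZ
          apply hsc w hwR
          intro u hu
          rw [hb, Subgroup.mem_bot] at hu
          rw [hu, mul_one, one_mul]
        obtain ⟨z₀, hz₀Z, hz₀1, hz₀p⟩ := exists_omega_elt hG Z hZ1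
        obtain ⟨hDZ, hDp, hDom, hDcard, hDcen⟩ := D_facts hG Z hZcyc hz₀Z hz₀1 hz₀p
        apply hcube
        apply card_cube_of_b hG hsymp ⊥ ⊤ Z (Subgroup.zpowers z₀) hZchar hZcyc hDZ hDp hDom hDcard
          hDcen ?_ ?_ le_top ?_ ?_ ?_ hsc hwR hwZ hwp hwc hM hna haZ hk hcard3
        · intro g
          exact ⟨1, Subgroup.one_mem _, g, Subgroup.mem_top _, (one_mul g).symm⟩
        · intro e he r _
          rw [Subgroup.mem_bot.1 he, mul_one, one_mul]
        · intro e he e' he'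
          rw [Subgroup.mem_bot.1 he, Subgroup.mem_bot.1 he']
          simp
        · intro e he
          rw [Subgroup.mem_bot.1 he, one_pow]
          exact Subgroup.one_mem _
        · intro e he _
          rw [Subgroup.mem_bot.1 he]
          exact Subgroup.one_mem _
  · -- `C` is nonabelian
    push Not at hCab
    obtain ⟨x₁, hx₁, y₁, hy₁, hxy₁⟩ := hCab
    -- commutators in `C` have order dividing `p`
    have hcommZ : ∀ x ∈ C, ∀ y ∈ C, y * x * y⁻¹ * x⁻¹ ∈ Z := by
      intro x hx y hy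
      exact hCcommG y hy x
    have hcommp : ∀ x ∈ C, ∀ y ∈ C, (y * x * y⁻¹ * x⁻¹) ^ p = 1 := by
      intro x hx y hy
      apply comm_pow_eq_one (show Commute (y * x * y⁻¹ * x⁻¹) y from
        hZcen _ (hcommZ x hx y hy) y hy)
      exact hZcen _ (hCpow y hy) x hx
    obtain ⟨z₀, hz₀def⟩ : ∃ z₀, z₀ = y₁ * x₁ * y₁⁻¹ * x₁⁻¹ := ⟨_, rfl⟩
    have hz₀Z : z₀ ∈ Z := by rw [hz₀def]; exact hcommZ x₁ hx₁ y₁ hy₁
    have hz₀p : z₀ ^ p = 1 := by rw [hz₀def]; exact hcommp x₁ hx₁ y₁ hy₁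
    have hz₀1 : z₀ ≠ 1 := by
      intro h1
      apply hxy₁
      have h2 : y₁ * x₁ = z₀ * x₁ * y₁ := by rw [hz₀def]; group
      rw [h1, one_mul] at h2
      exact h2.symm
    obtain ⟨hDZ, hDp, hDom, hDcard, hDcen⟩ := D_facts hG Z hZcyc hz₀Z hz₀1 hz₀p
    obtain ⟨D, hDdef⟩ : ∃ D : Subgroup G, D = Subgroup.zpowers z₀ := ⟨_, rfl⟩
    rw [← hDdef] at hDZ hDp hDom hDcard hDcen
    have hctx : Ctx p C Z D :=
      { isP := hG
        hZS := hZC
        hZc := hZcen
        hcyc := hZcyc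
        hcomm := fun x hx y hy => hDom _ (hcommZ x hx y hy) (hcommp x hx y hy)
        hpow := hCpow
        hDZ := hDZ
        hDp := hDp
        hDom := hDom
        hDcard := hDcard }
    have hna : ∃ x ∈ C, ∃ y ∈ C, x * y ≠ y * x := ⟨x₁, hx₁, y₁, hy₁, hxy₁⟩
    -- the extraspecial subgroup `E`
    have hexE : ∃ E : Subgroup G, D ≤ E ∧ E ≤ C ∧ E ⊓ Z = D ∧ E ⊔ Z = C := by
      by_cases h2 : ∃ v ∈ Z, v ^ p ≠ 1
      · exact hctx.exists_E (hctx.claimA hCchar hZchar hsymp hmemZ h2)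
      · push Not at h2
        have hZD : Z ≤ D := fun u hu => hDom u hu (h2 u hu)
        refine ⟨C, hctx.hDS, le_rfl, ?_, sup_eq_left.2 hZC⟩
        rw [inf_eq_right.2 hZC]
        exact le_antisymm hZD hDZ
    obtain ⟨E, hDE, hEC, hEZ, hEsup⟩ := hexE
    obtain ⟨hEx, hEc⟩ := hctx.extraspecial_of hmemZ hDE hEC hEZ hEsup hna
    have hEpow : ∀ e ∈ E, e ^ p ∈ D := by
      intro e he
      rw [← hEZ]
      exact Subgroup.mem_inf.2 ⟨E.pow_mem he p, hCpow e (hEC he)⟩
    have hEcomm : ∀ e ∈ E, ∀ e' ∈ E, e' * e * e'⁻¹ * e⁻¹ ∈ D := fun e he e' he' =>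
      hctx.hcomm e (hEC he) e' (hEC he')
    have hEcen : ∀ e ∈ E, (∀ e' ∈ E, e * e' = e' * e) → e ∈ D := by
      intro e he hec
      rw [← hEc]
      refine Subgroup.mem_inf.2 ⟨he, ?_⟩
      rw [Subgroup.mem_centralizer_iff]
      intro e' he'
      exact (hec e' he').symm
    -- `G` acts on `E` by central multipliers
    have hGE : ∀ g : G, ∀ e ∈ E, e⁻¹ * g * e * g⁻¹ ∈ D := by
      intro g e he
      have heC : e⁻¹ ∈ C := C.inv_mem (hEC he)
      have h1 : e⁻¹ * g * e⁻¹⁻¹ * g⁻¹ ∈ Z := hCcommG e⁻¹ heC g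
      have h2 : (e⁻¹ * g * e⁻¹⁻¹ * g⁻¹) ^ p = 1 := by
        apply comm_pow_eq_one (show Commute (e⁻¹ * g * e⁻¹⁻¹ * g⁻¹) e⁻¹ from hZcen _ h1 _ heC)
        have h3 : (e⁻¹) ^ p ∈ D := hEpow _ (E.inv_mem he)
        exact hDcen _ h3 g
      have h4 := hDom _ h1 h2
      rwa [inv_inv] at h4
    have hGsup : ∀ g : G, g ∈ E ⊔ Subgroup.centralizer (E : Set G) := by
      intro g
      apply mem_sup_centralizer_of_extraspecial E hEx g
      intro e he
      rw [hEc]
      exact hGE g e he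
    obtain ⟨R, hRdef⟩ : ∃ R : Subgroup G, R = Subgroup.centralizer (E : Set G) := ⟨_, rfl⟩
    rw [← hRdef] at hGsup
    have hERc : ∀ e ∈ E, ∀ r ∈ R, e * r = r * e := by
      intro e he r hr
      rw [hRdef] at hr
      exact Subgroup.mem_centralizer_iff.1 hr e he
    have hsup : E ⊔ R = ⊤ := by
      rw [eq_top_iff]
      intro g _
      exact hGsup g
    have hdec : ∀ g : G, ∃ e ∈ E, ∃ r ∈ R, g = e * r := by
      intro g
      have hLE : R ≤ Subgroup.normalizer (E : Set G) := by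
        rw [hRdef]; exact Subgroup.centralizer_le_normalizer _
      have hcoe := Subgroup.coe_mul_of_right_le_normalizer_left E R hLE
      have hg' : g ∈ ((E ⊔ R : Subgroup G) : Set G) := hGsup g
      rw [hcoe] at hg'
      obtain ⟨e, he, r, hr, rfl⟩ := Set.mem_mul.1 hg'
      exact ⟨e, he, r, hr, rfl⟩
    have hZR : Z ≤ R := by
      intro u hu
      rw [hRdef, Subgroup.mem_centralizer_iff]
      intro e he
      exact (hZcen u hu e (hEC he)).symm
    have hsc : ∀ r ∈ R, (∀ u ∈ Z, r * u = u * r) → r ∈ Z := by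
      intro r hr hrZ
      have hle : E ⊔ Z ≤ Subgroup.centralizer ({r} : Set G) := by
        apply sup_le
        · intro e he
          rw [Subgroup.mem_centralizer_singleton_iff]
          exact hERc e he r hr
        · intro u hu
          rw [Subgroup.mem_centralizer_singleton_iff]
          exact (hrZ u hu).symm
      rw [hEsup] at hle
      have hrc : r ∈ Subgroup.centralizer (C : Set G) := by
        rw [Subgroup.mem_centralizer_iff]
        intro c hc
        exact Subgroup.mem_centralizer_singleton_iff.1 (hle hc)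
      rw [hZdef]
      exact Subgroup.mem_inf.2 ⟨hCC hrc, hrc⟩
    by_cases hRab : ∀ x ∈ R, ∀ y ∈ R, x * y = y * x
    · have hRZ : R = Z := by
        apply le_antisymm _ hZR
        intro r hr
        exact hsc r hr (fun u hu => hRab r hr u (hZR hu))
      refine ⟨E, R, hERc, hsup, Or.inr hEx, Or.inl ?_⟩
      rw [hRZ]
      exact hZcyc
    · push Not at hRab
      obtain ⟨x₂, hx₂, y₂, hy₂, hxy₂⟩ := hRab
      have hnaR : ∃ x ∈ R, ∃ y ∈ R, x * y ≠ y * x := ⟨x₂, hx₂, y₂, hy₂, hxy₂⟩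
      have hcube : Nat.card R = p ^ 3 → Goal p G := by
        intro hc
        have hRex : Cfsg.IsExtraspecial p ↥R := by
          apply Cfsg.Agent.Lead.PCubeExtra.isExtraspecial_of_card_cube hc
          exact ⟨⟨x₂, hx₂⟩, ⟨y₂, hy₂⟩, fun h => hxy₂ (congrArg Subtype.val h)⟩
        obtain ⟨hRcomm, hRpow, hRcen⟩ := facts_of_extraspecial R D (hDZ.trans hZR) hDcard
          (fun d hd r _ => hDcen d hd r) hRex
        apply goal_of_extraspecial (E ⊔ R) _ hsup
        apply isExtraspecial_sup E R D hDcard hERc hDE hDcen hEcomm hEpow hEcen hRcomm hRpow hRcen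
        intro hED
        apply hxy₁
        have hCZ : C ≤ Z := by
          rw [← hEsup, hED]
          exact sup_le hDZ le_rfl
        exact hZcen x₁ (hCZ hx₁) y₁ hy₁
      rcases analysis hG R Z hZR hZcyc (fun r _ u hu => hZn.conj_mem u hu r) hsc hnaR k hZcard
        with h | h
      · obtain ⟨h2, hcard, htypes⟩ := h
        by_cases h16 : 16 ≤ Nat.card R
        · exact ⟨E, R, hERc, hsup, Or.inr hEx, Or.inr ⟨h2, h16, htypes⟩⟩
        · exact hcube (card_cube_of_a R hnaR h2 hcard h16)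
      · obtain ⟨w, hwR, hwZ, hwp, hwc, hM, hcard3⟩ := h
        apply hcube
        exact card_cube_of_b hG hsymp E R Z D hZchar hZcyc hDZ hDp hDom hDcard
          hDcen hdec hERc hZR hEcomm hEpow hEcen hsc hwR hwZ hwp hwc hM hnaR haZ hk hcard3

end Cfsg.Agent.Lead.Symp
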