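import Mathlib
import Cfsg.Agent.Lead.TIComm

set_option autoImplicit false

/-! Generalization of `TIComm.key` to a `2`-subgroup `K` of an arbitrary finite group. -/

namespace Cfsg.Agent.Lead.TIComm

variable {S : Type*} [Group S]

theorem exists_pow_not_mem_sq_mem' (H : Subgroup S) {x : S}
    (hx : x ∉ H) (hx2 : ∃ m : ℕ, x ^ 2 ^ m = 1) :
    ∃ k : ℕ, x ^ 2 ^ k ∉ H ∧ (x ^ 2 ^ k) * (x ^ 2 ^ k) ∈ H := by
  classical
  obtain ⟨m, hm⟩ := hx2
  have hex : ∃ j : ℕ, x ^ 2 ^ j ∈ H := ⟨m, by rw [hm]; exact H.one_mem⟩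
  have hj0 : Nat.find hex ≠ 0 := by
    intro h0
    have := Nat.find_spec hex
    rw [h0, pow_zero, pow_one] at this
    exact hx this
  obtain ⟨k, hk⟩ := Nat.exists_eq_succ_of_ne_zero hj0
  refine ⟨k, ?_, ?_⟩
  · exact Nat.find_min hex (by omega)
  · have := Nat.find_spec hex
    rw [hk, pow_succ, pow_mul, pow_two] at this
    exact this

/-- The case where neither subgroup normalizes the other is impossible. -/
theorem caseC' [Finite S] (R T : Subgroup S) (hR2 : IsPGroup 2 R) (hT2 : IsPGroup 2 T) (hRT : R ⊓ T = ⊥)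
    (hE : ∃ x ∈ R, x * x ≠ 1) (hb : ConjHyp R T) (hc : ConjHyp T R)
    {r₀ : S} (hr₀ : r₀ ∈ R) (hr₀N : r₀ ∉ Subgroup.normalizer (T : Set S))
    {t₀ : S} (ht₀ : t₀ ∈ T) (ht₀N : t₀ ∉ Subgroup.normalizer (R : Set S)) : False := by
  -- an element `t` of `T` outside `N(R)` whose square normalizes `R`
  obtain ⟨k, hk1, hk2⟩ := exists_pow_not_mem_sq_mem' (Subgroup.normalizer (R : Set S)) ht₀N
    (by obtain ⟨m, hm⟩ := hT2 ⟨t₀, ht₀⟩; exact ⟨m, by simpa using congrArg Subtype.val hm⟩)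
  obtain ⟨t, ht, htN, ht2⟩ : ∃ t ∈ T, t ∉ Subgroup.normalizer (R : Set S) ∧
      t * t ∈ Subgroup.normalizer (R : Set S) := ⟨_, T.pow_mem ht₀ _, hk1, hk2⟩
  obtain ⟨htiR, hcommR⟩ := hb t ht htN
  -- C1: elements of `R` outside `N(T)` are involutions
  have C1 : ∀ r ∈ R, r ∉ Subgroup.normalizer (T : Set S) → r * r = 1 := by
    intro r hr hrN
    have hrN' : r⁻¹ ∉ Subgroup.normalizer (T : Set S) := fun h => hrN (by
      have := Subgroup.inv_mem _ h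
      rwa [inv_inv] at this)
    obtain ⟨-, hcommT⟩ := hc r⁻¹ (R.inv_mem hr) hrN'
    -- c = r⁻¹ * (t r t⁻¹) = (r⁻¹ t r) t⁻¹
    have e1 : (r⁻¹ * (t * r * t⁻¹)) * (r⁻¹ * (t * r * t⁻¹)) =
        (r⁻¹ * r⁻¹) * (t * (r * r) * t⁻¹) := by
      have hc1 := hcommR r hr r⁻¹ (R.inv_mem hr)
      calc (r⁻¹ * (t * r * t⁻¹)) * (r⁻¹ * (t * r * t⁻¹))
          = r⁻¹ * ((t * r * t⁻¹) * r⁻¹) * (t * r * t⁻¹) := by group
        _ = r⁻¹ * (r⁻¹ * (t * r * t⁻¹)) * (t * r * t⁻¹) := by rw [hc1]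
        _ = (r⁻¹ * r⁻¹) * (t * (r * r) * t⁻¹) := by group
    have e2 : (r⁻¹ * (t * r * t⁻¹)) * (r⁻¹ * (t * r * t⁻¹)) =
        (r⁻¹ * (t * t) * r) * (t⁻¹ * t⁻¹) := by
      have hc2 := hcommT t ht t⁻¹ (T.inv_mem ht)
      rw [inv_inv] at hc2
      calc (r⁻¹ * (t * r * t⁻¹)) * (r⁻¹ * (t * r * t⁻¹))
          = (r⁻¹ * t * r) * (t⁻¹ * (r⁻¹ * t * r)) * t⁻¹ := by group
        _ = (r⁻¹ * t * r) * ((r⁻¹ * t * r) * t⁻¹) * t⁻¹ := by rw [hc2]
        _ = (r⁻¹ * (t * t) * r) * (t⁻¹ * t⁻¹) := by group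
    have e3 : t * (r * r) * t⁻¹ = (r * r) * (r⁻¹ * ((t * t) * r * (t * t)⁻¹)) := by
      have : t * (r * r) * t⁻¹ = (r * r) * ((r⁻¹ * r⁻¹) * (t * (r * r) * t⁻¹)) := by group
      rw [this, ← e1, e2]
      group
    have hmemR : t * (r * r) * t⁻¹ ∈ R := by
      rw [e3]
      exact R.mul_mem (R.mul_mem hr hr)
        (R.mul_mem (R.inv_mem hr) (conj_mem_of_mem_normalizer ht2 hr))
    exact conj_eq_one_of_mem htiR (R.mul_mem hr hr) hmemR
  -- the element `r₀` and its conjugation action on `R₁ = R ⊓ N(T)`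
  have hr₀2 : r₀ * r₀ = 1 := C1 r₀ hr₀ hr₀N
  have hr₀inv : r₀⁻¹ = r₀ := inv_eq_of_mul_eq_one_right hr₀2
  have C2 : ∀ r₁ ∈ R, r₁ ∈ Subgroup.normalizer (T : Set S) → r₀ * r₁ * r₀⁻¹ = r₁⁻¹ := by
    intro r₁ hr₁ hr₁N
    have hN : r₀ * r₁ ∉ Subgroup.normalizer (T : Set S) := by
      intro h
      apply hr₀N
      have := Subgroup.mul_mem _ h (Subgroup.inv_mem _ hr₁N)
      rwa [mul_inv_cancel_right] at this
    have h1 := C1 (r₀ * r₁) (R.mul_mem hr₀ hr₁) hN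
    rw [hr₀inv]
    have : r₀ * r₁ * r₀ = (r₀ * r₁ * (r₀ * r₁)) * r₁⁻¹ := by group
    rw [this, h1, one_mul]
  obtain ⟨htiT, hcommT⟩ := hc r₀ hr₀ hr₀N
  -- `R₁ ≠ ⊥`
  have hR₁ : R ⊓ Subgroup.normalizer (T : Set S) ≠ ⊥ := by
    intro hbot
    obtain ⟨x, hx, hxx⟩ := hE
    apply hxx
    by_cases hxN : x ∈ Subgroup.normalizer (T : Set S)
    · have : x ∈ R ⊓ Subgroup.normalizer (T : Set S) := ⟨hx, hxN⟩
      rw [hbot, Subgroup.mem_bot] at this
      rw [this, one_mul]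
    · exact C1 x hx hxN
  -- an involution `z` of `R₁`
  obtain ⟨z, hzR₁, hz1, hz2⟩ : ∃ z ∈ R ⊓ Subgroup.normalizer (T : Set S), z ≠ 1 ∧ z * z = 1 := by
    haveI : Fact (Nat.Prime 2) := ⟨Nat.prime_two⟩
    have hp : IsPGroup 2 ↥(R ⊓ Subgroup.normalizer (T : Set S)) := hR2.to_le inf_le_left
    obtain ⟨n, hn⟩ := IsPGroup.iff_card.mp hp
    have hn0 : n ≠ 0 := by
      rintro rfl
      rw [pow_zero] at hn
      exact hR₁ (Subgroup.card_eq_one.mp hn)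
    have hdvd : 2 ∣ Nat.card ↥(R ⊓ Subgroup.normalizer (T : Set S)) := by
      rw [hn]
      exact dvd_pow_self 2 hn0
    obtain ⟨z, hz⟩ := exists_prime_orderOf_dvd_card' 2 hdvd
    refine ⟨z, z.2, ?_, ?_⟩
    · intro h1
      have : z = 1 := Subtype.ext h1
      rw [this, orderOf_one] at hz
      omega
    · have := pow_orderOf_eq_one z
      rw [hz, pow_two] at this
      exact congrArg Subtype.val this
  obtain ⟨hzR, hzN⟩ := hzR₁
  -- σ = z⁻¹ (t z t⁻¹) ∈ T₁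
  obtain ⟨σ, hσ⟩ : ∃ σ, σ = z⁻¹ * (t * z * t⁻¹) := ⟨_, rfl⟩
  have hσT : σ ∈ T := by
    have : σ = (z⁻¹ * t * (z⁻¹)⁻¹) * t⁻¹ := by rw [hσ]; group
    rw [this]
    exact T.mul_mem (conj_mem_of_mem_normalizer (Subgroup.inv_mem _ hzN) ht) (T.inv_mem ht)
  have hσN : σ ∈ Subgroup.normalizer (R : Set S) := by
    rw [hσ]
    apply Subgroup.mul_mem
    · exact Subgroup.le_normalizer (R.inv_mem hzR)
    · apply Subgroup.centralizer_le_normalizer
      rw [Subgroup.mem_centralizer_iff]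
      intro y hy
      exact (hcommR z hzR y hy).symm
  -- ρ = σ⁻¹ (r₀ σ r₀⁻¹) ∈ R₁
  obtain ⟨ρ, hρ⟩ : ∃ ρ, ρ = σ⁻¹ * (r₀ * σ * r₀⁻¹) := ⟨_, rfl⟩
  have hρR : ρ ∈ R := by
    have : ρ = (σ⁻¹ * r₀ * (σ⁻¹)⁻¹) * r₀⁻¹ := by rw [hρ]; group
    rw [this]
    exact R.mul_mem (conj_mem_of_mem_normalizer (Subgroup.inv_mem _ hσN) hr₀) (R.inv_mem hr₀)
  have hρN : ρ ∈ Subgroup.normalizer (T : Set S) := by
    rw [hρ]
    apply Subgroup.mul_mem
    · exact Subgroup.le_normalizer (T.inv_mem hσT)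
    · apply Subgroup.centralizer_le_normalizer
      rw [Subgroup.mem_centralizer_iff]
      intro y hy
      exact (hcommT σ hσT y hy).symm
  -- key identity: ρ = z * z
  have hg : t * z * t⁻¹ = z * σ := by rw [hσ]; group
  have hgcomm : r₀ * (t * z * t⁻¹) * r₀⁻¹ = t * z * t⁻¹ := by
    have := hcommR z hzR r₀ hr₀
    calc r₀ * (t * z * t⁻¹) * r₀⁻¹ = (r₀ * (t * z * t⁻¹)) * r₀⁻¹ := by group
      _ = ((t * z * t⁻¹) * r₀) * r₀⁻¹ := by rw [this]
      _ = t * z * t⁻¹ := by group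
  have hzσ : z * σ = σ * z := comm_of_mem_normalizer hRT hzR hσT hzN hσN
  have hzσ' : z⁻¹ * σ = σ * z⁻¹ :=
    comm_of_mem_normalizer hRT (R.inv_mem hzR) hσT (Subgroup.inv_mem _ hzN) hσN
  have hkey : ρ = z * z := by
    have h1 : r₀ * (z * σ) * r₀⁻¹ = z * σ := by rw [← hg]; exact hgcomm
    have h2 : r₀ * (z * σ) * r₀⁻¹ = (r₀ * z * r₀⁻¹) * (r₀ * σ * r₀⁻¹) := by group
    have h3 : r₀ * σ * r₀⁻¹ = σ * ρ := by rw [hρ]; group
    rw [h2, C2 z hzR hzN, h3, ← mul_assoc, hzσ', hzσ, mul_assoc] at h1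
    have h4 := mul_left_cancel h1
    calc ρ = z * (z⁻¹ * ρ) := by group
      _ = z * z := by rw [h4]
  -- conclusion
  have hρ1 : ρ = 1 := by rw [hkey, hz2]
  have hσ1 : σ = 1 := by
    apply conj_eq_one_of_mem htiT hσT
    have : r₀ * σ * r₀⁻¹ = σ * ρ := by rw [hρ]; group
    rw [this, hρ1, mul_one]
    exact hσT
  apply hz1
  apply conj_eq_one_of_mem htiR hzR
  rw [hg, hσ1, mul_one]
  exact hzR

/-- A proper subgroup of a `2`-subgroup `K` lies in a proper subgroup normalized by `K`. -/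
theorem exists_normal_proper' [Finite S] (K R : Subgroup S) (hK : IsPGroup 2 K) (hRK : R ≤ K)
    (hne : R ≠ K) :
    ∃ M : Subgroup S, R ≤ M ∧ M ≤ K ∧ M ≠ K ∧ ∀ k ∈ K, ∀ m ∈ M, k * m * k⁻¹ ∈ M := by
  haveI : Fact (Nat.Prime 2) := ⟨Nat.prime_two⟩
  haveI : Group.IsNilpotent K := hK.isNilpotent
  have hnc : NormalizerCondition K := normalizerCondition_of_isNilpotent
  have hR₀ : R.subgroupOf K ≠ ⊤ := by
    rw [Ne, Subgroup.subgroupOf_eq_top]
    intro h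
    exact hne (le_antisymm hRK h)
  obtain ⟨M₀, hM₀, hle⟩ := (eq_top_or_exists_le_coatom (R.subgroupOf K)).resolve_left hR₀
  have hn : M₀.Normal := Subgroup.NormalizerCondition.normal_of_coatom M₀ hnc hM₀
  refine ⟨M₀.map K.subtype, ?_, ?_, ?_, ?_⟩
  · intro x hx
    exact ⟨⟨x, hRK hx⟩, hle (Subgroup.mem_subgroupOf.mpr hx), rfl⟩
  · exact Subgroup.map_subtype_le M₀
  · intro h
    apply hM₀.1
    rw [eq_top_iff]
    intro x _
    have hx : (x : S) ∈ M₀.map K.subtype := by rw [h]; exact x.2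
    obtain ⟨y, hy, hyx⟩ := hx
    have : y = x := Subtype.ext hyx
    rw [← this]
    exact hy
  · rintro k hk _ ⟨y, hy, rfl⟩
    exact ⟨⟨k, hk⟩ * y * ⟨k, hk⟩⁻¹, hn.conj_mem y hy ⟨k, hk⟩, rfl⟩

theorem key' [Finite S]
    (Δ : Set (Subgroup S)) (hinv : ∀ s : S, ∀ R ∈ Δ, R.map (MulAut.conj s).toMonoidHom ∈ Δ)
    (hΦ : ∀ R ∈ Δ, ∃ x ∈ R, x * x ≠ 1) (hord : ∀ R ∈ Δ, ∀ T ∈ Δ, Nat.card ↥R = Nat.card ↥T)
    (hti : ∀ R ∈ Δ, ∀ T ∈ Δ, R = T ∨ R ⊓ T = ⊥) :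
    ∀ n : ℕ, ∀ K : Subgroup S, IsPGroup 2 K → Nat.card K ≤ n → ∀ R ∈ Δ, ∀ T ∈ Δ, R ≤ K → T ≤ K → R ≠ T →
      ∀ r ∈ R, ∀ t ∈ T, r * t = t * r := by
  intro n
  induction n with
  | zero =>
    intro K _ hK
    have := Nat.card_pos (α := K)
    omega
  | succ n ih =>
    intro K hK2 hK R hR T hT hRK hTK hne
    by_cases hsup : R ⊔ T = K
    · have hRneK : R ≠ K := by
        intro h
        have : T = R := Subgroup.eq_of_le_of_card_ge (h ▸ hTK) (hord R hR T hT).le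
        exact hne this.symm
      have hTneK : T ≠ K := by
        intro h
        have : R = T := Subgroup.eq_of_le_of_card_ge (h ▸ hRK) (hord T hT R hR).le
        exact hne this
      obtain ⟨M, hRM, hMK, hMne, hMn⟩ := exists_normal_proper' K R hK2 hRK hRneK
      obtain ⟨M', hTM', hM'K, hM'ne, hM'n⟩ := exists_normal_proper' K T hK2 hTK hTneK
      have hMcard : Nat.card M ≤ n := card_le_of_lt_of_le_succ hMK hMne hK
      have hM'card : Nat.card M' ≤ n := card_le_of_lt_of_le_succ hM'K hM'ne hK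
      have hb : ConjHyp R T := by
        intro t ht htN
        have hcjne : cj t R ≠ R := fun h => htN (mem_normalizer_of_cj_eq h)
        have hcjΔ : cj t R ∈ Δ := hinv t R hR
        have hcjM : cj t R ≤ M := by
          rintro _ ⟨y, hy, rfl⟩
          exact hMn t (hTK ht) y (hRM hy)
        refine ⟨(hti R hR _ hcjΔ).resolve_left (Ne.symm hcjne), fun x hx y hy => ?_⟩
        exact ih M (hK2.to_le hMK) hMcard (cj t R) hcjΔ R hR hcjM hRM hcjne (t * x * t⁻¹) (conj_mem_cj hx) y hy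
      have hc : ConjHyp T R := by
        intro r hr hrN
        have hcjne : cj r T ≠ T := fun h => hrN (mem_normalizer_of_cj_eq h)
        have hcjΔ : cj r T ∈ Δ := hinv r T hT
        have hcjM : cj r T ≤ M' := by
          rintro _ ⟨y, hy, rfl⟩
          exact hM'n r (hRK hr) y (hTM' hy)
        refine ⟨(hti T hT _ hcjΔ).resolve_left (Ne.symm hcjne), fun x hx y hy => ?_⟩
        exact ih M' (hK2.to_le hM'K) hM'card (cj r T) hcjΔ T hT hcjM hTM' hcjne (r * x * r⁻¹) (conj_mem_cj hx) y hy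
      have hRT : R ⊓ T = ⊥ := (hti R hR T hT).resolve_left hne
      have hTR : T ⊓ R = ⊥ := by rw [inf_comm]; exact hRT
      by_cases h1 : R ≤ Subgroup.normalizer (T : Set S)
      · have h2 := caseB R T (hord R hR T hT) h1 hb
        exact fun r hr t ht => comm_of_mem_normalizer hRT hr ht (h1 hr) (h2 ht)
      · by_cases h2 : T ≤ Subgroup.normalizer (R : Set S)
        · exact absurd (caseB T R (hord T hT R hR) h2 hc) h1
        · obtain ⟨r₀, hr₀, hr₀N⟩ := SetLike.not_le_iff_exists.mp h1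
          obtain ⟨t₀, ht₀, ht₀N⟩ := SetLike.not_le_iff_exists.mp h2
          exact (caseC' R T (hK2.to_le hRK) (hK2.to_le hTK) hRT (hΦ R hR) hb hc hr₀ hr₀N ht₀ ht₀N).elim
    · have hcard : Nat.card ↥(R ⊔ T) ≤ n :=
        card_le_of_lt_of_le_succ (sup_le hRK hTK) hsup hK
      exact ih (R ⊔ T) (hK2.to_le (sup_le hRK hTK)) hcard R hR T hT le_sup_left le_sup_right hne


end Cfsg.Agent.Lead.TIComm
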