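import Mathlib
import Cfsg.Prelude.Def_Local
import Cfsg.Prelude.Def_Transfer
import Cfsg.Agent.Lead.TIComm2
import Cfsg.Agent.Helper1.Cores
import Cfsg.Agent.Helper1.Fitting
import Cfsg.Agent.Helper1.FrattiniAct
import Cfsg.Agent.Helper1.PGroup
import Cfsg.Agent.Helper2.Layer3

set_option autoImplicit false

namespace Cfsg.Agent.Lead.TISquares

open Cfsg.Agent.Lead.TIComm

variable {X : Type*} [Group X]

theorem cj_cj (s x : X) (A : Subgroup X) : cj s (cj x A) = cj (s * x) A := by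
  unfold cj
  rw [Subgroup.map_map]
  congr 1
  ext y
  simp [MulAut.conj_apply, mul_assoc]

theorem cj_one (A : Subgroup X) : cj 1 A = A := by
  unfold cj
  ext y
  simp

/-- The set of conjugates of `A`. -/
def conjSet (A : Subgroup X) : Set (Subgroup X) := {D | ∃ x : X, D = cj x A}

theorem conjSet_inv (A : Subgroup X) (s : X) (R : Subgroup X) (hR : R ∈ conjSet A) :
    R.map (MulAut.conj s).toMonoidHom ∈ conjSet A := by
  obtain ⟨x, rfl⟩ := hR
  exact ⟨s * x, cj_cj s x A⟩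

theorem conjSet_card [Finite X] (A : Subgroup X) (R T : Subgroup X) (hR : R ∈ conjSet A)
    (hT : T ∈ conjSet A) : Nat.card R = Nat.card T := by
  obtain ⟨x, rfl⟩ := hR
  obtain ⟨y, rfl⟩ := hT
  rw [Subgroup.card_map_of_injective (MulAut.conj x).injective,
    Subgroup.card_map_of_injective (MulAut.conj y).injective]

theorem conjSet_ti (A : Subgroup X) (hti : ∀ h : X, cj h A = A ∨ cj h A ⊓ A = ⊥)
    (R T : Subgroup X) (hR : R ∈ conjSet A) (hT : T ∈ conjSet A) : R = T ∨ R ⊓ T = ⊥ := by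
  obtain ⟨x, rfl⟩ := hR
  obtain ⟨y, rfl⟩ := hT
  have hx : cj x A = cj y (cj (y⁻¹ * x) A) := by rw [cj_cj, mul_inv_cancel_left]
  rcases hti (y⁻¹ * x) with h | h
  · left
    rw [hx, h]
  · right
    rw [hx]
    have : cj y (cj (y⁻¹ * x) A) ⊓ cj y A = cj y (cj (y⁻¹ * x) A ⊓ A) :=
      (Subgroup.map_inf _ _ _ (MulAut.conj y).injective).symm
    rw [this, h]
    exact Subgroup.map_bot _

theorem conjSet_exp (A : Subgroup X) (hE : ∃ a ∈ A, a * a ≠ 1) (R : Subgroup X)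
    (hR : R ∈ conjSet A) : ∃ a ∈ R, a * a ≠ 1 := by
  obtain ⟨x, rfl⟩ := hR
  obtain ⟨a, ha, haa⟩ := hE
  refine ⟨x * a * x⁻¹, conj_mem_cj ha, ?_⟩
  intro h
  apply haa
  have : a * a = x⁻¹ * ((x * a * x⁻¹) * (x * a * x⁻¹)) * x := by group
  rw [this, h]
  group

theorem comm_closure {s : Set X} (h : ∀ x ∈ s, ∀ y ∈ s, x * y = y * x) :
    ∀ x ∈ Subgroup.closure s, ∀ y ∈ Subgroup.closure s, x * y = y * x := by
  have h1 : Subgroup.closure s ≤ Subgroup.centralizer s := by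
    rw [Subgroup.closure_le]
    intro x hx
    rw [SetLike.mem_coe, Subgroup.mem_centralizer_iff]
    intro y hy
    exact h y hy x hx
  have h2 : Subgroup.closure s ≤ Subgroup.centralizer (Subgroup.closure s : Set X) := by
    rw [Subgroup.closure_le]
    intro y hy
    rw [SetLike.mem_coe, Subgroup.mem_centralizer_iff]
    intro x hx
    have := h1 hx
    rw [Subgroup.mem_centralizer_iff] at this
    exact (this y hy).symm
  intro x hx y hy
  have := h2 hx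
  rw [Subgroup.mem_centralizer_iff] at this
  exact (this y hy).symm

section main

variable [Finite X]

/-- The centralizer of `Q/Φ(Q)` for `Q = O_2(X)`. -/
def frattCent (Q : Subgroup X) [Q.Normal] : Subgroup X where
  carrier := {x | ∀ q ∈ Q, x * q * x⁻¹ * q⁻¹ ∈ (frattini ↥Q).map Q.subtype}
  one_mem' := by
    intro q _
    have : (1 : X) * q * 1⁻¹ * q⁻¹ = 1 := by group
    rw [this]
    exact Subgroup.one_mem _
  mul_mem' := by
    intro x y hx hy q hq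
    have hΦn : ((frattini ↥Q).map Q.subtype).Normal := by
      rw [← Subgroup.normalizer_eq_top_iff, eq_top_iff]
      have h1 := Cfsg.Agent.Helper1.le_normalizer_map_of_characteristic Q (frattini ↥Q)
      have h2 : Subgroup.normalizer (Q : Set X) = ⊤ := Subgroup.normalizer_eq_top_iff.mpr inferInstance
      rwa [h2] at h1
    have e : x * y * q * (x * y)⁻¹ * q⁻¹ =
        (x * (y * q * y⁻¹ * q⁻¹) * x⁻¹) * (x * q * x⁻¹ * q⁻¹) := by group
    show x * y * q * (x * y)⁻¹ * q⁻¹ ∈ _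
    rw [e]
    exact Subgroup.mul_mem _ (hΦn.conj_mem _ (hy q hq) x) (hx q hq)
  inv_mem' := by
    intro x hx q hq
    have hΦn : ((frattini ↥Q).map Q.subtype).Normal := by
      rw [← Subgroup.normalizer_eq_top_iff, eq_top_iff]
      have h1 := Cfsg.Agent.Helper1.le_normalizer_map_of_characteristic Q (frattini ↥Q)
      have h2 : Subgroup.normalizer (Q : Set X) = ⊤ := Subgroup.normalizer_eq_top_iff.mpr inferInstance
      rwa [h2] at h1
    have e : x⁻¹ * q * x⁻¹⁻¹ * q⁻¹ = x⁻¹ * (x * q * x⁻¹ * q⁻¹)⁻¹ * x⁻¹⁻¹ := by group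
    show x⁻¹ * q * x⁻¹⁻¹ * q⁻¹ ∈ _
    rw [e]
    exact hΦn.conj_mem _ (Subgroup.inv_mem _ (hx q hq)) x⁻¹

theorem mem_frattCent (Q : Subgroup X) [Q.Normal] (x : X) :
    x ∈ frattCent Q ↔ ∀ q ∈ Q, x * q * x⁻¹ * q⁻¹ ∈ (frattini ↥Q).map Q.subtype := Iff.rfl

instance frattCent_normal (Q : Subgroup X) [hQ : Q.Normal] : (frattCent Q).Normal := by
  constructor
  intro x hx g
  rw [mem_frattCent] at hx ⊢
  intro q hq
  have hΦn : ((frattini ↥Q).map Q.subtype).Normal := by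
    rw [← Subgroup.normalizer_eq_top_iff, eq_top_iff]
    have h1 := Cfsg.Agent.Helper1.le_normalizer_map_of_characteristic Q (frattini ↥Q)
    have h2 : Subgroup.normalizer (Q : Set X) = ⊤ := Subgroup.normalizer_eq_top_iff.mpr inferInstance
    rwa [h2] at h1
  have hq' : g⁻¹ * q * g⁻¹⁻¹ ∈ Q := hQ.conj_mem q hq g⁻¹
  have e : g * x * g⁻¹ * q * (g * x * g⁻¹)⁻¹ * q⁻¹ =
      g * (x * (g⁻¹ * q * g⁻¹⁻¹) * x⁻¹ * (g⁻¹ * q * g⁻¹⁻¹)⁻¹) * g⁻¹ := by group
  rw [e]
  exact hΦn.conj_mem _ (hx _ hq') g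

theorem frattCent_isPGroup (Q : Subgroup X) [hQn : Q.Normal] (hQ2 : IsPGroup 2 Q)
    (hC : Subgroup.centralizer (Q : Set X) ≤ Q) : IsPGroup 2 (frattCent Q) := by
  haveI : Fact (Nat.Prime 2) := ⟨Nat.prime_two⟩
  rintro ⟨x, hx⟩
  obtain ⟨e, m, hm, hn⟩ := Nat.exists_eq_two_pow_mul_odd (Nat.card_pos (α := X)).ne'
  refine ⟨e, ?_⟩
  apply Subtype.ext
  rw [Subgroup.coe_pow, Subgroup.coe_one]
  show x ^ 2 ^ e = 1
  obtain ⟨y, hy⟩ : ∃ y, y = x ^ 2 ^ e := ⟨_, rfl⟩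
  rw [← hy]
  have hym : y ^ m = 1 := by
    rw [hy, ← pow_mul, ← hn]
    exact pow_card_eq_one'
  have hyF : y ∈ frattCent Q := by rw [hy]; exact Subgroup.pow_mem _ hx _
  have hYle : Subgroup.zpowers y ≤ frattCent Q := by rwa [Subgroup.zpowers_le]
  have hcardY : Nat.card (Subgroup.zpowers y) ∣ m := by
    rw [Nat.card_zpowers]
    exact orderOf_dvd_of_pow_eq_one hym
  have hoddY : Odd (Nat.card (Subgroup.zpowers y)) := by
    obtain ⟨k, hk⟩ := hcardY
    rw [hk] at hm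
    exact (Nat.odd_mul.mp hm).1
  have hcop : (Nat.card (Subgroup.zpowers y)).Coprime (Nat.card (frattini ↥Q)) := by
    obtain ⟨j, hj⟩ := IsPGroup.iff_card.mp (hQ2.to_subgroup (frattini ↥Q))
    rw [hj]
    exact Nat.Coprime.pow_right _ hoddY.coprime_two_right
  have hYN : Subgroup.zpowers y ≤ Subgroup.normalizer (Q : Set X) := by
    rw [Subgroup.normalizer_eq_top_iff.mpr hQn]
    exact le_top
  have hYC := Cfsg.Agent.Helper1.frattini_coprime_trivial (Subgroup.zpowers y) Q hYN hcop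
    (fun a ha k hk => hYle ha k hk)
  have hyQ : y ∈ Q := hC (hYC (Subgroup.mem_zpowers y))
  obtain ⟨j, hj⟩ := hQ2 ⟨y, hyQ⟩
  have hyj : y ^ 2 ^ j = 1 := by
    have := congrArg Subtype.val hj
    simpa using this
  have h1 : orderOf y ∣ 2 ^ j := orderOf_dvd_of_pow_eq_one hyj
  have h2 : orderOf y ∣ m := orderOf_dvd_of_pow_eq_one hym
  have h3 : Nat.Coprime (2 ^ j) m := Nat.Coprime.pow_left _ hm.coprime_two_left
  have h4 : orderOf y = 1 := Nat.eq_one_of_dvd_coprimes h3 h1 h2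
  exact orderOf_eq_one_iff.mp h4

theorem frattCent_le (Q : Subgroup X) [hQn : Q.Normal] (hQ2 : IsPGroup 2 Q)
    (hC : Subgroup.centralizer (Q : Set X) ≤ Q) : frattCent Q ≤ Cfsg.pCore 2 X :=
  Cfsg.Agent.Helper1.le_pCore (frattCent_normal Q) (frattCent_isPGroup Q hQ2 hC)

theorem centralizer_pCore_le (hX : Cfsg.generalizedFittingSubgroup X = Cfsg.pCore 2 X) :
    Subgroup.centralizer (Cfsg.pCore 2 X : Set X) ≤ Cfsg.pCore 2 X := by
  have := Cfsg.Agent.Helper2.centralizer_generalizedFittingSubgroup_le (G := X)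
  rwa [hX] at this

/-- Squares of elements of an abelian TI `2`-subgroup lie in `O_2(X)` when `F*(X) = O_2(X)`. -/
theorem sq_mem_pCore (hX : Cfsg.generalizedFittingSubgroup X = Cfsg.pCore 2 X) (A : Subgroup X)
    (hA2 : IsPGroup 2 ↥A) (hAa : IsMulCommutative ↥A)
    (hti : ∀ h : X, cj h A = A ∨ cj h A ⊓ A = ⊥) : ∀ a ∈ A, a * a ∈ Cfsg.pCore 2 X := by
  haveI : Fact (Nat.Prime 2) := ⟨Nat.prime_two⟩
  have hQ2 : IsPGroup 2 (Cfsg.pCore 2 X) := Cfsg.Agent.Helper1.pCore_isPGroup 2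
  have hC := centralizer_pCore_le hX
  have hcommA : ∀ a ∈ A, ∀ b ∈ A, a * b = b * a := by
    intro a ha b hb
    have := mul_comm' (⟨a, ha⟩ : A) ⟨b, hb⟩
    exact congrArg Subtype.val this
  by_cases hE : ∃ a ∈ A, a * a ≠ 1
  · have hK₀2 : IsPGroup 2 ↥(Cfsg.pCore 2 X ⊔ A) := IsPGroup.to_sup_of_normal_left hQ2 hA2
    have hkey := key' (conjSet A) (conjSet_inv A) (conjSet_exp A hE) (fun R hR T hT => conjSet_card A R T hR hT)
      (fun R hR T hT => conjSet_ti A hti R T hR hT) (Nat.card ↥(Cfsg.pCore 2 X ⊔ A)) (Cfsg.pCore 2 X ⊔ A) hK₀2 le_rfl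
    have hquad : ∀ a ∈ A, ∀ a' ∈ A, ∀ q ∈ Cfsg.pCore 2 X,
        (a * q * a⁻¹ * q⁻¹) * a' = a' * (a * q * a⁻¹ * q⁻¹) := by
      intro a ha a' ha' q hq
      have hmem : q * a⁻¹ * q⁻¹ ∈ cj q A := conj_mem_cj (A.inv_mem ha)
      have hc : (q * a⁻¹ * q⁻¹) * a' = a' * (q * a⁻¹ * q⁻¹) := by
        by_cases hcj : cj q A = A
        · rw [hcj] at hmem
          exact hcommA _ hmem _ ha'
        · have hle : cj q A ≤ Cfsg.pCore 2 X ⊔ A := by
            rintro _ ⟨y, hy, rfl⟩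
            exact Subgroup.mul_mem _ (Subgroup.mul_mem _ (le_sup_left (a := Cfsg.pCore 2 X) hq)
              (le_sup_right (b := A) hy)) (Subgroup.inv_mem _ (le_sup_left (a := Cfsg.pCore 2 X) hq))
          exact hkey (cj q A) ⟨q, rfl⟩ A ⟨1, (cj_one A).symm⟩ hle le_sup_right hcj _ hmem a' ha'
      have e1 : a * q * a⁻¹ * q⁻¹ = a * (q * a⁻¹ * q⁻¹) := by group
      rw [e1, mul_assoc, hc, ← mul_assoc, hcommA a ha a' ha', mul_assoc]
    intro a ha
    apply frattCent_le (Cfsg.pCore 2 X) hQ2 hC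
    rw [mem_frattCent]
    intro q hq
    obtain ⟨c, hc⟩ : ∃ c, c = a * q * a⁻¹ * q⁻¹ := ⟨_, rfl⟩
    have hcQ : c ∈ Cfsg.pCore 2 X := by
      rw [hc]
      exact Subgroup.mul_mem _ ((inferInstance : (Cfsg.pCore 2 X).Normal).conj_mem q hq a)
        (Subgroup.inv_mem _ hq)
    have hca : c * a = a * c := by rw [hc]; exact hquad a ha a ha q hq
    have e : a * a * q * (a * a)⁻¹ * q⁻¹ = c * c := by
      have e1 : a * a * q * (a * a)⁻¹ * q⁻¹ = a * (a * q * a⁻¹ * q⁻¹) * a⁻¹ * (a * q * a⁻¹ * q⁻¹) := by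
        group
      rw [e1, ← hc, ← hca]
      group
    rw [e]
    refine ⟨(⟨c, hcQ⟩ : ↥(Cfsg.pCore 2 X)) ^ 2, Cfsg.Agent.Helper1.IsPGroup.pow_mem_frattini hQ2 _, ?_⟩
    rw [pow_two]
    rfl
  · push Not at hE
    intro a ha
    rw [hE a ha]
    exact Subgroup.one_mem _

theorem cj_closure_sq (h : X) (A : Subgroup X) :
    cj h (Subgroup.closure ((fun a : X => a ^ 2) '' (A : Set X))) =
      Subgroup.closure ((fun a : X => a ^ 2) '' ((cj h A : Subgroup X) : Set X)) := by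
  unfold cj
  rw [MonoidHom.map_closure, Subgroup.coe_map, Set.image_image, Set.image_image]
  congr 1
  apply Set.image_congr
  intro a _
  exact map_pow _ a 2

/-- Statement S1783. -/
theorem main (hX : Cfsg.generalizedFittingSubgroup X = Cfsg.pCore 2 X) (A : Subgroup X)
    (hA2 : IsPGroup 2 ↥A) (hAa : IsMulCommutative ↥A)
    (hti : ∀ h : X, A.map (MulAut.conj h).toMonoidHom = A ∨
      A.map (MulAut.conj h).toMonoidHom ⊓ A = ⊥) :
    Subgroup.closure ((fun a : X => a ^ 2) '' (A : Set X)) ≤ Cfsg.pCore 2 X ∧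
      (¬ Cfsg.IsElementaryAbelian 2 (Subgroup.closure ((fun a : X => a ^ 2) '' (A : Set X))) →
        IsMulCommutative ↥(Subgroup.normalClosure ((fun a : X => a ^ 2) '' (A : Set X)))) := by
  haveI : Fact (Nat.Prime 2) := ⟨Nat.prime_two⟩
  have hQ2 : IsPGroup 2 (Cfsg.pCore 2 X) := Cfsg.Agent.Helper1.pCore_isPGroup 2
  have hsq := sq_mem_pCore hX A hA2 hAa hti
  have hcommA : ∀ a ∈ A, ∀ b ∈ A, a * b = b * a := by
    intro a ha b hb
    have := mul_comm' (⟨a, ha⟩ : A) ⟨b, hb⟩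
    exact congrArg Subtype.val this
  have hBQ : Subgroup.closure ((fun a : X => a ^ 2) '' (A : Set X)) ≤ Cfsg.pCore 2 X := by
    rw [Subgroup.closure_le]
    rintro _ ⟨a, ha, rfl⟩
    show a ^ 2 ∈ _
    rw [pow_two]
    exact hsq a ha
  refine ⟨hBQ, fun hnE => ?_⟩
  obtain ⟨B, hB⟩ : ∃ B, B = Subgroup.closure ((fun a : X => a ^ 2) '' (A : Set X)) := ⟨_, rfl⟩
  rw [← hB] at hnE hBQ
  have hBA : B ≤ A := by
    rw [hB, Subgroup.closure_le]
    rintro _ ⟨a, ha, rfl⟩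
    exact A.pow_mem ha 2
  have hcommB : ∀ a ∈ B, ∀ b ∈ B, a * b = b * a := fun a ha b hb =>
    hcommA a (hBA ha) b (hBA hb)
  have hEB : ∃ b ∈ B, b * b ≠ 1 := by
    by_contra hcon
    push Not at hcon
    apply hnE
    refine ⟨⟨⟨fun a b => Subtype.ext (hcommB a a.2 b b.2)⟩⟩, fun a ha => ?_⟩
    rw [pow_two]
    exact hcon a ha
  have htiB : ∀ h : X, cj h B = B ∨ cj h B ⊓ B = ⊥ := by
    intro h
    rcases hti h with h1 | h1
    · left
      rw [hB, cj_closure_sq]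
      have : cj h A = A := h1
      rw [this]
    · right
      rw [eq_bot_iff, ← h1]
      exact inf_le_inf (Subgroup.map_mono hBA) hBA
  have hkey := key' (conjSet B) (conjSet_inv B) (conjSet_exp B hEB) (fun R hR T hT => conjSet_card B R T hR hT)
    (fun R hR T hT => conjSet_ti B htiB R T hR hT) (Nat.card ↥(Cfsg.pCore 2 X)) (Cfsg.pCore 2 X) hQ2 le_rfl
  have hcjQ : ∀ x : X, cj x B ≤ Cfsg.pCore 2 X := by
    rintro x _ ⟨y, hy, rfl⟩
    exact (inferInstance : (Cfsg.pCore 2 X).Normal).conj_mem y (hBQ hy) x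
  have hgen : ∀ g ∈ Group.conjugatesOfSet ((fun a : X => a ^ 2) '' (A : Set X)),
      ∃ x : X, g ∈ cj x B := by
    intro g hg
    obtain ⟨b, hb, hbg⟩ := Group.mem_conjugatesOfSet_iff.mp hg
    obtain ⟨x, hx⟩ := isConj_iff.mp hbg
    refine ⟨x, ?_⟩
    rw [← hx]
    apply conj_mem_cj
    rw [hB]
    exact Subgroup.subset_closure hb
  have hcomm : ∀ g ∈ Group.conjugatesOfSet ((fun a : X => a ^ 2) '' (A : Set X)),
      ∀ g' ∈ Group.conjugatesOfSet ((fun a : X => a ^ 2) '' (A : Set X)), g * g' = g' * g := by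
    intro g hg g' hg'
    obtain ⟨x, hx⟩ := hgen g hg
    obtain ⟨y, hy⟩ := hgen g' hg'
    by_cases hxy : cj x B = cj y B
    · rw [← hxy] at hy
      obtain ⟨b, hb, rfl⟩ := hx
      obtain ⟨b', hb', rfl⟩ := hy
      simp only [MulEquiv.coe_toMonoidHom, MulAut.conj_apply]
      have := hcommB b hb b' hb'
      calc x * b * x⁻¹ * (x * b' * x⁻¹) = x * (b * b') * x⁻¹ := by group
        _ = x * (b' * b) * x⁻¹ := by rw [this]
        _ = x * b' * x⁻¹ * (x * b * x⁻¹) := by group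
    · exact hkey (cj x B) ⟨x, rfl⟩ (cj y B) ⟨y, rfl⟩ (hcjQ x) (hcjQ y) hxy g hx g' hy
  have hall := comm_closure hcomm
  refine ⟨⟨fun a b => Subtype.ext ?_⟩⟩
  exact hall a a.2 b b.2

end main

end Cfsg.Agent.Lead.TISquares
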