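import Mathlib
import Cfsg.Prelude.Def_Local
import Cfsg.Agent.Helper4.MinNormalPower
import Cfsg.Agent.Helper5.PPrimeCore
import Cfsg.Agent.Helper5.Cores
import Cfsg.Agent.Helper1.Basic

/-!
Groups with a nontrivial TI Sylow `p`-subgroup and `O_p = O_{p'} = 1`: the unique minimal normal
subgroup is simple.
-/

set_option autoImplicit false

namespace Cfsg.Agent.Lead.TISylow

open scoped Pointwise

universe u

section
variable {H : Type u} [Group H] [Finite H] (p : ℕ) [hp : Fact p.Prime]

/-- The TI property passes to all Sylow `p`-subgroups. -/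
theorem ti_all (P : Sylow p H)
    (hTI : ∀ g : H, g ∉ Subgroup.normalizer ((P : Subgroup H) : Set H) →
      (P : Subgroup H) ⊓ (MulAut.conj g • (P : Subgroup H)) = ⊥) (P' : Sylow p H) :
    ∀ g : H, g ∉ Subgroup.normalizer ((P' : Subgroup H) : Set H) →
      (P' : Subgroup H) ⊓ (MulAut.conj g • (P' : Subgroup H)) = ⊥ := by
  obtain ⟨h, rfl⟩ := MulAction.exists_smul_eq H P P'
  intro g hg
  have hg' : h⁻¹ * g * h ∉ Subgroup.normalizer ((P : Subgroup H) : Set H) := by
    intro hmem
    apply hg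
    have hmem' : (h⁻¹ * g * h) • P = P := Sylow.smul_eq_iff_mem_normalizer.2 hmem
    apply Sylow.smul_eq_iff_mem_normalizer.1
    rw [← mul_smul]
    have e : g * h = h * (h⁻¹ * g * h) := by group
    rw [e, mul_smul, hmem']
  have h0 := hTI _ hg'
  rw [eq_bot_iff]
  intro x hx
  obtain ⟨hx1, hx2⟩ := Subgroup.mem_inf.1 hx
  rw [Sylow.coe_subgroup_smul, Helper1.mem_conj_smul] at hx1
  rw [Helper1.mem_conj_smul, Sylow.coe_subgroup_smul, Helper1.mem_conj_smul] at hx2
  have h1 : h⁻¹ * x * h ∈ (P : Subgroup H) ⊓ (MulAut.conj (h⁻¹ * g * h) • (P : Subgroup H)) := by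
    refine Subgroup.mem_inf.2 ⟨hx1, ?_⟩
    rw [Helper1.mem_conj_smul]
    have e : (h⁻¹ * g * h)⁻¹ * (h⁻¹ * x * h) * (h⁻¹ * g * h) = h⁻¹ * (g⁻¹ * x * g) * h := by group
    rw [e]; exact hx2
  rw [h0, Subgroup.mem_bot] at h1
  rw [Subgroup.mem_bot]
  have := congrArg (fun z => h * z * h⁻¹) h1
  simpa [mul_assoc] using this

/-- An element centralizing a nontrivial element of a TI Sylow subgroup normalizes it. -/
theorem mem_normalizer_of_commute (P' : Sylow p H)
    (hTI : ∀ g : H, g ∉ Subgroup.normalizer ((P' : Subgroup H) : Set H) →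
      (P' : Subgroup H) ⊓ (MulAut.conj g • (P' : Subgroup H)) = ⊥)
    {u g : H} (hu : u ∈ (P' : Subgroup H)) (hu1 : u ≠ 1) (hc : g * u = u * g) :
    g ∈ Subgroup.normalizer ((P' : Subgroup H) : Set H) := by
  by_contra hg
  have h0 := hTI g hg
  have h1 : u ∈ (P' : Subgroup H) ⊓ (MulAut.conj g • (P' : Subgroup H)) := by
    refine Subgroup.mem_inf.2 ⟨hu, ?_⟩
    rw [Helper1.mem_conj_smul]
    have e : g⁻¹ * u * g = u := by rw [mul_assoc, ← hc, ← mul_assoc, inv_mul_cancel, one_mul]
    rw [e]; exact hu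
  rw [h0, Subgroup.mem_bot] at h1
  exact hu1 h1

/-- A nonabelian simple group cannot be embedded so as to centralize a nontrivial element of a TI
Sylow `p`-subgroup, if `p` divides its order. -/
theorem simple_contra {T : Type*} [Group T] [Finite T] [IsSimpleGroup T]
    (hna : ∃ a b : T, a * b ≠ b * a) (hpT : p ∣ Nat.card T) (f : T →* H)
    (hf : Function.Injective f) (P' : Sylow p H)
    (hTI : ∀ g : H, g ∉ Subgroup.normalizer ((P' : Subgroup H) : Set H) →
      (P' : Subgroup H) ⊓ (MulAut.conj g • (P' : Subgroup H)) = ⊥)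
    {u : H} (hu : u ∈ (P' : Subgroup H)) (hu1 : u ≠ 1) (hc : ∀ t : T, f t * u = u * f t) : False := by
  have hN : ∀ t : T, f t ∈ Subgroup.normalizer ((P' : Subgroup H) : Set H) :=
    fun t => mem_normalizer_of_commute p P' hTI hu hu1 (hc t)
  have hQn : ((P' : Subgroup H).comap f).Normal := by
    constructor
    intro s hs t
    rw [Subgroup.mem_comap] at hs ⊢
    rw [map_mul, map_mul, map_inv]
    exact (Subgroup.mem_normalizer_iff.1 (hN t) _).1 hs
  rcases IsSimpleGroup.eq_bot_or_eq_top_of_normal _ hQn with hQ | hQ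
  · obtain ⟨y, hy⟩ := exists_prime_orderOf_dvd_card' p hpT
    have hyp : IsPGroup p (Subgroup.zpowers (f y)) := by
      apply IsPGroup.of_card (n := 1)
      rw [Nat.card_zpowers, orderOf_injective f hf, hy, pow_one]
    have h1 := hyp.inf_normalizer_sylow P'
    have h2 : f y ∈ Subgroup.zpowers (f y) ⊓ Subgroup.normalizer ((P' : Subgroup H) : Set H) :=
      Subgroup.mem_inf.2 ⟨Subgroup.mem_zpowers _, hN y⟩
    have h2' : f y ∈ Subgroup.zpowers (f y) ⊓ (P' : Subgroup H) := h1 ▸ h2
    have h3 : y ∈ (P' : Subgroup H).comap f := (Subgroup.mem_inf.1 h2').2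
    rw [hQ, Subgroup.mem_bot] at h3
    rw [h3, orderOf_one] at hy
    exact hp.out.one_lt.ne hy
  · have hTp : IsPGroup p T := by
      have h1 : IsPGroup p ((P' : Subgroup H).comap f) :=
        P'.isPGroup'.comap_of_injective f hf
      rw [hQ] at h1
      exact h1.of_equiv Subgroup.topEquiv
    haveI : Nontrivial (Subgroup.center T) := hTp.center_nontrivial
    have hcen : Subgroup.center T = ⊤ := by
      rcases IsSimpleGroup.eq_bot_or_eq_top_of_normal (Subgroup.center T) inferInstance with h | h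
      · exact absurd h ((Subgroup.nontrivial_iff_ne_bot _).1 inferInstance)
      · exact h
    obtain ⟨a, b, hab⟩ := hna
    apply hab
    have ha : a ∈ Subgroup.center T := by rw [hcen]; exact Subgroup.mem_top a
    exact (Subgroup.mem_center_iff.1 ha b).symm

/-- Sylow subgroups of a normal subgroup inherit the TI property. -/
theorem sylow_ti_of_normal
    (hTIall : ∀ P' : Sylow p H, ∀ g : H, g ∉ Subgroup.normalizer ((P' : Subgroup H) : Set H) →
      (P' : Subgroup H) ⊓ (MulAut.conj g • (P' : Subgroup H)) = ⊥)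
    (N : Subgroup H) (Q : Sylow p N) (n : N)
    (hn : n ∉ Subgroup.normalizer ((Q : Subgroup N) : Set N)) :
    (Q : Subgroup N) ⊓ (MulAut.conj n • (Q : Subgroup N)) = ⊥ := by
  obtain ⟨P', hP'⟩ := (Q.isPGroup'.map N.subtype).exists_le_sylow
  have hQR : (Q : Subgroup N) = (P' : Subgroup H).subgroupOf N := by
    symm
    apply Q.is_maximal' (P'.isPGroup'.comap_of_injective N.subtype N.subtype_injective)
    intro x hx
    exact hP' (Subgroup.mem_map_of_mem _ hx)
  have hnP : (n : H) ∉ Subgroup.normalizer ((P' : Subgroup H) : Set H) := by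
    intro hmem
    apply hn
    rw [Subgroup.mem_normalizer_iff]
    intro x
    rw [hQR, Subgroup.mem_subgroupOf, Subgroup.mem_subgroupOf]
    exact Subgroup.mem_normalizer_iff.1 hmem x
  have h0 := hTIall P' _ hnP
  rw [eq_bot_iff]
  intro x hx
  obtain ⟨hx1, hx2⟩ := Subgroup.mem_inf.1 hx
  rw [Helper1.mem_conj_smul] at hx2
  rw [hQR, Subgroup.mem_subgroupOf] at hx1 hx2
  have h1 : (x : H) ∈ (P' : Subgroup H) ⊓ (MulAut.conj (n : H) • (P' : Subgroup H)) := by
    refine Subgroup.mem_inf.2 ⟨hx1, ?_⟩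
    rw [Helper1.mem_conj_smul]
    simpa using hx2
  rw [h0, Subgroup.mem_bot] at h1
  rw [Subgroup.mem_bot]
  exact Subtype.ext h1

theorem s4620 (hOp : Cfsg.pCore p H = ⊥) (hOp' : Cfsg.pPrimeCore p H = ⊥) (P : Sylow p H)
    (hP1 : (P : Subgroup H) ≠ ⊥)
    (hTI : ∀ g : H, g ∉ Subgroup.normalizer ((P : Subgroup H) : Set H) →
      (P : Subgroup H) ⊓ (MulAut.conj g • (P : Subgroup H)) = ⊥) :
    ∃ N : Subgroup H, N.Normal ∧ N ≠ ⊥ ∧ (∀ K : Subgroup H, K.Normal → K ≠ ⊥ → N ≤ K) ∧
      IsSimpleGroup N ∧ ¬ IsMulCommutative N ∧ Subgroup.centralizer (N : Set H) = ⊥ ∧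
      ∀ Q : Sylow p N, (Q : Subgroup N) ≠ ⊥ ∧
        ∀ n : N, n ∉ Subgroup.normalizer ((Q : Subgroup N) : Set N) →
          (Q : Subgroup N) ⊓ (MulAut.conj n • (Q : Subgroup N)) = ⊥ := by
  classical
  have hTIall := ti_all p P hTI
  haveI : Nontrivial H := by
    obtain ⟨⟨x, hx⟩, hx1⟩ := (Subgroup.ne_bot_iff_exists_ne_one).1 hP1
    exact ⟨⟨x, 1, fun h => hx1 (Subtype.ext h)⟩⟩
  obtain ⟨N, hNn, hN1, hNmin⟩ := Helper4.exists_isMinNormal H
  haveI := hNn
  haveI hNnt : Nontrivial N := (Subgroup.nontrivial_iff_ne_bot _).mpr hN1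
  have hpN : p ∣ Nat.card N := by
    by_contra hnd
    have h1 : N ≤ Cfsg.pPrimeCore p H :=
      Helper5.le_pPrimeCore hNn ((Nat.Prime.coprime_iff_not_dvd hp.out).2 hnd).symm
    rw [hOp', le_bot_iff] at h1
    exact hN1 h1
  obtain ⟨T, hTg, m, hTs, hm, ⟨e⟩⟩ := Helper4.minNormal_mulEquiv_pi_simple N hN1
    (fun M hM hMN => hNmin M hM hMN)
  have hinj0 : Function.Injective (fun t : T => e.symm (Pi.mulSingle (⟨0, hm⟩ : Fin m) t)) :=
    e.symm.injective.comp (Pi.mulSingle_injective _)
  haveI : Finite T := Finite.of_injective _ hinj0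
  have hcardN : Nat.card N = Nat.card T ^ m := by
    rw [Nat.card_congr e.toEquiv, Nat.card_fun, Nat.card_fin]
  have hpT : p ∣ Nat.card T := by
    rw [hcardN] at hpN
    exact hp.out.dvd_of_dvd_pow hpN
  -- `T` is nonabelian
  have hna : ∃ a b : T, a * b ≠ b * a := by
    by_contra hcon
    push Not at hcon
    letI : CommGroup T := { hTg with mul_comm := hcon }
    have hprime : (Nat.card T).Prime := IsSimpleGroup.prime_card
    have hpr : p = Nat.card T := (Nat.prime_dvd_prime_iff_eq hp.out hprime).1 hpT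
    have hNp : IsPGroup p N := IsPGroup.of_card (n := m) (by rw [hcardN, ← hpr])
    have h1 : N ≤ Cfsg.pCore p H := Helper5.le_pCore hNn hNp
    rw [hOp, le_bot_iff] at h1
    exact hN1 h1
  -- embeddings of the factors
  have hfac : ∀ i : Fin m, Function.Injective
      (N.subtype.comp (e.symm.toMonoidHom.comp (MonoidHom.mulSingle (fun _ : Fin m => T) i))) := by
    intro i
    have h1 : Function.Injective (MonoidHom.mulSingle (fun _ : Fin m => T) i) :=
      Pi.mulSingle_injective (M := fun _ : Fin m => T) i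
    exact N.subtype_injective.comp (e.symm.injective.comp h1)
  -- `m = 1`
  have hm1 : m = 1 := by
    by_contra hne
    have h2 : 2 ≤ m := by omega
    obtain ⟨y, hy⟩ := exists_prime_orderOf_dvd_card' p hpT
    obtain ⟨u, hu⟩ : ∃ u : H, u = (N.subtype.comp (e.symm.toMonoidHom.comp
      (MonoidHom.mulSingle (fun _ : Fin m => T) ⟨0, hm⟩))) y := ⟨_, rfl⟩
    have huo : orderOf u = p := by rw [hu, orderOf_injective _ (hfac _), hy]
    have hu1 : u ≠ 1 := by
      intro h
      rw [h, orderOf_one] at huo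
      exact hp.out.one_lt.ne huo
    have hup : IsPGroup p (Subgroup.zpowers u) :=
      IsPGroup.of_card (n := 1) (by rw [Nat.card_zpowers, huo, pow_one])
    obtain ⟨P', hP'⟩ := hup.exists_le_sylow
    have hne01 : (⟨1, by omega⟩ : Fin m) ≠ ⟨0, hm⟩ := by
      intro h
      have := congrArg Fin.val h
      simp at this
    refine simple_contra p hna hpT _ (hfac ⟨1, by omega⟩) P' (hTIall P')
      (hP' (Subgroup.mem_zpowers u)) hu1 ?_
    intro t
    rw [hu]
    have hcomm := Pi.mulSingle_commute (f := fun _ : Fin m => T) hne01 t y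
    simp only [MonoidHom.coe_comp, Function.comp_apply, MonoidHom.mulSingle_apply,
      MulEquiv.coe_toMonoidHom, Subgroup.coe_subtype]
    rw [← Subgroup.coe_mul, ← Subgroup.coe_mul, ← map_mul, ← map_mul, hcomm.eq]
  subst hm1
  -- `N ≃* T`
  obtain ⟨e', he'⟩ : ∃ e' : N ≃* T, e' = e.trans (MulEquiv.funUnique (Fin 1) T) := ⟨_, rfl⟩
  haveI hNs : IsSimpleGroup N :=
    IsSimpleGroup.isSimpleGroup_of_surjective e'.symm.toMonoidHom e'.symm.surjective
  have hfinj : Function.Injective (N.subtype.comp e'.symm.toMonoidHom) :=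
    N.subtype_injective.comp e'.symm.injective
  have hNna : ¬ IsMulCommutative N := by
    intro hc
    obtain ⟨a, b, hab⟩ := hna
    apply hab
    have h1 := hc.is_comm.comm (e'.symm a) (e'.symm b)
    rw [← map_mul, ← map_mul] at h1
    exact e'.symm.injective h1
  have huniq : ∀ K : Subgroup H, K.Normal → K ≠ ⊥ → N ≤ K := by
    intro K hKn hK1
    haveI := hKn
    have hKNn : (K ⊓ N).Normal := inferInstance
    rcases hNmin (K ⊓ N) hKNn inf_le_right with h | h
    · exfalso
      have hpK : p ∣ Nat.card K := by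
        by_contra hnd
        have h1 : K ≤ Cfsg.pPrimeCore p H :=
          Helper5.le_pPrimeCore hKn ((Nat.Prime.coprime_iff_not_dvd hp.out).2 hnd).symm
        rw [hOp', le_bot_iff] at h1
        exact hK1 h1
      obtain ⟨y, hy⟩ := exists_prime_orderOf_dvd_card' p hpK
      have hyo : orderOf (y : H) = p := by rw [Subgroup.orderOf_coe]; exact hy
      have hy1 : (y : H) ≠ 1 := by
        intro h1
        rw [h1, orderOf_one] at hyo
        exact hp.out.one_lt.ne hyo
      have hyp : IsPGroup p (Subgroup.zpowers (y : H)) :=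
        IsPGroup.of_card (n := 1) (by rw [Nat.card_zpowers, hyo, pow_one])
      obtain ⟨P', hP'⟩ := hyp.exists_le_sylow
      refine simple_contra p hna hpT _ hfinj P' (hTIall P')
        (hP' (Subgroup.mem_zpowers (y : H))) hy1 ?_
      intro t
      have hdisj : Disjoint N K := by rw [disjoint_iff, inf_comm]; exact h
      exact (Subgroup.commute_of_normal_of_disjoint N K hNn hKn hdisj _ _
        (Subtype.property _) y.2).eq
    · rw [← h]; exact inf_le_left
  have hcent : Subgroup.centralizer (N : Set H) = ⊥ := by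
    by_contra hne
    have h1 := huniq _ inferInstance hne
    apply hNna
    refine ⟨⟨fun a b => ?_⟩⟩
    apply Subtype.ext
    rw [Subgroup.coe_mul, Subgroup.coe_mul]
    exact (Subgroup.mem_centralizer_iff.1 (h1 b.2) a a.2)
  refine ⟨N, hNn, hN1, huniq, hNs, hNna, hcent, ?_⟩
  intro Q
  refine ⟨?_, fun n hn => sylow_ti_of_normal p hTIall N Q n hn⟩
  intro hQ
  have h1 := Q.card_eq_multiplicity
  rw [hQ, Subgroup.card_bot] at h1
  have h2 : 1 ≤ (Nat.card N).factorization p :=
    (hp.out.dvd_iff_one_le_factorization Nat.card_pos.ne').1 hpN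
  have h3 : 1 < p ^ (Nat.card N).factorization p :=
    Nat.one_lt_pow (by omega) hp.out.one_lt
  omega

end

end Cfsg.Agent.Lead.TISylow
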