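import Mathlib
import Cfsg.Prelude.Def_GeometricClasses
import Cfsg.Agent.Lead.SpDecompA

set_option autoImplicit false

/-! # The tensor decomposition `2 ⊗ n₂` over the field with two elements, part A -/

namespace Cfsg.Agent.Lead.TensorF2

open Matrix Cfsg Cfsg.Geo
open scoped Kronecker

variable {F : Type*} [Field F]

/-- the matrix of order three -/
def w0 (F : Type*) [Field F] : Matrix (Fin 2) (Fin 2) F := !![0, 1; 1, 1]

/-- its square -/
def w0sq (F : Type*) [Field F] : Matrix (Fin 2) (Fin 2) F := !![1, 1; 1, 0]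

theorem w0_mul_w0 (h2 : (1 : F) + 1 = 0) : w0 F * w0 F = w0sq F := by
  ext i j
  fin_cases i <;> fin_cases j <;> simp [w0, w0sq, Matrix.mul_apply, Fin.sum_univ_two, h2]

theorem w0_mul_w0sq (h2 : (1 : F) + 1 = 0) : w0 F * w0sq F = 1 := by
  ext i j
  fin_cases i <;> fin_cases j <;> simp [w0, w0sq, Matrix.mul_apply, Fin.sum_univ_two, h2]

theorem w0sq_mul_w0 (h2 : (1 : F) + 1 = 0) : w0sq F * w0 F = 1 := by
  ext i j
  fin_cases i <;> fin_cases j <;> simp [w0, w0sq, Matrix.mul_apply, Fin.sum_univ_two, h2]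

theorem w0_rel (h2 : (1 : F) + 1 = 0) : w0sq F + w0 F + 1 = 0 := by
  ext i j
  fin_cases i <;> fin_cases j <;> simp [w0, w0sq, h2]

theorem w0_ne_w0sq : w0 F ≠ w0sq F := by
  intro h
  have := congrFun (congrFun h 0) 0
  simp [w0, w0sq] at this

variable [Fintype F]

/-- a `2 × 2` matrix over the field with two elements satisfying `M² + M + 1 = 0` is `w0` or its
square -/
theorem eq_w0_or (hq : Fintype.card F = 2) (M : Matrix (Fin 2) (Fin 2) F)
    (hM : M * M + M + 1 = 0) : M = w0 F ∨ M = w0sq F := by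
  have h2 := Cfsg.Agent.Lead.SpDecomp.one_add_one hq
  have e00 := congrFun (congrFun hM 0) 0
  have e01 := congrFun (congrFun hM 0) 1
  have e10 := congrFun (congrFun hM 1) 0
  have e11 := congrFun (congrFun hM 1) 1
  simp only [Matrix.add_apply, Matrix.mul_apply, Fin.sum_univ_two, Matrix.one_apply_eq,
    Matrix.zero_apply, Matrix.one_apply_ne (show (0 : Fin 2) ≠ 1 by decide),
    Matrix.one_apply_ne (show (1 : Fin 2) ≠ 0 by decide), add_zero] at e00 e01 e10 e11
  have hxx : ∀ a : F, a * a + a = 0 := by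
    intro a
    rcases Cfsg.Agent.Lead.SpDecomp.eq_zero_or_one hq a with h | h <;> rw [h] <;> simp [h2]
  have hyz : M 0 1 * M 1 0 = 1 := by linear_combination e00 - hxx (M 0 0) - h2
  have hy : M 0 1 = 1 := by
    rcases Cfsg.Agent.Lead.SpDecomp.eq_zero_or_one hq (M 0 1) with h | h
    · rw [h, zero_mul] at hyz; exact absurd hyz zero_ne_one
    · exact h
  have hz : M 1 0 = 1 := by
    rcases Cfsg.Agent.Lead.SpDecomp.eq_zero_or_one hq (M 1 0) with h | h
    · rw [h, mul_zero] at hyz; exact absurd hyz zero_ne_one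
    · exact h
  rw [hy] at e01
  rcases Cfsg.Agent.Lead.SpDecomp.eq_zero_or_one hq (M 0 0) with hx | hx
  · left
    have hw : M 1 1 = 1 := by linear_combination e01 - h2 - hx
    ext i j
    fin_cases i <;> fin_cases j <;> simp [w0, hx, hy, hz, hw]
  · right
    have hw : M 1 1 = 0 := by linear_combination e01 - h2 - hx
    ext i j
    fin_cases i <;> fin_cases j <;> simp [w0sq, hx, hy, hz, hw]

end Cfsg.Agent.Lead.TensorF2
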