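import Mathlib
import Cfsg.Agent.Lead.TensorF2A

set_option autoImplicit false

/-! # The tensor decomposition `2 ⊗ n₂` over the field with two elements, part B -/

namespace Cfsg.Agent.Lead.TensorF2

open Matrix Cfsg Cfsg.Geo
open scoped Kronecker

variable {F : Type*} [Field F] [Fintype F] {n₂ : ℕ}

/-- the element `w0 ⊗ 1` -/
noncomputable def OmG (hq : Fintype.card F = 2) (n₂ : ℕ) :
    Matrix.GeneralLinearGroup (Fin 2 × Fin n₂) F :=
  ⟨w0 F ⊗ₖ (1 : Matrix (Fin n₂) (Fin n₂) F), w0sq F ⊗ₖ (1 : Matrix (Fin n₂) (Fin n₂) F),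
    by rw [← Matrix.mul_kronecker_mul, w0_mul_w0sq (Cfsg.Agent.Lead.SpDecomp.one_add_one hq),
      one_mul, Matrix.one_kronecker_one],
    by rw [← Matrix.mul_kronecker_mul, w0sq_mul_w0 (Cfsg.Agent.Lead.SpDecomp.one_add_one hq),
      one_mul, Matrix.one_kronecker_one]⟩

theorem OmG_val (hq : Fintype.card F = 2) :
    ((OmG hq n₂ : Matrix.GeneralLinearGroup (Fin 2 × Fin n₂) F) :
      Matrix (Fin 2 × Fin n₂) (Fin 2 × Fin n₂) F) = w0 F ⊗ₖ (1 : Matrix (Fin n₂) (Fin n₂) F) := rfl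

theorem OmG_sq_val (hq : Fintype.card F = 2) :
    ((OmG hq n₂ * OmG hq n₂ : Matrix.GeneralLinearGroup (Fin 2 × Fin n₂) F) :
      Matrix (Fin 2 × Fin n₂) (Fin 2 × Fin n₂) F) =
      w0sq F ⊗ₖ (1 : Matrix (Fin n₂) (Fin n₂) F) := by
  rw [Units.val_mul, OmG_val, ← Matrix.mul_kronecker_mul,
    w0_mul_w0 (Cfsg.Agent.Lead.SpDecomp.one_add_one hq), one_mul]

/-- the cyclic group generated by `w0 ⊗ 1` -/
noncomputable def ZZ (hq : Fintype.card F = 2) (n₂ : ℕ) :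
    Subgroup (Matrix.GeneralLinearGroup (Fin 2 × Fin n₂) F) := Subgroup.zpowers (OmG hq n₂)

/-- the intermediate subgroup in standard coordinates -/
noncomputable def K0 (hq : Fintype.card F = 2) (n₂ : ℕ) :
    Subgroup (Matrix.GeneralLinearGroup (Fin 2 × Fin n₂) F) :=
  Subgroup.normalizer (ZZ hq n₂ : Set (Matrix.GeneralLinearGroup (Fin 2 × Fin n₂) F))

theorem mem_K0_of_conj (hq : Fintype.card F = 2)
    (g : Matrix.GeneralLinearGroup (Fin 2 × Fin n₂) F)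
    (h : g * OmG hq n₂ * g⁻¹ ∈ ZZ hq n₂) : g ∈ K0 hq n₂ := by
  apply Subgroup.mem_normalizer_fintype
  intro x hx
  obtain ⟨k, rfl⟩ := Subgroup.mem_zpowers_iff.1 hx
  rw [← conj_zpow]
  exact (ZZ hq n₂).zpow_mem h k

theorem kron_le_K0 (hq : Fintype.card F = 2) : kroneckerSubgroup 2 n₂ F ≤ K0 hq n₂ := by
  have h2 := Cfsg.Agent.Lead.SpDecomp.one_add_one hq
  rintro g ⟨a, b, hg⟩
  apply mem_K0_of_conj
  obtain ⟨M, hMdef⟩ : ∃ M, M = (a : Matrix (Fin 2) (Fin 2) F) * w0 F *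
    ((a⁻¹ : Matrix.GeneralLinearGroup (Fin 2) F) : Matrix (Fin 2) (Fin 2) F) := ⟨_, rfl⟩
  have haa : ((a⁻¹ : Matrix.GeneralLinearGroup (Fin 2) F) : Matrix (Fin 2) (Fin 2) F) *
      (a : Matrix (Fin 2) (Fin 2) F) = 1 := by
    rw [← Units.val_mul, inv_mul_cancel, Units.val_one]
  have haa' : (a : Matrix (Fin 2) (Fin 2) F) *
      ((a⁻¹ : Matrix.GeneralLinearGroup (Fin 2) F) : Matrix (Fin 2) (Fin 2) F) = 1 := by
    rw [← Units.val_mul, mul_inv_cancel, Units.val_one]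
  have hMa : M * (a : Matrix (Fin 2) (Fin 2) F) = (a : Matrix (Fin 2) (Fin 2) F) * w0 F := by
    rw [hMdef, Matrix.mul_assoc, haa, Matrix.mul_one]
  have hMM : M * M + M + 1 = 0 := by
    have e1 : M * M = (a : Matrix (Fin 2) (Fin 2) F) * w0sq F *
        ((a⁻¹ : Matrix.GeneralLinearGroup (Fin 2) F) : Matrix (Fin 2) (Fin 2) F) := by
      rw [hMdef]
      calc (a : Matrix (Fin 2) (Fin 2) F) * w0 F *
            ((a⁻¹ : Matrix.GeneralLinearGroup (Fin 2) F) : Matrix (Fin 2) (Fin 2) F) *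
            ((a : Matrix (Fin 2) (Fin 2) F) * w0 F *
            ((a⁻¹ : Matrix.GeneralLinearGroup (Fin 2) F) : Matrix (Fin 2) (Fin 2) F))
          = (a : Matrix (Fin 2) (Fin 2) F) * w0 F *
            (((a⁻¹ : Matrix.GeneralLinearGroup (Fin 2) F) : Matrix (Fin 2) (Fin 2) F) *
            (a : Matrix (Fin 2) (Fin 2) F)) * w0 F *
            ((a⁻¹ : Matrix.GeneralLinearGroup (Fin 2) F) : Matrix (Fin 2) (Fin 2) F) := by
              simp only [Matrix.mul_assoc]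
        _ = _ := by rw [haa, Matrix.mul_one, Matrix.mul_assoc (a : Matrix (Fin 2) (Fin 2) F),
              w0_mul_w0 h2]
    rw [e1, hMdef]
    have e2 : (1 : Matrix (Fin 2) (Fin 2) F) = (a : Matrix (Fin 2) (Fin 2) F) * 1 *
        ((a⁻¹ : Matrix.GeneralLinearGroup (Fin 2) F) : Matrix (Fin 2) (Fin 2) F) := by
      rw [Matrix.mul_one, haa']
    conv_lhs => rw [e2]
    rw [← Matrix.add_mul, ← Matrix.add_mul, ← Matrix.mul_add, ← Matrix.mul_add, w0_rel h2,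
      Matrix.mul_zero, Matrix.zero_mul]
  have key : ∀ (X : Matrix.GeneralLinearGroup (Fin 2 × Fin n₂) F),
      (X : Matrix (Fin 2 × Fin n₂) (Fin 2 × Fin n₂) F) =
        M ⊗ₖ (1 : Matrix (Fin n₂) (Fin n₂) F) → g * OmG hq n₂ * g⁻¹ = X := by
    intro X hX
    rw [mul_inv_eq_iff_eq_mul]
    apply Units.ext
    rw [Units.val_mul, Units.val_mul, hg, hX, OmG_val, ← Matrix.mul_kronecker_mul,
      ← Matrix.mul_kronecker_mul, hMa, Matrix.mul_one, Matrix.one_mul]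
  rcases eq_w0_or hq M hMM with h | h
  · rw [key (OmG hq n₂) (by rw [OmG_val, h])]
    exact Subgroup.mem_zpowers _
  · rw [key (OmG hq n₂ * OmG hq n₂) (by rw [OmG_sq_val, h])]
    exact (ZZ hq n₂).mul_mem (Subgroup.mem_zpowers _) (Subgroup.mem_zpowers _)

/-- the elements of the cyclic group are of the form `A ⊗ 1` -/
theorem ZZ_form (hq : Fintype.card F = 2)
    (x : Matrix.GeneralLinearGroup (Fin 2 × Fin n₂) F) (hx : x ∈ ZZ hq n₂) :
    ∃ A : Matrix (Fin 2) (Fin 2) F,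
      (x : Matrix (Fin 2 × Fin n₂) (Fin 2 × Fin n₂) F) =
        A ⊗ₖ (1 : Matrix (Fin n₂) (Fin n₂) F) := by
  have hle : ZZ hq n₂ ≤ kroneckerSubgroup 2 n₂ F := by
    unfold ZZ
    rw [Subgroup.zpowers_le]
    refine ⟨⟨w0 F, w0sq F, w0_mul_w0sq (Cfsg.Agent.Lead.SpDecomp.one_add_one hq),
      w0sq_mul_w0 (Cfsg.Agent.Lead.SpDecomp.one_add_one hq)⟩, 1, ?_⟩
    rw [OmG_val]; rfl
  -- a direct induction is simpler: the set of such elements is a subgroup
  let B : Subgroup (Matrix.GeneralLinearGroup (Fin 2 × Fin n₂) F) :=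
    { carrier := {x | ∃ A : Matrix.GeneralLinearGroup (Fin 2) F,
        (x : Matrix (Fin 2 × Fin n₂) (Fin 2 × Fin n₂) F) =
          (A : Matrix (Fin 2) (Fin 2) F) ⊗ₖ (1 : Matrix (Fin n₂) (Fin n₂) F)}
      mul_mem' := by
        rintro x y ⟨A, hA⟩ ⟨A', hA'⟩
        exact ⟨A * A', by rw [Units.val_mul, hA, hA', ← Matrix.mul_kronecker_mul, Matrix.mul_one,
          Units.val_mul]⟩
      one_mem' := ⟨1, by simp⟩
      inv_mem' := by
        rintro x ⟨A, hA⟩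
        refine ⟨A⁻¹, ?_⟩
        have h1 : x⁻¹ = ⟨((A⁻¹ : Matrix.GeneralLinearGroup (Fin 2) F) :
            Matrix (Fin 2) (Fin 2) F) ⊗ₖ (1 : Matrix (Fin n₂) (Fin n₂) F),
            (A : Matrix (Fin 2) (Fin 2) F) ⊗ₖ (1 : Matrix (Fin n₂) (Fin n₂) F),
            by rw [← Matrix.mul_kronecker_mul, ← Units.val_mul, inv_mul_cancel, Units.val_one,
              Matrix.one_mul, Matrix.one_kronecker_one],
            by rw [← Matrix.mul_kronecker_mul, ← Units.val_mul, mul_inv_cancel, Units.val_one,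
              Matrix.one_mul, Matrix.one_kronecker_one]⟩ := by
          rw [inv_eq_iff_mul_eq_one]
          apply Units.ext
          rw [Units.val_mul, hA, ← Matrix.mul_kronecker_mul, ← Units.val_mul, mul_inv_cancel,
            Units.val_one, Matrix.one_mul, Matrix.one_kronecker_one]
          rfl
        rw [h1] }
  have hZB : ZZ hq n₂ ≤ B := by
    unfold ZZ
    rw [Subgroup.zpowers_le]
    exact ⟨⟨w0 F, w0sq F, w0_mul_w0sq (Cfsg.Agent.Lead.SpDecomp.one_add_one hq),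
      w0sq_mul_w0 (Cfsg.Agent.Lead.SpDecomp.one_add_one hq)⟩, rfl⟩
  obtain ⟨A, hA⟩ := hZB hx
  exact ⟨A, hA⟩

end Cfsg.Agent.Lead.TensorF2
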