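import Mathlib
import Cfsg.Agent.Lead.TensorF2B

set_option autoImplicit false

/-! # The tensor decomposition `2 ⊗ n₂` over the field with two elements, part C -/

namespace Cfsg.Agent.Lead.TensorF2

open Matrix Cfsg Cfsg.Geo
open scoped Kronecker

variable {F : Type*} [Field F] [Fintype F] {n₂ : ℕ}

/-- the diagonal idempotent -/
def EE (j0 : Fin n₂) : Matrix (Fin n₂) (Fin n₂) F := Matrix.single j0 j0 1

theorem EE_mul (j0 : Fin n₂) : (EE j0 : Matrix (Fin n₂) (Fin n₂) F) * EE j0 = EE j0 := by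
  unfold EE
  rw [Matrix.single_mul_single_same, one_mul]

/-- `A` on the block `j0`, the identity on the others -/
def phiM (j0 : Fin n₂) (A : Matrix (Fin 2) (Fin 2) F) :
    Matrix (Fin 2 × Fin n₂) (Fin 2 × Fin n₂) F :=
  (1 : Matrix (Fin 2) (Fin 2) F) ⊗ₖ (1 - EE j0) + A ⊗ₖ EE j0

theorem phiM_mul (j0 : Fin n₂) (A B : Matrix (Fin 2) (Fin 2) F) :
    phiM j0 A * phiM j0 B = phiM j0 (A * B) := by
  unfold phiM
  have h1 : (1 - EE j0 : Matrix (Fin n₂) (Fin n₂) F) * (1 - EE j0) = 1 - EE j0 := by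
    rw [Matrix.sub_mul, Matrix.mul_sub, Matrix.mul_sub, EE_mul, Matrix.one_mul, Matrix.mul_one,
      Matrix.one_mul, sub_self, sub_zero]
  have h2 : (1 - EE j0 : Matrix (Fin n₂) (Fin n₂) F) * EE j0 = 0 := by
    rw [Matrix.sub_mul, EE_mul, Matrix.one_mul, sub_self]
  have h3 : (EE j0 : Matrix (Fin n₂) (Fin n₂) F) * (1 - EE j0) = 0 := by
    rw [Matrix.mul_sub, EE_mul, Matrix.mul_one, sub_self]
  rw [Matrix.add_mul, Matrix.mul_add, Matrix.mul_add, ← Matrix.mul_kronecker_mul,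
    ← Matrix.mul_kronecker_mul, ← Matrix.mul_kronecker_mul, ← Matrix.mul_kronecker_mul, h1, h2, h3,
    EE_mul, Matrix.kronecker_zero, Matrix.kronecker_zero, add_zero, zero_add, Matrix.one_mul]

theorem phiM_one (j0 : Fin n₂) : phiM j0 (1 : Matrix (Fin 2) (Fin 2) F) = 1 := by
  unfold phiM
  rw [← Matrix.kronecker_add, sub_add_cancel, Matrix.one_kronecker_one]

theorem phiM_apply (j0 : Fin n₂) (A : Matrix (Fin 2) (Fin 2) F) (i i' : Fin 2) (j j' : Fin n₂) :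
    phiM j0 A (i, j) (i', j') =
      (1 : Matrix (Fin 2) (Fin 2) F) i i' * ((1 : Matrix (Fin n₂) (Fin n₂) F) j j' -
        (EE j0 : Matrix (Fin n₂) (Fin n₂) F) j j') + A i i' * (EE j0 : Matrix (Fin n₂) (Fin n₂) F) j j' := by
  unfold phiM
  rw [Matrix.add_apply, Matrix.kronecker_apply, Matrix.kronecker_apply, Matrix.sub_apply]

/-- the block element -/
noncomputable def g1 (hq : Fintype.card F = 2) (j0 : Fin n₂) :
    Matrix.GeneralLinearGroup (Fin 2 × Fin n₂) F :=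
  ⟨phiM j0 (w0 F), phiM j0 (w0sq F),
    by rw [phiM_mul, w0_mul_w0sq (Cfsg.Agent.Lead.SpDecomp.one_add_one hq), phiM_one],
    by rw [phiM_mul, w0sq_mul_w0 (Cfsg.Agent.Lead.SpDecomp.one_add_one hq), phiM_one]⟩

theorem g1_val (hq : Fintype.card F = 2) (j0 : Fin n₂) :
    ((g1 hq j0 : Matrix.GeneralLinearGroup (Fin 2 × Fin n₂) F) :
      Matrix (Fin 2 × Fin n₂) (Fin 2 × Fin n₂) F) = phiM j0 (w0 F) := rfl

theorem g1_mem_K0 (hq : Fintype.card F = 2) (j0 : Fin n₂) : g1 hq j0 ∈ K0 hq n₂ := by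
  apply mem_K0_of_conj
  have : g1 hq j0 * OmG hq n₂ * (g1 hq j0)⁻¹ = OmG hq n₂ := by
    rw [mul_inv_eq_iff_eq_mul]
    apply Units.ext
    rw [Units.val_mul, Units.val_mul, g1_val, OmG_val]
    unfold phiM
    rw [Matrix.add_mul, Matrix.mul_add, ← Matrix.mul_kronecker_mul, ← Matrix.mul_kronecker_mul,
      ← Matrix.mul_kronecker_mul, ← Matrix.mul_kronecker_mul, Matrix.one_mul, Matrix.mul_one,
      Matrix.mul_one, Matrix.one_mul, Matrix.mul_one, Matrix.one_mul]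
  rw [this]
  exact Subgroup.mem_zpowers _

theorem g1_not_mem_kron (hq : Fintype.card F = 2) (j0 j1 : Fin n₂) (hj : j0 ≠ j1) :
    g1 hq j0 ∉ kroneckerSubgroup 2 n₂ F := by
  rintro ⟨a, b, hab⟩
  rw [g1_val] at hab
  have e1 := congrFun (congrFun hab (0, j1)) (1, j1)
  have e2 := congrFun (congrFun hab (0, j1)) (0, j1)
  have e3 := congrFun (congrFun hab (0, j0)) (1, j0)
  rw [phiM_apply, Matrix.kronecker_apply] at e1 e2 e3
  have hE11 : (EE j0 : Matrix (Fin n₂) (Fin n₂) F) j1 j1 = 0 := by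
    unfold EE
    exact Matrix.single_apply_of_ne _ _ _ _ _ (fun h => hj h.1)
  have hE00 : (EE j0 : Matrix (Fin n₂) (Fin n₂) F) j0 j0 = 1 := by
    unfold EE
    exact Matrix.single_apply_same _ _ _
  rw [hE11, Matrix.one_apply_ne (show (0 : Fin 2) ≠ 1 by decide)] at e1
  rw [hE11, Matrix.one_apply_eq, Matrix.one_apply_eq] at e2
  rw [hE00, Matrix.one_apply_ne (show (0 : Fin 2) ≠ 1 by decide)] at e3
  simp only [zero_mul, mul_zero, add_zero, sub_zero, mul_one, zero_add] at e1 e2 e3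
  have hw : w0 F 0 1 = 1 := by simp [w0]
  rw [hw] at e3
  have hb : (b : Matrix (Fin n₂) (Fin n₂) F) j1 j1 ≠ 0 := by
    intro h0
    rw [h0, mul_zero] at e2
    exact one_ne_zero e2
  have ha : (a : Matrix (Fin 2) (Fin 2) F) 0 1 ≠ 0 := by
    intro h0
    rw [h0, zero_mul] at e3
    exact one_ne_zero e3
  exact (mul_ne_zero ha hb) e1.symm

theorem pair_ne (j0 j1 : Fin n₂) (hj : j0 ≠ j1) : ((0 : Fin 2), j0) ≠ ((0 : Fin 2), j1) := by
  intro h; exact hj (Prod.ext_iff.1 h).2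

theorem tv_sq (hq : Fintype.card F = 2) (j0 j1 : Fin n₂) (hj : j0 ≠ j1) :
    Matrix.transvection ((0 : Fin 2), j0) ((0 : Fin 2), j1) (1 : F) *
      Matrix.transvection ((0 : Fin 2), j0) ((0 : Fin 2), j1) (1 : F) = 1 := by
  have h := Matrix.transvection_mul_transvection_same ((0 : Fin 2), j0) ((0 : Fin 2), j1)
    (pair_ne j0 j1 hj) (1 : F) (1 : F)
  rw [h, Cfsg.Agent.Lead.SpDecomp.one_add_one hq, Matrix.transvection_zero]

/-- the transvection -/
noncomputable def g2 (hq : Fintype.card F = 2) (j0 j1 : Fin n₂) (hj : j0 ≠ j1) :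
    Matrix.GeneralLinearGroup (Fin 2 × Fin n₂) F :=
  ⟨Matrix.transvection ((0 : Fin 2), j0) ((0 : Fin 2), j1) (1 : F),
    Matrix.transvection ((0 : Fin 2), j0) ((0 : Fin 2), j1) (1 : F),
    tv_sq hq j0 j1 hj, tv_sq hq j0 j1 hj⟩

theorem g2_not_mem_K0 (hq : Fintype.card F = 2) (j0 j1 : Fin n₂) (hj : j0 ≠ j1) :
    g2 hq j0 j1 hj ∉ K0 hq n₂ := by
  intro hmem
  have h1 : g2 hq j0 j1 hj * OmG hq n₂ * (g2 hq j0 j1 hj)⁻¹ ∈ ZZ hq n₂ :=
    ((Subgroup.mem_normalizer_iff (H := ZZ hq n₂)).1 hmem (OmG hq n₂)).1 (Subgroup.mem_zpowers _)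
  obtain ⟨A, hA⟩ := ZZ_form hq _ h1
  have h2 : (g2 hq j0 j1 hj * OmG hq n₂ * (g2 hq j0 j1 hj)⁻¹) * g2 hq j0 j1 hj =
      g2 hq j0 j1 hj * OmG hq n₂ := by group
  have h3 := congrArg (fun x : Matrix.GeneralLinearGroup (Fin 2 × Fin n₂) F =>
    (x : Matrix (Fin 2 × Fin n₂) (Fin 2 × Fin n₂) F)) h2
  beta_reduce at h3
  rw [Units.val_mul, hA, Units.val_mul (g2 hq j0 j1 hj) (OmG hq n₂), OmG_val] at h3
  have h4 := congrFun (congrFun h3 (0, j0)) (1, j1)
  have hval : ((g2 hq j0 j1 hj : Matrix.GeneralLinearGroup (Fin 2 × Fin n₂) F) :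
      Matrix (Fin 2 × Fin n₂) (Fin 2 × Fin n₂) F) =
      Matrix.transvection ((0 : Fin 2), j0) ((0 : Fin 2), j1) (1 : F) := rfl
  rw [hval, Matrix.transvection_mul_apply_same,
    Matrix.mul_transvection_apply_of_ne _ _ _ _ (by intro h; have h' : (1 : Fin 2) = 0 := (Prod.ext_iff.1 h).1; exact absurd h' (by decide)),
    Matrix.kronecker_apply, Matrix.kronecker_apply, Matrix.kronecker_apply,
    Matrix.one_apply_ne hj, Matrix.one_apply_eq] at h4
  have hw : w0 F 0 1 = 1 := by simp [w0]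
  rw [hw] at h4
  simp only [mul_zero, mul_one, zero_add] at h4
  exact zero_ne_one h4

end Cfsg.Agent.Lead.TensorF2
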