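import Mathlib
import Cfsg.Agent.Lead.TensorF2C

set_option autoImplicit false

/-! # The tensor decomposition `2 ⊗ n₂` over the field with two elements, part D: the statement -/

namespace Cfsg.Agent.Lead.TensorF2

open Matrix Cfsg Cfsg.Geo
open scoped Kronecker

variable {F : Type*} [Field F] [Fintype F]

theorem specialLinear_eq_top (hq : Fintype.card F = 2) (n : ℕ) :
    specialLinear (Fin n) F = ⊤ := by
  classical
  have hsub : Subsingleton Fˣ := by
    rw [← Fintype.card_le_one_iff_subsingleton, Fintype.card_units, hq]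
  rw [eq_top_iff]
  intro g _
  unfold specialLinear
  rw [MonoidHom.mem_ker]
  exact Subsingleton.elim _ _

theorem s5638 (n : ℕ) (hn : 13 ≤ n) (hq : Fintype.card F = 2) (n₂ : ℕ)
    (e : Fin n ≃ Fin 2 × Fin n₂) (P : Matrix.GeneralLinearGroup (Fin n) F) :
    ∃ K : Subgroup (Matrix.GeneralLinearGroup (Fin n) F),
      tensorProductSubgroup 2 n₂ e P ⊓ specialLinear (Fin n) F < K ∧
        K < specialLinear (Fin n) F := by
  rw [specialLinear_eq_top hq, inf_top_eq]
  have hn2 : 2 ≤ n₂ := by
    have := Fintype.card_congr e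
    simp only [Fintype.card_fin, Fintype.card_prod] at this
    omega
  have hne : (⟨0, by omega⟩ : Fin n₂) ≠ ⟨1, by omega⟩ := by
    intro h; simp [Fin.ext_iff] at h
  have hf1 : Function.Injective ((glReindex (F := F) e.symm).toMonoidHom) :=
    (glReindex (F := F) e.symm).injective
  have hf2 : Function.Injective ((MulAut.conj P).toMonoidHom) := (MulAut.conj P).injective
  refine ⟨((K0 hq n₂).map (glReindex (F := F) e.symm).toMonoidHom).map
    (MulAut.conj P).toMonoidHom, ?_, ?_⟩
  · unfold tensorProductSubgroup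
    rw [Subgroup.map_lt_map_iff_of_injective hf2, Subgroup.map_lt_map_iff_of_injective hf1,
      SetLike.lt_iff_le_and_exists]
    exact ⟨kron_le_K0 hq, g1 hq ⟨0, by omega⟩, g1_mem_K0 hq _, g1_not_mem_kron hq _ _ hne⟩
  · rw [lt_top_iff_ne_top]
    intro h
    have hmem : (MulAut.conj P).toMonoidHom ((glReindex (F := F) e.symm).toMonoidHom
        (g2 hq ⟨0, by omega⟩ ⟨1, by omega⟩ hne)) ∈
        ((K0 hq n₂).map (glReindex (F := F) e.symm).toMonoidHom).map
          (MulAut.conj P).toMonoidHom := by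
      rw [h]; trivial
    obtain ⟨y, ⟨x, hx, rfl⟩, hxy⟩ := hmem
    have hxe := hf1 (hf2 hxy)
    rw [hxe] at hx
    exact g2_not_mem_K0 hq _ _ hne hx

end Cfsg.Agent.Lead.TensorF2
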