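import Mathlib
import Cfsg.Prelude.Def_PLocal
import Cfsg.Agent.Lead.PSolvE
import Cfsg.Agent.Lead.Replacement3
import Cfsg.Agent.Helper1.ThompsonFactor
import Cfsg.Agent.Helper1.OmegaCenterSup
import Cfsg.Agent.Helper4.SolvPSolv

set_option autoImplicit false

/-!
Thompson factorization for `p`-stable groups, and for solvable groups.
-/

namespace Cfsg.Agent.Lead
namespace ThompsonFactSolv

open scoped commutatorElement Pointwise
open Cfsg.Agent.Helper1

/-- `p`-stability on the normal closure of `Ω₁(Z(S))` gives Thompson factorizability -/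
theorem factorizable_of_stable {G : Type*} [Group G] [Finite G] {p : ℕ} [hp : Fact p.Prime]
    (hO : Cfsg.pPrimeCore p G = ⊥)
    (hc : Subgroup.centralizer (Cfsg.pCore p G : Set G) ≤ Cfsg.pCore p G)
    (hst : ∀ (V : Subgroup G) [V.Normal], Cfsg.IsElementaryAbelian p V → Cfsg.IsPStableOn p V) :
    Cfsg.IsThompsonFactorizable p G := by
  rw [thompson_factorizable_iff hO]
  obtain ⟨hVn, hV, hD⟩ := omegaCenterSup_facts (p := p) hc
  obtain ⟨V, hVdef⟩ : ∃ V, V = omegaCenterSup p G := ⟨_, rfl⟩
  rw [← hVdef] at hVn hV hD ⊢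
  haveI := hVn
  have hstV := hst V hV
  -- quadratic elements centralize `V`
  have hquad : ∀ a : G, ⁅⁅V, Subgroup.zpowers a⁆, Subgroup.zpowers a⁆ = ⊥ →
      a ∈ Subgroup.centralizer (V : Set G) := by
    intro a ha
    have h1 := hstV a ha
    obtain ⟨D, hDdef⟩ : ∃ D : Subgroup G, D = (Cfsg.pCore p (G ⧸ Subgroup.centralizer (V : Set G))).comap
        (QuotientGroup.mk' (Subgroup.centralizer (V : Set G))) := ⟨_, rfl⟩
    have hDn : D.Normal := by rw [hDdef]; infer_instance
    have hCD : Subgroup.centralizer (V : Set G) ≤ D := by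
      rw [hDdef]
      intro x hx
      rw [Subgroup.mem_comap]
      have : (QuotientGroup.mk' (Subgroup.centralizer (V : Set G))) x = 1 :=
        (QuotientGroup.eq_one_iff x).2 hx
      rw [this]; exact Subgroup.one_mem _
    have hrel : ∃ k : ℕ, (Subgroup.centralizer (V : Set G)).relIndex D = p ^ k := by
      obtain ⟨k, hk⟩ := IsPGroup.iff_card.1
        (pCore_isPGroup (G := G ⧸ Subgroup.centralizer (V : Set G)) p)
      refine ⟨k, ?_⟩
      have hker : Subgroup.centralizer (V : Set G) =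
          (⊥ : Subgroup (G ⧸ Subgroup.centralizer (V : Set G))).comap
            (QuotientGroup.mk' (Subgroup.centralizer (V : Set G))) := by
        rw [MonoidHom.comap_bot, QuotientGroup.ker_mk']
      conv_lhs => rw [hker]
      rw [hDdef, Subgroup.relIndex_comap, Subgroup.map_comap_eq_self_of_surjective
        (QuotientGroup.mk'_surjective _), Subgroup.relIndex_bot_left, hk]
    have hDC := hD D hDn hCD hrel
    rw [← hDC, hDdef, Subgroup.mem_comap]
    exact h1
  -- every member of the Thompson family centralizes `V`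
  show sSup (Cfsg.maxElementaryAbelianSubgroups p G) ≤ _
  apply sSup_le
  intro A hA
  obtain ⟨hA₀, hq, hne⟩ := Cfsg.Agent.Lead.Repl.thompson_replacement V hV A hA
  obtain ⟨A₀, hA₀def⟩ : ∃ A₀, A₀ = ⁅V, A⁆ ⊔ (A ⊓ Subgroup.centralizer ((⁅V, A⁆ : Subgroup G) : Set G)) :=
    ⟨_, rfl⟩
  rw [← hA₀def] at hq hne
  have hA₀C : A₀ ≤ Subgroup.centralizer (V : Set G) := by
    intro a ha
    apply hquad
    rw [eq_bot_iff, ← hq]
    have hz : Subgroup.zpowers a ≤ A₀ := (Subgroup.zpowers_le).2 ha
    exact Subgroup.commutator_mono (Subgroup.commutator_mono le_rfl hz) hz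
  have hVA₀ : ⁅V, A₀⁆ = ⊥ := by
    rw [Subgroup.commutator_comm, Subgroup.commutator_eq_bot_iff_le_centralizer]
    exact hA₀C
  have hVA : ⁅V, A⁆ = ⊥ := by
    by_contra h
    exact hne h hVA₀
  rw [Subgroup.commutator_comm, Subgroup.commutator_eq_bot_iff_le_centralizer] at hVA
  exact hVA

/-- S0109 -/
theorem s0109 {G : Type*} [Group G] [Finite G] {p : ℕ} [hp : Fact p.Prime] (hp2 : p ≠ 2)
    (hs : Group.IsSolvable G) (h3 : p = 3 → ∀ T : Sylow 2 G, IsMulCommutative T)
    (hF : ∀ N : Subgroup G, N.Normal → Nat.Coprime (Nat.card N) p → N = ⊥) (P : Sylow p G)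
    (g : G) :
    ∃ a ∈ Subgroup.normalizer (Cfsg.thompsonSubgroupOf p (P : Subgroup G) : Set G),
      ∃ c ∈ Subgroup.centralizer
        {x : G | x ∈ (P : Subgroup G) ∧ (∀ y ∈ (P : Subgroup G), x * y = y * x) ∧ x ^ p = 1},
        g = a * c := by
  haveI := hs
  have hO : Cfsg.pPrimeCore p G = ⊥ := hF _ inferInstance (card_pPrimeCore_coprime p)
  have hc := centralizer_pCore_le (G := G) p hO
  have hst : ∀ (V : Subgroup G) [V.Normal], Cfsg.IsElementaryAbelian p V →
      Cfsg.IsPStableOn p V := by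
    intro V hVn hV
    have hVp : IsPGroup p V := by
      intro v
      refine ⟨1, ?_⟩
      rw [pow_one]
      exact Subtype.ext (hV.2 v v.2)
    by_cases hp3 : p = 3
    · exact Cfsg.Agent.Lead.Ab2GL2.isPStableOnAb2 hp2
        (Cfsg.Agent.Lead.Ab2GL2.ab2_of_sylow default (h3 hp3 default)) V hVp
    · have hp5 : 5 ≤ p := by
        have h2 := hp.out.two_le
        have h4 : p ≠ 4 := by
          intro h
          have := hp.out
          rw [h] at this
          exact absurd this (by decide)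
        omega
      exact Cfsg.Agent.Lead.PSolvGL2.isPStableOnPS hp5
        (Cfsg.Agent.Helper4.SolvPSolv.isPSolvable_of_isSolvable p hs) V hVp
  have hfac := factorizable_of_stable hO hc hst
  obtain ⟨x, hx, c, hc', n, hn, hgn⟩ := hfac P g⁻¹
  rw [hO, Subgroup.mem_bot] at hx
  refine ⟨n⁻¹, Subgroup.inv_mem _ hn, c⁻¹, ?_, ?_⟩
  · apply Subgroup.inv_mem
    rw [Subgroup.mem_centralizer_iff]
    intro y hy
    have hy' : y ∈ Cfsg.omegaOne p ((P : Subgroup G) ⊓
        Subgroup.centralizer ((P : Subgroup G) : Set G)) := by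
      apply Subgroup.subset_closure
      refine ⟨Subgroup.mem_inf.2 ⟨hy.1, ?_⟩, hy.2.2⟩
      rw [Subgroup.mem_centralizer_iff]
      intro z hz
      exact (hy.2.1 z hz).symm
    exact (Subgroup.mem_centralizer_iff.1 hc') y hy'
  · have : g = (g⁻¹)⁻¹ := (inv_inv g).symm
    rw [this, hgn, hx]
    group

end ThompsonFactSolv
end Cfsg.Agent.Lead
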