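import Mathlib

set_option autoImplicit false

namespace Cfsg.Agent.Lead.TwoAdic

variable {k : ℕ}

theorem two_pow_eq_zero (k : ℕ) : (2 : ZMod (2 ^ k)) ^ k = 0 := by
  have := ZMod.natCast_self (2 ^ k)
  push_cast at this
  exact this

theorem even_or_odd (x : ZMod (2 ^ k)) : (∃ y, x = 2 * y) ∨ (∃ y, x = 1 + 2 * y) := by
  have hx : ((x.val : ℕ) : ZMod (2 ^ k)) = x := ZMod.natCast_zmod_val x
  rcases Nat.even_or_odd' x.val with ⟨m, hm | hm⟩
  · left
    refine ⟨(m : ZMod (2 ^ k)), ?_⟩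
    rw [← hx, hm]
    push_cast
    ring
  · right
    refine ⟨(m : ZMod (2 ^ k)), ?_⟩
    rw [← hx, hm]
    push_cast
    ring

theorem isUnit_odd (y : ZMod (2 ^ k)) : IsUnit (1 + 2 * y) := by
  apply IsNilpotent.isUnit_one_add
  refine ⟨k, ?_⟩
  rw [mul_pow, two_pow_eq_zero, zero_mul]

theorem odd_ne_zero (hk : 1 ≤ k) (y : ZMod (2 ^ k)) : 1 + 2 * y ≠ 0 := by
  have : Fact (1 < 2 ^ k) := ⟨Nat.one_lt_two_pow (by omega)⟩
  intro h
  have := isUnit_odd y
  rw [h] at this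
  exact not_isUnit_zero this

theorem cube_eq_one (hk : 1 ≤ k) (s : ZMod (2 ^ k)) (h : s ^ 3 = 1) : s = 1 := by
  obtain ⟨u, rfl⟩ := IsUnit.of_pow_eq_one h (by norm_num)
  have h1 : u ^ 3 = 1 := by
    apply Units.ext
    rw [Units.val_pow_eq_pow_val, h, Units.val_one]
  have h2 : u ^ (2 ^ (k - 1)) = 1 := by
    have := ZMod.pow_totient u
    rw [Nat.totient_prime_pow Nat.prime_two (by omega)] at this
    simpa using this
  have h3 : u = 1 := by
    rw [← pow_eq_one_iff_of_coprime (m := 3) (n := 2 ^ (k - 1))]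
    · exact ⟨h1, h2⟩
    · apply Nat.Coprime.pow_right
      norm_num
  rw [h3, Units.val_one]

/-- the element of order two -/
def hh (k : ℕ) : ZMod (2 ^ k) := 2 ^ (k - 1)

theorem hh_add (hk : 1 ≤ k) : hh k + hh k = 0 := by
  unfold hh
  have : (2 : ZMod (2 ^ k)) ^ (k - 1) + 2 ^ (k - 1) = 2 ^ ((k - 1) + 1) := by ring
  rw [this, Nat.sub_add_cancel hk, two_pow_eq_zero]

theorem hh_mul (hk : 2 ≤ k) : hh k * hh k = 0 := by
  unfold hh
  rw [← pow_add]
  have : k - 1 + (k - 1) = k + (k - 2) := by omega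
  rw [this, pow_add, two_pow_eq_zero, zero_mul]

theorem two_tors (hk : 1 ≤ k) (x : ZMod (2 ^ k)) (h : 2 * x = 0) : x = 0 ∨ x = hh k := by
  have hx : ((x.val : ℕ) : ZMod (2 ^ k)) = x := ZMod.natCast_zmod_val x
  have h1 : ((2 * x.val : ℕ) : ZMod (2 ^ k)) = 0 := by
    push_cast
    rw [hx, h]
  rw [ZMod.natCast_eq_zero_iff] at h1
  have h2 : 2 ^ k = 2 * 2 ^ (k - 1) := by
    rw [← pow_succ', Nat.sub_add_cancel hk]
  have h1' : 2 * 2 ^ (k - 1) ∣ 2 * x.val := h2 ▸ h1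
  have h3 : 2 ^ (k - 1) ∣ x.val := (Nat.mul_dvd_mul_iff_left (by norm_num)).1 h1'
  obtain ⟨c, hc⟩ := h3
  have h4 : x.val < 2 ^ k := ZMod.val_lt x
  have h4' : 2 ^ (k - 1) * c < 2 * 2 ^ (k - 1) := by
    rw [← hc, ← h2]; exact h4
  have h5 : 0 < 2 ^ (k - 1) := by positivity
  have h6 : c < 2 := by
    by_contra hcon
    push Not at hcon
    have : 2 * 2 ^ (k - 1) ≤ 2 ^ (k - 1) * c := by
      calc 2 * 2 ^ (k - 1) = 2 ^ (k - 1) * 2 := by ring
        _ ≤ 2 ^ (k - 1) * c := Nat.mul_le_mul_left _ hcon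
    omega
  clear h4'
  interval_cases c
  · left
    rw [← hx, hc]
    simp
  · right
    rw [← hx, hc]
    unfold hh
    push_cast
    ring

theorem tors_mul (hk : 2 ≤ k) (x y : ZMod (2 ^ k)) (hx : 2 * x = 0) (hy : 2 * y = 0) :
    x * y = 0 := by
  rcases two_tors (by omega) x hx with h | h
  · rw [h, zero_mul]
  · rcases two_tors (by omega) y hy with h' | h'
    · rw [h', mul_zero]
    · rw [h, h', hh_mul hk]

end Cfsg.Agent.Lead.TwoAdic
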