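import Mathlib
import Cfsg.Agent.Lead.TwoAdicA

set_option autoImplicit false

namespace Cfsg.Agent.Lead.TwoAdic

open Matrix

variable {k : ℕ}

theorem mat_eq {α : Type*} (a b c d a' b' c' d' : α) :
    !![a, b; c, d] = !![a', b'; c', d'] ↔ a = a' ∧ b = b' ∧ c = c' ∧ d = d' := by
  constructor
  · intro h
    refine ⟨?_, ?_, ?_, ?_⟩
    · simpa using congr_fun₂ h 0 0
    · simpa using congr_fun₂ h 0 1
    · simpa using congr_fun₂ h 1 0
    · simpa using congr_fun₂ h 1 1
  · rintro ⟨rfl, rfl, rfl, rfl⟩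
    rfl

/-- companion matrix of `x^2+x+1` -/
def P0 (k : ℕ) : Matrix (Fin 2) (Fin 2) (ZMod (2 ^ k)) := !![0, -1; 1, -1]

/-- its inverse -/
def P0i (k : ℕ) : Matrix (Fin 2) (Fin 2) (ZMod (2 ^ k)) := !![-1, 1; -1, 0]

theorem P0_mul_P0i : P0 k * P0i k = 1 := by
  rw [P0, P0i, Matrix.mul_fin_two, Matrix.one_fin_two, mat_eq]
  refine ⟨by ring, by ring, by ring, by ring⟩

theorem P0i_mul_P0 : P0i k * P0 k = 1 := by
  rw [P0, P0i, Matrix.mul_fin_two, Matrix.one_fin_two, mat_eq]
  refine ⟨by ring, by ring, by ring, by ring⟩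

/-- the standard element of order three -/
def rho0 (k : ℕ) : GL (Fin 2) (ZMod (2 ^ k)) := ⟨P0 k, P0i k, P0_mul_P0i, P0i_mul_P0⟩

theorem exists_conj (hk : 1 ≤ k) (ρ : GL (Fin 2) (ZMod (2 ^ k))) (h3 : ρ ^ 3 = 1) (hne : ρ ≠ 1) :
    ∃ g : GL (Fin 2) (ZMod (2 ^ k)), g⁻¹ * ρ * g = rho0 k := by
  obtain ⟨M, hM0⟩ : ∃ M : Matrix (Fin 2) (Fin 2) (ZMod (2 ^ k)), M = ρ.val := ⟨_, rfl⟩
  have hM3 : M ^ 3 = 1 := by
    have := congrArg Units.val h3
    rw [Units.val_pow_eq_pow_val, Units.val_one] at this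
    rw [hM0]
    exact this
  have hMne : M ≠ 1 := by
    intro h
    apply hne
    apply Units.ext
    rw [← hM0, h]
    rfl
  obtain ⟨p, q, r, s, hM⟩ : ∃ p q r s, M = !![p, q; r, s] := ⟨_, _, _, _, Matrix.eta_fin_two M⟩
  have hd3 : (M.det) ^ 3 = 1 := by rw [← Matrix.det_pow, hM3, Matrix.det_one]
  have hd : M.det = 1 := cube_eq_one hk _ hd3
  rw [hM, Matrix.det_fin_two_of] at hd
  have e := hM3
  rw [hM, pow_succ, pow_two, Matrix.mul_fin_two, Matrix.mul_fin_two, Matrix.one_fin_two,
    mat_eq] at e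
  obtain ⟨e00, e01, e10, e11⟩ := e
  have T00 : ((p + s) ^ 2 - 1) * p = (p + s) + 1 := by
    linear_combination e00 + (2 * p + s) * hd
  have T01 : ((p + s) ^ 2 - 1) * q = 0 := by
    linear_combination e01 + q * hd
  have T10 : ((p + s) ^ 2 - 1) * r = 0 := by
    linear_combination e10 + r * hd
  have T11 : ((p + s) ^ 2 - 1) * s = (p + s) + 1 := by
    linear_combination e11 + (2 * s + p) * hd
  -- trace is -1
  have ht : p + s + 1 = 0 := by
    rcases even_or_odd (p + s + 1) with ⟨y, hy⟩ | ⟨y, hy⟩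
    · -- even case
      have hu : IsUnit (1 + 2 * (-(y - 1) * p)) := isUnit_odd _
      have : (p + s + 1) * (1 + 2 * (-(y - 1) * p)) = 0 := by
        have h1 : p + s - 1 = 2 * (y - 1) := by linear_combination hy
        linear_combination (-1 : ZMod (2 ^ k)) * T00 + (p + s + 1) * p * h1
      exact (hu.mul_left_eq_zero).1 this
    · -- odd case: contradiction
      exfalso
      have ht2 : p + s = 2 * y := by linear_combination hy
      have hu : IsUnit ((p + s) ^ 2 - 1) := by
        have : (p + s) ^ 2 - 1 = -(1 + 2 * (-(2 * y * y))) := by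
          rw [ht2]; ring
        rw [this]
        exact (isUnit_odd _).neg
      have hq : q = 0 := (hu.mul_right_eq_zero).1 T01
      have hr : r = 0 := (hu.mul_right_eq_zero).1 T10
      have hps : p - s = 0 := by
        apply (hu.mul_right_eq_zero).1
        linear_combination T00 - T11
      have hps' : s = p := by linear_combination -hps
      have hp3 : p ^ 3 = 1 := by
        rw [hq, hr] at e00
        linear_combination e00
      have hp1 : p = 1 := cube_eq_one hk p hp3
      apply hMne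
      rw [hM, hq, hr, hps', hp1, Matrix.one_fin_two]
  -- cyclic vector
  rcases even_or_odd r with ⟨r', hr⟩ | ⟨r', hr⟩
  · rcases even_or_odd q with ⟨q', hq⟩ | ⟨q', hq⟩
    · exfalso
      rcases even_or_odd p with ⟨p', hp⟩ | ⟨p', hp⟩
      · apply odd_ne_zero hk (2 * q' * r' - p' * s)
        rw [hp, hq, hr] at hd
        linear_combination -hd
      · have hs : s = 2 * (-1 - p') := by
          linear_combination ht - hp
        apply odd_ne_zero hk (2 * q' * r' + p * (1 + p'))
        rw [hq, hr, hs] at hd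
        linear_combination -hd
    · -- q unit
      have hdet : IsUnit (Matrix.det !![0, q; 1, s]) := by
        rw [Matrix.det_fin_two_of]
        have : 0 * s - q * 1 = -(1 + 2 * q') := by rw [hq]; ring
        rw [this]
        exact (isUnit_odd _).neg
      refine ⟨Matrix.GeneralLinearGroup.mk'' _ hdet, ?_⟩
      rw [mul_assoc, inv_mul_eq_iff_eq_mul]
      apply Units.ext
      rw [Units.val_mul, Units.val_mul, Matrix.GeneralLinearGroup.val_mk'', ← hM0, hM]
      show !![p, q; r, s] * !![0, q; 1, s] = !![0, q; 1, s] * P0 k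
      rw [P0, Matrix.mul_fin_two, Matrix.mul_fin_two, mat_eq]
      refine ⟨by ring, ?_, by ring, ?_⟩
      · linear_combination q * ht
      · linear_combination s * ht - hd
  · -- r unit
    have hdet : IsUnit (Matrix.det !![1, p; 0, r]) := by
      rw [Matrix.det_fin_two_of]
      have : 1 * r - p * 0 = 1 + 2 * r' := by rw [hr]; ring
      rw [this]
      exact isUnit_odd _
    refine ⟨Matrix.GeneralLinearGroup.mk'' _ hdet, ?_⟩
    rw [mul_assoc, inv_mul_eq_iff_eq_mul]
    apply Units.ext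
    rw [Units.val_mul, Units.val_mul, Matrix.GeneralLinearGroup.val_mk'', ← hM0, hM]
    show !![p, q; r, s] * !![1, p; 0, r] = !![1, p; 0, r] * P0 k
    rw [P0, Matrix.mul_fin_two, Matrix.mul_fin_two, mat_eq]
    refine ⟨by ring, ?_, by ring, ?_⟩
    · linear_combination p * ht - hd
    · linear_combination r * ht

end Cfsg.Agent.Lead.TwoAdic
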