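import Mathlib
import Cfsg.Agent.Lead.TwoAdicB

set_option autoImplicit false

namespace Cfsg.Agent.Lead.TwoAdic

open Matrix

variable {k : ℕ}

/-- the standard involution matrix -/
def A1m (k : ℕ) : Matrix (Fin 2) (Fin 2) (ZMod (2 ^ k)) := !![1 + hh k, hh k; 0, 1 + hh k]

theorem A1m_mul (hk : 2 ≤ k) : A1m k * A1m k = 1 := by
  rw [A1m, Matrix.mul_fin_two, Matrix.one_fin_two, mat_eq]
  have h1 := hh_add (k := k) (by omega)
  have h2 := hh_mul hk
  refine ⟨?_, ?_, ?_, ?_⟩
  · linear_combination h1 + h2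
  · linear_combination h1 + 2 * h2
  · ring
  · linear_combination h1 + h2

/-- the standard involution -/
def A1 (hk : 2 ≤ k) : GL (Fin 2) (ZMod (2 ^ k)) := ⟨A1m k, A1m k, A1m_mul hk, A1m_mul hk⟩

theorem rel_entries {R : Type} [CommRing R] (p q r s : R)
    (a00 : p * p + q * r = 1) (a01 : p * q + q * s = 0) (a10 : r * p + s * r = 0)
    (a11 : r * q + s * s = 1) (hd : p * s - q * r = 1)
    (R11 : p * (r + s) + q * (-p + r - q + s) = s - q)
    (R12 : -(p * r) + q * (p - r) = p - r + q - s)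
    (R21 : r * (r + s) + s * (-p + r - q + s) = -q)
    (R22 : -(r * r) + s * (p - r) = p + q) :
    2 * r = 0 ∧ 2 * (p - 1) = 0 ∧ 2 * q = 0 ∧ 2 * (s - 1) = 0 := by
  refine ⟨?_, ?_, ?_, ?_⟩ <;> grind

theorem invol_conj (hk : 2 ≤ k) (a : GL (Fin 2) (ZMod (2 ^ k))) (h2 : a ^ 2 = 1) (hne : a ≠ 1)
    (hrel : a * (rho0 k * a * (rho0 k)⁻¹) = (rho0 k)⁻¹ * a * rho0 k) :
    ∃ g : GL (Fin 2) (ZMod (2 ^ k)), g⁻¹ * rho0 k * g = rho0 k ∧ g⁻¹ * a * g = A1 hk := by
  have hk1 : 1 ≤ k := by omega
  obtain ⟨M, hM0⟩ : ∃ M : Matrix (Fin 2) (Fin 2) (ZMod (2 ^ k)), M = a.val := ⟨_, rfl⟩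
  have hM2 : M * M = 1 := by
    have := congrArg Units.val h2
    rw [pow_two, Units.val_mul, Units.val_one] at this
    rw [hM0]
    exact this
  have hMne : M ≠ 1 := by
    intro h
    apply hne
    apply Units.ext
    rw [← hM0, h]
    rfl
  have hMrel : M * (P0 k * M * P0i k) = P0i k * M * P0 k := by
    have := congrArg Units.val hrel
    rw [hM0]
    exact this
  obtain ⟨p, q, r, s, hM⟩ : ∃ p q r s, M = !![p, q; r, s] := ⟨_, _, _, _, Matrix.eta_fin_two M⟩
  have hdP : (P0 k).det = 1 := by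
    rw [P0, Matrix.det_fin_two_of]; ring
  have hdPi : (P0i k).det = 1 := by
    rw [P0i, Matrix.det_fin_two_of]; ring
  have hdd : M.det * M.det = 1 := by rw [← Matrix.det_mul, hM2, Matrix.det_one]
  have hd : M.det = 1 := by
    have := congrArg Matrix.det hMrel
    simp only [Matrix.det_mul, hdP, hdPi, mul_one, one_mul] at this
    rw [hdd] at this
    exact this.symm
  rw [hM, Matrix.det_fin_two_of] at hd
  have e2 := hM2
  rw [hM, Matrix.mul_fin_two, Matrix.one_fin_two, mat_eq] at e2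
  obtain ⟨a00, a01, a10, a11⟩ := e2
  have er := hMrel
  rw [hM, P0, P0i] at er
  simp only [Matrix.mul_fin_two] at er
  rw [mat_eq] at er
  obtain ⟨R11, R12, R21, R22⟩ := er
  obtain ⟨tr, tp, tq, ts⟩ := rel_entries p q r s a00 a01 a10 a11 hd
    (by linear_combination R11) (by linear_combination R12) (by linear_combination R21)
    (by linear_combination R22)
  have m1 := tors_mul hk _ _ tp tq
  have m2 := tors_mul hk _ _ tp tr
  have m3 := tors_mul hk _ _ tp ts
  have m4 := tors_mul hk _ _ tq tr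
  have m5 := tors_mul hk _ _ tq ts
  have m6 := tors_mul hk _ _ tq tq
  have m7 := tors_mul hk _ _ tr ts
  have m8 := tors_mul hk _ _ tp tp
  have m9 := tors_mul hk _ _ tr tr
  have m10 := tors_mul hk _ _ ts ts
  have hsp : s = p := by grind
  have hqxy : q = (p - 1) + r := by grind
  have hha := hh_add (k := k) hk1
  rcases two_tors hk1 _ tp with hx | hx <;> rcases two_tors hk1 _ tr with hy | hy
  · exfalso
    apply hMne
    have hp : p = 1 := by linear_combination hx
    rw [hM, Matrix.one_fin_two, mat_eq]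
    refine ⟨hp, ?_, hy, ?_⟩
    · rw [hqxy, hx, hy, add_zero]
    · rw [hsp, hp]
  · -- (0, hh): conjugate by rho0⁻¹
    have hp : p = 1 := by linear_combination hx
    refine ⟨(rho0 k)⁻¹, by group, ?_⟩
    rw [inv_inv]
    apply Units.ext
    show P0 k * a.val * P0i k = A1m k
    rw [← hM0, hM, P0, P0i, A1m, Matrix.mul_fin_two, Matrix.mul_fin_two, mat_eq, hqxy, hsp, hp, hy]
    refine ⟨?_, ?_, ?_, ?_⟩ <;>
      first
      | ring1
      | linear_combination hha
      | linear_combination (-1 : ZMod (2 ^ k)) * hha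
      | linear_combination (2 : ZMod (2 ^ k)) * hha
      | linear_combination (-2 : ZMod (2 ^ k)) * hha
      | linear_combination (3 : ZMod (2 ^ k)) * hha
      | linear_combination (-3 : ZMod (2 ^ k)) * hha
  · -- (hh, 0): already standard
    have hp : p = 1 + hh k := by linear_combination hx
    refine ⟨1, by group, ?_⟩
    rw [inv_one, one_mul, mul_one]
    apply Units.ext
    show a.val = A1m k
    rw [← hM0, hM, A1m, mat_eq, hqxy, hsp, hp, hy]
    refine ⟨rfl, by ring, rfl, rfl⟩
  · -- (hh, hh): conjugate by rho0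
    have hp : p = 1 + hh k := by linear_combination hx
    refine ⟨rho0 k, by group, ?_⟩
    apply Units.ext
    show P0i k * a.val * P0 k = A1m k
    rw [← hM0, hM, P0, P0i, A1m, Matrix.mul_fin_two, Matrix.mul_fin_two, mat_eq, hqxy, hsp, hp, hy]
    refine ⟨?_, ?_, ?_, ?_⟩ <;>
      first
      | ring1
      | linear_combination hha
      | linear_combination (-1 : ZMod (2 ^ k)) * hha
      | linear_combination (2 : ZMod (2 ^ k)) * hha
      | linear_combination (-2 : ZMod (2 ^ k)) * hha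
      | linear_combination (3 : ZMod (2 ^ k)) * hha
      | linear_combination (-3 : ZMod (2 ^ k)) * hha

end Cfsg.Agent.Lead.TwoAdic
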