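import Mathlib
import Cfsg.Agent.Lead.TwoAdicC

set_option autoImplicit false

namespace Cfsg.Agent.Lead.TwoAdic

open Matrix Equiv

variable {k : ℕ}

set_option maxRecDepth 100000 in
theorem a4_enum : ∀ x : Perm (Fin 4), Perm.sign x = 1 →
    ∃ i : Fin 2, ∃ j : Fin 2, ∃ l : Fin 3,
      x = (swap 0 1 * swap 2 3) ^ (i : ℕ) *
        ((swap 0 1 * swap 1 2) * (swap 0 1 * swap 2 3) * (swap 0 1 * swap 1 2)⁻¹) ^ (j : ℕ) *
        (swap 0 1 * swap 1 2) ^ (l : ℕ) := by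
  decide

theorem a4_data : ∃ a ρ : alternatingGroup (Fin 4), ρ ^ 3 = 1 ∧ ρ ≠ 1 ∧ a ^ 2 = 1 ∧ a ≠ 1 ∧
    a * (ρ * a * ρ⁻¹) = ρ⁻¹ * a * ρ ∧ Subgroup.closure {a, ρ} = ⊤ := by
  have ha : (swap 0 1 * swap 2 3 : Perm (Fin 4)) ∈ alternatingGroup (Fin 4) := by
    rw [Equiv.Perm.mem_alternatingGroup]; decide
  have hr : (swap 0 1 * swap 1 2 : Perm (Fin 4)) ∈ alternatingGroup (Fin 4) := by
    rw [Equiv.Perm.mem_alternatingGroup]; decide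
  refine ⟨⟨_, ha⟩, ⟨_, hr⟩, ?_, ?_, ?_, ?_, ?_, ?_⟩
  · apply Subtype.ext
    show (swap 0 1 * swap 1 2 : Perm (Fin 4)) ^ 3 = 1
    decide
  · intro h
    have := congrArg Subtype.val h
    revert this
    show (swap 0 1 * swap 1 2 : Perm (Fin 4)) ≠ 1
    decide
  · apply Subtype.ext
    show (swap 0 1 * swap 2 3 : Perm (Fin 4)) ^ 2 = 1
    decide
  · intro h
    have := congrArg Subtype.val h
    revert this
    show (swap 0 1 * swap 2 3 : Perm (Fin 4)) ≠ 1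
    decide
  · apply Subtype.ext
    show (swap 0 1 * swap 2 3 : Perm (Fin 4)) *
        ((swap 0 1 * swap 1 2) * (swap 0 1 * swap 2 3) * (swap 0 1 * swap 1 2)⁻¹) =
      (swap 0 1 * swap 1 2)⁻¹ * (swap 0 1 * swap 2 3) * (swap 0 1 * swap 1 2)
    decide
  · rw [eq_top_iff]
    rintro ⟨x, hx⟩ -
    obtain ⟨i, j, l, hijl⟩ := a4_enum x (Equiv.Perm.mem_alternatingGroup.1 hx)
    have hamem : (⟨_, ha⟩ : alternatingGroup (Fin 4)) ∈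
        Subgroup.closure ({⟨_, ha⟩, ⟨_, hr⟩} : Set (alternatingGroup (Fin 4))) :=
      Subgroup.subset_closure (by simp)
    have hrmem : (⟨_, hr⟩ : alternatingGroup (Fin 4)) ∈
        Subgroup.closure ({⟨_, ha⟩, ⟨_, hr⟩} : Set (alternatingGroup (Fin 4))) :=
      Subgroup.subset_closure (by simp)
    have : (⟨x, hx⟩ : alternatingGroup (Fin 4)) =
        (⟨_, ha⟩ : alternatingGroup (Fin 4)) ^ (i : ℕ) *
          ((⟨_, hr⟩ : alternatingGroup (Fin 4)) * ⟨_, ha⟩ * (⟨_, hr⟩ : alternatingGroup (Fin 4))⁻¹)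
            ^ (j : ℕ) * (⟨_, hr⟩ : alternatingGroup (Fin 4)) ^ (l : ℕ) := by
      apply Subtype.ext
      exact hijl
    rw [this]
    exact mul_mem (mul_mem (pow_mem hamem _)
      (pow_mem (mul_mem (mul_mem hrmem hamem) (inv_mem hrmem)) _)) (pow_mem hrmem _)

theorem data_of_hom {G : Type*} [Group G] (ψ : alternatingGroup (Fin 4) →* G)
    (hψ : Function.Injective ψ) :
    ∃ a ρ : G, ρ ^ 3 = 1 ∧ ρ ≠ 1 ∧ a ^ 2 = 1 ∧ a ≠ 1 ∧ a * (ρ * a * ρ⁻¹) = ρ⁻¹ * a * ρ ∧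
      ψ.range = Subgroup.closure {a, ρ} := by
  obtain ⟨a, ρ, h1, h2, h3, h4, h5, h6⟩ := a4_data
  refine ⟨ψ a, ψ ρ, ?_, ?_, ?_, ?_, ?_, ?_⟩
  · rw [← map_pow, h1, map_one]
  · intro h
    apply h2
    apply hψ
    rw [h, map_one]
  · rw [← map_pow, h3, map_one]
  · intro h
    apply h4
    apply hψ
    rw [h, map_one]
  · rw [← map_inv, ← map_mul, ← map_mul, ← map_mul, ← map_mul, ← map_mul, h5]
  · rw [MonoidHom.range_eq_map, ← h6, MonoidHom.map_closure, Set.image_pair]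

theorem data_of_iso {G : Type*} [Group G] (H : Subgroup G)
    (h : Nonempty (↥H ≃* ↥(alternatingGroup (Fin 4)))) :
    ∃ a ρ : G, ρ ^ 3 = 1 ∧ ρ ≠ 1 ∧ a ^ 2 = 1 ∧ a ≠ 1 ∧ a * (ρ * a * ρ⁻¹) = ρ⁻¹ * a * ρ ∧
      H = Subgroup.closure {a, ρ} := by
  obtain ⟨φ⟩ := h
  have hinj : Function.Injective (H.subtype.comp φ.symm.toMonoidHom) := by
    intro x y hxy
    apply φ.symm.injective
    apply Subtype.ext
    exact hxy
  obtain ⟨a, ρ, h1, h2, h3, h4, h5, h6⟩ := data_of_hom _ hinj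
  refine ⟨a, ρ, h1, h2, h3, h4, h5, ?_⟩
  rw [← h6]
  ext x
  constructor
  · intro hx
    exact ⟨φ ⟨x, hx⟩, by simp⟩
  · rintro ⟨y, rfl⟩
    exact (φ.symm y).2

/-- the standard copy -/
def stdA4 (hk : 2 ≤ k) : Subgroup (GL (Fin 2) (ZMod (2 ^ k))) :=
  Subgroup.closure {A1 hk, rho0 k}

theorem std_form (hk : 2 ≤ k) (H : Subgroup (GL (Fin 2) (ZMod (2 ^ k))))
    (h : Nonempty (↥H ≃* ↥(alternatingGroup (Fin 4)))) :
    ∃ g : GL (Fin 2) (ZMod (2 ^ k)), H = (stdA4 hk).map (MulAut.conj g).toMonoidHom := by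
  obtain ⟨a, ρ, h1, h2, h3, h4, h5, h6⟩ := data_of_iso H h
  obtain ⟨g₁, hg₁⟩ := exists_conj (by omega) ρ h1 h2
  have hρ : ρ = g₁ * rho0 k * g₁⁻¹ := by rw [← hg₁]; group
  obtain ⟨g₂, hg₂, hg₂'⟩ := invol_conj hk (g₁⁻¹ * a * g₁)
    (by
      have : (g₁⁻¹ * a * g₁) ^ 2 = g₁⁻¹ * a ^ 2 * g₁ := by
        rw [pow_two, pow_two]; group
      rw [this, h3]; group)
    (by
      intro h
      apply h4
      have : a = g₁ * (g₁⁻¹ * a * g₁) * g₁⁻¹ := by group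
      rw [this, h]; group)
    (by
      rw [← hg₁]
      have e1 : g₁⁻¹ * a * g₁ * (g₁⁻¹ * ρ * g₁ * (g₁⁻¹ * a * g₁) * (g₁⁻¹ * ρ * g₁)⁻¹) =
          g₁⁻¹ * (a * (ρ * a * ρ⁻¹)) * g₁ := by group
      have e2 : (g₁⁻¹ * ρ * g₁)⁻¹ * (g₁⁻¹ * a * g₁) * (g₁⁻¹ * ρ * g₁) =
          g₁⁻¹ * (ρ⁻¹ * a * ρ) * g₁ := by group
      rw [e1, e2, h5])
  refine ⟨g₁ * g₂, ?_⟩
  have ea : a = (g₁ * g₂) * A1 hk * (g₁ * g₂)⁻¹ := by
    rw [← hg₂']; group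
  have er : ρ = (g₁ * g₂) * rho0 k * (g₁ * g₂)⁻¹ := by
    rw [hρ]
    have : g₁ * g₂ * rho0 k * (g₁ * g₂)⁻¹ = g₁ * (g₂ * rho0 k * g₂⁻¹) * g₁⁻¹ := by group
    rw [this]
    have : g₂ * rho0 k * g₂⁻¹ = rho0 k := by
      nth_rewrite 1 [← hg₂]
      group
    rw [this]
  rw [h6, stdA4, MonoidHom.map_closure, Set.image_pair]
  rw [ea, er]
  rfl

theorem main (k : ℕ) (hk : 2 ≤ k) (H₁ H₂ : Subgroup (GL (Fin 2) (ZMod (2 ^ k))))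
    (h₁ : Nonempty (↥H₁ ≃* ↥(alternatingGroup (Fin 4))))
    (h₂ : Nonempty (↥H₂ ≃* ↥(alternatingGroup (Fin 4)))) :
    ∃ g : GL (Fin 2) (ZMod (2 ^ k)), H₂ = H₁.map (MulAut.conj g).toMonoidHom := by
  obtain ⟨g₁, hg₁⟩ := std_form hk H₁ h₁
  obtain ⟨g₂, hg₂⟩ := std_form hk H₂ h₂
  refine ⟨g₂ * g₁⁻¹, ?_⟩
  rw [hg₁, hg₂, Subgroup.map_map]
  congr 1
  ext x
  simp [MulAut.conj_apply, mul_assoc]

end Cfsg.Agent.Lead.TwoAdic
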