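import Mathlib
import Cfsg.Prelude.Def_RootSubgroups

set_option autoImplicit false
open Cfsg

namespace Cfsg.Agent.Lead.UnipBS

variable {k : Type*} [Field k] {M : Type*} [AddCommGroup M] [Module k M]

/-- the augmentation subspace of a subgroup of GL(M): span of g - 1 -/
def aug (H : Subgroup (LinearMap.GeneralLinearGroup k M)) : Submodule k (Module.End k M) :=
  Submodule.span k ((fun g : LinearMap.GeneralLinearGroup k M => ((g : Module.End k M) - 1)) '' (H : Set _))

theorem sub_one_mem_aug {H : Subgroup (LinearMap.GeneralLinearGroup k M)}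
    {g : LinearMap.GeneralLinearGroup k M} (hg : g ∈ H) : (g : Module.End k M) - 1 ∈ aug H :=
  Submodule.subset_span ⟨g, hg, rfl⟩

theorem aug_mono {H K : Subgroup (LinearMap.GeneralLinearGroup k M)} (h : H ≤ K) : aug H ≤ aug K :=
  Submodule.span_mono (Set.image_mono h)

theorem aug_le_iff' {H : Subgroup (LinearMap.GeneralLinearGroup k M)}
    {b : Submodule k (Module.End k M)} :
    aug H ≤ b ↔ ∀ g ∈ H, (g : Module.End k M) - 1 ∈ b := by
  unfold aug
  rw [Submodule.span_le]
  constructor
  · intro h g hg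
    exact h ⟨g, hg, rfl⟩
  · rintro h _ ⟨g, hg, rfl⟩
    exact h g hg

theorem mul_sub_one (g h : LinearMap.GeneralLinearGroup k M) :
    ((g * h : LinearMap.GeneralLinearGroup k M) : Module.End k M) - 1 =
      ((g : Module.End k M) - 1) * ((h : Module.End k M) - 1) + ((g : Module.End k M) - 1) +
        ((h : Module.End k M) - 1) := by
  rw [Units.val_mul]
  noncomm_ring

theorem aug_mul_le (H : Subgroup (LinearMap.GeneralLinearGroup k M)) : aug H * aug H ≤ aug H := by
  unfold aug
  rw [Submodule.span_mul_span, Submodule.span_le]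
  rintro _ ⟨_, ⟨g, hg, rfl⟩, _, ⟨h, hh, rfl⟩, rfl⟩
  have e := mul_sub_one g h
  have h1 : ((g : Module.End k M) - 1) * ((h : Module.End k M) - 1) =
      (((g * h : LinearMap.GeneralLinearGroup k M) : Module.End k M) - 1) -
        ((g : Module.End k M) - 1) - ((h : Module.End k M) - 1) := by
    rw [e]; abel
  change ((g : Module.End k M) - 1) * ((h : Module.End k M) - 1) ∈ aug H
  rw [h1]
  exact Submodule.sub_mem _ (Submodule.sub_mem _ (sub_one_mem_aug (H.mul_mem hg hh))
    (sub_one_mem_aug hg)) (sub_one_mem_aug hh)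

/-- the subgroup of units g with g - 1 and g⁻¹ - 1 in a multiplicatively closed subspace -/
def unitsOf (b : Submodule k (Module.End k M)) (hb : b * b ≤ b) :
    Subgroup (LinearMap.GeneralLinearGroup k M) where
  carrier := {g | (g : Module.End k M) - 1 ∈ b ∧
    ((g⁻¹ : LinearMap.GeneralLinearGroup k M) : Module.End k M) - 1 ∈ b}
  one_mem' := by
    constructor
    · simp
    · simp
  mul_mem' := by
    rintro g h ⟨hg1, hg2⟩ ⟨hh1, hh2⟩
    constructor
    · rw [mul_sub_one]
      exact b.add_mem (b.add_mem (hb (Submodule.mul_mem_mul hg1 hh1)) hg1) hh1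
    · rw [mul_inv_rev, mul_sub_one]
      exact b.add_mem (b.add_mem (hb (Submodule.mul_mem_mul hh2 hg2)) hh2) hg2
  inv_mem' := by
    rintro g ⟨hg1, hg2⟩
    exact ⟨hg2, by simpa using hg1⟩

theorem aug_le_iff {H : Subgroup (LinearMap.GeneralLinearGroup k M)}
    {b : Submodule k (Module.End k M)} (hb : b * b ≤ b) :
    aug H ≤ b ↔ H ≤ unitsOf b hb := by
  rw [aug_le_iff']
  constructor
  · intro h g hg
    exact ⟨h g hg, h _ (H.inv_mem hg)⟩
  · intro h g hg
    exact (h hg).1

/-- nilpotent subspace -/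
def IsNilp (b : Submodule k (Module.End k M)) : Prop := ∃ n : ℕ, b ^ n = ⊥

theorem IsNilp.mono {b c : Submodule k (Module.End k M)} (h : b ≤ c) (hc : IsNilp c) : IsNilp b := by
  obtain ⟨n, hn⟩ := hc
  exact ⟨n, le_bot_iff.1 (hn ▸ pow_le_pow_left' h n)⟩

theorem list_prod_mem_pow (b : Submodule k (Module.End k M)) :
    ∀ l : List (Module.End k M), (∀ x ∈ l, x ∈ b) → l.prod ∈ b ^ l.length := by
  intro l
  induction l with
  | nil =>
    intro _
    simp only [List.prod_nil, List.length_nil, pow_zero]
    exact Submodule.one_le.1 le_rfl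
  | cons x l ih =>
    intro h
    rw [List.prod_cons, List.length_cons, pow_succ']
    exact Submodule.mul_mem_mul (h x (by simp)) (ih (fun y hy => h y (by simp [hy])))

theorem isUnipotentOn_iff (H : Subgroup (LinearMap.GeneralLinearGroup k M)) :
    IsUnipotentOn H ↔ ∃ n : ℕ, ∀ l : List (LinearMap.GeneralLinearGroup k M), (∀ g ∈ l, g ∈ H) →
      l.length = n →
      (l.map fun g : LinearMap.GeneralLinearGroup k M => (g : M →ₗ[k] M) - 1).prod = 0 := by
  unfold IsUnipotentOn
  have key : ∀ l : List (LinearMap.GeneralLinearGroup k M),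
      (List.map (fun g : M →ₗ[k] M => g - 1) (l >>= fun a => pure (a : M →ₗ[k] M))) =
      (l.map fun g : LinearMap.GeneralLinearGroup k M => (g : M →ₗ[k] M) - 1) := by
    intro l
    have : (l >>= fun a => pure (a : M →ₗ[k] M)) =
        List.map (fun a : LinearMap.GeneralLinearGroup k M => (a : M →ₗ[k] M)) l := by
      simp only [List.bind_eq_flatMap, List.pure_def]
      induction l with
      | nil => rfl
      | cons x l ih => simp [List.flatMap_cons, ih]
    rw [this, List.map_map]
    rfl
  constructor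
  · rintro ⟨n, h⟩
    refine ⟨n, fun l hl hlen => ?_⟩
    have := h l hl hlen
    rw [key] at this
    exact this
  · rintro ⟨n, h⟩
    refine ⟨n, fun l hl hlen => ?_⟩
    have := h l hl hlen
    rw [key]
    exact this

theorem unipotent_of_nilp {H : Subgroup (LinearMap.GeneralLinearGroup k M)} (h : IsNilp (aug H)) :
    IsUnipotentOn H := by
  obtain ⟨n, hn⟩ := h
  rw [isUnipotentOn_iff]
  refine ⟨n, fun l hl hlen => ?_⟩
  have h1 := list_prod_mem_pow (aug H)
    (l.map fun g : LinearMap.GeneralLinearGroup k M => (g : M →ₗ[k] M) - 1) (by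
    intro x hx
    rw [List.mem_map] at hx
    obtain ⟨g, hg, rfl⟩ := hx
    exact sub_one_mem_aug (hl g hg))
  rw [List.length_map, hlen, hn] at h1
  exact (Submodule.mem_bot k).1 h1

theorem nilp_of_unipotent {H : Subgroup (LinearMap.GeneralLinearGroup k M)} (h : IsUnipotentOn H) :
    IsNilp (aug H) := by
  rw [isUnipotentOn_iff] at h
  obtain ⟨n, hn⟩ := h
  refine ⟨n, ?_⟩
  unfold aug
  rw [Submodule.span_pow, eq_bot_iff, Submodule.span_le]
  intro x hx
  rw [Set.mem_pow] at hx
  obtain ⟨f, rfl⟩ := hx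
  have hf : ∀ i : Fin n, ∃ g : LinearMap.GeneralLinearGroup k M, g ∈ H ∧
      ((f i : Module.End k M)) = (g : Module.End k M) - 1 := by
    intro i
    obtain ⟨g, hg, e⟩ := (f i).2
    exact ⟨g, hg, e.symm⟩
  choose g hg hge using hf
  have := hn (List.ofFn g) (by
    intro x hx
    rw [List.mem_ofFn] at hx
    obtain ⟨i, rfl⟩ := hx
    exact hg i) (List.length_ofFn)
  rw [List.map_ofFn] at this
  have e2 : (List.ofFn fun i => ((f i : Module.End k M))) =
      List.ofFn ((fun g : LinearMap.GeneralLinearGroup k M => (g : M →ₗ[k] M) - 1) ∘ g) := by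
    congr 1
    funext i
    exact hge i
  rw [e2, this]
  exact Submodule.zero_mem _

end Cfsg.Agent.Lead.UnipBS
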