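import Mathlib
import Cfsg.Agent.Lead.UnipBSA

set_option autoImplicit false
open Cfsg

namespace Cfsg.Agent.Lead.UnipBS

variable {k : Type*} [Field k] {M : Type*} [AddCommGroup M] [Module k M]

/-- subgroup generated by a family -/
def NN (Δ : Set (Subgroup (LinearMap.GeneralLinearGroup k M))) :
    Subgroup (LinearMap.GeneralLinearGroup k M) := ⨆ A ∈ Δ, A

theorem le_NN {Δ : Set (Subgroup (LinearMap.GeneralLinearGroup k M))}
    {A : Subgroup (LinearMap.GeneralLinearGroup k M)} (hA : A ∈ Δ) : A ≤ NN Δ :=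
  le_iSup₂ (f := fun A (_ : A ∈ Δ) => A) A hA

theorem NN_mono {Δ Δ' : Set (Subgroup (LinearMap.GeneralLinearGroup k M))} (h : Δ ⊆ Δ') :
    NN Δ ≤ NN Δ' := by
  unfold NN
  exact biSup_mono h

theorem NN_le_iff {Δ : Set (Subgroup (LinearMap.GeneralLinearGroup k M))}
    {K : Subgroup (LinearMap.GeneralLinearGroup k M)} : NN Δ ≤ K ↔ ∀ A ∈ Δ, A ≤ K := by
  unfold NN
  exact iSup₂_le_iff

theorem aug_NN_le_iff {Δ : Set (Subgroup (LinearMap.GeneralLinearGroup k M))}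
    {b : Submodule k (Module.End k M)} (hb : b * b ≤ b) :
    aug (NN Δ) ≤ b ↔ ∀ A ∈ Δ, aug A ≤ b := by
  rw [aug_le_iff hb, NN_le_iff]
  constructor
  · intro h A hA
    exact (aug_le_iff hb).2 (h A hA)
  · intro h A hA
    exact (aug_le_iff hb).1 (h A hA)

def UU (W Δ : Set (Subgroup (LinearMap.GeneralLinearGroup k M))) : Prop :=
  Δ ⊆ W ∧ IsNilp (aug (NN Δ))

def cl (W Δ : Set (Subgroup (LinearMap.GeneralLinearGroup k M))) :
    Set (Subgroup (LinearMap.GeneralLinearGroup k M)) :=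
  {A | A ∈ W ∧ aug A ≤ aug (NN Δ)}

theorem subset_cl {W Δ : Set (Subgroup (LinearMap.GeneralLinearGroup k M))} (h : Δ ⊆ W) :
    Δ ⊆ cl W Δ := fun _ hA => ⟨h hA, aug_mono (le_NN hA)⟩

theorem aug_cl {W Δ : Set (Subgroup (LinearMap.GeneralLinearGroup k M))} (h : Δ ⊆ W) :
    aug (NN (cl W Δ)) = aug (NN Δ) :=
  le_antisymm ((aug_NN_le_iff (aug_mul_le _)).2 fun _ hA => hA.2)
    (aug_mono (NN_mono (subset_cl h)))

theorem UU_cl {W Δ : Set (Subgroup (LinearMap.GeneralLinearGroup k M))} (h : UU W Δ) :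
    UU W (cl W Δ) :=
  ⟨fun _ hA => hA.1, by rw [aug_cl h.1]; exact h.2⟩

noncomputable def dd (Δ : Set (Subgroup (LinearMap.GeneralLinearGroup k M))) : ℕ :=
  Module.finrank k (aug (NN Δ))

def IsMax (W P : Set (Subgroup (LinearMap.GeneralLinearGroup k M))) : Prop :=
  UU W P ∧ ∀ Δ, UU W Δ → P ⊆ Δ → Δ ⊆ P

theorem max_closed {W P : Set (Subgroup (LinearMap.GeneralLinearGroup k M))} (hP : IsMax W P)
    {A : Subgroup (LinearMap.GeneralLinearGroup k M)} (hA : A ∈ W) (h : aug A ≤ aug (NN P)) :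
    A ∈ P :=
  hP.2 (cl W P) (UU_cl hP.1) (subset_cl hP.1.1) ⟨hA, h⟩

variable [FiniteDimensional k M]

theorem dd_le (Δ : Set (Subgroup (LinearMap.GeneralLinearGroup k M))) :
    dd Δ ≤ Module.finrank k (Module.End k M) := Submodule.finrank_le _

theorem dd_mono {Δ Δ' : Set (Subgroup (LinearMap.GeneralLinearGroup k M))} (h : Δ ⊆ Δ') :
    dd Δ ≤ dd Δ' := Submodule.finrank_mono (aug_mono (NN_mono h))

theorem exists_max {W Δ : Set (Subgroup (LinearMap.GeneralLinearGroup k M))} (h : UU W Δ) :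
    ∃ P, IsMax W P ∧ Δ ⊆ P := by
  classical
  let pred : ℕ → Prop := fun m => ∃ P, UU W P ∧ Δ ⊆ P ∧ dd P = m
  have h0 : pred (dd Δ) := ⟨Δ, h, subset_rfl, rfl⟩
  have hspec := Nat.findGreatest_spec (P := pred) (dd_le Δ) h0
  obtain ⟨P₁, hP₁, hΔP₁, hd⟩ := hspec
  have hmaxd : ∀ P', UU W P' → Δ ⊆ P' → dd P' ≤ dd P₁ := by
    intro P' hP' hΔP'
    rw [hd]
    exact Nat.le_findGreatest (dd_le P') ⟨P', hP', hΔP', rfl⟩
  refine ⟨cl W P₁, ⟨UU_cl hP₁, ?_⟩, hΔP₁.trans (subset_cl hP₁.1)⟩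
  intro Δ' hΔ' hsub
  have h1 : aug (NN P₁) ≤ aug (NN Δ') := by
    rw [← aug_cl hP₁.1]
    exact aug_mono (NN_mono hsub)
  have h2 : dd Δ' ≤ dd P₁ := hmaxd Δ' hΔ' ((hΔP₁.trans (subset_cl hP₁.1)).trans hsub)
  have h3 : aug (NN P₁) = aug (NN Δ') := Submodule.eq_of_le_of_finrank_le h1 h2
  intro A hA
  exact ⟨hΔ'.1 hA, by rw [h3]; exact aug_mono (le_NN hA)⟩

end Cfsg.Agent.Lead.UnipBS
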