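import Mathlib
import Cfsg.Agent.Lead.UnipBSB
import Cfsg.Agent.Lead.RootImage

set_option autoImplicit false
open Cfsg

namespace Cfsg.Agent.Lead.UnipBS

variable {k : Type*} [Field k] {M : Type*} [AddCommGroup M] [Module k M]

theorem pow_succ_le_self {b : Submodule k (Module.End k M)} (hb : b * b ≤ b) :
    ∀ i : ℕ, b ^ (i + 1) ≤ b := by
  intro i
  induction i with
  | zero => simp
  | succ i ih =>
    rw [pow_succ]
    exact (mul_le_mul' ih le_rfl).trans hb

theorem pow_succ_succ_le {b : Submodule k (Module.End k M)} (hb : b * b ≤ b) (i : ℕ) :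
    b ^ (i + 1) * b ≤ b ^ (i + 1) := by
  rw [pow_succ, mul_assoc]
  exact mul_le_mul' le_rfl hb

theorem conj_sub_one (a x : LinearMap.GeneralLinearGroup k M) :
    ((a * x * a⁻¹ : LinearMap.GeneralLinearGroup k M) : Module.End k M) - 1 =
      ((x : Module.End k M) - 1) + ((a : Module.End k M) - 1) * ((x : Module.End k M) - 1) +
        ((x : Module.End k M) - 1) * (((a⁻¹ : LinearMap.GeneralLinearGroup k M) : Module.End k M) - 1) +
        ((a : Module.End k M) - 1) * ((x : Module.End k M) - 1) *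
          (((a⁻¹ : LinearMap.GeneralLinearGroup k M) : Module.End k M) - 1) := by
  have hmul : (a : Module.End k M) * ((a⁻¹ : LinearMap.GeneralLinearGroup k M) : Module.End k M) = 1 :=
    Units.mul_inv a
  have h1 : ((a * x * a⁻¹ : LinearMap.GeneralLinearGroup k M) : Module.End k M) - 1 =
      (a : Module.End k M) * ((x : Module.End k M) - 1) *
        ((a⁻¹ : LinearMap.GeneralLinearGroup k M) : Module.End k M) := by
    rw [Units.val_mul, Units.val_mul, mul_sub, sub_mul, mul_one, hmul]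
  rw [h1]
  noncomm_ring

theorem aug_conjBy_le {A' : Subgroup (LinearMap.GeneralLinearGroup k M)}
    {a : LinearMap.GeneralLinearGroup k M} {c d : Submodule k (Module.End k M)}
    (ha : (a : Module.End k M) - 1 ∈ c)
    (ha' : ((a⁻¹ : LinearMap.GeneralLinearGroup k M) : Module.End k M) - 1 ∈ c)
    (hA' : aug A' ≤ d) : aug (conjBy A' a) ≤ d ⊔ c * d ⊔ d * c ⊔ c * d * c := by
  rw [aug_le_iff']
  intro y hy
  obtain ⟨x, hx, rfl⟩ := hy
  have hx' : (x : Module.End k M) - 1 ∈ d := hA' (sub_one_mem_aug hx)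
  have e : (MulAut.conj a).toMonoidHom x = a * x * a⁻¹ := by simp [MulAut.conj_apply]
  rw [e, conj_sub_one]
  have l1 : d ≤ d ⊔ c * d ⊔ d * c ⊔ c * d * c :=
    le_sup_left.trans (le_sup_left.trans le_sup_left)
  have l2 : c * d ≤ d ⊔ c * d ⊔ d * c ⊔ c * d * c :=
    le_sup_right.trans (le_sup_left.trans le_sup_left)
  have l3 : d * c ≤ d ⊔ c * d ⊔ d * c ⊔ c * d * c := le_sup_right.trans le_sup_left
  have l4 : c * d * c ≤ d ⊔ c * d ⊔ d * c ⊔ c * d * c := le_sup_right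
  refine Submodule.add_mem _ (Submodule.add_mem _ (Submodule.add_mem _ ?_ ?_) ?_) ?_
  · exact l1 hx'
  · exact l2 (Submodule.mul_mem_mul ha hx')
  · exact l3 (Submodule.mul_mem_mul hx' ha')
  · exact l4 (Submodule.mul_mem_mul (Submodule.mul_mem_mul ha hx') ha')

/-- the algebraic heart of "normalizers grow" -/
theorem filtration_step {p d : Submodule k (Module.End k M)} (hp : p * p ≤ p) (hd : d * d ≤ d)
    (hdp : d ≤ p) (i : ℕ) :
    d ⊔ (d ⊔ p ^ (i + 1)) * d ⊔ d * (d ⊔ p ^ (i + 1)) ⊔ (d ⊔ p ^ (i + 1)) * d * (d ⊔ p ^ (i + 1)) ≤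
      d ⊔ p ^ (i + 2) := by
  have hc_le : d ⊔ p ^ (i + 1) ≤ p := sup_le hdp (pow_succ_le_self hp i)
  have h1 : (d ⊔ p ^ (i + 1)) * d ≤ d ⊔ p ^ (i + 2) := by
    rw [Submodule.sup_mul]
    refine sup_le (hd.trans le_sup_left) ?_
    refine le_trans ?_ le_sup_right
    rw [pow_succ p (i + 1)]
    exact mul_le_mul' le_rfl hdp
  have h2 : d * (d ⊔ p ^ (i + 1)) ≤ d ⊔ p ^ (i + 2) := by
    rw [Submodule.mul_sup]
    refine sup_le (hd.trans le_sup_left) ?_
    refine le_trans ?_ le_sup_right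
    rw [pow_succ' p (i + 1)]
    exact mul_le_mul' hdp le_rfl
  have h3 : (d ⊔ p ^ (i + 1)) * d * (d ⊔ p ^ (i + 1)) ≤ d ⊔ p ^ (i + 2) := by
    refine (mul_le_mul' h1 le_rfl).trans ?_
    rw [Submodule.sup_mul]
    refine sup_le h2 ?_
    refine le_trans ?_ le_sup_right
    exact (mul_le_mul' le_rfl hc_le).trans (pow_succ_succ_le hp (i + 1))
  exact sup_le (sup_le (sup_le le_sup_left h1) h2) h3

theorem conjBy_le {A' K : Subgroup (LinearMap.GeneralLinearGroup k M)}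
    {a : LinearMap.GeneralLinearGroup k M} (hA' : A' ≤ K) (ha : a ∈ K) : conjBy A' a ≤ K := by
  rintro y ⟨x, hx, rfl⟩
  have e : (MulAut.conj a).toMonoidHom x = a * x * a⁻¹ := by simp [MulAut.conj_apply]
  rw [e]
  exact K.mul_mem (K.mul_mem ha (hA' hx)) (K.inv_mem ha)

theorem exists_normalizing {G : Subgroup (LinearMap.GeneralLinearGroup k M)}
    {W P D : Set (Subgroup (LinearMap.GeneralLinearGroup k M))}
    (hWG : ∀ A ∈ W, A ≤ G) (hWconj : ∀ A ∈ W, ∀ g ∈ G, conjBy A g ∈ W)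
    (hP : IsMax W P) (hDP : D ⊆ P) (hne : D ≠ P)
    (hDcl : ∀ A ∈ P, aug A ≤ aug (NN D) → A ∈ D) :
    ∃ A ∈ P, A ∉ D ∧ ∀ a ∈ A, ∀ A' ∈ D, conjBy A' a ∈ D := by
  classical
  have hpp : aug (NN P) * aug (NN P) ≤ aug (NN P) := aug_mul_le _
  have hdd : aug (NN D) * aug (NN D) ≤ aug (NN D) := aug_mul_le _
  have hdp : aug (NN D) ≤ aug (NN P) := aug_mono (NN_mono hDP)
  obtain ⟨n, hn⟩ := hP.1.2
  have hn1 : aug (NN P) ^ (n + 1) = ⊥ := by rw [pow_succ, hn, Submodule.bot_mul]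
  let pred : ℕ → Prop := fun i => ∃ A ∈ P, A ∉ D ∧ aug A ≤ aug (NN D) ⊔ aug (NN P) ^ i
  have hex : ∃ A ∈ P, A ∉ D := by
    by_contra hcon
    push Not at hcon
    exact hne (Set.Subset.antisymm hDP hcon)
  obtain ⟨A₀, hA₀P, hA₀D⟩ := hex
  have h1 : pred 1 :=
    ⟨A₀, hA₀P, hA₀D, by rw [pow_one]; exact (aug_mono (le_NN hA₀P)).trans le_sup_right⟩
  have hspec : pred (Nat.findGreatest pred (n + 1)) :=
    Nat.findGreatest_spec (Nat.succ_le_succ (Nat.zero_le n)) h1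
  have hge : 1 ≤ Nat.findGreatest pred (n + 1) := Nat.le_findGreatest (by omega) h1
  have hlt : Nat.findGreatest pred (n + 1) < n + 1 := by
    refine lt_of_le_of_ne (Nat.findGreatest_le (n + 1)) ?_
    intro heq
    rw [heq] at hspec
    obtain ⟨A, hAP, hAD, hA⟩ := hspec
    rw [hn1, sup_bot_eq] at hA
    exact hAD (hDcl A hAP hA)
  obtain ⟨i, hi⟩ : ∃ i, Nat.findGreatest pred (n + 1) = i + 1 :=
    ⟨Nat.findGreatest pred (n + 1) - 1, by omega⟩
  have hnot : ¬ pred (i + 2) :=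
    Nat.findGreatest_is_greatest (P := pred) (n := n + 1) (k := i + 2) (by omega) (by omega)
  rw [hi] at hspec
  obtain ⟨A, hAP, hAD, hA⟩ := hspec
  refine ⟨A, hAP, hAD, ?_⟩
  intro a ha A' hA'
  have hAW : A ∈ W := hP.1.1 hAP
  have hA'W : A' ∈ W := hP.1.1 (hDP hA')
  have haG : a ∈ G := hWG A hAW ha
  have hconjW : conjBy A' a ∈ W := hWconj A' hA'W a haG
  have hle : aug (conjBy A' a) ≤ aug (NN D) ⊔ aug (NN P) ^ (i + 2) := by
    refine (aug_conjBy_le (c := aug (NN D) ⊔ aug (NN P) ^ (i + 1)) (d := aug (NN D))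
      ?_ ?_ ?_).trans (filtration_step hpp hdd hdp i)
    · exact hA (sub_one_mem_aug ha)
    · exact hA (sub_one_mem_aug (A.inv_mem ha))
    · exact aug_mono (le_NN hA')
  have hconjP : conjBy A' a ∈ P := by
    apply max_closed hP hconjW
    exact hle.trans (sup_le hdp (pow_succ_le_self hpp (i + 1)))
  by_contra hcon
  exact hnot ⟨_, hconjP, hcon, hle⟩

end Cfsg.Agent.Lead.UnipBS
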