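import Mathlib
import Cfsg.Agent.Lead.UnipBSC

set_option autoImplicit false
open Cfsg

namespace Cfsg.Agent.Lead.UnipBS

variable {k : Type*} [Field k] {M : Type*} [AddCommGroup M] [Module k M]

section alg

variable {d t : Submodule k (Module.End k M)}

theorem tt'_le (ht : t * t ≤ t) : (1 ⊔ t) * (1 ⊔ t) ≤ 1 ⊔ t := by
  rw [Submodule.sup_mul, Submodule.mul_sup, Submodule.mul_sup, one_mul, one_mul, mul_one]
  exact sup_le (sup_le le_sup_left le_sup_right) (sup_le le_sup_right (ht.trans le_sup_right))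

theorem t'd_le (htd : t * d ≤ d ⊔ d * t) : (1 ⊔ t) * d ≤ d * (1 ⊔ t) := by
  rw [Submodule.sup_mul, Submodule.mul_sup, one_mul, mul_one]
  exact sup_le le_sup_left htd

theorem t't_le (ht : t * t ≤ t) : (1 ⊔ t) * t ≤ 1 ⊔ t := by
  rw [Submodule.sup_mul, one_mul]
  exact sup_le le_sup_right (ht.trans le_sup_right)

theorem jj_le (hd : d * d ≤ d) (ht : t * t ≤ t) (htd : t * d ≤ d ⊔ d * t) :
    (d * (1 ⊔ t)) * (d * (1 ⊔ t)) ≤ d * (1 ⊔ t) := by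
  calc (d * (1 ⊔ t)) * (d * (1 ⊔ t)) = d * ((1 ⊔ t) * d) * (1 ⊔ t) := by simp only [mul_assoc]
    _ ≤ d * (d * (1 ⊔ t)) * (1 ⊔ t) := mul_le_mul' (mul_le_mul' le_rfl (t'd_le htd)) le_rfl
    _ = (d * d) * ((1 ⊔ t) * (1 ⊔ t)) := by simp only [mul_assoc]
    _ ≤ d * (1 ⊔ t) := mul_le_mul' hd (tt'_le ht)

theorem jpow_le (hd : d * d ≤ d) (ht : t * t ≤ t) (htd : t * d ≤ d ⊔ d * t) :
    ∀ r : ℕ, (d * (1 ⊔ t)) ^ (r + 1) ≤ d ^ (r + 1) * (1 ⊔ t) := by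
  intro r
  induction r with
  | zero => simp
  | succ r ih =>
    calc (d * (1 ⊔ t)) ^ (r + 1 + 1) = (d * (1 ⊔ t)) ^ (r + 1) * (d * (1 ⊔ t)) := pow_succ _ _
      _ ≤ (d ^ (r + 1) * (1 ⊔ t)) * (d * (1 ⊔ t)) := mul_le_mul' ih le_rfl
      _ = d ^ (r + 1) * ((1 ⊔ t) * d) * (1 ⊔ t) := by simp only [mul_assoc]
      _ ≤ d ^ (r + 1) * (d * (1 ⊔ t)) * (1 ⊔ t) :=
        mul_le_mul' (mul_le_mul' le_rfl (t'd_le htd)) le_rfl
      _ = (d ^ (r + 1) * d) * ((1 ⊔ t) * (1 ⊔ t)) := by simp only [mul_assoc]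
      _ ≤ d ^ (r + 1 + 1) * (1 ⊔ t) := by
        rw [← pow_succ]
        exact mul_le_mul' le_rfl (tt'_le ht)

theorem tj_le (ht : t * t ≤ t) (htd : t * d ≤ d ⊔ d * t) :
    t * (d * (1 ⊔ t)) ≤ d * (1 ⊔ t) := by
  calc t * (d * (1 ⊔ t)) ≤ (1 ⊔ t) * (d * (1 ⊔ t)) := mul_le_mul' le_sup_right le_rfl
    _ = ((1 ⊔ t) * d) * (1 ⊔ t) := by simp only [mul_assoc]
    _ ≤ (d * (1 ⊔ t)) * (1 ⊔ t) := mul_le_mul' (t'd_le htd) le_rfl
    _ = d * ((1 ⊔ t) * (1 ⊔ t)) := by simp only [mul_assoc]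
    _ ≤ d * (1 ⊔ t) := mul_le_mul' le_rfl (tt'_le ht)

theorem jt_le (ht : t * t ≤ t) : (d * (1 ⊔ t)) * t ≤ d * (1 ⊔ t) := by
  rw [mul_assoc]
  exact mul_le_mul' le_rfl (t't_le ht)

theorem tpowj_le (ht : t * t ≤ t) (htd : t * d ≤ d ⊔ d * t) :
    ∀ r : ℕ, t ^ r * (d * (1 ⊔ t)) ≤ d * (1 ⊔ t) := by
  intro r
  induction r with
  | zero => simp
  | succ r ih =>
    rw [pow_succ, mul_assoc]
    exact (mul_le_mul' le_rfl (tj_le ht htd)).trans ih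

theorem sup_mul_sup_le {j t s u : Submodule k (Module.End k M)} (h1 : j * j ≤ j) (h2 : j * t ≤ j)
    (h3 : s * j ≤ j) (h4 : s * t ≤ u) : (j ⊔ s) * (j ⊔ t) ≤ j ⊔ u := by
  rw [Submodule.sup_mul, Submodule.mul_sup, Submodule.mul_sup]
  have a1 : j * j ≤ j ⊔ u := h1.trans le_sup_left
  have a2 : j * t ≤ j ⊔ u := h2.trans le_sup_left
  have a3 : s * j ≤ j ⊔ u := h3.trans le_sup_left
  have a4 : s * t ≤ j ⊔ u := h4.trans le_sup_right
  exact sup_le (sup_le a1 a2) (sup_le a3 a4)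

theorem ff_le (hd : d * d ≤ d) (ht : t * t ≤ t) (htd : t * d ≤ d ⊔ d * t) :
    (d * (1 ⊔ t) ⊔ t) * (d * (1 ⊔ t) ⊔ t) ≤ d * (1 ⊔ t) ⊔ t :=
  sup_mul_sup_le (jj_le hd ht htd) (jt_le ht) (tj_le ht htd) ht

theorem fpow_le (hd : d * d ≤ d) (ht : t * t ≤ t) (htd : t * d ≤ d ⊔ d * t) :
    ∀ r : ℕ, (d * (1 ⊔ t) ⊔ t) ^ (r + 1) ≤ d * (1 ⊔ t) ⊔ t ^ (r + 1) := by
  intro r
  induction r with
  | zero => simp
  | succ r ih =>
    have h4 : t ^ (r + 1) * t ≤ t ^ (r + 1 + 1) := by rw [← pow_succ]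
    calc (d * (1 ⊔ t) ⊔ t) ^ (r + 1 + 1) = (d * (1 ⊔ t) ⊔ t) ^ (r + 1) * (d * (1 ⊔ t) ⊔ t) :=
        pow_succ _ _
      _ ≤ (d * (1 ⊔ t) ⊔ t ^ (r + 1)) * (d * (1 ⊔ t) ⊔ t) := mul_le_mul' ih le_rfl
      _ ≤ d * (1 ⊔ t) ⊔ t ^ (r + 1 + 1) :=
        sup_mul_sup_le (jj_le hd ht htd) (jt_le ht) (tpowj_le ht htd (r + 1)) h4

theorem f_nilp (hd : d * d ≤ d) (ht : t * t ≤ t) (htd : t * d ≤ d ⊔ d * t)
    (hdn : IsNilp d) (htn : IsNilp t) : IsNilp (d * (1 ⊔ t) ⊔ t) := by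
  obtain ⟨n, hn⟩ := hdn
  obtain ⟨m, hm⟩ := htn
  have hn1 : d ^ (n + 1) = ⊥ := by rw [pow_succ, hn, Submodule.bot_mul]
  have hm1 : t ^ (m + 1) = ⊥ := by rw [pow_succ, hm, Submodule.bot_mul]
  refine ⟨(m + 1) * (n + 1), ?_⟩
  rw [pow_mul, eq_bot_iff]
  have h1 : (d * (1 ⊔ t) ⊔ t) ^ (m + 1) ≤ d * (1 ⊔ t) := by
    have := fpow_le hd ht htd m
    rw [hm1, sup_bot_eq] at this
    exact this
  calc ((d * (1 ⊔ t) ⊔ t) ^ (m + 1)) ^ (n + 1) ≤ (d * (1 ⊔ t)) ^ (n + 1) :=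
        pow_le_pow_left' h1 (n + 1)
    _ ≤ d ^ (n + 1) * (1 ⊔ t) := jpow_le hd ht htd n
    _ = ⊥ := by rw [hn1, Submodule.bot_mul]

end alg

theorem swap_identity (τ g g' : LinearMap.GeneralLinearGroup k M) (h : τ * g = g' * τ) :
    ((τ : Module.End k M) - 1) * ((g : Module.End k M) - 1) =
      ((g' : Module.End k M) - 1) * ((τ : Module.End k M) - 1) + ((g' : Module.End k M) - 1) -
        ((g : Module.End k M) - 1) := by
  have h' : (τ : Module.End k M) * (g : Module.End k M) = (g' : Module.End k M) * (τ : Module.End k M) := by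
    rw [← Units.val_mul, ← Units.val_mul, h]
  have e1 : ((τ : Module.End k M) - 1) * ((g : Module.End k M) - 1) =
      (τ : Module.End k M) * (g : Module.End k M) - (τ : Module.End k M) - (g : Module.End k M) + 1 := by
    noncomm_ring
  have e2 : ((g' : Module.End k M) - 1) * ((τ : Module.End k M) - 1) + ((g' : Module.End k M) - 1) -
        ((g : Module.End k M) - 1) =
      (g' : Module.End k M) * (τ : Module.End k M) - (τ : Module.End k M) - (g : Module.End k M) + 1 := by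
    noncomm_ring
  rw [e1, e2, h']

theorem aug_mul_le_of_normalizes {T N : Subgroup (LinearMap.GeneralLinearGroup k M)}
    (hnorm : ∀ τ ∈ T, ∀ g ∈ N, τ * g * τ⁻¹ ∈ N) :
    aug T * aug N ≤ aug N ⊔ aug N * aug T := by
  unfold aug
  rw [Submodule.span_mul_span, Submodule.span_le]
  rintro _ ⟨_, ⟨τ, hτ, rfl⟩, _, ⟨g, hg, rfl⟩, rfl⟩
  have hg' := hnorm τ hτ g hg
  have e := swap_identity τ g (τ * g * τ⁻¹) (by group)
  change ((τ : Module.End k M) - 1) * ((g : Module.End k M) - 1) ∈ aug N ⊔ aug N * aug T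
  rw [e]
  refine Submodule.sub_mem _ (Submodule.add_mem _ ?_ ?_) ?_
  · exact le_sup_right (a := aug N) (Submodule.mul_mem_mul (sub_one_mem_aug hg') (sub_one_mem_aug hτ))
  · exact le_sup_left (b := aug N * aug T) (sub_one_mem_aug hg')
  · exact le_sup_left (b := aug N * aug T) (sub_one_mem_aug hg)

theorem nilp_sup_of_normalizes {T N : Subgroup (LinearMap.GeneralLinearGroup k M)}
    (hN : IsNilp (aug N)) (hT : IsNilp (aug T))
    (hnorm : ∀ τ ∈ T, ∀ g ∈ N, τ * g * τ⁻¹ ∈ N) : IsNilp (aug (N ⊔ T)) := by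
  have hd := aug_mul_le N
  have ht := aug_mul_le T
  have htd := aug_mul_le_of_normalizes hnorm
  have hff := ff_le hd ht htd
  refine IsNilp.mono ?_ (f_nilp hd ht htd hN hT)
  rw [aug_le_iff hff]
  refine sup_le ((aug_le_iff hff).1 ?_) ((aug_le_iff hff).1 le_sup_right)
  refine le_trans ?_ le_sup_left
  rw [Submodule.mul_sup, mul_one]
  exact le_sup_left

end Cfsg.Agent.Lead.UnipBS
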