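import Mathlib
import Cfsg.Agent.Lead.UnipBSD

set_option autoImplicit false
open Cfsg

namespace Cfsg.Agent.Lead.UnipBS

variable {k : Type*} [Field k] {M : Type*} [AddCommGroup M] [Module k M]

theorem conj_mem_NN {D : Set (Subgroup (LinearMap.GeneralLinearGroup k M))}
    {a : LinearMap.GeneralLinearGroup k M} (h : ∀ A' ∈ D, conjBy A' a ∈ D) :
    ∀ g ∈ NN D, a * g * a⁻¹ ∈ NN D := by
  have h1 : NN D ≤ (NN D).comap (MulAut.conj a).toMonoidHom := by
    rw [NN_le_iff]
    intro A' hA'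
    rw [← Subgroup.map_le_iff_le_comap]
    exact le_NN (h A' hA')
  intro g hg
  have := h1 hg
  rw [Subgroup.mem_comap] at this
  simpa [MulAut.conj_apply] using this

theorem normalizes_of_conj {D : Set (Subgroup (LinearMap.GeneralLinearGroup k M))}
    {A : Subgroup (LinearMap.GeneralLinearGroup k M)}
    (h : ∀ a ∈ A, ∀ A' ∈ D, conjBy A' a ∈ D) :
    A ≤ Subgroup.normalizer ((NN D : Subgroup (LinearMap.GeneralLinearGroup k M)) : Set _) := by
  intro a ha
  rw [Subgroup.mem_normalizer_iff]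
  intro g
  constructor
  · exact conj_mem_NN (h a ha) g
  · intro hg
    have := conj_mem_NN (h a⁻¹ (A.inv_mem ha)) _ hg
    simpa [mul_assoc] using this

variable [FiniteDimensional k M]

theorem max_unique {G : Subgroup (LinearMap.GeneralLinearGroup k M)}
    {W : Set (Subgroup (LinearMap.GeneralLinearGroup k M))}
    (hWG : ∀ A ∈ W, A ≤ G) (hWW : ∀ A ∈ W, ∀ B ∈ W, IsUnipotentOn (A ⊔ B))
    (hWconj : ∀ A ∈ W, ∀ g ∈ G, conjBy A g ∈ W) :
    ∀ P Q, IsMax W P → IsMax W Q → P = Q := by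
  classical
  by_contra hcon
  push Not at hcon
  let pred : ℕ → Prop := fun m => ∃ P Q, IsMax W P ∧ IsMax W Q ∧ P ≠ Q ∧ dd (P ∩ Q) = m
  obtain ⟨P₀, Q₀, hP₀, hQ₀, hne₀⟩ := hcon
  have h0 : pred (dd (P₀ ∩ Q₀)) := ⟨P₀, Q₀, hP₀, hQ₀, hne₀, rfl⟩
  obtain ⟨P, Q, hP, hQ, hne, hd⟩ := Nat.findGreatest_spec (P := pred) (dd_le _) h0
  have hmaxd : ∀ P' Q', IsMax W P' → IsMax W Q' → P' ≠ Q' → dd (P' ∩ Q') ≤ dd (P ∩ Q) := by
    intro P' Q' hP' hQ' hne'
    rw [hd]
    exact Nat.le_findGreatest (dd_le _) ⟨P', Q', hP', hQ', hne', rfl⟩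
  have hDclP : ∀ A ∈ P, aug A ≤ aug (NN (P ∩ Q)) → A ∈ P ∩ Q := by
    intro A hA h
    exact ⟨hA, max_closed hQ (hP.1.1 hA) (h.trans (aug_mono (NN_mono Set.inter_subset_right)))⟩
  have hDclQ : ∀ A ∈ Q, aug A ≤ aug (NN (P ∩ Q)) → A ∈ P ∩ Q := by
    intro A hA h
    exact ⟨max_closed hP (hQ.1.1 hA) (h.trans (aug_mono (NN_mono Set.inter_subset_left))), hA⟩
  have hDneP : P ∩ Q ≠ P := by
    intro h
    have hPQ : P ⊆ Q := Set.inter_eq_left.1 h
    exact hne (Set.Subset.antisymm hPQ (hP.2 Q hQ.1 hPQ))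
  have hDneQ : P ∩ Q ≠ Q := by
    intro h
    have hQP : Q ⊆ P := Set.inter_eq_right.1 h
    exact hne (Set.Subset.antisymm (hQ.2 P hP.1 hQP) hQP)
  obtain ⟨A, hAP, hAD, hAn⟩ :=
    exists_normalizing hWG hWconj hP Set.inter_subset_left hDneP hDclP
  obtain ⟨B, hBQ, hBD, hBn⟩ :=
    exists_normalizing hWG hWconj hQ Set.inter_subset_right hDneQ hDclQ
  have hT : IsNilp (aug (A ⊔ B)) := nilp_of_unipotent (hWW A (hP.1.1 hAP) B (hQ.1.1 hBQ))
  have hTle : A ⊔ B ≤
      Subgroup.normalizer ((NN (P ∩ Q) : Subgroup (LinearMap.GeneralLinearGroup k M)) : Set _) :=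
    sup_le (normalizes_of_conj hAn) (normalizes_of_conj hBn)
  have hnorm : ∀ τ ∈ A ⊔ B, ∀ g ∈ NN (P ∩ Q), τ * g * τ⁻¹ ∈ NN (P ∩ Q) := by
    intro τ hτ g hg
    exact (Subgroup.mem_normalizer_iff.1 (hTle hτ) g).1 hg
  have hDn : IsNilp (aug (NN (P ∩ Q))) :=
    IsNilp.mono (aug_mono (NN_mono Set.inter_subset_left)) hP.1.2
  have hnilp : IsNilp (aug (NN (P ∩ Q) ⊔ (A ⊔ B))) := nilp_sup_of_normalizes hDn hT hnorm
  have hU : UU W ((P ∩ Q) ∪ {A, B}) := by
    constructor
    · intro X hX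
      rcases hX with hX | hX
      · exact hP.1.1 hX.1
      · rcases hX with rfl | rfl
        · exact hP.1.1 hAP
        · exact hQ.1.1 hBQ
    · refine IsNilp.mono (aug_mono ?_) hnilp
      rw [NN_le_iff]
      intro X hX
      rcases hX with hX | hX
      · exact (le_NN hX).trans le_sup_left
      · rcases hX with rfl | rfl
        · exact le_sup_left.trans le_sup_right
        · exact le_sup_right.trans le_sup_right
  obtain ⟨R, hR, hsub⟩ := exists_max hU
  have hAR : A ∈ R := hsub (Or.inr (by simp))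
  have hBR : B ∈ R := hsub (Or.inr (by simp))
  have hRP : R = P := by
    by_contra hRP
    have h1 := hmaxd R P hR hP hRP
    have h2 : aug (NN (P ∩ Q)) < aug (NN (R ∩ P)) := by
      refine lt_of_le_of_ne (aug_mono (NN_mono ?_)) ?_
      · intro X hX
        exact ⟨hsub (Or.inl hX), hX.1⟩
      · intro heq
        apply hAD
        apply hDclP A hAP
        rw [heq]
        exact aug_mono (le_NN ⟨hAR, hAP⟩)
    have h3 := Submodule.finrank_lt_finrank_of_lt h2
    unfold dd at h1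
    omega
  have hRQ : R = Q := by
    by_contra hRQ
    have h1 := hmaxd R Q hR hQ hRQ
    have h2 : aug (NN (P ∩ Q)) < aug (NN (R ∩ Q)) := by
      refine lt_of_le_of_ne (aug_mono (NN_mono ?_)) ?_
      · intro X hX
        exact ⟨hsub (Or.inl hX), hX.2⟩
      · intro heq
        apply hBD
        apply hDclQ B hBQ
        rw [heq]
        exact aug_mono (le_NN ⟨hBR, hBQ⟩)
    have h3 := Submodule.finrank_lt_finrank_of_lt h2
    unfold dd at h1
    omega
  exact hne (hRP.symm.trans hRQ)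

theorem aug_bot : aug (⊥ : Subgroup (LinearMap.GeneralLinearGroup k M)) = ⊥ := by
  rw [eq_bot_iff, aug_le_iff']
  intro g hg
  rw [Subgroup.mem_bot] at hg
  subst hg
  simp

theorem main {G : Subgroup (LinearMap.GeneralLinearGroup k M)}
    {W : Set (Subgroup (LinearMap.GeneralLinearGroup k M))}
    (hWG : ∀ A ∈ W, A ≤ G) (hWW : ∀ A ∈ W, ∀ B ∈ W, IsUnipotentOn (A ⊔ B))
    (hWconj : ∀ A ∈ W, ∀ g ∈ G, conjBy A g ∈ W) :
    IsUnipotentOn (⨆ A ∈ W, A) ∧ ∀ g ∈ G, conjBy (⨆ A ∈ W, A) g = ⨆ A ∈ W, A := by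
  constructor
  · by_cases hW : W = ∅
    · subst hW
      apply unipotent_of_nilp
      refine ⟨1, ?_⟩
      have : (⨆ A ∈ (∅ : Set (Subgroup (LinearMap.GeneralLinearGroup k M))), A) = ⊥ := by simp
      rw [this, aug_bot, pow_one]
    · obtain ⟨A₀, hA₀⟩ := Set.nonempty_iff_ne_empty.2 hW
      have hsingle : ∀ A ∈ W, UU W {A} := by
        intro A hA
        refine ⟨by simpa using hA, ?_⟩
        have e : NN ({A} : Set (Subgroup (LinearMap.GeneralLinearGroup k M))) = A := by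
          unfold NN
          exact iSup_singleton
        rw [e]
        have := hWW A hA A hA
        rw [sup_idem] at this
        exact nilp_of_unipotent this
      obtain ⟨P, hP, hA₀P⟩ := exists_max (hsingle A₀ hA₀)
      have hall : W ⊆ P := by
        intro A hA
        obtain ⟨Q, hQ, hAQ⟩ := exists_max (hsingle A hA)
        rw [max_unique hWG hWW hWconj P Q hP hQ]
        exact hAQ (by simp)
      have hPW : P = W := Set.Subset.antisymm hP.1.1 hall
      apply unipotent_of_nilp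
      have := hP.1.2
      rw [hPW] at this
      exact this
  · intro g hg
    apply le_antisymm
    · unfold conjBy
      rw [Subgroup.map_le_iff_le_comap]
      refine iSup₂_le fun A hA => ?_
      rw [← Subgroup.map_le_iff_le_comap]
      exact le_iSup₂ (f := fun A (_ : A ∈ W) => A) _ (hWconj A hA g hg)
    · refine iSup₂_le fun A hA => ?_
      have h1 : conjBy A g⁻¹ ≤ ⨆ A ∈ W, A :=
        le_iSup₂ (f := fun A (_ : A ∈ W) => A) _ (hWconj A hA g⁻¹ (G.inv_mem hg))
      have h2 : conjBy (conjBy A g⁻¹) g ≤ conjBy (⨆ A ∈ W, A) g := Subgroup.map_mono h1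
      rw [Cfsg.Agent.Lead.RootImage.conjBy_conjBy, mul_inv_cancel,
        Cfsg.Agent.Lead.RootImage.conjBy_one] at h2
      exact h2

end Cfsg.Agent.Lead.UnipBS
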