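import Cfsg.Agent.Lead.WardGen
import Cfsg.Agent.Lead.WielandtC

/-!
S3796 (Ward): some element of `𝔸` centralizes `T` (by Wielandt's order formula), and the elements
of `𝔸` outside the cyclic group it spans act without fixed points on `T`.
-/

set_option autoImplicit false
set_option linter.style.haveILetI false
set_option linter.unusedSectionVars false

namespace Cfsg.Agent.Lead.Ward

open scoped BigOperators
open Classical
open Cfsg.Agent.Lead.S3F Cfsg.Agent.Lead.Fpq Cfsg.Agent.Lead.WielandtB Cfsg.Agent.Lead.WielandtC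

universe u

variable {Γ : Type u} [Group Γ] [Finite Γ] {p : ℕ} {𝔸 Q T : Subgroup Γ} {a₀ u₀ : Γ} {s t : ℕ}

/-- the order formula without the common fixed points. -/
theorem formula_of_fpf (g : ElemGen p 𝔸 a₀ u₀) (K : Subgroup Γ)
    (hAK : 𝔸 ≤ Subgroup.normalizer (K : Set Γ)) (hcop : p.Coprime (Nat.card K))
    (hCK : ∀ x ∈ K, (∀ y ∈ 𝔸, y * x * y⁻¹ = x) → x = 1) :
    Nat.card K = Nat.card (cf K {a₀}) * ∏ i ∈ Finset.range p, Nat.card (cf K {a₀ ^ i * u₀}) := by
  have h := wielandt_formula g.hp a₀ u₀ K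
    ⟨g.comm, g.ap, g.up, hAK g.a_mem, hAK g.u_mem, hcop⟩
  unfold Formula at h
  have hbot : cf K {a₀, u₀} = ⊥ := by
    rw [eq_bot_iff]
    intro x hx
    rw [mem_cf] at hx
    rw [Subgroup.mem_bot]
    apply hCK x hx.1
    have hle : 𝔸 ≤ Subgroup.centralizer ({x} : Set Γ) := by
      apply g.le_of_mem
      · rw [Subgroup.mem_centralizer_singleton_iff]
        exact hx.2 a₀ (by simp)
      · rw [Subgroup.mem_centralizer_singleton_iff]
        exact hx.2 u₀ (by simp)
    intro y hy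
    have := Subgroup.mem_centralizer_singleton_iff.1 (hle hy)
    rw [this]; group
  rw [hbot, Subgroup.card_bot, one_pow, mul_one] at h
  exact h

/-- the centralizer in `K` of an element of `𝔸` is `𝔸`-invariant. -/
theorem A_le_normalizer_cf (g : ElemGen p 𝔸 a₀ u₀) (K : Subgroup Γ)
    (hAK : 𝔸 ≤ Subgroup.normalizer (K : Set Γ)) {y : Γ} (hy : y ∈ 𝔸) :
    𝔸 ≤ Subgroup.normalizer ((cf K {y} : Subgroup Γ) : Set Γ) := by
  intro b hb
  apply mem_normalizer_of_conj_mem
  intro x hx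
  rw [mem_cf] at hx ⊢
  refine ⟨conj_mem_of_mem_normalizer' (hAK hb) hx.1, ?_⟩
  intro z hz
  rw [Set.mem_singleton_iff] at hz
  subst hz
  have h1 : z * x = x * z := hx.2 z (by simp)
  have h2 : z * b = b * z := g.comm_mem z hy b hb
  have h3 : z * b⁻¹ = b⁻¹ * z := g.comm_mem z hy b⁻¹ (𝔸.inv_mem hb)
  calc z * (b * x * b⁻¹) = (z * b) * x * b⁻¹ := by group
    _ = b * (z * x) * b⁻¹ := by rw [h2]; group
    _ = b * x * (z * b⁻¹) := by rw [h1]; group
    _ = b * x * b⁻¹ * z := by rw [h3]; group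

/-- **Claim 1.** -/
theorem claim1 (g : ElemGen p 𝔸 a₀ u₀) (pr : Pair 𝔸 Q T s t) (hcopT : p.Coprime (Nat.card T))
    (hCT : ∀ x ∈ T, (∀ y ∈ 𝔸, y * x * y⁻¹ = x) → x = 1) :
    ∃ a u : Γ, ElemGen p 𝔸 a u ∧ (∀ x ∈ T, a * x = x * a) ∧
      ∀ y ∈ 𝔸, y ∉ Subgroup.zpowers a → ∀ x ∈ T, y * x * y⁻¹ = x → x = 1 := by
  -- some element of the list centralizes `T`
  have hex : (cf T {a₀} = T) ∨ ∃ i ∈ Finset.range p, cf T {a₀ ^ i * u₀} = T := by
    by_contra hcon
    push Not at hcon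
    obtain ⟨h0, hi⟩ := hcon
    obtain ⟨T₁, hT₁⟩ : ∃ T₁ : Subgroup Γ, T₁ = centIn T Q := ⟨_, rfl⟩
    have hT₁T : T₁ ≤ T := by rw [hT₁]; exact fun _ hx => hx.1
    have hAT₁ : 𝔸 ≤ Subgroup.normalizer (T₁ : Set Γ) := by
      rw [hT₁]; exact pr.A_le_normalizer_centIn
    have heq : ∀ y ∈ 𝔸, cf T {y} ≠ T → cf T {y} = cf T₁ {y} := by
      intro y hy hne
      have hle : cf T {y} ≤ T₁ := by
        rw [hT₁]
        exact pr.le_centIn (cf_le T _) hne (A_le_normalizer_cf g T pr.AT hy)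
      apply le_antisymm
      · intro x hx
        rw [mem_cf] at hx ⊢
        exact ⟨hle (mem_cf.2 hx), hx.2⟩
      · exact cf_mono hT₁T _
    have hmem : ∀ i : ℕ, a₀ ^ i * u₀ ∈ 𝔸 := fun i => 𝔸.mul_mem (𝔸.pow_mem g.a_mem i) g.u_mem
    have f1 := formula_of_fpf g T pr.AT hcopT hCT
    have f2 := formula_of_fpf g T₁ hAT₁
      (hcopT.coprime_dvd_right (Subgroup.card_dvd_of_le hT₁T))
      (fun x hx => hCT x (hT₁T hx))
    have hcard : Nat.card T = Nat.card T₁ := by
      rw [f1, f2, heq a₀ g.a_mem h0]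
      congr 1
      apply Finset.prod_congr rfl
      intro i hi'
      rw [heq _ (hmem i) (hi i hi')]
    apply pr.centIn_ne
    rw [← hT₁]
    exact Subgroup.eq_of_le_of_card_ge hT₁T hcard.le
  -- the new generators
  obtain ⟨a, u, g', hcent⟩ : ∃ a u : Γ, ElemGen p 𝔸 a u ∧ cf T {a} = T := by
    rcases hex with h0 | ⟨i, -, hi⟩
    · exact ⟨a₀, u₀, g, h0⟩
    · refine ⟨a₀ ^ i * u₀, a₀, ?_, hi⟩
      have hmem : a₀ ^ i * u₀ ∈ 𝔸 := 𝔸.mul_mem (𝔸.pow_mem g.a_mem i) g.u_mem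
      refine ⟨g.hp, g.comm_mem _ hmem _ g.a_mem, g.pow_mem _ hmem, g.ap, ?_⟩
      apply le_antisymm
      · apply g.le_of_mem
        · exact Subgroup.subset_closure (by simp)
        · have h1 : a₀ ^ i * u₀ ∈ Subgroup.closure ({a₀ ^ i * u₀, a₀} : Set Γ) :=
            Subgroup.subset_closure (by simp)
          have h2 : a₀ ∈ Subgroup.closure ({a₀ ^ i * u₀, a₀} : Set Γ) :=
            Subgroup.subset_closure (by simp)
          have h3 := Subgroup.mul_mem _ (Subgroup.inv_mem _ (Subgroup.pow_mem _ h2 i)) h1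
          rwa [inv_mul_cancel_left] at h3
      · rw [Subgroup.closure_le]
        intro x hx
        rcases hx with rfl | rfl
        · exact hmem
        · exact g.a_mem
  have hTa : ∀ x ∈ T, a * x = x * a := by
    intro x hx
    have : x ∈ cf T {a} := by rw [hcent]; exact hx
    exact (mem_cf.1 this).2 a (by simp)
  refine ⟨a, u, g', hTa, ?_⟩
  intro y hy hya x hx hyx
  obtain ⟨i, j, -, -, rfl⟩ := g'.exists_pow hy
  have hj : ¬ p ∣ j := by
    intro hj
    apply hya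
    rw [pow_eq_one_of_dvd u g'.up j hj, mul_one]
    exact Subgroup.pow_mem _ (Subgroup.mem_zpowers a) i
  obtain ⟨j', hj'⟩ := exists_pow_pow_eq g'.hp u g'.up j hj
  have c1 : Commute (a ^ i) x := (show Commute a x from hTa x hx).pow_left i
  have c2 : Commute (a ^ i * u ^ j) x := by
    show a ^ i * u ^ j * x = x * (a ^ i * u ^ j)
    calc a ^ i * u ^ j * x = (a ^ i * u ^ j * x * (a ^ i * u ^ j)⁻¹) * (a ^ i * u ^ j) := by group
      _ = x * (a ^ i * u ^ j) := by rw [hyx]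
  have c3 : Commute (u ^ j) x := by
    have h1 : u ^ j = (a ^ i)⁻¹ * (a ^ i * u ^ j) := by group
    rw [h1]
    exact c1.inv_left.mul_left c2
  have c4 : Commute u x := by
    rw [← hj']
    exact c3.pow_left j'
  apply hCT x hx
  have hle : 𝔸 ≤ Subgroup.centralizer ({x} : Set Γ) := by
    apply g'.le_of_mem
    · rw [Subgroup.mem_centralizer_singleton_iff]
      exact hTa x hx
    · rw [Subgroup.mem_centralizer_singleton_iff]
      exact c4.eq
  intro z hz
  have := Subgroup.mem_centralizer_singleton_iff.1 (hle hz)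
  rw [this]; group

end Cfsg.Agent.Lead.Ward
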