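import Cfsg.Agent.Lead.WardSplit
import Cfsg.Agent.Lead.FpqFinal
import Cfsg.Agent.Helper1.WardAb
import Cfsg.Agent.Helper1.WardNa

/-!
S3796 (Ward): the linear theorem for a group `𝔸` generated by two commuting elements of order
dividing `p`.
-/

set_option autoImplicit false
set_option linter.style.haveILetI false
set_option linter.unusedSectionVars false

namespace Cfsg.Agent.Lead.Ward

open scoped BigOperators commutatorElement
open Classical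
open Cfsg.Agent.Lead.S3F Cfsg.Agent.Lead.Fpq

variable {k : Type*} [Field k] [IsAlgClosed k] {r : ℕ} [hr : Fact r.Prime] [CharP k r]
  {Γ : Type*} [Group Γ] [Finite Γ] {W : Type*} [AddCommGroup W] [Module k W]
  [Module.Finite k W] (ρ : Representation k Γ W) {p : ℕ} {𝔸 : Subgroup Γ} {a₀ u₀ : Γ}

/-- **The linear theorem** in the form of a contradiction, given a non-commuting pair. -/
theorem false_of_min_config (g : ElemGen p 𝔸 a₀ u₀)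
    (hfix : ∀ w : W, (∀ a ∈ 𝔸, ρ a w = w) → w = 0)
    (H : Subgroup Γ) (hcop : (Nat.card H).Coprime p) (hrp : r.Coprime p)
    (hCH : ∀ x ∈ H, (∀ a ∈ 𝔸, a * x * a⁻¹ = x) → x = 1)
    (hfaith : ∀ x ∈ H, ρ x = 1 → x = 1)
    (hIrr : ∀ E : Subgroup Γ, E ≤ H → E ≠ ⊥ → (∀ g ∈ H, ∀ x ∈ E, g * x * g⁻¹ ∈ E) →
      𝔸 ≤ Subgroup.normalizer (E : Set Γ) → ∀ w : W, (∀ e ∈ E, ρ e w = w) → w = 0)
    (hMin : ∀ H₀ : Subgroup Γ, H₀ ≤ H → H₀ ≠ H → 𝔸 ≤ Subgroup.normalizer (H₀ : Set Γ) →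
      ∃ c : ℕ, IsPGroup r (H₀.lowerCentralSeries c))
    (hP : ∃ (s t : ℕ) (Q T : Subgroup Γ), s.Prime ∧ t.Prime ∧ s ≠ t ∧ s ≠ r ∧ Q ≤ H ∧ T ≤ H ∧
      IsPGroup s Q ∧ IsPGroup t T ∧ (∀ g ∈ H, ∀ x ∈ Q, g * x * g⁻¹ ∈ Q) ∧
      𝔸 ≤ Subgroup.normalizer (Q : Set Γ) ∧ 𝔸 ≤ Subgroup.normalizer (T : Set Γ) ∧
      ∃ x ∈ T, ∃ g ∈ Q, x * g ≠ g * x) : False := by
  letI : Fintype Γ := Fintype.ofFinite Γ
  have hr' : r.Prime := hr.out
  have hp : p.Prime := g.hp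
  obtain ⟨s, t, Q₀, T₀, hs, ht, hst, hsr, hQ₀H, hT₀H, hQ₀s, hT₀t, hQ₀n, hAQ₀, hAT₀, hne₀⟩ := hP
  have hTQ₀ : T₀ ≤ Subgroup.normalizer (Q₀ : Set Γ) := fun x hx =>
    mem_normalizer_of_conj_mem Q₀ x (hQ₀n x (hT₀H hx))
  obtain ⟨Q, T, hQQ₀, hTT₀, pr⟩ := exists_pair_min hs ht hst hQ₀s hT₀t hAQ₀ hAT₀ hTQ₀ hne₀
  have hQH : Q ≤ H := hQQ₀.trans hQ₀H
  have hTH : T ≤ H := hTT₀.trans hT₀H
  -- `Q ⊔ T = H`
  have hsup : Q ⊔ T = H := by
    by_contra hne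
    have hA : 𝔸 ≤ Subgroup.normalizer ((Q ⊔ T : Subgroup Γ) : Set Γ) := fun a ha =>
      normalizer_sup_mem (pr.AQ ha) (pr.AT ha)
    obtain ⟨c, hc⟩ := hMin (Q ⊔ T) (sup_le hQH hTH) hne hA
    have h1 : Q ≤ (Q ⊔ T).lowerCentralSeries c :=
      le_lcs_of_comm_eq pr.comm_eq le_sup_left le_sup_right c
    exact pr.Q_ne_bot (eq_bot_of_isPGroup_of_isPGroup hs hr' hsr pr.Qs (hc.to_le h1))
  have hHQ : H ≤ Subgroup.normalizer (Q : Set Γ) := by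
    rw [← hsup]; exact sup_le Subgroup.le_normalizer pr.TQ
  -- arithmetic
  have hsH : s ∣ Nat.card H :=
    (dvd_card_of_isPGroup_ne_bot hs pr.Qs pr.Q_ne_bot).trans (Subgroup.card_dvd_of_le hQH)
  have htH : t ∣ Nat.card H :=
    (dvd_card_of_isPGroup_ne_bot ht pr.Tt pr.T_ne_bot).trans (Subgroup.card_dvd_of_le hTH)
  have hsp' : s.Coprime p := Nat.Coprime.coprime_dvd_left hsH hcop
  have htp' : t.Coprime p := Nat.Coprime.coprime_dvd_left htH hcop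
  have hsp : s ≠ p := by
    rintro rfl
    rw [Nat.coprime_self] at hsp'
    exact hs.one_lt.ne' hsp'
  have htp : t ≠ p := by
    rintro rfl
    rw [Nat.coprime_self] at htp'
    exact ht.one_lt.ne' htp'
  have hpr : p ≠ r := by
    rintro rfl
    rw [Nat.coprime_self] at hrp
    exact hp.one_lt.ne' hrp
  have hcast : ∀ n : ℕ, n.Coprime r → ((n : ℕ) : k) ≠ 0 := by
    intro n hn h0
    have h1 : r ∣ n := (CharP.cast_eq_zero_iff k r n).1 h0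
    have h2 : r ∣ 1 := by
      have := Nat.dvd_gcd h1 dvd_rfl
      rwa [hn] at this
    exact hr'.one_lt.ne' (Nat.dvd_one.1 h2)
  have hpk : (p : k) ≠ 0 := hcast p hrp.symm
  have hsk : (s : k) ≠ 0 := hcast s ((Nat.coprime_primes hs hr').2 hsr)
  -- cardinalities and roots of unity
  have hcardk : ∀ X : Subgroup Γ, X ≤ Q → ((Nat.card X : ℕ) : k) ≠ 0 := fun X hX =>
    hcast _ (card_coprime_of_isPGroup hs hr' hsr (pr.Qs.to_le hX))
  have hZQ : centIn Q Q ≤ Q := fun _ hx => hx.1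
  have hQk : (Fintype.card Q : k) ≠ 0 := by
    rw [← Nat.card_eq_fintype_card]; exact hcardk Q le_rfl
  have hZk : (Fintype.card (centIn Q Q) : k) ≠ 0 := by
    rw [← Nat.card_eq_fintype_card]; exact hcardk _ hZQ
  haveI : HasEnoughRootsOfUnity k (Monoid.exponent Q) := roots_of_card Q (hcardk Q le_rfl)
  haveI : HasEnoughRootsOfUnity k (Monoid.exponent (centIn Q Q)) :=
    roots_of_card _ (hcardk _ hZQ)
  haveI : HasEnoughRootsOfUnity k (Monoid.exponent (Abelianization Q)) :=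
    roots_abelianization Q (hcardk Q le_rfl)
  -- the hypotheses on `Q`
  have hcopA : ∀ X : Subgroup Γ, X ≤ H → (Nat.card 𝔸).Coprime (Nat.card X) := by
    intro X hX
    have h1 : (Nat.card X).Coprime p :=
      Nat.Coprime.coprime_dvd_left (Subgroup.card_dvd_of_le hX) hcop
    have h2 : (Nat.card X).Coprime (p * p) := Nat.Coprime.mul_right h1 h1
    exact Nat.Coprime.coprime_dvd_left g.card_dvd h2.symm
  have hfaithQ : ∀ x ∈ Q, ρ x = 1 → x = 1 := fun x hx => hfaith x (hQH hx)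
  have hCHQ : ∀ x ∈ Q, (∀ a ∈ 𝔸, a * x * a⁻¹ = x) → x = 1 := fun x hx => hCH x (hQH hx)
  have hCHT : ∀ x ∈ T, (∀ a ∈ 𝔸, a * x * a⁻¹ = x) → x = 1 := fun x hx => hCH x (hTH hx)
  have hCWQ : ∀ w : W, (∀ e ∈ Q, ρ e w = w) → w = 0 :=
    hIrr Q hQH pr.Q_ne_bot (fun g hg x hx => conj_mem_of_mem_normalizer' (hHQ hg) hx) pr.AQ
  have hCWZ : ∀ w : W, (∀ e ∈ centIn Q Q, ρ e w = w) → w = 0 :=
    hIrr (centIn Q Q) (hZQ.trans hQH) pr.center_ne_bot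
      (fun g hg x hx => conj_mem_centIn Q Q (hHQ hg) (hHQ hg) hx) pr.A_le_normalizer_center
  have hgenZ : ⁅centIn Q Q, 𝔸⁆ = centIn Q Q :=
    comm_eq_of_fpf 𝔸 (centIn Q Q) pr.A_le_normalizer_center (hcopA _ (hZQ.trans hQH))
      (solv_of_isPGroup hs (pr.Qs.to_le hZQ)) (fun x hx => hCHQ x (hZQ hx))
  -- Lemma R for the pair
  have hR' : ∀ (y : Γ) (M : Submodule k W), y ∈ 𝔸 → y ^ p = 1 →
      (∀ x ∈ T, y * x * y⁻¹ = x → x = 1) →
      (∀ g ∈ Q, ∀ w ∈ M, ρ g w ∈ M) → (∀ x ∈ T, ∀ w ∈ M, ρ x w ∈ M) → (∀ w ∈ M, ρ y w ∈ M) →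
      (∀ w ∈ M, ρ y w = w → w = 0) →
      (∀ g ∈ Q, ∀ h ∈ Q, ∃ c : k, ∀ w ∈ M, ρ (g * h * g⁻¹ * h⁻¹) w = c • w) →
      ∀ x ∈ T, ∀ g ∈ Q, ∀ w ∈ M, ρ (x * g * x⁻¹ * g⁻¹) w = w := by
    intro y M hy hyp hfreeT hMQ hMT hMy hfixy hsc
    by_cases htr : t = r
    · subst htr
      exact frob_char_r ρ hs hp hsr hpr hsp Q T pr.Qs pr.Tt y hyp pr.TQ (pr.AQ hy) (pr.AT hy)
        hfreeT M hMQ hMT hMy hfixy hsc
    · have hp1 : p - 1 + 1 = p := by have := hp.pos; omega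
      have hTk : ((Nat.card T : ℕ) : k) ≠ 0 :=
        hcast _ (card_coprime_of_isPGroup ht hr' htr pr.Tt)
      have htriv := frob_trivial ρ T y (pr.AT hy) (p - 1) (by rw [hp1]; exact hyp)
        (by rw [hp1]; exact free_pow_of_prime hp T y hyp hfreeT) hTk M hMT hMy hfixy
      intro x hx g' hg' w hw
      have h1 : ρ g'⁻¹ w ∈ M := hMQ _ (Q.inv_mem hg') w hw
      have h2 : ρ x⁻¹ (ρ g'⁻¹ w) = ρ g'⁻¹ w := htriv _ (T.inv_mem hx) _ h1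
      have h3 : ρ g' (ρ g'⁻¹ w) = w := by
        rw [← Module.End.mul_apply, ← map_mul, mul_inv_cancel, map_one, Module.End.one_apply]
      rw [map_mul, map_mul, map_mul, Module.End.mul_apply, Module.End.mul_apply,
        Module.End.mul_apply, h2, h3]
      exact htriv x hx w hw
  -- Claim 1
  have hcopT : p.Coprime (Nat.card T) :=
    (Nat.Coprime.coprime_dvd_left (Subgroup.card_dvd_of_le hTH) hcop).symm
  obtain ⟨a, u, g', hTa, hTfree⟩ := claim1 g pr hcopT hCHT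
  -- the cases
  rcases split g' pr hTa with hQa | hQa
  · exact false_central (k := k) g' pr hTa hQa hCHQ hCHT htp
  · by_cases hQc : ∀ x ∈ Q, ∀ y ∈ Q, x * y = y * x
    · exact Cfsg.Agent.Helper1.Ward.false_ward_abelian ρ g' hpk hfix pr hQc hQk hfaithQ hCWQ hTa
        hQa hTfree htp
    · push Not at hQc
      exact Cfsg.Agent.Helper1.Ward.false_ward_nonabelian' ρ g' hpk hfix pr hQc hZk hfaithQ hCWZ
        hgenZ hTa hQa hTfree hsp htp hsk hR'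

/-- **The linear theorem.** -/
theorem ward_linear (g : ElemGen p 𝔸 a₀ u₀)
    (hfix : ∀ w : W, (∀ a ∈ 𝔸, ρ a w = w) → w = 0)
    (H : Subgroup Γ) (hAH : 𝔸 ≤ Subgroup.normalizer (H : Set Γ))
    (hsolv : Group.IsSolvable H) (hcop : (Nat.card H).Coprime p) (hrp : r.Coprime p)
    (hCH : ∀ x ∈ H, (∀ a ∈ 𝔸, a * x * a⁻¹ = x) → x = 1)
    (hfaith : ∀ x ∈ H, ρ x = 1 → x = 1)
    (hIrr : ∀ E : Subgroup Γ, E ≤ H → E ≠ ⊥ → (∀ g ∈ H, ∀ x ∈ E, g * x * g⁻¹ ∈ E) →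
      𝔸 ≤ Subgroup.normalizer (E : Set Γ) → ∀ w : W, (∀ e ∈ E, ρ e w = w) → w = 0)
    (hOp : ∀ P : Subgroup Γ, P ≤ H → (∀ g ∈ H, ∀ x ∈ P, g * x * g⁻¹ ∈ P) →
      𝔸 ≤ Subgroup.normalizer (P : Set Γ) → IsPGroup r P → P = ⊥)
    (hMin : ∀ H₀ : Subgroup Γ, H₀ ≤ H → H₀ ≠ H → 𝔸 ≤ Subgroup.normalizer (H₀ : Set Γ) →
      ∃ c : ℕ, IsPGroup r (H₀.lowerCentralSeries c)) :
    ∃ c : ℕ, H.lowerCentralSeries c = ⊥ := by
  by_contra hcon
  have hnil : ¬ Group.IsNilpotent ↥H := fun h1 =>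
    hcon ((Subgroup.isNilpotent_iff_lowerCentralSeries H).1 h1)
  have hA1 := nilpotent_of_proper (r := r) (𝔸 := 𝔸) H hOp hMin
  have hcopA : (Nat.card 𝔸).Coprime (Nat.card H) := by
    have h2 : (Nat.card H).Coprime (p * p) := Nat.Coprime.mul_right hcop hcop
    exact Nat.Coprime.coprime_dvd_left g.card_dvd h2.symm
  have hP := Cfsg.Agent.Helper1.FrobPair.exists_pair hr.out 𝔸 H hAH hsolv hcopA hA1 hOp hnil
  exact false_of_min_config ρ g hfix H hcop hrp hCH hfaith hIrr hMin hP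

end Cfsg.Agent.Lead.Ward
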