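import Cfsg.Agent.Lead.WardClaim

/-!
S3796 (Ward): the division into cases, and the case in which `a` centralizes `Q` and `T`.
-/

set_option autoImplicit false
set_option linter.style.haveILetI false
set_option linter.unusedSectionVars false

namespace Cfsg.Agent.Lead.Ward

open scoped BigOperators commutatorElement
open Classical
open Cfsg.Agent.Lead.S3F Cfsg.Agent.Lead.Fpq

variable {k : Type*} [Field k] {Γ : Type*} [Group Γ] [Fintype Γ]
  {p : ℕ} {𝔸 Q T : Subgroup Γ} {a u : Γ} {s t : ℕ}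

/-- an element commuting with `a` and `u` is fixed by `𝔸`. -/
theorem fixed_of_commute (g : ElemGen p 𝔸 a u) {x : Γ} (h1 : a * x = x * a)
    (h2 : u * x * u⁻¹ = x) : ∀ y ∈ 𝔸, y * x * y⁻¹ = x := by
  have hB : 𝔸 ≤ Subgroup.centralizer ({x} : Set Γ) := by
    apply g.le_of_mem
    · rw [Subgroup.mem_centralizer_singleton_iff]; exact h1
    · rw [Subgroup.mem_centralizer_singleton_iff]
      calc u * x = (u * x * u⁻¹) * u := by group
        _ = x * u := by rw [h2]
  intro y hy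
  have := hB hy
  rw [Subgroup.mem_centralizer_singleton_iff] at this
  rw [this]; group

/-- `a` centralizes `Q`, or `[Q, a] = Q`. -/
theorem split (g : ElemGen p 𝔸 a u) (pr : Pair 𝔸 Q T s t) (hTa : ∀ x ∈ T, a * x = x * a) :
    (∀ x ∈ Q, a * x = x * a) ∨ ⁅Q, Subgroup.zpowers a⁆ = Q := by
  have hFQ : Subgroup.zpowers a ≤ Subgroup.normalizer (Q : Set Γ) :=
    (Subgroup.zpowers_le.2 g.a_mem).trans pr.AQ
  by_cases hD : ⁅Q, Subgroup.zpowers a⁆ = Q
  · exact Or.inr hD
  left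
  have hDle : ⁅Q, Subgroup.zpowers a⁆ ≤ Q := Subgroup.le_normalizer_iff_commutator_le_left.1 hFQ
  have hDA : 𝔸 ≤ Subgroup.normalizer ((⁅Q, Subgroup.zpowers a⁆ : Subgroup Γ) : Set Γ) :=
    fun y hy => mem_normalizer_commutator (pr.AQ hy) (g.le_normalizer_zpowers g.a_mem hy)
  have hTF : T ≤ Subgroup.centralizer ((Subgroup.zpowers a : Subgroup Γ) : Set Γ) := by
    intro x hx
    rw [Subgroup.mem_centralizer_iff]
    intro φ hφ
    exact commute_zpowers (hTa x hx) hφ
  have hTnF : T ≤ Subgroup.normalizer ((Subgroup.zpowers a : Subgroup Γ) : Set Γ) :=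
    hTF.trans (Subgroup.centralizer_le_normalizer _)
  have hDT : T ≤ Subgroup.normalizer ((⁅Q, Subgroup.zpowers a⁆ : Subgroup Γ) : Set Γ) :=
    fun x hx => mem_normalizer_commutator (pr.TQ hx) (hTnF hx)
  have h1 : ⁅(⁅Q, Subgroup.zpowers a⁆ : Subgroup Γ), T⁆ = ⊥ := by
    rw [Subgroup.commutator_eq_bot_iff_le_centralizer]
    intro y hy
    rw [Subgroup.mem_centralizer_iff]
    intro x hx
    exact pr.Qmin _ hDle hD hDA hDT x hx y hy
  have h2 : ⁅(⁅Subgroup.zpowers a, T⁆ : Subgroup Γ), Q⁆ = ⊥ := by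
    have : ⁅(Subgroup.zpowers a : Subgroup Γ), T⁆ = ⊥ := by
      rw [Subgroup.commutator_comm, Subgroup.commutator_eq_bot_iff_le_centralizer]
      exact hTF
    rw [this]
    exact Subgroup.commutator_bot_left Q
  have h3 : ⁅(⁅T, Q⁆ : Subgroup Γ), Subgroup.zpowers a⁆ = ⊥ :=
    Subgroup.commutator_commutator_eq_bot_of_rotate h1 h2
  rw [Subgroup.commutator_comm T Q, pr.comm_eq,
    Subgroup.commutator_eq_bot_iff_le_centralizer] at h3
  intro x hx
  have h4 := h3 hx
  rw [Subgroup.mem_centralizer_iff] at h4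
  exact h4 a (Subgroup.mem_zpowers a)

/-- **Case `a` centralizes `Q` and `T`.** -/
theorem false_central (g : ElemGen p 𝔸 a u) (pr : Pair 𝔸 Q T s t)
    [HasEnoughRootsOfUnity k (Monoid.exponent (Abelianization Q))]
    (hTa : ∀ x ∈ T, a * x = x * a) (hQa : ∀ x ∈ Q, a * x = x * a)
    (hCQ : ∀ x ∈ Q, (∀ y ∈ 𝔸, y * x * y⁻¹ = x) → x = 1)
    (hCT : ∀ x ∈ T, (∀ y ∈ 𝔸, y * x * y⁻¹ = x) → x = 1) (htp : t ≠ p) : False := by
  have hp1 : p - 1 + 1 = p := by have := g.hp.pos; omega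
  haveI : Fact t.Prime := ⟨pr.ht⟩
  refine false_of_fpf_elt (k := k) pr u g.u_mem (p - 1) (by rw [hp1]; exact g.hp)
    (by rw [hp1]; exact g.up) ?_ ?_ ?_
  · rw [hp1]
    obtain ⟨n, hn⟩ := IsPGroup.iff_card.1 pr.Tt
    rw [hn]
    apply Nat.Coprime.pow_right
    rw [Nat.coprime_primes g.hp pr.ht]
    exact htp.symm
  · intro x hx h1
    exact hCQ x hx (fixed_of_commute g (hQa x hx) h1)
  · intro x hx h1
    have := hCT x hx (fixed_of_commute g (hTa x hx) h1)
    rw [this]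
    exact Subgroup.one_mem _

end Cfsg.Agent.Lead.Ward
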