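import Mathlib
import Cfsg.Prelude.Def_Local
import Cfsg.Agent.Lead.WielandtC
import Cfsg.Agent.Helper5.ProdCard

/-!
The factorization lemma `K = XY` from the factorizations `C_K(a) = C_X(a) C_Y(a)`, via Wielandt's
order formula.
-/

set_option autoImplicit false

namespace Cfsg.Agent.Lead.WielandtD

open scoped Pointwise IsMulCommutative
open Cfsg.Agent.Helper1 Cfsg.Agent.Lead.WielandtB Cfsg.Agent.Lead.WielandtC

universe u

variable {H : Type u} [Group H]

theorem cf_inf_cf (X Y : Subgroup H) (S : Set H) : cf X S ⊓ cf Y S = cf (X ⊓ Y) S := by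
  ext x
  simp only [cf, Subgroup.mem_inf]
  tauto

theorem rel_of_set_eq (K X Y : Subgroup H) (S : Set H)
    (h : ((cf K S : Subgroup H) : Set H) = ((cf X S : Subgroup H) : Set H) * ((cf Y S : Subgroup H) : Set H)) :
    Nat.card (cf K S) * Nat.card (cf (X ⊓ Y) S) = Nat.card (cf X S) * Nat.card (cf Y S) := by
  have h1 := Helper5.card_mul_set_mul_card_inf (cf X S) (cf Y S)
  rw [← h, cf_inf_cf] at h1
  exact h1

theorem s1287 [Finite H] (p : ℕ) [Fact p.Prime] (A K X Y : Subgroup H)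
    (hA : Cfsg.IsElementaryAbelian p A) (hA2 : p ^ 2 ≤ Nat.card ↥A) (hK : ¬ p ∣ Nat.card ↥K)
    (hAK : A ≤ Subgroup.normalizer (K : Set H)) (hX : X ≤ K) (hY : Y ≤ K)
    (hAX : A ≤ Subgroup.normalizer (X : Set H)) (hAY : A ≤ Subgroup.normalizer (Y : Set H))
    (hfac : ∀ a ∈ A, a ≠ 1 → ((K ⊓ Subgroup.centralizer {a} : Subgroup H) : Set H)
      = ((X ⊓ Subgroup.centralizer {a} : Subgroup H) : Set H)
        * ((Y ⊓ Subgroup.centralizer {a} : Subgroup H) : Set H)) :
    (K : Set H) = (X : Set H) * (Y : Set H) := by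
  have hp : p.Prime := Fact.out
  obtain ⟨hAc, hAp⟩ := hA
  have hcomm : ∀ x ∈ A, ∀ y ∈ A, x * y = y * x := fun x hx y hy =>
    congrArg Subtype.val (mul_comm' (⟨x, hx⟩ : A) ⟨y, hy⟩)
  have hpp : p < p ^ 2 := by nlinarith [hp.two_le]
  have hA1 : 1 < Nat.card A := by nlinarith [hp.two_le]
  obtain ⟨a, haA, ha1⟩ : ∃ a ∈ A, a ≠ 1 := by
    by_contra hcon
    push Not at hcon
    have h1 : A = ⊥ := (Subgroup.eq_bot_iff_forall _).2 hcon
    rw [h1, Subgroup.card_bot] at hA1
    omega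
  have hza : Subgroup.zpowers a ≤ A := (Subgroup.zpowers_le).2 haA
  have hcardza : Nat.card (Subgroup.zpowers a) ≤ p := by
    rw [Nat.card_zpowers]
    exact Nat.le_of_dvd hp.pos (orderOf_dvd_of_pow_eq_one (hAp a haA))
  obtain ⟨b, hbA, hbz⟩ : ∃ b ∈ A, b ∉ Subgroup.zpowers a := by
    by_contra hcon
    push Not at hcon
    have h1 : A ≤ Subgroup.zpowers a := hcon
    have h2 := Nat.le_of_dvd Nat.card_pos (Subgroup.card_dvd_of_le h1)
    omega
  have hne : ∀ i : ℕ, a ^ i * b ≠ 1 := by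
    intro i h
    apply hbz
    rw [eq_inv_of_mul_eq_one_right h]
    exact Subgroup.inv_mem _ (Subgroup.pow_mem _ (Subgroup.mem_zpowers a) i)
  have hmem : ∀ i : ℕ, a ^ i * b ∈ A := fun i => A.mul_mem (A.pow_mem haA i) hbA
  have hcopK : p.Coprime (Nat.card K) := (Nat.Prime.coprime_iff_not_dvd hp).2 hK
  have hypK : Hyp p a b K :=
    ⟨hcomm a haA b hbA, hAp a haA, hAp b hbA, hAK haA, hAK hbA, hcopK⟩
  have hypX : Hyp p a b X :=
    ⟨hcomm a haA b hbA, hAp a haA, hAp b hbA, hAX haA, hAX hbA,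
      hcopK.coprime_dvd_right (Subgroup.card_dvd_of_le hX)⟩
  have hypY : Hyp p a b Y :=
    ⟨hcomm a haA b hbA, hAp a haA, hAp b hbA, hAY haA, hAY hbA,
      hcopK.coprime_dvd_right (Subgroup.card_dvd_of_le hY)⟩
  have hAD : A ≤ Subgroup.normalizer ((X ⊓ Y : Subgroup H) : Set H) := le_normalizer_inf hAX hAY
  have hypD : Hyp p a b (X ⊓ Y) :=
    ⟨hcomm a haA b hbA, hAp a haA, hAp b hbA, hAD haA, hAD hbA,
      hcopK.coprime_dvd_right (Subgroup.card_dvd_of_le (inf_le_left.trans hX))⟩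
  have fK := wielandt_formula hp a b K hypK
  have fX := wielandt_formula hp a b X hypX
  have fY := wielandt_formula hp a b Y hypY
  have fD := wielandt_formula hp a b (X ⊓ Y) hypD
  unfold Formula at fK fX fY fD
  -- relations for singletons
  have rel1 : ∀ g ∈ A, g ≠ 1 →
      Nat.card (cf K {g}) * Nat.card (cf (X ⊓ Y) {g}) = Nat.card (cf X {g}) * Nat.card (cf Y {g}) :=
    fun g hg hg1 => rel_of_set_eq K X Y {g} (hfac g hg hg1)
  -- relation for the pair
  obtain ⟨hcopA, hsolvA, hnormA, -⟩ := acting_facts hp a b K hypK {a, b} Subgroup.subset_closure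
  have hclA : Subgroup.closure ({a, b} : Set H) ≤ A := by
    rw [Subgroup.closure_le]
    intro x hx
    rcases hx with hx | hx
    · rw [hx]; exact haA
    · rw [Set.mem_singleton_iff] at hx; rw [hx]; exact hbA
  have hpair : ((cf K {a, b} : Subgroup H) : Set H)
      = ((cf X {a, b} : Subgroup H) : Set H) * ((cf Y {a, b} : Subgroup H) : Set H) := by
    apply Set.Subset.antisymm
    · intro k hk
      have hk' : k ∈ cf K {a, b} := hk
      have hka : k ∈ (K ⊓ Subgroup.centralizer {a} : Subgroup H) :=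
        Subgroup.mem_inf.2 ⟨(Subgroup.mem_inf.1 hk').1,
          Subgroup.centralizer_le (Set.singleton_subset_iff.2 (Set.mem_insert _ _))
            (Subgroup.mem_inf.1 hk').2⟩
      have hka' : k ∈ ((K ⊓ Subgroup.centralizer {a} : Subgroup H) : Set H) := hka
      rw [hfac a haA ha1] at hka'
      obtain ⟨x, hx, y, hy, hxy⟩ := Set.mem_mul.1 hka'
      have hkc : k ∈ Subgroup.centralizer ((Subgroup.closure ({a, b} : Set H) : Subgroup H) : Set H) := by
        rw [Subgroup.centralizer_closure]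
        exact (Subgroup.mem_inf.1 hk').2
      obtain ⟨x', hx', y', hy', hk2⟩ := coprime_fixed_points_mul (Subgroup.closure ({a, b} : Set H)) K
        ((Subgroup.closure_le _).2 hnormA) hcopA (Or.inl hsolvA) X Y hX hY (hclA.trans hAX)
        (hclA.trans hAY) k x y (Subgroup.mem_inf.1 hx).1 (Subgroup.mem_inf.1 hy).1 hxy.symm hkc
      rw [Subgroup.centralizer_closure] at hx' hy'
      rw [hk2]
      exact Set.mul_mem_mul hx' hy'
    · intro k hk
      obtain ⟨x, hx, y, hy, rfl⟩ := Set.mem_mul.1 hk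
      exact Subgroup.mul_mem _ (cf_mono hX _ hx) (cf_mono hY _ hy)
  have relA := rel_of_set_eq K X Y {a, b} hpair
  have rela := rel1 a haA ha1
  have reli : ∀ i : ℕ, Nat.card (cf K {a ^ i * b}) * Nat.card (cf (X ⊓ Y) {a ^ i * b})
      = Nat.card (cf X {a ^ i * b}) * Nat.card (cf Y {a ^ i * b}) :=
    fun i => rel1 _ (hmem i) (hne i)
  -- the arithmetic
  have e1 : (Nat.card X * Nat.card Y) * (Nat.card (cf X {a, b}) * Nat.card (cf Y {a, b})) ^ p
      = (Nat.card K * Nat.card (X ⊓ Y : Subgroup H))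
        * (Nat.card (cf X {a, b}) * Nat.card (cf Y {a, b})) ^ p := by
    calc (Nat.card X * Nat.card Y) * (Nat.card (cf X {a, b}) * Nat.card (cf Y {a, b})) ^ p
        = (Nat.card X * Nat.card (cf X {a, b}) ^ p) * (Nat.card Y * Nat.card (cf Y {a, b}) ^ p) := by
          ring
      _ = (Nat.card (cf X {a}) * Nat.card (cf Y {a}))
          * ∏ i ∈ Finset.range p, (Nat.card (cf X {a ^ i * b}) * Nat.card (cf Y {a ^ i * b})) := by
          rw [fX, fY, Finset.prod_mul_distrib]; ring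
      _ = (Nat.card (cf K {a}) * Nat.card (cf (X ⊓ Y) {a}))
          * ∏ i ∈ Finset.range p, (Nat.card (cf K {a ^ i * b}) * Nat.card (cf (X ⊓ Y) {a ^ i * b})) := by
          rw [rela, Finset.prod_congr rfl (fun i _ => reli i)]
      _ = (Nat.card K * Nat.card (cf K {a, b}) ^ p)
          * (Nat.card (X ⊓ Y : Subgroup H) * Nat.card (cf (X ⊓ Y) {a, b}) ^ p) := by
          rw [fK, fD, Finset.prod_mul_distrib]; ring
      _ = (Nat.card K * Nat.card (X ⊓ Y : Subgroup H))
          * (Nat.card (cf K {a, b}) * Nat.card (cf (X ⊓ Y) {a, b})) ^ p := by ring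
      _ = _ := by rw [relA]
  have hpos : 0 < (Nat.card (cf X {a, b}) * Nat.card (cf Y {a, b})) ^ p :=
    pow_pos (Nat.mul_pos Nat.card_pos Nat.card_pos) p
  have e2 : Nat.card X * Nat.card Y = Nat.card K * Nat.card (X ⊓ Y : Subgroup H) :=
    Nat.eq_of_mul_eq_mul_right hpos e1
  have e3 := Helper5.card_mul_set_mul_card_inf X Y
  rw [e2] at e3
  have e4 : Nat.card ((X : Set H) * (Y : Set H) : Set H) = Nat.card K :=
    Nat.eq_of_mul_eq_mul_right Nat.card_pos e3
  have hsub : (X : Set H) * (Y : Set H) ⊆ (K : Set H) := by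
    intro k hk
    obtain ⟨x, hx, y, hy, rfl⟩ := Set.mem_mul.1 hk
    exact K.mul_mem (hX hx) (hY hy)
  symm
  apply Set.eq_of_subset_of_ncard_le hsub _ (Set.toFinite _)
  rw [← Nat.card_coe_set_eq, ← Nat.card_coe_set_eq, e4]
  exact le_of_eq rfl

end Cfsg.Agent.Lead.WielandtD
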