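import Mathlib
import Cfsg.Agent.Lead.SympH
import Cfsg.Agent.Helper1.PGroup

set_option autoImplicit false
set_option linter.unusedSectionVars false
set_option linter.unusedVariables false

/-!
# S6002, piece G: the abstract structure of the extraspecial group `2^{1+4}_-`

A group of order `32` with centre of order `2`, exponent `4`, of symplectic type and of minus type has a
central involution `z` such that all commutators and squares lie in `{1, z}`, and it is generated
modulo details by a dihedral pair `a, b` and a quaternion pair `c, d` commuting with each other.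
-/

namespace Cfsg.Agent.Lead.XS

open scoped commutatorElement

variable {G : Type*} [Group G]

/-- the "extraspecial-like" core properties of a central involution `z`. -/
structure Core (z : G) : Prop where
  ne_one : z ≠ 1
  sq_one : z * z = 1
  central : ∀ g, g * z = z * g
  center : ∀ g, (∀ h, g * h = h * g) → g = 1 ∨ g = z
  comm : ∀ g h, g * h = h * g ∨ g * h = z * (h * g)
  sq : ∀ g, g * g = 1 ∨ g * g = z

/-- an element commuting with two subgroups generating the group is central. -/
theorem mem_center_of_sup {E C : Subgroup G} (hsup : E ⊔ C = ⊤) {x : G}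
    (hE : ∀ e ∈ E, e * x = x * e) (hC : ∀ c ∈ C, c * x = x * c) : ∀ g : G, g * x = x * g := by
  have h1 : E ⊔ C ≤ Subgroup.centralizer ({x} : Set G) := by
    refine sup_le ?_ ?_
    · intro e he
      exact Subgroup.mem_centralizer_singleton_iff.2 (hE e he)
    · intro c hc
      exact Subgroup.mem_centralizer_singleton_iff.2 (hC c hc)
  intro g
  have : g ∈ Subgroup.centralizer ({x} : Set G) := h1 (hsup ▸ Subgroup.mem_top g)
  exact Subgroup.mem_centralizer_singleton_iff.1 this

theorem exists_core [Finite G] (h32 : Nat.card G = 32) (hZ : Nat.card (Subgroup.center G) = 2)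
    (hexp : Monoid.exponent G = 4)
    (hsymp : ∀ A : Subgroup G, A.Characteristic → IsMulCommutative A → IsCyclic A) :
    ∃ z : G, Core z := by
  have : Fact (Nat.Prime 2) := ⟨Nat.prime_two⟩
  have hG : IsPGroup 2 G := IsPGroup.of_card (n := 5) (by rw [h32]; norm_num)
  have hpow4 : ∀ g : G, g ^ 4 = 1 := fun g => hexp ▸ Monoid.pow_exponent_eq_one g
  -- the centre
  obtain ⟨⟨z, hzc⟩, hz1, hzu⟩ := (Nat.card_eq_two_iff' (1 : Subgroup.center G)).1 hZ
  have hz1' : z ≠ 1 := fun h => hz1 (Subtype.ext h)
  have hzcen : ∀ g, g * z = z * g := Subgroup.mem_center_iff.1 hzc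
  have hcenter : ∀ g : G, (∀ h, h * g = g * h) → g = 1 ∨ g = z := by
    intro g hg
    by_cases h1 : g = 1
    · exact Or.inl h1
    · right
      have hgc : g ∈ Subgroup.center G := Subgroup.mem_center_iff.2 hg
      have := hzu ⟨g, hgc⟩ (fun h => h1 (congrArg Subtype.val h))
      exact congrArg Subtype.val this
  have hzz : z * z = 1 := by
    have hmem : ∀ h, h * (z * z) = (z * z) * h := by
      intro h
      rw [← mul_assoc, hzcen h, mul_assoc, hzcen h, mul_assoc]
    rcases hcenter (z * z) hmem with h | h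
    · exact h
    · exfalso
      apply hz1'
      have := congrArg (fun t => z⁻¹ * t) h
      simpa using this
  -- P. Hall
  obtain ⟨E, C, hEC, hsup, hE, hC⟩ := Cfsg.Agent.Lead.Symp.main hG hsymp
  -- `C` is cyclic
  have hCcyc : IsCyclic C := by
    rcases hC with hC | ⟨-, h16, hC | hC | hC⟩
    · exact hC
    · exfalso
      obtain ⟨m, ⟨e⟩⟩ := hC
      have hcard : Nat.card C = 2 * m := by
        rw [Nat.card_congr e.toEquiv, DihedralGroup.nat_card]
      have h4 : (DihedralGroup.r 1 : DihedralGroup m) ^ 4 = 1 := by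
        have h := hpow4 ((e.symm (DihedralGroup.r 1) : C) : G)
        have h' : (e.symm (DihedralGroup.r 1)) ^ 4 = (1 : C) := by
          apply Subtype.ext
          rw [Subgroup.coe_pow, h, Subgroup.coe_one]
        have := congrArg e h'
        rwa [map_pow, MulEquiv.apply_symm_apply, map_one] at this
      have hdvd := orderOf_dvd_of_pow_eq_one h4
      rw [DihedralGroup.orderOf_r_one] at hdvd
      have := Nat.le_of_dvd (by norm_num) hdvd
      omega
    · exfalso
      obtain ⟨m, ⟨e⟩⟩ := hC
      have h4 : (QuaternionGroup.a 1 : QuaternionGroup m) ^ 4 = 1 := by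
        have h := hpow4 ((e.symm (QuaternionGroup.a 1) : C) : G)
        have h' : (e.symm (QuaternionGroup.a 1)) ^ 4 = (1 : C) := by
          apply Subtype.ext
          rw [Subgroup.coe_pow, h, Subgroup.coe_one]
        have := congrArg e h'
        rwa [map_pow, MulEquiv.apply_symm_apply, map_one] at this
      have hdvd := orderOf_dvd_of_pow_eq_one h4
      rw [QuaternionGroup.orderOf_a_one] at hdvd
      have hle := Nat.le_of_dvd (by norm_num) hdvd
      have hm : m ≠ 0 := by
        rintro rfl
        norm_num at hdvd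
      have : NeZero m := ⟨hm⟩
      have hcard : Nat.card C = 4 * m := by
        rw [Nat.card_congr e.toEquiv, Nat.card_eq_fintype_card, QuaternionGroup.card]
      omega
    · exfalso
      obtain ⟨n, hn, -, x, y, hx, -, -⟩ := hC
      have h := hpow4 (x : G)
      have h' : x ^ 4 = (1 : C) := by
        apply Subtype.ext
        rw [Subgroup.coe_pow, h, Subgroup.coe_one]
      have hdvd := orderOf_dvd_of_pow_eq_one h'
      rw [hx] at hdvd
      have h8 : 2 ^ 3 ≤ 2 ^ n := Nat.pow_le_pow_right (by norm_num) hn
      have := Nat.le_of_dvd (by norm_num) hdvd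
      omega
  -- `C` is central
  have hCcomm : ∀ c ∈ C, ∀ c' ∈ C, c' * c = c * c' := by
    intro c hc c' hc'
    have hcm : IsMulCommutative C := IsCyclic.isMulCommutative
    have := hcm.is_comm.comm ⟨c', hc'⟩ ⟨c, hc⟩
    exact congrArg Subtype.val this
  have hCcen : ∀ c ∈ C, ∀ g : G, g * c = c * g := by
    intro c hc
    exact mem_center_of_sup hsup (fun e he => hEC e he c hc) (fun c' hc' => hCcomm c hc c' hc')
  have hCn : C.Normal := by
    refine ⟨fun c hc g => ?_⟩
    rw [hCcen c hc g, mul_inv_cancel_right]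
    exact hc
  have hdecomp : ∀ g : G, ∃ e ∈ E, ∃ c ∈ C, e * c = g := by
    intro g
    have : g ∈ E ⊔ C := hsup ▸ Subgroup.mem_top g
    exact Subgroup.mem_sup_of_normal_right.1 this
  have hCval : ∀ c ∈ C, c = 1 ∨ c = z := fun c hc => hcenter c (hCcen c hc)
  -- `E` is extraspecial
  rcases hE with hE | hE
  · exfalso
    have hCtop : C = ⊤ := by rw [← hsup, hE, bot_sup_eq]
    have hcen : Subgroup.center G = ⊤ := by
      rw [eq_top_iff]
      intro g _
      exact Subgroup.mem_center_iff.2 (hCcen g (hCtop ▸ Subgroup.mem_top g))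
    rw [hcen, Subgroup.card_top, h32] at hZ
    omega
  obtain ⟨⟨hEp, hEfr, hEco⟩, -⟩ := hE
  have hEsq : ∀ e ∈ E, e * e = 1 ∨ e * e = z := by
    intro e he
    have h1 : (⟨e, he⟩ : E) ^ 2 ∈ frattini E := Cfsg.Agent.Helper1.IsPGroup.pow_mem_frattini hEp _
    rw [hEfr, Subgroup.mem_center_iff] at h1
    apply hcenter
    refine mem_center_of_sup hsup ?_ ?_
    · intro e' he'
      have := congrArg Subtype.val (h1 ⟨e', he'⟩)
      simpa [pow_two] using this
    · intro c hc
      exact (hCcen c hc (e * e)).symm
  have hEcomm : ∀ e ∈ E, ∀ e' ∈ E, e * e' = e' * e ∨ e * e' = z * (e' * e) := by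
    intro e he e' he'
    have h1 : ⁅(⟨e, he⟩ : E), ⟨e', he'⟩⁆ ∈ commutator E :=
      Subgroup.commutator_mem_commutator (Subgroup.mem_top _) (Subgroup.mem_top _)
    rw [hEco, Subgroup.mem_center_iff] at h1
    have h2 : ⁅e, e'⁆ = 1 ∨ ⁅e, e'⁆ = z := by
      apply hcenter
      refine mem_center_of_sup hsup ?_ ?_
      · intro e'' he''
        have := congrArg Subtype.val (h1 ⟨e'', he''⟩)
        simpa [commutatorElement_def] using this
      · intro c hc
        exact (hCcen c hc _).symm
    have h3 : e * e' = ⁅e, e'⁆ * (e' * e) := by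
      rw [commutatorElement_def]; group
    rcases h2 with h2 | h2
    · left; rw [h3, h2, one_mul]
    · right; rw [h3, h2]
  refine ⟨z, hz1', hzz, hzcen, fun g hg => hcenter g (fun h => (hg h).symm), ?_, ?_⟩
  · intro g h
    obtain ⟨e, he, c, hc, rfl⟩ := hdecomp g
    obtain ⟨e', he', c', hc', rfl⟩ := hdecomp h
    have hcx := hCcen c hc
    have hcx' := hCcen c' hc'
    have e1 : e * c * (e' * c') = (e * e') * (c * c') := by
      rw [mul_assoc, ← mul_assoc c, ← hcx e', mul_assoc, ← mul_assoc]
    have e2 : e' * c' * (e * c) = (e' * e) * (c * c') := by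
      rw [mul_assoc, ← mul_assoc c', ← hcx' e, mul_assoc, ← mul_assoc, hcx' c]
    rcases hEcomm e he e' he' with h | h
    · left; rw [e1, e2, h]
    · right; rw [e1, e2, h, mul_assoc]
  · intro g
    obtain ⟨e, he, c, hc, rfl⟩ := hdecomp g
    have hcx := hCcen c hc
    have e1 : e * c * (e * c) = (e * e) * (c * c) := by
      rw [mul_assoc, ← mul_assoc c, ← hcx e, mul_assoc, ← mul_assoc]
    apply hcenter
    intro h
    rw [e1]
    have h1 : ∀ h, h * (e * e) = (e * e) * h := by
      rcases hEsq e he with h | h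
      · intro x; rw [h, mul_one, one_mul]
      · intro x; rw [h]; exact hzcen x
    have h2 : ∀ h, h * (c * c) = (c * c) * h := by
      intro x
      rw [← mul_assoc, hcx x, mul_assoc, hcx x, mul_assoc]
    rw [← mul_assoc, h1 h, mul_assoc, h2 h]
    simp only [mul_assoc]

/-! ### the generators -/

section gens

variable {z : G}

theorem Core.mul_of_anti (h : Core z) {x g k : G} (hg : g * x = z * (x * g)) (hk : k * x = z * (x * k)) :
    (g * k) * x = x * (g * k) := by
  calc g * k * x = g * (k * x) := mul_assoc _ _ _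
    _ = g * (z * (x * k)) := by rw [hk]
    _ = (g * z) * (x * k) := (mul_assoc _ _ _).symm
    _ = z * g * (x * k) := by rw [h.central g]
    _ = z * ((g * x) * k) := by simp only [mul_assoc]
    _ = z * ((z * (x * g)) * k) := by rw [hg]
    _ = (z * z) * (x * (g * k)) := by simp only [mul_assoc]
    _ = x * (g * k) := by rw [h.sq_one, one_mul]

/-- `g x = z x g` implies `x g = z g x`. -/
theorem Core.anti_symm (h : Core z) {x g : G} (hg : g * x = z * (x * g)) : x * g = z * (g * x) := by
  rw [hg, ← mul_assoc, h.sq_one, one_mul]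

theorem Core.anti_ne (h : Core z) {x g : G} (hg : g * x = z * (x * g)) : g * x ≠ x * g := by
  intro h1
  rw [h1] at hg
  apply h.ne_one
  have := congrArg (fun t => t * (x * g)⁻¹) hg
  simp only [mul_inv_cancel, mul_assoc] at this
  rw [mul_one] at this
  exact this.symm

theorem Core.exists_anti (h : Core z) {x : G} (hx1 : x ≠ 1) (hxz : x ≠ z) : ∃ y, x * y = z * (y * x) := by
  by_contra hcon
  push Not at hcon
  have : ∀ y, x * y = y * x := by
    intro y
    rcases h.comm x y with h1 | h1
    · exact h1
    · exact absurd h1 (hcon y)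
  rcases h.center x this with h1 | h1
  · exact hx1 h1
  · exact hxz h1

theorem Core.index_centralizer_le (h : Core z) (x : G) :
    (Subgroup.centralizer ({x} : Set G)).index ≤ 2 := by
  by_cases htop : Subgroup.centralizer ({x} : Set G) = ⊤
  · rw [htop, Subgroup.index_top]; norm_num
  · obtain ⟨a, ha⟩ : ∃ a, a ∉ Subgroup.centralizer ({x} : Set G) := by
      by_contra hcon
      push Not at hcon
      exact htop (eq_top_iff.2 fun g _ => hcon g)
    have key : ∀ g, g ∉ Subgroup.centralizer ({x} : Set G) → g * x = z * (x * g) := by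
      intro g hg
      rcases h.comm g x with h1 | h1
      · exact absurd (Subgroup.mem_centralizer_singleton_iff.2 h1) hg
      · exact h1
    refine le_of_eq (Subgroup.index_eq_two_iff.2 ⟨a, fun b => ?_⟩)
    by_cases hb : b ∈ Subgroup.centralizer ({x} : Set G)
    · refine Or.inr ⟨hb, fun hba => ha ?_⟩
      have := Subgroup.mul_mem _ (Subgroup.inv_mem _ hb) hba
      simpa using this
    · refine Or.inl ⟨?_, hb⟩
      exact Subgroup.mem_centralizer_singleton_iff.2 (h.mul_of_anti (key b hb) (key a ha))

theorem Core.card_inf_centralizer [Finite G] (h : Core z) (h32 : Nat.card G = 32) (x y : G) :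
    8 ≤ Nat.card (Subgroup.centralizer ({x} : Set G) ⊓ Subgroup.centralizer ({y} : Set G) : Subgroup G) := by
  have h1 := Subgroup.index_inf_le (H := Subgroup.centralizer ({x} : Set G))
    (K := Subgroup.centralizer ({y} : Set G))
  have h2 := h.index_centralizer_le x
  have h3 := h.index_centralizer_le y
  have h4 := Subgroup.card_mul_index
    (Subgroup.centralizer ({x} : Set G) ⊓ Subgroup.centralizer ({y} : Set G))
  rw [h32] at h4
  have h5 : (Subgroup.centralizer ({x} : Set G) ⊓ Subgroup.centralizer ({y} : Set G)).index ≤ 4 := by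
    nlinarith
  nlinarith

theorem exists_not_mem_of_card_lt [Finite G] (D : Subgroup G) (s : Finset G) (hs : s.card < Nat.card D) :
    ∃ x ∈ D, x ∉ s := by
  by_contra hcon
  push Not at hcon
  have hsub : (D : Set G) ⊆ (s : Set G) := fun x hx => hcon x hx
  have : Nat.card D ≤ s.card := by
    calc Nat.card D = (D : Set G).ncard := Nat.card_coe_set_eq _
      _ ≤ (s : Set G).ncard := Set.ncard_le_ncard hsub (Finset.finite_toSet s)
      _ = s.card := Set.ncard_coe_finset s
  omega

theorem two_mul_card_le [Finite G] {H K : Subgroup G} (hle : H ≤ K) {x : G} (hxK : x ∈ K)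
    (hxH : x ∉ H) : 2 * Nat.card H ≤ Nat.card K := by
  have hdvd := Subgroup.card_dvd_of_le hle
  have hne : Nat.card H ≠ Nat.card K := by
    intro h
    have := Subgroup.eq_of_le_of_card_ge hle h.ge
    apply hxH
    rw [this]
    exact hxK
  obtain ⟨k, hk⟩ := hdvd
  have hpos : 0 < Nat.card H := Nat.card_pos
  have hk0 : k ≠ 0 := by
    rintro rfl
    have : 0 < Nat.card K := Nat.card_pos
    omega
  have hk1 : k ≠ 1 := by
    rintro rfl
    omega
  have : 2 ≤ k := by omega
  nlinarith

theorem Core.mem_zpowers (h : Core z) {x : G} (hx : x ∈ Subgroup.zpowers z) : x = 1 ∨ x = z := by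
  obtain ⟨k, rfl⟩ := Subgroup.mem_zpowers_iff.1 hx
  have hz2 : z ^ (2 : ℤ) = 1 := by
    rw [zpow_ofNat, pow_two]; exact h.sq_one
  rcases Int.emod_two_eq_zero_or_one k with hk | hk
  · left
    have : k = 2 * (k / 2) := by omega
    rw [this, zpow_mul, hz2, one_zpow]
  · right
    have : k = 2 * (k / 2) + 1 := by omega
    rw [this, zpow_add, zpow_mul, hz2, one_zpow, one_mul, zpow_one]

theorem Core.card_zpowers (h : Core z) : Nat.card (Subgroup.zpowers z) = 2 := by
  have : Fact (Nat.Prime 2) := ⟨Nat.prime_two⟩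
  rw [Nat.card_zpowers]
  exact orderOf_eq_prime (by rw [pow_two]; exact h.sq_one) h.ne_one

/-- no three "independent" commuting involutions. -/
theorem Core.no_three [Finite G] (h : Core z)
    (hminus : ∀ A : Subgroup G, IsMulCommutative A → (∀ x ∈ A, x * x = 1) → Nat.card A < 2 ^ (2 + 1))
    {a b c : G} (haa : a * a = 1) (hab : a * b = z * (b * a)) (hcc : c * c = 1) (hca : c * a = a * c)
    (hcb : c * b = b * c) (hc1 : c ≠ 1) (hcz : c ≠ z) : False := by
  classical
  have hk : ∀ x ∈ ({z, a, c} : Set G), ∀ y ∈ ({z, a, c} : Set G), x * y = y * x := by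
    intro x hx y hy
    simp only [Set.mem_insert_iff, Set.mem_singleton_iff] at hx hy
    rcases hx with rfl | rfl | rfl <;> rcases hy with rfl | rfl | rfl
    · rfl
    · exact (h.central _).symm
    · exact (h.central _).symm
    · exact h.central _
    · rfl
    · exact hca.symm
    · exact h.central _
    · exact hca
    · rfl
  have hAc : IsMulCommutative (Subgroup.closure ({z, a, c} : Set G)) :=
    Subgroup.isMulCommutative_closure hk
  have hcomm : ∀ x ∈ Subgroup.closure ({z, a, c} : Set G), ∀ y ∈ Subgroup.closure ({z, a, c} : Set G),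
      x * y = y * x := by
    intro x hx y hy
    exact congrArg Subtype.val (hAc.is_comm.comm ⟨x, hx⟩ ⟨y, hy⟩)
  have hsq : ∀ x ∈ Subgroup.closure ({z, a, c} : Set G), x * x = 1 := by
    intro x hx
    induction hx using Subgroup.closure_induction with
    | mem x hx =>
      simp only [Set.mem_insert_iff, Set.mem_singleton_iff] at hx
      rcases hx with rfl | rfl | rfl
      · exact h.sq_one
      · exact haa
      · exact hcc
    | one => exact one_mul 1
    | mul x y hx hy ihx ihy =>
      calc x * y * (x * y) = x * (y * x) * y := by simp only [mul_assoc]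
        _ = x * (x * y) * y := by rw [hcomm y hy x hx]
        _ = (x * x) * (y * y) := by simp only [mul_assoc]
        _ = 1 := by rw [ihx, ihy, one_mul]
    | inv x hx ihx =>
      rw [← mul_inv_rev, ihx, inv_one]
  have hlt := hminus _ hAc hsq
  have hzA : z ∈ Subgroup.closure ({z, a, c} : Set G) := Subgroup.subset_closure (by simp)
  have haA : a ∈ Subgroup.closure ({z, a, c} : Set G) := Subgroup.subset_closure (by simp)
  have hcA : c ∈ Subgroup.closure ({z, a, c} : Set G) := Subgroup.subset_closure (by simp)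
  -- the chain
  have hab' : a ∉ Subgroup.centralizer ({b} : Set G) := by
    intro hmem
    exact h.anti_ne hab (Subgroup.mem_centralizer_singleton_iff.1 hmem)
  have h1 : Subgroup.zpowers z ≤
      Subgroup.closure ({z, a, c} : Set G) ⊓ Subgroup.centralizer ({b} : Set G) := by
    rw [Subgroup.zpowers_le]
    exact ⟨hzA, Subgroup.mem_centralizer_singleton_iff.2 (h.central b).symm⟩
  have hc' : c ∉ Subgroup.zpowers z := by
    intro hmem
    rcases h.mem_zpowers hmem with h1 | h1
    · exact hc1 h1
    · exact hcz h1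
  have h2 := two_mul_card_le h1 (x := c)
    ⟨hcA, Subgroup.mem_centralizer_singleton_iff.2 hcb⟩ hc'
  have h3 := two_mul_card_le (inf_le_left : Subgroup.closure ({z, a, c} : Set G) ⊓
    Subgroup.centralizer ({b} : Set G) ≤ Subgroup.closure ({z, a, c} : Set G)) haA
    (fun hmem => hab' hmem.2)
  rw [h.card_zpowers] at h2
  omega

theorem Core.exists_dihedral_pair [Finite G] (h : Core z) (h32 : Nat.card G = 32) :
    ∃ a b : G, a * a = 1 ∧ b * b = 1 ∧ a * b = z * (b * a) := by
  classical
  -- a noncommuting pair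
  obtain ⟨a0, -, ha0⟩ := exists_not_mem_of_card_lt (⊤ : Subgroup G) {1, z}
    (by rw [Subgroup.card_top, h32]; exact lt_of_le_of_lt Finset.card_le_two (by norm_num))
  simp only [Finset.mem_insert, Finset.mem_singleton, not_or] at ha0
  obtain ⟨b0, hab0⟩ := h.exists_anti ha0.1 ha0.2
  -- step 1: an involution `a` and `b'` anticommuting with it
  obtain ⟨a, b', haa, hab'⟩ : ∃ a b' : G, a * a = 1 ∧ a * b' = z * (b' * a) := by
    rcases h.sq a0 with h1 | h1
    · exact ⟨a0, b0, h1, hab0⟩
    rcases h.sq b0 with h2 | h2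
    · exact ⟨b0, a0, h2, h.anti_symm hab0⟩
    obtain ⟨c, hcD, hc⟩ := exists_not_mem_of_card_lt
      (Subgroup.centralizer ({a0} : Set G) ⊓ Subgroup.centralizer ({b0} : Set G)) {1, z}
      (lt_of_le_of_lt Finset.card_le_two
        (lt_of_lt_of_le (by norm_num) (h.card_inf_centralizer h32 a0 b0)))
    simp only [Finset.mem_insert, Finset.mem_singleton, not_or] at hc
    have hca : c * a0 = a0 * c := Subgroup.mem_centralizer_singleton_iff.1 hcD.1
    have hcb : c * b0 = b0 * c := Subgroup.mem_centralizer_singleton_iff.1 hcD.2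
    rcases h.sq c with h3 | h3
    · obtain ⟨y, hy⟩ := h.exists_anti hc.1 hc.2
      exact ⟨c, y, h3, hy⟩
    · refine ⟨a0 * c, b0, ?_, ?_⟩
      · calc a0 * c * (a0 * c) = a0 * (c * a0) * c := by simp only [mul_assoc]
          _ = a0 * (a0 * c) * c := by rw [hca]
          _ = (a0 * a0) * (c * c) := by simp only [mul_assoc]
          _ = 1 := by rw [h1, h3, h.sq_one]
      · calc a0 * c * b0 = a0 * (c * b0) := mul_assoc _ _ _
          _ = a0 * (b0 * c) := by rw [hcb]
          _ = (a0 * b0) * c := (mul_assoc _ _ _).symm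
          _ = z * (b0 * a0) * c := by rw [hab0]
          _ = z * (b0 * (a0 * c)) := by simp only [mul_assoc]
  -- step 2: adjust `b'`
  rcases h.sq b' with h1 | h1
  · exact ⟨a, b', haa, h1, hab'⟩
  · have hba : b' * a = z * (a * b') := h.anti_symm hab'
    refine ⟨a, a * b', haa, ?_, ?_⟩
    · calc a * b' * (a * b') = a * (b' * a) * b' := by simp only [mul_assoc]
        _ = a * (z * (a * b')) * b' := by rw [hba]
        _ = (a * z) * (a * (b' * b')) := by simp only [mul_assoc]
        _ = z * a * (a * (b' * b')) := by rw [h.central a]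
        _ = z * ((a * a) * (b' * b')) := by simp only [mul_assoc]
        _ = 1 := by rw [haa, h1, one_mul, h.sq_one]
    · calc a * (a * b') = (z * z) * (a * (a * b')) := by rw [h.sq_one, one_mul]
        _ = z * ((z * a) * (a * b')) := by simp only [mul_assoc]
        _ = z * ((a * z) * (a * b')) := by rw [h.central a]
        _ = z * (a * (z * (a * b'))) := by simp only [mul_assoc]
        _ = z * (a * (b' * a)) := by rw [hba]
        _ = z * (a * b' * a) := by simp only [mul_assoc]

theorem Core.exists_quaternion_pair [Finite G] (h : Core z) (h32 : Nat.card G = 32)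
    (hminus : ∀ A : Subgroup G, IsMulCommutative A → (∀ x ∈ A, x * x = 1) → Nat.card A < 2 ^ (2 + 1))
    {a b : G} (haa : a * a = 1) (hab : a * b = z * (b * a)) :
    ∃ c d : G, c * c = z ∧ d * d = z ∧ c * d = z * (d * c) ∧
      a * c = c * a ∧ a * d = d * a ∧ b * c = c * b ∧ b * d = d * b := by
  classical
  obtain ⟨D, hD⟩ : ∃ D : Subgroup G,
      D = Subgroup.centralizer ({a} : Set G) ⊓ Subgroup.centralizer ({b} : Set G) := ⟨_, rfl⟩
  have hD8 : 8 ≤ Nat.card D := hD ▸ h.card_inf_centralizer h32 a b
  have hDa : ∀ c ∈ D, c * a = a * c := by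
    intro c hc
    rw [hD] at hc
    exact Subgroup.mem_centralizer_singleton_iff.1 hc.1
  have hDb : ∀ c ∈ D, c * b = b * c := by
    intro c hc
    rw [hD] at hc
    exact Subgroup.mem_centralizer_singleton_iff.1 hc.2
  have hDsq : ∀ c ∈ D, c ≠ 1 → c ≠ z → c * c = z := by
    intro c hc hc1 hcz
    rcases h.sq c with h1 | h1
    · exact (h.no_three hminus haa hab h1 (hDa c hc) (hDb c hc) hc1 hcz).elim
    · exact h1
  -- `D` is not abelian
  have hnonab : ∃ c ∈ D, ∃ d ∈ D, c * d ≠ d * c := by
    by_contra hcon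
    push Not at hcon
    obtain ⟨c, hcD, hc⟩ := exists_not_mem_of_card_lt D {1, z}
      (lt_of_le_of_lt Finset.card_le_two (by omega))
    simp only [Finset.mem_insert, Finset.mem_singleton, not_or] at hc
    obtain ⟨c', hcD', hc'⟩ := exists_not_mem_of_card_lt D {1, z, c, z * c}
      (lt_of_le_of_lt Finset.card_le_four (by omega))
    simp only [Finset.mem_insert, Finset.mem_singleton, not_or] at hc'
    have hcc := hDsq c hcD hc.1 hc.2
    have hcc' := hDsq c' hcD' hc'.1 hc'.2.1
    have hprod : c * c' * (c * c') = 1 := by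
      calc c * c' * (c * c') = c * (c' * c) * c' := by simp only [mul_assoc]
        _ = c * (c * c') * c' := by rw [hcon c' hcD' c hcD]
        _ = (c * c) * (c' * c') := by simp only [mul_assoc]
        _ = 1 := by rw [hcc, hcc', h.sq_one]
    have hcinv : c⁻¹ = z * c := by
      rw [inv_eq_iff_mul_eq_one, ← mul_assoc, h.central c, mul_assoc, hcc, h.sq_one]
    have hval : c * c' = 1 ∨ c * c' = z := by
      by_contra hne
      push Not at hne
      have := hDsq (c * c') (Subgroup.mul_mem _ hcD hcD') hne.1 hne.2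
      rw [hprod] at this
      exact h.ne_one this.symm
    rcases hval with h1 | h1
    · have : c' = z * c := by
        rw [← hcinv]
        exact eq_inv_of_mul_eq_one_right h1
      exact hc'.2.2.2 this
    · have : c' = c := by
        have h2 : c' = c⁻¹ * z := by
          rw [← h1, inv_mul_cancel_left]
        rw [h2, hcinv, mul_assoc, h.central c, ← mul_assoc, h.sq_one, one_mul]
      exact hc'.2.2.1 this
  obtain ⟨c, hcD, d, hdD, hcd⟩ := hnonab
  have hcd' : c * d = z * (d * c) := by
    rcases h.comm c d with h1 | h1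
    · exact absurd h1 hcd
    · exact h1
  have hc1 : c ≠ 1 := by
    rintro rfl
    exact hcd (by rw [one_mul, mul_one])
  have hcz : c ≠ z := by
    rintro rfl
    exact hcd (h.central d).symm
  have hd1 : d ≠ 1 := by
    rintro rfl
    exact hcd (by rw [one_mul, mul_one])
  have hdz : d ≠ z := by
    rintro rfl
    exact hcd (h.central c)
  exact ⟨c, d, hDsq c hcD hc1 hcz, hDsq d hdD hd1 hdz, hcd', (hDa c hcD).symm, (hDa d hdD).symm,
    (hDb c hcD).symm, (hDb d hdD).symm⟩

end gens

/-- **Piece G of S6002.** -/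
theorem structure_of_group [Finite G] (h32 : Nat.card G = 32)
    (hZ : Nat.card (Subgroup.center G) = 2) (hexp : Monoid.exponent G = 4)
    (hsymp : ∀ A : Subgroup G, A.Characteristic → IsMulCommutative A → IsCyclic A)
    (hminus : ∀ A : Subgroup G, IsMulCommutative A → (∀ x ∈ A, x * x = 1) → Nat.card A < 2 ^ (2 + 1)) :
    ∃ z a b c d : G, z ≠ 1 ∧ z * z = 1 ∧ (∀ g, g * z = z * g) ∧
      (∀ g, (∀ h, g * h = h * g) → g = 1 ∨ g = z) ∧
      (∀ g h, g * h = h * g ∨ g * h = z * (h * g)) ∧ (∀ g, g * g = 1 ∨ g * g = z) ∧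
      a * a = 1 ∧ b * b = 1 ∧ a * b = z * (b * a) ∧ c * c = z ∧ d * d = z ∧ c * d = z * (d * c) ∧
      a * c = c * a ∧ a * d = d * a ∧ b * c = c * b ∧ b * d = d * b := by
  obtain ⟨z, h⟩ := exists_core h32 hZ hexp hsymp
  obtain ⟨a, b, haa, hbb, hab⟩ := h.exists_dihedral_pair h32
  obtain ⟨c, d, hcc, hdd, hcd, hac, had, hbc, hbd⟩ := h.exists_quaternion_pair h32 hminus haa hab
  exact ⟨z, a, b, c, d, h.ne_one, h.sq_one, h.central, h.center, h.comm, h.sq, haa, hbb, hab, hcc, hdd,
    hcd, hac, had, hbc, hbd⟩

end Cfsg.Agent.Lead.XS
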