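import Mathlib
import Cfsg.Agent.Lead.XSGroup

set_option autoImplicit false
set_option linter.unusedSectionVars false
set_option linter.unusedVariables false

/-!
# S6002, piece G (supplement): no elementary abelian subgroup of order eight, elementwise
-/

namespace Cfsg.Agent.Lead.XS

variable {G : Type*} [Group G] {z : G}

/-- two commuting involutions outside the centre which are not congruent modulo the centre cannot
exist in a group of minus type. -/
theorem Core.no_eight [Finite G] (h : Core z)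
    (hminus : ∀ A : Subgroup G, IsMulCommutative A → (∀ x ∈ A, x * x = 1) → Nat.card A < 2 ^ (2 + 1))
    {e₁ e₂ : G} (h1 : e₁ * e₁ = 1) (h2 : e₂ * e₂ = 1) (h12 : e₁ * e₂ = e₂ * e₁) :
    e₁ = 1 ∨ e₁ = z ∨ e₂ = 1 ∨ e₂ = z ∨ e₁ = e₂ ∨ e₁ = z * e₂ := by
  by_contra hcon
  push Not at hcon
  obtain ⟨ha1, haz, hb1, hbz, hne, hnez⟩ := hcon
  -- some `g` separates `e₁` and `e₂`
  have hsep : ∃ g : G, (e₁ * g = z * (g * e₁) ∧ e₂ * g = g * e₂) ∨
      (e₂ * g = z * (g * e₂) ∧ e₁ * g = g * e₁) := by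
    by_contra hno
    push Not at hno
    -- then `e₁ * e₂` is central
    have hcen : ∀ g : G, (e₁ * e₂) * g = g * (e₁ * e₂) := by
      intro g
      have hg := hno g
      rcases h.comm e₁ g with c1 | c1 <;> rcases h.comm e₂ g with c2 | c2
      · rw [mul_assoc, c2, ← mul_assoc, c1, mul_assoc]
      · exact absurd c1 (hg.2 c2)
      · exact absurd c2 (hg.1 c1)
      · calc e₁ * e₂ * g = e₁ * (e₂ * g) := mul_assoc _ _ _
          _ = e₁ * (z * (g * e₂)) := by rw [c2]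
          _ = (e₁ * z) * (g * e₂) := (mul_assoc _ _ _).symm
          _ = z * e₁ * (g * e₂) := by rw [h.central e₁]
          _ = z * ((e₁ * g) * e₂) := by simp only [mul_assoc]
          _ = z * ((z * (g * e₁)) * e₂) := by rw [c1]
          _ = (z * z) * (g * (e₁ * e₂)) := by simp only [mul_assoc]
          _ = g * (e₁ * e₂) := by rw [h.sq_one, one_mul]
    have hinv : e₂⁻¹ = e₂ := inv_eq_of_mul_eq_one_right h2
    rcases h.center _ hcen with hc | hc
    · apply hne
      rw [← hinv]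
      exact eq_inv_of_mul_eq_one_left hc
    · apply hnez
      have : e₁ = z * e₂⁻¹ := by rw [← hc, mul_inv_cancel_right]
      rw [this, hinv]
  obtain ⟨g, ⟨hg1, hg2⟩ | ⟨hg1, hg2⟩⟩ := hsep
  · exact h.no_three hminus h1 hg1 h2 h12.symm hg2 hb1 hbz
  · exact h.no_three hminus h2 hg1 h1 h12 hg2 ha1 haz

/-- **Piece G of S6002**, with the elementwise form of "no elementary abelian subgroup of order 8". -/
theorem structure_of_group_strong [Finite G] (h32 : Nat.card G = 32)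
    (hZ : Nat.card (Subgroup.center G) = 2) (hexp : Monoid.exponent G = 4)
    (hsymp : ∀ A : Subgroup G, A.Characteristic → IsMulCommutative A → IsCyclic A)
    (hminus : ∀ A : Subgroup G, IsMulCommutative A → (∀ x ∈ A, x * x = 1) → Nat.card A < 2 ^ (2 + 1)) :
    ∃ z a b c d : G, z ≠ 1 ∧ z * z = 1 ∧ (∀ g, g * z = z * g) ∧
      (∀ g, (∀ h, g * h = h * g) → g = 1 ∨ g = z) ∧
      (∀ g h, g * h = h * g ∨ g * h = z * (h * g)) ∧ (∀ g, g * g = 1 ∨ g * g = z) ∧
      (∀ e₁ e₂ : G, e₁ * e₁ = 1 → e₂ * e₂ = 1 → e₁ * e₂ = e₂ * e₁ →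
        e₁ = 1 ∨ e₁ = z ∨ e₂ = 1 ∨ e₂ = z ∨ e₁ = e₂ ∨ e₁ = z * e₂) ∧
      a * a = 1 ∧ b * b = 1 ∧ a * b = z * (b * a) ∧ c * c = z ∧ d * d = z ∧ c * d = z * (d * c) ∧
      a * c = c * a ∧ a * d = d * a ∧ b * c = c * b ∧ b * d = d * b := by
  obtain ⟨z, h⟩ := exists_core h32 hZ hexp hsymp
  obtain ⟨a, b, haa, hbb, hab⟩ := h.exists_dihedral_pair h32
  obtain ⟨c, d, hcc, hdd, hcd, hac, had, hbc, hbd⟩ := h.exists_quaternion_pair h32 hminus haa hab
  exact ⟨z, a, b, c, d, h.ne_one, h.sq_one, h.central, h.center, h.comm, h.sq,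
    fun e₁ e₂ h1 h2 h12 => h.no_eight hminus h1 h2 h12, haa, hbb, hab, hcc, hdd,
    hcd, hac, had, hbc, hbd⟩

end Cfsg.Agent.Lead.XS
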