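import Mathlib
import Cfsg.Prelude.Def_Solvable
import Cfsg.Prelude.Def_CaseTheorems
import Cfsg.Prelude.Def_TwoFusion
import Cfsg.Agent.Helper1.Fitting
import Cfsg.Agent.Helper1.Cores
import Cfsg.Agent.Helper1.SylowProd
import Cfsg.Agent.Helper6.InvolSylowA

set_option autoImplicit false

/-!
# An application of the Z*-theorem: involution classes with `p`-power products

If the product of any two conjugates of the involution `d` has order a power of the odd prime
`p`, then these products generate a normal `p`-subgroup.  The Z*-theorem is taken as a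
hypothesis on the group `G`.
-/

namespace Cfsg.Agent.Lead.ZStarApp

open Cfsg.Agent.Helper1

variable {G : Type*} [Group G]

theorem mem_conjugatesOf_conj (d g : G) : g * d * g⁻¹ ∈ conjugatesOf d := by
  show IsConj d (g * d * g⁻¹)
  rw [isConj_iff]
  exact ⟨g, rfl⟩

theorem exists_of_mem_conjugatesOf {d a : G} (ha : a ∈ conjugatesOf d) : ∃ g : G, a = g * d * g⁻¹ := by
  have ha' : IsConj d a := ha
  rw [isConj_iff] at ha'
  obtain ⟨g, hg⟩ := ha'
  exact ⟨g, hg.symm⟩

/-- `d` is an isolated involution. -/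
theorem isolated_of_prod {p : ℕ} (hp : p.Prime) (hp2 : p ≠ 2) (d : G) (hd : orderOf d = 2)
    (hprod : ∀ a ∈ conjugatesOf d, ∀ b ∈ conjugatesOf d, ∃ k : ℕ, orderOf (a * b) = p ^ k) :
    Cfsg.IsIsolatedInvolution d := by
  refine ⟨hd, fun g hc => ?_⟩
  have hdd : d * d = 1 := by
    have := pow_orderOf_eq_one d
    rw [hd, sq] at this
    exact this
  set e := g * d * g⁻¹ with he
  have hee : e * e = 1 := by
    rw [he]
    calc g * d * g⁻¹ * (g * d * g⁻¹) = g * (d * d) * g⁻¹ := by group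
      _ = 1 := by rw [hdd]; group
  obtain ⟨k, hk⟩ := hprod d (mem_conjugatesOf_self) e (mem_conjugatesOf_conj d g)
  have h2 : (d * e) ^ 2 = 1 := by
    rw [sq]
    calc d * e * (d * e) = d * (e * d) * e := by group
      _ = d * (d * e) * e := by rw [hc.eq]
      _ = (d * d) * (e * e) := by group
      _ = 1 := by rw [hdd, hee, one_mul]
  have h3 : orderOf (d * e) ∣ 2 := orderOf_dvd_of_pow_eq_one h2
  rw [hk] at h3
  have hk0 : k = 0 := by
    by_contra hk0
    have : p ∣ 2 := (dvd_pow_self p hk0).trans h3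
    exact hp2 ((Nat.prime_dvd_prime_iff_eq hp Nat.prime_two).mp this)
  rw [hk0, pow_zero, orderOf_eq_one_iff] at hk
  have : e = d⁻¹ := by
    rw [eq_inv_iff_mul_eq_one]
    calc e * d = d * e := hc.eq.symm
      _ = 1 := hk
  rw [this]
  exact inv_eq_of_mul_eq_one_left hdd

/-- relative version of `exists_mul_of_relIndex_eq_index`. -/
theorem exists_mul_of_relIndex_eq [Finite G] {C P K : Subgroup G} (hC : C ≤ K) (hP : P ≤ K)
    (h : C.relIndex P = C.relIndex K) : ∀ k ∈ K, ∃ c ∈ C, ∃ u ∈ P, k = c * u := by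
  have h4 : (C.subgroupOf K).relIndex (P.subgroupOf K) = (C.subgroupOf K).index := by
    rw [Subgroup.relIndex_subgroupOf hP, h]
    rfl
  have h5 := exists_mul_of_relIndex_eq_index (C.subgroupOf K) (P.subgroupOf K) h4
  intro k hk
  obtain ⟨x, hx, y, hy, hxy⟩ := h5 ⟨k, hk⟩
  rw [Subgroup.mem_subgroupOf] at hx hy
  exact ⟨x, hx, y, hy, congrArg Subtype.val hxy⟩

/-- numeric core: if `|K : C|` is a power of `p` and `p ∤ |K : P|` then `|P : C ∩ P| = |K : C|`. -/
theorem relIndex_eq_of_pow [Finite G] {p a : ℕ} (hp : p.Prime) {C P K : Subgroup G} (hC : C ≤ K)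
    (hP : P ≤ K) (hCK : C.relIndex K = p ^ a) (hPK : ¬ p ∣ P.relIndex K) :
    C.relIndex P = C.relIndex K := by
  have h1 : (C ⊓ P).relIndex P * P.relIndex K = (C ⊓ P).relIndex K :=
    Subgroup.relIndex_mul_relIndex _ _ _ inf_le_right hP
  have h2 : (C ⊓ P).relIndex C * C.relIndex K = (C ⊓ P).relIndex K :=
    Subgroup.relIndex_mul_relIndex _ _ _ inf_le_left hC
  rw [Subgroup.inf_relIndex_right] at h1
  have h3 : p ^ a ∣ C.relIndex P * P.relIndex K := by
    rw [h1, ← h2, hCK]
    exact dvd_mul_left _ _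
  have hcop : Nat.Coprime (p ^ a) (P.relIndex K) :=
    Nat.Coprime.pow_left a ((Nat.Prime.coprime_iff_not_dvd hp).mpr hPK)
  have h4 : p ^ a ∣ C.relIndex P := hcop.dvd_of_dvd_mul_right h3
  have hne : C.relIndex K ≠ 0 := by
    rw [hCK]; exact pow_ne_zero _ hp.ne_zero
  have h5 : C.relIndex P ≤ C.relIndex K := Subgroup.relIndex_le_of_le_right hP hne
  have hne' : C.relIndex P ≠ 0 := by
    show (C.subgroupOf P).index ≠ 0
    exact Subgroup.index_ne_zero_of_finite
  rw [hCK] at h5 ⊢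
  exact le_antisymm h5 (Nat.le_of_dvd (Nat.pos_of_ne_zero hne') h4)


/-- conjugating `d` by a suitable power of `a * d` gives `a`. -/
theorem exists_pow_conj {d a : G} (hdd : d * d = 1) (haa : a * a = 1) (hodd : Odd (orderOf (a * d))) :
    ∃ j : ℕ, (a * d) ^ j * d * ((a * d) ^ j)⁻¹ = a := by
  obtain ⟨j, hj⟩ := hodd
  refine ⟨j + 1, ?_⟩
  set y := a * d with hy
  have hdinv : d⁻¹ = d := inv_eq_of_mul_eq_one_left hdd
  have hainv : a⁻¹ = a := inv_eq_of_mul_eq_one_left haa
  have hinv : d * y * d⁻¹ = y⁻¹ := by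
    rw [hy, mul_inv_rev, hdinv, hainv]
    calc d * (a * d) * d = d * a * (d * d) := by group
      _ = d * a := by rw [hdd, mul_one]
  have h1 : d * (y ^ (j + 1))⁻¹ * d⁻¹ = y ^ (j + 1) := by
    have : d * (y ^ (j + 1))⁻¹ * d⁻¹ = ((d * y * d⁻¹) ^ (j + 1))⁻¹ := by
      rw [conj_pow]; group
    rw [this, hinv, inv_pow, inv_inv]
  have h2 : y ^ (j + 1) * y ^ (j + 1) = y := by
    rw [← pow_add]
    have : j + 1 + (j + 1) = orderOf y + 1 := by omega
    rw [this, pow_succ, pow_orderOf_eq_one, one_mul]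
  calc y ^ (j + 1) * d * (y ^ (j + 1))⁻¹
      = y ^ (j + 1) * (d * (y ^ (j + 1))⁻¹ * d⁻¹) * d := by group
    _ = y ^ (j + 1) * y ^ (j + 1) * d := by rw [h1]
    _ = y * d := by rw [h2]
    _ = a := by rw [hy, mul_assoc, hdd, mul_one]

/-- **Main theorem** (modulo the Z*-theorem for `G`). -/
theorem main [Finite G]
    (hZ : ∀ x : G, Cfsg.IsIsolatedInvolution x → ∀ g : G, x * g * x⁻¹ * g⁻¹ ∈ Cfsg.oddCore G)
    {p : ℕ} (hp : p.Prime) (hp2 : p ≠ 2) (d : G) (hd : orderOf d = 2)
    (hprod : ∀ a ∈ conjugatesOf d, ∀ b ∈ conjugatesOf d, ∃ k : ℕ, orderOf (a * b) = p ^ k) :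
    ∀ a ∈ conjugatesOf d, ∀ b ∈ conjugatesOf d, a * b ∈ Cfsg.pCore p G := by
  classical
  haveI : Fact p.Prime := ⟨hp⟩
  have hiso := isolated_of_prod hp hp2 d hd hprod
  have hdd : d * d = 1 := by
    have := pow_orderOf_eq_one d
    rw [hd, sq] at this
    exact this
  have hdinv : d⁻¹ = d := inv_eq_of_mul_eq_one_left hdd
  -- conjugates are involutions
  have hsq : ∀ a ∈ conjugatesOf d, a * a = 1 := by
    intro a ha
    obtain ⟨g, rfl⟩ := exists_of_mem_conjugatesOf ha
    calc g * d * g⁻¹ * (g * d * g⁻¹) = g * (d * d) * g⁻¹ := by group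
      _ = 1 := by rw [hdd]; group
  have hinv : ∀ a ∈ conjugatesOf d, a⁻¹ = a := fun a ha => inv_eq_of_mul_eq_one_left (hsq a ha)
  have hconjconj : ∀ a ∈ conjugatesOf d, ∀ g : G, g * a * g⁻¹ ∈ conjugatesOf d := by
    intro a ha g
    obtain ⟨h, rfl⟩ := exists_of_mem_conjugatesOf ha
    have : g * (h * d * h⁻¹) * g⁻¹ = (g * h) * d * (g * h)⁻¹ := by group
    rw [this]
    exact mem_conjugatesOf_conj d (g * h)
  set S : Set G := {x | ∃ a ∈ conjugatesOf d, ∃ b ∈ conjugatesOf d, x = a * b} with hS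
  set K := Subgroup.normalClosure S with hK
  have hSK : S ⊆ K := Subgroup.subset_normalClosure
  -- `a * b = (a * d) * (b * d)⁻¹`
  have hab : ∀ a ∈ conjugatesOf d, ∀ b ∈ conjugatesOf d, a * b = (a * d) * (b * d)⁻¹ := by
    intro a _ b hb
    rw [mul_inv_rev, hdinv, hinv b hb]
    calc a * b = a * (d * d) * b := by rw [hdd, mul_one]
      _ = a * d * (d * b) := by group
  -- `a * d ∈ O(G)`
  have hadO : ∀ a ∈ conjugatesOf d, a * d ∈ Cfsg.oddCore G := by
    intro a ha
    obtain ⟨g, rfl⟩ := exists_of_mem_conjugatesOf ha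
    have h1 := hZ d hiso g
    have h2 : g * d * g⁻¹ * d = (d * g * d⁻¹ * g⁻¹)⁻¹ := by
      rw [hdinv]; simp only [mul_inv_rev, inv_inv, hdinv, mul_assoc]
    rw [h2]
    exact (Cfsg.oddCore G).inv_mem h1
  have hSO : S ⊆ Cfsg.oddCore G := by
    rintro x ⟨a, ha, b, hb, rfl⟩
    rw [hab a ha b hb]
    exact (Cfsg.oddCore G).mul_mem (hadO a ha) ((Cfsg.oddCore G).inv_mem (hadO b hb))
  have hKO : K ≤ Cfsg.oddCore G := Subgroup.normalClosure_le_normal hSO
  have hKodd : Odd (Nat.card K) := by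
    have h1 : (Nat.card (Cfsg.oddCore G)).Coprime 2 := card_pPrimeCore_coprime 2
    have h2 : (Nat.card K).Coprime 2 :=
      Nat.Coprime.coprime_dvd_left (Subgroup.card_dvd_of_le hKO) h1
    exact Nat.Coprime.odd_of_right h2
  have hdK : ∀ c ∈ K, d * c * d⁻¹ ∈ K := fun c hc =>
    (inferInstance : K.Normal).conj_mem c hc d
  have hadK : ∀ a ∈ conjugatesOf d, a * d ∈ K := fun a ha =>
    hSK ⟨a, ha, d, mem_conjugatesOf_self, rfl⟩
  -- invariant Sylow subgroups
  obtain ⟨P, hPK, hPcard, hPd⟩ :=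
    Cfsg.Agent.Helper6.exists_invariant_sylow_of_odd p K hKodd d hdd hdK
  set C := K ⊓ Subgroup.centralizer ({d} : Set G) with hC
  have hCK : C ≤ K := inf_le_left
  have hKpos : Nat.card K ≠ 0 := Nat.card_pos.ne'
  -- `|K : C|` is a power of `p`
  have hCidx : ∃ a : ℕ, C.relIndex K = p ^ a := by
    refine ⟨(C.relIndex K).primeFactorsList.length, ?_⟩
    apply Nat.eq_prime_pow_of_unique_prime_dvd
    · show (C.subgroupOf K).index ≠ 0
      exact Subgroup.index_ne_zero_of_finite
    · intro q hq hqd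
      by_contra hqp
      haveI : Fact q.Prime := ⟨hq⟩
      obtain ⟨Q, hQK, hQcard, hQd⟩ :=
        Cfsg.Agent.Helper6.exists_invariant_sylow_of_odd q K hKodd d hdd hdK
      have hQC : Q ≤ C := by
        intro x hx
        rw [hC, Subgroup.mem_inf]
        refine ⟨hQK hx, ?_⟩
        rw [Subgroup.mem_centralizer_singleton_iff]
        set y := x⁻¹ * (d * x * d⁻¹) with hy
        have hyQ : y ∈ Q := Q.mul_mem (Q.inv_mem hx) (hQd x hx)
        have hy2 : y = (x⁻¹ * d * x⁻¹⁻¹) * d := by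
          rw [hy, hdinv]; group
        obtain ⟨k, hk⟩ := hprod _ (mem_conjugatesOf_conj d x⁻¹) d mem_conjugatesOf_self
        rw [← hy2] at hk
        have h1 : orderOf y ∣ q ^ (Nat.card K).factorization q := by
          rw [← hQcard]
          have := orderOf_dvd_natCard (⟨y, hyQ⟩ : Q)
          rwa [Subgroup.orderOf_mk] at this
        have hk0 : k = 0 := by
          by_contra hk0
          have h2 : p ∣ q ^ (Nat.card K).factorization q := by
            rw [hk] at h1
            exact (dvd_pow_self p hk0).trans h1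
          have h3 : p ∣ q := hp.dvd_of_dvd_pow h2
          exact hqp ((Nat.prime_dvd_prime_iff_eq hp hq).mp h3).symm
        rw [hk0, pow_zero, orderOf_eq_one_iff] at hk
        have h4 : d * x * d⁻¹ = x := by
          have : x * y = x := by rw [hk, mul_one]
          rw [hy] at this
          calc d * x * d⁻¹ = x * (x⁻¹ * (d * x * d⁻¹)) := by group
            _ = x := this
        calc x * d = (d * x * d⁻¹) * d := by rw [h4]
          _ = d * x := by group
      have h5 : C.relIndex K ∣ Q.relIndex K := Subgroup.relIndex_dvd_of_le_left K hQC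
      have h6 : Q.relIndex K * Nat.card Q = Nat.card K := relIndex_mul_card_of_le hQK
      have h7 : ¬ q ∣ Q.relIndex K := by
        have h8 : Q.relIndex K = Nat.card K / q ^ (Nat.card K).factorization q := by
          apply (Nat.div_eq_of_eq_mul_left (pow_pos hq.pos _) _).symm
          rw [← hQcard]
          exact h6.symm
        rw [h8]
        exact Nat.not_dvd_ordCompl hq hKpos
      exact h7 (hqd.trans h5)
  obtain ⟨a, ha⟩ := hCidx
  have hPidx : ¬ p ∣ P.relIndex K := by
    have h6 : P.relIndex K * Nat.card P = Nat.card K := relIndex_mul_card_of_le hPK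
    have h8 : P.relIndex K = Nat.card K / p ^ (Nat.card K).factorization p := by
      apply (Nat.div_eq_of_eq_mul_left (pow_pos hp.pos _) _).symm
      rw [← hPcard]
      exact h6.symm
    rw [h8]
    exact Nat.not_dvd_ordCompl hp hKpos
  have hdecomp := exists_mul_of_relIndex_eq hCK hPK (relIndex_eq_of_pow hp hCK hPK ha hPidx)
  -- every conjugate of `d` is a `P`-conjugate
  have hPconj : ∀ e ∈ conjugatesOf d, ∃ u ∈ P, e = u * d * u⁻¹ := by
    intro e he
    have hodd : Odd (orderOf (e * d)) := by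
      have h1 : orderOf (e * d) ∣ Nat.card K := by
        have := orderOf_dvd_natCard (⟨e * d, hadK e he⟩ : K)
        rwa [Subgroup.orderOf_mk] at this
      exact Odd.of_dvd_nat hKodd h1
    obtain ⟨j, hj⟩ := exists_pow_conj hdd (hsq e he) hodd
    have hkK : ((e * d) ^ j)⁻¹ ∈ K := K.inv_mem (K.pow_mem (hadK e he) j)
    obtain ⟨c, hc, u, hu, hcu⟩ := hdecomp _ hkK
    have hcd : c * d = d * c := by
      rw [hC, Subgroup.mem_inf] at hc
      exact Subgroup.mem_centralizer_singleton_iff.mp hc.2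
    refine ⟨u⁻¹, P.inv_mem hu, ?_⟩
    have hk : (e * d) ^ j = u⁻¹ * c⁻¹ := by
      have := congrArg (fun z => z⁻¹) hcu
      simpa using this
    rw [← hj, hk]
    have hcd' : c⁻¹ * d * c = d := by
      calc c⁻¹ * d * c = c⁻¹ * (d * c) := by group
        _ = c⁻¹ * (c * d) := by rw [hcd]
        _ = d := by group
    calc u⁻¹ * c⁻¹ * d * (u⁻¹ * c⁻¹)⁻¹ = u⁻¹ * (c⁻¹ * d * c) * u⁻¹⁻¹ := by group
      _ = u⁻¹ * d * u⁻¹⁻¹ := by rw [hcd']
  have hadP : ∀ e ∈ conjugatesOf d, e * d ∈ P := by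
    intro e he
    obtain ⟨u, hu, rfl⟩ := hPconj e he
    have : u * d * u⁻¹ * d = u * (d * u⁻¹ * d⁻¹) := by rw [hdinv]; group
    rw [this]
    exact P.mul_mem hu (hPd _ (P.inv_mem hu))
  have hSP : S ⊆ P := by
    rintro x ⟨e, he, b, hb, rfl⟩
    rw [hab e he b hb]
    exact P.mul_mem (hadP e he) (P.inv_mem (hadP b hb))
  have hKP : K ≤ P := by
    rw [hK, Subgroup.normalClosure, Subgroup.closure_le]
    intro x hx
    rw [Group.mem_conjugatesOfSet_iff] at hx
    obtain ⟨s, hs, hsx⟩ := hx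
    obtain ⟨e, he, b, hb, rfl⟩ := hs
    rw [isConj_iff] at hsx
    obtain ⟨g, rfl⟩ := hsx
    apply hSP
    refine ⟨g * e * g⁻¹, hconjconj e he g, g * b * g⁻¹, hconjconj b hb g, ?_⟩
    group
  have hKeq : K = P := le_antisymm hKP hPK
  have hKp : IsPGroup p K := by
    have h1 : Nat.card K = Nat.card P := congrArg (fun H : Subgroup G => Nat.card H) hKeq
    exact IsPGroup.of_card (h1.trans hPcard)
  intro e he b hb
  exact le_pCore inferInstance hKp (hSK ⟨e, he, b, hb, rfl⟩)

end Cfsg.Agent.Lead.ZStarApp
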