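import Mathlib
import Cfsg.Agent.Lead.ZStarAppA
import Cfsg.Agent.Helper2.ZStarG
import Cfsg.Agent.S0201

set_option autoImplicit false

/-!
# The Z*-theorem, unconditional forms used by the lead's applications
-/

namespace Cfsg.Agent.Lead.ZStarApp

universe u

/-- The Brauer–Suzuki hypothesis holds (S0201). -/
theorem bsHyp : Cfsg.Agent.Helper2.ZStar.BSHyp.{u} := by
  intro G _ _ S n he hO
  obtain ⟨e⟩ := he
  exact Cfsg.Agent.S0201.result S n e hO

/-- Glauberman's Z*-theorem. -/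
theorem zstar {G : Type u} [Group G] [Finite G] (x : G) (hx : Cfsg.IsIsolatedInvolution x) (g : G) :
    x * g * x⁻¹ * g⁻¹ ∈ Cfsg.oddCore G :=
  Cfsg.Agent.Helper2.ZStar.zstar bsHyp (Nat.card G) G rfl x hx g

/-- Z* for weakly closed `2`-elements. -/
theorem zstar_two {G : Type u} [Group G] [Finite G] (S : Sylow 2 G) (x : G) (hxS : x ∈ S)
    (hiso : ∀ g : G, g * x * g⁻¹ ∈ S → g * x * g⁻¹ = x) (g : G) :
    x * g * x⁻¹ * g⁻¹ ∈ Cfsg.oddCore G :=
  Cfsg.Agent.Helper2.ZStar.zstar_two' bsHyp S x hxS hiso g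

/-- products of conjugates of `d` of `p`-power order lie in `O_p(G)`. -/
theorem conj_prod_mem_pCore {G : Type u} [Group G] [Finite G] {p : ℕ} (hp : p.Prime) (hp2 : p ≠ 2)
    (d : G) (hd : orderOf d = 2)
    (hprod : ∀ a ∈ conjugatesOf d, ∀ b ∈ conjugatesOf d, ∃ k : ℕ, orderOf (a * b) = p ^ k) :
    ∀ a ∈ conjugatesOf d, ∀ b ∈ conjugatesOf d, a * b ∈ Cfsg.pCore p G :=
  main (fun x hx g => zstar x hx g) hp hp2 d hd hprod

end Cfsg.Agent.Lead.ZStarApp
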