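import Mathlib
import Cfsg.Prelude.Def_FusionSystem
import Cfsg.Prelude.Def_CaseTheorems
import Cfsg.Agent.Lead.ZStarAppB

set_option autoImplicit false

/-!
# The centre of the `2`-fusion system of a finite group (Z*-theorem in fusion language)
-/

namespace Cfsg.Agent.Lead.ZStarCenter

open Cfsg Cfsg.Agent.Helper1

universe u

variable {G : Type u} [Group G]

/-- membership in the preimage of the centre of `G / N`. -/
theorem mem_comap_center_iff (N : Subgroup G) [N.Normal] (z : G) :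
    z ∈ (Subgroup.center (G ⧸ N)).comap (QuotientGroup.mk' N) ↔
      ∀ g : G, z * g * z⁻¹ * g⁻¹ ∈ N := by
  rw [Subgroup.mem_comap, Subgroup.mem_center_iff]
  constructor
  · intro h g
    have h1 := h (QuotientGroup.mk' N g)
    rw [← QuotientGroup.eq_one_iff]
    have h2 : ((z * g * z⁻¹ * g⁻¹ : G) : G ⧸ N) =
        QuotientGroup.mk' N z * QuotientGroup.mk' N g * (QuotientGroup.mk' N z)⁻¹ *
          (QuotientGroup.mk' N g)⁻¹ := by
      simp
    rw [h2, ← h1, mul_inv_cancel_right, mul_inv_cancel]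
  · intro h q
    obtain ⟨g, rfl⟩ := QuotientGroup.mk'_surjective N q
    have h1 := (QuotientGroup.eq_one_iff _).mpr (h g)
    have h2 : ((z * g * z⁻¹ * g⁻¹ : G) : G ⧸ N) =
        QuotientGroup.mk' N z * QuotientGroup.mk' N g * (QuotientGroup.mk' N z)⁻¹ *
          (QuotientGroup.mk' N g)⁻¹ := by
      simp
    rw [h2] at h1
    have h3 : QuotientGroup.mk' N z * QuotientGroup.mk' N g =
        QuotientGroup.mk' N g * QuotientGroup.mk' N z := by
      have := congrArg (fun t => t * QuotientGroup.mk' N g * QuotientGroup.mk' N z) h1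
      simpa [mul_assoc] using this
    exact h3.symm

/-- a `p`-subgroup of `S ⊔ N` is conjugate into the Sylow subgroup `S` by an element of `N`. -/
theorem exists_conj_into_sylow [Finite G] {p : ℕ} [Fact p.Prime] (S : Sylow p G) (N : Subgroup G)
    [N.Normal] (D : Subgroup G) (hD : IsPGroup p D) (hDH : D ≤ (S : Subgroup G) ⊔ N) :
    ∃ n ∈ N, ∀ x ∈ D, n * x * n⁻¹ ∈ (S : Subgroup G) := by
  set H := (S : Subgroup G) ⊔ N with hH
  let S' : Sylow p H := S.subtype le_sup_left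
  have hD' : IsPGroup p (D.subgroupOf H) := by
    have := hD.comap_of_injective (H.subtype.comp (Subgroup.inclusion hDH)) ?_
    swap
    · exact fun a b hab => Subgroup.inclusion_injective hDH (H.subtype_injective hab)
    intro x
    obtain ⟨k, hk⟩ := hD ⟨(x : H), x.2⟩
    refine ⟨k, ?_⟩
    apply Subtype.ext
    apply Subtype.ext
    have := congrArg Subtype.val hk
    simpa using this
  obtain ⟨Q, hQ⟩ := hD'.exists_le_sylow
  obtain ⟨h, hh⟩ := MulAction.exists_smul_eq H Q S'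
  have hmem : (h : G) ∈ (S : Subgroup G) ⊔ N := h.2
  rw [Subgroup.mem_sup_of_normal_right] at hmem
  obtain ⟨s, hs, n, hn, hsn⟩ := hmem
  refine ⟨n, hn, fun x hx => ?_⟩
  have hxH : x ∈ H := hDH hx
  have h1 : (⟨x, hxH⟩ : H) ∈ (Q : Subgroup H) := hQ (by rw [Subgroup.mem_subgroupOf]; exact hx)
  have h2 : h * ⟨x, hxH⟩ * h⁻¹ ∈ (S' : Subgroup H) := by
    rw [← hh, Sylow.coe_subgroup_smul, Subgroup.mem_pointwise_smul_iff_inv_smul_mem]
    show (MulAut.conj h)⁻¹ • (h * ⟨x, hxH⟩ * h⁻¹) ∈ (Q : Subgroup H)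
    rw [← map_inv, MulAut.smul_def, MulAut.conj_apply]
    have : h⁻¹ * (h * ⟨x, hxH⟩ * h⁻¹) * h⁻¹⁻¹ = ⟨x, hxH⟩ := by group
    rw [this]
    exact h1
  have h3 : (h : G) * x * (h : G)⁻¹ ∈ (S : Subgroup G) := by
    have : ((h * ⟨x, hxH⟩ * h⁻¹ : H) : G) ∈ (S : Subgroup G) := by
      have h4 : (h * ⟨x, hxH⟩ * h⁻¹ : H) ∈ ((S : Subgroup G).subgroupOf H) := h2
      rwa [Subgroup.mem_subgroupOf] at h4
    simpa using this
  rw [← hsn] at h3
  have h5 : n * x * n⁻¹ = s⁻¹ * (s * n * x * (s * n)⁻¹) * s := by group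
  rw [h5]
  exact (S : Subgroup G).mul_mem ((S : Subgroup G).mul_mem ((S : Subgroup G).inv_mem hs) h3) hs


/-- `S ⊓ O(G) = ⊥`. -/
theorem sylow_inf_oddCore [Finite G] (S : Sylow 2 G) : (S : Subgroup G) ⊓ Cfsg.oddCore G = ⊥ := by
  haveI : Fact (Nat.Prime 2) := ⟨Nat.prime_two⟩
  apply Subgroup.inf_eq_bot_of_coprime
  obtain ⟨k, hk⟩ := IsPGroup.iff_card.mp S.isPGroup'
  rw [hk]
  exact Nat.Coprime.pow_left k (card_pPrimeCore_coprime 2).symm

/-- **Z*-theorem in fusion language.** -/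
theorem center_eq [Finite G] (S : Sylow 2 G) :
    (Cfsg.groupFusionSystem (S : Subgroup G)).center =
      (S : Subgroup G) ⊓ (Subgroup.center (G ⧸ Cfsg.oddCore G)).comap
        (QuotientGroup.mk' (Cfsg.oddCore G)) := by
  haveI : Fact (Nat.Prime 2) := ⟨Nat.prime_two⟩
  set N := Cfsg.oddCore G with hN
  set F := Cfsg.groupFusionSystem (S : Subgroup G) with hF
  set Z2 := (S : Subgroup G) ⊓ (Subgroup.center (G ⧸ N)).comap (QuotientGroup.mk' N) with hZ2
  have hSN : (S : Subgroup G) ⊓ N = ⊥ := sylow_inf_oddCore S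
  have heq_of : ∀ a b : G, a ∈ (S : Subgroup G) → b ∈ (S : Subgroup G) → a * b⁻¹ ∈ N → a = b := by
    intro a b ha hb hab
    have h1 : a * b⁻¹ ∈ (S : Subgroup G) ⊓ N :=
      ⟨(S : Subgroup G).mul_mem ha ((S : Subgroup G).inv_mem hb), hab⟩
    rw [hSN, Subgroup.mem_bot] at h1
    exact mul_inv_eq_one.mp h1
  apply le_antisymm
  · -- every central subgroup lies in `Z2`
    apply sSup_le
    intro Q hQ
    obtain ⟨hQS, hQc⟩ := hQ
    intro z hzQ
    have hzS : z ∈ (S : Subgroup G) := hQS hzQ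
    refine ⟨hzS, ?_⟩
    show z ∈ (Subgroup.center (G ⧸ N)).comap (QuotientGroup.mk' N)
    rw [mem_comap_center_iff]
    apply Cfsg.Agent.Lead.ZStarApp.zstar_two S z hzS
    intro g hg
    -- apply centrality to conjugation by `g` on `⟨z⟩`
    set P := Subgroup.zpowers z with hP
    have hPS : P ≤ (S : Subgroup G) := by
      rw [hP, Subgroup.zpowers_le]; exact hzS
    have hφ : Cfsg.conjHom P g ∈ F.Hom P := by
      refine ⟨hPS, ?_, g, fun x => rfl⟩
      intro x
      obtain ⟨k, hk⟩ := Subgroup.mem_zpowers_iff.mp x.2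
      show g * (x : G) * g⁻¹ ∈ (S : Subgroup G)
      rw [← hk]
      have : g * z ^ k * g⁻¹ = (g * z * g⁻¹) ^ k := by rw [conj_zpow]
      rw [this]
      exact (S : Subgroup G).zpow_mem hg k
    obtain ⟨ψ, -, hψ1, hψ2⟩ := hQc P (Cfsg.conjHom P g) hφ
    have h1 := hψ1 ⟨z, Subgroup.mem_zpowers z⟩
    have h2 := hψ2 ⟨z, hzQ⟩
    have h3 : (Subgroup.inclusion le_sup_left (⟨z, Subgroup.mem_zpowers z⟩ : P) : ↥(P ⊔ Q)) =
        Subgroup.inclusion le_sup_right (⟨z, hzQ⟩ : Q) := Subtype.ext rfl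
    rw [h3, h2] at h1
    exact h1.symm
  · -- `Z2` is central
    apply le_sSup
    refine ⟨inf_le_left, ?_⟩
    rintro P φ ⟨hPS, hφS, g, hg⟩
    have hZ2S : Z2 ≤ (S : Subgroup G) := inf_le_left
    have hZ2N : ∀ x ∈ Z2, ∀ h : G, x * h * x⁻¹ * h⁻¹ ∈ N := fun x hx =>
      (mem_comap_center_iff N x).mp hx.2
    have hPZS : P ⊔ Z2 ≤ (S : Subgroup G) := sup_le hPS hZ2S
    -- the conjugate `D` of `P ⊔ Z2`
    set D := (P ⊔ Z2).map (MulAut.conj g).toMonoidHom with hD
    have hDp : IsPGroup 2 D := by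
      rw [hD]
      exact (S.isPGroup'.to_le hPZS).map _
    have hDH : D ≤ (S : Subgroup G) ⊔ N := by
      rw [hD, Subgroup.map_sup]
      apply sup_le
      · rintro _ ⟨x, hx, rfl⟩
        apply Subgroup.mem_sup_left
        have := hφS ⟨x, hx⟩
        rw [hg] at this
        exact this
      · rintro _ ⟨x, hx, rfl⟩
        show g * x * g⁻¹ ∈ (S : Subgroup G) ⊔ N
        have h1 : g * x * g⁻¹ = x * (x⁻¹ * g * x * g⁻¹) := by group
        rw [h1]
        apply Subgroup.mul_mem_sup (hZ2S hx)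
        have h2 := hZ2N x⁻¹ (Z2.inv_mem hx) g
        rwa [inv_inv] at h2
    obtain ⟨n, hn, hnD⟩ := exists_conj_into_sylow S N D hDp hDH
    have hconjD : ∀ x ∈ P ⊔ Z2, g * x * g⁻¹ ∈ D := fun x hx => ⟨x, hx, rfl⟩
    refine ⟨Cfsg.conjHom (P ⊔ Z2) (n * g), ⟨hPZS, ?_, n * g, fun x => rfl⟩, ?_, ?_⟩
    · intro x
      show n * g * (x : G) * (n * g)⁻¹ ∈ (S : Subgroup G)
      have : n * g * (x : G) * (n * g)⁻¹ = n * (g * (x : G) * g⁻¹) * n⁻¹ := by group
      rw [this]
      exact hnD _ (hconjD x x.2)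
    · intro x
      show n * g * (x : G) * (n * g)⁻¹ = φ x
      rw [hg]
      have hb : g * (x : G) * g⁻¹ ∈ (S : Subgroup G) := by
        have := hφS x
        rwa [hg] at this
      have hxPZ : (x : G) ∈ P ⊔ Z2 := Subgroup.mem_sup_left x.2
      have e1 : n * g * (x : G) * (n * g)⁻¹ = n * (g * (x : G) * g⁻¹) * n⁻¹ := by group
      rw [e1]
      apply heq_of _ _ (hnD _ (hconjD x hxPZ)) hb
      set b := g * (x : G) * g⁻¹ with hbdef
      have e2 : n * b * n⁻¹ * b⁻¹ = n * (b * n⁻¹ * b⁻¹) := by group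
      rw [e2]
      exact N.mul_mem hn ((inferInstance : N.Normal).conj_mem _ (N.inv_mem hn) b)
    · intro x
      show n * g * (x : G) * (n * g)⁻¹ = x
      have hxPZ : (x : G) ∈ P ⊔ Z2 := Subgroup.mem_sup_right x.2
      have ha : n * g * (x : G) * (n * g)⁻¹ ∈ (S : Subgroup G) := by
        have : n * g * (x : G) * (n * g)⁻¹ = n * (g * (x : G) * g⁻¹) * n⁻¹ := by group
        rw [this]
        exact hnD _ (hconjD x hxPZ)
      apply heq_of _ _ ha (hZ2S x.2)
      have h2 := hZ2N (x : G)⁻¹ (Z2.inv_mem x.2) (n * g)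
      rw [inv_inv] at h2
      have e3 : n * g * (x : G) * (n * g)⁻¹ * (x : G)⁻¹ =
          (x : G) * ((x : G)⁻¹ * (n * g) * (x : G) * (n * g)⁻¹) * (x : G)⁻¹ := by group
      rw [e3]
      exact (inferInstance : N.Normal).conj_mem _ h2 x

end Cfsg.Agent.Lead.ZStarCenter
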